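import Cfsg.Statements.S3156
import Cfsg.Agent.Lib.Helper60.SU3EvenAut

set_option autoImplicit false
open Cfsg

namespace Cfsg.Agent.S3156


/-- If a finite group T is isomorphic to a Sylow 2-subgroup of the projective special unitary group of dimension 3 with parameter 4 (realised over the field with 16 elements), then no subgroup of the automorphism group of T is isomorphic to the symmetric group of degree 3. -/
theorem result {T : Type*} [Group T] [Finite T] (hT : (∃ (F : Type) (_ : Field F) (_ : Fintype F), Fintype.card F = 16 ∧ ∃ S : Sylow 2 (Cfsg.PSU 3 F 4), Nonempty (T ≃* ↥(S : Subgroup (Cfsg.PSU 3 F 4))))) (H : Subgroup (MulAut T)) : ¬ Nonempty (↥H ≃* Equiv.Perm (Fin 3)) := by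
  obtain ⟨F, _, _, hF, S, ⟨e0⟩⟩ := hT
  rintro ⟨ε⟩
  have hF' : Fintype.card F = (2 ^ 2) ^ 2 := by rw [hF]; norm_num
  haveI : Cfsg.Agent.Lib.Helper60.SU3Even.EvenQ F 4 :=
    ⟨by rw [hF]; norm_num, @Cfsg.Agent.Lib.Helper60.SU3Even.EvenQ.two F _ _ (2 ^ 2)
      (Cfsg.Agent.Lib.Helper60.SU3Even.EvenQ.of_pow hF')⟩
  obtain ⟨e1⟩ := Cfsg.Agent.Lib.Helper60.SU3Even.exists_equiv_sylow (F := F) (q := 4) S
  let e : T ≃* Cfsg.Agent.Lib.Helper60.SU3Even.T F 4 := e0.trans e1
  let c := MulAut.congr e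
  let t1 : MulAut T := (ε.symm (Equiv.swap 0 1)).1
  let t2 : MulAut T := (ε.symm (Equiv.swap 1 2)).1
  have h1 : t1 * t1 = 1 := by
    have : ε.symm (Equiv.swap 0 1) * ε.symm (Equiv.swap 0 1) = 1 := by
      rw [← map_mul, Equiv.swap_mul_self, map_one]
    exact congrArg Subtype.val this
  have h2 : t2 * t2 = 1 := by
    have : ε.symm (Equiv.swap 1 2) * ε.symm (Equiv.swap 1 2) = 1 := by
      rw [← map_mul, Equiv.swap_mul_self, map_one]
    exact congrArg Subtype.val this
  have hp : ((Equiv.swap (0 : Fin 3) 1 * Equiv.swap 1 2) * (Equiv.swap (0 : Fin 3) 1 * Equiv.swap 1 2) *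
      (Equiv.swap (0 : Fin 3) 1 * Equiv.swap 1 2)) = 1 := by decide
  have h3 : (t1 * t2) * (t1 * t2) * (t1 * t2) = 1 := by
    have : (ε.symm (Equiv.swap 0 1) * ε.symm (Equiv.swap 1 2)) *
        (ε.symm (Equiv.swap 0 1) * ε.symm (Equiv.swap 1 2)) *
        (ε.symm (Equiv.swap 0 1) * ε.symm (Equiv.swap 1 2)) = 1 := by
      rw [← map_mul, ← map_mul, ← map_mul, hp, map_one]
    exact congrArg Subtype.val this
  have hne : t1 * t2 ≠ 1 := by
    intro h
    have h' : ε.symm (Equiv.swap 0 1 * Equiv.swap 1 2) = 1 := by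
      rw [map_mul]
      exact Subtype.ext h
    have h'' : Equiv.swap (0 : Fin 3) 1 * Equiv.swap 1 2 = 1 := by
      simpa using congrArg ε h'
    revert h''
    decide
  have key := Cfsg.Agent.Lib.Helper60.SU3Even.no_S3 (c t1) (c t2)
    (by rw [← map_mul, h1, map_one]) (by rw [← map_mul, h2, map_one])
    (by rw [← map_mul, ← map_mul, ← map_mul, h3, map_one])
  exact hne (c.injective (by rw [map_mul, key, map_one]))

end Cfsg.Agent.S3156
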