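import Cfsg.Statements.S3158
import Mathlib
import Cfsg.Agent.Lib.Helper32.PGroupCenter

set_option autoImplicit false
open Cfsg

namespace Cfsg.Agent.S3158

/-- Let U be a group of order q² with q = 2^n ≥ 2, and y an automorphism of U of order q − 1 all of whose nontrivial powers fix only the identity. Let V be a proper normal y-invariant subgroup of U such that V and U/V are elementary abelian 2-groups and there is an isomorphism from V to U/V commuting with the actions of y. Then U is abelian. -/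
theorem result {U : Type*} [Group U] [Finite U] (n : ℕ) (hn : 1 ≤ n) (hU : Nat.card U = (2 ^ n) ^ 2)
    (y : MulAut U) (hy : orderOf y = 2 ^ n - 1) (hfp : ∀ k : ℕ, y ^ k ≠ 1 → ∀ u : U, (y ^ k) u = u → u = 1)
    (V : Subgroup U) [V.Normal] (hV : V ≠ ⊤) (hyV : ∀ v ∈ V, y v ∈ V)
    (hVe : ∀ v ∈ V, v ^ 2 = 1) (hQe : ∀ u : U, u ^ 2 ∈ V) (hQc : ∀ u w : U, u * w * u⁻¹ * w⁻¹ ∈ V)
    (φ : ↥V ≃* U ⧸ V) (hφ : ∀ (v : ↥V) (u : U), (QuotientGroup.mk u : U ⧸ V) = φ v → φ ⟨y v, hyV v v.2⟩ = QuotientGroup.mk (y u)) :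
    IsMulCommutative U := by
  classical
  have hq2 : 2 ≤ 2 ^ n := by
    calc 2 = 2 ^ 1 := by norm_num
      _ ≤ 2 ^ n := Nat.pow_le_pow_right (by norm_num) hn
  -- (a) card V = q
  have hVcard : Nat.card V = 2 ^ n := by
    have h1 := Subgroup.card_eq_card_quotient_mul_card_subgroup V
    have h2 : Nat.card V = Nat.card (U ⧸ V) := Nat.card_congr φ.toEquiv
    rw [← h2, hU, ← sq] at h1
    exact (Nat.pow_left_injective (n := 2) (by norm_num) h1).symm
  -- (b) iterates preserve V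
  have hyVk : ∀ k : ℕ, ∀ v ∈ V, (y ^ k) v ∈ V := by
    intro k
    induction k with
    | zero => intro v hv; simpa using hv
    | succ k ih =>
      intro v hv
      rw [pow_succ', MulAut.mul_apply]
      exact hyV _ (ih v hv)
  have hRV : ∀ v₀ ∈ V, v₀ ≠ 1 → ∀ v ∈ V, v ≠ 1 → ∃ k : ℕ, (y ^ k) v₀ = v := by
    intro v₀ hv₀ hv₀1 v hv hv1
    haveI : Fintype V := Fintype.ofFinite V
    let f : ℕ → V := fun k => ⟨(y ^ k) v₀, hyVk k v₀ hv₀⟩
    have hinj : Set.InjOn f (Finset.range (2 ^ n - 1) : Set ℕ) := by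
      have key : ∀ i j : ℕ, i ≤ j → j < 2 ^ n - 1 → f i = f j → i = j := by
        intro i j hij hj hfij
        have h1 : (y ^ i) v₀ = (y ^ j) v₀ := congrArg Subtype.val hfij
        have h2 : y ^ j = y ^ i * y ^ (j - i) := by rw [← pow_add]; congr 1; omega
        rw [h2, MulAut.mul_apply] at h1
        have h3 : (y ^ (j - i)) v₀ = v₀ := ((y ^ i).injective h1).symm
        by_contra hne
        have h4 : y ^ (j - i) ≠ 1 := by
          intro h5
          have := orderOf_dvd_of_pow_eq_one h5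
          rw [hy] at this
          have := Nat.le_of_dvd (by omega) this
          omega
        exact hv₀1 (hfp _ h4 v₀ h3)
      intro i hi j hj hfij
      simp only [Finset.coe_range, Set.mem_Iio] at hi hj
      rcases le_total i j with h | h
      · exact key i j h hj hfij
      · exact (key j i h hi hfij.symm).symm
    let s : Finset V := (Finset.range (2 ^ n - 1)).image f
    have hs_card : s.card = 2 ^ n - 1 := by
      rw [Finset.card_image_of_injOn hinj, Finset.card_range]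
    have hsub : s ⊆ Finset.univ.erase (1 : V) := by
      intro w hw
      obtain ⟨k, _, rfl⟩ := Finset.mem_image.mp hw
      rw [Finset.mem_erase]
      refine ⟨?_, Finset.mem_univ _⟩
      intro h1
      have h2 : (y ^ k) v₀ = 1 := congrArg Subtype.val h1
      have h3 : (y ^ k) v₀ = (y ^ k) 1 := by rw [h2, map_one]
      exact hv₀1 ((y ^ k).injective h3)
    have hcard_erase : (Finset.univ.erase (1 : V)).card = 2 ^ n - 1 := by
      rw [Finset.card_erase_of_mem (Finset.mem_univ _), Finset.card_univ, ← Nat.card_eq_fintype_card,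
        hVcard]
    have hseq : s = Finset.univ.erase (1 : V) :=
      Finset.eq_of_subset_of_card_le hsub (by rw [hs_card, hcard_erase])
    have hvmem : (⟨v, hv⟩ : V) ∈ s := by
      rw [hseq, Finset.mem_erase]
      refine ⟨?_, Finset.mem_univ _⟩
      intro h1
      exact hv1 (congrArg Subtype.val h1)
    obtain ⟨k, _, hk⟩ := Finset.mem_image.mp hvmem
    exact ⟨k, congrArg Subtype.val hk⟩
  -- (c) V is central
  have hVcentral : ∀ v ∈ V, ∀ g : U, g * v = v * g := by
    haveI : Fact (Nat.Prime 2) := ⟨Nat.prime_two⟩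
    have hUp : IsPGroup 2 U := IsPGroup.of_card (n := 2 * n) (by rw [hU, ← pow_mul, mul_comm])
    have hVbot : V ≠ ⊥ := by
      intro h
      rw [h] at hVcard
      simp at hVcard
      omega
    obtain ⟨x, hxV, hxZ, hx1⟩ := Cfsg.Agent.Lib.Helper32.exists_ne_one_mem_normal_inf_center hUp V hVbot
    intro v hv g
    by_cases hv1 : v = 1
    · subst hv1; simp
    · obtain ⟨k, hk⟩ := hRV x hxV hx1 v hv hv1
      rw [Subgroup.mem_center_iff] at hxZ
      have := hxZ ((y ^ k).symm g)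
      have h2 := congrArg (y ^ k) this
      rw [map_mul, map_mul, MulEquiv.apply_symm_apply, hk] at h2
      exact h2
  -- iterated equivariance
  have hφk : ∀ (k : ℕ) (v : V) (u : U), (QuotientGroup.mk u : U ⧸ V) = φ v →
      φ ⟨(y ^ k) v, hyVk k v v.2⟩ = QuotientGroup.mk ((y ^ k) u) := by
    intro k
    induction k with
    | zero =>
      intro v u h
      simp only [pow_zero, MulAut.one_apply]
      exact h.symm
    | succ k ih =>
      intro v u h
      have h1 := ih v u h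
      have h2 := hφ ⟨(y ^ k) v, hyVk k v v.2⟩ ((y ^ k) u) h1.symm
      simp only [pow_succ', MulAut.mul_apply]
      exact h2
  have hmk1 : ∀ u : U, (QuotientGroup.mk u : U ⧸ V) = 1 ↔ u ∈ V := fun u => QuotientGroup.eq_one_iff u
  -- (R_W)
  have hRW : ∀ u u' : U, u ∉ V → u' ∉ V →
      ∃ k : ℕ, (QuotientGroup.mk ((y ^ k) u) : U ⧸ V) = QuotientGroup.mk u' := by
    intro u u' hu hu'
    have hv : (φ.symm (QuotientGroup.mk u) : V) ≠ 1 := by
      intro h
      have : φ (φ.symm (QuotientGroup.mk u)) = φ 1 := by rw [h]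
      rw [MulEquiv.apply_symm_apply, map_one, hmk1] at this
      exact hu this
    have hv' : (φ.symm (QuotientGroup.mk u') : V) ≠ 1 := by
      intro h
      have : φ (φ.symm (QuotientGroup.mk u')) = φ 1 := by rw [h]
      rw [MulEquiv.apply_symm_apply, map_one, hmk1] at this
      exact hu' this
    obtain ⟨k, hk⟩ := hRV (φ.symm (QuotientGroup.mk u) : V) (φ.symm (QuotientGroup.mk u)).2
      (fun h => hv (Subtype.ext h)) (φ.symm (QuotientGroup.mk u') : V) (φ.symm (QuotientGroup.mk u')).2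
      (fun h => hv' (Subtype.ext h))
    refine ⟨k, ?_⟩
    have h1 := hφk k (φ.symm (QuotientGroup.mk u)) u (by rw [MulEquiv.apply_symm_apply])
    rw [← h1]
    have : (⟨(y ^ k) (φ.symm (QuotientGroup.mk u) : V), hyVk k _ (φ.symm (QuotientGroup.mk u)).2⟩ : V)
        = φ.symm (QuotientGroup.mk u') := Subtype.ext hk
    rw [this, MulEquiv.apply_symm_apply]
  -- pick u₀ ∉ V
  obtain ⟨u₀, hu₀⟩ : ∃ u₀ : U, u₀ ∉ V := by
    by_contra hcon
    push Not at hcon
    exact hV (by ext g; simp [hcon g])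
  -- decomposition
  have hdecomp : ∀ u : U, u ∉ V → ∃ k : ℕ, ∃ v ∈ V, u = (y ^ k) u₀ * v := by
    intro u hu
    obtain ⟨k, hk⟩ := hRW u₀ u hu₀ hu
    refine ⟨k, ((y ^ k) u₀)⁻¹ * u, QuotientGroup.eq.mp hk, by group⟩
  have hsq : ∀ (k : ℕ) (v : U), v ∈ V → ((y ^ k) u₀ * v) ^ 2 = (y ^ k) (u₀ ^ 2) := by
    intro k v hv
    have hc := hVcentral v hv ((y ^ k) u₀)
    have hv2 : v * v = 1 := by rw [← sq]; exact hVe v hv
    rw [sq, map_pow, sq]
    calc (y ^ k) u₀ * v * ((y ^ k) u₀ * v) = (y ^ k) u₀ * (v * (y ^ k) u₀) * v := by group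
      _ = (y ^ k) u₀ * ((y ^ k) u₀ * v) * v := by rw [hc]
      _ = (y ^ k) u₀ * (y ^ k) u₀ * (v * v) := by group
      _ = (y ^ k) u₀ * (y ^ k) u₀ := by rw [hv2, mul_one]
  by_cases hu₀2 : u₀ ^ 2 = 1
  · -- exponent 2
    have hall : ∀ u : U, u ^ 2 = 1 := by
      intro u
      by_cases hu : u ∈ V
      · exact hVe u hu
      · obtain ⟨k, v, hv, rfl⟩ := hdecomp u hu
        rw [hsq k v hv, hu₀2, map_one]
    refine ⟨⟨fun a b => ?_⟩⟩
    have ha : a⁻¹ = a := by rw [inv_eq_iff_mul_eq_one, ← sq]; exact hall a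
    have hb : b⁻¹ = b := by rw [inv_eq_iff_mul_eq_one, ← sq]; exact hall b
    have hab : (a * b)⁻¹ = a * b := by rw [inv_eq_iff_mul_eq_one, ← sq]; exact hall (a * b)
    rw [mul_inv_rev, ha, hb] at hab
    exact hab.symm
  · -- squaring is "linear"
    have hv₁ : (φ.symm (QuotientGroup.mk u₀) : V) ≠ 1 := by
      intro h
      have : φ (φ.symm (QuotientGroup.mk u₀)) = φ 1 := by rw [h]
      rw [MulEquiv.apply_symm_apply, map_one, hmk1] at this
      exact hu₀ this
    obtain ⟨m, hm⟩ := hRV (φ.symm (QuotientGroup.mk u₀) : V) (φ.symm (QuotientGroup.mk u₀)).2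
      (fun h => hv₁ (Subtype.ext h)) (u₀ ^ 2) (hQe u₀) hu₀2
    have hφv₀ : φ ⟨u₀ ^ 2, hQe u₀⟩ = QuotientGroup.mk ((y ^ m) u₀) := by
      have h1 := hφk m (φ.symm (QuotientGroup.mk u₀)) u₀ (by rw [MulEquiv.apply_symm_apply])
      rw [← h1]
      congr 1
      exact Subtype.ext hm.symm
    have hclaim : ∀ u : U, φ ⟨u ^ 2, hQe u⟩ = QuotientGroup.mk ((y ^ m) u) := by
      intro u
      by_cases hu : u ∈ V
      · have h1 : (⟨u ^ 2, hQe u⟩ : V) = 1 := Subtype.ext (hVe u hu)
        rw [h1, map_one]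
        exact ((hmk1 _).mpr (hyVk m u hu)).symm
      · obtain ⟨k, v, hv, rfl⟩ := hdecomp u hu
        have h1 : (⟨((y ^ k) u₀ * v) ^ 2, hQe _⟩ : V) = ⟨(y ^ k) (u₀ ^ 2), hyVk k _ (hQe u₀)⟩ :=
          Subtype.ext (hsq k v hv)
        rw [h1]
        have h2 := hφk k ⟨u₀ ^ 2, hQe u₀⟩ ((y ^ m) u₀) hφv₀.symm
        rw [h2, map_mul, QuotientGroup.mk_mul]
        have h3 : (QuotientGroup.mk ((y ^ m) v) : U ⧸ V) = 1 := (hmk1 _).mpr (hyVk m v hv)
        rw [h3, mul_one]
        congr 1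
        rw [← MulAut.mul_apply, ← MulAut.mul_apply, pow_mul_comm]
    refine ⟨⟨fun a b => ?_⟩⟩
    have h1 : φ ⟨(a * b) ^ 2, hQe _⟩ = φ (⟨a ^ 2, hQe a⟩ * ⟨b ^ 2, hQe b⟩) := by
      rw [map_mul, hclaim, hclaim, hclaim, map_mul, QuotientGroup.mk_mul]
    have h2 := congrArg Subtype.val (φ.injective h1)
    simp only [Subgroup.coe_mul] at h2
    -- (ab)^2 = a^2 b^2
    have h3 : a * (b * a) * b = a * (a * b) * b := by
      calc a * (b * a) * b = (a * b) ^ 2 := by rw [sq]; group
        _ = a ^ 2 * b ^ 2 := h2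
        _ = a * (a * b) * b := by rw [sq, sq]; group
    exact (mul_left_cancel (mul_right_cancel h3)).symm

end Cfsg.Agent.S3158
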