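import Cfsg.Statements.S3163
import Mathlib

set_option autoImplicit false
open Cfsg

namespace Cfsg.Agent.S3163

variable {G : Type*} [Group G]

/-- product formula, one inequality -/
lemma card_mul_le [Finite G] (H K : Subgroup G) :
    Nat.card H * Nat.card K ≤ Nat.card G * Nat.card (H ⊓ K : Subgroup G) := by
  classical
  -- choose a base decomposition for each g
  let P : G → Prop := fun g => ∃ h : H, ∃ k : K, (h : G) * k = g
  let hh : G → H := fun g => if hg : P g then hg.choose else 1
  have key : ∀ (h : H) (k : K), ((hh ((h:G) * k))⁻¹ * h : G) ∈ H ⊓ K := by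
    intro h k
    have hg : P ((h:G) * k) := ⟨h, k, rfl⟩
    have e1 : hh ((h:G) * k) = hg.choose := dif_pos hg
    obtain ⟨k', hk'⟩ := hg.choose_spec
    rw [e1, Subgroup.mem_inf]
    refine ⟨H.mul_mem (H.inv_mem (hg.choose).2) h.2, ?_⟩
    have : ((hg.choose : H) : G)⁻¹ * h = k' * (k:G)⁻¹ := by
      rw [inv_mul_eq_iff_eq_mul, ← mul_assoc, hk']
      simp
    rw [InvMemClass.coe_inv, this]
    exact K.mul_mem k'.2 (K.inv_mem k.2)
  let f : H × K → G × (H ⊓ K : Subgroup G) := fun x =>
    ((x.1 : G) * x.2, ⟨(hh ((x.1:G) * x.2) : G)⁻¹ * x.1, key x.1 x.2⟩)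
  have hf : Function.Injective f := by
    rintro ⟨h1, k1⟩ ⟨h2, k2⟩ hxy
    simp only [f, Prod.mk.injEq, Subtype.mk.injEq] at hxy
    obtain ⟨e1, e2⟩ := hxy
    rw [e1] at e2
    have e3 : (h1 : G) = h2 := mul_left_cancel e2
    have e4 : (k1 : G) = k2 := by
      rw [e3] at e1
      exact mul_left_cancel e1
    exact Prod.ext (Subtype.ext e3) (Subtype.ext e4)
  have := Nat.card_le_card_of_injective f hf
  rwa [Nat.card_prod, Nat.card_prod] at this

/-- product formula, other inequality when `G = H K` -/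
lemma card_le_mul [Finite G] (H K : Subgroup G) (hHK : ∀ g : G, ∃ h ∈ H, ∃ k ∈ K, g = h * k) :
    Nat.card G * Nat.card (H ⊓ K : Subgroup G) ≤ Nat.card H * Nat.card K := by
  classical
  choose hh hhH kk kkK hg using hHK
  let f : G × (H ⊓ K : Subgroup G) → H × K := fun x =>
    (⟨hh x.1 * x.2, H.mul_mem (hhH x.1) x.2.2.1⟩, ⟨(x.2 : G)⁻¹ * kk x.1, K.mul_mem (K.inv_mem x.2.2.2) (kkK x.1)⟩)
  have hf : Function.Injective f := by
    rintro ⟨g1, d1⟩ ⟨g2, d2⟩ hxy
    simp only [f, Prod.mk.injEq, Subtype.mk.injEq] at hxy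
    obtain ⟨e1, e2⟩ := hxy
    have e3 : g1 = g2 := by
      have a1 : g1 = (hh g1 * d1) * ((d1 : G)⁻¹ * kk g1) := by
        rw [mul_assoc, mul_inv_cancel_left]; exact hg g1
      have a2 : g2 = (hh g2 * d2) * ((d2 : G)⁻¹ * kk g2) := by
        rw [mul_assoc, mul_inv_cancel_left]; exact hg g2
      rw [a1, a2, e1, e2]
    subst e3
    have e4 : (d1 : G) = d2 := mul_left_cancel e1
    exact Prod.ext rfl (Subtype.ext e4)
  have := Nat.card_le_card_of_injective f hf
  rwa [Nat.card_prod, Nat.card_prod] at this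

/-- Let S be a non-abelian finite 2-group which is the product S = AB of two elementary abelian subgroups A and B, and suppose that the centralizer in S of every element of A outside B is exactly A. Then the centralizer of every element of B outside A is exactly B; A and B are maximal elementary abelian subgroups of S and the only ones; the centre of S is A ∩ B; and every element of S outside A ∪ B has centralizer of order at most min(|A|, |B|). -/
theorem result {S : Type*} [Group S] [Finite S] (hS : IsPGroup 2 S) (hna : ¬ IsMulCommutative S) (A B : Subgroup S)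
    (hA : Cfsg.IsElementaryAbelian 2 A) (hB : Cfsg.IsElementaryAbelian 2 B) (hAB : ∀ s : S, ∃ a ∈ A, ∃ b ∈ B, s = a * b)
    (hC : ∀ a ∈ A, a ∉ B → Subgroup.centralizer ({a} : Set S) = A) :
    (∀ b ∈ B, b ∉ A → Subgroup.centralizer ({b} : Set S) = B) ∧
      (∀ E : Subgroup S, Cfsg.IsElementaryAbelian 2 E → (∀ E' : Subgroup S, Cfsg.IsElementaryAbelian 2 E' → E ≤ E' → E' = E) → E = A ∨ E = B) ∧
      (∀ E' : Subgroup S, Cfsg.IsElementaryAbelian 2 E' → A ≤ E' → E' = A) ∧ (∀ E' : Subgroup S, Cfsg.IsElementaryAbelian 2 E' → B ≤ E' → E' = B) ∧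
      Subgroup.center S = A ⊓ B ∧
      (∀ x : S, x ∉ A → x ∉ B → Nat.card ↥(Subgroup.centralizer ({x} : Set S)) ≤ min (Nat.card ↥A) (Nat.card ↥B)) := by
  have comOf : ∀ E : Subgroup S, IsMulCommutative E → ∀ x ∈ E, ∀ y ∈ E, x * y = y * x := by
    intro E hE x hx y hy
    exact congrArg Subtype.val (hE.is_comm.comm ⟨x, hx⟩ ⟨y, hy⟩)
  have comA := comOf A hA.1
  have comB := comOf B hB.1
  have sqA := hA.2
  have sqB := hB.2
  have invA : ∀ a ∈ A, a⁻¹ = a := fun a ha => by
    rw [inv_eq_iff_mul_eq_one, ← sq]; exact sqA a ha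
  have invB : ∀ b ∈ B, b⁻¹ = b := fun b hb => by
    rw [inv_eq_iff_mul_eq_one, ← sq]; exact sqB b hb
  -- existence of a₀ ∈ A \ B and b₀ ∈ B \ A
  obtain ⟨a₀, ha₀A, ha₀B⟩ : ∃ a ∈ A, a ∉ B := by
    by_contra hcon
    push Not at hcon
    apply hna
    have hall : ∀ s : S, s ∈ B := by
      intro s
      obtain ⟨a, ha, b, hb, rfl⟩ := hAB s
      exact B.mul_mem (hcon a ha) hb
    exact ⟨⟨fun x y => comB x (hall x) y (hall y)⟩⟩
  obtain ⟨b₀, hb₀B, hb₀A⟩ : ∃ b ∈ B, b ∉ A := by
    by_contra hcon
    push Not at hcon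
    apply hna
    have hall : ∀ s : S, s ∈ A := by
      intro s
      obtain ⟨a, ha, b, hb, rfl⟩ := hAB s
      exact A.mul_mem ha (hcon b hb)
    exact ⟨⟨fun x y => comA x (hall x) y (hall y)⟩⟩
  -- D = A ⊓ B is central
  have hDcentral : ∀ d, d ∈ A → d ∈ B → ∀ s : S, s * d = d * s := by
    intro d hdA hdB s
    obtain ⟨a, ha, b, hb, rfl⟩ := hAB s
    rw [mul_assoc, comB b hb d hdB, ← mul_assoc, comA a ha d hdA, mul_assoc]
  -- (1)
  have h1 : ∀ b ∈ B, b ∉ A → Subgroup.centralizer ({b} : Set S) = B := by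
    intro b hb hbA
    ext x
    rw [Subgroup.mem_centralizer_singleton_iff]
    constructor
    · intro hx
      obtain ⟨a', ha', b', hb', rfl⟩ := hAB x
      by_cases ha'B : a' ∈ B
      · exact B.mul_mem ha'B hb'
      · exfalso
        have hcomm : a' * b = b * a' := by
          have e1 : a' * b' * b = b * (a' * b') := hx
          have e2 : b' * b = b * b' := comB b' hb' b hb
          have : a' * b * b' = b * a' * b' := by
            rw [mul_assoc, ← e2, ← mul_assoc, e1, mul_assoc]
          exact mul_right_cancel this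
        have : b ∈ Subgroup.centralizer ({a'} : Set S) := by
          rw [Subgroup.mem_centralizer_singleton_iff]; exact hcomm.symm
        rw [hC a' ha' ha'B] at this
        exact hbA this
    · intro hx
      exact comB x hx b hb
  -- involutions lie in A ∪ B
  have hinv : ∀ x : S, x ^ 2 = 1 → x ∈ A ∨ x ∈ B := by
    intro x hx
    obtain ⟨a, ha, b, hb, rfl⟩ := hAB x
    by_cases haB : a ∈ B
    · right; exact B.mul_mem haB hb
    · left
      have hcomm : b * a = a * b := by
        have e1 : a * b * (a * b) = 1 := by rw [← sq]; exact hx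
        have e2 : a * b = (a * b)⁻¹ := eq_inv_of_mul_eq_one_left e1
        rw [mul_inv_rev, invA a ha, invB b hb] at e2
        exact e2.symm
      have : b ∈ Subgroup.centralizer ({a} : Set S) := by
        rw [Subgroup.mem_centralizer_singleton_iff]; exact hcomm
      rw [hC a ha haB] at this
      exact A.mul_mem ha this
  -- (3), (4)
  have h3 : ∀ E' : Subgroup S, Cfsg.IsElementaryAbelian 2 E' → A ≤ E' → E' = A := by
    intro E' hE' hAE'
    apply le_antisymm _ hAE'
    intro x hx
    have : x ∈ Subgroup.centralizer ({a₀} : Set S) := by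
      rw [Subgroup.mem_centralizer_singleton_iff]
      exact comOf E' hE'.1 x hx a₀ (hAE' ha₀A)
    rwa [hC a₀ ha₀A ha₀B] at this
  have h4 : ∀ E' : Subgroup S, Cfsg.IsElementaryAbelian 2 E' → B ≤ E' → E' = B := by
    intro E' hE' hBE'
    apply le_antisymm _ hBE'
    intro x hx
    have : x ∈ Subgroup.centralizer ({b₀} : Set S) := by
      rw [Subgroup.mem_centralizer_singleton_iff]
      exact comOf E' hE'.1 x hx b₀ (hBE' hb₀B)
    rwa [h1 b₀ hb₀B hb₀A] at this
  -- (2)
  have h2 : ∀ E : Subgroup S, Cfsg.IsElementaryAbelian 2 E → (∀ E' : Subgroup S, Cfsg.IsElementaryAbelian 2 E' → E ≤ E' → E' = E) → E = A ∨ E = B := by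
    intro E hE hmax
    have hsub : E ≤ A ∨ E ≤ B := by
      by_contra hcon
      push Not at hcon
      obtain ⟨hEA, hEB⟩ := hcon
      obtain ⟨x, hxE, hxA⟩ := SetLike.not_le_iff_exists.mp hEA
      obtain ⟨y, hyE, hyB⟩ := SetLike.not_le_iff_exists.mp hEB
      have hxB : x ∈ B := (hinv x (hE.2 x hxE)).resolve_left hxA
      have hyA : y ∈ A := (hinv y (hE.2 y hyE)).resolve_right hyB
      rcases hinv (x * y) (hE.2 _ (E.mul_mem hxE hyE)) with h | h
      · exact hxA ((Subgroup.mul_mem_cancel_right A hyA).mp h)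
      · exact hyB ((Subgroup.mul_mem_cancel_left B hxB).mp h)
    rcases hsub with h | h
    · left; exact (hmax A hA h).symm
    · right; exact (hmax B hB h).symm
  -- (5)
  have h5 : Subgroup.center S = A ⊓ B := by
    ext z
    rw [Subgroup.mem_center_iff, Subgroup.mem_inf]
    constructor
    · intro hz
      constructor
      · have : z ∈ Subgroup.centralizer ({a₀} : Set S) := by
          rw [Subgroup.mem_centralizer_singleton_iff]; exact (hz a₀).symm
        rwa [hC a₀ ha₀A ha₀B] at this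
      · have : z ∈ Subgroup.centralizer ({b₀} : Set S) := by
          rw [Subgroup.mem_centralizer_singleton_iff]; exact (hz b₀).symm
        rwa [h1 b₀ hb₀B hb₀A] at this
    · rintro ⟨hzA, hzB⟩ s
      exact hDcentral z hzA hzB s
  refine ⟨h1, h2, h3, h4, h5, ?_⟩
  -- (6)
  intro x hxA hxB
  obtain ⟨a, ha, b, hb, rfl⟩ := hAB x
  have haB : a ∉ B := fun h => hxB (B.mul_mem h hb)
  have hbA : b ∉ A := fun h => hxA (A.mul_mem ha h)
  set C := Subgroup.centralizer ({a * b} : Set S) with hCdef
  have hCA : C ⊓ A ≤ A ⊓ B := by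
    intro c hc
    obtain ⟨hcC, hcA⟩ := Subgroup.mem_inf.mp hc
    refine Subgroup.mem_inf.mpr ⟨hcA, ?_⟩
    by_contra hcB
    rw [hCdef, Subgroup.mem_centralizer_singleton_iff] at hcC
    have e2 : c * a = a * c := comA c hcA a ha
    have hcomm : b * c = c * b := by
      have : a * (c * b) = a * (b * c) := by
        rw [← mul_assoc, ← e2, mul_assoc, hcC, mul_assoc]
      exact (mul_left_cancel this).symm
    have : b ∈ Subgroup.centralizer ({c} : Set S) := by
      rw [Subgroup.mem_centralizer_singleton_iff]; exact hcomm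
    rw [hC c hcA hcB] at this
    exact hbA this
  have hCB : C ⊓ B ≤ A ⊓ B := by
    intro c hc
    obtain ⟨hcC, hcB⟩ := Subgroup.mem_inf.mp hc
    refine Subgroup.mem_inf.mpr ⟨?_, hcB⟩
    by_contra hcA
    rw [hCdef, Subgroup.mem_centralizer_singleton_iff] at hcC
    have e2 : c * b = b * c := comB c hcB b hb
    have hcomm : a * c = c * a := by
      have : a * c * b = c * a * b := by
        rw [mul_assoc, e2, ← mul_assoc, ← hcC, ← mul_assoc]
      exact mul_right_cancel this
    have : a ∈ Subgroup.centralizer ({c} : Set S) := by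
      rw [Subgroup.mem_centralizer_singleton_iff]; exact hcomm
    rw [h1 c hcB hcA] at this
    exact haB this
  have hBA : ∀ s : S, ∃ b ∈ B, ∃ a ∈ A, s = b * a := by
    intro s
    obtain ⟨a', ha', b', hb', hs⟩ := hAB s⁻¹
    refine ⟨b'⁻¹, B.inv_mem hb', a'⁻¹, A.inv_mem ha', ?_⟩
    rw [← mul_inv_rev, ← hs, inv_inv]
  have hDpos : 0 < Nat.card (A ⊓ B : Subgroup S) := Nat.card_pos
  have hApos : 0 < Nat.card A := Nat.card_pos
  have hBpos : 0 < Nat.card B := Nat.card_pos
  have hSpos : 0 < Nat.card S := Nat.card_pos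
  have c1 : Nat.card (C ⊓ A : Subgroup S) ≤ Nat.card (A ⊓ B : Subgroup S) :=
    Nat.card_le_card_of_injective (Subgroup.inclusion hCA) (Subgroup.inclusion_injective hCA)
  have c2 : Nat.card (C ⊓ B : Subgroup S) ≤ Nat.card (A ⊓ B : Subgroup S) :=
    Nat.card_le_card_of_injective (Subgroup.inclusion hCB) (Subgroup.inclusion_injective hCB)
  have p1 := card_mul_le C A
  have p2 := card_mul_le C B
  have p3 := card_le_mul A B hAB
  have p4 := card_le_mul B A hBA
  rw [inf_comm B A] at p4
  rw [le_min_iff]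
  constructor
  · -- |C| ≤ |A| : |C||B| ≤ |S||C⊓B| ≤ |S||D| ≤ |A||B|
    have : Nat.card C * Nat.card B ≤ Nat.card A * Nat.card B := by
      calc Nat.card C * Nat.card B ≤ Nat.card S * Nat.card (C ⊓ B : Subgroup S) := p2
        _ ≤ Nat.card S * Nat.card (A ⊓ B : Subgroup S) := Nat.mul_le_mul_left _ c2
        _ ≤ Nat.card A * Nat.card B := p3
    exact Nat.le_of_mul_le_mul_right this hBpos
  · have : Nat.card C * Nat.card A ≤ Nat.card B * Nat.card A := by
      calc Nat.card C * Nat.card A ≤ Nat.card S * Nat.card (C ⊓ A : Subgroup S) := p1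
        _ ≤ Nat.card S * Nat.card (A ⊓ B : Subgroup S) := Nat.mul_le_mul_left _ c1
        _ ≤ Nat.card B * Nat.card A := p4
    exact Nat.le_of_mul_le_mul_right this hApos

end Cfsg.Agent.S3163
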