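import Cfsg.Statements.S3166
import Mathlib

set_option autoImplicit false
open Cfsg

namespace Cfsg.Agent.S3166

lemma odd_geom (p m : ℕ) (hp : Odd p) (hm : Odd m) : Odd (∑ i ∈ Finset.range m, p ^ i) := by
  rw [Finset.odd_sum_iff_odd_card_odd]
  have : (Finset.range m).filter (fun i => Odd (p ^ i)) = Finset.range m := by
    apply Finset.filter_true_of_mem
    intro i _
    exact hp.pow
  rw [this, Finset.card_range]
  exact hm

/-- q divides p - 1 -/
lemma dvd_pred (n p m : ℕ) (hp2 : 2 ≤ p) (hodd : Odd m)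
    (h : (2^n)^4 + (2^n)^2 + 1 = p^m + (2^n)^3 + 2^n) (hn : 1 ≤ n) : ∃ k : ℕ, p = 1 + k * 2^n := by
  have hpodd : Odd p := by
    by_contra hne
    rw [Nat.not_odd_iff_even] at hne
    have hm0 : m ≠ 0 := fun h0 => by simp [h0] at hodd
    have h1 : Even (p^m) := (Nat.even_pow.mpr ⟨hne, hm0⟩)
    have h2 : Even (2^n) := (Nat.even_pow.mpr ⟨even_two, by omega⟩)
    have h3 : Even ((2^n)^4 + (2^n)^2) := by
      apply Even.add <;> exact (Nat.even_pow.mpr ⟨h2, by norm_num⟩)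
    have h4 : Even (p^m + (2^n)^3 + 2^n) := by
      apply Even.add _ h2
      apply Even.add h1
      exact (Nat.even_pow.mpr ⟨h2, by norm_num⟩)
    rw [← h] at h4
    rcases h3 with ⟨a, ha⟩
    rcases h4 with ⟨b, hb⟩
    omega
  have hS := odd_geom p m hpodd hodd
  set S := ∑ i ∈ Finset.range m, p ^ i with hSdef
  have hgeom : (S : ℤ) * ((p : ℤ) - 1) = (p : ℤ)^m - 1 := by
    rw [hSdef]
    push_cast
    exact geom_sum_mul (p : ℤ) m
  have hdvd : ((2^n : ℕ) : ℤ) ∣ (S : ℤ) * ((p : ℤ) - 1) := by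
    rw [hgeom]
    refine ⟨((2^n : ℕ) : ℤ)^3 - ((2^n : ℕ) : ℤ)^2 + ((2^n : ℕ) : ℤ) - 1, ?_⟩
    have := congrArg (fun x : ℕ => (x : ℤ)) h
    push_cast at this
    push_cast
    linear_combination -this
  have hcop : IsCoprime ((2^n : ℕ) : ℤ) (S : ℤ) := by
    rw [Nat.isCoprime_iff_coprime]
    exact Nat.Coprime.pow_left n (Nat.coprime_two_left.mpr hS)
  have hd2 : ((2^n : ℕ) : ℤ) ∣ (p : ℤ) - 1 := hcop.dvd_of_dvd_mul_left hdvd
  have hd3 : ((2^n : ℕ) : ℤ) ∣ ((p - 1 : ℕ) : ℤ) := by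
    rw [Nat.cast_sub (by omega)]
    simpa using hd2
  rw [Int.natCast_dvd_natCast] at hd3
  obtain ⟨k, hk⟩ := hd3
  exact ⟨k, by rw [mul_comm k]; omega⟩

lemma case3 (q k : ℕ) (hq2 : 2 ≤ q) (h : q^4 + q^2 + 1 = (1 + k * q)^3 + q^3 + q) : False := by
  have hk1 : 1 ≤ k := by
    rcases Nat.eq_zero_or_pos k with h0 | h0
    · subst h0
      simp at h
      nlinarith [pow_pos (by omega : 0 < q) 2, pow_pos (by omega : 0 < q) 3]
    · exact h0
  -- divide by q
  have hq0 : (q : ℤ) ≠ 0 := by positivity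
  have e1 : (k:ℤ)^3 * q^2 + 3 * k^2 * q + 3 * k = (q:ℤ)^3 - q^2 + q - 1 := by
    have := congrArg (fun x : ℕ => (x : ℤ)) h
    push_cast at this
    apply mul_left_cancel₀ hq0
    linear_combination -this
  have hkq : k^3 < q := by
    have : (k:ℤ)^3 * q^2 < (q:ℤ) * q^2 := by
      have h1 : (0:ℤ) ≤ 3 * k^2 * q := by positivity
      have h2 : (0:ℤ) ≤ 3 * k := by positivity
      have h3 : (q:ℤ) ≤ (q:ℤ)^2 := by
        have : (2:ℤ) ≤ q := by exact_mod_cast hq2
        nlinarith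
      nlinarith
    have hq2pos : (0:ℤ) < (q:ℤ)^2 := by positivity
    have := lt_of_mul_lt_mul_right this hq2pos.le
    exact_mod_cast this
  have hdvd : (q:ℤ) ∣ 3 * k + 1 := by
    refine ⟨(q:ℤ)^2 - q + 1 - k^3 * q - 3 * k^2, ?_⟩
    linear_combination e1
  have hle : q ≤ 3 * k + 1 := by
    have := Int.le_of_dvd (by positivity) hdvd
    exact_mod_cast this
  have hk : k = 1 := by
    by_contra hne
    have hk2 : 2 ≤ k := by omega
    have : k^3 ≥ 4 * k := by nlinarith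
    omega
  subst hk
  have hq4 : q ≤ 4 := by omega
  interval_cases q <;> omega

lemma even_case (r s : ℕ) (hr1 : 1 ≤ r) (h : (2*r)^4 + (2*r)^2 + 1 = s * s + (2*r)^3 + 2*r) : False := by
  have h1 : s + r > 4 * r^2 := by
    by_contra hcon
    rw [not_lt] at hcon
    have : s * s ≤ (4 * r^2 - r) * (4 * r^2 - r) := by
      have : s ≤ 4 * r^2 - r := by omega
      exact Nat.mul_le_mul this this
    have h3 : r ≤ 4 * r^2 := by nlinarith
    zify [h3] at this
    zify at h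
    nlinarith
  have h2 : s + r < 4 * r^2 + 1 := by
    by_contra hcon
    rw [not_lt] at hcon
    have h3 : r ≤ 4 * r^2 := by nlinarith
    have : (4 * r^2 + 1 - r) * (4 * r^2 + 1 - r) ≤ s * s := by
      have : 4 * r^2 + 1 - r ≤ s := by omega
      exact Nat.mul_le_mul this this
    have h4 : r ≤ 4 * r^2 + 1 := by omega
    zify [h4] at this
    zify at h
    nlinarith
  omega


lemma key (n p m : ℕ) (hn : 1 ≤ n) (hp : p.Prime)
    (h : (2^n)^4 + (2^n)^2 + 1 = p^m + (2^n)^3 + 2^n) : m = 1 := by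
  obtain ⟨r, hr⟩ : ∃ r, 2^n = 2 * r := ⟨2^(n-1), by rw [← pow_succ']; congr 1; omega⟩
  have hr1 : 1 ≤ r := by
    rcases Nat.eq_zero_or_pos r with h0 | h0
    · subst h0; simp at hr
    · exact h0
  have hq2 : 2 ≤ 2^n := by omega
  rcases Nat.even_or_odd m with hev | hodd
  · exfalso
    obtain ⟨j, hj⟩ := hev
    have hs : p^m = p^j * p^j := by rw [hj, pow_add]
    rw [hs, hr] at h
    exact even_case r (p^j) hr1 h
  · obtain ⟨k, hk⟩ := dvd_pred n p m hp.two_le hodd h hn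
    have hk1 : 1 ≤ k := by
      rcases Nat.eq_zero_or_pos k with h0 | h0
      · subst h0
        have := hp.two_le
        omega
      · exact h0
    have hpq : 2^n + 1 ≤ p := by
      have : 2^n ≤ k * 2^n := Nat.le_mul_of_pos_left _ hk1
      omega
    by_contra hm1
    have hm3 : 3 ≤ m := by
      obtain ⟨j, hj⟩ := hodd
      omega
    rcases Nat.lt_or_ge m 4 with hlt | hge
    · have hm : m = 3 := by omega
      subst hm
      rw [hk] at h
      exact case3 (2^n) k hq2 h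
    · have h1 : p^4 ≤ p^m := Nat.pow_le_pow_right hp.pos hge
      have h2 : (2^n + 1)^4 ≤ p^4 := Nat.pow_le_pow_left hpq 4
      have h3 : (2^n)^2 < (2^n)^3 := Nat.pow_lt_pow_right (by omega) (by norm_num)
      have h4 : (2^n)^4 < (2^n + 1)^4 := Nat.pow_lt_pow_left (by omega) (by norm_num)
      omega

/-- Let q = 2^n with n ≥ 1. If q⁴ − q³ + q² − q + 1 is a power p^m of a prime p, then m = 1: the value is never a prime power with exponent greater than 1. -/
theorem result (n p m : ℕ) (hn : 1 ≤ n) (hp : p.Prime) (h : (2 ^ n) ^ 4 - (2 ^ n) ^ 3 + (2 ^ n) ^ 2 - 2 ^ n + 1 = p ^ m) : m = 1 := by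
  apply key n p m hn hp
  have hq2 : 2 ≤ 2^n := by
    calc 2 = 2^1 := by norm_num
      _ ≤ 2^n := Nat.pow_le_pow_right (by norm_num) hn
  have h1 : (2^n)^3 ≤ (2^n)^4 := Nat.pow_le_pow_right (by omega) (by norm_num)
  have h2 : 2^n ≤ (2^n)^2 := by
    calc 2^n = (2^n)^1 := by ring
      _ ≤ (2^n)^2 := Nat.pow_le_pow_right (by omega) (by norm_num)
  omega

end Cfsg.Agent.S3166
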