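import Cfsg.Statements.S3171
-- import your own Cfsg.Agent.* helpers here
import Cfsg.Agent.Lib.Helper93.Syl24QMain

set_option autoImplicit false
open Cfsg

namespace Cfsg.Agent.S3171

open Cfsg.Agent.Lib.Helper93.Golay Cfsg.Agent.Lib.Helper93.Syl24 Cfsg.Agent.Lib.Helper93.Syl24Q

theorem fact_two : (244823040 : ℕ).factorization 2 = 10 := by
  have h : (244823040 : ℕ) = 2 ^ 10 * 239085 := by norm_num
  rw [h, Nat.factorization_mul (by norm_num) (by norm_num),
    Nat.Prime.factorization_pow (by norm_num)]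
  simp
  rw [Nat.factorization_eq_zero_of_not_dvd (by norm_num)]

/-- every Sylow 2-subgroup of `M24` is isomorphic to the explicit one -/
theorem nonempty_equiv (P : Sylow 2 ↥Cfsg.M24) :
    Nonempty (↥(P : Subgroup ↥Cfsg.M24) ≃* ↥S0) := by
  have : Fact (Nat.Prime 2) := ⟨Nat.prime_two⟩
  have hc' : Nat.card (S0.subgroupOf Cfsg.M24) = 2 ^ (Nat.card Cfsg.M24).factorization 2 := by
    rw [card_M24, fact_two, ← card_S0]
    exact Nat.card_congr (Subgroup.subgroupOfEquivOfLe S0_le_M24).toEquiv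
  exact ⟨(Sylow.equiv P (Sylow.ofCard (S0.subgroupOf Cfsg.M24) hc')).trans
    (Subgroup.subgroupOfEquivOfLe S0_le_M24)⟩

/-- Let P be a Sylow 2-subgroup of the Mathieu group of degree 24 and S the quotient of P by its centre. Then the centre of every maximal subgroup of S has order at most 8; S has an elementary abelian subgroup of order 64; and S has only one abelian subgroup of order 64. -/
theorem result (P : Sylow 2 ↥Cfsg.M24) :
    (∀ M : Subgroup (↥(P : Subgroup ↥Cfsg.M24) ⧸ Subgroup.center ↥(P : Subgroup ↥Cfsg.M24)), IsCoatom M →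
        Nat.card ↥(Subgroup.center ↥M) ≤ 8) ∧
      (∃ A : Subgroup (↥(P : Subgroup ↥Cfsg.M24) ⧸ Subgroup.center ↥(P : Subgroup ↥Cfsg.M24)),
        Cfsg.IsElementaryAbelian 2 A ∧ Nat.card ↥A = 64) ∧
      ∀ A B : Subgroup (↥(P : Subgroup ↥Cfsg.M24) ⧸ Subgroup.center ↥(P : Subgroup ↥Cfsg.M24)),
        IsMulCommutative ↥A → Nat.card ↥A = 64 → IsMulCommutative ↥B → Nat.card ↥B = 64 → A = B := by
  obtain ⟨e⟩ := nonempty_equiv P
  exact transport (QuotientGroup.congr (Subgroup.center ↥(P : Subgroup ↥Cfsg.M24))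
    (Subgroup.center ↥S0) e (map_center_equiv e)) main_TQ

end Cfsg.Agent.S3171
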