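import Cfsg.Statements.S3174
import Cfsg.Agent.Lib.Helper53.RuCenter
import Cfsg.Agent.Lib.Helper53.RuQuot

set_option autoImplicit false
set_option linter.style.haveILetI false
open Cfsg

namespace Cfsg.Agent.S3174

open Cfsg.Agent.Lib.Helper53

/-- Let T be a finite 2-group of order at least 2^14 in which the fourth term of the upper central series has order 16. Let W be the centralizer in T of the third term Z₃(T), and suppose the Frattini subgroup of W has order at most 8 and lies in every subgroup of W of index at most 16. Then T has order exactly 2^14; the derived subgroup of W and the Frattini subgroup of W both equal Z₃(T), which is elementary abelian of order 8; the centre of W has order 8; W is normal in T with quotient dihedral of order 8; and W modulo its derived subgroup is elementary abelian of order 2^8. -/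
theorem result {T : Type*} [Group T] [Finite T]
    (hT : IsPGroup 2 T) (ha : 2 ^ 14 ≤ Nat.card T) (hb : Nat.card ↥(Subgroup.upperCentralSeries T 4) = 16)
    (W : Subgroup T) (hW : W = Subgroup.centralizer ((Subgroup.upperCentralSeries T 3 : Subgroup T) : Set T))
    (hc : Nat.card ↥(frattini ↥W) ≤ 8) (hd : ∀ U : Subgroup ↥W, U.index ≤ 16 → frattini ↥W ≤ U) :
    Nat.card T = 2 ^ 14 ∧
      (commutator ↥W).map W.subtype = Subgroup.upperCentralSeries T 3 ∧
      (frattini ↥W).map W.subtype = Subgroup.upperCentralSeries T 3 ∧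
      Nat.card ↥(Subgroup.center ↥W) = 8 ∧
      Nat.card ↥(Subgroup.upperCentralSeries T 3) = 8 ∧ (∀ z ∈ Subgroup.upperCentralSeries T 3, z ^ 2 = 1) ∧
      (∃ (_ : W.Normal), Nonempty (T ⧸ W ≃* DihedralGroup 4)) ∧
      Nat.card (↥W ⧸ commutator ↥W) = 2 ^ 8 ∧ (∀ x : ↥W ⧸ commutator ↥W, x ^ 2 = 1) := by
  subst hW
  haveI : Fact (Nat.Prime 2) := ⟨Nat.prime_two⟩
  obtain ⟨hcard, hfr, hidx, hWc, c1, c2, c3, r2, r1, r0⟩ := ru_first hT ha hb hc hd
  have hcm := ru_commutator hT c1 c2 c3 hfr hd
  have hWp : IsPGroup 2 ↥(Subgroup.centralizer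
      ((Subgroup.upperCentralSeries T 3 : Subgroup T) : Set T)) := hT.to_subgroup _
  have hFc := frattini_le_center_of_small hWp hc hd
  have hel : ∀ f ∈ Subgroup.upperCentralSeries T 3, f * f = 1 := by
    intro f hf
    rw [← hcm] at hf
    obtain ⟨d, hd', rfl⟩ := hf
    have := commutator_sq_eq_one hWp hFc d hd'
    exact congrArg Subtype.val this
  have hcen := ru_center hT c1 c2 c3 hb hWc r2 r1 r0 hfr hel hd
  haveI hWn : (Subgroup.centralizer
      ((Subgroup.upperCentralSeries T 3 : Subgroup T) : Set T)).Normal := inferInstance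
  have hD8 := ru_quotient_dihedral hT c1 c2 c3 hidx r2 r1 r0 hel
  set W := Subgroup.centralizer ((Subgroup.upperCentralSeries T 3 : Subgroup T) : Set T) with hWdef
  have hfc : frattini ↥W = commutator ↥W := by
    apply Subgroup.map_injective (Subgroup.subtype_injective W)
    rw [hfr, hcm]
  refine ⟨hcard, hcm, hfr, hcen, c3, ?_, ⟨hWn, hD8⟩, ?_, ?_⟩
  · intro z hz
    rw [pow_two]
    exact hel z hz
  · rw [← Subgroup.index_eq_card]
    have h1 := Subgroup.index_mul_card (commutator ↥W)
    have h2 : Nat.card ↥(commutator ↥W) = 8 := by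
      have e := Subgroup.card_map_of_injective (K := commutator ↥W) (Subgroup.subtype_injective W)
      rw [hcm] at e
      rw [← e, c3]
    rw [h2, hWc] at h1
    have h3 : (2 : ℕ) ^ 11 = 2 ^ 8 * 8 := by norm_num
    rw [h3] at h1
    exact Nat.eq_of_mul_eq_mul_right (by norm_num : 0 < 8) h1
  · intro x
    obtain ⟨w, rfl⟩ := QuotientGroup.mk_surjective x
    rw [← QuotientGroup.mk_pow, QuotientGroup.eq_one_iff, ← hfc]
    exact Cfsg.Agent.Lib.Helper2.pow_mem_frattini hWp w

end Cfsg.Agent.S3174
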