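import Cfsg.Statements.S3175
import Cfsg.Agent.Lib.Helper53.RuAut2
import Cfsg.Agent.Lib.Helper53.RuWeak
import Cfsg.Agent.Lib.Helper53.PGroupAux

set_option autoImplicit false
set_option linter.style.haveILetI false
open Cfsg

namespace Cfsg.Agent.S3175

open Cfsg.Agent.Lib.Helper53

/-- iterating conjugation by a normalizing element -/
theorem conjNormalizer_iterate {G : Type*} [Group G] (T : Subgroup G) (k : G)
    (hk : k ∈ Subgroup.normalizer (T : Set G)) (j : ℕ) (t : ↥T) :
    ((((conjNormalizer T k hk)^[j]) t : ↥T) : G) = k ^ j * t * (k ^ j)⁻¹ := by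
  induction j with
  | zero => simp
  | succ j ih =>
    rw [Function.iterate_succ_apply', conjNormalizer_apply, ih, pow_succ']
    group

/-- a Sylow `2`-subgroup all of whose odd-order automorphisms are trivial has a normal complement
in its normalizer -/
theorem hasNormalPComplement_normalizer {G : Type*} [Group G] [Finite G] (T : Sylow 2 G)
    (haut : ∀ (α : ↥(T : Subgroup G) ≃* ↥(T : Subgroup G)) (m : ℕ), Odd m →
      (∀ t, (α^[m]) t = t) → ∀ t, α t = t) :
    Cfsg.HasNormalPComplement 2 ↥(Subgroup.normalizer ((T : Subgroup G) : Set G)) := by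
  haveI : Fact (Nat.Prime 2) := ⟨Nat.prime_two⟩
  set N := Subgroup.normalizer ((T : Subgroup G) : Set G) with hNdef
  set P : Sylow 2 ↥N := T.subtype Subgroup.le_normalizer with hPdef
  have hPcoe : (P : Subgroup ↥N) = (T : Subgroup G).subgroupOf N := rfl
  haveI hPn : (P : Subgroup ↥N).Normal := by
    rw [hPcoe]
    exact Subgroup.normal_in_normalizer
  have hcop : Nat.Coprime (Nat.card ↥(P : Subgroup ↥N)) (P : Subgroup ↥N).index :=
    P.card_coprime_index
  obtain ⟨H, hH⟩ := Subgroup.exists_right_complement'_of_coprime hcop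
  have hHcard : Nat.card ↥H = (P : Subgroup ↥N).index := hH.symm.index_eq_card.symm
  have hHodd : Odd (Nat.card ↥H) := by
    rw [hHcard]
    have h1 : ¬ 2 ∣ (P : Subgroup ↥N).index := P.not_dvd_index
    exact Nat.odd_iff.2 (Nat.two_dvd_ne_zero.1 h1)
  -- every element of `H` centralizes `T`
  have hcent : ∀ h ∈ H, ∀ t ∈ (T : Subgroup G), (h : G) * t * (h : G)⁻¹ = t := by
    intro h hh t ht
    set α := conjNormalizer (T : Subgroup G) (h : G) h.2 with hαdef
    have hodd : Odd (orderOf h) := by
      have h1 : orderOf (⟨h, hh⟩ : ↥H) ∣ Nat.card ↥H := orderOf_dvd_natCard _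
      have h2 : orderOf (⟨h, hh⟩ : ↥H) = orderOf h := by
        rw [← Subgroup.orderOf_coe]
      rw [h2] at h1
      exact hHodd.of_dvd_nat h1
    have hpow : (h : G) ^ orderOf h = 1 := by
      have h1 : ((h ^ orderOf h : ↥N) : G) = ((1 : ↥N) : G) := by rw [pow_orderOf_eq_one h]
      rwa [Subgroup.coe_pow, Subgroup.coe_one] at h1
    have hiter : ∀ t, (α^[orderOf h]) t = t := by
      intro t
      apply Subtype.ext
      rw [hαdef, conjNormalizer_iterate, hpow]
      simp
    have := haut α (orderOf h) hodd hiter ⟨t, ht⟩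
    have h2 := congrArg Subtype.val this
    rw [hαdef, conjNormalizer_apply] at h2
    exact h2
  -- hence `H` is normal
  have hHn : H.Normal := by
    rw [← Subgroup.normalizer_eq_top_iff, eq_top_iff, ← hH.sup_eq_top]
    apply sup_le
    · intro p hp
      apply Subgroup.centralizer_le_normalizer
      rw [Subgroup.mem_centralizer_iff]
      intro h hh
      have hpT : (p : G) ∈ (T : Subgroup G) := by
        rw [hPcoe, Subgroup.mem_subgroupOf] at hp
        exact hp
      have h1 := hcent h hh (p : G) hpT
      apply Subtype.ext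
      show (h : G) * (p : G) = (p : G) * (h : G)
      calc (h : G) * (p : G) = ((h : G) * (p : G) * (h : G)⁻¹) * (h : G) := by group
        _ = (p : G) * (h : G) := by rw [h1]
    · exact Subgroup.le_normalizer
  exact ⟨P, H, hHn, hH.symm⟩

/-- Let G be a finite group whose Sylow 2-subgroup T has order at least 2^14 and whose upper central series has fourth term of order 16; let W be the centralizer in T of the third term, and suppose the Frattini subgroup of W has order at most 8 and lies in every subgroup of W of index at most 16. Then the normalizer of T in G has a normal 2-complement, and W is weakly closed in T with respect to G. -/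
theorem result {G : Type*} [Group G] [Finite G]
    (T : Sylow 2 G) (ha : 2 ^ 14 ≤ Nat.card ↥(T : Subgroup G))
    (hb : Nat.card ↥(Subgroup.upperCentralSeries ↥(T : Subgroup G) 4) = 16)
    (W : Subgroup ↥(T : Subgroup G))
    (hW : W = Subgroup.centralizer ((Subgroup.upperCentralSeries ↥(T : Subgroup G) 3 : Subgroup ↥(T : Subgroup G)) : Set ↥(T : Subgroup G)))
    (hc : Nat.card ↥(frattini ↥W) ≤ 8)
    (hd : ∀ U : Subgroup ↥W, U.index ≤ 16 → frattini ↥W ≤ U) :
    Cfsg.HasNormalPComplement 2 ↥(Subgroup.normalizer ((T : Subgroup G) : Set G)) ∧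
      Cfsg.IsWeaklyClosed (W.map (T : Subgroup G).subtype) (T : Subgroup G) := by
  subst hW
  haveI : Fact (Nat.Prime 2) := ⟨Nat.prime_two⟩
  have hTp : IsPGroup 2 ↥(T : Subgroup G) := T.isPGroup'
  constructor
  · apply hasNormalPComplement_normalizer T
    intro α m hm hα
    exact ru_aut_trivial hTp ha hb hc hd α m hm hα
  · refine ⟨Subgroup.map_subtype_le _, ?_⟩
    intro g hg
    set W := Subgroup.centralizer ((Subgroup.upperCentralSeries ↥(T : Subgroup G) 3 :
      Subgroup ↥(T : Subgroup G)) : Set ↥(T : Subgroup G)) with hWdef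
    set W' := W.map (T : Subgroup G).subtype with hW'def
    set Wg := W'.map (MulAut.conj g).toMonoidHom with hWgdef
    set W1 := Wg.subgroupOf (T : Subgroup G) with hW1def
    have e : ↥W ≃* ↥W1 :=
      ((W.equivMapOfInjective _ (Subgroup.subtype_injective _)).trans
        (W'.equivMapOfInjective _ (MulAut.conj g).injective)).trans
        (Subgroup.subgroupOfEquivOfLe hg).symm
    have h1 := ru_weak_closed hTp ha hb hc hd W1 e
    rw [← Subgroup.map_subgroupOf_eq_of_le hg, ← hW1def, h1]

end Cfsg.Agent.S3175
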