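import Cfsg.Statements.S3178
import Cfsg.Agent.Lib.Helper53.Modular
import Cfsg.Agent.Lib.Helper53.WeakClosure
import Cfsg.Agent.Lib.Helper53.NormalComplement
import Cfsg.Agent.Lib.Helper53.Transfer2

set_option autoImplicit false
open Cfsg

namespace Cfsg.Agent.S3178

open Cfsg.Agent.Lib.Helper53 Cfsg.Agent.Lib.Helper53.ModData

theorem mz2_sq : ∀ u : Multiplicative (ZMod 2), u ^ 2 = 1 := by decide

theorem mz2_cases : ∀ α β γ u v : Multiplicative (ZMod 2), α ≠ 1 → γ ≠ 1 →
    ((u, v) = ((1 : Multiplicative (ZMod 2)), (1 : Multiplicative (ZMod 2))) ∨ (u, v) = (1, γ) ∨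
      (u, v) = (α, β) ∨ (u, v) = (α, β * γ)) := by decide

theorem card_mz2_prod : Nat.card (Multiplicative (ZMod 2) × Multiplicative (ZMod 2)) = 4 := by
  rw [Nat.card_prod]
  simp [Nat.card_eq_fintype_card]

/-- two homomorphisms to the group of order two, "independent" on `a`, `b`: joint kernel has index 4 -/
theorem index_ker_inf {G : Type*} [Group G] (ψ₁ ψ₂ : G →* Multiplicative (ZMod 2)) (a b : G)
    (h1a : ψ₁ a ≠ 1) (h1b : ψ₁ b = 1) (h2b : ψ₂ b ≠ 1) : (ψ₁.ker ⊓ ψ₂.ker).index = 4 := by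
  have hker : ψ₁.ker ⊓ ψ₂.ker = (ψ₁.prod ψ₂).ker := (MonoidHom.ker_prod ψ₁ ψ₂).symm
  rw [hker, Subgroup.index_ker]
  have hr : (ψ₁.prod ψ₂).range = ⊤ := by
    rw [eq_top_iff]
    rintro ⟨u, v⟩ _
    rcases mz2_cases (ψ₁ a) (ψ₂ a) (ψ₂ b) u v h1a h2b with h | h | h | h
    · rw [h]; exact one_mem _
    · rw [h]; exact ⟨b, by simp [h1b]⟩
    · rw [h]; exact ⟨a, by simp⟩
    · rw [h]; exact ⟨a * b, by simp [h1b]⟩
  rw [hr]
  have : Nat.card ↥(⊤ : Subgroup (Multiplicative (ZMod 2) × Multiplicative (ZMod 2))) =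
      Nat.card (Multiplicative (ZMod 2) × Multiplicative (ZMod 2)) :=
    Nat.card_congr (Subgroup.topEquiv).toEquiv
  rw [this, card_mz2_prod]

/-- Groups with a modular Sylow 2-subgroup have a normal 2-complement. Let S, of order 2^(n+1) with n ≥ 3, be a Sylow 2-subgroup of a finite group G, and suppose S contains an element a of order 2^n and an involution b with b a b⁻¹ = a^(2^(n-1) + 1); so S is the non-abelian 2-group with a cyclic subgroup of index 2 that is neither dihedral, semidihedral nor generalized quaternion. Then G has a normal 2-complement. -/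
theorem result {G : Type*} [Group G] [Finite G]
    (S : Sylow 2 G) (n : ℕ) (hn : 3 ≤ n) (hS : Nat.card ↥(S : Subgroup G) = 2 ^ (n + 1))
    (a b : G) (ha : a ∈ (S : Subgroup G)) (hb : b ∈ (S : Subgroup G))
    (hao : orderOf a = 2 ^ n) (hbo : orderOf b = 2) (hrel : b * a * b⁻¹ = a ^ (2 ^ (n - 1) + 1)) :
    Cfsg.HasNormalPComplement 2 G := by
  classical
  haveI : Fact (Nat.Prime 2) := ⟨Nat.prime_two⟩
  have hD : ModData (S : Subgroup G) n a b := ⟨hn, hS, ha, hb, hao, hbo, hrel⟩
  have hn1 : 1 ≤ n := by omega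
  -- weak closure of M1 in S
  have hMwc : Cfsg.IsWeaklyClosed (M1 (S : Subgroup G) b) (S : Subgroup G) := by
    refine ⟨M1_le, fun g hg => ?_⟩
    have hle : (M1 (S : Subgroup G) b).map (MulAut.conj g).toMonoidHom ≤ M1 (S : Subgroup G) b := by
      intro y hy
      have hyS := hg hy
      obtain ⟨m, hm, rfl⟩ := hy
      by_contra hnot
      have h1 := hD.pow_of_not_mem_M1 _ hyS hnot
      have h2 : ((MulAut.conj g).toMonoidHom m) ^ 2 ^ (n - 1) = 1 := by
        rw [← map_pow, hD.pow_of_mem_M1 m hm, map_one]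
      rw [h2] at h1
      exact hD.z_ne_one h1.symm
    apply Subgroup.eq_of_le_of_card_ge hle
    rw [Subgroup.card_map_of_injective (MulAut.conj g).injective]
  -- b is not conjugate to z
  have hbz : ∀ g : G, g * a ^ 2 ^ (n - 1) * g⁻¹ ≠ b := by
    intro g hg
    have hzC : M1 (S : Subgroup G) b ≤ Subgroup.centralizer ({a ^ 2 ^ (n - 1)} : Set G) := by
      intro m hm
      rw [Subgroup.mem_centralizer_singleton_iff]
      exact hD.z_central m (M1_le hm)
    have hbC : M1 (S : Subgroup G) b ≤ Subgroup.centralizer ({b} : Set G) := inf_le_right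
    obtain ⟨h, hhN, hh⟩ := weaklyClosed_controls_conj S _ hMwc _ _ hzC hbC g hg
    have hy : h * a ^ 2 * h⁻¹ ∈ M1 (S : Subgroup G) b :=
      (Subgroup.mem_normalizer_iff.1 hhN _).1 hD.a_sq_mem_M1
    have hyp : (h * a ^ 2 * h⁻¹) ^ 2 ^ (n - 2) = b := by
      rw [conj_pow, hD.a_sq_pow, hh]
    have h3 := hD.pow_mem_zpowers _ (M1_le hy) (n - 2) (by omega)
    rw [hyp] at h3
    exact hD.b_not_mem h3
  -- the two transfer homomorphisms
  obtain ⟨ψ₁, hψ₁a, hψ₁b⟩ := exists_transfer_hom S (M1 (S : Subgroup G) b) hD.relIndex_M1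
  obtain ⟨ψ₂, hψ₂a, _⟩ := exists_transfer_hom S (Subgroup.zpowers a) hD.relIndex_zpowers
  have hb2 : b ^ 2 = 1 := by rw [pow_two]; exact hD.b_mul_self
  have h1a : ψ₁ a ≠ 1 := by
    apply hψ₁a n hn1 hD.order_gt a hao
    intro g hg
    have h1 := hD.pow_of_mem_M1 _ hg
    rw [conj_pow] at h1
    have h2 : a ^ 2 ^ (n - 1) = 1 := by
      calc a ^ 2 ^ (n - 1) = g⁻¹ * (g * a ^ 2 ^ (n - 1) * g⁻¹) * g := by group
        _ = 1 := by rw [h1]; group
    exact hD.z_ne_one h2
  have h1b : ψ₁ b = 1 := by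
    apply hψ₁b b hb2
    intro g hg
    apply hD.invol_mem_M1 _ hg
    rw [conj_pow, hb2]; group
  have h2b : ψ₂ b ≠ 1 := by
    apply hψ₂a 1 le_rfl _ b (by rw [hbo]; norm_num)
    · intro g hg
      have h1 : (g * b * g⁻¹) ^ 2 = 1 := by rw [conj_pow, hb2]; group
      rcases hD.invol_zpowers _ hg h1 with h2 | h2
      · have : b = 1 := by
          calc b = g⁻¹ * (g * b * g⁻¹) * g := by group
            _ = 1 := by rw [h2]; group
        rw [this, orderOf_one] at hbo
        omega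
      · apply hbz g⁻¹
        rw [← h2]; group
    · intro y hy hy'
      simp only [Nat.sub_self, pow_zero]
      have h1 : orderOf y ≠ 1 := by
        intro h
        rw [orderOf_eq_one_iff] at h
        apply hy'
        rw [h]; exact one_mem _
      have h2 : 0 < orderOf y := by
        obtain ⟨k0, hk0⟩ := hD.isPGroup ⟨y, hy⟩
        have hk0' : y ^ 2 ^ k0 = 1 := by
          have := congrArg Subtype.val hk0
          simpa using this
        exact orderOf_pos_iff.2 (isOfFinOrder_iff_pow_eq_one.2 ⟨2 ^ k0, by positivity, hk0'⟩)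
      omega
  -- the joint kernel
  have hKidx : (ψ₁.ker ⊓ ψ₂.ker).index = 4 := index_ker_inf ψ₁ ψ₂ a b h1a h1b h2b
  set K : Subgroup G := ψ₁.ker ⊓ ψ₂.ker with hKdef
  haveI hKn : K.Normal := by
    rw [hKdef]; infer_instance
  -- S ⊔ K = ⊤
  have hSK : (S : Subgroup G) ⊔ K = ⊤ := by
    rw [← Subgroup.index_eq_one]
    have h1 : ((S : Subgroup G) ⊔ K).index ∣ (S : Subgroup G).index := Subgroup.index_dvd_of_le le_sup_left
    have h2 : ((S : Subgroup G) ⊔ K).index ∣ K.index := Subgroup.index_dvd_of_le le_sup_right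
    rw [hKidx] at h2
    have h3 : Nat.Coprime ((S : Subgroup G).index) 4 := by
      have h4 : Nat.Coprime ((S : Subgroup G).index) 2 := by
        rw [Nat.coprime_comm, Nat.Prime.coprime_iff_not_dvd Nat.prime_two]
        exact S.not_dvd_index
      exact Nat.Coprime.pow_right 2 h4
    exact Nat.eq_one_of_dvd_coprimes h3 h1 h2
  have hrel : ((S : Subgroup G) ⊓ K).relIndex (S : Subgroup G) = 4 := by
    rw [Subgroup.inf_relIndex_left, ← Subgroup.relIndex_sup_right, hSK, Subgroup.relIndex_top_right, hKidx]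
  have hcardSK : Nat.card ↥((S : Subgroup G) ⊓ K) = 2 ^ (n - 1) := by
    have h1 : (⊥ : Subgroup G).relIndex ((S : Subgroup G) ⊓ K) * ((S : Subgroup G) ⊓ K).relIndex (S : Subgroup G) =
        (⊥ : Subgroup G).relIndex (S : Subgroup G) :=
      Subgroup.relIndex_mul_relIndex _ _ _ bot_le inf_le_left
    rw [Subgroup.relIndex_bot_left, Subgroup.relIndex_bot_left, hrel, hS] at h1
    have h2 : 2 ^ (n + 1) = 2 ^ (n - 1) * 4 := by
      have : n + 1 = (n - 1) + 2 := by omega
      rw [this, pow_add]; norm_num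
    rw [h2] at h1
    exact Nat.eq_of_mul_eq_mul_right (by norm_num) h1
  -- S ⊓ K is the cyclic group generated by a^2
  have haK : a ^ 2 ∈ K := by
    rw [hKdef, Subgroup.mem_inf, MonoidHom.mem_ker, MonoidHom.mem_ker, map_pow, map_pow, mz2_sq, mz2_sq]
    exact ⟨rfl, rfl⟩
  have hA2le : Subgroup.zpowers (a ^ 2) ≤ (S : Subgroup G) ⊓ K :=
    Subgroup.zpowers_le.2 (Subgroup.mem_inf.2 ⟨pow_mem ha 2, haK⟩)
  have hA2card : Nat.card ↥(Subgroup.zpowers (a ^ 2)) = 2 ^ (n - 1) := by
    rw [Nat.card_zpowers, orderOf_pow' _ (by norm_num), hao]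
    have h1 : Nat.gcd (2 ^ n) 2 = 2 := by
      apply Nat.gcd_eq_right
      exact dvd_pow_self 2 (by omega)
    rw [h1, hD.two_pow_eq]
    simp
  have hA2eq : Subgroup.zpowers (a ^ 2) = (S : Subgroup G) ⊓ K :=
    Subgroup.eq_of_le_of_card_ge hA2le (by rw [hcardSK, hA2card])
  -- a Sylow 2-subgroup of K
  have hQ : IsPGroup 2 ↥((S : Subgroup G).subgroupOf K) := S.2.comap_subtype
  have hcardK : Nat.card ↥K * 4 = Nat.card G := by
    rw [← hKidx]; exact Subgroup.card_mul_index K
  have hQodd : ¬ 2 ∣ ((S : Subgroup G).subgroupOf K).index := by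
    have h1 : (⊥ : Subgroup G).relIndex ((S : Subgroup G) ⊓ K) * ((S : Subgroup G) ⊓ K).relIndex K =
        (⊥ : Subgroup G).relIndex K :=
      Subgroup.relIndex_mul_relIndex _ _ _ bot_le inf_le_right
    rw [Subgroup.relIndex_bot_left, Subgroup.relIndex_bot_left, Subgroup.inf_relIndex_right, hcardSK] at h1
    have h2 : Nat.card ↥(S : Subgroup G) * (S : Subgroup G).index = Nat.card G := Subgroup.card_mul_index _
    rw [hS, ← hcardK, ← h1] at h2
    have h3 : 2 ^ (n + 1) = 2 ^ (n - 1) * 4 := by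
      have : n + 1 = (n - 1) + 2 := by omega
      rw [this, pow_add]; norm_num
    rw [h3] at h2
    have h4 : (S : Subgroup G).index = (S : Subgroup G).relIndex K := by
      have h5 : 2 ^ (n - 1) * 4 * (S : Subgroup G).index = 2 ^ (n - 1) * 4 * (S : Subgroup G).relIndex K := by
        rw [h2]; ring
      exact Nat.eq_of_mul_eq_mul_left (by positivity) h5
    show ¬ 2 ∣ (S : Subgroup G).relIndex K
    rw [← h4]; exact S.not_dvd_index
  let P' : Sylow 2 ↥K := hQ.toSylow hQodd
  have hP'coe : (P' : Subgroup ↥K) = (S : Subgroup G).subgroupOf K := rfl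
  have hP'cyc : IsCyclic ↥(P' : Subgroup ↥K) := by
    have e1 : ↥((S : Subgroup G).subgroupOf K) ≃* ↥(Subgroup.zpowers (a ^ 2)) := by
      have h1 : (S : Subgroup G).subgroupOf K = ((S : Subgroup G) ⊓ K).subgroupOf K :=
        (Subgroup.inf_subgroupOf_right _ _).symm
      rw [h1, ← hA2eq]
      exact Subgroup.subgroupOfEquivOfLe (by rw [hA2eq]; exact inf_le_right)
    rw [hP'coe]
    exact isCyclic_of_surjective e1.symm e1.symm.surjective
  have hKeven : (Nat.card ↥K).minFac = 2 := by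
    rw [Nat.minFac_eq_two_iff]
    have h1 : Nat.card ↥((S : Subgroup G) ⊓ K) ∣ Nat.card ↥K := Subgroup.card_dvd_of_le inf_le_right
    rw [hcardSK] at h1
    exact dvd_trans (dvd_pow_self 2 (by omega)) h1
  have hcompl := IsCyclic.isComplement' hKeven hP'cyc
  obtain ⟨hNn, hNc⟩ := normal_complement_lift S K 2 (by rw [hKidx]; norm_num)
    (MonoidHom.transferSylow P' (hP'cyc.normalizer_le_centralizer hKeven)).ker P' hcompl
  exact ⟨S, _, hNn, hNc⟩

end Cfsg.Agent.S3178
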