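import Cfsg.Statements.S3180
import Cfsg.Agent.Lib.Helper53.SylowAux

set_option autoImplicit false
open Cfsg

namespace Cfsg.Agent.S3180

/-- Let P be a Sylow p-subgroup of a finite group J and P₁ a subgroup of P that is weakly closed in P with respect to J. If J acts on a set and two points, each fixed by every element of P₁, lie in one J-orbit, then they lie in one orbit of the normalizer of P₁ in J. -/
theorem result {J : Type*} [Group J] [Finite J]
    {p : ℕ} [Fact p.Prime] (P : Sylow p J) (P₁ : Subgroup J) (hW : Cfsg.IsWeaklyClosed P₁ (P : Subgroup J))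
    {Ω : Type*} [MulAction J Ω] (x y : Ω) (hx : ∀ g ∈ P₁, g • x = x) (hy : ∀ g ∈ P₁, g • y = y)
    (hc : ∃ g : J, g • x = y) :
    ∃ g ∈ Subgroup.normalizer (P₁ : Set J), g • x = y := by
  obtain ⟨g, hg⟩ := hc
  obtain ⟨hW1, hW2⟩ := hW
  have hP₁p : IsPGroup p ↥P₁ := P.2.to_le hW1
  have hP₁St : P₁ ≤ MulAction.stabilizer J y := fun a ha => MulAction.mem_stabilizer_iff.2 (hy a ha)
  have hQSt : P₁.map (MulAut.conj g).toMonoidHom ≤ MulAction.stabilizer J y := by
    rintro _ ⟨a, ha, rfl⟩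
    rw [MulAction.mem_stabilizer_iff]
    show (g * a * g⁻¹) • y = y
    rw [← hg, mul_smul, mul_smul, inv_smul_smul, hx a ha]
  have hQp : IsPGroup p ↥(P₁.map (MulAut.conj g).toMonoidHom) := hP₁p.map _
  obtain ⟨h, hhSt, R, hR, hP₁R, hRSt, hQR⟩ :=
    Cfsg.Agent.Lib.Helper53.exists_conj_common_pgroup_rel (MulAction.stabilizer J y) P₁
      (P₁.map (MulAut.conj g).toMonoidHom) hP₁St hQSt hP₁p hQp
  obtain ⟨k, hk⟩ := Cfsg.Agent.Lib.Helper53.exists_conj_mem_sylow R hR P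
  have hk1 : P₁.map (MulAut.conj k).toMonoidHom = P₁ := by
    apply hW2
    rintro _ ⟨a, ha, rfl⟩
    exact hk a (hP₁R ha)
  have hk2 : P₁.map (MulAut.conj (k * h * g)).toMonoidHom = P₁ := by
    apply hW2
    rintro _ ⟨a, ha, rfl⟩
    have h1 : h * (g * a * g⁻¹) * h⁻¹ ∈ R := hQR _ ⟨a, ha, rfl⟩
    have h2 := hk _ h1
    show (k * h * g) * a * (k * h * g)⁻¹ ∈ _
    have h3 : (k * h * g) * a * (k * h * g)⁻¹ = k * (h * (g * a * g⁻¹) * h⁻¹) * k⁻¹ := by group
    rw [h3]; exact h2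
  have hkN : k ∈ Subgroup.normalizer (P₁ : Set J) := Subgroup.mem_normalizer_iff_map_conj_eq.2 hk1
  have hkhgN : k * h * g ∈ Subgroup.normalizer (P₁ : Set J) :=
    Subgroup.mem_normalizer_iff_map_conj_eq.2 hk2
  refine ⟨h * g, ?_, ?_⟩
  · have h4 : h * g = k⁻¹ * (k * h * g) := by group
    rw [h4]; exact mul_mem (inv_mem hkN) hkhgN
  · rw [mul_smul, hg]; exact MulAction.mem_stabilizer_iff.1 hhSt

end Cfsg.Agent.S3180
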