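import Cfsg.Statements.S3183
import Cfsg.Agent.Lib.Helper53.CenterMap
import Cfsg.Agent.Lib.Helper53.PGroupAux
import Cfsg.Agent.Lib.Helper33.SylowSub

set_option autoImplicit false
open Cfsg

namespace Cfsg.Agent.S3183

open Cfsg.Agent.Lib.Helper33 Cfsg.Agent.Lib.Helper53

theorem sylow_ne_not_le {G : Type*} [Group G] (S T : Sylow 2 G) (h : S ≠ T) :
    ¬ (S : Subgroup G) ≤ (T : Subgroup G) := by
  intro hle
  apply h
  exact Sylow.ext (S.is_maximal' T.2 hle).symm

theorem key {G : Type*} [Group G] [Finite G]
    (hCI : ∀ S T : Sylow 2 G, S ≠ T → ∃ U : Sylow 2 G,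
      (S : Subgroup G) ⊓ (T : Subgroup G) ≤ (Subgroup.center ↥(U : Subgroup G)).map (U : Subgroup G).subtype) :
    ∀ n : ℕ, ∀ S T : Sylow 2 G, S ≠ T →
      Nat.card G - Nat.card ↥((S : Subgroup G) ⊓ (T : Subgroup G)) = n →
      (S : Subgroup G) ⊓ (T : Subgroup G) ≤ (Subgroup.center ↥(S : Subgroup G)).map (S : Subgroup G).subtype := by
  classical
  haveI : Fact (Nat.Prime 2) := ⟨Nat.prime_two⟩
  intro n
  induction n using Nat.strong_induction_on with
  | _ n ih =>
    intro S T hST hn
    have hDS : (S : Subgroup G) ⊓ (T : Subgroup G) < (S : Subgroup G) := by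
      refine lt_of_le_of_ne inf_le_left ?_
      intro heq
      apply sylow_ne_not_le S T hST
      rw [← heq]; exact inf_le_right
    have hgrow := normalizer_growth S.2 hDS
    by_cases hdvd : 2 ∣ ((S : Subgroup G) ⊓ Subgroup.normalizer (((S : Subgroup G) ⊓ (T : Subgroup G) : Subgroup G) : Set G)).relIndex
        (Subgroup.normalizer (((S : Subgroup G) ⊓ (T : Subgroup G) : Subgroup G) : Set G))
    · -- Case B
      obtain ⟨K, hSK, hKN, hK2, hrel, _⟩ := exists_pgroup_step _ _ inf_le_right (S.2.to_le inf_le_left) hdvd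
      obtain ⟨S', hKS'⟩ := hK2.exists_le_sylow
      have hSS' : S ≠ S' := by
        intro h
        subst h
        have h1 : K ≤ (S : Subgroup G) ⊓ Subgroup.normalizer (((S : Subgroup G) ⊓ (T : Subgroup G) : Subgroup G) : Set G) :=
          le_inf hKS' hKN
        have h2 := Subgroup.relIndex_eq_one.2 h1
        rw [hrel] at h2
        omega
      have hle : (S : Subgroup G) ⊓ Subgroup.normalizer (((S : Subgroup G) ⊓ (T : Subgroup G) : Subgroup G) : Set G) ≤
          (S : Subgroup G) ⊓ (S' : Subgroup G) := le_inf inf_le_left (le_trans hSK hKS')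
      have hlt : (S : Subgroup G) ⊓ (T : Subgroup G) < (S : Subgroup G) ⊓ (S' : Subgroup G) :=
        lt_of_lt_of_le hgrow hle
      have hcardlt : Nat.card ↥((S : Subgroup G) ⊓ (T : Subgroup G)) < Nat.card ↥((S : Subgroup G) ⊓ (S' : Subgroup G)) :=
        by
          by_contra hnot
          push_neg at hnot
          exact hlt.ne (Subgroup.eq_of_le_of_card_ge hlt.le hnot)
      have hcardle : Nat.card ↥((S : Subgroup G) ⊓ (S' : Subgroup G)) ≤ Nat.card G :=
        Subgroup.card_le_card_group _
      have := ih (Nat.card G - Nat.card ↥((S : Subgroup G) ⊓ (S' : Subgroup G))) (by omega) S S' hSS' rfl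
      exact le_trans hlt.le this
    · -- Case A
      obtain ⟨U, hU⟩ := hCI S T hST
      have hUN : (U : Subgroup G) ≤ Subgroup.normalizer (((S : Subgroup G) ⊓ (T : Subgroup G) : Subgroup G) : Set G) := by
        intro u hu
        rw [Subgroup.mem_normalizer_iff]
        intro d
        have hcomm : ∀ d ∈ (S : Subgroup G) ⊓ (T : Subgroup G), u * d * u⁻¹ = d := by
          intro d hd
          have h1 := ((mem_map_center (U : Subgroup G) d).1 (hU hd)).2 u hu
          rw [h1]; group
        constructor
        · intro hd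
          rw [hcomm d hd]; exact hd
        · intro hd
          have h2 := hcomm _ hd
          have h3 : d = u⁻¹ * (u * d * u⁻¹) * u := by group
          have h4 : u * d * u⁻¹ = u⁻¹ * (u * d * u⁻¹) * u := by
            have h5 := ((mem_map_center (U : Subgroup G) _).1 (hU hd)).2 u hu
            calc u * d * u⁻¹ = u⁻¹ * (u * (u * d * u⁻¹)) * u⁻¹ * u := by group
              _ = u⁻¹ * ((u * d * u⁻¹) * u) * u⁻¹ * u := by rw [h5]
              _ = u⁻¹ * (u * d * u⁻¹) * u := by group
          rw [h3, ← h4]; exact hd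
      obtain ⟨c, hcN, hcU⟩ := sylow_sub (K := Subgroup.normalizer (((S : Subgroup G) ⊓ (T : Subgroup G) : Subgroup G) : Set G))
        (P := (S : Subgroup G) ⊓ Subgroup.normalizer (((S : Subgroup G) ⊓ (T : Subgroup G) : Subgroup G) : Set G))
        (H := (U : Subgroup G)) inf_le_right (S.2.to_le inf_le_left) hdvd hUN U.2
      have hcUS : cj c (U : Subgroup G) = (S : Subgroup G) := by
        have h1 : ((c • U : Sylow 2 G) : Subgroup G) ≤ (S : Subgroup G) := by
          rw [sylow_coe_smul]; exact le_trans hcU inf_le_left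
        have h2 := (c • U).is_maximal' S.2 h1
        rw [← sylow_coe_smul, h2]
      intro d hd
      rw [mem_map_center]
      refine ⟨hd.1, fun s hs => ?_⟩
      have hd' : c⁻¹ * d * c ∈ (S : Subgroup G) ⊓ (T : Subgroup G) := by
        have hc' : c⁻¹ ∈ Subgroup.normalizer (((S : Subgroup G) ⊓ (T : Subgroup G) : Subgroup G) : Set G) := inv_mem hcN
        have := (Subgroup.mem_normalizer_iff.1 hc' d).1 hd
        simpa using this
      have hs' : c⁻¹ * s * c ∈ (U : Subgroup G) := by
        rw [← hcUS] at hs
        exact mem_cj.1 hs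
      have h1 := ((mem_map_center (U : Subgroup G) _).1 (hU hd')).2 _ hs'
      calc s * d = c * ((c⁻¹ * s * c) * (c⁻¹ * d * c)) * c⁻¹ := by group
        _ = c * ((c⁻¹ * d * c) * (c⁻¹ * s * c)) * c⁻¹ := by rw [h1]
        _ = d * s := by group

/-- Let G be a finite group in which the intersection of any two distinct Sylow 2-subgroups is contained in the centre of some Sylow 2-subgroup, and let S be a Sylow 2-subgroup. Then for every x in S the centralizer of x in S is a Sylow 2-subgroup of the centralizer of x in G (no 2-subgroup centralizing x is larger), and for every other Sylow 2-subgroup T the intersection S ∩ T lies in both the centre of S and the centre of T. -/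
theorem result {G : Type*} [Group G] [Finite G]
    (hCI : ∀ S T : Sylow 2 G, S ≠ T → ∃ U : Sylow 2 G,
      (S : Subgroup G) ⊓ (T : Subgroup G) ≤ (Subgroup.center ↥(U : Subgroup G)).map (U : Subgroup G).subtype)
    (S : Sylow 2 G) :
    (∀ x ∈ (S : Subgroup G), ∀ P : Subgroup G, IsPGroup 2 ↥P → P ≤ Subgroup.centralizer ({x} : Set G) →
        Nat.card ↥P ≤ Nat.card ↥((S : Subgroup G) ⊓ Subgroup.centralizer ({x} : Set G))) ∧
    (∀ T : Sylow 2 G, T ≠ S →
        (S : Subgroup G) ⊓ (T : Subgroup G) ≤
          (Subgroup.center ↥(S : Subgroup G)).map (S : Subgroup G).subtype ⊓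
            (Subgroup.center ↥(T : Subgroup G)).map (T : Subgroup G).subtype) := by
  classical
  haveI : Fact (Nat.Prime 2) := ⟨Nat.prime_two⟩
  have hkey := key hCI
  refine ⟨?_, ?_⟩
  · intro x hx P hP hPC
    have hodd : ¬ 2 ∣ ((S : Subgroup G) ⊓ Subgroup.centralizer ({x} : Set G)).relIndex (Subgroup.centralizer ({x} : Set G)) := by
      intro hdvd
      obtain ⟨K, hSK, hKC, hK2, hrel, _⟩ := exists_pgroup_step _ _ inf_le_right (S.2.to_le inf_le_left) hdvd
      obtain ⟨S', hKS'⟩ := hK2.exists_le_sylow
      have hSS' : S ≠ S' := by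
        intro h
        subst h
        have h1 : K ≤ (S : Subgroup G) ⊓ Subgroup.centralizer ({x} : Set G) := le_inf hKS' hKC
        have h2 := Subgroup.relIndex_eq_one.2 h1
        rw [hrel] at h2
        omega
      have hxC : x ∈ Subgroup.centralizer ({x} : Set G) := by
        rw [Subgroup.mem_centralizer_singleton_iff]
      have hxSS' : x ∈ (S : Subgroup G) ⊓ (S' : Subgroup G) :=
        ⟨hx, hKS' (hSK ⟨hx, hxC⟩)⟩
      have hxZ := hkey _ S S' hSS' rfl hxSS'
      have hSC : (S : Subgroup G) ≤ Subgroup.centralizer ({x} : Set G) := by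
        intro s hs
        rw [Subgroup.mem_centralizer_singleton_iff]
        exact (((mem_map_center (S : Subgroup G) x).1 hxZ).2 s hs)
      have hKS : K ≤ (S : Subgroup G) := by
        have h3 : (S : Subgroup G) ≤ K := le_trans (le_inf le_rfl hSC) hSK
        have h4 := S.is_maximal' hK2 h3
        rw [h4]
      have h1 : K ≤ (S : Subgroup G) ⊓ Subgroup.centralizer ({x} : Set G) := le_inf hKS hKC
      have h2 := Subgroup.relIndex_eq_one.2 h1
      rw [hrel] at h2
      omega
    obtain ⟨c, _, hcP⟩ := sylow_sub (K := Subgroup.centralizer ({x} : Set G))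
      (P := (S : Subgroup G) ⊓ Subgroup.centralizer ({x} : Set G)) (H := P)
      inf_le_right (S.2.to_le inf_le_left) hodd hPC hP
    rw [← card_cj c P]
    exact Subgroup.card_le_of_le hcP
  · intro T hTS
    refine le_inf (hkey _ S T (Ne.symm hTS) rfl) ?_
    have := hkey _ T S hTS rfl
    rw [inf_comm]
    exact this

end Cfsg.Agent.S3183
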