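import Cfsg.Statements.S3184
import Cfsg.Agent.S0215
import Cfsg.Agent.Lib.Helper22.Fitting
-- import your own Cfsg.Agent.* helpers here

set_option autoImplicit false
open Cfsg

namespace Cfsg.Agent.S3184

/-- A finite cyclic group has at most one element of order two. -/
theorem invol_unique_of_cyclic {C : Type*} [Group C] [Finite C] [IsCyclic C] (a b : C)
    (ha : orderOf a = 2) (hb : orderOf b = 2) : a = b := by
  classical
  have : Fintype C := Fintype.ofFinite C
  have hd : 2 ∣ Fintype.card C := by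
    rw [← ha]; exact orderOf_dvd_card
  have hcard := IsCyclic.card_orderOf_eq_totient (α := C) hd
  rw [Nat.totient_two] at hcard
  rw [Finset.card_eq_one] at hcard
  obtain ⟨x, hx⟩ := hcard
  have h1 : a ∈ ({x} : Finset C) := by rw [← hx]; simp [ha]
  have h2 : b ∈ ({x} : Finset C) := by rw [← hx]; simp [hb]
  rw [Finset.mem_singleton] at h1 h2
  rw [h1, h2]

/-- Conjugation by an element of the normalizer, as an automorphism of the subgroup. -/
def conjAut {G : Type*} [Group G] (S : Subgroup G) (n : G)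
    (hn : n ∈ Subgroup.normalizer (S : Set G)) : ↥S ≃* ↥S where
  toFun s := ⟨n * s * n⁻¹, (Subgroup.mem_normalizer_iff.mp hn s).mp s.2⟩
  invFun s := ⟨n⁻¹ * s * n, by
    have h := (Subgroup.mem_normalizer_iff.mp hn (n⁻¹ * s * n)).mpr
    apply h
    have : n * (n⁻¹ * ↑s * n) * n⁻¹ = (s : G) := by group
    rw [this]; exact s.2⟩
  left_inv s := by
    apply Subtype.ext
    show n⁻¹ * (n * (s : G) * n⁻¹) * n = s
    group
  right_inv s := by
    apply Subtype.ext
    show n * (n⁻¹ * (s : G) * n) * n⁻¹ = s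
    group
  map_mul' a b := by
    apply Subtype.ext
    show n * ((a : G) * b) * n⁻¹ = (n * a * n⁻¹) * (n * b * n⁻¹)
    group

/-- The involution of a cyclic characteristic subgroup of `S` is fixed by `N_G(S)`. -/
theorem normalizer_fixes {G : Type*} [Group G] [Finite G] (S : Subgroup G)
    (C : Subgroup ↥S) (hCc : IsCyclic ↥C) (hCh : C.Characteristic)
    (c : ↥S) (hc : c ∈ C) (hc2 : orderOf c = 2) (n : G)
    (hn : n ∈ Subgroup.normalizer (S : Set G)) : n * (c : G) * n⁻¹ = c := by
  have hfix := Subgroup.characteristic_iff_map_eq.mp hCh (conjAut S n hn)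
  have hmem : (conjAut S n hn) c ∈ C := by
    rw [← hfix]
    exact Subgroup.mem_map_of_mem _ hc
  have ho : orderOf ((conjAut S n hn) c) = 2 := by
    rw [MulEquiv.orderOf_eq]; exact hc2
  have h1 : orderOf (⟨c, hc⟩ : ↥C) = 2 := by
    rw [← hc2]; exact Subgroup.orderOf_mk c hc
  have h2 : orderOf (⟨(conjAut S n hn) c, hmem⟩ : ↥C) = 2 := by
    rw [← ho]; exact Subgroup.orderOf_mk _ hmem
  have heq := invol_unique_of_cyclic (⟨(conjAut S n hn) c, hmem⟩ : ↥C) ⟨c, hc⟩ h2 h1
  have heq' : (conjAut S n hn) c = c := congrArg Subtype.val heq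
  exact congrArg Subtype.val heq'

/-- Let G be a finite group in which the intersection of any two distinct Sylow 2-subgroups is contained in the centre of some Sylow 2-subgroup, and let S be a Sylow 2-subgroup. If C is a nontrivial cyclic characteristic subgroup of S, then the involution of C is central modulo the largest normal subgroup of odd order of G: each of its conjugates has the same image in G/O(G). -/
theorem result {G : Type*} [Group G] [Finite G]
    (hCI : ∀ S T : Sylow 2 G, S ≠ T → ∃ U : Sylow 2 G,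
      (S : Subgroup G) ⊓ (T : Subgroup G) ≤ (Subgroup.center ↥(U : Subgroup G)).map (U : Subgroup G).subtype)
    (S : Sylow 2 G) (C : Subgroup ↥(S : Subgroup G)) (hC : C ≠ ⊥) (hCc : IsCyclic ↥C) (hCh : C.Characteristic)
    (c : ↥(S : Subgroup G)) (hc : c ∈ C) (hc2 : orderOf c = 2) :
    ∀ g : G, (QuotientGroup.mk (s := Cfsg.oddCore G) (g * (c : G) * g⁻¹)) =
      QuotientGroup.mk (s := Cfsg.oddCore G) (c : G) := by
  classical
  have : Fact (Nat.Prime 2) := ⟨Nat.prime_two⟩
  set z : G := (c : G) with hz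
  have hz2 : orderOf z = 2 := by
    rw [hz, Subgroup.orderOf_coe]; exact hc2
  have hzS : z ∈ (S : Subgroup G) := c.2
  -- Lemma K
  have hK : ∀ n : G, n ∈ Subgroup.normalizer ((S : Subgroup G) : Set G) → n * z * n⁻¹ = z :=
    fun n hn => normalizer_fixes (S : Subgroup G) C hCc hCh c hc hc2 n hn
  -- z centralizes S
  have hzc : z ∈ Subgroup.centralizer ((S : Subgroup G) : Set G) := by
    rw [Subgroup.mem_centralizer_iff]
    intro s hs
    have h := hK s (Subgroup.le_normalizer hs)
    -- s * z * s⁻¹ = z  →  s * z = z * s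
    calc s * z = (s * z * s⁻¹) * s := by group
      _ = z * s := by rw [h]
  -- Lemma B (Burnside)
  have hB : ∀ a : G, a * z * a⁻¹ ∈ Subgroup.centralizer ((S : Subgroup G) : Set G) → a * z * a⁻¹ = z := by
    intro a ha
    have hy : (a⁻¹)⁻¹ * z * a⁻¹ ∈ Subgroup.centralizer ((S : Subgroup G) : Set G) := by
      rw [inv_inv]; exact ha
    obtain ⟨n, hn, hn2⟩ := Sylow.conj_eq_normalizer_conj_of_mem_centralizer S z a⁻¹ hzc hy
    rw [inv_inv] at hn2
    rw [hn2]
    have h := hK n⁻¹ (inv_mem hn)
    rw [inv_inv] at h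
    exact h
  -- isolation in the Sylow sense
  have hiso : ∀ g : G, g * z * g⁻¹ ∈ S → g * z * g⁻¹ = z := by
    intro g hg
    by_contra hne
    set u : G := g * z * g⁻¹ with hu
    -- z commutes with u
    have hzu : z * u = u * z := by
      have := (Subgroup.mem_centralizer_iff.mp hzc) u hg
      exact this.symm
    -- the Sylow g • S lies in C_G(u)
    have hQle : ((g • S : Sylow 2 G) : Subgroup G) ≤ Subgroup.centralizer ({u} : Set G) := by
      intro x hx
      rw [Sylow.smul_def, Sylow.pointwise_smul_def, Subgroup.mem_pointwise_smul_iff_inv_smul_mem] at hx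
      rw [Subgroup.mem_centralizer_singleton_iff]
      have hx' : g⁻¹ * x * g ∈ (S : Subgroup G) := by
        simpa [MulAut.smul_def] using hx
      have hcomm := (Subgroup.mem_centralizer_iff.mp hzc) _ hx'
      -- (g⁻¹ x g) z = z (g⁻¹ x g)  ⇒  x u = u x
      rw [hu]
      calc x * (g * z * g⁻¹) = g * ((g⁻¹ * x * g) * z) * g⁻¹ := by group
        _ = g * (z * (g⁻¹ * x * g)) * g⁻¹ := by rw [hcomm]
        _ = g * z * g⁻¹ * x := by group
    -- K = C_S(u) as a 2-subgroup of C_G(u)
    set Cu : Subgroup G := Subgroup.centralizer ({u} : Set G) with hCu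
    have hKp : IsPGroup 2 (((S : Subgroup G) ⊓ Cu).subgroupOf Cu) := by
      have h1 : IsPGroup 2 ((S : Subgroup G) ⊓ Cu : Subgroup G) := S.isPGroup'.to_le inf_le_left
      exact h1.comap_subtype
    obtain ⟨P', hP'⟩ := hKp.exists_le_sylow
    obtain ⟨cc, hcc⟩ := MulAction.exists_smul_eq (↥Cu) ((g • S).subtype hQle) P'
    -- h := cc * g
    set h : G := (cc : G) * g with hh
    have hS1 : ((cc : G) • (g • S) : Sylow 2 G) = h • S := by
      rw [hh, mul_smul]
    -- z ∈ h • S
    have hz_mem : z ∈ ((h • S : Sylow 2 G) : Subgroup G) := by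
      have hzCu : z ∈ Cu := Subgroup.mem_centralizer_singleton_iff.mpr hzu
      have hzK : (⟨z, hzCu⟩ : ↥Cu) ∈ ((S : Subgroup G) ⊓ Cu).subgroupOf Cu := by
        rw [Subgroup.mem_subgroupOf]
        exact ⟨hzS, hzCu⟩
      have h1 := hP' hzK
      rw [← hcc, Sylow.smul_subtype] at h1
      rw [Sylow.coe_subtype, Subgroup.mem_subgroupOf] at h1
      rw [← hS1]
      exact h1
    -- u = h z h⁻¹
    have hcu : (cc : G) * u = u * cc := by
      have h2 : (cc : G) ∈ Subgroup.centralizer ({u} : Set G) := cc.2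
      exact Subgroup.mem_centralizer_singleton_iff.mp h2
    have hu' : h * z * h⁻¹ = u := by
      rw [hh, hu]
      calc (cc : G) * g * z * ((cc : G) * g)⁻¹ = (cc : G) * (g * z * g⁻¹) * (cc : G)⁻¹ := by group
        _ = (g * z * g⁻¹) * cc * (cc : G)⁻¹ := by rw [← hu, hcu]
        _ = g * z * g⁻¹ := by group
    -- u ∈ h • S
    have hu_mem : u ∈ ((h • S : Sylow 2 G) : Subgroup G) := by
      rw [Sylow.smul_def, Sylow.pointwise_smul_def, Subgroup.mem_pointwise_smul_iff_inv_smul_mem]
      have : h⁻¹ * u * h = z := by rw [← hu']; group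
      simpa [MulAut.smul_def, this] using hzS
    by_cases hSS : S = h • S
    · -- h normalizes S
      have hn : h ∈ Subgroup.normalizer ((S : Subgroup G) : Set G) :=
        Sylow.smul_eq_iff_mem_normalizer.mp hSS.symm
      have := hK h hn
      rw [hu'] at this
      exact hne this
    · obtain ⟨U, hU⟩ := hCI S (h • S) hSS
      obtain ⟨k, hk⟩ := MulAction.exists_smul_eq G S U
      -- elements of S ∩ (h • S) centralize U
      have hcent : ∀ x : G, x ∈ (S : Subgroup G) → x ∈ ((h • S : Sylow 2 G) : Subgroup G) →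
          ∀ s ∈ (S : Subgroup G), (k⁻¹ * x * k) * s = s * (k⁻¹ * x * k) := by
        intro x hx1 hx2 s hs
        obtain ⟨y, hy, hyx⟩ := Subgroup.mem_map.mp (hU ⟨hx1, hx2⟩)
        have hksk : k * s * k⁻¹ ∈ (U : Subgroup G) := by
          rw [← hk, Sylow.smul_def, Sylow.pointwise_smul_def,
            Subgroup.mem_pointwise_smul_iff_inv_smul_mem]
          have : k⁻¹ * (k * s * k⁻¹) * k = s := by group
          rw [MulAut.smul_def, MulAut.conj_inv_apply, this]
          exact hs
        have hcomm := Subgroup.mem_center_iff.mp hy ⟨k * s * k⁻¹, hksk⟩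
        have hcomm' : (k * s * k⁻¹) * x = x * (k * s * k⁻¹) := by
          have := congrArg Subtype.val hcomm
          simpa [← hyx] using this
        calc (k⁻¹ * x * k) * s = k⁻¹ * (x * (k * s * k⁻¹)) * k := by group
          _ = k⁻¹ * ((k * s * k⁻¹) * x) * k := by rw [hcomm']
          _ = s * (k⁻¹ * x * k) := by group
      have h1 : k⁻¹ * z * (k⁻¹)⁻¹ = z := by
        apply hB
        rw [Subgroup.mem_centralizer_iff]
        intro s hs
        have := hcent z hzS hz_mem s hs
        rw [inv_inv]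
        exact this.symm
      have h2 : (k⁻¹ * g) * z * (k⁻¹ * g)⁻¹ = z := by
        apply hB
        rw [Subgroup.mem_centralizer_iff]
        intro s hs
        have := hcent u hg hu_mem s hs
        have e : (k⁻¹ * g) * z * (k⁻¹ * g)⁻¹ = k⁻¹ * u * k := by rw [hu]; group
        rw [e]
        exact this.symm
      apply hne
      have e1 : k⁻¹ * u * k = k⁻¹ * z * k := by
        have e : (k⁻¹ * g) * z * (k⁻¹ * g)⁻¹ = k⁻¹ * u * k := by rw [hu]; group
        rw [← e, h2]
        rw [inv_inv] at h1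
        exact h1.symm
      calc u = k * (k⁻¹ * u * k) * k⁻¹ := by group
        _ = k * (k⁻¹ * z * k) * k⁻¹ := by rw [e1]
        _ = z := by group
  -- apply Z*
  obtain ⟨N, hNn, hNodd, hNc⟩ := Cfsg.Agent.S0215.result S z hz2 hzS hiso
  have hNle : N ≤ Cfsg.oddCore G := by
    apply Cfsg.Agent.Lib.Helper22.le_pPrimeCore' hNn
    exact Nat.coprime_two_right.mpr hNodd
  intro g
  rw [QuotientGroup.eq]
  apply hNle
  have hzinv : z⁻¹ = z := by
    have : z * z = 1 := by
      have := pow_orderOf_eq_one z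
      rw [hz2, pow_two] at this
      exact this
    exact inv_eq_of_mul_eq_one_left this
  have h := N.inv_mem (hNc g)
  have e : (z * g * z⁻¹ * g⁻¹)⁻¹ = (g * z * g⁻¹)⁻¹ * z := by
    have e1 : (z * g * z⁻¹ * g⁻¹)⁻¹ = g * z * g⁻¹ * z⁻¹ := by group
    have e2 : (g * z * g⁻¹)⁻¹ * z = g * z⁻¹ * g⁻¹ * z := by group
    rw [e1, e2, hzinv]
  rw [← e]
  exact h

end Cfsg.Agent.S3184
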