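import Cfsg.Statements.S3190
import Cfsg.Agent.Lib.Helper53.CenterMeet

set_option autoImplicit false
open Cfsg

namespace Cfsg.Agent.S3190

theorem mem_map_center {X : Type*} [Group X] (H : Subgroup X) (a : X) :
    a ∈ (Subgroup.center ↥H).map H.subtype ↔ a ∈ H ∧ ∀ h ∈ H, h * a = a * h := by
  constructor
  · rintro ⟨a', ha', rfl⟩
    refine ⟨a'.2, fun h hh => ?_⟩
    have := Subgroup.mem_center_iff.1 ha' ⟨h, hh⟩
    exact congrArg Subtype.val this
  · rintro ⟨haH, hcomm⟩
    refine ⟨⟨a, haH⟩, Subgroup.mem_center_iff.2 ?_, rfl⟩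
    intro g
    apply Subtype.ext
    exact hcomm g g.2

theorem conj_mem_map_center {X : Type*} [Group X] (R : Subgroup X) (c a : X)
    (hc : c ∈ Subgroup.normalizer (R : Set X))
    (ha : a ∈ (Subgroup.center ↥R).map R.subtype) :
    c * a * c⁻¹ ∈ (Subgroup.center ↥R).map R.subtype := by
  rw [mem_map_center] at ha ⊢
  obtain ⟨haR, hcomm⟩ := ha
  refine ⟨(Subgroup.mem_normalizer_iff.1 hc a).1 haR, fun r hr => ?_⟩
  have hc' : c⁻¹ ∈ Subgroup.normalizer (R : Set X) := inv_mem hc
  have hr' : c⁻¹ * r * c ∈ R := by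
    have := (Subgroup.mem_normalizer_iff.1 hc' r).1 hr
    simpa using this
  have h1 := hcomm _ hr'
  calc r * (c * a * c⁻¹) = c * ((c⁻¹ * r * c) * a) * c⁻¹ := by group
    _ = c * (a * (c⁻¹ * r * c)) * c⁻¹ := by rw [h1]
    _ = c * a * c⁻¹ * r := by group

/-- Let p be an odd prime and, inside a finite group, let P be a p-subgroup normalized by a Klein four-group T. Let R be a subgroup of P, normal in P and normalized by T, such that P is the product of R with the centralizer of T in P. If T centralizes the centre of P, then T centralizes the centre of R. -/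
theorem result {X : Type*} [Group X] [Finite X]
    {p : ℕ} (hp : p.Prime) (hodd : Odd p) (P T R : Subgroup X) (hP : IsPGroup p ↥P) (hT : IsKleinFour ↥T)
    (hTP : T ≤ Subgroup.normalizer (P : Set X)) (hRP : R ≤ P) (hRn : (R.subgroupOf P).Normal)
    (hTR : T ≤ Subgroup.normalizer (R : Set X)) (hfac : R ⊔ (P ⊓ Subgroup.centralizer (T : Set X)) = P)
    (hZ : T ≤ Subgroup.centralizer (((Subgroup.center ↥P).map P.subtype : Subgroup X) : Set X)) :
    T ≤ Subgroup.centralizer (((Subgroup.center ↥R).map R.subtype : Subgroup X) : Set X) := by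
  classical
  haveI : Fact p.Prime := ⟨hp⟩
  intro t ht
  -- t ^ 2 = 1
  have ht2 : t * t = 1 := by
    have h1 : (⟨t, ht⟩ : ↥T) ^ 2 = 1 := by
      have := Monoid.pow_exponent_eq_one (⟨t, ht⟩ : ↥T)
      rwa [hT.exponent_two] at this
    have h2 := congrArg Subtype.val h1
    simpa [pow_two] using h2
  have htinv : t⁻¹ = t := inv_eq_of_mul_eq_one_left ht2
  have htR : t ∈ Subgroup.normalizer (R : Set X) := hTR ht
  have hPR : P ≤ Subgroup.normalizer (R : Set X) :=
    (Subgroup.normal_subgroupOf_iff_le_normalizer hRP).1 hRn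
  -- the subgroup of inverted elements
  let B : Subgroup X :=
    { carrier := {a | a ∈ (Subgroup.center ↥R).map R.subtype ∧ t * a * t⁻¹ = a⁻¹}
      one_mem' := ⟨one_mem _, by simp⟩
      mul_mem' := by
        rintro a b ⟨ha, hat⟩ ⟨hb, hbt⟩
        refine ⟨mul_mem ha hb, ?_⟩
        have hab : a * b = b * a := by
          have h1 := ((mem_map_center R b).1 hb).2 a ((mem_map_center R a).1 ha).1
          exact h1
        calc t * (a * b) * t⁻¹ = (t * a * t⁻¹) * (t * b * t⁻¹) := by group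
          _ = a⁻¹ * b⁻¹ := by rw [hat, hbt]
          _ = (b * a)⁻¹ := by group
          _ = (a * b)⁻¹ := by rw [hab]
      inv_mem' := by
        rintro a ⟨ha, hat⟩
        refine ⟨inv_mem ha, ?_⟩
        calc t * a⁻¹ * t⁻¹ = (t * a * t⁻¹)⁻¹ := by group
          _ = (a⁻¹)⁻¹ := by rw [hat] }
  have hBmem : ∀ a, a ∈ B ↔ a ∈ (Subgroup.center ↥R).map R.subtype ∧ t * a * t⁻¹ = a⁻¹ :=
    fun a => Iff.rfl
  have hBR : B ≤ R := fun a ha => ((mem_map_center R a).1 ((hBmem a).1 ha).1).1
  have hBP : B ≤ P := le_trans hBR hRP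
  -- B is normalized by P
  have hconjR : ∀ r ∈ R, ∀ b ∈ B, r * b * r⁻¹ = b := by
    intro r hr b hb
    have h1 := ((mem_map_center R b).1 ((hBmem b).1 hb).1).2 r hr
    calc r * b * r⁻¹ = (r * b) * r⁻¹ := by group
      _ = (b * r) * r⁻¹ := by rw [h1]
      _ = b := by group
  have hconjC : ∀ c ∈ P ⊓ Subgroup.centralizer (T : Set X), ∀ b ∈ B, c * b * c⁻¹ ∈ B := by
    intro c hc b hb
    obtain ⟨hcP, hcT⟩ := Subgroup.mem_inf.1 hc
    rw [hBmem] at hb ⊢
    refine ⟨conj_mem_map_center R c b (hPR hcP) hb.1, ?_⟩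
    have hct : t * c = c * t := Subgroup.mem_centralizer_iff.1 hcT t ht
    have hct' : t * c⁻¹ = c⁻¹ * t := by
      calc t * c⁻¹ = c⁻¹ * (c * t) * c⁻¹ := by group
        _ = c⁻¹ * (t * c) * c⁻¹ := by rw [hct]
        _ = c⁻¹ * t := by group
    calc t * (c * b * c⁻¹) * t⁻¹ = (t * c) * b * c⁻¹ * t⁻¹ := by group
      _ = (c * t) * b * c⁻¹ * t⁻¹ := by rw [hct]
      _ = c * (t * b * t⁻¹) * (t * c⁻¹) * t⁻¹ := by group
      _ = c * b⁻¹ * (c⁻¹ * t) * t⁻¹ := by rw [hb.2, hct']
      _ = (c * b * c⁻¹)⁻¹ := by group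
  have hPN : P ≤ Subgroup.normalizer (B : Set X) := by
    rw [← hfac]
    apply sup_le
    · intro r hr
      rw [Subgroup.mem_normalizer_iff]
      intro h
      constructor
      · intro hh
        rw [hconjR r hr h hh]; exact hh
      · intro hh
        have h2 := hconjR r⁻¹ (inv_mem hr) _ hh
        have h3 : r⁻¹ * (r * h * r⁻¹) * r⁻¹⁻¹ = h := by group
        rw [h3] at h2
        rw [h2]; exact hh
    · intro c hc
      rw [Subgroup.mem_normalizer_iff]
      intro h
      constructor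
      · intro hh
        exact hconjC c hc h hh
      · intro hh
        have h2 := hconjC c⁻¹ (inv_mem hc) _ hh
        have h3 : c⁻¹ * (c * h * c⁻¹) * c⁻¹⁻¹ = h := by group
        rw [h3] at h2
        exact h2
  haveI hBn : (B.subgroupOf P).Normal := (Subgroup.normal_subgroupOf_iff_le_normalizer hBP).2 hPN
  -- B is trivial
  have hBbot : B = ⊥ := by
    by_contra hne
    have hne' : B.subgroupOf P ≠ ⊥ := by
      intro h
      apply hne
      rw [Subgroup.subgroupOf_eq_bot] at h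
      rw [eq_bot_iff]
      intro b hb
      have : b ∈ B ⊓ P := ⟨hb, hBP hb⟩
      exact (h.le_bot this)
    obtain ⟨b', hb'B, hb'1, hb'Z⟩ :=
      Cfsg.Agent.Lib.Helper53.normal_meets_center hP (B.subgroupOf P) hne'
    have hbB : (b' : X) ∈ B := Subgroup.mem_subgroupOf.1 hb'B
    have hbZ : (b' : X) ∈ (Subgroup.center ↥P).map P.subtype := ⟨b', hb'Z, rfl⟩
    have hcomm : (b' : X) * t = t * (b' : X) := Subgroup.mem_centralizer_iff.1 (hZ ht) _ hbZ
    have hinv : t * (b' : X) * t⁻¹ = (b' : X)⁻¹ := ((hBmem _).1 hbB).2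
    have hsq : (b' : X) * (b' : X) = 1 := by
      have h1 : t * (b' : X) * t⁻¹ = (b' : X) := by
        rw [← hcomm]; group
      rw [h1] at hinv
      calc (b' : X) * (b' : X) = (b' : X) * (b' : X)⁻¹ := by rw [← hinv]
        _ = 1 := by group
    have hsq' : b' ^ 2 = 1 := by
      apply Subtype.ext
      simpa [pow_two] using hsq
    obtain ⟨k, hk⟩ := hP b'
    have hord : orderOf b' ∣ Nat.gcd 2 (p ^ k) :=
      Nat.dvd_gcd (orderOf_dvd_of_pow_eq_one hsq') (orderOf_dvd_of_pow_eq_one hk)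
    have hcop : Nat.gcd 2 (p ^ k) = 1 := by
      apply Nat.Coprime.pow_right
      rw [Nat.coprime_comm]
      exact Nat.Coprime.symm (Nat.coprime_two_left.2 hodd)
    rw [hcop, Nat.dvd_one, orderOf_eq_one_iff] at hord
    exact hb'1 hord
  -- conclude
  rw [Subgroup.mem_centralizer_iff]
  intro a ha
  have hta : t * a * t⁻¹ ∈ (Subgroup.center ↥R).map R.subtype := conj_mem_map_center R t a htR ha
  have hcB : a * (t * a * t⁻¹)⁻¹ ∈ B := by
    rw [hBmem]
    refine ⟨mul_mem ha (inv_mem hta), ?_⟩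
    simp only [mul_inv_rev, inv_inv, htinv, mul_assoc, ht2, mul_one]
  rw [hBbot, Subgroup.mem_bot] at hcB
  have h5 : a = t * a * t⁻¹ := by
    calc a = (a * (t * a * t⁻¹)⁻¹) * (t * a * t⁻¹) := by group
      _ = t * a * t⁻¹ := by rw [hcB, one_mul]
  calc a * t = (t * a * t⁻¹) * t := by rw [← h5]
    _ = t * a := by group

end Cfsg.Agent.S3190
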