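import Cfsg.Statements.S3200
import Cfsg.Agent.Lib.Helper3.Burnside
import Cfsg.Agent.Lib.Helper63.AbelianTwoIndex
import Cfsg.Agent.Lib.Helper76.PComplement
import Cfsg.Agent.Lib.Helper53.SolvPSolv

set_option autoImplicit false
set_option linter.style.haveILetI false
open Cfsg

namespace Cfsg.Agent.S3200

open Cfsg.Agent.Lib.Helper76 Cfsg.Agent.Lib.Helper33

universe u

theorem burnsideClass : Cfsg.Agent.Lib.Helper63.BurnsideClass.{u} := by
  intro G _ _ _ p k hp g hg hidx
  haveI : Fintype G := Fintype.ofFinite G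
  exact Cfsg.Agent.Lib.Helper3.prime_card_of_simple_of_class_prime_pow p k hp g hg hidx

/-- A `2`-complement together with any Sylow `2`-subgroup gives a pair of complements. -/
theorem isComplement'_of_isPCompl {G : Type*} [Group G] [Finite G] (P : Sylow 2 G)
    (D : Subgroup G) (hD : IsPCompl 2 D) : Subgroup.IsComplement' (P : Subgroup G) D := by
  haveI : Fact (Nat.Prime 2) := ⟨Nat.prime_two⟩
  obtain ⟨hc, n, hn⟩ := hD
  have h1 : Nat.card D * 2 ^ n = Nat.card G := by rw [← hn]; exact D.card_mul_index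
  have h2 : Nat.card (P : Subgroup G) = 2 ^ n := by
    rw [Sylow.card_eq_multiplicity, ← h1]
    congr 1
    have hD0 : Nat.card D ≠ 0 := Nat.card_pos.ne'
    rw [Nat.factorization_mul hD0 (by positivity)]
    have h3 : (Nat.card D).factorization 2 = 0 := by
      apply Nat.factorization_eq_zero_of_not_dvd
      intro hdvd
      have := Nat.Coprime.eq_one_of_dvd hc.symm hdvd
      omega
    simp [h3, Nat.Prime.factorization_self Nat.prime_two]
  apply Subgroup.isComplement'_of_coprime
  · rw [h2, mul_comm]; exact h1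
  · rw [h2]
    exact (Nat.Coprime.pow_right n hc).symm

theorem core {H : Type u} [Group H] [Finite H]
    (S : Sylow 2 H) (C : Subgroup H) (hC : IsMulCommutative ↥C) (hSC : Subgroup.IsComplement' (S : Subgroup H) C) :
    Group.IsSolvable H ∧
    (∀ L : Subgroup H, ∃ (P : Sylow 2 ↥L) (D : Subgroup ↥L), IsMulCommutative ↥D ∧ Subgroup.IsComplement' (P : Subgroup ↥L) D) ∧
    (∀ (N : Subgroup H) [N.Normal], ∃ (P : Sylow 2 (H ⧸ N)) (D : Subgroup (H ⧸ N)),
      IsMulCommutative ↥D ∧ Subgroup.IsComplement' (P : Subgroup (H ⧸ N)) D) := by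
  haveI : Fact (Nat.Prime 2) := ⟨Nat.prime_two⟩
  -- `C` is a `2`-complement
  have hcard : Nat.card (S : Subgroup H) * Nat.card C = Nat.card H := hSC.card_mul_card
  obtain ⟨k, hk⟩ := IsPGroup.iff_card.1 S.isPGroup'
  have hidx : C.index = 2 ^ k := by
    have h1 := C.card_mul_index
    have hpos : 0 < Nat.card C := Nat.card_pos
    have h2 : Nat.card C * C.index = Nat.card C * Nat.card (S : Subgroup H) := by
      rw [h1, ← hcard, mul_comm]
    have := Nat.eq_of_mul_eq_mul_left hpos h2
    rw [this, hk]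
  have hCodd : (Nat.card C).Coprime 2 := by
    have h1 : Nat.card C = (S : Subgroup H).index := by
      have h2 := (S : Subgroup H).card_mul_index
      have hpos : 0 < Nat.card (S : Subgroup H) := Nat.card_pos
      rw [← hcard] at h2
      exact (Nat.eq_of_mul_eq_mul_left hpos h2).symm
    rw [h1, Nat.coprime_comm, Nat.Prime.coprime_iff_not_dvd Nat.prime_two]
    exact S.not_dvd_index
  have hCc : IsPCompl 2 C := ⟨hCodd, k, hidx⟩
  have hsolv : Group.IsSolvable H :=
    Cfsg.Agent.Lib.Helper63.solvable_of_abelian_two_power_index burnsideClass C hC ⟨k, hidx⟩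
  have hps : IsPSolvable 2 H := Cfsg.Agent.Lib.Helper53.isPSolvable_of_isSolvable 2 hsolv
  refine ⟨hsolv, ?_, ?_⟩
  · intro L
    have hpsL : IsPSolvable 2 L := isPSolvable_subgroup L hps
    obtain ⟨D, hD⟩ := exists_isPCompl hpsL
    have hDmap : (Nat.card (D.map L.subtype)).Coprime 2 := by
      rw [Subgroup.card_map_of_injective L.subtype_injective]; exact hD.1
    obtain ⟨g, hg⟩ := isPCompl_dominates hps hCc hDmap
    refine ⟨default, D, ?_, isComplement'_of_isPCompl _ D hD⟩
    refine ⟨⟨fun a b => ?_⟩⟩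
    have ha : g * ((a : L) : H) * g⁻¹ ∈ C :=
      hg (mem_cj'.2 ⟨_, Subgroup.mem_map_of_mem _ a.2, rfl⟩)
    have hb : g * ((b : L) : H) * g⁻¹ ∈ C :=
      hg (mem_cj'.2 ⟨_, Subgroup.mem_map_of_mem _ b.2, rfl⟩)
    have hab : (⟨_, ha⟩ : C) * ⟨_, hb⟩ = ⟨_, hb⟩ * ⟨_, ha⟩ := hC.is_comm.comm _ _
    have hab' := congrArg Subtype.val hab
    simp only [Subgroup.coe_mul] at hab'
    have h3 : ((a : L) : H) * ((b : L) : H) = ((b : L) : H) * ((a : L) : H) := by
      have e1 : g * ((a : L) : H) * g⁻¹ * (g * ((b : L) : H) * g⁻¹)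
          = g * (((a : L) : H) * ((b : L) : H)) * g⁻¹ := by group
      have e2 : g * ((b : L) : H) * g⁻¹ * (g * ((a : L) : H) * g⁻¹)
          = g * (((b : L) : H) * ((a : L) : H)) * g⁻¹ := by group
      rw [e1, e2] at hab'
      exact mul_left_cancel (mul_right_cancel hab')
    apply Subtype.ext
    apply Subtype.ext
    simpa using h3
  · intro N _
    refine ⟨default, C.map (QuotientGroup.mk' N), ?_, ?_⟩
    · exact Subgroup.map_isMulCommutative C _
    · exact isComplement'_of_isPCompl _ _ (hCc.map _ (QuotientGroup.mk'_surjective N))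

/-- Let H be a finite group in which a Sylow 2-subgroup has an abelian complement (an abelian subgroup meeting it trivially whose product with it is all of H). Then H is solvable, and every subgroup and every quotient group of H again has a Sylow 2-subgroup with an abelian complement. -/
theorem result {H : Type*} [Group H] [Finite H]
    (S : Sylow 2 H) (C : Subgroup H) (hC : IsMulCommutative ↥C) (hSC : Subgroup.IsComplement' (S : Subgroup H) C) :
    Group.IsSolvable H ∧
    (∀ L : Subgroup H, ∃ (P : Sylow 2 ↥L) (D : Subgroup ↥L), IsMulCommutative ↥D ∧ Subgroup.IsComplement' (P : Subgroup ↥L) D) ∧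
    (∀ (N : Subgroup H) [N.Normal], ∃ (P : Sylow 2 (H ⧸ N)) (D : Subgroup (H ⧸ N)),
      IsMulCommutative ↥D ∧ Subgroup.IsComplement' (P : Subgroup (H ⧸ N)) D) := by
  exact core S C hC hSC

end Cfsg.Agent.S3200
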