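import Cfsg.Statements.S3201
import Cfsg.Agent.Lib.Helper53.UniqInv3
import Cfsg.Agent.Lib.Helper2.PGroup

set_option autoImplicit false
open Cfsg

namespace Cfsg.Agent.S3201

open Cfsg.Agent.Lib.Helper53 Cfsg.Agent.Lib.Helper2

/-- Let S be a finite 2-group whose centre Z(S) has n ≥ 2 distinct maximal subgroups C₁, …, Cₙ with trivial intersection such that each quotient S/Cᵢ is a non-abelian group with exactly one involution (a generalized quaternion group). Then S is the internal direct product of an elementary abelian subgroup and a non-abelian subgroup with exactly one involution. -/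
theorem result {S : Type*} [Group S] [Finite S]
    (hS : IsPGroup 2 S) (n : ℕ) (hn : 2 ≤ n) (C : Fin n → Subgroup ↥(Subgroup.center S))
    (hCmax : ∀ i, IsCoatom (C i)) (hCinj : Function.Injective C) (hCint : ⨅ i, C i = ⊥)
    (hCq : ∀ i, ∃ (_ : ((C i).map (Subgroup.center S).subtype).Normal),
      ¬ IsMulCommutative (S ⧸ (C i).map (Subgroup.center S).subtype) ∧
      ∃! x : S ⧸ (C i).map (Subgroup.center S).subtype, orderOf x = 2) :
    ∃ E Q : Subgroup S, Cfsg.IsInternalDirectProduct E Q ⊤ ∧ Cfsg.IsElementaryAbelian 2 E ∧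
      ¬ IsMulCommutative ↥Q ∧ ∃! x : ↥Q, orderOf x = 2 := by
  classical
  have : Fact (Nat.Prime 2) := ⟨Nat.prime_two⟩
  have hZp : IsPGroup 2 ↥(Subgroup.center S) := hS.to_subgroup _
  let D : Fin n → Subgroup S := fun i => (C i).map (Subgroup.center S).subtype
  have hDn : ∀ i, (D i).Normal := fun i => (hCq i).choose
  have hnon : Nonempty (Fin n) := ⟨⟨0, by omega⟩⟩
  have hCidx : ∀ i, (C i).index = 2 := by
    intro i
    have := coatom_normal hZp (C i) (hCmax i)
    rw [Subgroup.index_eq_card]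
    exact coatom_card_quotient hZp (C i) (hCmax i)
  have hmemD : ∀ i (x : S) (hx : x ∈ Subgroup.center S),
      x ∈ D i ↔ (⟨x, hx⟩ : ↥(Subgroup.center S)) ∈ C i := by
    intro i x hx
    constructor
    · rintro ⟨d, hd, hdx⟩
      have : d = ⟨x, hx⟩ := Subtype.ext hdx
      rw [← this]; exact hd
    · intro h
      exact ⟨⟨x, hx⟩, h, rfl⟩
  have h1 : ∀ i, D i ≤ Subgroup.center S := by
    intro i
    rintro _ ⟨d, -, rfl⟩
    exact d.2
  have h2 : ∀ i, ∀ x ∈ Subgroup.center S, x * x ∈ D i := by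
    intro i x hx
    rw [hmemD i _ (Subgroup.mul_mem _ hx hx)]
    exact Subgroup.mul_self_mem_of_index_two (hCidx i) ⟨x, hx⟩
  have h3 : ∀ i, ∀ x ∈ Subgroup.center S, ∀ y ∈ Subgroup.center S, x ∉ D i → y ∉ D i →
      x * y⁻¹ ∈ D i := by
    intro i x hx y hy hxD hyD
    rw [hmemD i _ (Subgroup.mul_mem _ hx (Subgroup.inv_mem _ hy))]
    rw [hmemD i x hx] at hxD
    rw [hmemD i y hy] at hyD
    have := (Subgroup.mul_mem_iff_of_index_two (hCidx i)
      (a := (⟨x, hx⟩ : ↥(Subgroup.center S))) (b := (⟨y, hy⟩ : ↥(Subgroup.center S))⁻¹)).2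
      ⟨fun h => absurd h hxD, fun h => absurd ((Subgroup.inv_mem_iff _).1 h) hyD⟩
    exact this
  have h4 : ∀ i, ∃ x ∈ Subgroup.center S, x ∉ D i := by
    intro i
    obtain ⟨x, -, hx⟩ := SetLike.exists_of_lt (lt_top_iff_ne_top.2 (hCmax i).1)
    refine ⟨x.1, x.2, ?_⟩
    rw [hmemD i x.1 x.2]
    exact hx
  have h5 : ∀ x : S, (∀ i, x ∈ D i) → x = 1 := by
    intro x hx
    have hxZ : x ∈ Subgroup.center S := h1 _ (hx hnon.some)
    have : (⟨x, hxZ⟩ : ↥(Subgroup.center S)) ∈ ⨅ i, C i := by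
      rw [Subgroup.mem_iInf]
      intro i
      exact (hmemD i x hxZ).1 (hx i)
    rw [hCint, Subgroup.mem_bot] at this
    exact congrArg Subtype.val this
  have h6 : ∀ i, ¬ IsMulCommutative (S ⧸ D i) ∧ ∃! x : S ⧸ D i, orderOf x = 2 :=
    fun i => (hCq i).choose_spec
  obtain ⟨E, Q, hcomm, hinf, hsup, hE, ⟨a, haQ, b, hbQ, hab⟩, z₀, hz₀Q, hz₀1, hz₀sq, hzuniq⟩ :=
    quaternion_times_elementary hS D h1 h2 h3 h4 h5 h6
  refine ⟨E, Q, ⟨le_top, le_top, hcomm, hinf, hsup⟩, ⟨?_, ?_⟩, ?_, ?_⟩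
  · refine ⟨⟨fun x y => ?_⟩⟩
    apply Subtype.ext
    exact ((Subgroup.mem_center_iff.1 (hE x.1 x.2).1) y.1).symm
  · intro e he
    rw [pow_two]; exact (hE e he).2
  · intro hc
    apply hab
    have := hc.is_comm.comm (⟨a, haQ⟩ : ↥Q) ⟨b, hbQ⟩
    exact congrArg Subtype.val this
  · refine ⟨⟨z₀, hz₀Q⟩, ?_, ?_⟩
    · apply orderOf_eq_prime
      · apply Subtype.ext
        change z₀ ^ 2 = 1
        rw [pow_two]; exact hz₀sq
      · intro h
        exact hz₀1 (congrArg Subtype.val h)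
    · intro t ht
      have ht2 : (t : S) * (t : S) = 1 := by
        have := pow_orderOf_eq_one t
        rw [ht, pow_two] at this
        exact congrArg Subtype.val this
      rcases hzuniq t.1 t.2 ht2 with h | h
      · exfalso
        have : t = 1 := Subtype.ext h
        rw [this, orderOf_one] at ht
        norm_num at ht
      · exact Subtype.ext h

end Cfsg.Agent.S3201
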