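import Cfsg.Statements.S3202
import Cfsg.Agent.Lib.Helper53.UniqInv2
import Cfsg.Agent.Lib.Helper73.CyclicMax

set_option autoImplicit false
open Cfsg

namespace Cfsg.Agent.S3202

open Cfsg.Agent.Lib.Helper53 Cfsg.Agent.Lib.Helper73
open scoped commutatorElement

/-- If `S / D` (with `D` central) is a nonabelian 2-group with a unique involution then the
commutator subgroup of `S` is cyclic. -/
theorem commutator_cyclic {S : Type*} [Group S] [Finite S] (hS : IsPGroup 2 S)
    (D : Subgroup S) [hDn : D.Normal] (hDc : D ≤ Subgroup.center S)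
    (hnc : ¬ IsMulCommutative (S ⧸ D)) (huniq : ∃! x : S ⧸ D, orderOf x = 2) :
    ∃ c : S, commutator S ≤ Subgroup.zpowers c := by
  classical
  obtain ⟨zb, hzb, hzu⟩ := huniq
  have hQ : IsPGroup 2 (S ⧸ D) := hS.to_quotient D
  have hna : ∃ x y : S ⧸ D, x * y ≠ y * x := by
    by_contra hcon
    simp only [not_exists, not_not] at hcon
    exact hnc ⟨⟨hcon⟩⟩
  obtain ⟨ab, hab⟩ := ui_exists_cyclic_index_two hQ hzb hzu hna
  obtain ⟨a, rfl⟩ := QuotientGroup.mk_surjective ab
  set X : Subgroup S := (Subgroup.zpowers (a : S ⧸ D)).comap (QuotientGroup.mk' D) with hX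
  have hXidx : X.index = 2 := by
    rw [hX, Subgroup.index_comap_of_surjective _ (QuotientGroup.mk'_surjective D)]
    exact hab
  have hXn : X.Normal := Subgroup.normal_of_index_eq_two hXidx
  -- elements of X are a^i * d
  have hXform : ∀ x ∈ X, ∃ i : ℤ, ∃ d ∈ D, x = a ^ i * d := by
    intro x hx
    rw [hX, Subgroup.mem_comap, QuotientGroup.mk'_apply] at hx
    obtain ⟨i, hi⟩ := Subgroup.mem_zpowers_iff.1 hx
    refine ⟨i, (a ^ i)⁻¹ * x, ?_, by group⟩
    rw [← QuotientGroup.eq]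
    rw [← hi]
    simp
  have hDcent : ∀ d ∈ D, ∀ g : S, d * g = g * d := fun d hd g =>
    ((Subgroup.mem_center_iff.1 (hDc hd)) g).symm
  have hXc : ∀ x ∈ X, ∀ y ∈ X, x * y = y * x := by
    intro x hx y hy
    obtain ⟨i, d₁, hd₁, rfl⟩ := hXform x hx
    obtain ⟨j, d₂, hd₂, rfl⟩ := hXform y hy
    have c1 : Commute (a ^ i) (a ^ j) := (Commute.refl a).zpow_zpow i j
    calc a ^ i * d₁ * (a ^ j * d₂) = a ^ i * (d₁ * (a ^ j * d₂)) := by group
      _ = a ^ i * ((a ^ j * d₂) * d₁) := by rw [hDcent d₁ hd₁]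
      _ = (a ^ i * a ^ j) * d₂ * d₁ := by group
      _ = (a ^ j * a ^ i) * d₂ * d₁ := by rw [c1.eq]
      _ = a ^ j * (a ^ i * d₂) * d₁ := by group
      _ = a ^ j * (d₂ * a ^ i) * d₁ := by rw [hDcent d₂ hd₂ (a ^ i)]
      _ = a ^ j * d₂ * (a ^ i * d₁) := by group
  -- b outside X
  have hXtop : X ≠ ⊤ := by
    intro h
    rw [h, Subgroup.index_top] at hXidx
    norm_num at hXidx
  obtain ⟨b, -, hb⟩ := SetLike.exists_of_lt (lt_top_iff_ne_top.2 hXtop)
  have haX : a ∈ X := by
    rw [hX, Subgroup.mem_comap, QuotientGroup.mk'_apply]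
    exact Subgroup.mem_zpowers _
  have hle := commutator_le_range_tauHom X hXc hXidx b hb
  refine ⟨tauHom X hXc b ⟨a, haX⟩, hle.trans ?_⟩
  rintro _ ⟨x, rfl⟩
  obtain ⟨i, d, hd, hxd⟩ := hXform x.1 x.2
  have hdX : d ∈ X := by
    rw [hX, Subgroup.mem_comap, QuotientGroup.mk'_apply, (QuotientGroup.eq_one_iff d).2 hd]
    exact Subgroup.one_mem _
  have hxeq : x = (⟨a, haX⟩ : ↥X) ^ i * ⟨d, hdX⟩ := by
    apply Subtype.ext
    rw [hxd]
    simp
  have hτd : tauHom X hXc b ⟨d, hdX⟩ = 1 := by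
    rw [tauHom_apply]
    change d * b * d⁻¹ * b⁻¹ = 1
    rw [hDcent d hd b]; group
  rw [hxeq, map_mul, map_zpow, hτd, mul_one]
  exact Subgroup.zpow_mem _ (Subgroup.mem_zpowers _) i

/-- Let S be a finite 2-group of 2-rank exactly 2 and D a maximal subgroup of the centre of S such that S/D is a non-abelian group with exactly one involution (a generalized quaternion group). Then S has a nontrivial cyclic characteristic subgroup. -/
theorem result {S : Type*} [Group S]
    [Finite S] (hS : IsPGroup 2 S) (hr2 : Cfsg.PRankLE 2 2 S) (hr1 : ¬ Cfsg.PRankLE 2 1 S)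
    (D : Subgroup ↥(Subgroup.center S)) (hD : IsCoatom D)
    (hq : ∃ (_ : (D.map (Subgroup.center S).subtype).Normal),
      ¬ IsMulCommutative (S ⧸ D.map (Subgroup.center S).subtype) ∧
      ∃! x : S ⧸ D.map (Subgroup.center S).subtype, orderOf x = 2) :
    ∃ C : Subgroup S, C ≠ ⊥ ∧ IsCyclic ↥C ∧ C.Characteristic := by
  classical
  obtain ⟨hDn, hnc, huniq⟩ := hq
  have hDc : D.map (Subgroup.center S).subtype ≤ Subgroup.center S := by
    rintro _ ⟨d, -, rfl⟩
    exact d.2
  obtain ⟨c, hc⟩ := commutator_cyclic hS (D.map (Subgroup.center S).subtype) hDc hnc huniq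
  refine ⟨commutator S, ?_, ?_, ?_⟩
  · intro hbot
    apply hnc
    have hcomm : ∀ x y : S, x * y = y * x := by
      intro x y
      have : ⁅x, y⁆ ∈ commutator S := by
        rw [commutator_def]
        exact Subgroup.commutator_mem_commutator (Subgroup.mem_top x) (Subgroup.mem_top y)
      rw [hbot, Subgroup.mem_bot, commutatorElement_eq_one_iff_mul_comm] at this
      exact this
    refine ⟨⟨fun x y => ?_⟩⟩
    obtain ⟨x, rfl⟩ := QuotientGroup.mk_surjective x
    obtain ⟨y, rfl⟩ := QuotientGroup.mk_surjective y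
    rw [← QuotientGroup.mk_mul, ← QuotientGroup.mk_mul, hcomm]
  · exact Subgroup.isCyclic_of_le hc
  · rw [commutator_def]
    infer_instance

end Cfsg.Agent.S3202
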