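import Cfsg.Statements.S3203
import Cfsg.Agent.Lib.Helper33.SylowSub

set_option autoImplicit false
open Cfsg

namespace Cfsg.Agent.S3203

open Cfsg.Agent.Lib.Helper33

/-- elementary abelian 2-subgroup, stated elementwise in the ambient group -/
def EA {G : Type*} [Group G] (X : Subgroup G) : Prop :=
  (∀ x ∈ X, ∀ y ∈ X, x * y = y * x) ∧ ∀ x ∈ X, x ^ 2 = 1

theorem EA_cj {G : Type*} [Group G] (g : G) (X : Subgroup G) (h : EA X) : EA (cj g X) := by
  constructor
  · intro x hx y hy
    have hx' := mem_cj.1 hx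
    have hy' := mem_cj.1 hy
    have := h.1 _ hx' _ hy'
    calc x * y = g * ((g⁻¹ * x * g) * (g⁻¹ * y * g)) * g⁻¹ := by group
      _ = g * ((g⁻¹ * y * g) * (g⁻¹ * x * g)) * g⁻¹ := by rw [this]
      _ = y * x := by group
  · intro x hx
    have hx' := mem_cj.1 hx
    have := h.2 _ hx'
    calc x ^ 2 = g * (g⁻¹ * x * g) ^ 2 * g⁻¹ := by simp only [pow_two]; group
      _ = 1 := by rw [this]; group

theorem EA_mono {G : Type*} [Group G] {X Y : Subgroup G} (hXY : X ≤ Y) (h : EA Y) : EA X :=
  ⟨fun x hx y hy => h.1 x (hXY hx) y (hXY hy), fun x hx => h.2 x (hXY hx)⟩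

/-- The symmetric package of hypotheses in the ambient group. -/
structure Pack {G : Type*} [Group G] (S A B : Subgroup G) : Prop where
  hAS : A ≤ S
  hBS : B ≤ S
  hne : A ≠ B
  hAea : EA A
  hBea : EA B
  hAmax : ∀ X : Subgroup G, X ≤ S → EA X → A ≤ X → X = A
  hBmax : ∀ X : Subgroup G, X ≤ S → EA X → B ≤ X → X = B
  honly : ∀ X : Subgroup G, X ≤ S → EA X →
    (∀ Y : Subgroup G, Y ≤ S → EA Y → X ≤ Y → Y = X) → X = A ∨ X = B
  hprod : ∀ s ∈ S, ∃ a ∈ A, ∃ b ∈ B, a * b = s

theorem Pack.symm {G : Type*} [Group G] {S A B : Subgroup G} (h : Pack S A B) : Pack S B A where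
  hAS := h.hBS
  hBS := h.hAS
  hne := h.hne.symm
  hAea := h.hBea
  hBea := h.hAea
  hAmax := h.hBmax
  hBmax := h.hAmax
  honly := fun X hXS hX hm => (h.honly X hXS hX hm).symm
  hprod := by
    intro s hs
    obtain ⟨a, ha, b, hb, hab⟩ := h.hprod s⁻¹ (inv_mem hs)
    refine ⟨b⁻¹, inv_mem hb, a⁻¹, inv_mem ha, ?_⟩
    rw [← mul_inv_rev, hab, inv_inv]

/-- every elementary abelian subgroup of `S` lies in `A` or `B` -/
theorem Pack.le_or_le {G : Type*} [Group G] [Finite G] {S A B : Subgroup G} (h : Pack S A B)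
    (X : Subgroup G) (hXS : X ≤ S) (hX : EA X) : X ≤ A ∨ X ≤ B := by
  obtain ⟨Y, hXY, hY⟩ := Finite.exists_le_maximal (p := fun Z : Subgroup G => Z ≤ S ∧ EA Z) (a := X) ⟨hXS, hX⟩
  have hYmax : ∀ Z : Subgroup G, Z ≤ S → EA Z → Y ≤ Z → Z = Y := by
    intro Z hZS hZ hYZ
    exact le_antisymm (hY.2 ⟨hZS, hZ⟩ hYZ) hYZ
  rcases h.honly Y hY.1.1 hY.1.2 hYmax with rfl | rfl
  · exact Or.inl hXY
  · exact Or.inr hXY

/-- maximality is preserved by conjugation by elements normalizing `S` -/
theorem Pack.cj_mem_pair {G : Type*} [Group G] [Finite G] {S A B : Subgroup G} (h : Pack S A B)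
    (g : G) (hg : cj g S = S) : cj g A = A ∨ cj g A = B := by
  have hg' : cj g⁻¹ S = S := by
    have h0 := congrArg (cj g⁻¹) hg
    rw [cj_inv_cj] at h0
    exact h0.symm
  apply h.honly
  · rw [← hg]; exact cj_mono h.hAS
  · exact EA_cj g A h.hAea
  · intro Y hYS hY hle
    have h1 : A ≤ cj g⁻¹ Y := by rwa [← cj_le_iff]
    have h2 : cj g⁻¹ Y ≤ S := by rw [← hg']; exact cj_mono hYS
    have h3 := h.hAmax _ h2 (EA_cj _ _ hY) h1
    have h4 := congrArg (cj g) h3
    rw [cj_cj_inv] at h4
    exact h4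

theorem Pack.normal_left {G : Type*} [Group G] [Finite G] {S A B : Subgroup G} (h : Pack S A B)
    (s : G) (hs : s ∈ S) : cj s A = A := by
  obtain ⟨b, hb, a, ha, hba⟩ := h.symm.hprod s hs
  have h1 : cj s A = cj b A := by
    rw [← hba, cj_mul, cj_eq_self_of_mem ha]
  rcases h.cj_mem_pair s (cj_eq_self_of_mem hs) with h2 | h2
  · exact h2
  · exfalso
    rw [h1] at h2
    have h3 : A = cj b⁻¹ B := by rw [← h2, cj_inv_cj]
    rw [cj_eq_self_of_mem (inv_mem hb)] at h3
    exact h.hne h3

theorem card_eq_of_le_of_card {G : Type*} [Group G] [Finite G] {X Y : Subgroup G} (hle : X ≤ Y)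
    (hc : Nat.card Y ≤ Nat.card X) : X = Y :=
  Subgroup.eq_of_le_of_card_ge hle hc

theorem cj_pow_swap {G : Type*} [Group G] {A B : Subgroup G} (m : G)
    (hA : cj m A = B) (hB : cj m B = A) :
    ∀ k : ℕ, (Even k → cj (m ^ k) A = A) ∧ (Odd k → cj (m ^ k) A = B) := by
  intro k
  induction k with
  | zero => simp
  | succ k ih =>
    constructor
    · intro hk
      have hodd : Odd k := by
        rcases Nat.even_or_odd k with h | h
        · exfalso; exact (Nat.not_even_iff_odd.2 (Even.add_one h)) hk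
        · exact h
      rw [pow_succ', cj_mul, ih.2 hodd, hB]
    · intro hk
      have hev : Even k := by
        rcases Nat.even_or_odd k with h | h
        · exact h
        · exfalso; exact (Nat.not_odd_iff_even.2 (Odd.add_one h)) hk
      rw [pow_succ', cj_mul, ih.1 hev, hA]

/-- an odd power of an element of the normalizer of a Sylow 2-subgroup lies in it -/
theorem pow_relIndex_mem {G : Type*} [Group G] [Finite G] (S : Subgroup G) (m : G)
    (hm : m ∈ Subgroup.normalizer (S : Set G)) :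
    m ^ (S.relIndex (Subgroup.normalizer (S : Set G))) ∈ S := by
  have hnorm : (S.subgroupOf (Subgroup.normalizer (S : Set G))).Normal := Subgroup.normal_in_normalizer
  have h1 : ((⟨m, hm⟩ : ↥(Subgroup.normalizer (S : Set G))) : ↥(Subgroup.normalizer (S : Set G)) ⧸ S.subgroupOf (Subgroup.normalizer (S : Set G))) ^
      (S.relIndex (Subgroup.normalizer (S : Set G))) = 1 := by
    have : S.relIndex (Subgroup.normalizer (S : Set G)) =
        Nat.card (↥(Subgroup.normalizer (S : Set G)) ⧸ S.subgroupOf (Subgroup.normalizer (S : Set G))) := by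
      rw [Subgroup.relIndex, Subgroup.index_eq_card]
    rw [this]
    exact pow_card_eq_one'
  rw [← QuotientGroup.mk_pow, QuotientGroup.eq_one_iff, Subgroup.mem_subgroupOf] at h1
  simpa using h1

theorem Pack.weaklyClosed {G : Type*} [Group G] [Finite G] (S : Sylow 2 G) {A B : Subgroup G}
    (h : Pack (S : Subgroup G) A B) : Cfsg.IsWeaklyClosed A (S : Subgroup G) := by
  classical
  haveI : Fact (Nat.Prime 2) := ⟨Nat.prime_two⟩
  refine ⟨h.hAS, fun g hgS => ?_⟩
  change cj g A ≤ (S : Subgroup G) at hgS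
  change cj g A = A
  rcases h.le_or_le (cj g A) hgS (EA_cj g A h.hAea) with hC | hC
  · exact card_eq_of_le_of_card hC (by rw [card_cj])
  · exfalso
    -- N(C) contains cj g S and B
    have hSgN : cj g (S : Subgroup G) ≤ Subgroup.normalizer ((cj g A : Subgroup G) : Set G) := by
      rw [normalizer_cj]
      apply cj_mono
      intro s hs
      exact cj_eq_self_iff.1 (h.normal_left s hs)
    have hBN : B ≤ Subgroup.normalizer ((cj g A : Subgroup G) : Set G) := by
      intro b hb
      rw [Subgroup.mem_normalizer_iff]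
      intro x
      have hcomm : ∀ y ∈ cj g A, b * y * b⁻¹ = y := by
        intro y hy
        have := h.hBea.1 b hb y (hC hy)
        rw [this]; group
      constructor
      · intro hx
        rw [hcomm x hx]; exact hx
      · intro hx
        have h2 := hcomm _ hx
        have h3 : b⁻¹ * (b * x * b⁻¹) * b = b * x * b⁻¹ := by
          have h4 := h.hBea.1 b⁻¹ (inv_mem hb) _ (hC hx)
          calc b⁻¹ * (b * x * b⁻¹) * b = (b⁻¹ * (b * x * b⁻¹)) * b := by group
            _ = ((b * x * b⁻¹) * b⁻¹) * b := by rw [h4]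
            _ = b * x * b⁻¹ := by group
        have h5 : x = b⁻¹ * (b * x * b⁻¹) * b := by group
        rw [h5, h3]; exact hx
    have hSgodd : ¬ 2 ∣ (cj g (S : Subgroup G)).relIndex (Subgroup.normalizer ((cj g A : Subgroup G) : Set G)) := by
      intro hd
      have h1 := Subgroup.relIndex_dvd_index_of_le (H := cj g (S : Subgroup G)) hSgN
      rw [index_cj] at h1
      exact S.not_dvd_index (dvd_trans hd h1)
    obtain ⟨n, hnN, hnB⟩ := sylow_sub hSgN (isPGroup_cj S.2) hSgodd hBN
      (S.2.to_le h.hBS)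
    -- cj (g⁻¹ n) B ≤ S contains A
    have h1 : cj (g⁻¹ * n) B ≤ (S : Subgroup G) := by
      rw [cj_mul, cj_le_iff, inv_inv]; exact hnB
    have h2 : A ≤ cj (g⁻¹ * n) B := by
      have h3 : cj n (cj g A) = cj g A := cj_eq_self_iff.2 hnN
      have h4 : cj g A ≤ cj n B := by
        rw [← h3]; exact cj_mono hC
      rw [cj_mul, le_cj_iff, inv_inv]; exact h4
    have h3 := h.hAmax _ h1 (EA_cj _ _ h.hBea) h2
    have hcard : Nat.card B = Nat.card A := by
      rw [← h3, card_cj]
    have hCB : cj g A = B := card_eq_of_le_of_card hC (by rw [card_cj, hcard])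
    -- Burnside
    have hSNB : (S : Subgroup G) ≤ Subgroup.normalizer ((B : Subgroup G) : Set G) := by
      intro s hs
      exact cj_eq_self_iff.1 (h.symm.normal_left s hs)
    have hSgNB : cj g (S : Subgroup G) ≤ Subgroup.normalizer ((B : Subgroup G) : Set G) := by
      rw [← hCB]; exact hSgN
    have hSodd : ¬ 2 ∣ (S : Subgroup G).relIndex (Subgroup.normalizer ((B : Subgroup G) : Set G)) := by
      intro hd
      have h1 := Subgroup.relIndex_dvd_index_of_le (H := (S : Subgroup G)) hSNB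
      exact S.not_dvd_index (dvd_trans hd h1)
    obtain ⟨n', hn'N, hn'S⟩ := sylow_sub hSNB S.2 hSodd hSgNB (isPGroup_cj S.2)
    have hmS : cj (n' * g) (S : Subgroup G) = (S : Subgroup G) := by
      rw [cj_mul]
      exact card_eq_of_le_of_card hn'S (by rw [card_cj, card_cj])
    have hmA : cj (n' * g) A = B := by
      rw [cj_mul, hCB]; exact cj_eq_self_iff.2 hn'N
    have hmB : cj (n' * g) B = A := by
      rcases h.symm.cj_mem_pair (n' * g) hmS with h5 | h5
      · exfalso
        have := cj_injective (n' * g) (hmA.trans h5.symm)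
        exact h.hne this
      · exact h5
    have hmN : n' * g ∈ Subgroup.normalizer (((S : Subgroup G) : Subgroup G) : Set G) := cj_eq_self_iff.1 hmS
    have hpow := pow_relIndex_mem (S : Subgroup G) (n' * g) hmN
    have hrodd : Odd ((S : Subgroup G).relIndex (Subgroup.normalizer (((S : Subgroup G) : Subgroup G) : Set G))) := by
      rw [← Nat.not_even_iff_odd]
      intro hev
      have h1 := Subgroup.relIndex_dvd_index_of_le (H := (S : Subgroup G)) (Subgroup.le_normalizer)
      exact S.not_dvd_index (dvd_trans (even_iff_two_dvd.1 hev) h1)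
    have h6 := ((cj_pow_swap (n' * g) hmA hmB) _).2 hrodd
    have h7 := h.normal_left _ hpow
    exact h.hne (h7.symm.trans h6)

theorem ea_map {G : Type*} [Group G] (H : Subgroup G) (C : Subgroup ↥H) :
    Cfsg.IsElementaryAbelian 2 C ↔ EA (C.map H.subtype) := by
  constructor
  · rintro ⟨hc, h2⟩
    constructor
    · rintro _ ⟨c, hcC, rfl⟩ _ ⟨d, hdC, rfl⟩
      have := hc.is_comm.comm (⟨c, hcC⟩ : ↥C) ⟨d, hdC⟩
      have h3 := congrArg (fun z : ↥C => ((z : ↥H) : G)) this
      simpa using h3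
    · rintro _ ⟨c, hcC, rfl⟩
      have := h2 c hcC
      have h3 := congrArg (fun z : ↥H => (z : G)) this
      simpa using h3
  · rintro ⟨hc, h2⟩
    constructor
    · refine ⟨⟨fun a b => ?_⟩⟩
      apply Subtype.ext
      apply Subtype.ext
      have := hc _ ⟨a.1, a.2, rfl⟩ _ ⟨b.1, b.2, rfl⟩
      simpa using this
    · intro a ha
      apply Subtype.ext
      have := h2 _ ⟨a, ha, rfl⟩
      simpa using this

theorem mkPack {G : Type*} [Group G] (S : Subgroup G)
    (A B : Subgroup ↥S) (hAB : A ≠ B)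
    (hA : Cfsg.IsElementaryAbelian 2 A ∧ ∀ C : Subgroup ↥S, Cfsg.IsElementaryAbelian 2 C → A ≤ C → C = A)
    (hB : Cfsg.IsElementaryAbelian 2 B ∧ ∀ C : Subgroup ↥S, Cfsg.IsElementaryAbelian 2 C → B ≤ C → C = B)
    (honly : ∀ C : Subgroup ↥S, Cfsg.IsElementaryAbelian 2 C →
      (∀ D : Subgroup ↥S, Cfsg.IsElementaryAbelian 2 D → C ≤ D → D = C) → C = A ∨ C = B)
    (hprod : ∀ s : ↥S, ∃ a ∈ A, ∃ b ∈ B, a * b = s) :
    Pack S (A.map S.subtype) (B.map S.subtype) := by
  have hinj : Function.Injective (S.subtype) := S.subtype_injective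
  have hback : ∀ X : Subgroup G, X ≤ S → (X.subgroupOf S).map S.subtype = X :=
    fun X hX => Subgroup.map_subgroupOf_eq_of_le hX
  have hmax : ∀ A₀ : Subgroup ↥S,
      (∀ C : Subgroup ↥S, Cfsg.IsElementaryAbelian 2 C → A₀ ≤ C → C = A₀) →
      ∀ X : Subgroup G, X ≤ S → EA X → A₀.map S.subtype ≤ X → X = A₀.map S.subtype := by
    intro A₀ hA₀ X hXS hX hle
    have h1 : Cfsg.IsElementaryAbelian 2 (X.subgroupOf S) := by
      rw [ea_map, hback X hXS]; exact hX
    have h2 : A₀ ≤ X.subgroupOf S := by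
      intro a ha
      rw [Subgroup.mem_subgroupOf]
      exact hle ⟨a, ha, rfl⟩
    have h3 := hA₀ _ h1 h2
    rw [← hback X hXS, h3]
  refine ⟨Subgroup.map_subtype_le A, Subgroup.map_subtype_le B, ?_, (ea_map S A).1 hA.1,
    (ea_map S B).1 hB.1, hmax A hA.2, hmax B hB.2, ?_, ?_⟩
  · intro h
    exact hAB (Subgroup.map_injective hinj h)
  · intro X hXS hX hXmax
    have h1 : Cfsg.IsElementaryAbelian 2 (X.subgroupOf S) := by
      rw [ea_map, hback X hXS]; exact hX
    have h2 : ∀ D : Subgroup ↥S, Cfsg.IsElementaryAbelian 2 D → X.subgroupOf S ≤ D → D = X.subgroupOf S := by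
      intro D hD hle
      have h3 : X ≤ D.map S.subtype := by
        intro x hx
        exact ⟨⟨x, hXS hx⟩, hle (Subgroup.mem_subgroupOf.2 hx), rfl⟩
      have h4 := hXmax _ (Subgroup.map_subtype_le D) ((ea_map S D).1 hD) h3
      rw [← h4]
      exact (Subgroup.comap_map_eq_self_of_injective hinj D).symm
    rcases honly _ h1 h2 with h5 | h5
    · left; rw [← hback X hXS, h5]
    · right; rw [← hback X hXS, h5]
  · intro s hs
    obtain ⟨a, ha, b, hb, hab⟩ := hprod ⟨s, hs⟩
    refine ⟨a, ⟨a, ha, rfl⟩, b, ⟨b, hb, rfl⟩, ?_⟩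
    have := congrArg (fun z : ↥S => (z : G)) hab
    simpa using this

/-- Let S be a Sylow 2-subgroup of a finite group G having exactly two subgroups A ≠ B that are maximal among its elementary abelian subgroups, with S = AB. Then A and B are each weakly closed in S with respect to G, and the normalizer of S normalizes both A and B. -/
theorem result {G : Type*} [Group G] [Finite G] (S : Sylow 2 G)
    (A B : Subgroup ↥(S : Subgroup G)) (hAB : A ≠ B)
    (hA : Cfsg.IsElementaryAbelian 2 A ∧ ∀ C : Subgroup ↥(S : Subgroup G), Cfsg.IsElementaryAbelian 2 C → A ≤ C → C = A)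
    (hB : Cfsg.IsElementaryAbelian 2 B ∧ ∀ C : Subgroup ↥(S : Subgroup G), Cfsg.IsElementaryAbelian 2 C → B ≤ C → C = B)
    (honly : ∀ C : Subgroup ↥(S : Subgroup G), Cfsg.IsElementaryAbelian 2 C →
      (∀ D : Subgroup ↥(S : Subgroup G), Cfsg.IsElementaryAbelian 2 D → C ≤ D → D = C) → C = A ∨ C = B)
    (hprod : ∀ s : ↥(S : Subgroup G), ∃ a ∈ A, ∃ b ∈ B, a * b = s)
    (A' B' : Subgroup G) (hA' : A' = A.map (S : Subgroup G).subtype) (hB' : B' = B.map (S : Subgroup G).subtype) :
    Cfsg.IsWeaklyClosed A' (S : Subgroup G) ∧ Cfsg.IsWeaklyClosed B' (S : Subgroup G) ∧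
      Subgroup.normalizer ((S : Subgroup G) : Set G) ≤ Subgroup.normalizer (A' : Set G) ⊓ Subgroup.normalizer (B' : Set G) := by
  classical
  subst hA' hB'
  have hpack := mkPack (S : Subgroup G) A B hAB hA hB honly hprod
  have hwA := hpack.weaklyClosed S
  have hwB := hpack.symm.weaklyClosed S
  refine ⟨hwA, hwB, ?_⟩
  intro m hm
  have hmS : cj m (S : Subgroup G) = (S : Subgroup G) := cj_eq_self_iff.2 hm
  refine Subgroup.mem_inf.2 ⟨?_, ?_⟩
  · apply cj_eq_self_iff.1
    apply hwA.2 m
    show cj m _ ≤ _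
    exact le_trans (cj_mono hwA.1) hmS.le
  · apply cj_eq_self_iff.1
    apply hwB.2 m
    show cj m _ ≤ _
    exact le_trans (cj_mono hwB.1) hmS.le

end Cfsg.Agent.S3203
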