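import Cfsg.Statements.S3208
import Cfsg.Agent.Lib.Helper53.PGroupAux

set_option autoImplicit false
open Cfsg

namespace Cfsg.Agent.S3208

/-- Let j be an involution of a finite group G, H a subgroup of G, and T a Sylow 2-subgroup of H ∩ C_G(j) containing j such that ⟨j⟩ is a characteristic subgroup of T. Then T is a Sylow 2-subgroup of H. -/
theorem result {G : Type*} [Group G] [Finite G]
    (j : G) (hj : orderOf j = 2) (H T : Subgroup G) (hT : T ≤ H ⊓ Subgroup.centralizer ({j} : Set G)) (h2 : IsPGroup 2 ↥T)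
    (hSyl : ¬ 2 ∣ T.relIndex (H ⊓ Subgroup.centralizer ({j} : Set G))) (hjT : j ∈ T)
    (hchar : ((Subgroup.zpowers j).subgroupOf T).Characteristic) :
    ¬ 2 ∣ T.relIndex H := by
  intro hdvd
  haveI : Fact (Nat.Prime 2) := ⟨Nat.prime_two⟩
  obtain ⟨K, hTK, hKH, _, hrel, hKN⟩ :=
    Cfsg.Agent.Lib.Helper53.exists_pgroup_step T H (le_trans hT inf_le_left) h2 hdvd
  have hKC : K ≤ Subgroup.centralizer ({j} : Set G) :=
    le_trans hKN (Cfsg.Agent.Lib.Helper53.normalizer_le_centralizer_of_char_involution j hj T hjT hchar)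
  have hKle : K ≤ H ⊓ Subgroup.centralizer ({j} : Set G) := le_inf hKH hKC
  have hmul := Subgroup.relIndex_mul_relIndex T K (H ⊓ Subgroup.centralizer ({j} : Set G)) hTK hKle
  apply hSyl
  rw [← hmul, hrel]
  exact dvd_mul_right _ _

end Cfsg.Agent.S3208
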