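import Cfsg.Statements.S3210
import Cfsg.Agent.Lib.Helper53.SLPair
import Cfsg.Agent.Lib.Helper53.PGroupAux

set_option autoImplicit false
open Cfsg

namespace Cfsg.Agent.S3210

open Cfsg.Agent.Lib.Helper53

/-- Let G be a finite group with subgroups L₁ ≅ SL₂(q₁) and L₂ ≅ SL₂(q₂), q₁ and q₂ odd prime powers, which commute elementwise and meet in ⟨j⟩ for an involution j, and suppose L₁L₂ has index 2 in C_G(j). Then every element n of C_G(j) outside L₁L₂ either normalizes both L₁ and L₂, or conjugates L₁ onto L₂; in the second case q₁ = q₂ and there is an element n′ of C_G(j) outside L₁L₂ conjugating L₁ onto L₂ with n′² ∈ ⟨j⟩. -/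
theorem result {G : Type*} [Group G] [Finite G]
    {F₁ : Type*} [Field F₁] [Fintype F₁] {F₂ : Type*} [Field F₂] [Fintype F₂]
    (hF₁ : Odd (Fintype.card F₁)) (hF₂ : Odd (Fintype.card F₂)) (L₁ L₂ : Subgroup G)
    (e₁ : ↥L₁ ≃* Matrix.SpecialLinearGroup (Fin 2) F₁) (e₂ : ↥L₂ ≃* Matrix.SpecialLinearGroup (Fin 2) F₂)
    (hc : ∀ x ∈ L₁, ∀ y ∈ L₂, x * y = y * x) (j : G) (hj : orderOf j = 2) (hm : L₁ ⊓ L₂ = Subgroup.zpowers j)
    (hle : L₁ ⊔ L₂ ≤ Subgroup.centralizer ({j} : Set G)) (hi : (L₁ ⊔ L₂).relIndex (Subgroup.centralizer ({j} : Set G)) = 2) (n : G) (hn : n ∈ Subgroup.centralizer ({j} : Set G)) (hn' : n ∉ L₁ ⊔ L₂) :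
    (L₁.map (MulAut.conj n).toMonoidHom = L₁ ∧ L₂.map (MulAut.conj n).toMonoidHom = L₂) ∨
      (L₁.map (MulAut.conj n).toMonoidHom = L₂ ∧ Fintype.card F₁ = Fintype.card F₂ ∧
        ∃ n' ∈ Subgroup.centralizer ({j} : Set G), n' ∉ L₁ ⊔ L₂ ∧ L₁.map (MulAut.conj n').toMonoidHom = L₂ ∧ n' ^ 2 ∈ Subgroup.zpowers j) := by
  classical
  have hjmem : j ∈ L₁ ⊓ L₂ := by rw [hm]; exact Subgroup.mem_zpowers j
  have hj1 : j ∈ L₁ := hjmem.1
  have hj2 : j ∈ L₂ := hjmem.2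
  have hj_sq : j * j = 1 := by
    have := pow_orderOf_eq_one j
    rw [hj, pow_two] at this; exact this
  have hj_ne : j ≠ 1 := by
    intro h; rw [h, orderOf_one] at hj; norm_num at hj
  have hmeet : ∀ z, z ∈ L₁ → z ∈ L₂ → z = 1 ∨ z = j := by
    intro z h1 h2
    have : z ∈ Subgroup.zpowers j := by rw [← hm]; exact ⟨h1, h2⟩
    exact mem_zpowers_of_orderOf_two j hj z this
  have hS1 : SLSide j L₁ := SLSide.of_iso hF₁ L₁ e₁ j hj1 hj_sq hj_ne
  have hS2 : SLSide j L₂ := SLSide.of_iso hF₂ L₂ e₂ j hj2 hj_sq hj_ne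
  set C := Subgroup.centralizer ({j} : Set G) with hC
  set L := L₁ ⊔ L₂ with hL
  set c : G ≃* G := MulAut.conj n with hcdef
  have hcapp : ∀ x, c x = n * x * n⁻¹ := fun x => by simp [hcdef, MulAut.conj_apply]
  have hnj : n * j = j * n := Subgroup.mem_centralizer_singleton_iff.1 hn
  have hcj : c j = j := by
    rw [hcapp, hnj, mul_assoc, mul_inv_cancel, mul_one]
  have hnorm : ((L₁ ⊔ L₂).subgroupOf C).Normal := Subgroup.normal_of_index_eq_two hi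
  -- conjugation by n and n⁻¹ preserve L
  have hcL : ∀ x ∈ L, c x ∈ L := by
    intro x hx
    have hxC : x ∈ C := hle hx
    have h1 : (⟨x, hxC⟩ : ↥C) ∈ (L₁ ⊔ L₂).subgroupOf C := Subgroup.mem_subgroupOf.2 hx
    have h2 := hnorm.conj_mem _ h1 ⟨n, hn⟩
    rw [Subgroup.mem_subgroupOf] at h2
    rw [hcapp]; exact h2
  have hcL' : ∀ x ∈ L, c.symm x ∈ L := by
    intro x hx
    have hxC : x ∈ C := hle hx
    have h1 : (⟨x, hxC⟩ : ↥C) ∈ (L₁ ⊔ L₂).subgroupOf C := Subgroup.mem_subgroupOf.2 hx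
    have h2 := hnorm.conj_mem _ h1 ⟨n, hn⟩⁻¹
    rw [Subgroup.mem_subgroupOf] at h2
    have : c.symm x = n⁻¹ * x * n⁻¹⁻¹ := by
      simp [hcdef, MulAut.conj_symm_apply]
    rw [this]; exact h2
  set M₁ := L₁.map c.toMonoidHom with hM₁
  set M₂ := L₂.map c.toMonoidHom with hM₂
  have hSM1 : SLSide j M₁ := hS1.map c hcj
  have hSM2 : SLSide j M₂ := hS2.map c hcj
  have hcM : ∀ x ∈ M₁, ∀ y ∈ M₂, x * y = y * x := by
    rintro _ ⟨x, hx, rfl⟩ _ ⟨y, hy, rfl⟩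
    change c x * c y = c y * c x
    rw [← map_mul, ← map_mul, hc x hx y hy]
  have hmM : ∀ z, z ∈ M₁ → z ∈ M₂ → z = 1 ∨ z = j := by
    rintro _ ⟨x, hx, rfl⟩ ⟨y, hy, hxy⟩
    have : y = x := c.injective hxy
    subst this
    rcases hmeet y hx hy with h | h
    · left; rw [h]; exact map_one c
    · right; rw [h]; exact hcj
  have hM₁L : M₁ ≤ L := by
    rintro _ ⟨x, hx, rfl⟩
    exact hcL x (Subgroup.mem_sup_left hx)
  have hM₂L : M₂ ≤ L := by
    rintro _ ⟨x, hx, rfl⟩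
    exact hcL x (Subgroup.mem_sup_right hx)
  have hLM : L ≤ M₁ ⊔ M₂ := by
    intro x hx
    have h1 : c.symm x ∈ L₁ ⊔ L₂ := hcL' x hx
    obtain ⟨a, ha, b, hb, hab⟩ := mem_sup_of_commute' L₁ L₂ hc h1
    have : x = c a * c b := by
      rw [← map_mul, ← hab, MulEquiv.apply_symm_apply]
    rw [this]
    exact Subgroup.mul_mem _ (Subgroup.mem_sup_left ⟨a, ha, rfl⟩)
      (Subgroup.mem_sup_right ⟨b, hb, rfl⟩)
  have hcard1 : Nat.card M₁ = Nat.card L₁ := Subgroup.card_map_of_injective c.injective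
  have hcard2 : Nat.card M₂ = Nat.card L₂ := Subgroup.card_map_of_injective c.injective
  rcases slpair_unique hj_sq hj_ne hS1 hS2 hc hmeet hSM1 hSM2 hcM hmM hM₁L hM₂L
    (le_trans le_sup_left hLM) (le_trans le_sup_right hLM) with ⟨h1, h2⟩ | ⟨h1, h2⟩
  · left
    exact ⟨(Subgroup.eq_of_le_of_card_ge h1 hcard1.le).symm,
      (Subgroup.eq_of_le_of_card_ge h2 hcard2.le).symm⟩
  · right
    -- L₂ ≤ M₁, L₁ ≤ M₂
    have hle1 : Nat.card L₂ ≤ Nat.card M₁ := Subgroup.card_le_of_le h1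
    have hle2 : Nat.card L₁ ≤ Nat.card M₂ := Subgroup.card_le_of_le h2
    have hcardeq : Nat.card L₁ = Nat.card L₂ := by omega
    have hM1eq : M₁ = L₂ := (Subgroup.eq_of_le_of_card_ge h1 (by omega)).symm
    have hM2eq : M₂ = L₁ := (Subgroup.eq_of_le_of_card_ge h2 (by omega)).symm
    refine ⟨hM1eq, ?_, ?_⟩
    · apply card_eq_of_card_sl2_eq
      rw [← Nat.card_congr e₁.toEquiv, ← Nat.card_congr e₂.toEquiv]
      exact hcardeq
    · -- n * n ∈ L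
      have hnn : n * n ∈ L := by
        have := Subgroup.mul_self_mem_of_index_two hi (⟨n, hn⟩ : ↥C)
        rw [Subgroup.mem_subgroupOf] at this
        exact this
      obtain ⟨a₀, ha₀, b₀, hb₀, hab₀⟩ := mem_sup_of_commute' L₁ L₂ hc hnn
      have hca : ∀ x ∈ L₁, c x ∈ L₂ := by
        intro x hx
        rw [← hM1eq]; exact ⟨x, hx, rfl⟩
      have hcb : ∀ x ∈ L₂, c x ∈ L₁ := by
        intro x hx
        rw [← hM2eq]; exact ⟨x, hx, rfl⟩
      refine ⟨a₀⁻¹ * n, ?_, ?_, ?_, ?_⟩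
      · exact Subgroup.mul_mem _ (Subgroup.inv_mem _ (hle (Subgroup.mem_sup_left ha₀))) hn
      · intro h
        apply hn'
        have : n = a₀ * (a₀⁻¹ * n) := by group
        rw [this]
        exact Subgroup.mul_mem _ (Subgroup.mem_sup_left ha₀) h
      · -- conjugation by n' agrees with conjugation by n on L₁
        rw [← hM1eq]
        ext x
        constructor
        · rintro ⟨y, hy, rfl⟩
          refine ⟨y, hy, ?_⟩
          change c y = (MulAut.conj (a₀⁻¹ * n)) y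
          have h3 : a₀⁻¹ * c y = c y * a₀⁻¹ := hc a₀⁻¹ (L₁.inv_mem ha₀) (c y) (hca y hy)
          have : (MulAut.conj (a₀⁻¹ * n)) y = a₀⁻¹ * c y * a₀ := by
            rw [hcapp, MulAut.conj_apply]; group
          rw [this, h3]; group
        · rintro ⟨y, hy, rfl⟩
          refine ⟨y, hy, ?_⟩
          change (MulAut.conj (a₀⁻¹ * n)) y = c y
          have h3 : a₀⁻¹ * c y = c y * a₀⁻¹ := hc a₀⁻¹ (L₁.inv_mem ha₀) (c y) (hca y hy)
          have : (MulAut.conj (a₀⁻¹ * n)) y = a₀⁻¹ * c y * a₀ := by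
            rw [hcapp, MulAut.conj_apply]; group
          rw [this, h3]; group
      · -- n'^2 = c(a₀⁻¹) * b₀ ∈ L₁ ⊓ L₂
        rw [← hm]
        have hp2 : c a₀⁻¹ ∈ L₂ := hca _ (L₁.inv_mem ha₀)
        have hsq : (a₀⁻¹ * n) ^ 2 = c a₀⁻¹ * b₀ := by
          have h3 : a₀⁻¹ * c a₀⁻¹ = c a₀⁻¹ * a₀⁻¹ := hc a₀⁻¹ (L₁.inv_mem ha₀) _ hp2
          calc (a₀⁻¹ * n) ^ 2 = a₀⁻¹ * (n * a₀⁻¹ * n⁻¹) * (n * n) := by rw [pow_two]; group
            _ = a₀⁻¹ * c a₀⁻¹ * (a₀ * b₀) := by rw [hcapp, hab₀]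
            _ = c a₀⁻¹ * a₀⁻¹ * (a₀ * b₀) := by rw [h3]
            _ = c a₀⁻¹ * b₀ := by group
        rw [hsq]
        refine ⟨?_, L₂.mul_mem hp2 hb₀⟩
        -- c(a₀ b₀) = a₀ b₀
        have hfix : c (a₀ * b₀) = a₀ * b₀ := by
          rw [← hab₀, hcapp]; group
        have h4 : c a₀⁻¹ * b₀ = a₀⁻¹ * c b₀ := by
          have h5 : c a₀ * c b₀ = a₀ * b₀ := by rw [← map_mul]; exact hfix
          have h6 : c a₀⁻¹ = (c a₀)⁻¹ := map_inv c a₀
          have h7 : a₀⁻¹ * c a₀⁻¹ = c a₀⁻¹ * a₀⁻¹ := hc a₀⁻¹ (L₁.inv_mem ha₀) _ hp2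
          calc c a₀⁻¹ * b₀ = c a₀⁻¹ * a₀⁻¹ * (a₀ * b₀) := by group
            _ = a₀⁻¹ * c a₀⁻¹ * (c a₀ * c b₀) := by rw [h7, h5]
            _ = a₀⁻¹ * c b₀ := by rw [h6]; group
        rw [h4]
        exact L₁.mul_mem (L₁.inv_mem ha₀) (hcb b₀ hb₀)

end Cfsg.Agent.S3210
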