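import Cfsg.Statements.S3213
import Cfsg.Agent.Lib.Helper53.Sp4Core
import Cfsg.Agent.Lib.Helper53.Sp4Count
import Cfsg.Agent.Lib.Helper53.SL25

set_option autoImplicit false
open Cfsg

namespace Cfsg.Agent.S3213

open Cfsg.Agent.Lib.Helper53

section form
variable {F : Type*} [Field F]

theorem J_form_alt (h2 : (2 : F) ≠ 0) (v : Fin 2 ⊕ Fin 2 → F) :
    dotProduct v ((Matrix.J (Fin 2) F).mulVec v) = 0 := by
  have h1 : dotProduct v ((Matrix.J (Fin 2) F).mulVec v) =
      - dotProduct v ((Matrix.J (Fin 2) F).mulVec v) := by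
    conv_lhs => rw [Matrix.dotProduct_mulVec, ← Matrix.mulVec_transpose, Matrix.J_transpose,
      Matrix.neg_mulVec, neg_dotProduct, dotProduct_comm]
  have h3 : (2 : F) * dotProduct v ((Matrix.J (Fin 2) F).mulVec v) = 0 := by
    linear_combination h1
  rcases mul_eq_zero.1 h3 with h | h
  · exact absurd h h2
  · exact h

theorem J_form_nondeg (u : Fin 2 ⊕ Fin 2 → F)
    (h : ∀ v, dotProduct u ((Matrix.J (Fin 2) F).mulVec v) = 0) : u = 0 := by
  have h1 : Matrix.vecMul u (Matrix.J (Fin 2) F) = 0 := by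
    funext k
    have := h (Pi.single k 1)
    rw [Matrix.dotProduct_mulVec, dotProduct_single_one] at this
    exact this
  have h2 : Matrix.vecMul (Matrix.vecMul u (Matrix.J (Fin 2) F)) (-(Matrix.J (Fin 2) F)) = u := by
    rw [Matrix.vecMul_vecMul, mul_neg, Matrix.J_squared, neg_neg, Matrix.vecMul_one]
  rw [← h2, h1, Matrix.zero_vecMul]

theorem J_form_invariant (g : Matrix (Fin 2 ⊕ Fin 2) (Fin 2 ⊕ Fin 2) F)
    (hg : g ∈ Matrix.symplecticGroup (Fin 2) F) (v w : Fin 2 ⊕ Fin 2 → F) :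
    dotProduct (g.mulVec v) ((Matrix.J (Fin 2) F).mulVec (g.mulVec w)) =
      dotProduct v ((Matrix.J (Fin 2) F).mulVec w) := by
  have h := SymplecticGroup.mem_iff'.1 hg
  rw [← Matrix.vecMul_transpose, ← Matrix.dotProduct_mulVec, Matrix.mulVec_mulVec,
    Matrix.mulVec_mulVec, h]

end form

/-- Let F be the field with 3 elements and K the field with 5 elements. For every injective homomorphism φ from SL₂(K) into the symplectic group Sp₄(F) (4 × 4 matrices g with g J gᵀ = J for the standard alternating matrix J) and every element x of order 3 of SL₂(K), the vectors of F⁴ fixed by φ(x) form a 2-dimensional subspace that is totally isotropic for the alternating form defined by J. -/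
theorem result {F : Type*} [Field F] [Fintype F] (hF : Fintype.card F = 3)
    {K : Type*} [Field K] [Fintype K] (hK : Fintype.card K = 5)
    (φ : Matrix.SpecialLinearGroup (Fin 2) K →* ↥(Matrix.symplecticGroup (Fin 2) F)) (hφ : Function.Injective φ)
    (x : Matrix.SpecialLinearGroup (Fin 2) K) (hx : orderOf x = 3) :
    Module.finrank F ↥(LinearMap.ker (Matrix.toLin' ((φ x : Matrix (Fin 2 ⊕ Fin 2) (Fin 2 ⊕ Fin 2) F)) - LinearMap.id)) = 2 ∧
      ∀ v w : Fin 2 ⊕ Fin 2 → F, (φ x : Matrix (Fin 2 ⊕ Fin 2) (Fin 2 ⊕ Fin 2) F).mulVec v = v →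
        (φ x : Matrix (Fin 2 ⊕ Fin 2) (Fin 2 ⊕ Fin 2) F).mulVec w = w →
          dotProduct v ((Matrix.J (Fin 2) F).mulVec w) = 0 := by
  classical
  have h3 : (3 : F) = 0 := by
    have := FiniteField.cast_card_eq_zero F
    rw [hF] at this
    exact_mod_cast this
  have h2 : (2 : F) ≠ 0 := by
    intro h
    have h1 : (1 : F) = 0 := by linear_combination h3 - h
    exact one_ne_zero h1
  let Φ : Matrix.SpecialLinearGroup (Fin 2) K →* Matrix (Fin 2 ⊕ Fin 2) (Fin 2 ⊕ Fin 2) F :=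
    (Matrix.symplecticGroup (Fin 2) F).subtype.comp φ
  have hΦapp : ∀ s, Φ s = (φ s : Matrix (Fin 2 ⊕ Fin 2) (Fin 2 ⊕ Fin 2) F) := fun s => rfl
  have hΦinj : Function.Injective Φ := fun s t h => hφ (Subtype.ext h)
  obtain ⟨i, hii, hanti⟩ := exists_quaternion_elt hK x hx
  obtain ⟨y, hy5, hy1⟩ := exists_order_five hK
  have hx3 : x ^ 3 = 1 := by
    have := pow_orderOf_eq_one x
    rw [hx] at this
    exact this
  -- Z = -1
  have hZ : Φ (-1) = -1 := by
    apply central_involution_eq_neg_one hF (by simp) (Φ y) (Φ (-1))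
    · rw [← map_pow, hy5, map_one]
    · intro h
      apply hy1
      apply hΦinj
      rw [h, map_one]
    · rw [← map_mul, neg_mul_neg, one_mul, map_one]
    · intro h
      apply neg_one_ne_one_sl2 hK
      apply hΦinj
      rw [h, map_one]
    · rw [← map_mul, ← map_mul, mul_neg_one, neg_one_mul]
  set g := Φ x with hg
  set I := Φ i with hI
  set I' := Φ (x * i * x⁻¹) with hI'
  have hg3M : g ^ 3 = 1 := by rw [hg, ← map_pow, hx3, map_one]
  have hIM : I * I = -1 := by rw [hI, ← map_mul, hii, hZ]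
  have hgIM : g * I = I' * g := by
    rw [hg, hI, hI', ← map_mul, ← map_mul]
    congr 1
    group
  have hI'I' : I' * I' = -1 := by
    rw [hI', ← map_mul]
    have : x * i * x⁻¹ * (x * i * x⁻¹) = -1 := by
      calc x * i * x⁻¹ * (x * i * x⁻¹) = x * (i * i) * x⁻¹ := by group
        _ = -1 := by rw [hii, mul_neg, mul_one, neg_mul, mul_inv_cancel]
    rw [this, hZ]
  have hI'I : I' * I = -(I * I') := by
    rw [hI', hI, ← map_mul, hanti, ← neg_one_mul, map_mul, hZ, neg_one_mul, map_mul]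
  have h3M : (3 : Matrix (Fin 2 ⊕ Fin 2) (Fin 2 ⊕ Fin 2) F) = 0 := by
    have := congrArg (algebraMap F (Matrix (Fin 2 ⊕ Fin 2) (Fin 2 ⊕ Fin 2) F)) h3
    rw [map_ofNat, map_zero] at this
    exact this
  have hII'M : (I' - I) * (I' - I) = 1 := by
    have : (I' - I) * (I' - I) = I' * I' - I' * I - I * I' + I * I := by noncomm_ring
    rw [this, hI'I', hI'I, hIM]
    have e1 : -1 - -(I * I') - I * I' + -1 =
        (-1 + -1 : Matrix (Fin 2 ⊕ Fin 2) (Fin 2 ⊕ Fin 2) F) := by abel
    have e2 : (-1 + -1 : Matrix (Fin 2 ⊕ Fin 2) (Fin 2 ⊕ Fin 2) F) = 1 - 3 := by norm_num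
    rw [e1, e2, h3M, sub_zero]
  -- linear maps
  let T := (Matrix.toLinAlgEquiv' : Matrix (Fin 2 ⊕ Fin 2) (Fin 2 ⊕ Fin 2) F ≃ₐ[F]
    Module.End F (Fin 2 ⊕ Fin 2 → F))
  have hTapp : ∀ (M : Matrix (Fin 2 ⊕ Fin 2) (Fin 2 ⊕ Fin 2) F) v, T M v = M.mulVec v :=
    fun M v => Matrix.toLinAlgEquiv'_apply M v
  have hdim : Module.finrank F (Fin 2 ⊕ Fin 2 → F) = 4 := by
    rw [Module.finrank_fintype_fun_eq_card]; simp
  have hgmem : g ∈ Matrix.symplecticGroup (Fin 2) F := (φ x).2
  have key := sp4_order_three_core (F := F) (V := Fin 2 ⊕ Fin 2 → F) h3 hdim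
    (Matrix.toBilin' (Matrix.J (Fin 2) F))
    (fun v => by rw [Matrix.toBilin'_apply']; exact J_form_alt h2 v)
    (fun u hu => J_form_nondeg u (fun v => by rw [← Matrix.toBilin'_apply']; exact hu v))
    (T g) (T I) (T I')
    (by rw [← map_pow T g 3, hg3M, map_one])
    (fun v w => by
      rw [Matrix.toBilin'_apply', Matrix.toBilin'_apply', hTapp, hTapp]
      exact J_form_invariant g hgmem v w)
    (by rw [← map_mul T I I, hIM, map_neg, map_one])
    (by rw [← map_mul T g I, ← map_mul T I' g, hgIM])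
    (by rw [← map_sub T I' I, ← map_mul T (I' - I) (I' - I), hII'M, map_one])
  obtain ⟨k1, k2⟩ := key
  have hTg : T g - 1 = Matrix.toLin' ((φ x : Matrix (Fin 2 ⊕ Fin 2) (Fin 2 ⊕ Fin 2) F)) - LinearMap.id := rfl
  refine ⟨?_, ?_⟩
  · rw [← hTg]; exact k1
  · intro v w hv hw
    have := k2 v w (by rw [hTapp]; exact hv) (by rw [hTapp]; exact hw)
    rw [Matrix.toBilin'_apply'] at this
    exact this

end Cfsg.Agent.S3213
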