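import Cfsg.Statements.S3215
import Cfsg.Agent.Lib.Helper55.SolvCore
import Cfsg.Agent.Lib.Helper24.PxQ
import Cfsg.Agent.Lib.Helper53.NormalComplement
import Cfsg.Agent.Lib.Helper53.CenterMeet
import Cfsg.Agent.Lib.Helper53.UniqInv
import Cfsg.Agent.Lib.Helper53.SolvPSolv
import Cfsg.Agent.Lib.Helper76.PComplement
import Cfsg.Agent.Lib.Helper34.FpfCyclic
import Cfsg.Agent.Lib.Helper49.RankOneCyclic
import Cfsg.Agent.Lib.Helper10.FittingCent
import Cfsg.Agent.Lib.Helper22.Fitting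
import Cfsg.Agent.Lib.Helper47.Quot
import Cfsg.Agent.Lib.Helper1.Hall

set_option autoImplicit false
set_option linter.style.haveILetI false
set_option linter.unusedSectionVars false
open Cfsg

namespace Cfsg.Agent.S3215

section aux

open scoped commutatorElement

variable {H : Type*} [Group H] [Finite H]

/-- In a `2`-nilpotent involution centralizer, odd order elements centralize the fixed points of
the involution on a normal `2`-subgroup. -/
theorem comm_of_two_nilpotent (Y : Subgroup H) [Y.Normal] (hY : IsPGroup 2 Y) (t : H)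
    (hI : Cfsg.HasNormalPComplement 2 ↥(Subgroup.centralizer ({t} : Set H)))
    (x y : H) (hx : Odd (orderOf x)) (hxt : x * t = t * x) (hy : y ∈ Y) (hyt : y * t = t * y) :
    x * y = y * x := by
  haveI : Fact (Nat.Prime 2) := ⟨Nat.prime_two⟩
  set C := Subgroup.centralizer ({t} : Set H) with hC
  obtain ⟨P, N, hN, hNP⟩ := hI
  haveI := hN
  have hcard : Nat.card N * Nat.card (P : Subgroup C) = Nat.card C := hNP.card_mul_card
  have hidxN : N.index = Nat.card (P : Subgroup C) := by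
    have h1 := N.card_mul_index
    have hpos : 0 < Nat.card N := Nat.card_pos
    rw [← hcard] at h1
    exact Nat.eq_of_mul_eq_mul_left hpos h1
  have hNodd : ¬ 2 ∣ Nat.card N := by
    have h1 := (P : Subgroup C).card_mul_index
    have hpos : 0 < Nat.card (P : Subgroup C) := Nat.card_pos
    have h2 : Nat.card (P : Subgroup C) * (P : Subgroup C).index
        = Nat.card (P : Subgroup C) * Nat.card N := by rw [h1, ← hcard, mul_comm]
    have h3 := Nat.eq_of_mul_eq_mul_left hpos h2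
    rw [← h3]
    exact P.not_dvd_index
  obtain ⟨k, hk⟩ := IsPGroup.iff_card.1 P.isPGroup'
  have hxC : x ∈ C := Subgroup.mem_centralizer_singleton_iff.2 hxt
  have hyC : y ∈ C := Subgroup.mem_centralizer_singleton_iff.2 hyt
  have hxN : (⟨x, hxC⟩ : C) ∈ N := by
    apply Cfsg.Agent.Lib.Helper53.mem_of_coprime_order
    rw [hidxN, hk, Subgroup.orderOf_mk]
    exact Nat.Coprime.pow_right k (Nat.coprime_two_right.2 hx)
  set c : C := ⟨x, hxC⟩ * ⟨y, hyC⟩ * (⟨x, hxC⟩ : C)⁻¹ * (⟨y, hyC⟩ : C)⁻¹ with hc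
  have hcN : c ∈ N := by
    have h1 : (⟨y, hyC⟩ : C) * (⟨x, hxC⟩ : C)⁻¹ * (⟨y, hyC⟩ : C)⁻¹ ∈ N :=
      hN.conj_mem _ (N.inv_mem hxN) _
    have h2 := N.mul_mem hxN h1
    have : c = ⟨x, hxC⟩ * ((⟨y, hyC⟩ : C) * (⟨x, hxC⟩ : C)⁻¹ * (⟨y, hyC⟩ : C)⁻¹) := by
      rw [hc]; group
    rw [this]; exact h2
  have hcY : (c : H) ∈ Y := by
    have h1 : x * y * x⁻¹ ∈ Y := ‹Y.Normal›.conj_mem y hy x
    have h2 := Y.mul_mem h1 (Y.inv_mem hy)
    have : (c : H) = x * y * x⁻¹ * y⁻¹ := by rw [hc]; rfl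
    rw [this]; exact h2
  have hc1 : c = 1 := by
    have h1 : orderOf c ∣ Nat.card N := by
      have := orderOf_dvd_natCard (⟨c, hcN⟩ : N)
      rwa [Subgroup.orderOf_mk] at this
    obtain ⟨j, hj⟩ := (IsPGroup.iff_orderOf.1 hY) ⟨(c : H), hcY⟩
    rw [Subgroup.orderOf_mk, Subgroup.orderOf_coe] at hj
    rw [hj] at h1
    rcases Nat.eq_zero_or_pos j with h0 | h0
    · rw [h0, pow_zero] at hj
      exact orderOf_eq_one_iff.1 hj
    · exfalso
      apply hNodd
      exact dvd_trans (dvd_pow_self 2 h0.ne') h1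
  have h3 : (c : H) = 1 := by rw [hc1]; rfl
  have h4 : (c : H) = x * y * x⁻¹ * y⁻¹ := by rw [hc]; rfl
  rw [h4] at h3
  have : x * y = (x * y * x⁻¹ * y⁻¹) * (y * x) := by group
  rw [this, h3, one_mul]

/-- Nonidentity elements of odd order do not commute with nonidentity elements of `O_2(H)`. -/
theorem no_comm (hsol : Group.IsSolvable H) (hO : Cfsg.pPrimeCore 2 H = ⊥)
    (hI : ∀ t : H, orderOf t = 2 → Cfsg.HasNormalPComplement 2 ↥(Subgroup.centralizer ({t} : Set H)))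
    (x : H) (hx : Odd (orderOf x)) (hx1 : x ≠ 1) (y : H) (hy : y ∈ Cfsg.pCore 2 H) (hy1 : y ≠ 1) :
    x * y ≠ y * x := by
  haveI : Fact (Nat.Prime 2) := ⟨Nat.prime_two⟩
  intro hxy
  haveI hYn : (Cfsg.pCore 2 H).Normal := Cfsg.Agent.Lib.Helper22.pCore_normal' 2 H
  have hY : IsPGroup 2 (Cfsg.pCore 2 H) := Cfsg.Agent.Lib.Helper22.pCore_isPGroup' 2 H
  obtain ⟨k, hk⟩ := (IsPGroup.iff_orderOf.1 hY) ⟨y, hy⟩
  rw [Subgroup.orderOf_mk] at hk
  have hk0 : k ≠ 0 := by
    rintro rfl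
    rw [pow_zero] at hk
    exact hy1 (orderOf_eq_one_iff.1 hk)
  set t := y ^ (2 ^ (k - 1)) with ht
  have hto : orderOf t = 2 := by
    rw [ht, orderOf_pow_of_dvd (by positivity) (by rw [hk]; exact pow_dvd_pow 2 (by omega)), hk]
    have : 2 ^ k = 2 ^ (k - 1) * 2 := by rw [← pow_succ]; congr 1; omega
    rw [this, Nat.mul_div_cancel_left _ (by positivity)]
  have htY : t ∈ Cfsg.pCore 2 H := Subgroup.pow_mem _ hy _
  have hxt : x * t = t * x := by
    have : Commute x y := hxy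
    exact (this.pow_right _).eq
  have hcent : ∀ a : H, Subgroup.centralizer ((Subgroup.zpowers a : Subgroup H) : Set H) =
      Subgroup.centralizer {a} := by
    intro a
    rw [Subgroup.zpowers_eq_closure, Subgroup.centralizer_closure]
  have key := Cfsg.Agent.Lib.Helper24.thompson_PxQ (p := 2) (Subgroup.zpowers t) (Subgroup.zpowers x)
    (Cfsg.pCore 2 H)
    (IsPGroup.of_card (n := 1) (by rw [Nat.card_zpowers, hto, pow_one]))
    (by rw [Nat.card_zpowers]; exact Nat.coprime_two_right.2 hx)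
    hY
    (by
      rw [hcent, Subgroup.zpowers_le, Subgroup.mem_centralizer_singleton_iff]
      exact hxt.symm)
    (by rw [Subgroup.normalizer_eq_top]; exact le_top)
    (by rw [Subgroup.normalizer_eq_top]; exact le_top)
    (by
      rw [hcent, hcent]
      intro z hz
      rw [Subgroup.mem_centralizer_singleton_iff]
      have hz2 : z * t = t * z := Subgroup.mem_centralizer_singleton_iff.1 hz.2
      exact (comm_of_two_nilpotent (Cfsg.pCore 2 H) hY t (hI t hto) x z hx hxt hz.1 hz2).symm)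
  have hxc : x ∈ Subgroup.centralizer ((Cfsg.pCore 2 H : Subgroup H) : Set H) :=
    key (Subgroup.mem_zpowers x)
  have hxY : x ∈ Cfsg.pCore 2 H := Cfsg.Agent.Lib.Helper55.centralizer_pCore_le 2 hO hxc
  obtain ⟨j, hj⟩ := (IsPGroup.iff_orderOf.1 hY) ⟨x, hxY⟩
  rw [Subgroup.orderOf_mk] at hj
  rcases Nat.eq_zero_or_pos j with h0 | h0
  · rw [h0, pow_zero] at hj
    exact hx1 (orderOf_eq_one_iff.1 hj)
  · rw [hj] at hx
    exact (Nat.not_even_iff_odd.2 hx) ((Nat.even_pow.2 ⟨even_two, h0.ne'⟩))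

/-- A group acting by conjugation, fixed-point-freely, on a nontrivial abelian normal subgroup,
is cyclic if it is commutative. -/
theorem cyclic_of_fpf_on_normal (Z : Subgroup H) [Z.Normal]
    (hZc : ∀ a ∈ Z, ∀ b ∈ Z, a * b = b * a) (hZ1 : Z ≠ ⊥)
    {E : Type*} [Group E] [Finite E] (hE : ∀ a b : E, a * b = b * a) (ι : E →* H)
    (hfpf : ∀ g : E, g ≠ 1 → ∀ v ∈ Z, ι g * v = v * ι g → v = 1) : IsCyclic E := by
  letI instE : CommGroup E := { ‹Group E› with mul_comm := hE }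
  letI instZ : CommGroup ↥Z :=
    { (inferInstance : Group ↥Z) with
      mul_comm := fun a b => Subtype.ext (hZc a a.2 b b.2) }
  letI act : MulDistribMulAction E ↥Z :=
    MulDistribMulAction.compHom ↥Z ((MulAut.conjNormal (H := Z)).comp ι)
  have hsmul : ∀ (g : E) (v : ↥Z), ((g • v : ↥Z) : H) = ι g * v * (ι g)⁻¹ := by
    intro g v
    exact MulAut.conjNormal_apply (ι g) v
  have hf : Cfsg.Agent.Lib.Helper34.Fpf E ↥Z := by
    intro g hg v hv
    have h1 := hsmul g v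
    rw [hv] at h1
    have h2 : ι g * (v : H) = (v : H) * ι g := by
      calc ι g * (v : H) = (ι g * v * (ι g)⁻¹) * ι g := by group
        _ = (v : H) * ι g := by rw [← h1]
    have := hfpf g hg v v.2 h2
    exact Subtype.ext this
  have hnt : ∃ v : ↥Z, v ≠ 1 := by
    obtain ⟨z, hz, hz1⟩ := Z.bot_or_exists_ne_one.resolve_left hZ1
    exact ⟨⟨z, hz⟩, fun h => hz1 (congrArg Subtype.val h)⟩
  exact Cfsg.Agent.Lib.Helper34.isCyclic_of_comm hf hnt

/-- Sylow subgroups of an odd order subgroup acting fixed-point-freely on `O_2(H) ≠ 1` are cyclic. -/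
theorem sylow_cyclic
    (hnc : ∀ x : H, Odd (orderOf x) → x ≠ 1 → ∀ y ∈ Cfsg.pCore 2 H, y ≠ 1 → x * y ≠ y * x)
    (hY1 : Cfsg.pCore 2 H ≠ ⊥)
    (X : Subgroup H) (hXodd : Odd (Nat.card X)) (p : ℕ) [hp : Fact p.Prime] (P : Sylow p ↥X) :
    IsCyclic ↥(P : Subgroup ↥X) := by
  haveI : Fact (Nat.Prime 2) := ⟨Nat.prime_two⟩
  haveI hYn : (Cfsg.pCore 2 H).Normal := Cfsg.Agent.Lib.Helper22.pCore_normal' 2 H
  have hY : IsPGroup 2 (Cfsg.pCore 2 H) := Cfsg.Agent.Lib.Helper22.pCore_isPGroup' 2 H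
  by_cases hp2 : p = 2
  · subst hp2
    obtain ⟨k, hk⟩ := IsPGroup.iff_card.1 P.isPGroup'
    have hdvd : Nat.card (P : Subgroup X) ∣ Nat.card X := Subgroup.card_subgroup_dvd_card _
    have hodd : Odd (Nat.card (P : Subgroup X)) := Odd.of_dvd_nat hXodd hdvd
    have h1 : Nat.card (P : Subgroup X) = 1 := by
      rcases Nat.eq_zero_or_pos k with h0 | h0
      · rw [hk, h0, pow_zero]
      · exfalso
        rw [hk] at hodd
        exact (Nat.not_even_iff_odd.2 hodd) (Nat.even_pow.2 ⟨even_two, h0.ne'⟩)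
    haveI : Subsingleton ↥(P : Subgroup X) := (Nat.card_eq_one_iff_unique.1 h1).1
    exact isCyclic_of_subsingleton
  · apply Cfsg.Agent.Lib.Helper49.isCyclic_of_isPGroup_rankLEOne hp2 P.isPGroup'
    intro A hA hexp
    -- the abelian normal subgroup `Z(Y)`
    set Y := Cfsg.pCore 2 H with hYdef
    set Z : Subgroup H := Y ⊓ Subgroup.centralizer (Y : Set H) with hZdef
    haveI : Z.Normal := by rw [hZdef]; infer_instance
    have hZc : ∀ a ∈ Z, ∀ b ∈ Z, a * b = b * a := by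
      intro a ha b hb
      exact (Subgroup.mem_centralizer_iff.1 hb.2 a ha.1)
    have hZ1 : Z ≠ ⊥ := by
      have hYt : (⊤ : Subgroup ↥Y) ≠ ⊥ := by
        intro h
        apply hY1
        rw [eq_bot_iff]
        intro y hy
        have : (⟨y, hy⟩ : ↥Y) ∈ (⊥ : Subgroup ↥Y) := by rw [← h]; trivial
        rw [Subgroup.mem_bot] at this
        rw [Subgroup.mem_bot]
        exact congrArg Subtype.val this
      obtain ⟨b, -, hb1, hbc⟩ := Cfsg.Agent.Lib.Helper53.normal_meets_center hY ⊤ hYt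
      intro hbot
      apply hb1
      have hbZ : (b : H) ∈ Z := by
        refine ⟨b.2, ?_⟩
        show (b : H) ∈ Subgroup.centralizer (Y : Set H)
        rw [Subgroup.mem_centralizer_iff]
        intro h hh
        have := Subgroup.mem_center_iff.1 hbc ⟨h, hh⟩
        exact congrArg Subtype.val this
      rw [hbot, Subgroup.mem_bot] at hbZ
      exact Subtype.ext hbZ
    let ι : ↥A →* H := X.subtype.comp ((P : Subgroup X).subtype.comp A.subtype)
    have hιinj : Function.Injective ι := by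
      intro a b hab
      have h1 : ((a : ↥(P : Subgroup X)) : X) = ((b : ↥(P : Subgroup X)) : X) := Subtype.ext hab
      exact Subtype.ext (Subtype.ext h1)
    have hcyc : IsCyclic ↥A := by
      apply cyclic_of_fpf_on_normal Z hZc hZ1 (fun a b => hA.is_comm.comm a b) ι
      intro g hg v hv hcomm
      by_contra hv1
      have hodd : Odd (orderOf (ι g)) := by
        have h1 : ι g = (((g : ↥(P : Subgroup X)) : X) : H) := rfl
        rw [h1, Subgroup.orderOf_coe]
        exact Odd.of_dvd_nat hXodd (orderOf_dvd_natCard _)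
      have hne : ι g ≠ 1 := by
        intro h
        apply hg
        apply hιinj
        rw [h, map_one]
      exact hnc (ι g) hodd hne v hv.1 hv1 hcomm
    obtain ⟨g, hg⟩ := hcyc.exists_generator
    have hcard : orderOf g = Nat.card ↥A := orderOf_eq_card_of_forall_mem_zpowers hg
    have hgp : g ^ p = 1 := by
      have := hexp g g.2
      exact Subtype.ext this
    rw [← hcard]
    exact Nat.le_of_dvd hp.out.pos (orderOf_dvd_of_pow_eq_one hgp)

/-- The commutator subgroup centralizes every cyclic normal subgroup. -/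
theorem commutator_le_centralizer_of_cyclic_normal {G : Type*} [Group G] (N : Subgroup G)
    [N.Normal] [IsCyclic N] : commutator G ≤ Subgroup.centralizer (N : Set G) := by
  have hcomm : ∀ a b : MulAut N, a * b = b * a := by
    intro a b
    apply (IsCyclic.mulAutMulEquiv N).injective
    rw [map_mul, map_mul, mul_comm]
  rw [commutator_def, Subgroup.commutator_le]
  intro g _ h _
  rw [Subgroup.mem_centralizer_iff]
  intro n hn
  have h1 : (MulAut.conjNormal (H := N)) ⁅g, h⁆ = 1 := by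
    rw [commutatorElement_def, map_mul, map_mul, map_mul, map_inv, map_inv,
      hcomm (MulAut.conjNormal g)]
    group
  have h2 := MulAut.conjNormal_apply ⁅g, h⁆ (⟨n, hn⟩ : N)
  rw [h1] at h2
  have h3 : n = ⁅g, h⁆ * n * ⁅g, h⁆⁻¹ := h2
  calc n * ⁅g, h⁆ = (⁅g, h⁆ * n * ⁅g, h⁆⁻¹) * ⁅g, h⁆ := by rw [← h3]
    _ = ⁅g, h⁆ * n := by group

/-- fixed points of conjugation by an element of prime order on an invariant finite set -/
theorem exists_conj_fixed {G : Type*} [Group G] (x : G) (q : ℕ) [Fact q.Prime] (hx : x ^ q = 1)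
    (S : Set G) [Finite S] (hS : ∀ s ∈ S, x * s * x⁻¹ ∈ S) (hq : ¬ q ∣ Nat.card S) :
    ∃ s ∈ S, x * s * x⁻¹ = s := by
  classical
  have : Fintype ↥S := Fintype.ofFinite _
  let f : Function.End ↥S := fun s => ⟨x * s.1 * x⁻¹, hS s.1 s.2⟩
  have hpow : ∀ k : ℕ, ∀ s : ↥S, ((f ^ k) s).1 = x ^ k * s.1 * (x ^ k)⁻¹ := by
    intro k
    induction k with
    | zero => intro s; rw [pow_zero, pow_zero]; simp; rfl
    | succ k ih =>
      intro s
      rw [pow_succ]
      change ((f ^ k) (f s)).1 = _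
      rw [ih, pow_succ]
      change x ^ k * (x * s.1 * x⁻¹) * (x ^ k)⁻¹ = _
      group
  have hf : f ^ q ^ 1 = 1 := by
    rw [pow_one]
    funext s
    apply Subtype.ext
    rw [hpow, hx]
    simp
    rfl
  have key := Equiv.Perm.card_fixedPoints_modEq (p := q) (n := 1) (f := f) hf
  by_contra hno
  have hempty : IsEmpty ↥(Function.fixedPoints f) := by
    constructor
    rintro ⟨s, hs⟩
    exact hno ⟨s.1, s.2, congrArg Subtype.val hs⟩
  rw [Fintype.card_eq_zero (α := ↥(Function.fixedPoints f)), ← Nat.card_eq_fintype_card] at key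
  exact hq ((Nat.modEq_zero_iff_dvd).1 key)

/-- `p`-subgroups of the image of a subgroup with cyclic Sylow subgroups, under a map injective
on it, are cyclic. -/
theorem cyclic_of_pgroup_le_map {G' : Type*} [Group G'] (π : H →* G') (X : Subgroup H)
    (hinj : X ⊓ π.ker = ⊥)
    (hcyc : ∀ (p : ℕ) [Fact p.Prime] (P : Sylow p ↥X), IsCyclic ↥(P : Subgroup ↥X))
    (p : ℕ) [Fact p.Prime] (N : Subgroup G') (hN : IsPGroup p N) (hle : N ≤ X.map π) :
    IsCyclic ↥N := by
  set f : ↥X →* G' := π.comp X.subtype with hf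
  have hfinj : Function.Injective f := by
    rw [injective_iff_map_eq_one]
    intro a ha
    have h1 : (a : H) ∈ X ⊓ π.ker := ⟨a.2, ha⟩
    rw [hinj, Subgroup.mem_bot] at h1
    exact Subtype.ext h1
  have hQ : IsPGroup p (N.comap f) := hN.comap_of_injective f hfinj
  obtain ⟨P, hP⟩ := hQ.exists_le_sylow
  haveI : IsCyclic ↥(P : Subgroup ↥X) := hcyc p P
  haveI : IsCyclic ↥(N.comap f) := Subgroup.isCyclic_of_le hP
  apply isCyclic_of_surjective (f.subgroupComap N)
  rintro ⟨n, hn⟩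
  obtain ⟨x, hx, rfl⟩ := hle hn
  exact ⟨⟨⟨x, hx⟩, hn⟩, rfl⟩

open Cfsg.Agent.Lib.Helper76 Cfsg.Agent.Lib.Helper33 in
/-- Facts about `H ⧸ O_2(H)`. -/
theorem quotient_facts [hYn : (Cfsg.pCore 2 H).Normal] (hsol : Group.IsSolvable H)
    (X : Subgroup H) (hXodd : Odd (Nat.card X)) (hXidx : ∃ k : ℕ, X.index = 2 ^ k) :
    Cfsg.pCore 2 (H ⧸ Cfsg.pCore 2 H) = ⊥ ∧
    X ⊓ (QuotientGroup.mk' (Cfsg.pCore 2 H)).ker = ⊥ ∧
    (∀ N : Subgroup (H ⧸ Cfsg.pCore 2 H), N.Normal → (Nat.card N).Coprime 2 →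
      N ≤ X.map (QuotientGroup.mk' (Cfsg.pCore 2 H))) := by
  haveI : Fact (Nat.Prime 2) := ⟨Nat.prime_two⟩
  have hY : IsPGroup 2 (Cfsg.pCore 2 H) := Cfsg.Agent.Lib.Helper22.pCore_isPGroup' 2 H
  have hsurj := QuotientGroup.mk'_surjective (Cfsg.pCore 2 H)
  refine ⟨?_, ?_, ?_⟩
  · have h1 := Cfsg.Agent.Lib.Helper47.comap_pCore_quotient (Cfsg.pCore 2 H) hY
    have h2 := congrArg (Subgroup.map (QuotientGroup.mk' (Cfsg.pCore 2 H))) h1
    rwa [Subgroup.map_comap_eq_self_of_surjective hsurj, QuotientGroup.map_mk'_self] at h2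
  · rw [QuotientGroup.ker_mk']
    apply disjoint_iff.1
    apply Subgroup.disjoint_of_coprime_natCard
    obtain ⟨k, hk⟩ := IsPGroup.iff_card.1 hY
    rw [hk]
    exact Nat.Coprime.pow_right k (Nat.coprime_two_right.2 hXodd)
  · intro N hN hNodd
    have hps : IsPSolvable 2 (H ⧸ Cfsg.pCore 2 H) :=
      Cfsg.Agent.Lib.Helper53.isPSolvable_of_isSolvable 2 inferInstance
    have hXc : IsPCompl 2 X := ⟨Nat.coprime_two_right.2 hXodd, hXidx⟩
    have hXbar := hXc.map (QuotientGroup.mk' (Cfsg.pCore 2 H)) hsurj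
    obtain ⟨g, hg⟩ := isPCompl_dominates hps hXbar hNodd
    have : cj g N = N := cj_eq_self_iff.2 (by rw [Subgroup.normalizer_eq_top]; trivial)
    rwa [this] at hg

open Cfsg.Agent.Lib.Helper76 Cfsg.Agent.Lib.Helper33 in
theorem commutator_le_map [hYn : (Cfsg.pCore 2 H).Normal] (hsol : Group.IsSolvable H)
    (X : Subgroup H) (hXodd : Odd (Nat.card X)) (hXidx : ∃ k : ℕ, X.index = 2 ^ k)
    (hcyc : ∀ (p : ℕ) [Fact p.Prime] (P : Sylow p ↥X), IsCyclic ↥(P : Subgroup ↥X)) :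
    commutator (H ⧸ Cfsg.pCore 2 H) ≤ X.map (QuotientGroup.mk' (Cfsg.pCore 2 H)) := by
  haveI : Fact (Nat.Prime 2) := ⟨Nat.prime_two⟩
  obtain ⟨hpc2, hinj, hG1⟩ := quotient_facts hsol X hXodd hXidx
  have key : ∀ p : Nat.Primes,
      commutator (H ⧸ Cfsg.pCore 2 H) ≤
        Subgroup.centralizer (Cfsg.pCore (p : ℕ) (H ⧸ Cfsg.pCore 2 H) : Set (H ⧸ Cfsg.pCore 2 H)) ∧
      Cfsg.pCore (p : ℕ) (H ⧸ Cfsg.pCore 2 H) ≤ X.map (QuotientGroup.mk' (Cfsg.pCore 2 H)) := by
    intro p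
    haveI : Fact (p : ℕ).Prime := ⟨p.2⟩
    by_cases hp2 : (p : ℕ) = 2
    · rw [hp2, hpc2]
      refine ⟨?_, bot_le⟩
      intro z _
      rw [Subgroup.mem_centralizer_iff]
      intro h hh
      have : h = 1 := hh
      rw [this, one_mul, mul_one]
    · haveI hNn : (Cfsg.pCore (p : ℕ) (H ⧸ Cfsg.pCore 2 H)).Normal :=
        Cfsg.Agent.Lib.Helper22.pCore_normal' p _
      have hNp : IsPGroup p (Cfsg.pCore (p : ℕ) (H ⧸ Cfsg.pCore 2 H)) :=
        Cfsg.Agent.Lib.Helper22.pCore_isPGroup' p _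
      have hNodd : (Nat.card (Cfsg.pCore (p : ℕ) (H ⧸ Cfsg.pCore 2 H))).Coprime 2 := by
        obtain ⟨k, hk⟩ := IsPGroup.iff_card.1 hNp
        rw [hk]
        apply Nat.Coprime.pow_left
        exact (Nat.coprime_primes p.2 Nat.prime_two).2 hp2
      have hle := hG1 _ hNn hNodd
      haveI : IsCyclic ↥(Cfsg.pCore (p : ℕ) (H ⧸ Cfsg.pCore 2 H)) :=
        cyclic_of_pgroup_le_map (QuotientGroup.mk' (Cfsg.pCore 2 H)) X hinj hcyc p _ hNp hle
      exact ⟨commutator_le_centralizer_of_cyclic_normal _, hle⟩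
  have hF : Subgroup.centralizer (Cfsg.fittingSubgroup (H ⧸ Cfsg.pCore 2 H) : Set (H ⧸ Cfsg.pCore 2 H))
      ≤ Cfsg.fittingSubgroup (H ⧸ Cfsg.pCore 2 H) := Cfsg.Agent.Lib.Helper10.centralizer_fitting_le
  have hFle : Cfsg.fittingSubgroup (H ⧸ Cfsg.pCore 2 H) ≤
      X.map (QuotientGroup.mk' (Cfsg.pCore 2 H)) := by
    rw [Cfsg.Agent.Lib.Helper22.fittingSubgroup_eq_iSup_pCore]
    exact iSup_le fun p => (key p).2
  refine le_trans ?_ (hF.trans hFle)
  rw [Cfsg.Agent.Lib.Helper22.fittingSubgroup_eq_iSup_pCore, Subgroup.le_centralizer_iff]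
  apply iSup_le
  intro p
  rw [← Subgroup.le_centralizer_iff]
  exact (key p).1

open Cfsg.Agent.Lib.Helper76 Cfsg.Agent.Lib.Helper33 in
theorem quotient_cyclic [hYn : (Cfsg.pCore 2 H).Normal] (hsol : Group.IsSolvable H)
    (hI : ∀ t : H, orderOf t = 2 → Cfsg.HasNormalPComplement 2 ↥(Subgroup.centralizer ({t} : Set H)))
    (X : Subgroup H) (hXodd : Odd (Nat.card X)) (hXidx : ∃ k : ℕ, X.index = 2 ^ k)
    (hcyc : ∀ (p : ℕ) [Fact p.Prime] (P : Sylow p ↥X), IsCyclic ↥(P : Subgroup ↥X))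
    (hnc : ∀ x : H, Odd (orderOf x) → x ≠ 1 → ∀ y ∈ Cfsg.pCore 2 H, y ≠ 1 → x * y ≠ y * x)
    (hY1 : Cfsg.pCore 2 H ≠ ⊥)
    (hN : (X ⊔ Cfsg.pCore 2 H).Normal) (h2 : IsPGroup 2 (H ⧸ (X ⊔ Cfsg.pCore 2 H))) :
    IsCyclic (H ⧸ (X ⊔ Cfsg.pCore 2 H)) := by
  haveI : Fact (Nat.Prime 2) := ⟨Nat.prime_two⟩
  by_contra hncyc
  have hY : IsPGroup 2 (Cfsg.pCore 2 H) := Cfsg.Agent.Lib.Helper22.pCore_isPGroup' 2 H
  obtain ⟨hpc2, hinj, hG1⟩ := quotient_facts hsol X hXodd hXidx
  set Y := Cfsg.pCore 2 H with hYdef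
  set K := X ⊔ Y with hKdef
  set π := QuotientGroup.mk' Y with hπ
  have hkerπ : π.ker = Y := QuotientGroup.ker_mk' Y
  have hYK : Y ≤ K := le_sup_right
  -- the quotient `H ⧸ Y` is nontrivial
  have hGnt : Nat.card (H ⧸ Y) ≠ 1 := by
    intro h
    apply hncyc
    have h1 : Y = ⊤ := by rw [← Subgroup.index_eq_one, Subgroup.index_eq_card]; exact h
    have h3 : K = ⊤ := by rw [eq_top_iff, ← h1]; exact hYK
    haveI : Subsingleton (H ⧸ K) := by
      have h4 : Nat.card (H ⧸ K) = 1 := by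
        rw [← Subgroup.index_eq_card, Subgroup.index_eq_one]; exact h3
      exact (Nat.card_eq_one_iff_unique.1 h4).1
    exact isCyclic_of_subsingleton
  -- a minimal normal subgroup `M` of `H ⧸ Y`, of odd prime order `q`
  obtain ⟨q, M, hq, -, hMn, hM1, hMc, hMexp⟩ :=
    Cfsg.Agent.Lib.Helper1.exists_normal_elementary_le (G := H ⧸ Y) ⊤ inferInstance
      (Cfsg.Agent.Lib.Helper1.top_ne_bot_of_card hGnt)
  haveI := hMn
  haveI : Fact q.Prime := ⟨hq⟩
  have hMq : IsPGroup q M := Cfsg.Agent.Lib.Helper1.isPGroup_of_exponent M hMexp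
  have hq2 : q ≠ 2 := by
    rintro rfl
    apply hM1
    rw [eq_bot_iff, ← hpc2]
    exact Cfsg.Agent.Lib.Helper22.le_pCore' hMn hMq
  have hModd : (Nat.card M).Coprime 2 := by
    obtain ⟨k, hk⟩ := IsPGroup.iff_card.1 hMq
    rw [hk]
    apply Nat.Coprime.pow_left
    exact (Nat.coprime_primes hq Nat.prime_two).2 hq2
  have hMle : M ≤ X.map π := hG1 M hMn hModd
  haveI hMcyc : IsCyclic ↥M := cyclic_of_pgroup_le_map π X hinj hcyc q M hMq hMle
  have hcardM : Nat.card M = q := by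
    obtain ⟨g, hg⟩ := hMcyc.exists_generator
    have hcard : orderOf g = Nat.card ↥M := orderOf_eq_card_of_forall_mem_zpowers hg
    have hgq : g ^ q = 1 := Subtype.ext (hMexp g g.2)
    have hdvd : Nat.card M ∣ q := hcard ▸ orderOf_dvd_of_pow_eq_one hgq
    rcases (Nat.dvd_prime hq).1 hdvd with h | h
    · exfalso
      apply hM1
      rw [← Subgroup.card_eq_one]; exact h
    · exact h
  haveI : IsCyclic (MulAut ↥M) := by
    have hU : IsCyclic (ZMod (Nat.card M))ˣ := by rw [hcardM]; infer_instance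
    have e := IsCyclic.mulAutMulEquiv M
    exact isCyclic_of_surjective e.symm e.symm.surjective
  set φ : H →* MulAut ↥M := (MulAut.conjNormal (H := M)).comp π with hφ
  -- an element of the kernel outside `K`
  have hex : ∃ c : H, φ c = 1 ∧ c ∉ K := by
    by_contra hall
    push Not at hall
    apply hncyc
    obtain ⟨⟨a, g₀, rfl⟩, hgen⟩ := IsCyclic.exists_generator (α := φ.range)
    refine ⟨⟨QuotientGroup.mk g₀, fun z => ?_⟩⟩
    induction z using QuotientGroup.induction_on with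
    | H h =>
      obtain ⟨n, hn⟩ := Subgroup.mem_zpowers_iff.1 (hgen ⟨φ h, h, rfl⟩)
      have h5 : φ (g₀ ^ n) = φ h := by
        rw [map_zpow]; exact congrArg Subtype.val hn
      have hk : (g₀ ^ n)⁻¹ * h ∈ K := hall _ (by rw [map_mul, map_inv, h5, inv_mul_cancel])
      refine Subgroup.mem_zpowers_iff.2 ⟨n, ?_⟩
      rw [← QuotientGroup.mk_zpow]
      exact QuotientGroup.eq.2 hk
  obtain ⟨c, hc1, hcK⟩ := hex
  -- the `2`-part of `c`
  obtain ⟨a, b, hb, hab⟩ := Nat.exists_eq_two_pow_mul_odd (orderOf_pos c).ne'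
  have hcb : c ^ b ∉ K := by
    intro h
    apply hcK
    have h3 : ((c : H) : H ⧸ K) ^ b = 1 := by
      rw [← QuotientGroup.mk_pow]; exact (QuotientGroup.eq_one_iff _).2 h
    obtain ⟨j, hj⟩ := (IsPGroup.iff_orderOf.1 h2) ((c : H) : H ⧸ K)
    have h4 : orderOf ((c : H) : H ⧸ K) ∣ b := orderOf_dvd_of_pow_eq_one h3
    rw [hj] at h4
    rcases Nat.eq_zero_or_pos j with h0 | h0
    · rw [h0, pow_zero] at hj
      exact (QuotientGroup.eq_one_iff _).1 (orderOf_eq_one_iff.1 hj)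
    · exfalso
      have : 2 ∣ b := dvd_trans (dvd_pow_self 2 h0.ne') h4
      exact (Nat.not_even_iff_odd.2 hb) (even_iff_two_dvd.2 this)
  have hcb1 : φ (c ^ b) = 1 := by rw [map_pow, hc1, one_pow]
  have hcb2 : (c ^ b) ^ (2 ^ a) = 1 := by
    rw [← pow_mul, mul_comm, ← hab, pow_orderOf_eq_one]
  have hP : IsPGroup 2 ↥(Subgroup.zpowers (c ^ b)) := by
    obtain ⟨i, -, hi⟩ := (Nat.dvd_prime_pow Nat.prime_two).1 (orderOf_dvd_of_pow_eq_one hcb2)
    exact IsPGroup.of_card (n := i) (by rw [Nat.card_zpowers, hi])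
  have hcbY : (⟨c ^ b, Subgroup.mem_zpowers _⟩ : Subgroup.zpowers (c ^ b)) ∉
      Y.subgroupOf (Subgroup.zpowers (c ^ b)) := by
    rw [Subgroup.mem_subgroupOf]
    exact fun h => hcb (hYK h)
  obtain ⟨i, hi1, hi2⟩ := Cfsg.Agent.Lib.Helper53.exists_pow_not_mem_sq_mem hP _ hcbY
  rw [Subgroup.mem_subgroupOf] at hi1 hi2
  set v : H := (c ^ b) ^ i with hv
  have hvY : v ∉ Y := hi1
  have hvvY : v * v ∈ Y := hi2
  have hv1 : φ v = 1 := by rw [hv, map_pow, hcb1, one_pow]
  -- an element `x` of order `q` in `X` mapping into `M`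
  obtain ⟨m, hm, hm1⟩ := M.bot_or_exists_ne_one.resolve_left hM1
  obtain ⟨x, hxX, hxm⟩ := hMle hm
  have hxq : x ^ q = 1 := by
    have h3 : x ^ q ∈ X ⊓ π.ker := by
      refine ⟨X.pow_mem hxX q, ?_⟩
      show x ^ q ∈ π.ker
      rw [MonoidHom.mem_ker, map_pow, hxm]
      exact hMexp m hm
    rw [hinj, Subgroup.mem_bot] at h3
    exact h3
  have hx1 : x ≠ 1 := by
    rintro rfl
    apply hm1
    rw [← hxm, map_one]
  have hxodd : Odd (orderOf x) := by
    have h3 : orderOf (⟨x, hxX⟩ : X) = orderOf x := Subgroup.orderOf_mk x hxX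
    rw [← h3]
    exact Odd.of_dvd_nat hXodd (orderOf_dvd_natCard _)
  -- `v` commutes with `m` in the quotient
  have hvm : π v * m = m * π v := by
    have h3 := MulAut.conjNormal_apply (π v) (⟨m, hm⟩ : M)
    have h4 : MulAut.conjNormal (H := M) (π v) = 1 := hv1
    rw [h4] at h3
    have h5 : m = π v * m * (π v)⁻¹ := h3
    calc π v * m = (π v * m * (π v)⁻¹) * π v := by group
      _ = m * π v := by rw [← h5]
  have hcommY : v⁻¹ * x * v * x⁻¹ ∈ Y := by
    rw [← hkerπ, MonoidHom.mem_ker, map_mul, map_mul, map_mul, map_inv, map_inv, hxm]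
    calc (π v)⁻¹ * m * π v * m⁻¹ = (π v)⁻¹ * (m * π v) * m⁻¹ := by group
      _ = 1 := by rw [← hvm]; group
  -- the coset `vY` is invariant under `x`
  set S : Set H := (fun y => v * y) '' (Y : Set H) with hS
  have hSinv : ∀ s ∈ S, x * s * x⁻¹ ∈ S := by
    rintro _ ⟨y, hy, rfl⟩
    refine ⟨v⁻¹ * x * v * x⁻¹ * (x * y * x⁻¹), ?_, ?_⟩
    · exact Y.mul_mem hcommY (hYn.conj_mem y hy x)
    · simp only
      group
  have hScard : Nat.card S = Nat.card Y := by
    rw [hS, Nat.card_image_of_injective (mul_right_injective v)]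
    rfl
  have hqS : ¬ q ∣ Nat.card S := by
    rw [hScard]
    obtain ⟨k, hk⟩ := IsPGroup.iff_card.1 hY
    rw [hk]
    intro h
    have := (Nat.prime_dvd_prime_iff_eq hq Nat.prime_two).1 (hq.dvd_of_dvd_pow h)
    exact hq2 this
  obtain ⟨s, ⟨y₀, hy₀, rfl⟩, hsx⟩ := exists_conj_fixed x q hxq S hSinv hqS
  simp only at hsx
  set s := v * y₀ with hs
  have hsY : s ∉ Y := by
    intro h
    apply hvY
    have : v = s * y₀⁻¹ := by rw [hs]; group
    rw [this]
    exact Y.mul_mem h (Y.inv_mem hy₀)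
  have hssY : s * s ∈ Y := by
    have : s * s = (v * v) * (v⁻¹ * y₀ * v⁻¹⁻¹) * y₀ := by rw [hs]; group
    rw [this]
    exact Y.mul_mem (Y.mul_mem hvvY (hYn.conj_mem y₀ hy₀ v⁻¹)) hy₀
  have hxs : x * s = s * x := by
    calc x * s = (x * s * x⁻¹) * x := by group
      _ = s * x := by rw [hsx]
  have hss1 : s * s = 1 := by
    by_contra h
    apply hnc x hxodd hx1 (s * s) hssY h
    exact ((show Commute x s from hxs).mul_right hxs).eq
  have hs1 : s ≠ 1 := by
    intro h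
    apply hsY
    rw [h]; exact Y.one_mem
  have hs2 : orderOf s = 2 := orderOf_eq_prime (by rw [pow_two]; exact hss1) hs1
  have hsinv : s⁻¹ = s := inv_eq_of_mul_eq_one_right hss1
  -- a fixed point of `s` on `Y`
  set T : Set H := (Y : Set H) \ {1} with hT
  have hTinv : ∀ t ∈ T, s * t * s⁻¹ ∈ T := by
    rintro t ⟨ht, ht1⟩
    refine ⟨hYn.conj_mem t ht s, ?_⟩
    intro h
    apply ht1
    have h3 : s * t * s⁻¹ = 1 := h
    have : t = s⁻¹ * (s * t * s⁻¹) * s := by group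
    rw [Set.mem_singleton_iff, this, h3]; group
  have hTcard : ¬ 2 ∣ Nat.card T := by
    rw [Nat.card_coe_set_eq, hT, Set.ncard_sdiff_singleton_of_mem (Y.one_mem),
      ← Nat.card_coe_set_eq]
    have h3 : Nat.card ↥(Y : Set H) = Nat.card Y := rfl
    rw [h3]
    obtain ⟨k, hk⟩ := IsPGroup.iff_card.1 hY
    rw [hk]
    have hk0 : k ≠ 0 := by
      rintro rfl
      apply hY1
      rw [← Subgroup.card_eq_one, hk, pow_zero]
    have : 2 ∣ 2 ^ k := dvd_pow_self 2 hk0
    have hpos : 0 < 2 ^ k := by positivity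
    omega
  obtain ⟨t, ⟨htY, ht1⟩, hst⟩ := exists_conj_fixed s 2 (by rw [pow_two]; exact hss1) T hTinv hTcard
  have hts : t * s = s * t := by
    calc t * s = (s * t * s⁻¹) * s := by rw [hst]
      _ = s * t := by group
  have hxt := comm_of_two_nilpotent Y hY s (hI s hs2) x t hxodd hxs htY hts
  exact hnc x hxodd hx1 t htY (fun h => ht1 h) hxt

end aux

/-- Let H be a finite solvable group with no nontrivial normal subgroup of odd order in which the centralizer of every involution has a normal 2-complement. Let X be a Hall 2'-subgroup of H (odd order, index a power of 2) and Y = O₂(H). Then no non-identity element of X commutes with a non-identity element of Y (so for X ≠ 1 the group XY is a Frobenius group with kernel Y), every Sylow subgroup of X is cyclic, XY is normal in H, and H/XY is a cyclic 2-group. -/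
theorem result {H : Type*} [Group H] [Finite H] (hsol : Group.IsSolvable H)
    (hO : Cfsg.oddCore H = ⊥)
    (hI : ∀ t : H, orderOf t = 2 → Cfsg.HasNormalPComplement 2 ↥(Subgroup.centralizer ({t} : Set H)))
    (X : Subgroup H) (hXodd : Odd (Nat.card X)) (hXidx : ∃ k : ℕ, X.index = 2 ^ k) :
    (∀ x ∈ X, x ≠ 1 → ∀ y ∈ Cfsg.pCore 2 H, y ≠ 1 → x * y ≠ y * x) ∧
      (∀ (p : ℕ) [Fact p.Prime] (P : Sylow p ↥X), IsCyclic ↥(P : Subgroup ↥X)) ∧
      (X ⊔ Cfsg.pCore 2 H).Normal ∧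
      ∀ hN : (X ⊔ Cfsg.pCore 2 H).Normal, IsCyclic (H ⧸ (X ⊔ Cfsg.pCore 2 H)) ∧ IsPGroup 2 (H ⧸ (X ⊔ Cfsg.pCore 2 H)) := by
  haveI : Fact (Nat.Prime 2) := ⟨Nat.prime_two⟩
  haveI hYn : (Cfsg.pCore 2 H).Normal := Cfsg.Agent.Lib.Helper22.pCore_normal' 2 H
  have hO' : Cfsg.pPrimeCore 2 H = ⊥ := hO
  have hnc : ∀ x : H, Odd (orderOf x) → x ≠ 1 → ∀ y ∈ Cfsg.pCore 2 H, y ≠ 1 → x * y ≠ y * x :=
    fun x hx hx1 y hy hy1 => no_comm hsol hO' hI x hx hx1 y hy hy1
  have hXo : ∀ x ∈ X, Odd (orderOf x) := by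
    intro x hx
    have h3 : orderOf (⟨x, hx⟩ : X) = orderOf x := Subgroup.orderOf_mk x hx
    rw [← h3]
    exact Odd.of_dvd_nat hXodd (orderOf_dvd_natCard _)
  by_cases hY1 : Cfsg.pCore 2 H = ⊥
  · have htriv : ∀ h : H, h = 1 := by
      intro h
      have h1 := Cfsg.Agent.Lib.Helper55.centralizer_pCore_le (G := H) 2 hO'
      have hh : h ∈ Subgroup.centralizer ((Cfsg.pCore 2 H : Subgroup H) : Set H) := by
        rw [Subgroup.mem_centralizer_iff]
        intro g hg
        have hg' : g ∈ Cfsg.pCore 2 H := hg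
        rw [hY1, Subgroup.mem_bot] at hg'
        rw [hg', one_mul, mul_one]
      have h2 := h1 hh
      rw [hY1, Subgroup.mem_bot] at h2
      exact h2
    haveI : Subsingleton H := ⟨fun a b => by rw [htriv a, htriv b]⟩
    refine ⟨fun x _ hx1 => absurd (htriv x) hx1, ?_, ?_, ?_⟩
    · intro p _ P
      haveI : Subsingleton ↥(P : Subgroup ↥X) :=
        ⟨fun a b => Subtype.ext (Subtype.ext (Subsingleton.elim _ _))⟩
      exact isCyclic_of_subsingleton
    · refine ⟨fun n hn g => ?_⟩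
      rw [htriv g]
      simpa using hn
    · intro hN
      haveI : Subsingleton (H ⧸ (X ⊔ Cfsg.pCore 2 H)) :=
        ⟨fun a b => by
          induction a using QuotientGroup.induction_on with
          | H a =>
            induction b using QuotientGroup.induction_on with
            | H b => rw [htriv a, htriv b]⟩
      refine ⟨isCyclic_of_subsingleton, ?_⟩
      intro g
      exact ⟨0, Subsingleton.elim _ _⟩
  · have hcyc : ∀ (p : ℕ) [Fact p.Prime] (P : Sylow p ↥X), IsCyclic ↥(P : Subgroup ↥X) :=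
      fun p _ P => sylow_cyclic hnc hY1 X hXodd p P
    have hcomm := commutator_le_map hsol X hXodd hXidx hcyc
    have hXbarN : (X.map (QuotientGroup.mk' (Cfsg.pCore 2 H))).Normal :=
      Subgroup.Normal.of_commutator_le _ hcomm
    have hKeq : X ⊔ Cfsg.pCore 2 H =
        (X.map (QuotientGroup.mk' (Cfsg.pCore 2 H))).comap (QuotientGroup.mk' (Cfsg.pCore 2 H)) := by
      rw [Subgroup.comap_map_eq, QuotientGroup.ker_mk']
    have hKn : (X ⊔ Cfsg.pCore 2 H).Normal := by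
      rw [hKeq]; exact hXbarN.comap _
    refine ⟨fun x hx hx1 y hy hy1 => hnc x (hXo x hx) hx1 y hy hy1, hcyc, hKn, fun hN => ?_⟩
    have h2 : IsPGroup 2 (H ⧸ (X ⊔ Cfsg.pCore 2 H)) := by
      obtain ⟨k, hk⟩ := hXidx
      have hdvd : (X ⊔ Cfsg.pCore 2 H).index ∣ X.index := Subgroup.index_dvd_of_le le_sup_left
      rw [hk] at hdvd
      obtain ⟨j, -, hj⟩ := (Nat.dvd_prime_pow Nat.prime_two).1 hdvd
      exact IsPGroup.of_card (n := j) (by rw [← Subgroup.index_eq_card, hj])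
    exact ⟨quotient_cyclic hsol hI X hXodd hXidx hcyc hnc hY1 hN h2, h2⟩

end Cfsg.Agent.S3215
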