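import Cfsg.Statements.S3224
import Cfsg.Agent.Lib.Helper73.MaxClass
import Cfsg.Agent.Lib.Helper46.UniqueOrderP
import Cfsg.Agent.Lib.Helper53.PGroupAux

set_option autoImplicit false
open Cfsg

namespace Cfsg.Agent.S3224

open Cfsg.Agent.Lib.Helper53
open scoped commutatorElement

/-- The conjugacy class of `x` injects into the commutator subgroup. -/
theorem card_le_commutator_mul_centralizer {S : Type*} [Group S] [Finite S] (x : S) :
    Nat.card S ≤ Nat.card (commutator S) * Nat.card (Subgroup.centralizer ({x} : Set S)) := by
  set C := Subgroup.centralizer ({x} : Set S) with hC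
  have hmem : ∀ g : S, g * x * g⁻¹ * x⁻¹ ∈ commutator S := by
    intro g
    rw [commutator_def, ← commutatorElement_def]
    exact Subgroup.commutator_mem_commutator (Subgroup.mem_top g) (Subgroup.mem_top x)
  let f : S ⧸ C → commutator S := fun q =>
    Quotient.liftOn' q (fun g => (⟨g * x * g⁻¹ * x⁻¹, hmem g⟩ : commutator S)) (by
      intro a b hab
      rw [QuotientGroup.leftRel_apply, hC, Subgroup.mem_centralizer_singleton_iff] at hab
      apply Subtype.ext
      change a * x * a⁻¹ * x⁻¹ = b * x * b⁻¹ * x⁻¹
      have h1 : b * x * b⁻¹ = a * x * a⁻¹ := by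
        have : x = (a⁻¹ * b)⁻¹ * x * (a⁻¹ * b) := by
          rw [mul_assoc, ← hab, ← mul_assoc, inv_mul_cancel, one_mul]
        calc b * x * b⁻¹ = a * ((a⁻¹ * b) * x * (a⁻¹ * b)⁻¹) * a⁻¹ := by group
          _ = a * x * a⁻¹ := by rw [hab, mul_inv_cancel_right]
      rw [h1])
  have hf : Function.Injective f := by
    intro q₁ q₂
    induction q₁ using Quotient.inductionOn' with | _ a => ?_
    induction q₂ using Quotient.inductionOn' with | _ b => ?_
    intro h
    have h' : a * x * a⁻¹ * x⁻¹ = b * x * b⁻¹ * x⁻¹ := congrArg Subtype.val h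
    have h1 : a * x * a⁻¹ = b * x * b⁻¹ := mul_right_cancel h'
    apply Quotient.sound'
    rw [QuotientGroup.leftRel_apply, hC, Subgroup.mem_centralizer_singleton_iff]
    calc a⁻¹ * b * x = a⁻¹ * (b * x * b⁻¹) * b := by group
      _ = a⁻¹ * (a * x * a⁻¹) * b := by rw [h1]
      _ = x * (a⁻¹ * b) := by group
  have h1 : Nat.card (S ⧸ C) ≤ Nat.card (commutator S) := Nat.card_le_card_of_injective f hf
  rw [Subgroup.card_eq_card_quotient_mul_card_subgroup C]
  exact Nat.mul_le_mul_right _ h1

/-- A finite 2-group containing an involution whose centralizer has order 4 is dihedral, quasi-dihedral (semidihedral), or of order 4. -/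
theorem result {S : Type*} [Group S] [Finite S] (hS : IsPGroup 2 S)
    (x : S) (hx : orderOf x = 2) (hC : Nat.card ↥(Subgroup.centralizer ({x} : Set S)) = 4) :
    (∃ n : ℕ, Nonempty (S ≃* DihedralGroup n)) ∨ Cfsg.IsQuasiDihedral S ∨ Nat.card S = 4 := by
  classical
  have : Fact (Nat.Prime 2) := ⟨Nat.prime_two⟩
  have hx1 : x ≠ 1 := by
    intro h; rw [h, orderOf_one] at hx; norm_num at hx
  -- if `x` is central then `|S| = 4`
  have hcentral : (∀ g : S, g * x = x * g) → Nat.card S = 4 := by
    intro h
    have : Subgroup.centralizer ({x} : Set S) = ⊤ := by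
      rw [eq_top_iff]
      intro g _
      exact Subgroup.mem_centralizer_singleton_iff.2 (h g)
    rw [this, Subgroup.card_top] at hC
    exact hC
  by_cases hab : commutator S = ⊥
  · right; right
    apply hcentral
    intro g
    have : ⁅g, x⁆ ∈ commutator S := by
      rw [commutator_def]
      exact Subgroup.commutator_mem_commutator (Subgroup.mem_top g) (Subgroup.mem_top x)
    rw [hab, Subgroup.mem_bot, commutatorElement_eq_one_iff_mul_comm] at this
    exact this
  · have h4dvd : 2 ^ 2 ∣ (commutator S).index :=
      Cfsg.Agent.Lib.Helper73.sq_dvd_index_commutator hS hab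
    have hle := card_le_commutator_mul_centralizer x
    rw [hC] at hle
    have hmul := Subgroup.card_mul_index (commutator S)
    have hpos : 0 < Nat.card (commutator S) := Nat.card_pos
    have hidx : (commutator S).index = 4 := by
      have h1 : (commutator S).index ≤ 4 := by
        by_contra hcon
        rw [not_le] at hcon
        have : Nat.card (commutator S) * 4 < Nat.card (commutator S) * (commutator S).index :=
          Nat.mul_lt_mul_of_pos_left hcon hpos
        omega
      have h2 : 4 ≤ (commutator S).index := by
        have hne : (commutator S).index ≠ 0 := Subgroup.index_ne_zero_of_finite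
        exact Nat.le_of_dvd (Nat.pos_of_ne_zero hne) h4dvd
      omega
    rcases Cfsg.Agent.Lib.Helper73.taussky hS hidx hab with ⟨k, ⟨e⟩⟩ | ⟨k, hcard, a, b, ha, hb, hconj⟩ | ⟨k, ⟨e⟩⟩
    · left
      exact ⟨2 ^ (k + 2), ⟨e⟩⟩
    · right; left
      refine ⟨k + 3, by omega, hcard, a, b, ha, hb, ?_⟩
      rw [hconj]
      rfl
    · exfalso
      have hne : NeZero (2 ^ (k + 1)) := ⟨by positivity⟩
      obtain ⟨z, hz, hzu⟩ := Cfsg.Agent.Lib.Helper46.quaternion_unique_involution (n := 2 ^ (k + 1))
      have huniq : ∀ y : S, orderOf y = 2 → e y = z := by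
        intro y hy
        have hy2' : y ^ 2 = 1 := by
          rw [← hy]; exact pow_orderOf_eq_one y
        have hy2 : (e y) ^ 2 = 1 := by
          rw [← map_pow, hy2', map_one]
        rcases mem_zpowers_of_orderOf_two z hz _ (hzu _ hy2) with h | h
        · exfalso
          have : y = 1 := e.injective (by rw [h, map_one])
          rw [this, orderOf_one] at hy
          norm_num at hy
        · exact h
      have hcard4 : Nat.card S = 4 := by
        apply hcentral
        intro g
        have ho : orderOf (g * x * g⁻¹) = 2 := by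
          have : g * x * g⁻¹ = MulAut.conj g x := by simp [MulAut.conj_apply]
          rw [this, MulEquiv.orderOf_eq, hx]
        have : g * x * g⁻¹ = x := e.injective (by rw [huniq _ ho, huniq _ hx])
        calc g * x = (g * x * g⁻¹) * g := by group
          _ = x * g := by rw [this]
      apply hab
      have hcomm : IsMulCommutative S :=
        IsPGroup.isMulCommutative_of_card_eq_prime_sq (p := 2) (by rw [hcard4]; norm_num)
      exact Cfsg.Agent.Lib.Helper73.commutator_eq_bot_of_comm (fun a b => hcomm.is_comm.comm a b)

end Cfsg.Agent.S3224
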