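import Cfsg.Statements.S3247
import Cfsg.Agent.Lib.Helper54.PConstr4

set_option autoImplicit false
open Cfsg

namespace Cfsg.Agent.S3247

/-- Let G be a finite group and p a prime; here a p-local subgroup means the normalizer of a nontrivial p-subgroup, other than G itself. If every p-local subgroup of G that is maximal among p-local subgroups is p-constrained, or if the centralizer of every element of order p of G is p-constrained, then every p-local subgroup of G is p-constrained. -/
theorem result {G : Type*} [Group G] [Finite G] (p : ℕ) [hp : Fact p.Prime]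
    (h : (∀ M : Subgroup G, (∃ T : Subgroup G, IsPGroup p ↥T ∧ T ≠ ⊥ ∧ M = Subgroup.normalizer (T : Set G)) → M ≠ ⊤ →
        (∀ M' : Subgroup G, (∃ T' : Subgroup G, IsPGroup p ↥T' ∧ T' ≠ ⊥ ∧ M' = Subgroup.normalizer (T' : Set G)) → M' ≠ ⊤ → M ≤ M' → M = M') →
        Cfsg.IsPConstrained p ↥M) ∨
      (∀ x : G, orderOf x = p → Cfsg.IsPConstrained p ↥(Subgroup.centralizer ({x} : Set G))))
    (T : Subgroup G) (hT : IsPGroup p ↥T) (hT1 : T ≠ ⊥) (hTG : Subgroup.normalizer (T : Set G) ≠ ⊤) :
    Cfsg.IsPConstrained p ↥(Subgroup.normalizer (T : Set G)) := by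
  rcases h with h | h
  · obtain ⟨M, hNM, hMmax⟩ := Finite.exists_le_maximal
      (p := fun M : Subgroup G => (∃ T : Subgroup G, IsPGroup p ↥T ∧ T ≠ ⊥ ∧
        M = Subgroup.normalizer (T : Set G)) ∧ M ≠ ⊤)
      (a := Subgroup.normalizer (T : Set G)) ⟨⟨T, hT, hT1, rfl⟩, hTG⟩
    have hMc : Cfsg.IsPConstrained p ↥M :=
      h M hMmax.1.1 hMmax.1.2
        (fun M' hM' hM'top hle => le_antisymm hle (hMmax.2 ⟨hM', hM'top⟩ hle))
    have hTM : T ≤ M := Subgroup.le_normalizer.trans hNM
    have h1 := Cfsg.Agent.Lib.Helper54.isPConstrained_normalizer p hMc (T.subgroupOf M)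
      hT.comap_subtype
    rw [← Subgroup.subgroupOf_normalizer_eq hTM] at h1
    exact Cfsg.Agent.Lib.Helper54.isPConstrained_of_mulEquiv p
      (Subgroup.subgroupOfEquivOfLe hNM) h1
  · -- an element of order `p` in the centre of `T`
    haveI : Nontrivial T := (Subgroup.nontrivial_iff_ne_bot T).mpr hT1
    haveI : Nontrivial (Subgroup.center T) := hT.center_nontrivial
    have hZp : IsPGroup p (Subgroup.center T) := hT.to_subgroup _
    have hdvd : p ∣ Nat.card (Subgroup.center T) := by
      rcases hZp.card_eq_or_dvd with h1 | h1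
      · exfalso
        have := (Nat.card_eq_one_iff_unique.mp h1).1
        exact not_nontrivial_iff_subsingleton.mpr this inferInstance
      · exact h1
    obtain ⟨z, hz⟩ := exists_prime_orderOf_dvd_card' p hdvd
    have hzord : orderOf ((z : T) : G) = p := by
      rw [Subgroup.orderOf_coe, Subgroup.orderOf_coe]; exact hz
    apply Cfsg.Agent.Lib.Helper54.isPConstrained_normalizer_of_centralizer p T hT
      ((z : T) : G) (z : T).2 _ (h _ hzord)
    intro t ht
    have := Subgroup.mem_center_iff.mp z.2 ⟨t, ht⟩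
    exact congrArg Subtype.val this

end Cfsg.Agent.S3247
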