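import Cfsg.Statements.S3265
import Cfsg.Agent.Lib.Helper59.InvGraphB

set_option autoImplicit false
set_option linter.unusedSimpArgs false
set_option linter.unusedVariables false
open Cfsg

namespace Cfsg.Agent.S3265

open Equiv Cfsg.Agent.Lib.Helper59.IG

lemma two_swaps {α : Type*} [DecidableEq α] (p q r s : α) (hnd : [p, q, r, s].Nodup) :
    swap p q * swap r s = swap r s * swap p q ∧
      (swap p q * swap r s) * (swap p q * swap r s) = 1 ∧ swap p q * swap r s ≠ 1 := by
  have H1 := hnd
  have H2 := List.nodup_reverse.mpr hnd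
  simp only [List.reverse_cons, List.reverse_nil, List.nil_append, List.cons_append,
    List.nodup_cons, List.mem_cons, List.not_mem_nil, or_false, not_or, List.nodup_nil,
    and_true, not_false_eq_true] at H1 H2
  have hcomm : swap p q * swap r s = swap r s * swap p q := by
    rw [Equiv.mul_swap_eq_swap_mul]
    congr 1
    rw [swap_apply_of_ne_of_ne (by simp [H1, H2]) (by simp [H1, H2]),
      swap_apply_of_ne_of_ne (by simp [H1, H2]) (by simp [H1, H2])]
  refine ⟨hcomm, ?_, ?_⟩
  · calc swap p q * swap r s * (swap p q * swap r s)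
        = swap p q * (swap r s * swap p q) * swap r s := by group
      _ = swap p q * (swap p q * swap r s) * swap r s := by rw [hcomm]
      _ = (swap p q * swap p q) * (swap r s * swap r s) := by group
      _ = 1 := by rw [swap_mul_self, swap_mul_self, one_mul]
  · intro h
    have := congrArg (fun f : Perm α => f r) h
    simp [Perm.mul_apply, swap_apply_def, H1, H2] at this

lemma not_odd_of_two_swaps {α : Type*} [DecidableEq α] (k : Perm α) (h1 : k * k = 1)
    (h2 : k ≠ 1) : ¬ Odd (orderOf k) := by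
  have : orderOf k = 2 := orderOf_eq_prime (by rw [sq]; exact h1) h2
  rw [this]; decide

lemma exists_pair (n : ℕ) (hn : 5 ≤ n) (t : Perm (Fin n)) (ht : orderOf t = 2) :
    ∃ s : Perm (Fin n), IsConj t s ∧ s ≠ t ∧ ¬ Odd (orderOf (t * s)) ∧
      ¬ Odd (orderOf (s * t)) := by
  have htt : t * t = 1 := by
    have := pow_orderOf_eq_one t
    rwa [ht, sq] at this
  have ht1 : t ≠ 1 := by
    intro h; rw [h, orderOf_one] at ht; norm_num at ht
  obtain ⟨a, ha⟩ : ∃ a, t a ≠ a := by
    by_contra hcon
    push Not at hcon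
    exact ht1 (by ext p; simp [hcon p])
  obtain ⟨b, hb⟩ : ∃ b, b = t a := ⟨_, rfl⟩
  have tb : t b = a := by rw [hb]; exact sq_apply t htt a
  have ta : t a = b := hb.symm
  have hab : a ≠ b := by rw [hb]; exact ha.symm
  by_cases hc : ∃ c, c ≠ a ∧ c ≠ b ∧ t c ≠ c
  · obtain ⟨c, hca, hcb, htc⟩ := hc
    obtain ⟨d, hd⟩ : ∃ d, d = t c := ⟨_, rfl⟩
    have td : t d = c := by rw [hd]; exact sq_apply t htt c
    have tc : t c = d := hd.symm
    have hdc : d ≠ c := by rw [hd]; exact htc
    have hda : d ≠ a := by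
      intro h; apply hcb; rw [← td, h, ta]
    have hdb : d ≠ b := by
      intro h; apply hca; rw [← td, h, tb]
    have hnd : [a, d, b, c].Nodup := by
      simp [hab, hca.symm, hcb.symm, hdc, hda.symm, hdb]
    obtain ⟨k1, k2, k3⟩ := two_swaps a d b c hnd
    refine ⟨swap b c * t * (swap b c)⁻¹, isConj_iff.mpr ⟨swap b c, rfl⟩, ?_, ?_, ?_⟩
    · intro h
      have h5 : t * (swap b c * t * (swap b c)⁻¹) = swap a d * swap b c := by
        have : t * swap b c = swap a d * t := by
          rw [Equiv.mul_swap_eq_swap_mul, tb, tc]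
        calc t * (swap b c * t * (swap b c)⁻¹) = (t * swap b c) * t * (swap b c)⁻¹ := by group
          _ = swap a d * (t * t) * (swap b c)⁻¹ := by rw [this]; group
          _ = swap a d * swap b c := by rw [htt, mul_one, swap_inv]
      rw [h, htt] at h5
      exact k3 h5.symm
    · have h5 : t * (swap b c * t * (swap b c)⁻¹) = swap a d * swap b c := by
        have : t * swap b c = swap a d * t := by
          rw [Equiv.mul_swap_eq_swap_mul, tb, tc]
        calc t * (swap b c * t * (swap b c)⁻¹) = (t * swap b c) * t * (swap b c)⁻¹ := by group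
          _ = swap a d * (t * t) * (swap b c)⁻¹ := by rw [this]; group
          _ = swap a d * swap b c := by rw [htt, mul_one, swap_inv]
      rw [h5]
      exact not_odd_of_two_swaps _ k2 k3
    · have h6 : swap b c * t * (swap b c)⁻¹ * t = swap b c * swap a d := by
        have : t * swap b c = swap a d * t := by
          rw [Equiv.mul_swap_eq_swap_mul, tb, tc]
        calc swap b c * t * (swap b c)⁻¹ * t = swap b c * (t * swap b c) * t := by
              rw [swap_inv]; group
          _ = swap b c * swap a d * (t * t) := by rw [this]; group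
          _ = swap b c * swap a d := by rw [htt, mul_one]
      rw [h6, ← k1]
      exact not_odd_of_two_swaps _ k2 k3
  · push Not at hc
    have hts : t = swap a b := by
      refine Equiv.ext fun p => ?_
      by_cases h1 : p = a
      · rw [h1, ta, swap_apply_left]
      by_cases h2 : p = b
      · rw [h2, tb, swap_apply_right]
      rw [swap_apply_of_ne_of_ne h1 h2]
      exact hc p h1 h2
    have hcard : 1 < (Finset.univ \ ({a, b} : Finset (Fin n))).card := by
      have h1 : ({a, b} : Finset (Fin n)).card = 2 := Finset.card_pair hab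
      have h2 := Finset.card_sdiff_add_card_eq_card (Finset.subset_univ ({a, b} : Finset (Fin n)))
      rw [Finset.card_univ, Fintype.card_fin, h1] at h2
      omega
    obtain ⟨c, hc', d, hd', hcd⟩ := Finset.one_lt_card.mp hcard
    simp only [Finset.mem_sdiff, Finset.mem_univ, Finset.mem_insert, Finset.mem_singleton,
      true_and, not_or] at hc' hd'
    have hnd : [a, b, c, d].Nodup := by
      simp [hab, hc'.1, hc'.2, hd'.1, hd'.2, hcd, Ne.symm hc'.1, Ne.symm hc'.2, Ne.symm hd'.1,
        Ne.symm hd'.2]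
    obtain ⟨k1, k2, k3⟩ := two_swaps a b c d hnd
    refine ⟨swap c d, ?_, ?_, ?_, ?_⟩
    · rw [hts]; exact Equiv.Perm.isConj_swap hab hcd
    · intro h
      rw [hts] at h
      have := congrArg (fun f : Perm (Fin n) => f a) h
      simp [swap_apply_def, hab, hc'.1, hd'.1, Ne.symm hc'.1, Ne.symm hd'.1] at this
    · rw [hts]; exact not_odd_of_two_swaps _ k2 k3
    · rw [hts, ← k1]; exact not_odd_of_two_swaps _ k2 k3

/-- Let n ≥ 5 and let X be a conjugacy class of involutions of the symmetric group of degree n. The graph on X joining two distinct involutions whose product has odd order is connected and has diameter exactly 2. -/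
theorem result (n : ℕ) (hn : 5 ≤ n) (t : Equiv.Perm (Fin n)) (ht : orderOf t = 2) :
    (SimpleGraph.fromRel fun x y : {x : Equiv.Perm (Fin n) // IsConj t x} =>
        Odd (orderOf (x.1 * y.1))).Connected ∧
      (SimpleGraph.fromRel fun x y : {x : Equiv.Perm (Fin n) // IsConj t x} =>
        Odd (orderOf (x.1 * y.1))).diam = 2 := by
  obtain ⟨Γ, hΓ⟩ : ∃ Γ : SimpleGraph {x : Equiv.Perm (Fin n) // IsConj t x},
      Γ = SimpleGraph.fromRel fun x y : {x : Equiv.Perm (Fin n) // IsConj t x} =>
        Odd (orderOf (x.1 * y.1)) := ⟨_, rfl⟩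
  rw [← hΓ]
  have htt : t * t = 1 := by
    have := pow_orderOf_eq_one t
    rwa [ht, sq] at this
  have adj_iff : ∀ x y, Γ.Adj x y ↔ x ≠ y ∧ Odd (orderOf (x.1 * y.1)) := by
    intro x y
    rw [hΓ, SimpleGraph.fromRel_adj]
    constructor
    · rintro ⟨h, h1 | h1⟩
      · exact ⟨h, h1⟩
      · exact ⟨h, (oddOrd_iff _).mp (oddOrd_comm _ _ ((oddOrd_iff _).mpr h1))⟩
    · rintro ⟨h, h1⟩; exact ⟨h, Or.inl h1⟩
  have inv_of : ∀ x : {x : Equiv.Perm (Fin n) // IsConj t x}, x.1 * x.1 = 1 ∧
      x.1.support.card = t.support.card := by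
    intro x
    obtain ⟨c, hc⟩ := isConj_iff.mp x.2
    rw [← hc]
    refine ⟨?_, Equiv.Perm.card_support_conj⟩
    calc c * t * c⁻¹ * (c * t * c⁻¹) = c * (t * t) * c⁻¹ := by group
      _ = 1 := by rw [htt]; group
  have key : ∀ x y : {x : Equiv.Perm (Fin n) // IsConj t x}, x ≠ y → ¬ Γ.Adj x y →
      ∃ z, Γ.Adj x z ∧ Γ.Adj z y := by
    intro x y hxy hnadj
    obtain ⟨hx, hxc⟩ := inv_of x
    obtain ⟨hy, hyc⟩ := inv_of y
    have hH : Hyp (Finset.univ : Finset (Fin n)) x.1 y.1 :=
      ⟨hx, hy, fun p hp => absurd (Finset.mem_univ p) hp,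
        fun p hp => absurd (Finset.mem_univ p) hp, by rw [hxc, hyc]⟩
    have hnE : ¬ Exc (Finset.univ : Finset (Fin n)) x.1 y.1 := by
      intro hE
      have := hE.1
      rw [Finset.card_univ, Fintype.card_fin] at this
      omega
    obtain ⟨z, hz, -, ox, oy⟩ := main_sol _ x.1 y.1 hH hnE
    have hzc : IsConj t z := x.2.trans (isConj_of_oddOrd x.1 z hx hz ox)
    have hnodd : ¬ Odd (orderOf (x.1 * y.1)) := fun h => hnadj ((adj_iff x y).mpr ⟨hxy, h⟩)
    have hzx : (⟨z, hzc⟩ : {x : Equiv.Perm (Fin n) // IsConj t x}) ≠ x := by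
      intro h
      have : z = x.1 := congrArg Subtype.val h
      rw [this] at oy
      exact hnodd ((oddOrd_iff _).mp oy)
    have hzy : (⟨z, hzc⟩ : {x : Equiv.Perm (Fin n) // IsConj t x}) ≠ y := by
      intro h
      have : z = y.1 := congrArg Subtype.val h
      rw [this] at ox
      exact hnodd ((oddOrd_iff _).mp ox)
    refine ⟨⟨z, hzc⟩, (adj_iff _ _).mpr ⟨hzx.symm, (oddOrd_iff _).mp ox⟩,
      (adj_iff _ _).mpr ⟨hzy, (oddOrd_iff _).mp oy⟩⟩
  have hedist : ∀ x y, Γ.edist x y ≤ 2 := by
    intro x y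
    by_cases hxy : x = y
    · rw [hxy, SimpleGraph.edist_self]; exact bot_le
    by_cases hadj : Γ.Adj x y
    · have := SimpleGraph.edist_le (SimpleGraph.Walk.cons hadj SimpleGraph.Walk.nil)
      refine this.trans ?_
      simp
    · obtain ⟨z, h1, h2⟩ := key x y hxy hadj
      have := SimpleGraph.edist_le
        (SimpleGraph.Walk.cons h1 (SimpleGraph.Walk.cons h2 SimpleGraph.Walk.nil))
      refine this.trans ?_
      simp
  have hediam : Γ.ediam ≤ 2 := SimpleGraph.ediam_le_of_edist_le hedist
  have hne : Γ.ediam ≠ ⊤ := ne_top_of_le_ne_top (by simp) hediam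
  have : Nonempty {x : Equiv.Perm (Fin n) // IsConj t x} := ⟨⟨t, IsConj.refl t⟩⟩
  refine ⟨SimpleGraph.connected_of_ediam_ne_top hne, ?_⟩
  apply le_antisymm
  · have := ENat.toNat_le_toNat hediam (by simp)
    simpa [SimpleGraph.diam] using this
  · obtain ⟨s, hs1, hs2, hs3, hs4⟩ := exists_pair n hn t ht
    have hd : Γ.dist ⟨t, IsConj.refl t⟩ ⟨s, hs1⟩ ≤ Γ.diam := SimpleGraph.dist_le_diam hne
    refine le_trans ?_ hd
    have hconn := SimpleGraph.connected_of_ediam_ne_top hne
    have hne' : (⟨t, IsConj.refl t⟩ : {x : Equiv.Perm (Fin n) // IsConj t x}) ≠ ⟨s, hs1⟩ := by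
      intro h; exact hs2 (congrArg Subtype.val h).symm
    have h0 : Γ.dist ⟨t, IsConj.refl t⟩ ⟨s, hs1⟩ ≠ 0 := by
      intro h
      exact hne' ((hconn.dist_eq_zero_iff).mp h)
    have h1 : Γ.dist ⟨t, IsConj.refl t⟩ ⟨s, hs1⟩ ≠ 1 := by
      intro h
      have := (SimpleGraph.dist_eq_one_iff_adj).mp h
      exact hs3 ((adj_iff _ _).mp this).2
    omega

end Cfsg.Agent.S3265
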