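import Cfsg.Statements.S3276
import Cfsg.Agent.Lib.Helper54.Invol

set_option autoImplicit false
open Cfsg

namespace Cfsg.Agent.S3276

open Cfsg.Agent.Lib.Helper54

theorem orderOf_conj_eq {G : Type*} [Group G] (g y : G) : orderOf (g * y * g⁻¹) = orderOf y := by
  have h : g * y * g⁻¹ = MulAut.conj g y := by simp [MulAut.conj_apply]
  rw [h]
  exact orderOf_injective (MulAut.conj g).toMonoidHom (MulAut.conj g).injective y

theorem card_le_two_of_subset_pair {N : Type*} [Group N] (K : Subgroup N) (y : N)
    (h : ∀ k ∈ K, k = 1 ∨ k = y) : Nat.card K ≤ 2 := by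
  classical
  have hsub : (K : Set N) ⊆ {1, y} := by
    intro k hk
    rcases h k hk with h1 | h1
    · simp [h1]
    · simp [h1]
  have hfin : ({1, y} : Set N).Finite := Set.toFinite _
  calc Nat.card K = (K : Set N).ncard := by
        rw [← Nat.card_coe_set_eq]; rfl
    _ ≤ ({1, y} : Set N).ncard := Set.ncard_le_ncard hsub hfin
    _ ≤ ({y} : Set N).ncard + 1 := Set.ncard_insert_le 1 {y}
    _ = 2 := by rw [Set.ncard_singleton]

/-- Let x and y be commuting, non-conjugate involutions of a finite group G, and suppose that for every involution u commuting with x, each conjugate of y that commutes with u also commutes with y. Then the normal closure of y is a proper, normal, elementary abelian 2-subgroup of G; and if y is the only involution of that normal closure commuting with x, it has order at most 4. -/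
theorem result {G : Type*} [Group G] [Finite G] (x y : G) (hx : orderOf x = 2) (hy : orderOf y = 2)
    (hxy : Commute x y) (hnc : ¬ IsConj x y)
    (hstar : ∀ u : G, orderOf u = 2 → Commute u x → ∀ g : G, Commute (g * y * g⁻¹) u → Commute (g * y * g⁻¹) y) :
    Subgroup.normalClosure ({y} : Set G) ≠ ⊤ ∧ Cfsg.IsElementaryAbelian 2 (Subgroup.normalClosure ({y} : Set G)) ∧
      ((∀ u ∈ Subgroup.normalClosure ({y} : Set G), orderOf u = 2 → Commute u x → u = y) →
        Nat.card ↥(Subgroup.normalClosure ({y} : Set G)) ≤ 4) := by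
  classical
  -- Step 1: every conjugate of y commutes with y
  have key : ∀ g : G, Commute (g * y * g⁻¹) y := by
    intro g
    have hord : orderOf (g * y * g⁻¹) = 2 := by rw [orderOf_conj_eq, hy]
    have hnc' : ¬ IsConj x (g * y * g⁻¹) := by
      intro hc
      apply hnc
      refine hc.trans ?_
      rw [isConj_comm, isConj_iff]
      exact ⟨g, rfl⟩
    obtain ⟨u, hu2, hux, huy, -⟩ := exists_invol_commute_of_not_isConj hx hord hnc'
    exact hstar u hu2 hux g huy.symm
  -- Step 2: any two conjugates of y commute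
  have key2 : ∀ a ∈ Group.conjugatesOfSet ({y} : Set G), ∀ b ∈ Group.conjugatesOfSet ({y} : Set G),
      a * b = b * a := by
    intro a ha b hb
    rw [Group.mem_conjugatesOfSet_iff] at ha hb
    obtain ⟨a0, ha0, hca⟩ := ha
    obtain ⟨b0, hb0, hcb⟩ := hb
    rw [Set.mem_singleton_iff] at ha0 hb0
    rw [ha0] at hca
    rw [hb0] at hcb
    clear ha0 hb0 a0 b0
    rw [isConj_iff] at hca hcb
    obtain ⟨g, rfl⟩ := hca
    obtain ⟨h, rfl⟩ := hcb
    have h1 := key (h⁻¹ * g)
    have h3 : (g * y * g⁻¹) * (h * y * h⁻¹) = h * (((h⁻¹ * g) * y * (h⁻¹ * g)⁻¹) * y) * h⁻¹ := by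
      group
    have h4 : (h * y * h⁻¹) * (g * y * g⁻¹) = h * (y * ((h⁻¹ * g) * y * (h⁻¹ * g)⁻¹)) * h⁻¹ := by
      group
    rw [h3, h4, h1.eq]
  have hcomm : IsMulCommutative (Subgroup.normalClosure ({y} : Set G)) := by
    unfold Subgroup.normalClosure
    exact Subgroup.isMulCommutative_closure key2
  have hcomm' : ∀ a ∈ Subgroup.normalClosure ({y} : Set G), ∀ b ∈ Subgroup.normalClosure ({y} : Set G),
      a * b = b * a := by
    intro a ha b hb
    have := (isMulCommutative_iff.mp hcomm) ⟨a, ha⟩ ⟨b, hb⟩
    exact congrArg Subtype.val this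
  have hy2 : y ^ 2 = 1 := by rw [← hy]; exact pow_orderOf_eq_one y
  have hsq : ∀ a ∈ Subgroup.normalClosure ({y} : Set G), a ^ 2 = 1 := by
    intro a ha
    unfold Subgroup.normalClosure at ha
    induction ha using Subgroup.closure_induction with
    | mem z hz =>
      rw [Group.mem_conjugatesOfSet_iff] at hz
      obtain ⟨a0, ha0, hca⟩ := hz
      rw [Set.mem_singleton_iff] at ha0
      rw [ha0] at hca
      rw [isConj_iff] at hca
      obtain ⟨g, rfl⟩ := hca
      rw [conj_pow, hy2]; group
    | one => simp
    | mul a b ha hb iha ihb =>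
      have hab : a * b = b * a := hcomm' a ha b hb
      rw [(Commute.mul_pow hab), iha, ihb, one_mul]
    | inv a ha iha =>
      rw [inv_pow, iha, inv_one]
  have hyN : y ∈ Subgroup.normalClosure ({y} : Set G) :=
    Subgroup.subset_normalClosure (Set.mem_singleton y)
  refine ⟨?_, ⟨hcomm, hsq⟩, ?_⟩
  · -- proper
    intro htop
    have hGc : ∀ a b : G, a * b = b * a := by
      intro a b
      exact hcomm' a (htop ▸ Subgroup.mem_top a) b (htop ▸ Subgroup.mem_top b)
    -- conjugates of y are y
    have hconj : Group.conjugatesOfSet ({y} : Set G) = {y} := by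
      ext z
      rw [Group.mem_conjugatesOfSet_iff]
      constructor
      · rintro ⟨a0, ha0, hca⟩
        rw [Set.mem_singleton_iff] at ha0
        rw [ha0] at hca
        rw [isConj_iff] at hca
        obtain ⟨g, rfl⟩ := hca
        rw [Set.mem_singleton_iff, hGc g y, mul_assoc, mul_inv_cancel, mul_one]
      · intro hz
        exact ⟨y, Set.mem_singleton y, by rw [Set.mem_singleton_iff] at hz; rw [hz]⟩
    have hx_mem : x ∈ Subgroup.normalClosure ({y} : Set G) := htop ▸ Subgroup.mem_top x
    unfold Subgroup.normalClosure at hx_mem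
    rw [hconj, Subgroup.mem_closure_singleton] at hx_mem
    obtain ⟨n, hn⟩ := hx_mem
    have hxy' : x = y ∨ x = 1 := by
      rcases Int.even_or_odd' n with ⟨k, hk | hk⟩
      · right
        rw [← hn, hk, zpow_mul, zpow_ofNat, hy2, one_zpow]
      · left
        rw [← hn, hk, zpow_add, zpow_mul, zpow_ofNat, hy2, one_zpow, one_mul, zpow_one]
    rcases hxy' with h | h
    · exact hnc (h ▸ IsConj.refl x)
    · rw [h, orderOf_one] at hx; omega
  · -- order at most 4
    intro honly
    obtain ⟨N, hN⟩ : ∃ N : Subgroup G, N = Subgroup.normalClosure ({y} : Set G) := ⟨_, rfl⟩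
    rw [← hN] at hcomm' hsq hyN honly ⊢
    have hNn : N.Normal := hN ▸ Subgroup.normalClosure_normal
    have hx2 : x ^ 2 = 1 := by rw [← hx]; exact pow_orderOf_eq_one x
    have hxinv : x⁻¹ = x := inv_eq_self_of_orderOf_two hx
    -- the hom φ : N → N, n ↦ n * (x n x⁻¹)
    let φ : N →* N :=
      { toFun := fun n => ⟨(n : G) * (x * n * x⁻¹), N.mul_mem n.2 (hNn.conj_mem n n.2 x)⟩
        map_one' := by
          apply Subtype.ext
          simp
        map_mul' := by
          intro a b
          apply Subtype.ext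
          simp only [Subgroup.coe_mul]
          have hb' : x * (b : G) * x⁻¹ ∈ N := hNn.conj_mem b b.2 x
          have ha' : x * (a : G) * x⁻¹ ∈ N := hNn.conj_mem a a.2 x
          have e1 : x * ((a : G) * b) * x⁻¹ = (x * a * x⁻¹) * (x * b * x⁻¹) := by group
          rw [e1]
          have e2 : (x * (a : G) * x⁻¹) * (b : G) = (b : G) * (x * (a : G) * x⁻¹) :=
            hcomm' _ ha' _ b.2
          calc (a : G) * b * ((x * a * x⁻¹) * (x * b * x⁻¹))
              = (a : G) * (b * (x * a * x⁻¹)) * (x * b * x⁻¹) := by group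
            _ = (a : G) * ((x * a * x⁻¹) * b) * (x * b * x⁻¹) := by rw [e2]
            _ = (a : G) * (x * a * x⁻¹) * (b * (x * b * x⁻¹)) := by group }
    have hφ : ∀ n : N, ((φ n : N) : G) = (n : G) * (x * n * x⁻¹) := fun n => rfl
    let y' : N := ⟨y, hyN⟩
    have hclass : ∀ v : N, Commute (v : G) x → v = 1 ∨ v = y' := by
      intro v hv
      by_cases h1 : (v : G) = 1
      · left; exact Subtype.ext h1
      · right
        apply Subtype.ext
        apply honly v v.2 _ hv
        have hv2 := hsq v v.2
        exact orderOf_eq_prime hv2 h1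
    have hker : ∀ k ∈ φ.ker, k = 1 ∨ k = y' := by
      intro k hk
      rw [MonoidHom.mem_ker] at hk
      have hk' : (k : G) * (x * k * x⁻¹) = 1 := by
        have := congrArg Subtype.val hk
        rw [hφ] at this
        exact this
      apply hclass
      have hk2 := hsq k k.2
      have hkinv : (k : G)⁻¹ = k := by
        rw [inv_eq_iff_mul_eq_one, ← pow_two]; exact hk2
      have h3 : x * (k : G) * x⁻¹ = k := by
        have := eq_inv_of_mul_eq_one_right hk'
        rw [this, hkinv]
      exact commute_of_conj_eq h3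
    have hrange : ∀ k ∈ φ.range, k = 1 ∨ k = y' := by
      intro k hk
      obtain ⟨n, rfl⟩ := hk
      apply hclass
      rw [hφ]
      have hn' : x * (n : G) * x⁻¹ ∈ N := hNn.conj_mem n n.2 x
      have e2 : (x * (n : G) * x⁻¹) * (n : G) = (n : G) * (x * (n : G) * x⁻¹) :=
        hcomm' _ hn' _ n.2
      apply commute_of_conj_eq
      have e1 : x * ((n : G) * (x * n * x⁻¹)) * x⁻¹ = (x * n * x⁻¹) * (x * x * n * (x * x)⁻¹) := by
        group
      have hxx : x * x = 1 := by rw [← pow_two]; exact hx2
      rw [e1, hxx, one_mul, inv_one, mul_one, e2]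
    have h1 := card_le_two_of_subset_pair φ.ker y' hker
    have h2 := card_le_two_of_subset_pair φ.range y' hrange
    have h3 : Nat.card φ.ker * φ.ker.index = Nat.card N := Subgroup.card_mul_index φ.ker
    rw [Subgroup.index_ker] at h3
    calc Nat.card N = Nat.card φ.ker * Nat.card φ.range := h3.symm
      _ ≤ 2 * 2 := Nat.mul_le_mul h1 h2
      _ = 4 := rfl

end Cfsg.Agent.S3276
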