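import Cfsg.Statements.S3277
import Mathlib
import Cfsg.Agent.Lib.Helper4.FourCent
import Cfsg.Agent.Lib.Helper4.KleinOf
import Cfsg.Agent.Lib.Helper4.SylowConj
import Cfsg.Agent.Lib.Helper4.InvPair
import Cfsg.Agent.Lib.Helper64.NilCover
import Cfsg.Agent.S0208
import Cfsg.Agent.S0209
import Cfsg.Agent.S0172

set_option autoImplicit false
open Cfsg

namespace Cfsg.Agent.S3277

open Subgroup Cfsg.Agent.Lib.Helper4 Cfsg.Agent.Lib.Helper4.FC

variable {G : Type*} [Group G]


/-- the normal closure of an involution commuting with all its conjugates is elementary abelian -/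
theorem normalClosure_elem {z : G} (hz : orderOf z = 2)
    (hcomm : ∀ g : G, (g * z * g⁻¹) * z = z * (g * z * g⁻¹)) :
    (∀ e ∈ normalClosure ({z} : Set G), ∀ f ∈ normalClosure ({z} : Set G), e * f = f * e) ∧
    (∀ e ∈ normalClosure ({z} : Set G), e ^ 2 = 1) := by
  have zz : z * z = 1 := mul_self_of_orderOf_two hz
  have hgen : ∀ u ∈ Group.conjugatesOfSet ({z} : Set G), ∃ g, u = g * z * g⁻¹ := by
    intro u hu
    rw [Group.mem_conjugatesOfSet_iff] at hu
    obtain ⟨b, hb, hbu⟩ := hu
    rw [Set.mem_singleton_iff] at hb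
    subst hb
    obtain ⟨g, hg⟩ := isConj_iff.1 hbu
    exact ⟨g, hg.symm⟩
  have h1 : Group.conjugatesOfSet ({z} : Set G) ⊆ centralizer (Group.conjugatesOfSet ({z} : Set G)) := by
    intro u hu
    rw [SetLike.mem_coe, mem_centralizer_iff]
    intro v hv
    obtain ⟨g, rfl⟩ := hgen u hu
    obtain ⟨k, rfl⟩ := hgen v hv
    -- conjugate hcomm (g⁻¹ k) by g
    have h2 := hcomm (g⁻¹ * k)
    calc k * z * k⁻¹ * (g * z * g⁻¹) = g * ((g⁻¹ * k) * z * (g⁻¹ * k)⁻¹ * z) * g⁻¹ := by group
      _ = g * (z * ((g⁻¹ * k) * z * (g⁻¹ * k)⁻¹)) * g⁻¹ := by rw [h2]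
      _ = g * z * g⁻¹ * (k * z * k⁻¹) := by group
  have h2 : normalClosure ({z} : Set G) ≤ centralizer ((normalClosure ({z} : Set G) : Subgroup G) : Set G) := by
    have h3 : closure (Group.conjugatesOfSet ({z} : Set G)) ≤ centralizer (Group.conjugatesOfSet ({z} : Set G)) :=
      (closure_le _).2 h1
    have h4 := Subgroup.centralizer_closure (Group.conjugatesOfSet ({z} : Set G))
    rw [← h4] at h3
    exact h3
  have hc : ∀ e ∈ normalClosure ({z} : Set G), ∀ f ∈ normalClosure ({z} : Set G), e * f = f * e := by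
    intro e he f hf
    have := h2 he
    rw [mem_centralizer_iff] at this
    exact (this f hf).symm
  refine ⟨hc, ?_⟩
  intro e he
  induction he using Subgroup.closure_induction with
  | mem u hu =>
    obtain ⟨g, rfl⟩ := hgen u hu
    calc (g * z * g⁻¹) ^ 2 = g * (z * z) * g⁻¹ := by rw [pow_two]; group
      _ = 1 := by rw [zz]; group
  | one => exact one_pow 2
  | mul a b ha hb iha ihb =>
    have := hc a ha b hb
    rw [Commute.mul_pow this 2, iha, ihb, one_mul]
  | inv a _ iha => rw [inv_pow, iha, inv_one]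


theorem card_le_two_of {K : Type*} [Group K] (H : Subgroup K) [Finite H] (w : K)
    (h : ∀ k ∈ H, k = 1 ∨ k = w) : Nat.card H ≤ 2 := by
  classical
  have hinj : Function.Injective (fun k : H => decide ((k : K) = 1)) := by
    intro k k' hkk'
    simp only [decide_eq_decide] at hkk'
    apply Subtype.ext
    rcases h k k.2 with h1 | h1
    · rw [h1, (hkk'.1 h1)]
    · rcases h k' k'.2 with h2 | h2
      · rw [h2, hkk'.2 h2]
      · rw [h1, h2]
  have := Nat.card_le_card_of_injective _ hinj
  simpa using this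

theorem card_le_four (E : Subgroup G) [Finite E] (hc : ∀ e ∈ E, ∀ f ∈ E, e * f = f * e)
    (he2 : ∀ e ∈ E, e ^ 2 = 1) (x : G) (hx : x * x = 1) (hxn : ∀ e ∈ E, x * e * x⁻¹ ∈ E) (z : G)
    (hfix : ∀ e ∈ E, x * e * x⁻¹ = e → e = 1 ∨ e = z) (hzE : z ∈ E) : Nat.card E ≤ 4 := by
  have xi : x⁻¹ = x := inv_eq_of_mul_eq_one_right hx
  let φ : E →* E := MonoidHom.mk' (fun e => ⟨(e : G) * (x * e * x⁻¹), E.mul_mem e.2 (hxn e e.2)⟩) (by
    intro e f
    apply Subtype.ext
    simp only [Subgroup.coe_mul]
    have h1 := hc f f.2 (x * e * x⁻¹) (hxn e e.2)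
    calc (e : G) * f * (x * (e * f) * x⁻¹) = e * (f * (x * e * x⁻¹)) * (x * f * x⁻¹) := by group
      _ = e * ((x * e * x⁻¹) * f) * (x * f * x⁻¹) := by rw [h1]
      _ = e * (x * e * x⁻¹) * (f * (x * f * x⁻¹)) := by group)
  have hφ : ∀ e : E, ((φ e : E) : G) = (e : G) * (x * e * x⁻¹) := fun e => rfl
  have hker : Nat.card φ.ker ≤ 2 := by
    apply card_le_two_of φ.ker ⟨z, hzE⟩
    intro k hk
    rw [MonoidHom.mem_ker] at hk
    have h1 : (k : G) * (x * k * x⁻¹) = 1 := by rw [← hφ, hk]; rfl
    have h2 : x * k * x⁻¹ = (k : G) := by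
      have h3 : x * k * x⁻¹ = (k : G)⁻¹ := eq_inv_of_mul_eq_one_right h1
      have h4 : (k : G)⁻¹ = k := by
        rw [inv_eq_iff_mul_eq_one, ← pow_two]; exact he2 k k.2
      rw [h3, h4]
    rcases hfix k k.2 h2 with h5 | h5
    · left; exact Subtype.ext h5
    · right; exact Subtype.ext h5
  have hrange : Nat.card φ.range ≤ 2 := by
    apply card_le_two_of φ.range ⟨z, hzE⟩
    rintro b ⟨e, rfl⟩
    have h1 : x * (φ e : G) * x⁻¹ = (φ e : G) := by
      rw [hφ]
      have h2 := hc e e.2 (x * e * x⁻¹) (hxn e e.2)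
      calc x * ((e : G) * (x * e * x⁻¹)) * x⁻¹ = (x * e * x⁻¹) * ((x * x) * e * (x * x)⁻¹) := by group
        _ = (x * e * x⁻¹) * e := by rw [hx]; group
        _ = e * (x * e * x⁻¹) := h2.symm
    rcases hfix (φ e) (φ e).2 h1 with h5 | h5
    · left; exact Subtype.ext h5
    · right; exact Subtype.ext h5
  have h1 := Subgroup.card_mul_index φ.ker
  rw [Subgroup.index_ker] at h1
  rw [← h1]
  calc Nat.card φ.ker * Nat.card φ.range ≤ 2 * 2 := Nat.mul_le_mul hker hrange
    _ = 4 := by norm_num


theorem partA [Finite G] (x : G) (hx : orderOf x = 2)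
    (hC4 : Nat.card (centralizer ({x} : Set G)) = 4)
    (hCe : ∀ c ∈ centralizer ({x} : Set G), c ^ 2 = 1)
    (hne : ∀ E : Subgroup G, E.Normal → Cfsg.IsElementaryAbelian 2 E →
      Nat.card ↥E ≠ 2 ∧ Nat.card ↥E ≠ 4)
    (S : Sylow 2 G) (hVS : centralizer ({x} : Set G) ≤ S) :
    (S : Subgroup G) = centralizer ({x} : Set G) := by
  by_contra hSV
  haveI : Fact (Nat.Prime 2) := ⟨Nat.prime_two⟩
  set V := centralizer ({x} : Set G) with hV
  have xx := mul_self_of_orderOf_two hx
  have xi := inv_eq_self_of_orderOf_two hx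
  have hxV : x ∈ V := mem_cent.2 rfl
  have hVcomm : ∀ a ∈ V, ∀ b ∈ V, a * b = b * a := fun a ha b hb => comm_of_sq_one hCe ha hb
  -- central involution z
  have : Nontrivial (S : Subgroup G) :=
    ⟨⟨⟨x, hVS hxV⟩, 1, fun h => ne_one_of_orderOf_two hx (congrArg Subtype.val h)⟩⟩
  have hcn : Nontrivial (center (S : Subgroup G)) := S.2.center_nontrivial
  have h2dvd : 2 ∣ Nat.card (center (S : Subgroup G)) := by
    have hp : IsPGroup 2 (center (S : Subgroup G)) := S.2.to_subgroup _
    obtain ⟨k, hk⟩ := hp.exists_card_eq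
    rcases k with _ | k
    · have h1 : Nat.card (center (S : Subgroup G)) = 1 := by simpa using hk
      have := Finite.one_lt_card (α := center (S : Subgroup G))
      omega
    · rw [hk, pow_succ]; exact dvd_mul_left 2 _
  obtain ⟨u, hu⟩ := exists_prime_orderOf_dvd_card' 2 h2dvd
  set z : G := ((u : (S : Subgroup G)) : G) with hzdef
  have hz : orderOf z = 2 := by
    rw [← hu, hzdef, Subgroup.orderOf_coe, Subgroup.orderOf_coe]
  have hzS : z ∈ (S : Subgroup G) := (u : (S : Subgroup G)).2
  have hzc : ∀ s ∈ (S : Subgroup G), s * z = z * s := by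
    intro s hs
    have := u.2
    rw [mem_center_iff] at this
    have h1 := this ⟨s, hs⟩
    exact congrArg Subtype.val h1
  have zz := mul_self_of_orderOf_two hz
  have hxz : x * z = z * x := hzc x (hVS hxV)
  have hzV : z ∈ V := mem_cent.2 hxz.symm
  have hzx : z ≠ x := by
    intro h
    apply hSV
    apply le_antisymm _ hVS
    intro s hs
    rw [hV, mem_cent]
    have := hzc s hs
    rw [h] at this
    exact this
  -- normalizer condition
  obtain ⟨s, hsS, hsV, hsn⟩ : ∃ s ∈ (S : Subgroup G), s ∉ V ∧ ∀ v ∈ V, s * v * s⁻¹ ∈ V := by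
    have hnil : Group.IsNilpotent (S : Subgroup G) := S.2.isNilpotent
    have hnc := normalizerCondition_of_isNilpotent (G := (S : Subgroup G))
    have hlt : V.subgroupOf (S : Subgroup G) < ⊤ := by
      rw [lt_top_iff_ne_top]
      intro h
      apply hSV
      apply le_antisymm _ hVS
      rw [subgroupOf_eq_top] at h
      exact h
    obtain ⟨s', hs'N, hs'V⟩ := SetLike.exists_of_lt (hnc _ hlt)
    refine ⟨s'.1, s'.2, ?_, ?_⟩
    · intro h
      apply hs'V
      rw [mem_subgroupOf]; exact h
    · intro v hv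
      rw [mem_normalizer_iff] at hs'N
      have := (hs'N ⟨v, hVS hv⟩).1 (by rw [mem_subgroupOf]; exact hv)
      simpa [mem_subgroupOf] using this
  -- V = {1, x, z, xz}
  have hVmem : ∀ v ∈ V, v = 1 ∨ v = x ∨ v = z ∨ v = x * z := by
    have hKV : kleinOf xx zz hxz = V := by
      apply eq_of_le_of_card_ge
      · intro v hv
        rcases (mem_kleinOf xx zz hxz v).1 hv with rfl | rfl | rfl | rfl
        · exact one_mem _
        · exact hxV
        · exact hzV
        · exact mul_mem hxV hzV
      · rw [hC4, card_kleinOf xx zz hxz (ne_one_of_orderOf_two hx) (ne_one_of_orderOf_two hz)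
          (Ne.symm hzx)]
    intro v hv
    rw [← hKV] at hv
    exact (mem_kleinOf xx zz hxz v).1 hv
  have hx' : s * x * s⁻¹ = x * z := by
    rcases hVmem _ (hsn x hxV) with h | h | h | h
    · exfalso
      apply ne_one_of_orderOf_two hx
      have : x = s⁻¹ * (s * x * s⁻¹) * s := by group
      rw [this, h]; group
    · exfalso
      apply hsV
      rw [hV, mem_cent]
      calc s * x = s * x * s⁻¹ * s := by group
        _ = x * s := by rw [h]
    · exfalso
      apply hzx
      have h1 := hzc s hsS
      have : x = s⁻¹ * (s * x * s⁻¹) * s := by group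
      rw [this, h]
      symm
      calc s⁻¹ * z * s = s⁻¹ * (z * s) := by group
        _ = s⁻¹ * (s * z) := by rw [h1]
        _ = z := by group
    · exact h
  have hCxz : ∀ g, g * (x * z) = (x * z) * g → g ∈ V := by
    intro g hg
    have h1 : (s⁻¹ * g * s) * x = x * (s⁻¹ * g * s) := by
      rw [← hx'] at hg
      calc s⁻¹ * g * s * x = s⁻¹ * (g * (s * x * s⁻¹)) * s := by group
        _ = s⁻¹ * ((s * x * s⁻¹) * g) * s := by rw [hg]
        _ = x * (s⁻¹ * g * s) := by group
    have h2 : s⁻¹ * g * s ∈ V := mem_cent.2 h1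
    have h3 := hsn _ h2
    have : s * (s⁻¹ * g * s) * s⁻¹ = g := by group
    rwa [this] at h3
  have hznx : ∀ g, g * z * g⁻¹ ≠ x := by
    intro g hg
    have h1 : Nat.card (centralizer ({z} : Set G)) = 4 := by
      rw [← hC4, hV, ← hg, Cfsg.Agent.S0172.card_centralizer_conj]
    have h2 : (S : Subgroup G) ≤ centralizer ({z} : Set G) := fun s hs => mem_cent.2 (hzc s hs)
    have h3 : Nat.card (S : Subgroup G) ≤ 4 := h1 ▸ Subgroup.card_le_of_le h2
    exact hSV (eq_of_le_of_card_ge hVS (by rw [hC4]; exact h3)).symm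
  have hkey : ∀ u, orderOf u = 2 → (∀ g, g * u * g⁻¹ ≠ x) → u * z = z * u := by
    intro u hu hnc
    have heven : Even (orderOf (x * u)) := by
      by_contra hodd
      rw [Nat.not_even_iff_odd] at hodd
      obtain ⟨d, _, hd⟩ := Cfsg.Agent.S0208.result x u hx hu hodd
      apply hnc d⁻¹
      rw [← hd]; group
    obtain ⟨hw, hwx, hwu⟩ := Cfsg.Agent.S0209.result x u hx hu heven
    have hwV : (x * u) ^ (orderOf (x * u) / 2) ∈ V := mem_cent.2 hwx.eq
    have hwne1 := ne_one_of_orderOf_two hw
    have hwnx : (x * u) ^ (orderOf (x * u) / 2) ≠ x := by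
      intro h
      have hxu : x * u = u * x := by
        have := hwu.eq
        rw [h] at this
        exact this
      have hsq : (x * u) ^ 2 = 1 := by
        rw [pow_two]
        calc x * u * (x * u) = x * (u * x) * u := by group
          _ = x * (x * u) * u := by rw [hxu]
          _ = (x * x) * (u * u) := by group
          _ = 1 := by rw [xx, mul_self_of_orderOf_two hu, one_mul]
      have hdvd : orderOf (x * u) ∣ 2 := orderOf_dvd_of_pow_eq_one hsq
      have h2 : orderOf (x * u) = 2 := by
        rcases (Nat.dvd_prime Nat.prime_two).1 hdvd with h1 | h1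
        · rw [h1] at heven; exact absurd heven (by decide)
        · exact h1
      rw [h2] at h
      norm_num at h
      exact ne_one_of_orderOf_two hu h
    rcases hVmem _ hwV with h | h | h | h
    · exact absurd h hwne1
    · exact absurd h hwnx
    · rw [← h]; exact hwu.eq.symm
    · have : u ∈ V := hCxz u (by rw [← h]; exact hwu.eq.symm)
      exact hVcomm u this z hzV
  have hcomm : ∀ g, (g * z * g⁻¹) * z = z * (g * z * g⁻¹) := by
    intro g
    apply hkey
    · rw [orderOf_conj]; exact hz
    · intro k hk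
      apply hznx (k * g)
      rw [← hk]; group
  obtain ⟨hEc, hE2⟩ := normalClosure_elem hz hcomm
  have hzE : z ∈ normalClosure ({z} : Set G) := subset_normalClosure (Set.mem_singleton z)
  have hEn : (normalClosure ({z} : Set G)).Normal := normalClosure_normal
  have hEle : Nat.card (normalClosure ({z} : Set G)) ≤ 4 := by
    by_cases hxE : x ∈ normalClosure ({z} : Set G)
    · have : normalClosure ({z} : Set G) ≤ V := fun e he => mem_cent.2 (hEc e he x hxE)
      calc Nat.card (normalClosure ({z} : Set G)) ≤ Nat.card V := Subgroup.card_le_of_le this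
        _ = 4 := hC4
    · apply card_le_four _ hEc hE2 x xx (fun e he => hEn.conj_mem e he x) z _ hzE
      intro e he hfix
      have heV : e ∈ V := by
        rw [hV, mem_cent]
        calc e * x = (x * e * x⁻¹) * x := by rw [hfix]
          _ = x * e := by group
      rcases hVmem e heV with h | h | h | h
      · left; exact h
      · exfalso; exact hxE (h ▸ he)
      · right; exact h
      · exfalso
        apply hxE
        have : x = e * z := by
          rw [h, mul_assoc, zz, mul_one]
        rw [this]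
        exact mul_mem he hzE
  have hEelem : Cfsg.IsElementaryAbelian 2 (normalClosure ({z} : Set G)) :=
    ⟨⟨⟨fun a b => Subtype.ext (hEc a a.2 b b.2)⟩⟩, hE2⟩
  have hEp : IsPGroup 2 (normalClosure ({z} : Set G)) := by
    intro e
    refine ⟨1, ?_⟩
    apply Subtype.ext
    rw [pow_one]
    exact hE2 e e.2
  obtain ⟨k, hk⟩ := hEp.exists_card_eq
  have h1 := hne _ hEn hEelem
  have hnt : 1 < Nat.card (normalClosure ({z} : Set G)) := by
    have : Nontrivial (normalClosure ({z} : Set G)) :=
      ⟨⟨⟨z, hzE⟩, 1, fun h => ne_one_of_orderOf_two hz (congrArg Subtype.val h)⟩⟩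
    exact Finite.one_lt_card
  rw [hk] at h1 hnt hEle
  have hk2 : k ≤ 2 := by
    by_contra hlt
    have : 2 ^ 3 ≤ 2 ^ k := Nat.pow_le_pow_right (by norm_num) (by omega)
    omega
  interval_cases k <;> simp at h1 hnt



theorem partB [Finite G] (x : G) (hx : orderOf x = 2)
    (hC4 : Nat.card (centralizer ({x} : Set G)) = 4)
    (hCe : ∀ c ∈ centralizer ({x} : Set G), c ^ 2 = 1)
    (hnc : ¬ Cfsg.HasNormalPComplement 2 G)
    (S : Sylow 2 G) (hSV : (S : Subgroup G) = centralizer ({x} : Set G)) :
    (∀ v ∈ centralizer ({x} : Set G), v ≠ 1 → ∃ h, h * x * h⁻¹ = v) ∧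
    (∃ g ∈ normalizer ((S : Subgroup G) : Set G), g ∉ centralizer ({x} : Set G)) ∧
    (∃ a ∈ centralizer ({x} : Set G), orderOf a = 2 ∧ a ≠ x) := by
  have : Fact (Nat.Prime 2) := ⟨Nat.prime_two⟩
  set V := centralizer ({x} : Set G) with hV
  have xx := mul_self_of_orderOf_two hx
  have hxV : x ∈ V := mem_cent.2 rfl
  have hVcomm : ∀ a ∈ V, ∀ b ∈ V, a * b = b * a := fun a ha b hb => comm_of_sq_one hCe ha hb
  have hB : ¬ (normalizer ((S : Subgroup G) : Set G) ≤ centralizer ((S : Subgroup G) : Set G)) := by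
    intro h
    exact hnc ⟨S, _, inferInstance, MonoidHom.ker_transferSylow_isComplement' S h⟩
  obtain ⟨g, hgN, hgC⟩ := SetLike.not_le_iff_exists.1 hB
  have hgV : g ∉ V := by
    intro h
    apply hgC
    rw [mem_centralizer_iff]
    intro v hv
    rw [SetLike.mem_coe, hSV] at hv
    exact hVcomm v hv g h
  have hgn : ∀ v, v ∈ V ↔ g * v * g⁻¹ ∈ V := by
    intro v
    rw [mem_normalizer_iff] at hgN
    have := hgN v
    rw [hSV] at this
    exact this
  -- a = g x g⁻¹
  have haV : g * x * g⁻¹ ∈ V := (hgn x).1 hxV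
  have ha2 : orderOf (g * x * g⁻¹) = 2 := by rw [orderOf_conj]; exact hx
  have hax : g * x * g⁻¹ ≠ x := by
    intro h
    apply hgV
    rw [hV, mem_cent]
    calc g * x = g * x * g⁻¹ * g := by group
      _ = x * g := by rw [h]
  set a := g * x * g⁻¹ with ha
  have aa := mul_self_of_orderOf_two ha2
  have hxa : x * a = a * x := hVcomm x hxV a haV
  have hVmem : ∀ v ∈ V, v = 1 ∨ v = x ∨ v = a ∨ v = x * a := by
    have hKV : kleinOf xx aa hxa = V := by
      apply eq_of_le_of_card_ge
      · intro v hv
        rcases (mem_kleinOf xx aa hxa v).1 hv with rfl | rfl | rfl | rfl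
        · exact one_mem _
        · exact hxV
        · exact haV
        · exact mul_mem hxV haV
      · rw [hC4, card_kleinOf xx aa hxa (ne_one_of_orderOf_two hx) (ne_one_of_orderOf_two ha2)
          (Ne.symm hax)]
    intro v hv
    rw [← hKV] at hv
    exact (mem_kleinOf xx aa hxa v).1 hv
  have hga : g * a * g⁻¹ = x * a := by
    rcases hVmem _ ((hgn a).1 haV) with h | h | h | h
    · exfalso
      apply ne_one_of_orderOf_two ha2
      have : a = g⁻¹ * (g * a * g⁻¹) * g := by group
      rw [this, h]; group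
    · exfalso
      -- g² centralizes x, so g is a 2-element of N(S)
      have h1 : (g * g) * x = x * (g * g) := by
        calc g * g * x = g * (g * x * g⁻¹) * g⁻¹ * (g * g) := by group
          _ = (g * a * g⁻¹) * (g * g) := by rw [← ha]
          _ = x * (g * g) := by rw [h]
      have h2 : g * g ∈ V := mem_cent.2 h1
      have h3 : (g * g) ^ 2 = 1 := hCe _ h2
      have h4 : g ^ 2 ^ 2 = 1 := by
        have e : g ^ 2 ^ 2 = (g * g) ^ 2 := by
          rw [← pow_two, ← pow_mul]; norm_num
        rw [e, h3]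
      apply hgV
      have := Cfsg.Agent.Lib.Helper64.NilCover.mem_sylow_of_mem_normalizer S hgN ⟨2, h4⟩
      rw [hSV] at this
      exact this
    · exfalso
      apply hax
      calc a = g⁻¹ * (g * a * g⁻¹) * g := by group
        _ = g⁻¹ * a * g := by rw [h]
        _ = g⁻¹ * (g * x * g⁻¹) * g := by rw [← ha]
        _ = x := by group
    · exact h
  refine ⟨?_, ⟨g, hgN, hgV⟩, ⟨a, haV, ha2, hax⟩⟩
  intro v hv hv1
  rcases hVmem v hv with h | h | h | h
  · exact absurd h hv1
  · exact ⟨1, by rw [h]; group⟩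
  · exact ⟨g, by rw [h]⟩
  · refine ⟨g * g, ?_⟩
    rw [h, ← hga, ha]; group



/-- the global hypotheses after parts A and B -/
theorem hyp_of [Finite G] (x : G) (hC4 : Nat.card (centralizer ({x} : Set G)) = 4)
    (hCe : ∀ c ∈ centralizer ({x} : Set G), c ^ 2 = 1)
    (hallconj : ∀ t : G, orderOf t = 2 → ∃ h, h * x * h⁻¹ = t) :
    Hyp G ∧ ∀ s t : G, orderOf s = 2 → orderOf t = 2 → IsConj s t := by
  constructor
  · intro t ht
    obtain ⟨h, rfl⟩ := hallconj t ht
    refine ⟨by rw [Cfsg.Agent.S0172.card_centralizer_conj]; exact hC4, ?_⟩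
    intro c hc
    rw [mem_cent] at hc
    have h1 : h⁻¹ * c * h ∈ centralizer ({x} : Set G) := by
      rw [mem_cent]
      calc h⁻¹ * c * h * x = h⁻¹ * (c * (h * x * h⁻¹)) * h := by group
        _ = h⁻¹ * ((h * x * h⁻¹) * c) * h := by rw [hc]
        _ = x * (h⁻¹ * c * h) := by group
    have h2 := hCe _ h1
    have : c ^ 2 = h * (h⁻¹ * c * h) ^ 2 * h⁻¹ := by rw [pow_two, pow_two]; group
    rw [this, h2]; group
  · intro s t hs ht
    obtain ⟨h, rfl⟩ := hallconj s hs
    obtain ⟨k, rfl⟩ := hallconj t ht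
    rw [isConj_iff]
    exact ⟨k * h⁻¹, by group⟩


/-- Let G be a finite group containing an involution whose centralizer is elementary abelian of order 4. If G has no normal 2-complement and no normal elementary abelian 2-subgroup of order 2 or 4, then G is isomorphic to the alternating group of degree 5 (that is, to PSL(2, 5)). -/
theorem result {G : Type*} [Group G] [Finite G] (x : G) (hx : orderOf x = 2)
    (hC4 : Nat.card ↥(Subgroup.centralizer ({x} : Set G)) = 4) (hCe : ∀ c ∈ Subgroup.centralizer ({x} : Set G), c ^ 2 = 1)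
    (hnc : ¬ Cfsg.HasNormalPComplement 2 G)
    (hne : ∀ E : Subgroup G, E.Normal → Cfsg.IsElementaryAbelian 2 E → Nat.card ↥E ≠ 2 ∧ Nat.card ↥E ≠ 4) :
    Nonempty (G ≃* ↥(alternatingGroup (Fin 5))) := by
  classical
  have : Fact (Nat.Prime 2) := ⟨Nat.prime_two⟩
  have hfin : Fintype G := Fintype.ofFinite G
  set V := centralizer ({x} : Set G) with hV
  have xx := mul_self_of_orderOf_two hx
  have hxV : x ∈ V := mem_cent.2 rfl
  have hVp : IsPGroup 2 V := IsPGroup.of_card (n := 2) (by rw [hC4]; norm_num)
  obtain ⟨S, hVS⟩ := hVp.exists_le_sylow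
  have hSV := partA x hx hC4 hCe hne S hVS
  obtain ⟨hfus, ⟨g, hgN, hgV⟩, ⟨a, haV, ha2, hax⟩⟩ := partB x hx hC4 hCe hnc S hSV
  have hallconj : ∀ t : G, orderOf t = 2 → ∃ h, h * x * h⁻¹ = t := by
    intro t ht
    obtain ⟨Q, hQ⟩ := exists_sylow_of_involution t ht
    obtain ⟨k, hk⟩ := MulAction.exists_smul_eq G S Q
    rw [← hk, mem_sylow_smul_iff, hSV] at hQ
    have hne1 : k⁻¹ * t * k ≠ 1 := by
      intro h1
      apply ne_one_of_orderOf_two ht
      have : t = k * (k⁻¹ * t * k) * k⁻¹ := by group
      rw [this, h1]; group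
    obtain ⟨h, hh⟩ := hfus _ hQ hne1
    refine ⟨k * h, ?_⟩
    calc k * h * x * (k * h)⁻¹ = k * (h * x * h⁻¹) * k⁻¹ := by group
      _ = k * (k⁻¹ * t * k) * k⁻¹ := by rw [hh]
      _ = t := by group
  obtain ⟨hyp, hconj⟩ := hyp_of x hC4 hCe hallconj
  rcases card_eq hyp hconj x hx with ⟨h12, hn3⟩ | ⟨h60, hn15⟩
  · exfalso
    have hall : ∀ t : G, orderOf t = 2 → t ∈ V := by
      intro t ht
      have h1 := card_commuting hyp (mem_invs.2 hx)
      have h2 := Finset.eq_of_subset_of_card_le (Finset.filter_subset _ _) (by rw [h1, hn3] :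
        (invs G).card ≤ ((invs G).filter (fun b => x * b = b * x)).card)
      have h3 : t ∈ (invs G).filter (fun b => x * b = b * x) := by rw [h2]; exact mem_invs.2 ht
      rw [Finset.mem_filter] at h3
      exact mem_cent.2 h3.2.symm
    have hVn : V.Normal := by
      constructor
      intro v hv k
      by_cases hv1 : v = 1
      · rw [hv1]; simp
      · apply hall
        rw [orderOf_conj, orderOf_two_iff]
        exact ⟨hv1, by rw [← pow_two]; exact hCe v hv⟩
    have hVe : Cfsg.IsElementaryAbelian 2 V :=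
      ⟨⟨⟨fun p q => Subtype.ext (comm_of_sq_one hCe p.2 q.2)⟩⟩, hCe⟩
    exact (hne V hVn hVe).2 hC4
  · set N := normalizer ((S : Subgroup G) : Set G) with hN
    have hVN : V ≤ N := by rw [hV, ← hSV]; exact le_normalizer
    have hcardS : ∀ Q : Sylow 2 G, Nat.card (Q : Subgroup G) = 4 := by
      intro Q
      have h1 := Sylow.card_eq_multiplicity Q
      have h2 := Sylow.card_eq_multiplicity S
      rw [hSV, hC4] at h2
      rw [h1, ← h2]
    -- number of Sylow 2-subgroups is at least 5
    have hfS : Fintype (Sylow 2 G) := Fintype.ofFinite _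
    have hunion : 15 ≤ 3 * Fintype.card (Sylow 2 G) := by
      have hsub : invs G ⊆ (Finset.univ : Finset (Sylow 2 G)).biUnion
          (fun Q => (Finset.univ.filter (fun v => v ∈ (Q : Subgroup G))).erase 1) := by
        intro t ht
        rw [mem_invs] at ht
        obtain ⟨Q, hQ⟩ := exists_sylow_of_involution t ht
        rw [Finset.mem_biUnion]
        refine ⟨Q, Finset.mem_univ _, ?_⟩
        rw [Finset.mem_erase, Finset.mem_filter]
        exact ⟨ne_one_of_orderOf_two ht, Finset.mem_univ _, hQ⟩
      have h1 := (Finset.card_le_card hsub).trans Finset.card_biUnion_le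
      have h2 : ∀ Q ∈ (Finset.univ : Finset (Sylow 2 G)),
          ((Finset.univ.filter (fun v => v ∈ (Q : Subgroup G))).erase 1).card = 3 := by
        intro Q _
        rw [Finset.card_erase_of_mem, card_filter_mem, hcardS Q]
        simp
      rw [Finset.sum_congr rfl h2, Finset.sum_const, smul_eq_mul, hn15, Finset.card_univ] at h1
      omega
    have hidx : N.index = 5 := by
      have h1 : Nat.card (Sylow 2 G) = N.index := Sylow.card_eq_index_normalizer S
      rw [Nat.card_eq_fintype_card] at h1
      have h2 : Nat.card N * N.index = 60 := by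
        rw [Subgroup.card_mul_index, Nat.card_eq_fintype_card, h60]
      have h3 : 4 ∣ Nat.card N := by rw [← hC4]; exact Subgroup.card_dvd_of_le hVN
      have h4 : Nat.card N ≠ 4 := by
        intro h
        apply hgV
        have : V = N := eq_of_le_of_card_ge hVN (by rw [h, hC4])
        rw [← hV, this]; exact hgN
      obtain ⟨q, hq⟩ := h3
      rw [hq] at h2 h4
      rw [← h1] at h2 ⊢
      have hq3 : q ≤ 3 := by
        by_contra hlt
        have : 4 * 4 * 5 ≤ 4 * q * Fintype.card (Sylow 2 G) := by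
          apply Nat.mul_le_mul (Nat.mul_le_mul_left 4 (by omega)) (by omega)
        omega
      interval_cases q <;> omega
    -- the core of N is trivial
    have hKodd : Odd (Nat.card N.normalCore) := by
      rw [odd_card_iff_no_involution]
      intro s hs hsK
      have hallV : ∀ t : G, orderOf t = 2 → t ∈ V := by
        intro t ht
        obtain ⟨c, hc⟩ := isConj_iff.1 (hconj s t hs ht)
        have h1 : t ∈ N.normalCore := by
          rw [← hc]
          exact (normalCore_normal N).conj_mem s hsK c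
        have h2 : t ∈ N := normalCore_le N h1
        have h3 := Cfsg.Agent.Lib.Helper64.NilCover.mem_sylow_of_mem_normalizer S h2
          ⟨1, by rw [pow_one, pow_two]; exact mul_self_of_orderOf_two ht⟩
        rw [hSV] at h3
        exact h3
      have hsub : invs G ⊆ (Finset.univ.filter (fun v => v ∈ V)).erase 1 := by
        intro t ht
        rw [mem_invs] at ht
        rw [Finset.mem_erase, Finset.mem_filter]
        exact ⟨ne_one_of_orderOf_two ht, Finset.mem_univ _, hallV t ht⟩
      have h1 := Finset.card_le_card hsub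
      rw [Finset.card_erase_of_mem (by simp), card_filter_mem, hC4, hn15] at h1
      omega
    have hK : N.normalCore = ⊥ := by
      rw [eq_bot_iff]
      intro d hd
      rw [mem_bot]
      have hnx := inverts_all hyp hx N.normalCore hKodd
        (fun e he => (normalCore_normal N).conj_mem e he x) d hd
      have hna := inverts_all hyp ha2 N.normalCore hKodd
        (fun e he => (normalCore_normal N).conj_mem e he a) d hd
      have aa := mul_self_of_orderOf_two ha2
      have hxa : x * a = a * x := comm_of_sq_one hCe hxV haV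
      have hb : orderOf (x * a) = 2 := by
        rw [orderOf_two_iff]
        constructor
        · intro h
          apply hax
          have h1 : a = x⁻¹ := eq_inv_of_mul_eq_one_right h
          rw [h1, inv_eq_self_of_orderOf_two hx]
        · calc x * a * (x * a) = x * (a * x) * a := by group
            _ = x * (x * a) * a := by rw [hxa]
            _ = (x * x) * (a * a) := by group
            _ = 1 := by rw [xx, aa, one_mul]
      have hdb : d * (x * a) = (x * a) * d := by
        have h1 : (x * a) * d * (x * a)⁻¹ = d := by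
          calc (x * a) * d * (x * a)⁻¹ = x * (a * d * a⁻¹) * x⁻¹ := by group
            _ = x * d⁻¹ * x⁻¹ := by rw [hna]
            _ = (x * d * x⁻¹)⁻¹ := by group
            _ = d := by rw [hnx, inv_inv]
        calc d * (x * a) = (x * a) * d * (x * a)⁻¹ * (x * a) := by rw [h1]
          _ = (x * a) * d := by group
      exact eq_one_of_commute_inv hyp hb (odd_orderOf_of_mem hKodd hd) hdb
    -- the permutation representation
    have hfq : Fintype (G ⧸ N) := Fintype.ofFinite _
    have hcardq : Fintype.card (G ⧸ N) = 5 := by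
      rw [← Nat.card_eq_fintype_card, ← Subgroup.index_eq_card, hidx]
    have hnt : Nontrivial (G ⧸ N) := by
      rw [← Fintype.one_lt_card_iff_nontrivial, hcardq]; norm_num
    have hinj : Function.Injective (MulAction.toPermHom G (G ⧸ N)) := by
      rw [← MonoidHom.ker_eq_bot_iff, ← Subgroup.normalCore_eq_ker]
      exact hK
    have hrange : (MulAction.toPermHom G (G ⧸ N)).range = alternatingGroup (G ⧸ N) := by
      apply Equiv.Perm.eq_alternatingGroup_of_index_eq_two
      have h1 : Nat.card (MulAction.toPermHom G (G ⧸ N)).range = 60 := by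
        rw [← Nat.card_congr (MonoidHom.ofInjective hinj).toEquiv, Nat.card_eq_fintype_card, h60]
      have h2 := Subgroup.card_mul_index (MulAction.toPermHom G (G ⧸ N)).range
      rw [h1, Nat.card_perm, Nat.card_eq_fintype_card, hcardq] at h2
      have : Nat.factorial 5 = 120 := by decide
      rw [this] at h2
      omega
    let e : (G ⧸ N) ≃ Fin 5 := Fintype.equivFinOfCardEq hcardq
    exact ⟨(MonoidHom.ofInjective hinj).trans
      ((MulEquiv.subgroupCongr hrange).trans (Equiv.altCongrHom e))⟩


end Cfsg.Agent.S3277
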