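import Cfsg.Statements.S3294
import Cfsg.Agent.Lib.Helper54.QuatSolv

set_option autoImplicit false
set_option linter.style.haveILetI false
open Cfsg

namespace Cfsg.Agent.S3294

/-- A finite solvable group whose Sylow 2-subgroups are generalized quaternion of order at least 32 has a normal 2-complement. -/
theorem result {G : Type*} [Group G] [Finite G] (hsol : Group.IsSolvable G) (T : Sylow 2 G) (n : ℕ) (hn : 3 ≤ n) (hT : Nonempty ((T : Subgroup G) ≃* QuaternionGroup (2 ^ n))) : Cfsg.HasNormalPComplement 2 G := by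
  classical
  haveI : Fact (Nat.Prime 2) := ⟨Nat.prime_two⟩
  haveI := hsol
  obtain ⟨e⟩ := hT
  obtain ⟨K, hKdef⟩ : ∃ K, K = Cfsg.pPrimeCore 2 G := ⟨_, rfl⟩
  haveI hKn : K.Normal := hKdef ▸ Cfsg.Agent.Lib.Helper55.pPrimeCore_normal' 2
  have hKodd : (Nat.card K).Coprime 2 := hKdef ▸ Cfsg.Agent.Lib.Helper55.pPrimeCore_card_coprime 2
  have h0 : Cfsg.pPrimeCore 2 (G ⧸ K) = ⊥ := by
    subst hKdef
    exact Cfsg.Agent.Lib.Helper55.pPrimeCore_quotient_eq_bot 2
  -- the image of T in the quotient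
  have hsurj : Function.Surjective (QuotientGroup.mk' K) := QuotientGroup.mk'_surjective K
  let Pbar : Sylow 2 (G ⧸ K) := T.mapSurjective hsurj
  have hPbar : (Pbar : Subgroup (G ⧸ K)) = (T : Subgroup G).map (QuotientGroup.mk' K) :=
    Sylow.coe_mapSurjective hsurj T
  have hTK : (T : Subgroup G) ⊓ K = ⊥ := by
    apply disjoint_iff.mp
    apply Subgroup.disjoint_of_coprime_natCard
    obtain ⟨k, hk⟩ := IsPGroup.iff_card.mp T.2
    rw [hk]
    exact (Nat.Coprime.pow_left k hKodd.symm)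
  let φ : (T : Subgroup G) →* (Pbar : Subgroup (G ⧸ K)) :=
    ((QuotientGroup.mk' K).comp (T : Subgroup G).subtype).codRestrict _ (by
      intro x
      rw [hPbar]
      exact ⟨x, x.2, rfl⟩)
  have hφinj : Function.Injective φ := by
    rw [injective_iff_map_eq_one]
    intro x hx
    have h1 : (QuotientGroup.mk' K) (x : G) = 1 := congrArg Subtype.val hx
    rw [QuotientGroup.mk'_apply, QuotientGroup.eq_one_iff] at h1
    have h2 : (x : G) ∈ (T : Subgroup G) ⊓ K := ⟨x.2, h1⟩
    rw [hTK, Subgroup.mem_bot] at h2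
    exact Subtype.ext h2
  have hφsurj : Function.Surjective φ := by
    rintro ⟨y, hy⟩
    have hy' : y ∈ (T : Subgroup G).map (QuotientGroup.mk' K) := hPbar ▸ hy
    obtain ⟨x, hx, rfl⟩ := hy'
    exact ⟨⟨x, hx⟩, Subtype.ext rfl⟩
  let ψ : (T : Subgroup G) ≃* (Pbar : Subgroup (G ⧸ K)) := MulEquiv.ofBijective φ ⟨hφinj, hφsurj⟩
  have hp2 : IsPGroup 2 (G ⧸ K) :=
    Cfsg.Agent.Lib.Helper54.isPGroup_two_of_quat_sylow h0 Pbar hn (ψ.symm.trans e)
  obtain ⟨a, ha⟩ := IsPGroup.iff_card.mp hp2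
  have hcardP : Nat.card (Pbar : Subgroup (G ⧸ K)) = 2 ^ a := by
    rw [Sylow.card_eq_multiplicity, ha, Nat.factorization_pow]
    simp [Nat.Prime.factorization_self Nat.prime_two]
  have hcardT : Nat.card (T : Subgroup G) = 2 ^ a := by
    rw [← hcardP]; exact Nat.card_congr ψ.toEquiv
  have hcardG : Nat.card K * Nat.card (T : Subgroup G) = Nat.card G := by
    rw [hcardT, ← ha, ← Subgroup.index_eq_card]
    exact Subgroup.card_mul_index K
  refine ⟨T, K, hKn, ?_⟩
  apply Subgroup.isComplement'_of_coprime hcardG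
  rw [hcardT]
  exact Nat.Coprime.pow_right a hKodd

end Cfsg.Agent.S3294
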