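import Cfsg.Statements.S3299
import Mathlib
import Cfsg.Agent.Lib.Helper4.ExtraInv2
import Cfsg.Agent.Lib.Helper22.Fitting

set_option autoImplicit false
open Cfsg

namespace Cfsg.Agent.S3299

/-- Let G be a finite group with no nontrivial 2-group quotient (O^2(G) = G), z an involution of G with H = C_G(z), and suppose E = O_2(H) is extraspecial with C_G(E) ≤ E and of order 2^(2n+1) with n ≥ 2. Then E is contained in every normal subgroup of H of index 2. -/
theorem result {G : Type*} [Group G] [Finite G] (hres : Cfsg.pResidual 2 G = ⊤) (z : G) (hz : orderOf z = 2)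
    (E : Subgroup G) (hE : E = (Cfsg.pCore 2 ↥(Subgroup.centralizer ({z} : Set G))).map (Subgroup.centralizer ({z} : Set G)).subtype)
    (hext : Cfsg.IsExtraspecial 2 ↥E) (hcent : Subgroup.centralizer (E : Set G) ≤ E) (n : ℕ) (hn : 2 ≤ n) (hcard : Nat.card ↥E = 2 ^ (2 * n + 1))
    (K : Subgroup G) (hKH : K ≤ Subgroup.centralizer ({z} : Set G))
    (hKn : ∀ h ∈ Subgroup.centralizer ({z} : Set G), K.map (MulAut.conj h).toMonoidHom = K)
    (hKi : K.relIndex (Subgroup.centralizer ({z} : Set G)) = 2) : E ≤ K := by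
  classical
  set H := Subgroup.centralizer ({z} : Set G) with hH
  have hN := Cfsg.Agent.Lib.Helper22.pCore_normal' 2 ↥H
  have hEH : E ≤ H := by
    rw [hE]
    intro x hx
    obtain ⟨q, _, rfl⟩ := Subgroup.mem_map.1 hx
    exact q.2
  have hEn : H ≤ Subgroup.normalizer (E : Set G) := by
    intro h hh
    rw [Subgroup.mem_normalizer_iff]
    have key : ∀ g ∈ H, ∀ e ∈ E, g * e * g⁻¹ ∈ E := by
      intro g hg e he
      rw [hE] at he ⊢
      obtain ⟨q, hq, rfl⟩ := Subgroup.mem_map.1 he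
      refine Subgroup.mem_map.2 ⟨⟨g, hg⟩ * q * ⟨g, hg⟩⁻¹, hN.conj_mem q hq ⟨g, hg⟩, ?_⟩
      simp
    intro e
    constructor
    · intro he
      exact key h hh e he
    · intro he
      have := key h⁻¹ (H.inv_mem hh) _ he
      have e' : h⁻¹ * (h * e * h⁻¹) * h⁻¹⁻¹ = e := by group
      rwa [e'] at this
  have hEz : ∀ q ∈ E, q * z = z * q := by
    intro q hq
    have := hEH hq
    rwa [hH, Subgroup.mem_centralizer_singleton_iff] at this
  have hc32 : 32 ≤ Nat.card ↥E := by
    rw [hcard]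
    calc 32 = 2 ^ 5 := by norm_num
      _ ≤ 2 ^ (2 * n + 1) := Nat.pow_le_pow_right (by norm_num) (by omega)
  have hKn' : ∀ h ∈ H, ∀ k ∈ K, h * k * h⁻¹ ∈ K := by
    intro h hh k hk
    have := hKn h hh
    rw [← this]
    exact Subgroup.mem_map.2 ⟨k, hk, by simp⟩
  exact Cfsg.Agent.Lib.Helper4.EI.le_index_two hres z hz E hEn hEz hext hcent hc32 K hKH hKn' hKi

end Cfsg.Agent.S3299
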