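import Cfsg.Statements.S3305
import Cfsg.Agent.Lib.Helper55.SylowQuot

set_option autoImplicit false
open Cfsg

namespace Cfsg.Agent.S3305

open Cfsg.Agent.Lib.Helper55

/-- If any two distinct Sylow 2-subgroups of the finite group G intersect in a cyclic group, then the same holds in every quotient group G/H, H a normal subgroup of G. -/
theorem result {G : Type*} [Group G] [Finite G]
    (hC : ∀ S T : Sylow 2 G, S ≠ T → IsCyclic ↥((S : Subgroup G) ⊓ (T : Subgroup G))) (H : Subgroup G) [H.Normal] :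
    ∀ S T : Sylow 2 (G ⧸ H), S ≠ T → IsCyclic ↥((S : Subgroup (G ⧸ H)) ⊓ (T : Subgroup (G ⧸ H))) := by
  intro S' T' hne
  have hf : Function.Surjective (QuotientGroup.mk' H) := QuotientGroup.mk'_surjective H
  have hD' : IsPGroup 2 ↥((S' : Subgroup (G ⧸ H)) ⊓ (T' : Subgroup (G ⧸ H))) :=
    S'.2.to_le inf_le_left
  obtain ⟨D, hD, hDmap⟩ := exists_pgroup_map_eq 2 hf _ hD'
  obtain ⟨S, hDS, hS⟩ := exists_sylow_ge_map_eq 2 hf S' D hD (by rw [hDmap]; exact inf_le_left)
  obtain ⟨T, hDT, hT⟩ := exists_sylow_ge_map_eq 2 hf T' D hD (by rw [hDmap]; exact inf_le_right)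
  have hST : S ≠ T := by
    rintro rfl
    apply hne
    apply Sylow.ext
    rw [← hS, ← hT]
  have := hC S T hST
  have : IsCyclic D := Subgroup.isCyclic_of_le (le_inf hDS hDT)
  rw [← hDmap]
  exact isCyclic_of_surjective ((QuotientGroup.mk' H).subgroupMap D) ((QuotientGroup.mk' H).subgroupMap_surjective D)

end Cfsg.Agent.S3305
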