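import Cfsg.Statements.S3303
import Cfsg.Agent.S3305
import Cfsg.Agent.Lib.Helper55.Cores

set_option autoImplicit false
set_option linter.style.haveILetI false
open Cfsg

namespace Cfsg.Agent.S3303

open Cfsg.Agent.Lib.Helper55

/-- Let G be a finite solvable group in which the intersection of any two distinct Sylow 2-subgroups is cyclic. Then G/O(G) has a normal Sylow 2-subgroup, where O(G) is the largest normal subgroup of odd order. -/
theorem result {G : Type*} [Group G] [Finite G] (hs : Group.IsSolvable G)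
    (hC : ∀ S T : Sylow 2 G, S ≠ T → IsCyclic ↥((S : Subgroup G) ⊓ (T : Subgroup G))) :
    ∃ P : Sylow 2 (G ⧸ Cfsg.oddCore G), (P : Subgroup (G ⧸ Cfsg.oddCore G)).Normal := by
  haveI : Fact (Nat.Prime 2) := ⟨Nat.prime_two⟩
  have hQc := Cfsg.Agent.S3305.result hC (Cfsg.oddCore G)
  haveI hQs : Group.IsSolvable (G ⧸ Cfsg.oddCore G) := inferInstance
  have hQo : Cfsg.pPrimeCore 2 (G ⧸ Cfsg.oddCore G) = ⊥ := pPrimeCore_quotient_eq_bot 2
  have hcent := centralizer_pCore_le (G := G ⧸ Cfsg.oddCore G) 2 hQo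
  by_cases hsub : Subsingleton (Sylow 2 (G ⧸ Cfsg.oddCore G))
  · exact ⟨default, Sylow.normal_of_subsingleton _⟩
  · rw [not_subsingleton_iff_nontrivial] at hsub
    obtain ⟨S, T, hST⟩ := hsub
    haveI hcyc := hQc S T hST
    haveI hPn : (Cfsg.pCore 2 (G ⧸ Cfsg.oddCore G)).Normal := pCore_normal' 2
    have hPp : IsPGroup 2 (Cfsg.pCore 2 (G ⧸ Cfsg.oddCore G)) := pCore_isPGroup 2
    have hle : Cfsg.pCore 2 (G ⧸ Cfsg.oddCore G) ≤ (S : Subgroup _) ⊓ (T : Subgroup _) :=
      le_inf (hPp.le_sylow_of_normal S) (hPp.le_sylow_of_normal T)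
    haveI : IsCyclic (Cfsg.pCore 2 (G ⧸ Cfsg.oddCore G)) := Subgroup.isCyclic_of_le hle
    have h2 : IsPGroup 2 (G ⧸ Cfsg.oddCore G) :=
      isPGroup_two_of_cyclic_normal_self_centralizing _ hPp hcent
    exfalso
    apply hST
    have hS : (S : Subgroup (G ⧸ Cfsg.oddCore G)) = ⊤ := (S.3 (h2.to_subgroup ⊤) le_top).symm
    have hT : (T : Subgroup (G ⧸ Cfsg.oddCore G)) = ⊤ := (T.3 (h2.to_subgroup ⊤) le_top).symm
    exact Sylow.ext (hS.trans hT.symm)

end Cfsg.Agent.S3303
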