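-- Statement S3304: solvable groups whose Sylow 2-intersections have 2-rank at most one.
import Cfsg.Statements.S3304
import Cfsg.Agent.S3305
import Cfsg.Agent.Lib.Helper55.Cores
import Cfsg.Agent.Lib.Helper55.SylowQuot
import Cfsg.Agent.Lib.Helper86.AutTwo
import Cfsg.Agent.Lib.Helper20.Q8Core

set_option autoImplicit false
set_option linter.style.haveILetI false
set_option linter.unusedSimpArgs false
set_option linter.unusedSectionVars false
open Cfsg

namespace Cfsg.Agent.S3304

open Cfsg.Agent.Lib.Helper55 Cfsg.Agent.Lib.Helper20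

/-- no Klein four-subgroup -/
def NoKlein {G : Type*} [Group G] (H : Subgroup G) : Prop :=
  ∀ a ∈ H, ∀ c ∈ H, a * a = 1 → c * c = 1 → a * c = c * a → a = 1 ∨ c = 1 ∨ a = c

theorem noKlein_of_rank {G : Type*} [Group G] (H : Subgroup G) (h : Cfsg.PRankLE 2 1 ↥H) :
    NoKlein H := by
  intro a ha c hc haa hcc hac
  by_contra hcon
  push Not at hcon
  obtain ⟨ha1, hc1, hne⟩ := hcon
  set a' : H := ⟨a, ha⟩ with ha'
  set c' : H := ⟨c, hc⟩ with hc'
  have hcomm : ∀ x ∈ ({a', c'} : Set H), ∀ y ∈ ({a', c'} : Set H), x * y = y * x := by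
    have hac' : a' * c' = c' * a' := Subtype.ext hac
    intro x hx y hy
    rcases hx with rfl | rfl <;> rcases hy with rfl | rfl
    · rfl
    · exact hac'
    · exact hac'.symm
    · rfl
  set A : Subgroup H := Subgroup.closure ({a', c'} : Set H) with hA
  have hAcomm : IsMulCommutative A := Subgroup.isMulCommutative_closure hcomm
  have hexp : ∀ x ∈ A, x ^ 2 = 1 := by
    intro x hx
    induction hx using Subgroup.closure_induction with
    | mem y hy =>
      rcases hy with rfl | rfl
      · rw [pow_two]; exact Subtype.ext haa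
      · rw [pow_two]; exact Subtype.ext hcc
    | one => exact one_pow 2
    | mul x y hx hy ihx ihy =>
      have hxy : (⟨x, hx⟩ : A) * ⟨y, hy⟩ = ⟨y, hy⟩ * ⟨x, hx⟩ := hAcomm.is_comm.comm _ _
      have hxy' : x * y = y * x := congrArg Subtype.val hxy
      have : Commute x y := hxy'
      rw [this.mul_pow, ihx, ihy, one_mul]
    | inv x hx ihx => rw [inv_pow, ihx, inv_one]
  have hcard := h A hAcomm hexp
  -- but `A` contains three distinct elements
  have hoa : orderOf a' = 2 := by
    apply orderOf_eq_prime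
    · rw [pow_two]; exact Subtype.ext haa
    · intro h1; exact ha1 (congrArg Subtype.val h1)
  have hle : Subgroup.zpowers a' ≤ A := by
    rw [Subgroup.zpowers_le]
    exact Subgroup.subset_closure (by simp)
  haveI : Finite A := by
    apply Nat.finite_of_card_ne_zero
    intro h0
    -- `A` is infinite: then `card = 0 ≤ 2`; handle via elements
    have hfin : Finite (Subgroup.zpowers a') :=
      Nat.finite_of_card_ne_zero (by rw [Nat.card_zpowers, hoa]; norm_num)
    -- every element of `A` is in `{1, a', c', a' * c'}`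
    have hall : ∀ x ∈ A, x = 1 ∨ x = a' ∨ x = c' ∨ x = a' * c' := by
      have hac' : a' * c' = c' * a' := Subtype.ext hac
      have haa' : a' * a' = 1 := Subtype.ext haa
      have hcc' : c' * c' = 1 := Subtype.ext hcc
      have hai : a'⁻¹ = a' := inv_eq_of_mul_eq_one_right haa'
      have hci : c'⁻¹ = c' := inv_eq_of_mul_eq_one_right hcc'
      intro x hx
      induction hx using Subgroup.closure_induction with
      | mem y hy =>
        rcases hy with rfl | rfl
        · right; left; rfl
        · right; right; left; rfl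
      | one => left; rfl
      | mul x y hx hy ihx ihy =>
        rcases ihx with rfl | rfl | rfl | rfl <;> rcases ihy with rfl | rfl | rfl | rfl
        · left; simp
        · right; left; simp
        · right; right; left; simp
        · right; right; right; simp
        · right; left; simp
        · left; exact haa'
        · right; right; right; rfl
        · right; right; left; rw [← mul_assoc, haa', one_mul]
        · right; right; left; simp
        · right; right; right; exact hac'.symm
        · left; exact hcc'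
        · right; left; rw [← mul_assoc, ← hac', mul_assoc, hcc', mul_one]
        · right; right; right; simp
        · right; right; left; rw [hac', mul_assoc, haa', mul_one]
        · right; left; rw [mul_assoc, hcc', mul_one]
        · left
          calc a' * c' * (a' * c') = a' * (c' * a') * c' := by group
            _ = a' * (a' * c') * c' := by rw [hac']
            _ = (a' * a') * (c' * c') := by group
            _ = 1 := by rw [haa', hcc', one_mul]
      | inv x hx ihx =>
        rcases ihx with rfl | rfl | rfl | rfl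
        · left; simp
        · right; left; exact hai
        · right; right; left; exact hci
        · right; right; right
          rw [mul_inv_rev, hai, hci, hac']
    have hfinA : (A : Set H).Finite := by
      apply Set.Finite.subset (Set.toFinite ({1, a', c', a' * c'} : Set H))
      intro x hx
      rcases hall x hx with rfl | rfl | rfl | rfl <;> simp
    have : Finite A := hfinA.to_subtype
    exact (Nat.card_pos (α := A)).ne' h0
  have hAeq : Subgroup.zpowers a' = A := by
    apply Subgroup.eq_of_le_of_card_ge hle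
    rw [Nat.card_zpowers, hoa]
    simpa using hcard
  have hcA : c' ∈ Subgroup.zpowers a' := by
    rw [hAeq]
    exact Subgroup.subset_closure (by simp)
  obtain ⟨k, hk⟩ := Subgroup.mem_zpowers_iff.mp hcA
  have hk' : c' = a' ^ (k % 2) := by
    rw [← hk]
    have := zpow_mod_orderOf a' k
    rw [hoa] at this
    exact this.symm
  rcases Int.emod_two_eq_zero_or_one k with h2 | h2
  · rw [h2, zpow_zero] at hk'
    exact hc1 (congrArg Subtype.val hk')
  · rw [h2, zpow_one] at hk'
    exact hne (congrArg Subtype.val hk').symm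

/-- a normal self-centralizing 2-subgroup with a 2-group of automorphisms -/
theorem isPGroup_two_of_normal_self_centralizing {G : Type*} [Group G] [Finite G] (N : Subgroup G)
    [N.Normal] (hN : IsPGroup 2 N) (hA : IsPGroup 2 (MulAut N))
    (hc : Subgroup.centralizer (N : Set G) ≤ N) : IsPGroup 2 G := by
  intro g
  obtain ⟨a, ha⟩ := hA (MulAut.conjNormal (H := N) g)
  have h1 : g ^ 2 ^ a ∈ Subgroup.centralizer (N : Set G) := by
    rw [Subgroup.mem_centralizer_iff]
    intro n hn
    have h2 : (MulAut.conjNormal (H := N) (g ^ 2 ^ a)) ⟨n, hn⟩ = ⟨n, hn⟩ := by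
      rw [map_pow, ha]; rfl
    have h3 := congrArg Subtype.val h2
    rw [MulAut.conjNormal_apply] at h3
    simp only at h3
    calc n * g ^ 2 ^ a = (g ^ 2 ^ a * n * (g ^ 2 ^ a)⁻¹) * g ^ 2 ^ a := by rw [h3]
      _ = g ^ 2 ^ a * n := by group
  obtain ⟨b, hb⟩ := hN ⟨g ^ 2 ^ a, hc h1⟩
  refine ⟨a + b, ?_⟩
  have := congrArg Subtype.val hb
  simp only [Subgroup.coe_pow, Subgroup.coe_one] at this
  rw [pow_add, pow_mul]
  exact this

/-- the hypothesis passes to the quotient by the odd core -/
theorem noKlein_quotient {G : Type*} [Group G] [Finite G]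
    (hI : ∀ S T : Sylow 2 G, S ≠ T → Cfsg.PRankLE 2 1 ↥((S : Subgroup G) ⊓ (T : Subgroup G)))
    (S' T' : Sylow 2 (G ⧸ Cfsg.oddCore G)) (hne : S' ≠ T') :
    NoKlein ((S' : Subgroup (G ⧸ Cfsg.oddCore G)) ⊓ (T' : Subgroup (G ⧸ Cfsg.oddCore G))) := by
  haveI : Fact (Nat.Prime 2) := ⟨Nat.prime_two⟩
  set K := Cfsg.oddCore G with hK
  have hf : Function.Surjective (QuotientGroup.mk' K) := QuotientGroup.mk'_surjective K
  have hD' : IsPGroup 2 ↥((S' : Subgroup (G ⧸ K)) ⊓ (T' : Subgroup (G ⧸ K))) :=
    S'.2.to_le inf_le_left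
  obtain ⟨D, hD, hDmap⟩ := exists_pgroup_map_eq 2 hf _ hD'
  obtain ⟨S, hDS, hS⟩ := exists_sylow_ge_map_eq 2 hf S' D hD (by rw [hDmap]; exact inf_le_left)
  obtain ⟨T, hDT, hT⟩ := exists_sylow_ge_map_eq 2 hf T' D hD (by rw [hDmap]; exact inf_le_right)
  have hST : S ≠ T := by
    rintro rfl
    apply hne
    exact Sylow.ext (hS.symm.trans hT)
  have hNK := noKlein_of_rank _ (hI S T hST)
  have hKodd : (Nat.card K).Coprime 2 := pPrimeCore_card_coprime 2
  -- `D ∩ K = 1`
  have htriv : ∀ x ∈ D, x ∈ K → x = 1 := by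
    intro x hxD hxK
    obtain ⟨k, hk⟩ := hD ⟨x, hxD⟩
    have hk' : x ^ 2 ^ k = 1 := by
      have := congrArg Subtype.val hk
      simpa using this
    have h1 : orderOf x ∣ 2 ^ k := orderOf_dvd_of_pow_eq_one hk'
    have h2 : orderOf x ∣ Nat.card K := Subgroup.orderOf_dvd_natCard K hxK
    have h3 : Nat.Coprime (2 ^ k) (Nat.card K) := (Nat.Coprime.pow_left k hKodd.symm)
    have h4 : orderOf x ∣ 1 := by
      rw [← h3]
      exact Nat.dvd_gcd h1 h2
    exact orderOf_eq_one_iff.mp (Nat.dvd_one.mp h4)
  intro a' ha' c' hc' haa hcc hac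
  rw [← hDmap] at ha' hc'
  obtain ⟨a, haD, rfl⟩ := ha'
  obtain ⟨c, hcD, rfl⟩ := hc'
  have hker : ∀ x : G, QuotientGroup.mk' K x = 1 → x ∈ K := by
    intro x hx
    rwa [QuotientGroup.mk'_apply, QuotientGroup.eq_one_iff] at hx
  have haa' : a * a = 1 := by
    apply htriv _ (D.mul_mem haD haD)
    apply hker
    rw [map_mul]; exact haa
  have hcc' : c * c = 1 := by
    apply htriv _ (D.mul_mem hcD hcD)
    apply hker
    rw [map_mul]; exact hcc
  have hac' : a * c = c * a := by
    have : a * c * (c * a)⁻¹ = 1 := by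
      apply htriv _ (D.mul_mem (D.mul_mem haD hcD) (D.inv_mem (D.mul_mem hcD haD)))
      apply hker
      rw [map_mul, map_inv, map_mul, map_mul, hac, mul_inv_cancel]
    exact mul_inv_eq_one.mp this
  rcases hNK a ⟨hDS haD, hDT haD⟩ c ⟨hDS hcD, hDT hcD⟩ haa' hcc' hac' with h | h | h
  · left; rw [h, map_one]
  · right; left; rw [h, map_one]
  · right; right; rw [h]

/-- a 2-group without Klein four-subgroups has only one subgroup of order 2 -/
theorem unique_order_two {G : Type*} [Group G] [Finite G] (R : Subgroup G) (hR2 : IsPGroup 2 R)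
    (hNK : NoKlein R) (H K : Subgroup R) (hH : Nat.card H = 2) (hK : Nat.card K = 2) : H = K := by
  haveI : Fact (Nat.Prime 2) := ⟨Nat.prime_two⟩
  -- involutions of `R` coincide
  have hgenr : ∀ L : Subgroup R, Nat.card L = 2 → ∃ x : R, x ≠ 1 ∧ x * x = 1 ∧ L = Subgroup.zpowers x := by
    intro L hL
    have hne : L ≠ ⊥ := by
      intro hb
      rw [hb, Subgroup.card_bot] at hL
      omega
    obtain ⟨y, hy1⟩ := Subgroup.ne_bot_iff_exists_ne_one.mp hne
    have h1 : y ^ Nat.card L = 1 := pow_card_eq_one'
    rw [hL] at h1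
    have hy1' : (y : R) ≠ 1 := fun h => hy1 (Subtype.ext h)
    have h2 : (y : R) * (y : R) = 1 := by
      have := congrArg Subtype.val h1
      simpa [pow_two] using this
    refine ⟨y, hy1', h2, ?_⟩
    symm
    apply Subgroup.eq_of_le_of_card_ge
    · rw [Subgroup.zpowers_le]; exact y.2
    · rw [hL, Nat.card_zpowers]
      have : orderOf (y : R) = 2 := orderOf_eq_prime (by rw [pow_two]; exact h2) hy1'
      rw [this]
  obtain ⟨x, hx1, hxx, rfl⟩ := hgenr H hH
  obtain ⟨y, hy1, hyy, rfl⟩ := hgenr K hK
  haveI : Nontrivial R := ⟨⟨x, 1, hx1⟩⟩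
  haveI : Nontrivial (Subgroup.center R) := hR2.center_nontrivial
  have hZ2 : IsPGroup 2 (Subgroup.center R) := hR2.to_subgroup _
  obtain ⟨k, hk⟩ := IsPGroup.iff_card.mp hZ2
  have hk0 : k ≠ 0 := by
    rintro rfl
    have h1 : Nat.card (Subgroup.center R) = 1 := by rw [hk, pow_zero]
    have := (Nat.card_eq_one_iff_unique.mp h1).1
    exact not_subsingleton (Subgroup.center R) this
  have hdvd : 2 ∣ Nat.card (Subgroup.center R) := by
    rw [hk]; exact dvd_pow_self 2 hk0
  obtain ⟨c, hco⟩ := exists_prime_orderOf_dvd_card' 2 hdvd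
  have hc1 : (c : R) ≠ 1 := by
    intro h
    have : c = 1 := Subtype.ext h
    rw [this, orderOf_one] at hco
    omega
  have hcc : (c : R) * (c : R) = 1 := by
    have := pow_orderOf_eq_one c
    rw [hco] at this
    have h2 := congrArg Subtype.val this
    simpa [pow_two] using h2
  have hcomm : ∀ w : R, w * (c : R) = (c : R) * w := fun w =>
    (Subgroup.mem_center_iff.mp c.2 w)
  have key : ∀ w : R, w ≠ 1 → w * w = 1 → w = (c : R) := by
    intro w hw1 hww
    have h1 : (w : G) * (w : G) = 1 := by
      have := congrArg Subtype.val hww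
      simpa using this
    have h2 : ((c : R) : G) * ((c : R) : G) = 1 := by
      have := congrArg Subtype.val hcc
      simpa using this
    have h3 : (w : G) * ((c : R) : G) = ((c : R) : G) * (w : G) := by
      have := congrArg Subtype.val (hcomm w)
      simpa using this
    rcases hNK (w : G) w.2 ((c : R) : G) (c : R).2 h1 h2 h3 with h | h | h
    · exact (hw1 (Subtype.ext h)).elim
    · exact (hc1 (Subtype.ext h)).elim
    · exact Subtype.ext h
  rw [key x hx1 hxx, key y hy1 hyy]

/-- Let G be a finite solvable group in which the intersection of any two distinct Sylow 2-subgroups has 2-rank at most 1 (contains no Klein four-group). Write Q = G/O(G), O(G) the largest normal subgroup of odd order. Then Q has a normal Sylow 2-subgroup; or Q is isomorphic to GL(2,3); or Q has order 48, centre of order 2 with central quotient isomorphic to the symmetric group of degree 4, and generalized quaternion Sylow 2-subgroups of order 16 (the binary octahedral group). The last two are the two representation groups of the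 symmetric group of degree 4. -/
theorem result {G : Type*} [Group G] [Finite G] (hs : Group.IsSolvable G)
    (hI : ∀ S T : Sylow 2 G, S ≠ T → Cfsg.PRankLE 2 1 ↥((S : Subgroup G) ⊓ (T : Subgroup G))) :
    (∃ P : Sylow 2 (G ⧸ Cfsg.oddCore G), (P : Subgroup (G ⧸ Cfsg.oddCore G)).Normal) ∨
    Nonempty ((G ⧸ Cfsg.oddCore G) ≃* GL (Fin 2) (ZMod 3)) ∨
    (Nat.card (G ⧸ Cfsg.oddCore G) = 48 ∧ Nat.card ↥(Subgroup.center (G ⧸ Cfsg.oddCore G)) = 2 ∧
      Nonempty ((G ⧸ Cfsg.oddCore G) ⧸ Subgroup.center (G ⧸ Cfsg.oddCore G) ≃* Equiv.Perm (Fin 4)) ∧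
      ∀ P : Sylow 2 (G ⧸ Cfsg.oddCore G), Nonempty (↥(P : Subgroup (G ⧸ Cfsg.oddCore G)) ≃* QuaternionGroup 4)) := by
  haveI : Fact (Nat.Prime 2) := ⟨Nat.prime_two⟩
  haveI hQs : Group.IsSolvable (G ⧸ Cfsg.oddCore G) := inferInstance
  have hQo : Cfsg.pPrimeCore 2 (G ⧸ Cfsg.oddCore G) = ⊥ := pPrimeCore_quotient_eq_bot 2
  have hcent := centralizer_pCore_le (G := G ⧸ Cfsg.oddCore G) 2 hQo
  by_cases hsub : Subsingleton (Sylow 2 (G ⧸ Cfsg.oddCore G))
  · left
    exact ⟨default, Sylow.normal_of_subsingleton _⟩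
  · rw [not_subsingleton_iff_nontrivial] at hsub
    obtain ⟨S, T, hST⟩ := hsub
    have hNK := noKlein_quotient hI S T hST
    haveI hPn : (Cfsg.pCore 2 (G ⧸ Cfsg.oddCore G)).Normal := pCore_normal' 2
    have hPp : IsPGroup 2 (Cfsg.pCore 2 (G ⧸ Cfsg.oddCore G)) := pCore_isPGroup 2
    have hle : Cfsg.pCore 2 (G ⧸ Cfsg.oddCore G) ≤ (S : Subgroup _) ⊓ (T : Subgroup _) :=
      le_inf (hPp.le_sylow_of_normal S) (hPp.le_sylow_of_normal T)
    have hNKR : NoKlein (Cfsg.pCore 2 (G ⧸ Cfsg.oddCore G)) := by
      intro a ha c hc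
      exact hNK a (hle ha) c (hle hc)
    -- a 2-group would have a unique Sylow subgroup
    have hnot2 : ¬ IsPGroup 2 (G ⧸ Cfsg.oddCore G) := by
      intro h2
      apply hST
      have hS : (S : Subgroup (G ⧸ Cfsg.oddCore G)) = ⊤ := (S.3 (h2.to_subgroup ⊤) le_top).symm
      have hT : (T : Subgroup (G ⧸ Cfsg.oddCore G)) = ⊤ := (T.3 (h2.to_subgroup ⊤) le_top).symm
      exact Sylow.ext (hS.trans hT.symm)
    rcases Cfsg.Agent.S0016.result 2 hPp (unique_order_two _ hPp hNKR) with hcyc | ⟨-, n, ⟨e⟩⟩
    · exfalso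
      haveI := hcyc
      exact hnot2 (isPGroup_two_of_cyclic_normal_self_centralizing _ hPp hcent)
    · rcases n with _ | _ | n
      · exfalso
        haveI : IsCyclic (QuaternionGroup (2 ^ 0)) := QuaternionGroup.quaternionGroup_one_isCyclic
        haveI : IsCyclic (Cfsg.pCore 2 (G ⧸ Cfsg.oddCore G)) :=
          isCyclic_of_surjective e.symm e.symm.surjective
        exact hnot2 (isPGroup_two_of_cyclic_normal_self_centralizing _ hPp hcent)
      · have e' : ↥(Cfsg.pCore 2 (G ⧸ Cfsg.oddCore G)) ≃* QuaternionGroup 2 := e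
        exact Q8Core.core _ hcent e' hnot2
      · exfalso
        have hA : IsPGroup 2 (MulAut (QuaternionGroup (2 ^ (n + 2)))) :=
          Cfsg.Agent.Lib.Helper86.isPGroup_two_mulAut_quaternion (n + 2) (by omega)
        have hA' : IsPGroup 2 (MulAut ↥(Cfsg.pCore 2 (G ⧸ Cfsg.oddCore G))) :=
          hA.of_equiv (MulAut.congr e.symm)
        exact hnot2 (isPGroup_two_of_normal_self_centralizing _ hPp hA' hcent)

end Cfsg.Agent.S3304
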