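import Cfsg.Statements.S3315
import Cfsg.Agent.Lib.Helper60.SU3EvenGL
import Cfsg.Agent.Lib.Helper60.SU3EvenSU

set_option autoImplicit false
open Cfsg

namespace Cfsg.Agent.S3315

open Cfsg.Agent.Lib.Helper60.SU3Even


/-- Let S be a Sylow 2-subgroup of SU₃(2ⁿ), n ≥ 2 (realised over the field with 4ⁿ elements). If a finite 2-group R contains a subgroup S' of index 2 isomorphic to S, then the centre of S' is contained in the centre of R. -/
theorem result {R : Type*} [Group R] [Finite R]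
    (hR : IsPGroup 2 R) (n : ℕ) (hn : 2 ≤ n) {F : Type*} [Field F] [Fintype F] (hF : Fintype.card F = 4 ^ n)
    (P : Sylow 2 ↥(Cfsg.SU 3 F (2 ^ n))) (S' : Subgroup R) (hS : Nonempty (↥S' ≃* ↥(P : Subgroup ↥(Cfsg.SU 3 F (2 ^ n)))))
    (hidx : S'.index = 2) :
    (Subgroup.center ↥S').map S'.subtype ≤ Subgroup.center R := by
  have hF' : Fintype.card F = (2 ^ n) ^ 2 := by
    rw [hF, ← pow_mul, mul_comm, pow_mul]; norm_num
  haveI : EvenQ F (2 ^ n) := EvenQ.of_pow hF'
  obtain ⟨e0⟩ := hS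
  obtain ⟨e1⟩ := exists_equiv_sylow_SU (F := F) (q := 2 ^ n) P
  let e : ↥S' ≃* Cfsg.Agent.Lib.Helper60.SU3Even.T F (2 ^ n) := e0.trans e1
  haveI hnorm : S'.Normal := Subgroup.normal_of_index_eq_two hidx
  rintro z ⟨z', hz', rfl⟩
  rw [Subgroup.mem_center_iff]
  intro r
  let φ : MulAut ↥S' := MulAut.conjNormal r
  let ψ : MulAut (Cfsg.Agent.Lib.Helper60.SU3Even.T F (2 ^ n)) := MulAut.congr e φ
  have hψ : ∀ x, ψ x = e (φ (e.symm x)) := fun x => rfl
  have hr2 : r * r ∈ S' := Subgroup.mul_self_mem_of_index_two hidx r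
  have hφφ : ∀ y : ↥S', φ (φ y) = ⟨r * r, hr2⟩ * y * (⟨r * r, hr2⟩ : ↥S')⁻¹ := by
    intro y
    apply Subtype.ext
    simp only [φ, MulAut.conjNormal_apply, Subgroup.coe_mul, Subgroup.coe_inv]
    group
  have hψ2 : ψ * ψ = MulAut.conj (e ⟨r * r, hr2⟩) := by
    apply MulEquiv.ext
    intro x
    rw [MulAut.mul_apply, hψ, hψ, MulEquiv.symm_apply_apply, hφφ, map_mul, map_mul, map_inv,
      MulEquiv.apply_symm_apply, MulAut.conj_apply]
  have hA2 : ∀ s, sA ψ (sA ψ s) = s := fun s => by rw [← sA_mul, hψ2, sA_conj]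
  have hfix := invol_fixK_gen ψ hA2
  have hz'' : e z' ∈ Subgroup.center (Cfsg.Agent.Lib.Helper60.SU3Even.T F (2 ^ n)) :=
    (mem_center_equiv e z').mp hz'
  have h1 := fixed_on_center_of_fixK_eq ψ hfix (e z') hz''
  rw [hψ, MulEquiv.symm_apply_apply] at h1
  have h3 : φ z' = z' := e.injective h1
  have h4 : r * (z' : R) * r⁻¹ = z' := by
    have := congrArg Subtype.val h3
    simpa only [φ, MulAut.conjNormal_apply] using this
  show r * (z' : R) = (z' : R) * r
  calc r * (z' : R) = (r * (z' : R) * r⁻¹) * r := by group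
    _ = (z' : R) * r := by rw [h4]

end Cfsg.Agent.S3315
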