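import Cfsg.Statements.S3349

set_option autoImplicit false
open Cfsg
open scoped commutatorElement

namespace Cfsg.Agent.S3349

/-- Let Q be a finite extraspecial p-group and α an automorphism of Q fixing every element of some maximal abelian subgroup of Q. Then the order of α is a power of p. -/
theorem result {Q : Type*} [Group Q] [Finite Q]
    (p : ℕ) [Fact p.Prime] (hQ : Cfsg.IsExtraspecial p Q) (α : MulAut Q)
    (A : Subgroup Q) (hA : IsMulCommutative A) (hmax : ∀ B : Subgroup Q, A ≤ B → IsMulCommutative B → B = A)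
    (hfix : ∀ a ∈ A, α a = a) :
    ∃ k : ℕ, orderOf α = p ^ k := by
  have hp : IsPGroup p Q := hQ.1.1
  have hcomm : commutator Q = Subgroup.center Q := hQ.1.2.2
  have hCA : ∀ c : Q, (∀ a ∈ A, c * a = a * c) → c ∈ A := by
    intro c hc
    have hB : IsMulCommutative (Subgroup.closure ((A : Set Q) ∪ {c})) := by
      apply Subgroup.isMulCommutative_closure
      intro x hx y hy
      rcases hx with hx | hx <;> rcases hy with hy | hy
      · exact setLike_mul_comm hx hy
      · rw [Set.mem_singleton_iff] at hy; subst hy; exact (hc x hx).symm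
      · rw [Set.mem_singleton_iff] at hx; subst hx; exact hc y hy
      · rw [Set.mem_singleton_iff] at hx hy; subst hx; subst hy; rfl
    have hle : A ≤ Subgroup.closure ((A : Set Q) ∪ {c}) := by
      intro a ha
      exact Subgroup.subset_closure (Or.inl ha)
    have := hmax _ hle hB
    rw [← this]
    exact Subgroup.subset_closure (Or.inr rfl)
  have hZA : Subgroup.center Q ≤ A := by
    intro c hc
    apply hCA
    intro a _
    exact (Subgroup.mem_center_iff.mp hc a).symm
  have hkey : ∀ x : Q, x⁻¹ * α x ∈ A := by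
    intro x
    apply hCA
    intro a ha
    have h1 : x * a * x⁻¹ * a⁻¹ ∈ A := by
      apply hZA
      rw [← hcomm]
      have : x * a * x⁻¹ * a⁻¹ = ⁅x, a⁆ := rfl
      rw [this]
      exact Subgroup.commutator_mem_commutator (Subgroup.mem_top x) (Subgroup.mem_top a)
    have h2 := hfix _ h1
    simp only [map_mul, map_inv, hfix a ha] at h2
    have h3 : α x * a * (α x)⁻¹ = x * a * x⁻¹ := by
      have := congrArg (· * a) h2
      simpa using this
    calc x⁻¹ * α x * a = x⁻¹ * (α x * a * (α x)⁻¹) * α x := by group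
      _ = x⁻¹ * (x * a * x⁻¹) * α x := by rw [h3]
      _ = a * (x⁻¹ * α x) := by group
  have hpow : ∀ (k : ℕ) (x : Q), (α ^ k) x = x * (x⁻¹ * α x) ^ k := by
    intro k
    induction k with
    | zero => intro x; simp
    | succ k ih =>
      intro x
      rw [pow_succ', MulAut.mul_apply, ih, map_mul, map_pow, hfix _ (hkey x), pow_succ' _ k]
      simp [mul_assoc]
  have hAcard : ∀ x : Q, (x⁻¹ * α x) ^ Nat.card Q = 1 := fun x => pow_card_eq_one'
  have hα : α ^ Nat.card Q = 1 := by
    ext x
    rw [hpow, hAcard]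
    simp
  obtain ⟨n, hn⟩ := IsPGroup.iff_card.mp hp
  rw [hn] at hα
  have := orderOf_dvd_of_pow_eq_one hα
  obtain ⟨k, _, hk⟩ := (Nat.dvd_prime_pow (Fact.out : p.Prime)).mp this
  exact ⟨k, hk⟩

end Cfsg.Agent.S3349
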