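import Cfsg.Statements.S3356

set_option autoImplicit false
set_option linter.unusedSectionVars false
set_option linter.unusedVariables false
open Cfsg

namespace Cfsg.Agent.S3356

open MulAction
open scoped Pointwise

section Count

variable {G Ω : Type*} [Group G] [Finite G] [MulAction G Ω] [Finite Ω]

lemma card_stab_sub (T : Subgroup G) (x : Ω) :
    Nat.card (stabilizer T x) = Nat.card ↥(T ⊓ stabilizer G x) := by
  refine Nat.card_congr ?_
  refine
    { toFun := fun g => ⟨g.1.1, ⟨g.1.2, ?_⟩⟩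
      invFun := fun g => ⟨⟨g.1, g.2.1⟩, ?_⟩
      left_inv := fun g => rfl
      right_inv := fun g => rfl }
  · have := g.2
    rw [mem_stabilizer_iff] at this
    exact mem_stabilizer_iff.mpr this
  · have := g.2.2
    exact mem_stabilizer_iff.mpr (mem_stabilizer_iff.mp this)

lemma orbit_mul (T : Subgroup G) (x : Ω) :
    (orbit T x).ncard * Nat.card ↥(T ⊓ stabilizer G x) = Nat.card T := by
  rw [← card_stab_sub, ← index_stabilizer]
  exact Subgroup.index_mul_card _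

lemma count_dvd (T : Subgroup G) (h : ℕ) : ∀ (k : ℕ) (X : Set Ω), X.ncard = k →
    (∀ g ∈ T, ∀ x ∈ X, g • x ∈ X) →
    (∀ x ∈ X, Nat.card ↥(T ⊓ stabilizer G x) = h) → Nat.card T ∣ h * X.ncard := by
  intro k
  induction k using Nat.strong_induction_on with
  | _ k ih =>
    intro X hk hinv hst
    rcases X.eq_empty_or_nonempty with rfl | ⟨x, hx⟩
    · simp
    · set O : Set Ω := orbit T x with hO
      have hOX : O ⊆ X := by
        rintro _ ⟨g, rfl⟩
        exact hinv g.1 g.2 x hx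
      have hxO : x ∈ O := mem_orbit_self x
      have hcard : O.ncard * h = Nat.card T := by
        rw [← hst x hx]; exact orbit_mul T x
      have hlt : (X \ O).ncard < k := by
        rw [← hk]
        refine Set.ncard_lt_ncard ?_ (Set.toFinite _)
        rw [Set.sdiff_ssubset_left_iff]
        exact ⟨x, hx, hxO⟩
      have hinv' : ∀ g ∈ T, ∀ y ∈ X \ O, g • y ∈ X \ O := by
        intro g hg y hy
        refine ⟨hinv g hg y hy.1, fun hgy => hy.2 ?_⟩
        have h1 : y = (⟨g, hg⟩ : T)⁻¹ • (g • y) := by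
          show y = (g⁻¹ : G) • (g • y)
          rw [inv_smul_smul]
        have h2 : (⟨g, hg⟩ : T)⁻¹ • (g • y) ∈ orbit T (g • y) := mem_orbit _ _
        rw [orbit_eq_iff.mpr hgy, ← h1] at h2
        exact h2
      have h1 := ih _ hlt (X \ O) rfl hinv' (fun y hy => hst y hy.1)
      have h2 : (X \ O).ncard + O.ncard = X.ncard :=
        Set.ncard_sdiff_add_ncard_of_subset hOX (Set.toFinite _)
      rw [← h2, mul_add, mul_comm h O.ncard, hcard]
      exact dvd_add h1 dvd_rfl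

/-- (P1) all two-point stabilizers have the same order. -/
lemma two_point_const
    (hhalf : ∀ a b c : Ω, b ≠ a → c ≠ a →
      Nat.card (orbit (stabilizer G a) b) = Nat.card (orbit (stabilizer G a) c))
    (a b c d : Ω) (hab : a ≠ b) (hcd : c ≠ d) :
    Nat.card ↥(stabilizer G a ⊓ stabilizer G b) = Nat.card ↥(stabilizer G c ⊓ stabilizer G d) := by
  have step1 : ∀ a b c : Ω, b ≠ a → c ≠ a →
      Nat.card ↥(stabilizer G a ⊓ stabilizer G b) = Nat.card ↥(stabilizer G a ⊓ stabilizer G c) := by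
    intro a b c hb hc
    have h1 := orbit_mul (stabilizer G a) b
    have h2 := orbit_mul (stabilizer G a) c
    have h3 := hhalf a b c hb hc
    rw [Nat.card_coe_set_eq, Nat.card_coe_set_eq] at h3
    rw [h3, ← h2] at h1
    have hpos : 0 < (orbit (stabilizer G a) c).ncard := by
      rw [Set.ncard_pos]
      exact ⟨c, mem_orbit_self c⟩
    exact Nat.eq_of_mul_eq_mul_left hpos h1
  by_cases hda : d = a
  · subst hda
    rw [step1 d b c hab.symm hcd, inf_comm]
  · rw [step1 a b d hab.symm hda, inf_comm, step1 d a c (Ne.symm hda) hcd, inf_comm]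

variable (h : ℕ) (hh : ∀ a b : Ω, a ≠ b → Nat.card ↥(stabilizer G a ⊓ stabilizer G b) = h)

include hh

/-- (P3) -/
lemma stab_dvd (a : Ω) : Nat.card (stabilizer G a) ∣ h * (Nat.card Ω - 1) := by
  have := count_dvd (stabilizer G a) h _ ({a}ᶜ) rfl ?_ ?_
  · rwa [Set.ncard_compl, Set.ncard_singleton] at this
  · intro g hg x hx hgx
    apply hx
    rw [Set.mem_singleton_iff] at hgx ⊢
    rw [mem_stabilizer_iff] at hg
    rw [← hg] at hgx
    exact smul_left_cancel g hgx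
  · intro x hx
    have : stabilizer G a ⊓ stabilizer G a = stabilizer G a := inf_idem _
    exact hh a x (Ne.symm hx)

/-- General lemma. -/
lemma fix_of_coprime (a : Ω) (X : Set Ω) (haX : a ∉ X)
    (hX : ∀ x ∈ X, ∀ g : G, g • a = a → g • x = x → ∀ x' ∈ X, g • x' ∈ X)
    (hco : Nat.Coprime X.ncard (Nat.card Ω - 1)) :
    ∀ x ∈ X, ∀ x' ∈ X, ∀ g : G, g • a = a → g • x = x → g • x' = x' := by
  set T : Subgroup G := stabilizer G a ⊓ stabilizer G X with hT
  have hT_inv : ∀ g ∈ T, ∀ x ∈ X, g • x ∈ X := by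
    intro g hg x hx
    have : g ∈ stabilizer G X := hg.2
    rw [mem_stabilizer_iff] at this
    rw [← this]
    exact Set.smul_mem_smul_set hx
  have hKT : ∀ x ∈ X, stabilizer G a ⊓ stabilizer G x ≤ T := by
    intro x hx g hg
    refine ⟨hg.1, ?_⟩
    show g ∈ stabilizer G X
    rw [mem_stabilizer_set_iff_smul_set_subset (Set.toFinite X)]
    rintro _ ⟨x', hx', rfl⟩
    exact hX x hx g (mem_stabilizer_iff.mp hg.1) (mem_stabilizer_iff.mp hg.2) x' hx'
  have hTst : ∀ x ∈ X, T ⊓ stabilizer G x = stabilizer G a ⊓ stabilizer G x := by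
    intro x hx
    exact le_antisymm (inf_le_inf_right _ inf_le_left) (le_inf (hKT x hx) inf_le_right)
  have hne : ∀ x ∈ X, a ≠ x := fun x hx hax => haX (hax ▸ hx)
  have hc1 : Nat.card T ∣ h * X.ncard :=
    count_dvd T h _ X rfl hT_inv (fun x hx => by rw [hTst x hx]; exact hh a x (hne x hx))
  have hc2 : Nat.card T ∣ h * (Nat.card Ω - 1) :=
    (Subgroup.card_dvd_of_le inf_le_left).trans (stab_dvd h hh a)
  have hc3 : Nat.card T ∣ h := by
    have := Nat.dvd_gcd hc1 hc2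
    rwa [Nat.gcd_mul_left, hco.gcd_eq_one, mul_one] at this
  have hKeq : ∀ x ∈ X, stabilizer G a ⊓ stabilizer G x = T := by
    intro x hx
    refine Subgroup.eq_of_le_of_card_ge (hKT x hx) ?_
    rw [hh a x (hne x hx)]
    refine Nat.le_of_dvd ?_ hc3
    rw [← hh a x (hne x hx)]
    exact Nat.card_pos
  intro x hx x' hx' g hga hgx
  have hg : g ∈ stabilizer G a ⊓ stabilizer G x := ⟨hga, hgx⟩
  rw [hKeq x hx, ← hKeq x' hx'] at hg
  exact hg.2

end Count

section Reg

variable {G Ω : Type*} [Group G] [Finite G] [MulAction G Ω] [Finite Ω]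
  (N : Subgroup G) [hN : N.Normal]
  (hreg : ∀ m ∈ N, ∀ a : Ω, m • a = a → m = 1)

/-- `Cen a y z`: every element of `G_a` centralizing `y` centralizes `z`. -/
def Cen (a : Ω) (y z : G) : Prop := ∀ g : G, g • a = a → g * y = y * g → g * z = z * g

lemma Cen.refl (a : Ω) (y : G) : Cen a y y := fun _ _ h => h

lemma Cen.one (a : Ω) (y : G) : Cen a y 1 := fun g _ _ => by simp

lemma Cen.trans {a : Ω} {x y z : G} (h1 : Cen a x y) (h2 : Cen a y z) : Cen a x z :=
  fun g hg h => h2 g hg (h1 g hg h)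

lemma Cen.mul {a : Ω} {x y z : G} (h1 : Cen a x y) (h2 : Cen a x z) : Cen a x (y * z) :=
  fun g hg h => by
    have e1 := h1 g hg h
    have e2 := h2 g hg h
    calc g * (y * z) = (g * y) * z := by group
      _ = y * (g * z) := by rw [e1]; group
      _ = y * z * g := by rw [e2]; group

lemma Cen.inv {a : Ω} {x y : G} (h1 : Cen a x y) : Cen a x y⁻¹ :=
  fun g hg h => by
    have e1 := h1 g hg h
    calc g * y⁻¹ = y⁻¹ * (y * g) * y⁻¹ := by group
      _ = y⁻¹ * g := by rw [← e1]; group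

include hN hreg

/-- key equivalence: for `g` fixing `a` and `z ∈ N`, `g` fixes `z • a` iff `g` commutes with `z`. -/
lemma fix_iff_comm (a : Ω) (g : G) (hg : g • a = a) (z : G) (hz : z ∈ N) :
    g • z • a = z • a ↔ g * z = z * g := by
  constructor
  · intro h
    have h1 : (z⁻¹ * (g * z * g⁻¹)) • a = a := by
      have : (g * z * g⁻¹) • a = g • z • a := by
        rw [mul_smul, mul_smul]
        congr 2
        rw [inv_smul_eq_iff, hg]
      rw [mul_smul, this, h, inv_smul_smul]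
    have h2 : z⁻¹ * (g * z * g⁻¹) ∈ N := N.mul_mem (N.inv_mem hz) (hN.conj_mem z hz g)
    have h3 := hreg _ h2 a h1
    have : g * z * g⁻¹ = z := by
      have := congrArg (z * ·) h3
      simpa using this
    calc g * z = g * z * g⁻¹ * g := by group
      _ = z * g := by rw [this]
  · intro h
    rw [← mul_smul, h, mul_smul, hg]

lemma pt_inj (a : Ω) {z z' : G} (hz : z ∈ N) (hz' : z' ∈ N) (e : z • a = z' • a) : z = z' := by
  have h1 : (z'⁻¹ * z) • a = a := by rw [mul_smul, e, inv_smul_smul]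
  have := hreg _ (N.mul_mem (N.inv_mem hz') hz) a h1
  calc z = z' * (z'⁻¹ * z) := by group
    _ = z' := by rw [this, mul_one]

omit hN hreg in
lemma smul_conj (a : Ω) (g : G) (hg : g • a = a) (z : G) : g • z • a = (g * z * g⁻¹) • a := by
  rw [mul_smul, mul_smul]
  congr 2
  rw [eq_comm, inv_smul_eq_iff, hg]

lemma card_N (htr : ∀ a b : Ω, ∃ m ∈ N, m • a = b) (a : Ω) : Nat.card N = Nat.card Ω := by
  refine Nat.card_congr (Equiv.ofBijective (fun m : N => m.1 • a) ⟨?_, ?_⟩)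
  · intro z z' e
    exact Subtype.ext (pt_inj N hreg a z.2 z'.2 e)
  · intro b
    obtain ⟨m, hm, e⟩ := htr a b
    exact ⟨⟨m, hm⟩, e⟩

omit hN hreg in
lemma coprime_pred {k : ℕ} (hk : k ∣ Nat.card Ω) [Nonempty Ω] : Nat.Coprime k (Nat.card Ω - 1) := by
  have hpos : 0 < Nat.card Ω := Nat.card_pos
  refine Nat.Coprime.coprime_dvd_left hk ?_
  obtain ⟨n, hn⟩ : ∃ n, Nat.card Ω = n + 1 := ⟨Nat.card Ω - 1, by omega⟩
  rw [hn]
  simp

lemma class_card_dvd (a : Ω) (y : G) (hy : y ∈ N) :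
    ((fun m : G => (m * y * m⁻¹) • a) '' (N : Set G)).ncard ∣ Nat.card N := by
  set y' : N := ⟨y, hy⟩ with hy'
  have h1 : (orbit (ConjAct N) y').ncard ∣ Nat.card N := by
    rw [← index_stabilizer]
    exact Subgroup.index_dvd_card _
  have h2 : (fun m : G => (m * y * m⁻¹) • a) '' (N : Set G) =
      (fun z : N => (z : G) • a) '' (orbit (ConjAct N) y') := by
    ext x
    constructor
    · rintro ⟨m, hm, rfl⟩
      refine ⟨ConjAct.toConjAct (⟨m, hm⟩ : N) • y', mem_orbit _ _, ?_⟩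
      rw [ConjAct.toConjAct_smul]
      rfl
    · rintro ⟨_, ⟨c, rfl⟩, rfl⟩
      refine ⟨(ConjAct.ofConjAct c : N), (ConjAct.ofConjAct c).2, ?_⟩
      show _ = ((c • y' : N) : G) • a
      rw [ConjAct.smul_def]
      rfl
  rw [h2, Set.ncard_image_of_injective]
  · exact h1
  · intro z z' e
    exact Subtype.ext (pt_inj N hreg a z.2 z'.2 e)

variable (h : ℕ) (hh : ∀ a b : Ω, a ≠ b → Nat.card ↥(stabilizer G a ⊓ stabilizer G b) = h)

include hh

/-- (iii) symmetry of `Cen` on non-identity elements of `N`. -/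
lemma Cen.symm {a : Ω} {y z : G} (hy : y ∈ N) (hy1 : y ≠ 1) (hz : z ∈ N) (hz1 : z ≠ 1)
    (hc : Cen a y z) : Cen a z y := by
  have hya : a ≠ y • a := fun e => hy1 (hreg y hy a e.symm)
  have hza : a ≠ z • a := fun e => hz1 (hreg z hz a e.symm)
  have hle : stabilizer G a ⊓ stabilizer G (y • a) ≤ stabilizer G a ⊓ stabilizer G (z • a) := by
    intro g hg
    have hga : g • a = a := mem_stabilizer_iff.mp hg.1
    have hgy : g • y • a = y • a := mem_stabilizer_iff.mp hg.2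
    refine ⟨hg.1, ?_⟩
    show g ∈ stabilizer G (z • a)
    rw [mem_stabilizer_iff, fix_iff_comm N hreg a g hga z hz]
    exact hc g hga ((fix_iff_comm N hreg a g hga y hy).mp hgy)
  have heq := Subgroup.eq_of_le_of_card_ge hle (by rw [hh _ _ hya, hh _ _ hza])
  intro g hga hgz
  have : g ∈ stabilizer G a ⊓ stabilizer G (z • a) :=
    ⟨mem_stabilizer_iff.mpr hga, mem_stabilizer_iff.mpr ((fix_iff_comm N hreg a g hga z hz).mpr hgz)⟩
  rw [← heq] at this
  exact (fix_iff_comm N hreg a g hga y hy).mp (mem_stabilizer_iff.mp this.2)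

variable (htr : ∀ a b : Ω, ∃ m ∈ N, m • a = b)

include htr

/-- ★★ -/
lemma Cen.conj {a : Ω} {y m : G} (hy : y ∈ N) (hy1 : y ≠ 1) (hm : m ∈ N) :
    Cen a y (m * y * m⁻¹) := by
  have : Nonempty Ω := ⟨a⟩
  set X : Set Ω := (fun m : G => (m * y * m⁻¹) • a) '' (N : Set G) with hXdef
  have haX : a ∉ X := by
    rintro ⟨m, hm, e⟩
    have := hreg _ (hN.conj_mem y hy m) a e
    apply hy1
    calc y = m⁻¹ * (m * y * m⁻¹) * m := by group
      _ = 1 := by rw [this]; group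
  have hX : ∀ x ∈ X, ∀ g : G, g • a = a → g • x = x → ∀ x' ∈ X, g • x' ∈ X := by
    rintro _ ⟨m, hm, rfl⟩ g hga hgx _ ⟨m', hm', rfl⟩
    have hz : m * y * m⁻¹ ∈ N := hN.conj_mem y hy m
    have hc := (fix_iff_comm N hreg a g hga _ hz).mp hgx
    have hc' : g⁻¹ * (m * y * m⁻¹) * g = m * y * m⁻¹ := by
      rw [mul_assoc, ← hc]; group
    refine ⟨g * (m' * m⁻¹) * g⁻¹ * m, N.mul_mem (hN.conj_mem _ (N.mul_mem hm' (N.inv_mem hm)) g) hm, ?_⟩
    show (g * (m' * m⁻¹) * g⁻¹ * m * y * (g * (m' * m⁻¹) * g⁻¹ * m)⁻¹) • a = g • (m' * y * m'⁻¹) • a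
    rw [smul_conj a g hga]
    congr 1
    calc g * (m' * m⁻¹) * g⁻¹ * m * y * (g * (m' * m⁻¹) * g⁻¹ * m)⁻¹
        = (g * m' * m⁻¹) * (g⁻¹ * (m * y * m⁻¹) * g) * (m * m'⁻¹ * g⁻¹) := by group
      _ = g * (m' * y * m'⁻¹) * g⁻¹ := by rw [hc']; group
  have hco : Nat.Coprime X.ncard (Nat.card Ω - 1) := by
    apply coprime_pred
    rw [← card_N N hreg htr a]
    exact class_card_dvd N hreg a y hy
  have key := fix_of_coprime h hh a X haX hX hco (y • a) ⟨1, N.one_mem, by simp⟩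
    ((m * y * m⁻¹) • a) ⟨m, hm, rfl⟩
  intro g hga hgy
  have := key g hga ((fix_iff_comm N hreg a g hga y hy).mpr hgy)
  exact (fix_iff_comm N hreg a g hga _ (hN.conj_mem y hy m)).mp this

/-- coset version -/
lemma Cen.coset {a : Ω} (W : Subgroup G) (hWN : W ≤ N)
    (hWinv : ∀ g : G, g • a = a → ∀ w ∈ W, g * w * g⁻¹ ∈ W) {z w : G} (hz : z ∈ N) (hzW : z ∉ W)
    (hw : w ∈ W) : Cen a z w := by
  have : Nonempty Ω := ⟨a⟩
  set X : Set Ω := (fun w : G => (z * w) • a) '' (W : Set G) with hXdef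
  have haX : a ∉ X := by
    rintro ⟨w, hw, e⟩
    have := hreg _ (N.mul_mem hz (hWN hw)) a e
    apply hzW
    have : z = w⁻¹ := eq_inv_of_mul_eq_one_left this
    rw [this]
    exact W.inv_mem hw
  have hX : ∀ x ∈ X, ∀ g : G, g • a = a → g • x = x → ∀ x' ∈ X, g • x' ∈ X := by
    rintro _ ⟨w₁, hw₁, rfl⟩ g hga hgx _ ⟨w₂, hw₂, rfl⟩
    have hc := (fix_iff_comm N hreg a g hga _ (N.mul_mem hz (hWN hw₁))).mp hgx
    refine ⟨w₁ * (g * (w₁⁻¹ * w₂) * g⁻¹),
      W.mul_mem hw₁ (hWinv g hga _ (W.mul_mem (W.inv_mem hw₁) hw₂)), ?_⟩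
    show (z * (w₁ * (g * (w₁⁻¹ * w₂) * g⁻¹))) • a = g • (z * w₂) • a
    rw [smul_conj a g hga]
    congr 1
    calc z * (w₁ * (g * (w₁⁻¹ * w₂) * g⁻¹)) = (z * w₁ * g) * (w₁⁻¹ * w₂ * g⁻¹) := by group
      _ = g * (z * w₂) * g⁻¹ := by rw [← hc]; group
  have hco : Nat.Coprime X.ncard (Nat.card Ω - 1) := by
    apply coprime_pred
    rw [← card_N N hreg htr a]
    have : X.ncard = Nat.card W := by
      rw [hXdef, Set.InjOn.ncard_image, ← Nat.card_coe_set_eq]
      · rfl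
      · intro w₁ hw₁ w₂ hw₂ e
        have := pt_inj N hreg a (N.mul_mem hz (hWN hw₁)) (N.mul_mem hz (hWN hw₂)) e
        exact mul_left_cancel this
    rw [this]
    exact Subgroup.card_dvd_of_le hWN
  have key := fix_of_coprime h hh a X haX hX hco ((z * 1) • a) ⟨1, W.one_mem, rfl⟩
    ((z * w) • a) ⟨w, hw, rfl⟩
  intro g hga hgz
  rw [mul_one] at key
  have := key g hga ((fix_iff_comm N hreg a g hga z hz).mpr hgz)
  have h2 := (fix_iff_comm N hreg a g hga _ (N.mul_mem hz (hWN hw))).mp this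
  have h3 : z * (g * w) = z * (w * g) := by
    calc z * (g * w) = (z * g) * w := by group
      _ = g * (z * w) := by rw [← hgz]; group
      _ = z * (w * g) := by rw [h2]; group
  exact mul_left_cancel h3

/-- Lemma A -/
lemma comm_of_not_cen {a : Ω} {y z : G} (hy : y ∈ N) (hy1 : y ≠ 1) (hz : z ∈ N) (hz1 : z ≠ 1)
    (hnc : ¬ Cen a y z) : y * z = z * y := by
  by_contra hne
  set c := y * z * y⁻¹ * z⁻¹ with hc
  have hc1 : c ≠ 1 := by
    intro e
    apply hne
    calc y * z = (y * z * y⁻¹ * z⁻¹) * (z * y) := by group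
      _ = z * y := by rw [← hc, e, one_mul]
  have hcN : c ∈ N := N.mul_mem (N.mul_mem (N.mul_mem hy hz) (N.inv_mem hy)) (N.inv_mem hz)
  -- Cen z c
  have h1 : Cen a z c := by
    have e1 : Cen a z (y * z * y⁻¹) := Cen.conj N hreg h hh htr hz hz1 hy
    have e2 : Cen a z z⁻¹ := (Cen.refl a z).inv
    exact e1.mul e2
  have h2 : Cen a c z := Cen.symm N hreg h hh hz hz1 hcN hc1 h1
  have h3 : Cen a y c := by
    have e1 : Cen a y (z * y * z⁻¹) := Cen.conj N hreg h hh htr hy hy1 hz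
    have e2 : Cen a y (z * y * z⁻¹)⁻¹ := e1.inv
    have e3 : Cen a y (y * (z * y * z⁻¹)⁻¹) := (Cen.refl a y).mul e2
    have : y * (z * y * z⁻¹)⁻¹ = c := by rw [hc]; group
    rwa [this] at e3
  exact hnc (h3.trans h2)

end Reg

section Faithful

variable {G Ω : Type*} [Group G] [Finite G] [MulAction G Ω] [FaithfulSMul G Ω] [Finite Ω]
  (N : Subgroup G) [hN : N.Normal]
  (hreg : ∀ m ∈ N, ∀ a : Ω, m • a = a → m = 1)
  (h : ℕ) (hh : ∀ a b : Ω, a ≠ b → Nat.card ↥(stabilizer G a ⊓ stabilizer G b) = h)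
  (htr : ∀ a b : Ω, ∃ m ∈ N, m • a = b)
  (h1 : h ≠ 1)

include htr in
/-- an element fixing `a` and commuting with all of `N` is trivial. -/
lemma eq_one_of_comm {a : Ω} {g : G} (hga : g • a = a) (hc : ∀ z ∈ N, g * z = z * g) : g = 1 := by
  apply FaithfulSMul.eq_of_smul_eq_smul (α := Ω)
  intro x
  obtain ⟨z, hz, rfl⟩ := htr a x
  rw [one_smul, ← mul_smul, hc z hz, mul_smul, hga]

include hN hreg hh htr h1

/-- Lemma B -/
lemma exists_not_cen {a : Ω} {y : G} (hy : y ∈ N) (hy1 : y ≠ 1) :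
    ∃ z ∈ N, z ≠ 1 ∧ ¬ Cen a y z := by
  by_contra hcon
  push Not at hcon
  have hall : ∀ z ∈ N, Cen a y z := by
    intro z hz
    by_cases hz1 : z = 1
    · rw [hz1]; exact Cen.one a y
    · exact hcon z hz hz1
  have hya : a ≠ y • a := fun e => hy1 (hreg y hy a e.symm)
  have hbot : stabilizer G a ⊓ stabilizer G (y • a) = ⊥ := by
    rw [Subgroup.eq_bot_iff_forall]
    intro g hg
    have hga : g • a = a := mem_stabilizer_iff.mp hg.1
    have hgy : g • y • a = y • a := mem_stabilizer_iff.mp hg.2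
    have hgc := (fix_iff_comm N hreg a g hga y hy).mp hgy
    exact eq_one_of_comm N htr hga (fun z hz => hall z hz g hga hgc)
  have := hh a (y • a) hya
  rw [hbot] at this
  apply h1
  rw [← this]
  simp

/-- Lemma C: `N` is abelian. -/
lemma comm_N (a : Ω) {y y' : G} (hy : y ∈ N) (hy' : y' ∈ N) : y * y' = y' * y := by
  by_cases hy1 : y = 1
  · rw [hy1]; simp
  by_cases hy'1 : y' = 1
  · rw [hy'1]; simp
  by_cases hc : Cen a y y'
  · obtain ⟨z, hz, hz1, hnz⟩ := exists_not_cen N hreg h hh htr h1 (a := a) hy hy1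
    have e1 : y * z = z * y := comm_of_not_cen N hreg h hh htr hy hy1 hz hz1 hnz
    have hn2 : ¬ Cen a y (y' * z) := by
      intro hc2
      apply hnz
      have := hc.inv.mul hc2
      rwa [inv_mul_cancel_left] at this
    have hyz1 : y' * z ≠ 1 := by
      intro e
      apply hn2
      rw [e]; exact Cen.one a y
    have e2 : y * (y' * z) = (y' * z) * y :=
      comm_of_not_cen N hreg h hh htr hy hy1 (N.mul_mem hy' hz) hyz1 hn2
    have : y * y' * z = y' * y * z := by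
      calc y * y' * z = y * (y' * z) := by group
        _ = y' * (z * y) := by rw [e2]; group
        _ = y' * y * z := by rw [← e1]; group
    exact mul_right_cancel this
  · exact comm_of_not_cen N hreg h hh htr hy hy1 hy' hy'1 hc

/-- (IRR) no proper nontrivial `G_a`-invariant subgroups of `N`. -/
lemma le_of_invariant {a : Ω} (W : Subgroup G) (hWN : W ≤ N)
    (hWinv : ∀ g : G, g • a = a → ∀ w ∈ W, g * w * g⁻¹ ∈ W) (hW : W ≠ ⊥) : N ≤ W := by
  by_contra hcon
  obtain ⟨z₀, hz₀, hz₀W⟩ := Set.not_subset.mp hcon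
  obtain ⟨w₀, hw₀, hw₀1⟩ : ∃ w ∈ W, w ≠ 1 := by
    by_contra hc
    push Not at hc
    exact hW ((Subgroup.eq_bot_iff_forall W).mpr hc)
  have hz₀1 : z₀ ≠ 1 := fun e => hz₀W (e ▸ W.one_mem)
  have key : ∀ z ∈ N, z ∉ W → ∀ w ∈ W, Cen a z w := fun z hz hzW w hw =>
    Cen.coset N hreg h hh htr W hWN hWinv hz hzW hw
  have hw₀z₀ : Cen a w₀ z₀ :=
    Cen.symm N hreg h hh hz₀ hz₀1 (hWN hw₀) hw₀1 (key z₀ hz₀ hz₀W w₀ hw₀)
  obtain ⟨z, hz, hz1, hnz⟩ := exists_not_cen N hreg h hh htr h1 (a := a) (hWN hw₀) hw₀1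
  apply hnz
  by_cases hzW : z ∈ W
  · exact hw₀z₀.trans (key z₀ hz₀ hz₀W z hzW)
  · exact Cen.symm N hreg h hh hz hz1 (hWN hw₀) hw₀1 (key z hz hzW w₀ hw₀)

end Faithful

theorem result {G Ω : Type*} [Group G] [Finite G]
    [MulAction G Ω] [FaithfulSMul G Ω] [Finite Ω] (htrans : MulAction.IsPretransitive G Ω)
    (hne : ∀ a : Ω, MulAction.stabilizer G a ≠ ⊥)
    (hhalf : ∀ a b c : Ω, b ≠ a → c ≠ a →
      Nat.card (MulAction.orbit (MulAction.stabilizer G a) b) = Nat.card (MulAction.orbit (MulAction.stabilizer G a) c))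
    (N : Subgroup G) [hN : N.Normal] (hNt : MulAction.IsPretransitive N Ω) (hNr : ∀ a : Ω, MulAction.stabilizer N a = ⊥)
    (hnotF : ∃ a b : Ω, a ≠ b ∧ MulAction.stabilizer G a ⊓ MulAction.stabilizer G b ≠ ⊥) :
    (∃ p : ℕ, p.Prime ∧ IsMulCommutative N ∧ ∀ x ∈ N, x ^ p = 1) ∧
    (∀ M : Subgroup G, M.Normal → M ≠ ⊥ → N ≤ M) := by
  obtain ⟨a₀, b₀, hab₀, hK₀⟩ := hnotF
  set h := Nat.card ↥(stabilizer G a₀ ⊓ stabilizer G b₀) with hh0
  have hh : ∀ a b : Ω, a ≠ b → Nat.card ↥(stabilizer G a ⊓ stabilizer G b) = h :=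
    fun a b hab => two_point_const hhalf a b a₀ b₀ hab hab₀
  have h1 : h ≠ 1 := fun e => hK₀ (Subgroup.eq_bot_of_card_eq _ e)
  have hreg : ∀ m ∈ N, ∀ a : Ω, m • a = a → m = 1 := by
    intro m hm a e
    have : (⟨m, hm⟩ : N) ∈ stabilizer N a := mem_stabilizer_iff.mpr e
    rw [hNr a, Subgroup.mem_bot] at this
    exact congrArg Subtype.val this
  have htr : ∀ a b : Ω, ∃ m ∈ N, m • a = b := by
    intro a b
    obtain ⟨m, e⟩ := hNt.exists_smul_eq a b
    exact ⟨m.1, m.2, e⟩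
  have hcomm : ∀ y ∈ N, ∀ y' ∈ N, y * y' = y' * y :=
    fun y hy y' hy' => comm_N N hreg h hh htr h1 a₀ hy hy'
  have hIRR : ∀ W : Subgroup G, W ≤ N → (∀ g : G, g • a₀ = a₀ → ∀ w ∈ W, g * w * g⁻¹ ∈ W) →
      W ≠ ⊥ → N ≤ W :=
    fun W hWN hWinv hW => le_of_invariant N hreg h hh htr h1 (a := a₀) W hWN hWinv hW
  constructor
  · -- exponent p
    have hNnt : Nat.card N ≠ 1 := by
      intro e
      obtain ⟨m, hm, hmab⟩ := htr a₀ b₀
      have : N = ⊥ := Subgroup.eq_bot_of_card_eq _ e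
      rw [this, Subgroup.mem_bot] at hm
      rw [hm, one_smul] at hmab
      exact hab₀ hmab
    obtain ⟨p, hp, hpd⟩ := Nat.exists_prime_and_dvd hNnt
    have := Fact.mk hp
    obtain ⟨y₀, hy₀⟩ := exists_prime_orderOf_dvd_card' p hpd
    let W : Subgroup G :=
      { carrier := {x | x ∈ N ∧ x ^ p = 1}
        mul_mem' := by
          rintro x y ⟨hx, hxp⟩ ⟨hy, hyp⟩
          refine ⟨N.mul_mem hx hy, ?_⟩
          have : Commute x y := hcomm x hx y hy
          rw [this.mul_pow, hxp, hyp, one_mul]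
        one_mem' := ⟨N.one_mem, one_pow p⟩
        inv_mem' := by
          rintro x ⟨hx, hxp⟩
          exact ⟨N.inv_mem hx, by rw [inv_pow, hxp, inv_one]⟩ }
    have hWN : W ≤ N := fun x hx => hx.1
    have hWinv : ∀ g : G, g • a₀ = a₀ → ∀ w ∈ W, g * w * g⁻¹ ∈ W := by
      rintro g - w ⟨hw, hwp⟩
      refine ⟨hN.conj_mem w hw g, ?_⟩
      rw [conj_pow, hwp, mul_one, mul_inv_cancel]
    have hWne : W ≠ ⊥ := by
      intro e
      have hy₀W : (y₀ : G) ∈ W := by
        refine ⟨y₀.2, ?_⟩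
        have := pow_orderOf_eq_one y₀
        rw [hy₀] at this
        exact_mod_cast congrArg Subtype.val this
      rw [e, Subgroup.mem_bot] at hy₀W
      have : y₀ = 1 := Subtype.ext hy₀W
      rw [this, orderOf_one] at hy₀
      exact hp.one_lt.ne hy₀
    have hNW := hIRR W hWN hWinv hWne
    exact ⟨p, hp, ⟨⟨fun x y => Subtype.ext (hcomm x.1 x.2 y.1 y.2)⟩⟩, fun x hx => (hNW hx).2⟩
  · intro M hM hMbot
    have hWinv : ∀ g : G, g • a₀ = a₀ → ∀ w ∈ M ⊓ N, g * w * g⁻¹ ∈ M ⊓ N := by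
      rintro g - w ⟨hwM, hwN⟩
      exact ⟨hM.conj_mem w hwM g, hN.conj_mem w hwN g⟩
    by_cases hW : M ⊓ N = ⊥
    · exfalso
      obtain ⟨g, hgM, hg1⟩ : ∃ g ∈ M, g ≠ 1 := by
        by_contra hc
        push Not at hc
        exact hMbot ((Subgroup.eq_bot_iff_forall M).mpr hc)
      have hgc : ∀ m ∈ N, g * m = m * g := by
        intro m hm
        have hmem : g * m * g⁻¹ * m⁻¹ ∈ M ⊓ N := by
          refine ⟨?_, ?_⟩
          · have : g * m * g⁻¹ * m⁻¹ = g * (m * g⁻¹ * m⁻¹) := by group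
            rw [this]
            exact M.mul_mem hgM (hM.conj_mem _ (M.inv_mem hgM) m)
          · exact N.mul_mem (hN.conj_mem m hm g) (N.inv_mem hm)
        rw [hW, Subgroup.mem_bot] at hmem
        calc g * m = (g * m * g⁻¹ * m⁻¹) * (m * g) := by group
          _ = m * g := by rw [hmem, one_mul]
      obtain ⟨m₀, hm₀, hm₀g⟩ := htr a₀ (g • a₀)
      have hfix : (m₀⁻¹ * g) • a₀ = a₀ := by
        rw [mul_smul, ← hm₀g, inv_smul_smul]
      have hc2 : ∀ z ∈ N, (m₀⁻¹ * g) * z = z * (m₀⁻¹ * g) := by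
        intro z hz
        calc m₀⁻¹ * g * z = m₀⁻¹ * (g * z) := by group
          _ = (m₀⁻¹ * z) * g := by rw [hgc z hz]; group
          _ = z * (m₀⁻¹ * g) := by rw [hcomm _ (N.inv_mem hm₀) z hz]; group
      have hone := eq_one_of_comm N htr hfix hc2
      have hgm : g = m₀ := by
        calc g = m₀ * (m₀⁻¹ * g) := by group
          _ = m₀ := by rw [hone, mul_one]
      have : g ∈ M ⊓ N := ⟨hgM, hgm ▸ hm₀⟩
      rw [hW, Subgroup.mem_bot] at this
      exact hg1 this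
    · exact (hIRR (M ⊓ N) inf_le_right hWinv hW).trans inf_le_left

end Cfsg.Agent.S3356
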