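import Cfsg.Statements.S3357
import Cfsg.Agent.Lib.Helper97.FreeAct4

set_option autoImplicit false
open Cfsg

namespace Cfsg.Agent.S3357

open Cfsg.Agent.Lib.Helper97.FreeAct

/-- Let G be a finite group that occurs as a Frobenius complement. Then G has a faithful irreducible representation over an algebraic closure of the rationals in which no non-identity element of G has 1 as an eigenvalue: there are n ≥ 1 and an injective homomorphism ρ from G to GL(n) over that field, with no invariant subspace other than 0 and the whole space, such that for g ≠ 1 the only vector fixed by ρ(g) is 0. -/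
theorem result {G : Type*} [Group G] [Finite G]
    (hFC : ∃ (L : Type) (_ : Group L) (_ : Finite L) (H : Subgroup L), Cfsg.IsFrobeniusComplement H ∧ Nonempty (G ≃* H)) :
    ∃ (n : ℕ) (ρ : G →* GL (Fin n) (AlgebraicClosure ℚ)), 0 < n ∧ Function.Injective ρ ∧
      (∀ W : Submodule (AlgebraicClosure ℚ) (Fin n → AlgebraicClosure ℚ),
        (∀ g : G, ∀ w ∈ W, ((ρ g : GL (Fin n) (AlgebraicClosure ℚ)) : Matrix (Fin n) (Fin n) (AlgebraicClosure ℚ)).mulVec w ∈ W) → W = ⊥ ∨ W = ⊤) ∧
      ∀ g : G, g ≠ 1 → ∀ v : Fin n → AlgebraicClosure ℚ,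
        ((ρ g : GL (Fin n) (AlgebraicClosure ℚ)) : Matrix (Fin n) (Fin n) (AlgebraicClosure ℚ)).mulVec v = v → v = 0 := by
  obtain ⟨L, _, _, C, hC, ⟨e⟩⟩ := hFC
  obtain ⟨r, hr, X, _, _, φ, hrC, hexp, hfree⟩ := exists_mulAut_of_frobenius C hC
  have : Fact r.Prime := ⟨hr⟩
  have hint : ∀ m : ℤ, (m : MonoidAlgebra ℤ ↥C) ∈ normIdeal ↥C → m = 0 :=
    int_mem_normIdeal_of_mulAut r hrC hexp φ hfree
  obtain ⟨n, ρ, hn, hinj, hirr, hfpf⟩ := exists_fpf_irrep hint (AlgebraicClosure ℚ)
  refine ⟨n, ρ.comp e.toMonoidHom, hn, hinj.comp e.injective, ?_, ?_⟩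
  · intro W hW
    apply hirr W
    intro h w hw
    have h1 := hW (e.symm h) w hw
    simpa using h1
  · intro g hg v hv
    refine hfpf (e g) (fun h => hg ?_) v hv
    have h1 : e g = e 1 := by rw [h, map_one]
    exact e.injective h1

end Cfsg.Agent.S3357
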