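import Cfsg.Statements.S3358
import Cfsg.Agent.S0690
import Cfsg.Agent.Lib.Helper97.FrobNS4
import Cfsg.Agent.Lib.Helper97.FC6
import Cfsg.Agent.Lib.Helper97.FP1
import Cfsg.Agent.Lib.Helper97.FP3

set_option autoImplicit false
open Cfsg

namespace Cfsg.Agent.S3358

open Cfsg.Agent.Lib.Helper97.FC Cfsg.Agent.Lib.Helper97.FrobNS

/-- An embedding of the Klein four group into `Sym(4)`. -/
theorem exists_d2_embedding :
    ∃ j : DihedralGroup 2 →* Equiv.Perm (Fin 4), Function.Injective j := by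
  classical
  have hc : Fintype.card (DihedralGroup 2) = 4 := by
    rw [← Nat.card_eq_fintype_card]; exact card_D2
  let σ : DihedralGroup 2 ≃ Fin 4 := Fintype.equivFinOfCardEq hc
  refine ⟨(σ.permCongrHom : Equiv.Perm (DihedralGroup 2) →* Equiv.Perm (Fin 4)).comp
    (MulAction.toPermHom (DihedralGroup 2) (DihedralGroup 2)), ?_⟩
  exact σ.permCongrHom.injective.comp MulAction.toPerm_injective

/-- Structure of solvable Frobenius complements. Let G be a finite solvable group that occurs as a Frobenius complement. Then G has a normal subgroup G₀ such that G/G₀ is isomorphic to a subgroup of Sym(4) (G₀ is the kernel of a homomorphism to Sym(4)), all Sylow subgroups of G₀ are cyclic, and G₀ has a presentation ⟨x, y | x^n = 1, y^m = 1, x⁻¹ y x = y^r⟩ with n, m ≥ 1, gcd(r − 1, m) = gcd(n, m) = 1 and r^(n/n′) ≡ 1 (mod m), where n′ is the product of the distinct primes dividing n. -/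
theorem result {G : Type*} [Group G] [Finite G] (hsol : Group.IsSolvable G)
    (hFC : ∃ (L : Type) (_ : Group L) (_ : Finite L) (H : Subgroup L), Cfsg.IsFrobeniusComplement H ∧ Nonempty (G ≃* H)) :
    ∃ G₀ : Subgroup G, G₀.Normal ∧
      (∃ f : G →* Equiv.Perm (Fin 4), f.ker = G₀) ∧
      (∀ (p : ℕ) [Fact p.Prime] (P : Sylow p G₀), IsCyclic P) ∧
      ∃ n m r : ℕ, 0 < n ∧ 0 < m ∧ Nat.Coprime (r - 1) m ∧ Nat.Coprime n m ∧ 1 ≤ r ∧
        r ^ (n / ∏ p ∈ n.primeFactors, p) % m = 1 % m ∧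
        Nonempty (G₀ ≃* PresentedGroup
          ({FreeGroup.of (0 : Fin 2) ^ n, FreeGroup.of (1 : Fin 2) ^ m,
            (FreeGroup.of (0 : Fin 2))⁻¹ * FreeGroup.of 1 * FreeGroup.of 0 * (FreeGroup.of (1 : Fin 2) ^ r)⁻¹} :
            Set (FreeGroup (Fin 2)))) := by
  classical
  obtain ⟨𝔏, _, _, Hs, hH, ⟨e⟩⟩ := hFC
  obtain ⟨K, -, hKn, hc⟩ := Cfsg.Agent.S0035.result Hs hH
  have hK : K ≠ ⊥ := by
    intro h
    have h1 := hc.card_mul_card
    rw [h, Subgroup.card_bot, one_mul] at h1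
    exact hH.2.1 ((Subgroup.card_eq_iff_eq_top Hs).mp h1)
  have hfpf := (Cfsg.Agent.S0039.result K Hs hc hK hH.1).mp hH
  have hyp : Hyp G := hyp_of_frob K Hs hc hK hfpf e
    (fun G hf hp hn => Cfsg.Agent.S0690.result G hf hp hn)
  have hpqG : ∀ A : Subgroup G, ∀ p q : ℕ, p.Prime → q.Prime → Nat.card A = p * q →
      IsCyclic A := fun A p q hp hq hA => pq_cyclic_of_frob K Hs hK hfpf e A p q hp hq hA
  -- the subgroup `G₀`
  have hex : ∃ N : Subgroup G, N.Normal ∧ AllPCyc N ∧
      ∃ f : G →* Equiv.Perm (Fin 4), f.ker = N := by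
    by_cases hcyc : ∀ Q : Sylow 2 G, IsCyclic Q
    · refine ⟨⊤, inferInstance, ?_, 1, MonoidHom.ker_one⟩
      intro p hp T _ hTp
      by_cases hp2 : p = 2
      · subst hp2
        haveI : Fact (Nat.Prime 2) := ⟨Nat.prime_two⟩
        obtain ⟨Q, hTQ⟩ := hTp.exists_le_sylow
        haveI := hcyc Q
        exact isCyclic_of_injective (Subgroup.inclusion hTQ) (Subgroup.inclusion_injective hTQ)
      · exact hyp.sylow_cyclic p hp hp2 T hTp
    · push Not at hcyc
      obtain ⟨N, hNn, hNc, ho⟩ := solv_case hsol hyp.inv_unique hyp.sylow_cyclic hcyc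
      refine ⟨N, hNn, hNc, ?_⟩
      rcases ho with ⟨f, -, hk⟩ | ⟨f, -, hk⟩ | ⟨f, -, hk⟩
      · obtain ⟨j, hj⟩ := exists_d2_embedding
        exact ⟨j.comp f, by rw [MonoidHom.ker_comp_of_injective f j hj, hk]⟩
      · exact ⟨(alternatingGroup (Fin 4)).subtype.comp f, by
          rw [MonoidHom.ker_comp_of_injective f _ (Subgroup.subtype_injective _), hk]⟩
      · exact ⟨f, hk⟩
  obtain ⟨N, hNn, hNc, hf⟩ := hex
  refine ⟨N, hNn, hf, fun p _ P => hNc.sylow p P, ?_⟩
  -- the presentation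
  have hZ : ∀ (p : ℕ) [Fact p.Prime] (P : Sylow p N), IsCyclic (P : Subgroup N) :=
    fun p _ P => hNc.sylow p P
  obtain ⟨x, y, n, m, r, hgen, hx, hy, hrel, hr1, hcop, hr, hrn⟩ := Cfsg.Agent.S3379.result hZ
  have hpqN : ∀ A : Subgroup N, ∀ p q : ℕ, p.Prime → q.Prime → Nat.card A = p * q →
      IsCyclic A := by
    intro A p q hp hq hA
    have h1 : Nat.card (A.map N.subtype) = p * q := by
      rw [Subgroup.card_map_of_injective N.subtype_injective, hA]
    have h2 := hpqG _ p q hp hq h1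
    exact isCyclic_of_surjective (A.equivMapOfInjective N.subtype N.subtype_injective).symm.toMonoidHom
      (A.equivMapOfInjective N.subtype N.subtype_injective).symm.surjective
  refine ⟨n, m, r, hx ▸ orderOf_pos x, hy ▸ orderOf_pos y, hr1, hcop, hr, ?_, ?_⟩
  · exact rad_condition hpqN x y n m r hx hy hrel hcop hrn
  · exact presented_iso x y n m r hgen hx hy hrel hcop

end Cfsg.Agent.S3358
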