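import Cfsg.Statements.S3361
import Cfsg.Agent.Lib.Helper12.RegSolvA
import Cfsg.Agent.Lib.Helper12.RegSolvB

set_option autoImplicit false
open Cfsg
open Cfsg.Agent.Lib.Helper12

namespace Cfsg.Agent.S3361

/-- Let q be a prime and V a non-trivial finite vector space over the field with q elements, and let G be a finite solvable group acting faithfully and linearly on V and regularly on the non-zero vectors (transitively, with only the identity fixing a non-zero vector). Then either V can be identified with the additive group of a finite field F so that every element of G acts as x ↦ a·σ(x) (a ∈ F, σ a field automorphism), or V has 5^2, 7^2, 11^2 or 23^2 elements. Moreover, if q ≠ 2 then G has a normal subgroup of index 2, except that when V has 25 elements G may be isomorphic to SL(2,3) and when V has 121 elements G may be isomorphic to SL(2,3) × C₅. -/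
theorem result
    (q : ℕ) [Fact q.Prime] {V : Type*} [AddCommGroup V] [Module (ZMod q) V] [Finite V] [Nontrivial V]
    {G : Type*} [Group G] [Finite G] (hsol : Group.IsSolvable G)
    (ρ : G →* (V ≃ₗ[ZMod q] V)) (hρ : Function.Injective ρ)
    (htrans : ∀ v w : V, v ≠ 0 → w ≠ 0 → ∃ g : G, ρ g v = w)
    (hreg : ∀ v : V, v ≠ 0 → ∀ g : G, ρ g v = v → g = 1) :
    ((∃ (F : Type) (_ : Field F) (_ : Fintype F) (e : V ≃+ F),
        ∀ g : G, ∃ (a : F) (σ : F ≃+* F), ∀ v : V, e (ρ g v) = a * σ (e v)) ∨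
      Nat.card V ∈ ({25, 49, 121, 529} : Set ℕ)) ∧
    (q ≠ 2 → (∃ N : Subgroup G, N.Normal ∧ N.index = 2) ∨
      (Nat.card V = 25 ∧ Nonempty (G ≃* Matrix.SpecialLinearGroup (Fin 2) (ZMod 3))) ∨
      (Nat.card V = 121 ∧ Nonempty (G ≃* Matrix.SpecialLinearGroup (Fin 2) (ZMod 3) × Multiplicative (ZMod 5)))) := by
  classical
  have := hsol
  obtain ⟨H, hH⟩ : ∃ H : Subgroup (V ≃ₗ[ZMod q] V), H = ρ.range := ⟨_, rfl⟩
  obtain ⟨eGH, heGH⟩ : ∃ eGH : G ≃* H, ∀ g : G, ((eGH g : H) : V ≃ₗ[ZMod q] V) = ρ g :=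
    ⟨(MonoidHom.ofInjective hρ).trans (MulEquiv.subgroupCongr hH.symm), fun g => rfl⟩
  have hregH : ∀ v w : V, v ≠ 0 → w ≠ 0 → ∃! h : H, (h : V ≃ₗ[ZMod q] V) v = w := by
    intro v w hv hw
    obtain ⟨g, hg⟩ := htrans v w hv hw
    refine ⟨eGH g, by show ((eGH g : H) : V ≃ₗ[ZMod q] V) v = w; rw [heGH]; exact hg, ?_⟩
    intro h' hh'
    obtain ⟨g', rfl⟩ := eGH.surjective h'
    have hh'' : ρ g' v = w := by rw [← heGH]; exact hh'
    have h1 : g⁻¹ * g' = 1 := by
      apply hreg v hv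
      rw [map_mul, map_inv, LinearEquiv.mul_apply, hh'', ← hg]
      exact (ρ g).symm_apply_apply v
    rw [inv_mul_eq_one] at h1
    rw [h1]
  have hsolvH : Group.IsSolvable H :=
    Group.isSolvable_of_surjective (f := eGH.toMonoidHom) eGH.surjective
  constructor
  · by_cases hE : ∃ A : Subgroup H, A.Normal ∧ IsCyclic A ∧ ∀ W : Submodule (ZMod q) V,
        (∀ n ∈ A, ∀ v ∈ W, ((n : H) : V ≃ₗ[ZMod q] V) v ∈ W) → W = ⊥ ∨ W = ⊤
    · left
      obtain ⟨A, hAn, hAcyc, hirr⟩ := hE
      have hAc : ∀ a ∈ A, ∀ b ∈ A, a * b = b * a := by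
        intro a ha b hb
        have h1 := (IsCyclic.commGroup (α := A)).mul_comm ⟨a, ha⟩ ⟨b, hb⟩
        exact congrArg Subtype.val h1
      obtain ⟨F, fF, ftF, e, he⟩ := RegSolv.gammaL_of_irreducible H A hAn hAc hirr
      refine ⟨F, fF, ftF, e, ?_⟩
      intro g
      obtain ⟨a, σ, h1⟩ := he (eGH g)
      refine ⟨a, σ, ?_⟩
      intro v
      rw [← heGH]
      exact h1 v
    · right
      have hI : ∀ A : Subgroup H, A.Normal → IsCyclic A → ∃ W : Submodule (ZMod q) V,
          W ≠ ⊥ ∧ W ≠ ⊤ ∧ ∀ a ∈ A, ∀ v ∈ W, ((a : H) : V ≃ₗ[ZMod q] V) v ∈ W := by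
        intro A hAn hAc
        by_contra hcon
        apply hE
        refine ⟨A, hAn, hAc, ?_⟩
        intro W hW
        by_contra h
        rw [not_or] at h
        exact hcon ⟨W, h.1, h.2, hW⟩
      have h1 := Cfsg.Agent.S0688.result H hregH hI hsolvH
      simp only [Set.mem_insert_iff, Set.mem_singleton_iff]
      exact h1
  · intro hq2
    by_cases hno2 : ∃ N : Subgroup H, N.Normal ∧ N.index = 2
    · left
      obtain ⟨N, hN, hidx⟩ := hno2
      refine ⟨N.comap eGH.toMonoidHom, hN.comap _, ?_⟩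
      rw [Subgroup.index_comap_of_surjective N eGH.surjective, hidx]
    · right
      rcases RegSolv.exceptional H hregH hsolvH hq2 hno2 with ⟨h25, ⟨e⟩⟩ | ⟨h121, ⟨e⟩⟩
      · left
        exact ⟨h25, ⟨eGH.trans e⟩⟩
      · right
        exact ⟨h121, ⟨eGH.trans e⟩⟩

end Cfsg.Agent.S3361
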