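import Cfsg.Statements.S3362
import Cfsg.Agent.Lib.Helper89.M12Chain

set_option autoImplicit false
open Cfsg
open Cfsg.Agent.Lib.Helper89

namespace Cfsg.Agent.S3362

/-- An explicit construction of the Mathieu groups of degrees 11 and 12. On the points 0, …, 11 let s = (3 4 5)(6 7 8)(9 10 11), t = (3 6 9)(4 7 10)(5 8 11), u = (4 6 5 9)(7 8 11 10), v = (4 7 5 11)(6 10 9 8), w = (4 10 5 8)(6 11 9 7), x₁ = (0 3)(6 7)(8 10)(9 11), x₂ = (0 1)(6 9)(7 10)(8 11), x₃ = (1 2)(6 11)(7 9)(8 10) (each written as a product of transpositions). Then the group M₁₂ generated by all eight permutations is sharply 5-transitive on the 12 points and has order 95040, and the group M₁₁ generated by the first seven has order 7920 and is the stabilizer of the point 2 in M₁₂. -/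
theorem result
    (s t u v w x₁ x₂ x₃ : Equiv.Perm (Fin 12))
    (hs : s = Equiv.swap (3 : Fin 12) 5 * Equiv.swap (3 : Fin 12) 4 * Equiv.swap (6 : Fin 12) 8 * Equiv.swap (6 : Fin 12) 7 * Equiv.swap (9 : Fin 12) 11 * Equiv.swap (9 : Fin 12) 10) (ht : t = Equiv.swap (3 : Fin 12) 9 * Equiv.swap (3 : Fin 12) 6 * Equiv.swap (4 : Fin 12) 10 * Equiv.swap (4 : Fin 12) 7 * Equiv.swap (5 : Fin 12) 11 * Equiv.swap (5 : Fin 12) 8)
    (hu : u = Equiv.swap (4 : Fin 12) 9 * Equiv.swap (4 : Fin 12) 5 * Equiv.swap (4 : Fin 12) 6 * Equiv.swap (7 : Fin 12) 10 * Equiv.swap (7 : Fin 12) 11 * Equiv.swap (7 : Fin 12) 8) (hv : v = Equiv.swap (4 : Fin 12) 11 * Equiv.swap (4 : Fin 12) 5 * Equiv.swap (4 : Fin 12) 7 * Equiv.swap (6 : Fin 12) 8 * Equiv.swap (6 : Fin 12) 9 * Equiv.swap (6 : Fin 12) 10) (hw : w = Equiv.swap (4 : Fin 12) 8 * Equiv.swap (4 : Fin 12) 5 * Equiv.swap (4 : Fin 12) 10 * Equiv.swap (6 : Fin 12) 7 * Equiv.swap (6 : Fin 12) 9 * Equiv.swap (6 : Fin 12)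 11)
    (hx₁ : x₁ = Equiv.swap (0 : Fin 12) 3 * Equiv.swap (6 : Fin 12) 7 * Equiv.swap (8 : Fin 12) 10 * Equiv.swap (9 : Fin 12) 11) (hx₂ : x₂ = Equiv.swap (0 : Fin 12) 1 * Equiv.swap (6 : Fin 12) 9 * Equiv.swap (7 : Fin 12) 10 * Equiv.swap (8 : Fin 12) 11)
    (hx₃ : x₃ = Equiv.swap (1 : Fin 12) 2 * Equiv.swap (6 : Fin 12) 11 * Equiv.swap (7 : Fin 12) 9 * Equiv.swap (8 : Fin 12) 10)
    (M₁₂ M₁₁ : Subgroup (Equiv.Perm (Fin 12))) (hM₁₂ : M₁₂ = Subgroup.closure {s, t, u, v, w, x₁, x₂, x₃})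
    (hM₁₁ : M₁₁ = Subgroup.closure {s, t, u, v, w, x₁, x₂}) :
    MulAction.IsMultiplyPretransitive M₁₂ (Fin 12) 5 ∧ (∀ y : Fin 5 ↪ Fin 12, MulAction.stabilizer M₁₂ y = ⊥) ∧
    Nat.card M₁₂ = 95040 ∧ Nat.card M₁₁ = 7920 ∧
    M₁₁ = M₁₂ ⊓ MulAction.stabilizer (Equiv.Perm (Fin 12)) (2 : Fin 12) := by
  subst hs ht hu hv hw hx₁ hx₂ hx₃
  have e12 : M₁₂ = M12.H 8 := by
    rw [hM₁₂]
    apply le_antisymm
    · rw [Subgroup.closure_le]
      intro g hg
      simp only [Set.mem_insert_iff, Set.mem_singleton_iff] at hg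
      rcases hg with rfl | rfl | rfl | rfl | rfl | rfl | rfl | rfl
      · exact M12.gen_mem 3 (by decide)
      · exact M12.gen_mem 4 (by decide)
      · exact M12.gen_mem 0 (by decide)
      · exact M12.gen_mem 1 (by decide)
      · exact M12.gen_mem 2 (by decide)
      · exact M12.gen_mem 5 (by decide)
      · exact M12.gen_mem 6 (by decide)
      · exact M12.gen_mem 7 (by decide)
    · rw [M12.H, Subgroup.closure_le]
      rintro g ⟨j, hj, rfl⟩
      apply Subgroup.subset_closure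
      fin_cases j <;> simp [M12.gen, M12.gs, M12.gt, M12.gu, M12.gv, M12.gw, M12.gx1, M12.gx2, M12.gx3]
  have e11 : M₁₁ = M12.H 7 := by
    rw [hM₁₁]
    apply le_antisymm
    · rw [Subgroup.closure_le]
      intro g hg
      simp only [Set.mem_insert_iff, Set.mem_singleton_iff] at hg
      rcases hg with rfl | rfl | rfl | rfl | rfl | rfl | rfl
      · exact M12.gen_mem 3 (by decide)
      · exact M12.gen_mem 4 (by decide)
      · exact M12.gen_mem 0 (by decide)
      · exact M12.gen_mem 1 (by decide)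
      · exact M12.gen_mem 2 (by decide)
      · exact M12.gen_mem 5 (by decide)
      · exact M12.gen_mem 6 (by decide)
    · rw [M12.H, Subgroup.closure_le]
      rintro g ⟨j, hj, rfl⟩
      apply Subgroup.subset_closure
      fin_cases j
      all_goals first
        | (exfalso; revert hj; decide)
        | simp [M12.gen, M12.gs, M12.gt, M12.gu, M12.gv, M12.gw, M12.gx1, M12.gx2, M12.gx3]
  clear hM₁₂ hM₁₁
  subst e12 e11
  -- the base tuple
  let y0 : Fin 5 ↪ Fin 12 := ⟨![2, 1, 0, 3, 4], by decide⟩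
  have hstab0 : MulAction.stabilizer (M12.H 8) y0 = ⊥ := by
    rw [Subgroup.eq_bot_iff_forall]
    rintro ⟨g, hg⟩ hgy
    rw [MulAction.mem_stabilizer_iff] at hgy
    have key : ∀ i, g (y0 i) = y0 i := fun i => by
      have := DFunLike.congr_fun hgy i
      simpa using this
    have := M12.eq_one_of_fix hg (key 0) (key 1) (key 2) (key 3) (key 4)
    exact Subtype.ext this
  have hcardorb : Nat.card (MulAction.orbit (M12.H 8) y0) = 95040 := by
    have e1 := Nat.card_congr (MulAction.orbitEquivQuotientStabilizer (M12.H 8) y0)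
    rw [hstab0, Nat.card_congr (QuotientGroup.quotientBot (G := M12.H 8)).toEquiv,
      M12.card_H8] at e1
    exact e1
  have horb : MulAction.orbit (M12.H 8) y0 = Set.univ := by
    rw [Set.eq_univ_iff_ncard, ← Nat.card_coe_set_eq, hcardorb, Nat.card_eq_fintype_card,
      Fintype.card_embedding_eq]
    simp [Nat.descFactorial]
  have htrans : MulAction.IsPretransitive (M12.H 8) (Fin 5 ↪ Fin 12) := by
    refine (MulAction.isPretransitive_iff_base y0).2 ?_
    intro x
    have : x ∈ MulAction.orbit (M12.H 8) y0 := by rw [horb]; trivial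
    exact this
  refine ⟨htrans, ?_, M12.card_H8, M12.card_H7, M12.H8_inf.symm⟩
  intro y
  obtain ⟨g, rfl⟩ := (MulAction.isPretransitive_iff_base y0).1 htrans y
  rw [MulAction.stabilizer_smul_eq_stabilizer_map_conj, hstab0, Subgroup.map_bot]

end Cfsg.Agent.S3362
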