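import Cfsg.Statements.S3370
import Mathlib
import Cfsg.Agent.Lib.Helper86.QuatLift

set_option autoImplicit false
open Cfsg

namespace Cfsg.Agent.S3370

open Cfsg
open Matrix Pointwise



/-- odd cofactor: for odd `p` and odd exponent, `(p^(2k+1)+1) = (p+1) * odd`. -/
theorem odd_cofactor (p : ℕ) (hp : Odd p) (k : ℕ) :
    ∃ c : ℕ, Odd c ∧ p ^ (2 * k + 1) + 1 = (p + 1) * c := by
  induction k with
  | zero => exact ⟨1, odd_one, by simp⟩
  | succ k ih =>
    obtain ⟨c, hc, h⟩ := ih
    -- p^(2k+3)+1 = p^2 (p^(2k+1)+1) - (p-1)(p+1)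
    have hp1 : 1 ≤ p := hp.pos
    have hcpos : 1 ≤ c := hc.pos
    refine ⟨p ^ 2 * c - (p - 1), ?_, ?_⟩
    · have h1 : Odd (p ^ 2 * c) := (hp.pow).mul hc
      have h2 : Even (p - 1) := by
        obtain ⟨m, rfl⟩ := hp
        exact ⟨m, by omega⟩
      have hle : p - 1 ≤ p ^ 2 * c := by
        calc p - 1 ≤ p := Nat.sub_le _ _
          _ ≤ p ^ 2 * c := by nlinarith
      exact Nat.Odd.sub_even hle h1 h2
    · have hle : p - 1 ≤ p ^ 2 * c := by
        calc p - 1 ≤ p := Nat.sub_le _ _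
          _ ≤ p ^ 2 * c := by nlinarith
      zify [hle, hp1]
      have h' : (p : ℤ) ^ (2 * k + 1) + 1 = (p + 1) * c := by exact_mod_cast h
      have : (p : ℤ) ^ (2 * (k + 1) + 1) = p ^ 2 * p ^ (2 * k + 1) := by ring
      rw [this]
      have h'' : (p : ℤ) ^ (2 * k + 1) = (p + 1) * c - 1 := by linarith
      rw [h'']; ring

/-- `2^n - 1 = p^b` forces `b ≤ 1`. -/
theorem mersenne_pow (p n b : ℕ) (hp : p.Prime) (h : 2 ^ n - 1 = p ^ b) : b ≤ 1 := by
  by_contra hb
  push Not at hb
  have hn0 : n ≠ 0 := by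
    rintro rfl
    simp at h
    have := hp.pos
    have : 0 < p ^ b := by positivity
    omega
  have h2n : 1 ≤ 2 ^ n := Nat.one_le_two_pow
  have heq : 2 ^ n = p ^ b + 1 := by omega
  have hpodd : Odd p := by
    rcases hp.eq_two_or_odd' with rfl | ho
    · exfalso
      have : 2 ∣ 2 ^ n := dvd_pow_self 2 hn0
      have : 2 ∣ 2 ^ b := dvd_pow_self 2 (by omega)
      omega
    · exact ho
  have hp3 : 3 ≤ p := by
    have := hp.two_le
    obtain ⟨m, rfl⟩ := hpodd
    omega
  have hn2 : 2 ≤ n := by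
    by_contra hlt
    have : n = 1 := by omega
    subst this
    have : 9 ≤ p ^ b := by
      calc 9 = 3 ^ 2 := by norm_num
        _ ≤ p ^ 2 := Nat.pow_le_pow_left hp3 2
        _ ≤ p ^ b := Nat.pow_le_pow_right (by omega) hb
    omega
  have h4 : 4 ∣ 2 ^ n := by
    obtain ⟨m, rfl⟩ : ∃ m, n = m + 2 := ⟨n - 2, by omega⟩
    exact ⟨2 ^ m, by ring⟩
  rcases Nat.even_or_odd b with he | ho
  · -- p^b ≡ 1 mod 4
    obtain ⟨m, rfl⟩ := he
    have : p ^ (m + m) = (p ^ m) ^ 2 := by ring
    have hodd : Odd (p ^ m) := hpodd.pow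
    obtain ⟨t, ht⟩ := hodd
    rw [this, ht] at heq
    have : (2 * t + 1) ^ 2 + 1 = 4 * (t * t + t) + 2 := by ring
    omega
  · obtain ⟨k, rfl⟩ := ho
    obtain ⟨c, hc, hcof⟩ := odd_cofactor p hpodd k
    have hk : 1 ≤ k := by omega
    -- c ∣ 2^n and odd → c = 1
    have hcd : c ∣ 2 ^ n := ⟨p + 1, by rw [heq, hcof]; ring⟩
    obtain ⟨j, hj, rfl⟩ := (Nat.dvd_prime_pow Nat.prime_two).mp hcd
    have hj0 : j = 0 := by
      by_contra hj0
      have : Even (2 ^ j) := (Nat.even_pow' hj0).mpr even_two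
      exact (Nat.not_odd_iff_even.mpr this) hc
    subst hj0
    rw [pow_zero, mul_one] at hcof
    have : p ^ (2 * k + 1) = p ^ 1 := by rw [pow_one]; omega
    have := Nat.pow_right_injective hp.two_le this
    omega

theorem geom_parity (q : ℕ) (hq : q % 2 = 1) (n : ℕ) :
    (∑ i ∈ Finset.range n, q ^ i) % 2 = n % 2 := by
  induction n with
  | zero => simp
  | succ n ih =>
    rw [Finset.sum_range_succ, Nat.add_mod, ih, Nat.pow_mod, hq]
    simp

/-- `q^n - 1 = 2^b`, `q` odd prime, `n ≥ 2` forces `q = 3`, `n = 2`. -/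
theorem odd_case (q n b : ℕ) (hq : q.Prime) (hq2 : q ≠ 2) (hn : 2 ≤ n) (h : q ^ n - 1 = 2 ^ b) :
    q = 3 ∧ n = 2 := by
  have hqodd : q % 2 = 1 := by
    rcases hq.eq_two_or_odd with h | h
    · exact absurd h hq2
    · exact h
  have hq3 : 3 ≤ q := by have := hq.two_le; omega
  have hgs : (∑ i ∈ Finset.range n, q ^ i) * (q - 1) = q ^ n - 1 := by
    have := Nat.geomSum_eq (m := q) hq.two_le n
    rw [this]
    exact Nat.div_mul_cancel (Nat.sub_one_dvd_pow_sub_one ..)
  have hS2 : 2 ≤ ∑ i ∈ Finset.range n, q ^ i := by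
    obtain ⟨m, rfl⟩ : ∃ m, n = m + 2 := ⟨n - 2, by omega⟩
    rw [Finset.sum_range_succ, Finset.sum_range_succ]
    have : 1 ≤ q ^ m := Nat.one_le_pow _ _ (by omega)
    have : 1 ≤ q ^ (m+1) := Nat.one_le_pow _ _ (by omega)
    omega
  have hSd : (∑ i ∈ Finset.range n, q ^ i) ∣ 2 ^ b := ⟨q - 1, by rw [← h, ← hgs]⟩
  obtain ⟨j, hj, hSj⟩ := (Nat.dvd_prime_pow Nat.prime_two).mp hSd
  have hj0 : j ≠ 0 := by
    rintro rfl
    simp at hSj
    omega
  have hpar := geom_parity q hqodd n
  rw [hSj] at hpar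
  have : 2 ^ j % 2 = 0 := by
    obtain ⟨i, rfl⟩ : ∃ i, j = i + 1 := ⟨j - 1, by omega⟩
    rw [pow_succ]; simp
  have hneven : n % 2 = 0 := by omega
  obtain ⟨m, rfl⟩ : ∃ m, n = 2 * m := ⟨n / 2, by omega⟩
  have hm : 1 ≤ m := by omega
  have hqm : 3 ≤ q ^ m := by
    calc 3 ≤ q := hq3
      _ = q ^ 1 := (pow_one q).symm
      _ ≤ q ^ m := Nat.pow_le_pow_right (by omega) hm
  have hfac : (q ^ m - 1) * (q ^ m + 1) = 2 ^ b := by
    rw [← h]
    have : q ^ (2 * m) = (q ^ m) ^ 2 := by ring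
    rw [this]
    zify [show 1 ≤ q ^ m by omega, show 1 ≤ (q ^ m) ^ 2 by nlinarith]
    ring
  have hd1 : (q ^ m - 1) ∣ 2 ^ b := ⟨_, hfac.symm⟩
  have hd2 : (q ^ m + 1) ∣ 2 ^ b := ⟨q ^ m - 1, by rw [← hfac]; ring⟩
  obtain ⟨i1, _, h1⟩ := (Nat.dvd_prime_pow Nat.prime_two).mp hd1
  obtain ⟨i2, _, h2⟩ := (Nat.dvd_prime_pow Nat.prime_two).mp hd2
  have hdiff : 2 ^ i2 = 2 ^ i1 + 2 := by omega
  have hi1 : i1 = 1 := by
    have hi1pos : i1 ≠ 0 := by rintro rfl; simp at h1; omega
    by_contra hne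
    have hi1' : 2 ≤ i1 := by omega
    have hi2' : 2 ≤ i2 := by
      by_contra hlt
      have : i2 ≤ 1 := by omega
      have : 2 ^ i2 ≤ 2 ^ 1 := Nat.pow_le_pow_right (by omega) this
      have : 1 ≤ 2 ^ i1 := Nat.one_le_two_pow
      omega
    have d1 : 4 ∣ 2 ^ i1 := by
      obtain ⟨t, rfl⟩ : ∃ t, i1 = t + 2 := ⟨i1 - 2, by omega⟩
      exact ⟨2 ^ t, by ring⟩
    have d2 : 4 ∣ 2 ^ i2 := by
      obtain ⟨t, rfl⟩ : ∃ t, i2 = t + 2 := ⟨i2 - 2, by omega⟩
      exact ⟨2 ^ t, by ring⟩
    omega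
  subst hi1
  have hqm3 : q ^ m = 3 := by omega
  have hqd : q ∣ 3 := by rw [← hqm3]; exact dvd_pow_self q (by omega)
  have hq3' : q = 3 := (Nat.prime_dvd_prime_iff_eq hq Nat.prime_three).mp hqd
  subst hq3'
  refine ⟨rfl, ?_⟩
  have : 3 ^ m = 3 ^ 1 := by omega
  have := Nat.pow_right_injective (le_refl 2 |>.trans (by norm_num : 2 ≤ 3)) this
  omega



section
variable {q : ℕ} [Fact q.Prime] {V : Type*} [AddCommGroup V] [Module (ZMod q) V] [Finite V] [Nontrivial V]
  {G : Type*} [Group G] [Finite G]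

/-- the action of G on V via ρ -/
@[reducible] def act (ρ : G →* (V ≃ₗ[ZMod q] V)) : MulAction G V := MulAction.compHom V ρ

theorem orbit_eq (ρ : G →* (V ≃ₗ[ZMod q] V))
    (htrans : ∀ v w : V, v ≠ 0 → w ≠ 0 → ∃ g : G, ρ g v = w) (v₀ : V) (hv₀ : v₀ ≠ 0) :
    letI := act ρ
    MulAction.orbit G v₀ = {v : V | v ≠ 0} := by
  letI := act ρ
  ext w
  constructor
  · rintro ⟨g, rfl⟩
    show ρ g v₀ ≠ 0
    intro h
    exact hv₀ ((ρ g).map_eq_zero_iff.mp h)
  · intro hw
    obtain ⟨g, hg⟩ := htrans v₀ w hv₀ hw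
    exact ⟨g, hg⟩

theorem card_sub_one_dvd (ρ : G →* (V ≃ₗ[ZMod q] V))
    (htrans : ∀ v w : V, v ≠ 0 → w ≠ 0 → ∃ g : G, ρ g v = w) :
    Nat.card V - 1 ∣ Nat.card G := by
  letI := act ρ
  obtain ⟨v₀, hv₀⟩ := exists_ne (0 : V)
  have h1 : (MulAction.stabilizer G v₀).index = (MulAction.orbit G v₀).ncard :=
    MulAction.index_stabilizer G v₀
  rw [orbit_eq ρ htrans v₀ hv₀] at h1
  have h2 : ({v : V | v ≠ 0}).ncard = Nat.card V - 1 := by
    have : {v : V | v ≠ 0} = ({0} : Set V)ᶜ := by ext; simp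
    rw [this, Set.ncard_compl, Set.ncard_singleton]
  rw [← h2, ← h1]
  exact Subgroup.index_dvd_card _

end


theorem cyclic_case {q : ℕ} [Fact q.Prime] {V : Type*} [AddCommGroup V] [Module (ZMod q) V] [Finite V]
    [Nontrivial V]
    {G : Type*} [Group G] [Finite G] (hV : Nat.card V = q) (ρ : G →* (V ≃ₗ[ZMod q] V))
    (hρ : Function.Injective ρ) : IsCyclic G ∧ Nat.card G ≤ q - 1 := by
  obtain ⟨v₀, hv₀⟩ := exists_ne (0 : V)
  have hinj : Function.Injective (fun c : ZMod q => c • v₀) := smul_left_injective (ZMod q) hv₀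
  have hbij : Function.Bijective (fun c : ZMod q => c • v₀) :=
    hinj.bijective_of_nat_card_le (by rw [hV, Nat.card_zmod])
  have hsurj := hbij.2
  choose χ hχ using fun g : G => hsurj (ρ g v₀)
  simp only at hχ
  have hχ1 : χ 1 = 1 := by
    apply hinj
    simp only [hχ, map_one, one_smul]
    rfl
  have hχmul : ∀ g h : G, χ (g * h) = χ g * χ h := by
    intro g h
    apply hinj
    simp only
    rw [hχ, map_mul, mul_smul, hχ h]
    show ρ g (ρ h v₀) = _
    rw [← hχ h, map_smul, ← hχ g, smul_comm]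
  let f : G →* ZMod q := ⟨⟨χ, hχ1⟩, hχmul⟩
  have hf : Function.Injective f := by
    intro g h hgh
    have hgh' : χ g = χ h := hgh
    apply hρ
    ext v
    obtain ⟨c, rfl⟩ := hsurj v
    simp only
    rw [map_smul, map_smul, ← hχ g, ← hχ h, hgh']
  refine ⟨isCyclic_of_injective_ringHom f hf, ?_⟩
  have hne : ∀ g, f g ≠ 0 := by
    intro g h0
    have h0' : χ g = 0 := h0
    have := hχ g
    rw [h0', zero_smul] at this
    exact hv₀ ((ρ g).map_eq_zero_iff.mp this.symm)
  have hsub : Set.range f ⊆ ({0} : Set (ZMod q))ᶜ := by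
    rintro _ ⟨g, rfl⟩
    simpa using hne g
  calc Nat.card G = (Set.range f).ncard := (Set.ncard_range_of_injective hf).symm ▸ rfl
    _ ≤ (({0} : Set (ZMod q))ᶜ).ncard := Set.ncard_le_ncard hsub (Set.toFinite _)
    _ = q - 1 := by rw [Set.ncard_compl, Set.ncard_singleton, Nat.card_zmod]



section
variable {V : Type*} [AddCommGroup V] [Module (ZMod 3) V] [Finite V]

noncomputable def toGL (b : Module.Basis (Fin 2) (ZMod 3) V) :
    (V ≃ₗ[ZMod 3] V) ≃* GL (Fin 2) (ZMod 3) :=
  (LinearMap.GeneralLinearGroup.generalLinearEquiv (ZMod 3) V).symm.trans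
    (Units.mapEquiv (LinearMap.toMatrixAlgEquiv b).toMulEquiv)


theorem exists_basis (hV : Nat.card V = 9) : Nonempty (Module.Basis (Fin 2) (ZMod 3) V) := by
  have h := Module.natCard_eq_pow_finrank (K := ZMod 3) (V := V)
  rw [hV, Nat.card_zmod] at h
  have h2 : Module.finrank (ZMod 3) V = 2 := by
    have : (3:ℕ) ^ 2 = 3 ^ Module.finrank (ZMod 3) V := by rw [← h]; norm_num
    exact (Nat.pow_right_injective (le_refl 2 |>.trans (by norm_num : 2 ≤ 3)) this).symm
  exact ⟨Module.finBasisOfFinrankEq (ZMod 3) V h2⟩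

end


theorem order8_unique_invol {G : Type*} [Group G] (h8 : Nat.card G = 8)
    (huniq : ∀ s t : G, orderOf s = 2 → orderOf t = 2 → s = t) :
    IsCyclic G ∨ Nonempty (G ≃* QuaternionGroup 2) := by
  haveI : Finite G := Nat.finite_of_card_ne_zero (by rw [h8]; norm_num)
  by_cases h : ∃ g : G, orderOf g = 8
  · obtain ⟨g, hg⟩ := h
    left
    exact isCyclic_of_orderOf_eq_card g (by rw [hg, h8])
  right
  push Not at h
  have hord : ∀ g : G, orderOf g = 1 ∨ orderOf g = 2 ∨ orderOf g = 4 := by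
    intro g
    have hd : orderOf g ∣ 8 := h8 ▸ orderOf_dvd_natCard g
    have hle : orderOf g ≤ 8 := Nat.le_of_dvd (by norm_num) hd
    have hne := h g
    have hpos : 0 < orderOf g := orderOf_pos g
    interval_cases hh : orderOf g <;> simp_all
  obtain ⟨z, hz⟩ := exists_prime_orderOf_dvd_card' (G := G) 2 (by rw [h8]; norm_num)
  have hsq : ∀ t : G, t ^ 2 = 1 → t = 1 ∨ t = z := by
    intro t ht
    have hd : orderOf t ∣ 2 := orderOf_dvd_of_pow_eq_one ht
    rcases (Nat.dvd_prime Nat.prime_two).mp hd with h1 | h2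
    · left; exact orderOf_eq_one_iff.mp h1
    · right; exact huniq t z h2 hz
  have h4 : ∃ α : G, orderOf α = 4 := by
    by_contra hno
    push Not at hno
    have hall : ∀ g : G, g = 1 ∨ g = z := by
      intro g
      rcases hord g with h1 | h2 | h4
      · left; exact orderOf_eq_one_iff.mp h1
      · right; exact huniq g z h2 hz
      · exact absurd h4 (hno g)
    have : Nat.card G ≤ 2 := by
      have hsub : (Set.univ : Set G) ⊆ {1, z} := by
        intro g _
        rcases hall g with h | h <;> simp [h]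
      calc Nat.card G = (Set.univ : Set G).ncard := (Set.ncard_univ G).symm
        _ ≤ ({1, z} : Set G).ncard := Set.ncard_le_ncard hsub (Set.toFinite _)
        _ ≤ 2 := (Set.ncard_insert_le 1 {z}).trans (by rw [Set.ncard_singleton])
    omega
  obtain ⟨α, hα⟩ := h4
  have hα4 : α ^ 4 = 1 := by rw [← hα]; exact pow_orderOf_eq_one α
  have hα2o : orderOf (α ^ 2) = 2 := by
    rw [orderOf_pow' α (by norm_num), hα]; norm_num
  have hα2z : α ^ 2 = z := huniq _ _ hα2o hz
  have hα2 : α ^ 2 ≠ 1 := by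
    intro h1
    rw [h1, orderOf_one] at hα2o
    norm_num at hα2o
  have hcardA : Nat.card (Subgroup.zpowers α) = 4 := by rw [Nat.card_zpowers, hα]
  have hβ : ∃ β : G, β ∉ Subgroup.zpowers α := by
    by_contra hno
    push Not at hno
    have : Subgroup.zpowers α = ⊤ := by
      ext g; simp [hno g]
    rw [this, Subgroup.card_top, h8] at hcardA
    norm_num at hcardA
  obtain ⟨β, hβ⟩ := hβ
  have hβ1 : β ≠ 1 := by
    rintro rfl
    exact hβ (one_mem _)
  have hzmem : z ∈ Subgroup.zpowers α := by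
    rw [← hα2z]; exact Subgroup.pow_mem _ (Subgroup.mem_zpowers α) 2
  have hβz : β ≠ z := by
    rintro rfl
    exact hβ hzmem
  have hβo : orderOf β = 4 := by
    rcases hord β with h1 | h2 | h4
    · exact absurd (orderOf_eq_one_iff.mp h1) hβ1
    · exact absurd (huniq β z h2 hz) hβz
    · exact h4
  have hβ2o : orderOf (β ^ 2) = 2 := by
    rw [orderOf_pow' β (by norm_num), hβo]; norm_num
  have hβ2 : β ^ 2 = α ^ 2 := by rw [hα2z]; exact huniq _ _ hβ2o hz
  -- normality
  have hidx : (Subgroup.zpowers α).index = 2 := by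
    have := Subgroup.card_mul_index (Subgroup.zpowers α)
    rw [hcardA, h8] at this
    omega
  haveI hnorm : (Subgroup.zpowers α).Normal := Subgroup.normal_of_index_eq_two hidx
  have hγ : β * α * β⁻¹ ∈ Subgroup.zpowers α := hnorm.conj_mem α (Subgroup.mem_zpowers α) β
  have hγo : orderOf (β * α * β⁻¹) = 4 := by
    have := MulEquiv.orderOf_eq (MulAut.conj β) α
    rw [MulAut.conj_apply] at this
    rw [this]; exact hα
  obtain ⟨k, hk⟩ := Subgroup.mem_zpowers_iff.mp hγ
  have hmod : α ^ (k % 4) = α ^ k := by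
    have := zpow_mod_orderOf α k
    rw [hα] at this
    exact_mod_cast this
  have hj0 : 0 ≤ k % 4 := Int.emod_nonneg k (by norm_num)
  have hj4 : k % 4 < 4 := Int.emod_lt_of_pos k (by norm_num)
  have hc : β * α * β⁻¹ = α⁻¹ := by
    rw [← hk, ← hmod]
    have hcases : k % 4 = 0 ∨ k % 4 = 1 ∨ k % 4 = 2 ∨ k % 4 = 3 := by omega
    rcases hcases with h0 | h1 | h2 | h3
    · exfalso
      rw [← hk, ← hmod, h0, zpow_zero, orderOf_one] at hγo
      norm_num at hγo
    · exfalso
      rw [h1, zpow_one] at hmod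
      have hcomm : β * α * β⁻¹ = α := by rw [← hk, ← hmod]
      have hcomm' : β * α = α * β := by
        calc β * α = β * α * β⁻¹ * β := by group
          _ = α * β := by rw [hcomm]
      have hcomm'' : β⁻¹ * α = α * β⁻¹ := by
        calc β⁻¹ * α = β⁻¹ * (α * β) * β⁻¹ := by group
          _ = β⁻¹ * (β * α) * β⁻¹ := by rw [hcomm']
          _ = α * β⁻¹ := by group
      have hsq1 : (α * β⁻¹) ^ 2 = 1 := by
        calc (α * β⁻¹) ^ 2 = α * (β⁻¹ * α) * β⁻¹ := by rw [pow_two]; group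
          _ = α * (α * β⁻¹) * β⁻¹ := by rw [hcomm'']
          _ = α ^ 2 * (β ^ 2)⁻¹ := by rw [pow_two, pow_two]; group
          _ = 1 := by rw [hβ2]; group
      have hmem : α * β⁻¹ ∈ Subgroup.zpowers α := by
        rcases hsq _ hsq1 with h1 | h2
        · rw [h1]; exact one_mem _
        · rw [h2]; exact hzmem
      have : β⁻¹ ∈ Subgroup.zpowers α := by
        have := Subgroup.mul_mem _ (Subgroup.inv_mem _ (Subgroup.mem_zpowers α)) hmem
        simpa using this
      exact hβ (by simpa using Subgroup.inv_mem _ this)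
    · exfalso
      have : α ^ (2 : ℤ) = α ^ 2 := by norm_cast
      rw [← hk, ← hmod, h2, this, hα2o] at hγo
      norm_num at hγo
    · rw [h3]
      have : α ^ (3 : ℤ) = α ^ 3 := by norm_cast
      rw [this]
      symm
      apply inv_eq_of_mul_eq_one_left
      rw [← pow_succ]; exact hα4
  exact Cfsg.Agent.Lib.Helper86.nonempty_mulEquiv_quaternionGroup h8 α β hα4 hα2 hβ2 hβ hc



def xM : Matrix (Fin 2) (Fin 2) (ZMod 3) := !![0,1;1,1]
def xMi : Matrix (Fin 2) (Fin 2) (ZMod 3) := !![2,1;1,0]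
def yM : Matrix (Fin 2) (Fin 2) (ZMod 3) := !![1,1;0,2]

def xG : GL (Fin 2) (ZMod 3) := ⟨xM, xMi, by decide, by decide⟩
def yG : GL (Fin 2) (ZMod 3) := ⟨yM, yM, by decide, by decide⟩

theorem xG_pow8 : xG ^ 8 = 1 := by
  apply Units.ext
  rw [Units.val_pow_eq_pow_val]
  show xM ^ 8 = 1
  decide

theorem xG_pow4 : xG ^ 4 ≠ 1 := by
  intro h
  have := congrArg Units.val h
  rw [Units.val_pow_eq_pow_val] at this
  revert this
  show ¬ (xM ^ 4 = 1)
  decide

theorem orderOf_xG : orderOf xG = 8 := by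
  have h : orderOf xG = 2 ^ 3 := orderOf_eq_prime_pow (p := 2) (n := 2) (by
    show ¬ xG ^ 4 = 1
    exact xG_pow4) (by show xG ^ 8 = 1; exact xG_pow8)
  rw [h]; norm_num

theorem yG_sq : yG ^ 2 = 1 := by
  apply Units.ext
  rw [Units.val_pow_eq_pow_val]
  show yM ^ 2 = 1
  decide

theorem orderOf_yG : orderOf yG = 2 := by
  apply orderOf_eq_prime yG_sq
  intro h
  have := congrArg Units.val h
  revert this
  show ¬ (yM = 1)
  decide

theorem conj_xy : yG * xG * yG⁻¹ = xG ^ 3 := by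
  apply Units.ext
  rw [Units.val_pow_eq_pow_val]
  show yM * xM * yM = xM ^ 3
  decide

theorem card_GL23 : Nat.card (GL (Fin 2) (ZMod 3)) = 48 := by
  have := Matrix.card_GL_field (𝔽 := ZMod 3) 2
  rw [this]
  simp [Fin.prod_univ_two]

theorem quasiDihedral_congr {A B : Type*} [Group A] [Group B] (e : A ≃* B)
    (h : IsQuasiDihedral A) : IsQuasiDihedral B := by
  obtain ⟨n, hn, hc, x, y, hx, hy, hxy⟩ := h
  refine ⟨n, hn, ?_, e x, e y, ?_, ?_, ?_⟩
  · rw [← hc]; exact (Nat.card_congr e.toEquiv).symm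
  · rw [MulEquiv.orderOf_eq]; exact hx
  · rw [MulEquiv.orderOf_eq]; exact hy
  · rw [← map_inv, ← map_mul, ← map_mul, hxy, map_pow]

instance finiteGL23 : Finite (GL (Fin 2) (ZMod 3)) := Nat.finite_of_card_ne_zero (by rw [card_GL23]; norm_num)

instance fact2 : Fact (Nat.Prime 2) := ⟨Nat.prime_two⟩

theorem sylow_card (P : Sylow 2 (GL (Fin 2) (ZMod 3))) : Nat.card P = 16 := by
  rw [Sylow.card_eq_multiplicity, card_GL23]
  have : (48 : ℕ).factorization 2 = 4 := by
    have h48 : (48 : ℕ) = 2 ^ 4 * 3 := by norm_num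
    rw [h48, Nat.factorization_mul (by norm_num) (by norm_num), Nat.Prime.factorization_pow Nat.prime_two]
    simp [Nat.factorization_eq_zero_of_not_dvd]
  rw [this]; norm_num

theorem yG_normalizes : Subgroup.zpowers yG ≤ Subgroup.normalizer (Subgroup.zpowers xG : Set (GL (Fin 2) (ZMod 3))) := by
  rw [Subgroup.zpowers_le]
  have A : ∀ h, h ∈ Subgroup.zpowers xG → yG * h * yG⁻¹ ∈ Subgroup.zpowers xG := by
    rintro h ⟨k, rfl⟩
    have : yG * xG ^ k * yG⁻¹ = (yG * xG * yG⁻¹) ^ k := by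
      rw [conj_zpow]
    show yG * xG ^ k * yG⁻¹ ∈ Subgroup.zpowers xG
    rw [this, conj_xy]
    exact Subgroup.zpow_mem _ (Subgroup.pow_mem _ (Subgroup.mem_zpowers xG) 3) k
  rw [Subgroup.mem_normalizer_iff]
  intro h
  constructor
  · exact A h
  · intro hh
    have := A _ hh
    have hy : yG * yG = 1 := by rw [← pow_two]; exact yG_sq
    have hyi : yG⁻¹ = yG := inv_eq_of_mul_eq_one_left hy
    have e : yG * (yG * h * yG⁻¹) * yG⁻¹ = h := by
      rw [hyi]
      calc yG * (yG * h * yG) * yG = (yG * yG) * h * (yG * yG) := by group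
        _ = h := by rw [hy]; group
    rwa [e] at this

theorem exists_std_sylow : ∃ P₀ : Sylow 2 (GL (Fin 2) (ZMod 3)), xG ∈ P₀ ∧ yG ∈ P₀ := by
  have hx : IsPGroup 2 (Subgroup.zpowers xG) := by
    apply IsPGroup.of_card (n := 3)
    rw [Nat.card_zpowers, orderOf_xG]; norm_num
  have hy : IsPGroup 2 (Subgroup.zpowers yG) := by
    apply IsPGroup.of_card (n := 1)
    rw [Nat.card_zpowers, orderOf_yG]; norm_num
  have hS := IsPGroup.to_sup_of_normal_right' hy hx yG_normalizes
  obtain ⟨P₀, hP₀⟩ := hS.exists_le_sylow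
  exact ⟨P₀, hP₀ (Subgroup.mem_sup_right (Subgroup.mem_zpowers xG)),
    hP₀ (Subgroup.mem_sup_left (Subgroup.mem_zpowers yG))⟩

theorem sylow_quasiDihedral (P : Sylow 2 (GL (Fin 2) (ZMod 3))) : IsQuasiDihedral P := by
  obtain ⟨P₀, hx, hy⟩ := exists_std_sylow
  have h0 : IsQuasiDihedral P₀ := by
    refine ⟨3, le_refl 3, ?_, ⟨xG, hx⟩, ⟨yG, hy⟩, ?_, ?_, ?_⟩
    · rw [sylow_card]; norm_num
    · rw [Subgroup.orderOf_mk, orderOf_xG]; norm_num
    · rw [Subgroup.orderOf_mk, orderOf_yG]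
    · apply Subtype.ext
      simp only [Subgroup.coe_mul, Subgroup.coe_inv, Subgroup.coe_pow]
      rw [conj_xy]; norm_num
  obtain ⟨c, hc⟩ := MulAction.exists_smul_eq (GL (Fin 2) (ZMod 3)) P₀ P
  have e : (P₀ : Subgroup (GL (Fin 2) (ZMod 3))) ≃* (P : Subgroup (GL (Fin 2) (ZMod 3))) := by
    have h1 : (P : Subgroup (GL (Fin 2) (ZMod 3))) = MulAut.conj c • (P₀ : Subgroup (GL (Fin 2) (ZMod 3))) := by
      rw [← hc]; rfl
    rw [h1]
    exact Subgroup.equivSMul (MulAut.conj c) (P₀ : Subgroup (GL (Fin 2) (ZMod 3)))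
  exact quasiDihedral_congr e h0

theorem subgroup16_quasiDihedral (H : Subgroup (GL (Fin 2) (ZMod 3))) (hH : Nat.card H = 16) :
    IsQuasiDihedral H := by
  have hp : IsPGroup 2 H := IsPGroup.of_card (n := 4) (by rw [hH]; norm_num)
  obtain ⟨P, hP⟩ := hp.exists_le_sylow
  have : H = (P : Subgroup (GL (Fin 2) (ZMod 3))) := by
    apply Subgroup.eq_of_le_of_card_ge hP
    rw [hH, sylow_card]
  rw [this]
  exact sylow_quasiDihedral P


section main
variable {q : ℕ} [Fact q.Prime] {V : Type*} [AddCommGroup V] [Module (ZMod q) V] [Finite V] [Nontrivial V]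
  {G : Type*} [Group G] [Finite G]

theorem ncard_nonzero : ({v : V | v ≠ 0}).ncard = Nat.card V - 1 := by
  have : {v : V | v ≠ 0} = ({0} : Set V)ᶜ := by ext; simp
  rw [this, Set.ncard_compl, Set.ncard_singleton]

/-- stabilizers are trivial when `|G| = |V| - 1`. -/
theorem regular (ρ : G →* (V ≃ₗ[ZMod q] V))
    (htrans : ∀ v w : V, v ≠ 0 → w ≠ 0 → ∃ g : G, ρ g v = w)
    (hcard : Nat.card G = Nat.card V - 1) (g : G) (w : V) (hw : w ≠ 0) (hg : ρ g w = w) : g = 1 := by
  letI := act ρ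
  have h1 : (MulAction.stabilizer G w).index = (MulAction.orbit G w).ncard :=
    MulAction.index_stabilizer G w
  rw [orbit_eq ρ htrans w hw, ncard_nonzero] at h1
  have h2 := Subgroup.card_mul_index (MulAction.stabilizer G w)
  rw [h1, hcard] at h2
  have hpos : 0 < Nat.card V - 1 := by
    have := Finite.one_lt_card (α := V)
    omega
  have h3 : Nat.card (MulAction.stabilizer G w) = 1 := by
    have : Nat.card (MulAction.stabilizer G w) * (Nat.card V - 1) = 1 * (Nat.card V - 1) := by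
      rw [h2, one_mul]
    exact Nat.eq_of_mul_eq_mul_right hpos this
  have h4 : MulAction.stabilizer G w = ⊥ := Subgroup.card_eq_one.mp h3
  have h5 : g ∈ MulAction.stabilizer G w := hg
  rw [h4] at h5
  exact Subgroup.mem_bot.mp h5

theorem invol_neg (ρ : G →* (V ≃ₗ[ZMod q] V))
    (htrans : ∀ v w : V, v ≠ 0 → w ≠ 0 → ∃ g : G, ρ g v = w)
    (hcard : Nat.card G = Nat.card V - 1) (t : G) (ht : orderOf t = 2) (v : V) :
    ρ t v = -v := by
  have ht2 : t * t = 1 := by rw [← pow_two, ← ht]; exact pow_orderOf_eq_one t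
  have ht1 : t ≠ 1 := by
    rintro rfl
    rw [orderOf_one] at ht; norm_num at ht
  have hfix : ρ t (v + ρ t v) = v + ρ t v := by
    rw [map_add]
    have : ρ t (ρ t v) = v := by
      have h := congrArg (fun e : V ≃ₗ[ZMod q] V => e v) (map_mul ρ t t)
      simp only [ht2, map_one] at h
      exact h.symm
    rw [this, add_comm]
  by_contra hne
  have hw : v + ρ t v ≠ 0 := by
    intro h0
    exact hne (eq_neg_of_add_eq_zero_right h0)
  exact ht1 (regular ρ htrans hcard t _ hw hfix)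

theorem card_dvd_factorial (ρ : G →* (V ≃ₗ[ZMod q] V)) (hρ : Function.Injective ρ) :
    Nat.card G ∣ (Nat.card V).factorial := by
  letI := act ρ
  have hinj : Function.Injective (MulAction.toPermHom G V) := by
    intro g h hgh
    apply hρ
    ext v
    have := congrArg (fun e : Equiv.Perm V => e v) hgh
    exact this
  have := Subgroup.card_dvd_of_injective _ hinj
  rwa [Nat.card_perm] at this

end main

theorem sq_not_dvd_factorial (p : ℕ) (hp : p.Prime) (hp3 : 3 ≤ p) : ¬ p ^ 2 ∣ (p + 1).factorial := by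
  intro h
  obtain ⟨m, rfl⟩ : ∃ m, p = m + 1 := ⟨p - 1, by omega⟩
  rw [Nat.factorial_succ, Nat.factorial_succ, pow_two] at h
  have h' : (m + 1) * (m + 1) ∣ (m + 1) * ((m + 1 + 1) * m.factorial) := by
    convert h using 1; ring
  have h2 : (m + 1) ∣ (m + 1 + 1) * m.factorial := Nat.dvd_of_mul_dvd_mul_left (by omega) h'
  rcases (Nat.Prime.dvd_mul hp).mp h2 with h3 | h3
  · have : (m + 1) ∣ 1 := (Nat.dvd_add_right (dvd_refl _)).mp h3
    have := Nat.le_of_dvd (by norm_num) this
    omega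
  · have := (Nat.Prime.dvd_factorial hp).mp h3
    omega


/-- Let q be a prime, V a non-trivial finite vector space over the field with q elements, and G a non-trivial finite p-group (p prime) acting faithfully and linearly on V and transitively on the non-zero vectors. Then either q = 2 and G has prime order p = |V| − 1; or p = 2, V has q elements with q = 2^m + 1 and G is cyclic of order 2^m; or p = 2, q = 3, V has 9 elements and G is cyclic of order 8, quaternion of order 8, or semidihedral of order 16. -/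
theorem result (q : ℕ) [Fact q.Prime] {V : Type*} [AddCommGroup V] [Module (ZMod q) V] [Finite V] [Nontrivial V]
    {G : Type*} [Group G] [Finite G] [Nontrivial G] (p : ℕ) [Fact p.Prime] (hG : IsPGroup p G)
    (ρ : G →* (V ≃ₗ[ZMod q] V)) (hρ : Function.Injective ρ)
    (htrans : ∀ v w : V, v ≠ 0 → w ≠ 0 → ∃ g : G, ρ g v = w) :
    (q = 2 ∧ p = Nat.card V - 1 ∧ Nat.card G = p) ∨
    (p = 2 ∧ Nat.card V = q ∧ (∃ m : ℕ, q = 2 ^ m + 1 ∧ Nat.card G = 2 ^ m) ∧ IsCyclic G) ∨
    (p = 2 ∧ q = 3 ∧ Nat.card V = 9 ∧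
      ((IsCyclic G ∧ Nat.card G = 8) ∨ Nonempty (G ≃* QuaternionGroup 2) ∨ (Cfsg.IsQuasiDihedral G ∧ Nat.card G = 16))) := by
  have hp : p.Prime := Fact.out
  have hq : q.Prime := Fact.out
  obtain ⟨k, hk⟩ := IsPGroup.iff_card.mp hG
  have hdvd := card_sub_one_dvd ρ htrans
  rw [hk] at hdvd
  obtain ⟨b, hbk, hVb⟩ := (Nat.dvd_prime_pow hp).mp hdvd
  have hVq : Nat.card V = q ^ Module.finrank (ZMod q) V := by
    have := Module.natCard_eq_pow_finrank (K := ZMod q) (V := V)
    rwa [Nat.card_zmod] at this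
  set n := Module.finrank (ZMod q) V with hn
  have hV1 : 1 < Nat.card V := Finite.one_lt_card
  have hn1 : 1 ≤ n := by
    by_contra h0
    have : n = 0 := by omega
    rw [this, pow_zero] at hVq
    omega
  have hG1 : 1 < Nat.card G := Finite.one_lt_card
  have hk1 : 1 ≤ k := by
    by_contra h0
    have : k = 0 := by omega
    rw [this, pow_zero] at hk
    omega
  have hqn : q ^ n - 1 = p ^ b := by rw [← hVq]; exact hVb
  by_cases hq2 : q = 2
  · left
    subst hq2
    have hb1 := mersenne_pow p n b hp hqn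
    have hb0 : b ≠ 0 := by
      rintro rfl
      rw [pow_zero] at hVb
      -- |V| = 2, G acts trivially
      obtain ⟨g, hg⟩ := exists_ne (1 : G)
      have hρg : ρ g ≠ 1 := fun h => hg (hρ (by rw [h, map_one]))
      have : ∃ v, ρ g v ≠ v := by
        by_contra hno
        push Not at hno
        exact hρg (LinearEquiv.ext hno)
      obtain ⟨v, hv⟩ := this
      have hv0 : v ≠ 0 := by
        rintro rfl
        exact hv (map_zero _)
      have hgv0 : ρ g v ≠ 0 := fun h => hv0 ((ρ g).map_eq_zero_iff.mp h)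
      have hnc : ({v : V | v ≠ 0}).ncard = 1 := by rw [ncard_nonzero, hVb]
      obtain ⟨a, ha⟩ := Set.ncard_eq_one.mp hnc
      have h1 : v ∈ ({a} : Set V) := ha ▸ hv0
      have h2 : ρ g v ∈ ({a} : Set V) := ha ▸ hgv0
      rw [Set.mem_singleton_iff] at h1 h2
      exact hv (h2.trans h1.symm)
    have hb : b = 1 := by omega
    subst hb
    rw [pow_one] at hVb
    refine ⟨rfl, hVb.symm, ?_⟩
    -- |G| = p
    have hp3 : 3 ≤ p := by
      rcases hp.eq_two_or_odd with h2 | hodd
      · exfalso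
        rw [pow_one] at hqn
        have : 2 ∣ 2 ^ n := dvd_pow_self 2 (by omega)
        have : 1 ≤ 2 ^ n := Nat.one_le_two_pow
        omega
      · have := hp.two_le; omega
    have hfac := card_dvd_factorial ρ hρ
    have hVp : Nat.card V = p + 1 := by omega
    rw [hVp, hk] at hfac
    have hk2 : k ≤ 1 := by
      by_contra hlt
      have : p ^ 2 ∣ p ^ k := pow_dvd_pow p (by omega)
      exact sq_not_dvd_factorial p hp hp3 (this.trans hfac)
    have : k = 1 := by omega
    rw [hk, this, pow_one]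
  · right
    have hqodd : q % 2 = 1 := by
      rcases hq.eq_two_or_odd with h | h
      · exact absurd h hq2
      · exact h
    have hq3 : 3 ≤ q := by have := hq.two_le; omega
    have hqn2 : 2 ≤ q ^ n - 1 := by
      have : q ^ 1 ≤ q ^ n := Nat.pow_le_pow_right (by omega) hn1
      rw [pow_one] at this
      omega
    have hb0 : b ≠ 0 := by
      rintro rfl
      rw [pow_zero] at hqn
      omega
    have hp2 : p = 2 := by
      have heven : 2 ∣ q ^ n - 1 := by
        have : (q ^ n) % 2 = 1 := by rw [Nat.pow_mod, hqodd]; simp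
        omega
      rw [hqn] at heven
      have := Nat.Prime.dvd_of_dvd_pow Nat.prime_two heven
      exact ((Nat.prime_dvd_prime_iff_eq Nat.prime_two hp).mp this).symm
    subst hp2
    by_cases hn1' : n = 1
    · left
      rw [hn1', pow_one] at hVq hqn
      obtain ⟨hcyc, hle⟩ := cyclic_case hVq ρ hρ
      refine ⟨rfl, hVq, ⟨b, by omega, ?_⟩, hcyc⟩
      have h1 : 2 ^ b ≤ 2 ^ k := Nat.pow_le_pow_right (by norm_num) hbk
      rw [hk] at hle ⊢
      omega
    · right
      obtain ⟨hq3', hn2⟩ := odd_case q n b hq hq2 (by omega) hqn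
      subst hq3'
      rw [hn2] at hVq
      norm_num at hVq
      refine ⟨rfl, rfl, hVq, ?_⟩
      -- |G| ∣ 48, 8 ∣ |G|
      obtain ⟨bas⟩ := exists_basis hVq
      let φ : G →* GL (Fin 2) (ZMod 3) := (toGL bas).toMonoidHom.comp ρ
      have hφ : Function.Injective φ := (toGL bas).injective.comp hρ
      have h48 : Nat.card G ∣ 48 := by
        have := Subgroup.card_dvd_of_injective φ hφ
        rwa [card_GL23] at this
      have h8 : 8 ∣ Nat.card G := by
        have := card_sub_one_dvd ρ htrans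
        rwa [hVq] at this
      rw [hk] at h48 h8
      have hk4 : k ≤ 4 := by
        by_contra hlt
        have : (2:ℕ) ^ 5 ∣ 2 ^ k := pow_dvd_pow 2 (by omega)
        have := this.trans h48
        norm_num at this
      have hk3 : 3 ≤ k := by
        by_contra hlt
        have : 2 ^ k ≤ 2 ^ 2 := Nat.pow_le_pow_right (by norm_num) (by omega)
        have := Nat.le_of_dvd (by positivity) h8
        omega
      have hk34 : k = 3 ∨ k = 4 := by omega
      rcases hk34 with rfl | rfl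
      · have hcard8 : Nat.card G = 8 := by rw [hk]; norm_num
        have hcardV : Nat.card G = Nat.card V - 1 := by rw [hcard8, hVq]
        have huniq : ∀ s t : G, orderOf s = 2 → orderOf t = 2 → s = t := by
          intro s t hs ht
          apply hρ
          ext v
          rw [invol_neg ρ htrans hcardV s hs v, invol_neg ρ htrans hcardV t ht v]
        rcases order8_unique_invol hcard8 huniq with h | h
        · left; exact ⟨h, hcard8⟩
        · right; left; exact h
      · have hcard16 : Nat.card G = 16 := by rw [hk]; norm_num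
        right; right
        refine ⟨?_, hcard16⟩
        have e : G ≃* φ.range := MonoidHom.ofInjective hφ
        have hr : Nat.card φ.range = 16 := by rw [← Nat.card_congr e.toEquiv, hcard16]
        exact quasiDihedral_congr e.symm (subgroup16_quasiDihedral φ.range hr)

end Cfsg.Agent.S3370
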