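import Cfsg.Statements.S3371
import Cfsg.Agent.Lib.Helper78.Pas9
import Cfsg.Agent.Lib.Helper52.NormalRankTwo

set_option autoImplicit false
open Cfsg

namespace Cfsg.Agent.S3371

open Cfsg.Agent.Lib.Helper78.Pas Cfsg.Agent.Lib.Helper78.Hup

/-- Let q be a prime, V a non-trivial finite vector space over the field with q elements, and G a finite p-group (p prime) acting faithfully and linearly on V such that all G-orbits on the non-zero vectors have the same size. Then one of the following holds: G is cyclic or generalized quaternion and acts semiregularly on the non-zero vectors; or V has q² elements with q = 2^m − 1 and G is dihedral of order 2^(m+1) or semidihedral of order 2^(m+2); or V has q² elements with q = 2^m + 1 and, in suitable coordinates V = F_q², G is exactly the group of maps (x, y) ↦ (a x, ± a⁻¹ y) and (x, y) ↦ (± a⁻¹ y, a x) with a ≠ 0; or V has 81 elements (q = 3) and G is a 2-group. -/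
theorem result (q : ℕ) [Fact q.Prime] {V : Type*} [AddCommGroup V] [Module (ZMod q) V] [Finite V] [Nontrivial V]
    {G : Type*} [Group G] [Finite G] (p : ℕ) [Fact p.Prime] (hG : IsPGroup p G)
    (ρ : G →* (V ≃ₗ[ZMod q] V)) (hρ : Function.Injective ρ)
    (hhalf : ∀ v w : V, v ≠ 0 → w ≠ 0 → Nat.card {u : V | ∃ g : G, ρ g v = u} = Nat.card {u : V | ∃ g : G, ρ g w = u}) :
    ((IsCyclic G ∨ ∃ n : ℕ, Nonempty (G ≃* QuaternionGroup n)) ∧ ∀ v : V, v ≠ 0 → ∀ g : G, ρ g v = v → g = 1) ∨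
    (Nat.card V = q ^ 2 ∧ ∃ m : ℕ, q = 2 ^ m - 1 ∧
      (Nonempty (G ≃* DihedralGroup (2 ^ m)) ∨ (Cfsg.IsQuasiDihedral G ∧ Nat.card G = 2 ^ (m + 2)))) ∨
    (Nat.card V = q ^ 2 ∧ (∃ m : ℕ, q = 2 ^ m + 1) ∧
      ∃ e : V ≃ₗ[ZMod q] (Fin 2 → ZMod q), ∀ f : (Fin 2 → ZMod q) ≃ₗ[ZMod q] (Fin 2 → ZMod q),
        (∃ g : G, f = e.symm.trans ((ρ g).trans e)) ↔
        ∃ a s : ZMod q, a ≠ 0 ∧ (s = 1 ∨ s = -1) ∧
          ((∀ v, f v = ![a * v 0, s * a⁻¹ * v 1]) ∨ (∀ v, f v = ![s * a⁻¹ * v 1, a * v 0]))) ∨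
    (Nat.card V = 81 ∧ q = 3 ∧ p = 2) := by
  have hp : p.Prime := Fact.out
  obtain ⟨s, h⟩ := ht_of_half ρ hhalf
  by_cases hs : s = 1
  · left
    rw [hs] at h
    have hsr := semireg_of_one ρ h
    exact ⟨alt1_of_semireg p hG ρ hsr, hsr⟩
  have hpq : p ≠ q := by
    rintro rfl
    exact hs (s_eq_one_of_eq hG ρ hρ h)
  by_cases hn : ∀ A : Subgroup G, A.Normal → IsMulCommutative A → IsCyclic A
  · rcases Cfsg.Agent.Lib.Helper52.core p hG hn with hcyc | ⟨hp2, hidx, hna⟩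
    · -- cyclic groups: a stabiliser element of order `p` would be central
      exfalso
      have := hcyc
      obtain ⟨v₀, hv₀⟩ := exists_ne (0 : V)
      obtain ⟨x, hxv, hx1⟩ : ∃ x : G, ρ x v₀ = v₀ ∧ x ≠ 1 := by
        by_contra hcon
        push Not at hcon
        apply hs
        rw [← h v₀ hv₀, Subgroup.card_eq_one, Subgroup.eq_bot_iff_forall]
        intro x hx
        exact hcon x ((mem_st ρ v₀ x).mp hx)
      obtain ⟨j, hj1, hjp⟩ := exists_pow_order_p hG x hx1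
      have hcomm : ∀ g : G, g * x ^ j = x ^ j * g := fun g =>
        (IsCyclic.isMulCommutative (α := G)).is_comm.comm g (x ^ j)
      exact hv₀ (central_fpf ρ hρ h hs p hp hpq (x ^ j) hcomm hjp hj1 v₀ (fix_pow ρ hxv j))
    · subst hp2
      have hq2 : q ≠ 2 := fun e => hpq e.symm
      obtain ⟨a, b, m, ho, hcG, hm, hidx2, hb, hrel⟩ :=
        Cfsg.Agent.Lib.Helper73.exists_generators hG hidx hna
      have d : CM a b m := ⟨ho, hcG, hm, hidx2, hb⟩
      rcases hrel with ⟨hba, hbb⟩ | ⟨hba, hbb⟩ | ⟨hba, hbb, hm4⟩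
      · right; left
        obtain ⟨hV, μ, hμ, e⟩ := d.dihedral ρ hG hρ h hs hq2 hba hbb
        exact ⟨hV, μ, hμ, Or.inl e⟩
      · exact (d.quat_false ρ hG hρ h hs hq2 hba hbb).elim
      · right; left
        obtain ⟨hV, μ, hμ, hQD, hc⟩ := d.semidihedral ρ hG hρ h hs hq2 hba hbb hm4
        exact ⟨hV, μ, hμ, Or.inr ⟨hQD, hc⟩⟩
  · push Not at hn
    obtain ⟨A, hAN, hAc, hAn⟩ := hn
    have := hAN
    have hAc' : ∀ a ∈ A, ∀ b ∈ A, a * b = b * a := fun a ha b hb =>
      congrArg Subtype.val (hAc.is_comm.comm ⟨a, ha⟩ ⟨b, hb⟩)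
    obtain ⟨z, t, d⟩ := exists_bdata p hG ρ hρ h hs hpq A hAc' hAn
    by_cases hp2 : p = 2
    · subst hp2
      have hq2 : q ≠ 2 := fun e => hpq e.symm
      have dT := d.toTData hρ h hs hpq
      rcases dT.dichotomy hρ hq2 h hG with ⟨hE1, hEz, hV, hm⟩ | ⟨h3, h81⟩
      · right; right; left
        exact ⟨hV, hm, dT.alt3 hρ hq2 h hE1 hEz⟩
      · right; right; right
        exact ⟨h81, h3, rfl⟩
    · exact (bdata_odd_false ρ hρ h hs p hp hpq hp2 z t d).elim

end Cfsg.Agent.S3371
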