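import Mathlib
import Cfsg.Statements.S3374
import Cfsg.Agent.Lib.Helper57.AffGrp
import Cfsg.Agent.Lib.Helper57.SL25Data

set_option autoImplicit false
open Cfsg

namespace Cfsg.Agent.S3374

open Quaternion Cfsg.Agent.Lib.Helper57 Cfsg.Agent.Lib.Helper57.SL25

/-- the group `SL(2,5)` -/
abbrev G : Type := Matrix.SpecialLinearGroup (Fin 2) (ZMod 5)

theorem det_eq (A : G) : A.1 0 0 * A.1 1 1 - A.1 0 1 * A.1 1 0 = 1 := by
  have h := A.2
  rw [Matrix.det_fin_two] at h
  exact h

/-- the embedding of `SL(2,5)` into the quaternions over `ZMod 11` -/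
def rho : G →* E where
  toFun A := tbl (A.1 0 0) (A.1 0 1) (A.1 1 0) (A.1 1 1)
  map_one' := by
    simp only [Matrix.SpecialLinearGroup.coe_one, Matrix.one_apply_eq, ne_eq, zero_ne_one,
      not_false_eq_true, Matrix.one_apply_ne, one_ne_zero]
    exact tbl_one
  map_mul' A B := by
    have h := tbl_mul _ _ _ _ (det_eq A) _ _ _ _ (det_eq B)
    rw [← h]
    simp only [Matrix.SpecialLinearGroup.coe_mul, Matrix.mul_apply, Fin.sum_univ_two]

theorem rho_free (g : G) (hg : g ≠ 1) (y : E) (hy : (1 - rho g) * y = 0) : y = 0 := by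
  have : Fact (Nat.Prime 11) := ⟨by norm_num⟩
  have hn : normSq (1 - rho g) ≠ 0 := by
    apply tbl_free _ _ _ _ (det_eq g)
    rintro ⟨h1, h2, h3, h4⟩
    apply hg
    ext i j
    fin_cases i <;> fin_cases j <;> simp [h1, h2, h3, h4]
  have h1 : star (1 - rho g) * ((1 - rho g) * y) = 0 := by rw [hy, mul_zero]
  rw [← mul_assoc, Quaternion.star_mul_self] at h1
  have h2 : ((normSq (1 - rho g))⁻¹ : ZMod 11) • (((normSq (1 - rho g) : ZMod 11) : E) * y) = 0 := by
    rw [h1, smul_zero]
  rw [← Quaternion.coe_mul_eq_smul, ← mul_assoc, ← Quaternion.coe_mul,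
    inv_mul_cancel₀ hn, Quaternion.coe_one, one_mul] at h2
  exact h2


/-- the section `g ↦ (0, g)` -/
def sect : G →* AffGrp rho where
  toFun g := ⟨0, g⟩
  map_one' := rfl
  map_mul' a b := by
    refine AffGrp.ext ?_ ?_
    · simp
    · simp

theorem sect_injective : Function.Injective sect := by
  intro a b h
  exact congrArg AffGrp.g h

theorem mem_range_sect (a : AffGrp rho) : a ∈ sect.range ↔ a.x = 0 := by
  constructor
  · rintro ⟨g, rfl⟩
    rfl
  · intro h
    refine ⟨a.g, ?_⟩
    refine AffGrp.ext ?_ ?_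
    · exact h.symm
    · rfl

instance instFiniteE : Finite E :=
  Finite.of_equiv _ (QuaternionAlgebra.equivProd (R := ZMod 11) (-1) 0 (-1)).symm

theorem one_ne_zero_E : (1 : E) ≠ 0 := by decide +kernel

/-- a nontrivial element of `SL(2,5)` -/
def tG : G := ⟨!![1, 1; 0, 1], by simp [Matrix.det_fin_two]⟩

theorem tG_ne_one : tG ≠ 1 := by
  intro h
  have h1 : tG.1 0 1 = (1 : G).1 0 1 := by rw [h]
  simp [tG] at h1
  exact absurd h1 (by decide)

/-- SL(2,5) occurs as a Frobenius complement: there is a finite group L with a subgroup H isomorphic to SL(2,5) which is a non-trivial proper subgroup meeting each conjugate gHg⁻¹ with g outside H trivially. -/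
theorem result :
    ∃ (L : Type) (_ : Group L) (_ : Finite L) (H : Subgroup L),
      Cfsg.IsFrobeniusComplement H ∧ Nonempty (H ≃* Matrix.SpecialLinearGroup (Fin 2) (ZMod 5)) := by
  refine ⟨AffGrp rho, inferInstance, inferInstance, sect.range, ⟨?_, ?_, ?_⟩,
    ⟨(MonoidHom.ofInjective sect_injective).symm⟩⟩
  · intro h
    have hm : sect tG ∈ sect.range := ⟨tG, rfl⟩
    rw [h, Subgroup.mem_bot] at hm
    exact tG_ne_one (sect_injective (hm.trans (map_one sect).symm))
  · intro h
    have hm : (⟨1, 1⟩ : AffGrp rho) ∈ sect.range := by rw [h]; exact Subgroup.mem_top _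
    rw [mem_range_sect] at hm
    exact one_ne_zero_E hm
  · intro x hx
    rw [mem_range_sect] at hx
    rw [eq_bot_iff]
    intro y hy
    rw [Subgroup.mem_bot]
    obtain ⟨hy1, hy2⟩ := Subgroup.mem_inf.1 hy
    rw [Subgroup.mem_pointwise_smul_iff_inv_smul_mem, mem_range_sect] at hy2
    rw [mem_range_sect] at hy1
    have hx2 : ((MulAut.conj x)⁻¹ • y) = x⁻¹ * y * x := by
      simp [MulAut.smul_def]
    rw [hx2] at hy2
    simp only [AffGrp.mul_x, AffGrp.inv_x, AffGrp.inv_g, AffGrp.mul_g, hy1, mul_zero, add_zero]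
      at hy2
    by_contra hne
    have hg : y.g ≠ 1 := by
      intro hg
      exact hne ((AffGrp.eq_one_iff rho y).2 ⟨hy1, hg⟩)
    apply hx
    apply rho_free y.g hg
    have h3 : rho x.g * (-(rho x.g⁻¹ * x.x) + rho (x.g⁻¹ * y.g) * x.x) = 0 := by
      rw [hy2, mul_zero]
    rw [mul_add, mul_neg, ← mul_assoc, ← mul_assoc, ← map_mul, ← map_mul, mul_inv_cancel,
      ← mul_assoc, mul_inv_cancel, one_mul, map_one, one_mul] at h3
    rw [sub_mul, one_mul, sub_eq_zero]
    rw [neg_add_eq_zero] at h3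
    exact h3

end Cfsg.Agent.S3374
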