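import Cfsg.Statements.S3375

set_option autoImplicit false
open Cfsg

namespace Cfsg.Agent.S3375

section
variable {H : Type*} [Group H]

theorem gamma_sq (γ : MulAut H) (hγ : orderOf γ = 2) (h : H) : γ (γ h) = h := by
  have h1 : γ ^ 2 = 1 := by rw [← hγ]; exact pow_orderOf_eq_one γ
  have h2 : (γ ^ 2) h = h := by rw [h1]; rfl
  rwa [pow_two] at h2

theorem card_le [Finite H] (γ : MulAut H) :
    Nat.card H ≤ Nat.card {h : H // γ h = h} * (Set.range fun h : H => h⁻¹ * γ h).ncard := by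
  classical
  have := Fintype.ofFinite H
  set f : H → H := fun h => h⁻¹ * γ h with hf
  have hn : ∀ a ∈ Finset.univ.image f, (Finset.univ.filter fun x => f x = a).card ≤
      Nat.card {h : H // γ h = h} := by
    intro a ha
    obtain ⟨h, -, rfl⟩ := Finset.mem_image.mp ha
    rw [Nat.card_eq_fintype_card, Fintype.card_subtype]
    apply Finset.card_le_card_of_injOn (fun x => x * h⁻¹)
    · intro x hx
      rw [Finset.mem_coe, Finset.mem_filter] at hx
      have hx2 : x⁻¹ * γ x = h⁻¹ * γ h := hx.2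
      rw [Finset.mem_coe, Finset.mem_filter]
      refine ⟨Finset.mem_univ _, ?_⟩
      rw [map_mul, map_inv]
      have h3 : γ x = x * (h⁻¹ * γ h) := by rw [← hx2]; group
      rw [h3]; group
    · intro x _ y _ hxy
      exact mul_right_cancel hxy
  have h1 := Finset.card_le_mul_card_image (f := f) Finset.univ _ hn
  have h2 : (Finset.univ.image f).card = (Set.range f).ncard := by
    rw [← Set.ncard_coe_finset]
    congr 1
    ext x
    simp
  rw [h2, Finset.card_univ, ← Nat.card_eq_fintype_card] at h1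
  exact h1

theorem surj_aux [Finite H] (γ : MulAut H) (M : Subgroup H) (c : ℕ)
    (hc : Nat.card {h : H // γ h = h} = c)
    (hM : ∀ h : H, h⁻¹ * γ h ∈ M) (hcard : Nat.card H = c * Nat.card M) :
    ∀ m ∈ M, ∃ h : H, m = h⁻¹ * γ h := by
  have h1 := card_le γ
  rw [hc, hcard] at h1
  have hcpos : 0 < c := by
    rcases Nat.eq_zero_or_pos c with h0 | h0
    · rw [h0, zero_mul] at hcard
      have : 0 < Nat.card H := Nat.card_pos
      omega
    · exact h0
  have h2 : Nat.card M ≤ (Set.range fun h : H => h⁻¹ * γ h).ncard := Nat.le_of_mul_le_mul_left h1 hcpos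
  have hsub : (Set.range fun h : H => h⁻¹ * γ h) ⊆ (M : Set H) := by
    rintro _ ⟨h, rfl⟩
    exact hM h
  have heq : (Set.range fun h : H => h⁻¹ * γ h) = (M : Set H) := by
    apply Set.eq_of_subset_of_ncard_le hsub
    rw [← Nat.card_coe_set_eq]
    exact h2
  intro m hm
  have : m ∈ (Set.range fun h : H => h⁻¹ * γ h) := by rw [heq]; exact hm
  obtain ⟨h, hh⟩ := this
  exact ⟨h, hh.symm⟩

theorem inverts_of_surj (γ : MulAut H) (hγ : orderOf γ = 2) (M : Subgroup H)
    (hsurj : ∀ m ∈ M, ∃ h : H, m = h⁻¹ * γ h) :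
    (∀ a ∈ M, γ a = a⁻¹) := by
  intro a ha
  obtain ⟨h, rfl⟩ := hsurj a ha
  rw [map_mul, map_inv, gamma_sq γ hγ]
  group

theorem comm_of_inverts (γ : MulAut H) (M : Subgroup H) (hinv : ∀ a ∈ M, γ a = a⁻¹)
    (a b : H) (ha : a ∈ M) (hb : b ∈ M) : a * b = b * a := by
  have h1 := hinv (a * b) (M.mul_mem ha hb)
  rw [map_mul, hinv a ha, hinv b hb, mul_inv_rev] at h1
  have h2 : (a⁻¹ * b⁻¹)⁻¹ = (b⁻¹ * a⁻¹)⁻¹ := by rw [h1]
  rw [mul_inv_rev, mul_inv_rev, inv_inv, inv_inv] at h2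
  exact h2.symm


/-- the "third" index-two subgroup: elements lying in both or neither of `M`, `M'` -/
def third (M M' : Subgroup H) (hM : M.index = 2) (hM' : M'.index = 2) : Subgroup H where
  carrier := {h | h ∈ M ↔ h ∈ M'}
  one_mem' := by simp
  mul_mem' := by
    intro a b ha hb
    simp only [Set.mem_ofPred_eq] at ha hb ⊢
    rw [Subgroup.mul_mem_iff_of_index_two hM, Subgroup.mul_mem_iff_of_index_two hM', ha, hb]
  inv_mem' := by
    intro a ha
    simp only [Set.mem_ofPred_eq] at ha ⊢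
    rw [inv_mem_iff, inv_mem_iff, ha]

theorem mem_third (M M' : Subgroup H) (hM : M.index = 2) (hM' : M'.index = 2) (h : H) :
    h ∈ third M M' hM hM' ↔ (h ∈ M ↔ h ∈ M') := Iff.rfl

theorem third_index (M M' : Subgroup H) (hM : M.index = 2) (hM' : M'.index = 2)
    (a : H) (ha : a ∈ M) (ha' : a ∉ M') : (third M M' hM hM').index = 2 := by
  rw [Subgroup.index_eq_two_iff]
  refine ⟨a, fun b => ?_⟩
  rw [mem_third, mem_third, Subgroup.mul_mem_iff_of_index_two hM, Subgroup.mul_mem_iff_of_index_two hM']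
  simp only [ha, ha', iff_true, iff_false]
  by_cases h1 : b ∈ M <;> by_cases h2 : b ∈ M' <;> simp [h1, h2]

theorem exists_invariant [Finite H] (γ : MulAut H) (hγ : orderOf γ = 2) (M : Subgroup H) (hM : M.index = 2) :
    ∃ M₁ : Subgroup H, M₁.index = 2 ∧ ∀ a ∈ M₁, γ a ∈ M₁ := by
  set M' := M.map γ.toMonoidHom with hM'def
  have hM' : M'.index = 2 := by
    rw [hM'def]
    have := Subgroup.index_map_equiv M γ
    rw [← hM]
    exact this
  have hmem' : ∀ h : H, h ∈ M' ↔ γ h ∈ M := by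
    intro h
    constructor
    · rintro ⟨x, hx, rfl⟩
      show γ (γ x) ∈ M
      rw [gamma_sq γ hγ]; exact hx
    · intro hh
      exact ⟨γ h, hh, gamma_sq γ hγ h⟩
  by_cases hle : M ≤ M'
  · refine ⟨M, hM, ?_⟩
    intro a ha
    exact (hmem' a).mp (hle ha)
  · obtain ⟨a, ha, ha'⟩ := SetLike.not_le_iff_exists.mp hle
    refine ⟨third M M' hM hM', third_index M M' hM hM' a ha ha', ?_⟩
    intro b hb
    rw [mem_third] at hb ⊢
    rw [hmem', gamma_sq γ hγ]
    rw [hmem'] at hb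
    exact hb.symm

end

theorem result {H : Type*} [Group H] [Finite H] (γ : MulAut H) (hγ : orderOf γ = 2) :
    ((∀ h : H, γ h = h → h = 1) → (∀ a b : H, a * b = b * a) ∧ ∀ h : H, γ h = h⁻¹) ∧
    ((Nat.card {h : H // γ h = h} = 2 ∧ ∃ M : Subgroup H, M.index = 2) →
      ∃ A : Subgroup H, A.index = 2 ∧ IsMulCommutative A ∧ (∀ a ∈ A, γ a ∈ A) ∧ ∀ a ∈ A, γ a = a⁻¹) := by
  constructor
  · intro hfix
    have hc : Nat.card {h : H // γ h = h} = 1 := by
      rw [Nat.card_eq_one_iff_unique]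
      refine ⟨⟨?_⟩, ⟨⟨1, map_one γ⟩⟩⟩
      rintro ⟨a, ha⟩ ⟨b, hb⟩
      apply Subtype.ext
      show a = b
      rw [hfix a ha, hfix b hb]
    have hsurj := surj_aux γ ⊤ 1 hc (fun _ => Subgroup.mem_top _) (by rw [Subgroup.card_top, one_mul])
    have hinv := inverts_of_surj γ hγ ⊤ hsurj
    exact ⟨fun a b => comm_of_inverts γ ⊤ hinv a b (Subgroup.mem_top _) (Subgroup.mem_top _),
      fun h => hinv h (Subgroup.mem_top _)⟩
  · rintro ⟨hc, M, hM⟩
    obtain ⟨M₁, hM₁, hinvar⟩ := exists_invariant γ hγ M hM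
    have hmem : ∀ h : H, h⁻¹ * γ h ∈ M₁ := by
      intro h
      rw [Subgroup.mul_mem_iff_of_index_two hM₁, inv_mem_iff]
      constructor
      · exact hinvar h
      · intro hh
        have := hinvar _ hh
        rwa [gamma_sq γ hγ] at this
    have hcard : Nat.card H = 2 * Nat.card M₁ := by
      rw [← Subgroup.card_mul_index M₁, hM₁, mul_comm]
    have hsurj := surj_aux γ M₁ 2 hc hmem hcard
    have hinv := inverts_of_surj γ hγ M₁ hsurj
    refine ⟨M₁, hM₁, ⟨⟨fun a b => Subtype.ext (comm_of_inverts γ M₁ hinv a b a.2 b.2)⟩⟩, hinvar, hinv⟩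

end Cfsg.Agent.S3375
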