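import Cfsg.Statements.S3376
import Cfsg.Agent.Lib.Helper91.FrattiniRes
import Cfsg.Agent.Lib.Helper47.Frattini
import Cfsg.Agent.Lib.Helper64.SylowCount
import Cfsg.Agent.Lib.Helper53.CenterMeet
import Cfsg.Agent.Lib.Helper55.InvolSylow

set_option autoImplicit false
open Cfsg

namespace Cfsg.Agent.S3376

/-- cycle type of a fixed-point-free permutation of order dividing three on nine points -/
theorem cycleType_of_fpf (τ : Equiv.Perm (Fin 9)) (h3 : τ ^ 3 = 1) (hfpf : ∀ i, τ i ≠ i) :
    τ.cycleType = {3, 3, 3} := by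
  have hall : ∀ n ∈ τ.cycleType, n = 3 := by
    intro n hn
    have h1 : n ∣ 3 := (Equiv.Perm.dvd_of_mem_cycleType hn).trans (orderOf_dvd_of_pow_eq_one h3)
    have h2 := Equiv.Perm.two_le_of_mem_cycleType hn
    have h4 : n ≤ 3 := Nat.le_of_dvd (by norm_num) h1
    interval_cases n
    · norm_num at h1
    · rfl
  have hrep := Multiset.eq_replicate_card.2 hall
  have hsum : τ.cycleType.sum = 9 := by
    rw [Equiv.Perm.sum_cycleType]
    have : τ.support = Finset.univ := by
      ext i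
      simp [Equiv.Perm.mem_support, hfpf i]
    rw [this]; simp
  rw [hrep, Multiset.sum_replicate] at hsum
  have hc : Multiset.card τ.cycleType = 3 := by
    simp only [smul_eq_mul] at hsum
    omega
  rw [hrep, hc]; rfl

/-- the permutation in the statement -/
def sig : Equiv.Perm (Fin 9) :=
  Equiv.swap (0 : Fin 9) 1 * Equiv.swap 1 2 * Equiv.swap 3 4 * Equiv.swap 4 5 * Equiv.swap 6 7 * Equiv.swap 7 8

theorem sig_cycleType : sig.cycleType = {3, 3, 3} := by
  apply cycleType_of_fpf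
  · decide
  · decide

theorem card_centralizer_sig : Nat.card (Subgroup.centralizer ({sig} : Set (Equiv.Perm (Fin 9)))) = 162 := by
  rw [Equiv.Perm.nat_card_centralizer, sig_cycleType]
  decide


/-- the embedding lemma -/
theorem embed {G : Type*} [Group G] [Finite G] (hG : Nat.card G = 162) (z : G)
    (hzc : ∀ g : G, g * z = z * g) (hz3 : z ^ 3 = 1) (H : Subgroup G) (hidx : H.index = 9)
    (hcore : H.normalCore = ⊥) (hzH : z ∉ H) :
    Nonempty (G ≃* Subgroup.centralizer ({sig} : Set (Equiv.Perm (Fin 9)))) := by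
  classical
  have hcard : Nat.card (G ⧸ H) = 9 := hidx
  let e : (G ⧸ H) ≃ Fin 9 := Finite.equivFinOfCardEq hcard
  let ρ₀ : G →* Equiv.Perm (G ⧸ H) := MulAction.toPermHom G (G ⧸ H)
  have hρ₀ : Function.Injective ρ₀ := by
    rw [← MonoidHom.ker_eq_bot_iff, ← Subgroup.normalCore_eq_ker, hcore]
  let ρ₁ : G →* Equiv.Perm (Fin 9) := (Equiv.permCongrHom e).toMonoidHom.comp ρ₀
  have hρ₁ : Function.Injective ρ₁ := (Equiv.permCongrHom e).injective.comp hρ₀
  have hτ3 : (ρ₁ z) ^ 3 = 1 := by rw [← map_pow, hz3, map_one]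
  have hfpf : ∀ i, (ρ₁ z) i ≠ i := by
    intro i hi
    have h1 : (ρ₁ z) i = e (z • e.symm i) := rfl
    rw [h1] at hi
    have h2 : z • e.symm i = e.symm i := by
      apply e.injective
      rw [hi, Equiv.apply_symm_apply]
    obtain ⟨g, hg⟩ := QuotientGroup.mk_surjective (e.symm i)
    rw [← hg] at h2
    have h3 : (QuotientGroup.mk (z * g) : G ⧸ H) = QuotientGroup.mk g := h2
    rw [QuotientGroup.eq] at h3
    apply hzH
    have h4 : (z * g)⁻¹ * g = z⁻¹ := by
      rw [← hzc g]; group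
    rw [h4] at h3
    simpa using H.inv_mem h3
  have hct : (ρ₁ z).cycleType = sig.cycleType := by
    rw [cycleType_of_fpf _ hτ3 hfpf, sig_cycleType]
  obtain ⟨c, hc⟩ := isConj_iff.1 ((Equiv.Perm.isConj_iff_cycleType_eq).2 hct)
  let ρ₂ : G →* Equiv.Perm (Fin 9) := (MulAut.conj c).toMonoidHom.comp ρ₁
  have hρ₂ : Function.Injective ρ₂ := (MulAut.conj c).injective.comp hρ₁
  have hρ₂z : ρ₂ z = sig := by
    show c * ρ₁ z * c⁻¹ = sig
    exact hc
  have hmem : ∀ g, ρ₂ g ∈ Subgroup.centralizer ({sig} : Set (Equiv.Perm (Fin 9))) := by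
    intro g
    rw [Subgroup.mem_centralizer_iff]
    intro x hx
    rw [Set.mem_singleton_iff] at hx
    subst hx
    rw [← hρ₂z, ← map_mul, ← map_mul, hzc g]
  let ρ₃ : G →* Subgroup.centralizer ({sig} : Set (Equiv.Perm (Fin 9))) :=
    ρ₂.codRestrict _ hmem
  have hρ₃ : Function.Injective ρ₃ := by
    intro a b hab
    apply hρ₂
    exact congrArg Subtype.val hab
  have hbij : Function.Bijective ρ₃ := by
    rw [Nat.bijective_iff_injective_and_card]
    exact ⟨hρ₃, by rw [hG, card_centralizer_sig]⟩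
  exact ⟨MulEquiv.ofBijective ρ₃ hbij⟩


/-- an invariant complement to a fixed subgroup of order three -/
theorem exists_invariant_complement {A : Type*} [CommGroup A] [Finite A] (hexp : ∀ a : A, a ^ 3 = 1)
    (hA : Nat.card A = 27) (α : A ≃* A) (hα : ∀ x, α (α x) = x) (Z' : Subgroup A)
    (hZ' : Nat.card Z' = 3) (hfix : ∀ z ∈ Z', α z = z) :
    ∃ W : Subgroup A, Nat.card W = 9 ∧ (∀ w ∈ W, α w ∈ W) ∧ W ⊓ Z' = ⊥ := by
  have : Fact (Nat.Prime 3) := ⟨Nat.prime_three⟩
  have hΦ : frattini A = ⊥ := by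
    apply le_bot_iff.1
    apply Cfsg.Agent.Lib.Helper47.frattini_le_of_elementary_abelian_quotient 3 ⊥
    · intro x y
      rw [Subgroup.mem_bot]
      exact commutatorElement_eq_one_iff_commute.2 (Commute.all x y)
    · intro x
      rw [Subgroup.mem_bot]
      exact hexp x
  obtain ⟨L, hL1, hL2⟩ := Cfsg.Agent.Lib.Helper91.exists_complement_of_frattini_eq_bot hΦ Z'
    (fun a _ b _ => mul_comm a b)
  have hLcard : Nat.card L = 9 := by
    have h := Cfsg.Agent.Lib.Helper64.card_sup_mul_card_inf Z' L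
    rw [hL1, hL2, Subgroup.card_top, Subgroup.card_bot, hA, hZ'] at h
    omega
  have hLidx : L.index = 3 := by
    have h := L.card_mul_index
    rw [hLcard, hA] at h
    omega
  let q : A →* A ⧸ L := QuotientGroup.mk' L
  let π : A →* A ⧸ L := q * q.comp α.toMonoidHom
  have hπ : ∀ x, π x = q x * q (α x) := fun x => rfl
  have hπα : ∀ x, π (α x) = π x := by
    intro x
    rw [hπ, hπ, hα, mul_comm]
  have hq3 : ∀ y : A ⧸ L, y ^ 3 = 1 := by
    intro y
    obtain ⟨x, rfl⟩ := QuotientGroup.mk_surjective y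
    rw [← QuotientGroup.mk_pow, hexp]; rfl
  have hkerZ : π.ker ⊓ Z' = ⊥ := by
    rw [eq_bot_iff]
    rintro x ⟨hx1, hx2⟩
    replace hx1 : x ∈ π.ker := hx1
    replace hx2 : x ∈ Z' := hx2
    rw [MonoidHom.mem_ker, hπ, hfix x hx2] at hx1
    have h1 : q x = 1 := by
      have h3 := hq3 (q x)
      calc q x = (q x) ^ 3 * ((q x * q x))⁻¹ := by group
        _ = 1 := by rw [h3, hx1]; simp
    have h2 : x ∈ L := (QuotientGroup.eq_one_iff x).1 h1
    have : x ∈ Z' ⊓ L := ⟨hx2, h2⟩
    rw [hL1] at this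
    exact this
  have hrange : Nat.card π.range = 3 := by
    have h1 : Nat.card π.range ∣ 3 := by
      have := Subgroup.card_subgroup_dvd_card π.range
      rwa [show Nat.card (A ⧸ L) = 3 from hLidx] at this
    rcases (Nat.dvd_prime Nat.prime_three).1 h1 with h | h
    · exfalso
      have hker : π.ker = ⊤ := by
        rw [← Subgroup.index_eq_one, Subgroup.index_ker, h]
      rw [hker, top_inf_eq] at hkerZ
      rw [hkerZ, Subgroup.card_bot] at hZ'
      omega
    · exact h
  have hkercard : Nat.card π.ker = 9 := by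
    have h := π.ker.card_mul_index
    rw [Subgroup.index_ker, hrange, hA] at h
    omega
  refine ⟨π.ker, hkercard, ?_, hkerZ⟩
  intro w hw
  rw [MonoidHom.mem_ker] at hw ⊢
  rw [hπα, hw]


theorem sylow3_card {G : Type*} [Group G] [Finite G] (hG : Nat.card G = 162) (S : Sylow 3 G) :
    Nat.card (S : Subgroup G) = 81 := by
  have : Fact (Nat.Prime 3) := ⟨Nat.prime_three⟩
  obtain ⟨k, hk⟩ := IsPGroup.iff_card.mp S.isPGroup'
  have hidx := S.not_dvd_index
  have hmul := (S : Subgroup G).card_mul_index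
  rw [hG, hk] at hmul
  rw [hk]
  have hk4 : k ≤ 4 := by
    by_contra hcon
    push Not at hcon
    have h1 : 3 ^ 5 ∣ 3 ^ k := pow_dvd_pow 3 hcon
    have h2 : 3 ^ 5 ∣ 162 := by rw [← hmul]; exact Dvd.dvd.mul_right h1 _
    omega
  interval_cases k <;> omega

theorem sylow2_card {G : Type*} [Group G] [Finite G] (hG : Nat.card G = 162) (T : Sylow 2 G) :
    Nat.card (T : Subgroup G) = 2 := by
  have : Fact (Nat.Prime 2) := ⟨Nat.prime_two⟩
  obtain ⟨k, hk⟩ := IsPGroup.iff_card.mp T.isPGroup'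
  have hidx := T.not_dvd_index
  have hmul := (T : Subgroup G).card_mul_index
  rw [hG, hk] at hmul
  rw [hk]
  have hk4 : k ≤ 1 := by
    by_contra hcon
    push Not at hcon
    have h1 : 2 ^ 2 ∣ 2 ^ k := pow_dvd_pow 2 hcon
    have h2 : 2 ^ 2 ∣ 162 := by rw [← hmul]; exact Dvd.dvd.mul_right h1 _
    omega
  interval_cases k <;> omega


open scoped IsMulCommutative in
theorem result {G : Type*} [Group G] [Finite G] (hG : Nat.card G = 162)
    (S : Sylow 3 G) (T : Sylow 2 G) (J : Subgroup G) [hJn : J.Normal] (hJcomm : IsMulCommutative J)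
    (hJexp : ∀ a ∈ J, a ^ 3 = 1) (hJcard : Nat.card J = 27)
    (Z : Subgroup G) (hZ : Z = (S : Subgroup G) ⊓ Subgroup.centralizer ((S : Subgroup G) : Set G)) (hZcard : Nat.card Z = 3)
    (hZT : Z ≤ Subgroup.centralizer ((T : Subgroup G) : Set G))
    (hST : (S : Subgroup G) ⊓ Subgroup.centralizer ((T : Subgroup G) : Set G) ≠ S) :
    Nonempty (G ≃* Subgroup.centralizer ({Equiv.swap (0 : Fin 9) 1 * Equiv.swap 1 2 * Equiv.swap 3 4 * Equiv.swap 4 5 * Equiv.swap 6 7 * Equiv.swap 7 8} : Set (Equiv.Perm (Fin 9)))) := by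
  classical
  have hp3 : Fact (Nat.Prime 3) := ⟨Nat.prime_three⟩
  have hp2 : Fact (Nat.Prime 2) := ⟨Nat.prime_two⟩
  have hS := sylow3_card hG S
  have hT := sylow2_card hG T
  have hZS : Z ≤ S := hZ ▸ inf_le_left
  have hZcS : Z ≤ Subgroup.centralizer ((S : Subgroup G) : Set G) := hZ ▸ inf_le_right
  -- Z is central
  have hzcent : ∀ z ∈ Z, ∀ g : G, g * z = z * g := by
    intro z hz
    have hSC : (S : Subgroup G) ≤ Subgroup.centralizer {z} := by
      intro s hs
      rw [Subgroup.mem_centralizer_iff]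
      intro x hx
      rw [Set.mem_singleton_iff] at hx
      subst hx
      exact ((Subgroup.mem_centralizer_iff.1 (hZcS hz)) s hs).symm
    have hTC : (T : Subgroup G) ≤ Subgroup.centralizer {z} := by
      intro s hs
      rw [Subgroup.mem_centralizer_iff]
      intro x hx
      rw [Set.mem_singleton_iff] at hx
      subst hx
      exact ((Subgroup.mem_centralizer_iff.1 (hZT hz)) s hs).symm
    have h81 : 81 ∣ Nat.card (Subgroup.centralizer ({z} : Set G)) := hS ▸ Subgroup.card_dvd_of_le hSC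
    have h2 : 2 ∣ Nat.card (Subgroup.centralizer ({z} : Set G)) := hT ▸ Subgroup.card_dvd_of_le hTC
    have hdvd : Nat.card (Subgroup.centralizer ({z} : Set G)) ∣ 162 :=
      hG ▸ Subgroup.card_subgroup_dvd_card _
    have h162 : 162 ∣ Nat.card (Subgroup.centralizer ({z} : Set G)) :=
      Nat.Coprime.mul_dvd_of_dvd_of_dvd (by norm_num : Nat.Coprime 81 2) h81 h2
    have hcard : Nat.card (Subgroup.centralizer ({z} : Set G)) = Nat.card G := by
      rw [hG]; exact Nat.dvd_antisymm hdvd h162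
    have htop : Subgroup.centralizer ({z} : Set G) = ⊤ := (Subgroup.card_eq_iff_eq_top _).1 hcard
    intro g
    have hg : g ∈ Subgroup.centralizer ({z} : Set G) := htop ▸ Subgroup.mem_top g
    exact ((Subgroup.mem_centralizer_iff.1 hg) z rfl).symm
  -- normal subgroups meeting S meet Z
  have hmeet : ∀ N : Subgroup G, N.Normal → N ⊓ S ≠ ⊥ → N ⊓ Z ≠ ⊥ := by
    intro N hN hNS
    have hSp : IsPGroup 3 (S : Subgroup G) := S.isPGroup'
    have hne : N.subgroupOf S ≠ ⊥ := by
      rw [Ne, Subgroup.subgroupOf_eq_bot, disjoint_iff]; exact hNS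
    obtain ⟨b, hbN, hb1, hbc⟩ :=
      Cfsg.Agent.Lib.Helper53.normal_meets_center hSp (N.subgroupOf S) hne
    intro hbot
    apply hb1
    have hbZ : (b : G) ∈ Z := by
      rw [hZ]
      refine ⟨b.2, ?_⟩
      show (b : G) ∈ Subgroup.centralizer ((S : Subgroup G) : Set G)
      rw [Subgroup.mem_centralizer_iff]
      intro h hh
      have := (Subgroup.mem_center_iff.1 hbc) ⟨h, hh⟩
      exact congrArg Subtype.val this
    have hbN' : (b : G) ∈ N := Subgroup.mem_subgroupOf.1 hbN
    have hmem : (b : G) ∈ N ⊓ Z := ⟨hbN', hbZ⟩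
    rw [hbot, Subgroup.mem_bot] at hmem
    exact Subtype.ext hmem
  have hJS : J ≤ S :=
    (IsPGroup.of_card (n := 3) (by rw [hJcard]; norm_num)).le_sylow_of_normal S
  have hJne : J ≠ ⊥ := by
    intro h; rw [h, Subgroup.card_bot] at hJcard; omega
  have hZJ : Z ≤ J := by
    have h1 := hmeet J hJn (by rw [inf_eq_left.2 hJS]; exact hJne)
    have h2 : Nat.card (J ⊓ Z : Subgroup G) ∣ 3 := hZcard ▸ Subgroup.card_dvd_of_le inf_le_right
    have h3 : Nat.card (J ⊓ Z : Subgroup G) ≠ 1 := fun h => h1 (Subgroup.card_eq_one.1 h)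
    have h4 : Nat.card (J ⊓ Z : Subgroup G) = 3 :=
      ((Nat.dvd_prime Nat.prime_three).1 h2).resolve_left h3
    have h5 : J ⊓ Z = Z := Subgroup.eq_of_le_of_card_ge inf_le_right (by rw [h4, hZcard])
    exact h5 ▸ inf_le_left
  -- the involution
  obtain ⟨t, htT, ht1⟩ : ∃ t ∈ (T : Subgroup G), t ≠ 1 := by
    have hne : (T : Subgroup G) ≠ ⊥ := by
      intro h; rw [h, Subgroup.card_bot] at hT; omega
    obtain ⟨⟨t, ht⟩, hne'⟩ := (Subgroup.ne_bot_iff_exists_ne_one).1 hne
    exact ⟨t, ht, fun h => hne' (Subtype.ext h)⟩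
  have ht2 : t ^ 2 = 1 := by
    have h := pow_card_eq_one' (G := (T : Subgroup G)) (x := ⟨t, htT⟩)
    rw [hT] at h
    exact congrArg Subtype.val h
  have htinv : t⁻¹ = t := by
    rw [inv_eq_iff_mul_eq_one, ← pow_two, ht2]
  have hTz : (T : Subgroup G) = Subgroup.zpowers t := by
    symm
    apply Subgroup.eq_of_le_of_card_ge ((Subgroup.zpowers_le).2 htT)
    rw [Nat.card_zpowers, hT, orderOf_eq_prime ht2 ht1]
  -- the invariant complement
  have hexp' : ∀ a : J, a ^ 3 = 1 := fun a => Subtype.ext (hJexp a a.2)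
  let α : J ≃* J := MulAut.conjNormal t
  have hαv : ∀ x : J, ((α x : J) : G) = t * x * t⁻¹ := fun x => MulAut.conjNormal_apply t x
  have hα : ∀ x, α (α x) = x := by
    intro x
    apply Subtype.ext
    rw [hαv, hαv, htinv]
    calc t * (t * ↑x * t) * t = (t ^ 2) * ↑x * (t ^ 2) := by rw [pow_two]; group
      _ = ↑x := by rw [ht2]; group
  have hZ'card : Nat.card (Z.subgroupOf J) = 3 := by
    rw [← hZcard]
    exact Nat.card_congr (Subgroup.subgroupOfEquivOfLe hZJ).toEquiv
  have hfix : ∀ z ∈ Z.subgroupOf J, α z = z := by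
    intro z hz
    apply Subtype.ext
    rw [hαv, hzcent (z : G) (Subgroup.mem_subgroupOf.1 hz) t]
    group
  obtain ⟨W, hW9, hWα, hWZ⟩ :=
    exists_invariant_complement (A := J) hexp' hJcard α hα (Z.subgroupOf J) hZ'card hfix
  set WG : Subgroup G := W.map J.subtype with hWG
  have hWGcard : Nat.card WG = 9 := by
    rw [hWG, Subgroup.card_map_of_injective J.subtype_injective, hW9]
  have hWGJ : WG ≤ J := by
    rintro _ ⟨w, _, rfl⟩
    exact w.2
  have hWGZ : WG ⊓ Z = ⊥ := by
    rw [eq_bot_iff]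
    rintro _ ⟨⟨w, hw, rfl⟩, hz⟩
    have h1 : w ∈ W ⊓ Z.subgroupOf J := ⟨hw, Subgroup.mem_subgroupOf.2 hz⟩
    rw [hWZ, Subgroup.mem_bot] at h1
    rw [h1]; exact Subgroup.one_mem _
  have htW : ∀ x ∈ WG, t * x * t⁻¹ ∈ WG := by
    rintro _ ⟨w, hw, rfl⟩
    exact ⟨α w, hWα w hw, hαv w⟩
  have htN : t ∈ Subgroup.normalizer (WG : Set G) := by
    rw [Subgroup.mem_normalizer_iff]
    intro h
    constructor
    · exact htW h
    · intro hh
      have := htW _ hh
      rw [htinv] at this
      have h2 : t * (t * h * t) * t = h := by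
        calc t * (t * h * t) * t = (t ^ 2) * h * (t ^ 2) := by rw [pow_two]; group
          _ = h := by rw [ht2]; group
      rwa [h2] at this
  have hTN : (T : Subgroup G) ≤ Subgroup.normalizer (WG : Set G) := by
    rw [hTz]; exact (Subgroup.zpowers_le).2 htN
  set H : Subgroup G := (T : Subgroup G) ⊔ WG with hH
  have hHcard : Nat.card H = 18 := by
    have h1 : Nat.card H ∣ 18 := by
      have := Cfsg.Agent.Lib.Helper55.card_sup_dvd_mul_of_le_normalizer (T : Subgroup G) WG hTN
      rwa [hT, hWGcard] at this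
    have h2 : 2 ∣ Nat.card H := hT ▸ Subgroup.card_dvd_of_le (le_sup_left : (T : Subgroup G) ≤ H)
    have h9 : 9 ∣ Nat.card H := hWGcard ▸ Subgroup.card_dvd_of_le (le_sup_right : WG ≤ H)
    have h18 : 18 ∣ Nat.card H :=
      Nat.Coprime.mul_dvd_of_dvd_of_dvd (by norm_num : Nat.Coprime 2 9) h2 h9
    exact Nat.dvd_antisymm h1 h18
  have hHZ : H ⊓ Z = ⊥ := by
    have h1 : H ⊓ J = WG := by
      symm
      apply Subgroup.eq_of_le_of_card_ge (le_inf le_sup_right hWGJ)
      have hd1 : Nat.card (H ⊓ J : Subgroup G) ∣ 18 := hHcard ▸ Subgroup.card_dvd_of_le inf_le_left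
      have hd2 : Nat.card (H ⊓ J : Subgroup G) ∣ 27 := hJcard ▸ Subgroup.card_dvd_of_le inf_le_right
      have hd3 : Nat.card (H ⊓ J : Subgroup G) ∣ 9 := Nat.dvd_gcd hd1 hd2
      rw [hWGcard]
      exact Nat.le_of_dvd (by norm_num) hd3
    rw [eq_bot_iff, ← hWGZ, ← h1]
    exact le_inf (le_inf inf_le_left (inf_le_right.trans hZJ)) inf_le_right
  have hT2 : ∀ x ∈ (T : Subgroup G), x ≠ 1 → x = t := by
    intro x hx hx1
    obtain ⟨b, _, hb⟩ := (Nat.card_eq_two_iff' (1 : (T : Subgroup G))).1 hT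
    have e1 := hb ⟨x, hx⟩ (fun h => hx1 (congrArg Subtype.val h))
    have e2 := hb ⟨t, htT⟩ (fun h => ht1 (congrArg Subtype.val h))
    exact congrArg Subtype.val (e1.trans e2.symm)
  -- core-free
  have hcore : H.normalCore = ⊥ := by
    by_contra hne
    have hNn : (H.normalCore).Normal := Subgroup.normalCore_normal H
    have hNH : H.normalCore ≤ H := Subgroup.normalCore_le H
    have hNZ : H.normalCore ⊓ Z = ⊥ := by
      rw [eq_bot_iff, ← hHZ]; exact inf_le_inf_right Z hNH
    have hNS : H.normalCore ⊓ S = ⊥ := by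
      by_contra h
      exact hmeet _ hNn h hNZ
    have hSn : (S : Subgroup G).Normal := by
      apply Subgroup.normal_of_index_eq_two
      have := (S : Subgroup G).card_mul_index
      rw [hS, hG] at this; omega
    have hcardN : Nat.card H.normalCore = 2 := by
      have h := Cfsg.Agent.Lib.Helper64.card_sup_mul_card_inf H.normalCore (S : Subgroup G)
      rw [hNS, Subgroup.card_bot, hS, mul_one] at h
      have hd : Nat.card (H.normalCore ⊔ S : Subgroup G) ∣ 162 :=
        hG ▸ Subgroup.card_subgroup_dvd_card _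
      rw [h] at hd
      have hd2 : Nat.card H.normalCore ∣ 2 := by
        have : 81 * Nat.card H.normalCore ∣ 81 * 2 := by simpa using hd
        exact Nat.dvd_of_mul_dvd_mul_left (by norm_num) this
      have h1 : Nat.card H.normalCore ≠ 1 := fun h => hne (Subgroup.card_eq_one.1 h)
      exact ((Nat.dvd_prime Nat.prime_two).1 hd2).resolve_left h1
    have hNT : H.normalCore ≤ T :=
      (IsPGroup.of_card (n := 1) (by rw [hcardN]; norm_num)).le_sylow_of_normal T
    have hNeqT : H.normalCore = T := Subgroup.eq_of_le_of_card_ge hNT (by rw [hcardN, hT])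
    have htc : ∀ g : G, g * t * g⁻¹ = t := by
      intro g
      have h1 : g * t * g⁻¹ ∈ (T : Subgroup G) := by
        rw [← hNeqT]
        exact hNn.conj_mem t (hNeqT ▸ htT) g
      apply hT2 _ h1
      intro h
      apply ht1
      have : t = g⁻¹ * (g * t * g⁻¹) * g := by group
      rw [this, h]; group
    apply hST
    apply inf_eq_left.2
    intro s hs
    show s ∈ Subgroup.centralizer ((T : Subgroup G) : Set G)
    rw [Subgroup.mem_centralizer_iff]
    intro x hx
    by_cases hx1 : x = 1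
    · rw [hx1]; simp
    · rw [hT2 x hx hx1]
      exact (mul_inv_eq_iff_eq_mul.1 (htc s)).symm
  obtain ⟨z, hzZ, hz1⟩ : ∃ z ∈ Z, z ≠ 1 := by
    have hne : Z ≠ ⊥ := by
      intro h; rw [h, Subgroup.card_bot] at hZcard; omega
    obtain ⟨⟨z, hz⟩, hne'⟩ := (Subgroup.ne_bot_iff_exists_ne_one).1 hne
    exact ⟨z, hz, fun h => hne' (Subtype.ext h)⟩
  have hz3 : z ^ 3 = 1 := by
    have h := pow_card_eq_one' (G := Z) (x := ⟨z, hzZ⟩)
    rw [hZcard] at h
    exact congrArg Subtype.val h
  have hidx : H.index = 9 := by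
    have := H.card_mul_index
    rw [hHcard, hG] at this; omega
  have hzH : z ∉ H := by
    intro h
    apply hz1
    have hmem : z ∈ H ⊓ Z := ⟨h, hzZ⟩
    rwa [hHZ, Subgroup.mem_bot] at hmem
  exact embed hG z (hzcent z hzZ) hz3 H hidx hcore hzH

end Cfsg.Agent.S3376
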