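import Cfsg.Statements.S3380
import Mathlib
import Cfsg.Agent.Lib.Helper52.NormalRankTwo
import Cfsg.Agent.Lib.Helper56.NormOp
import Cfsg.Agent.Lib.Helper73.CyclicMax

set_option autoImplicit false
open Cfsg

namespace Cfsg.Agent.S3380

open Cfsg
open Finset


open Cfsg.Agent.Lib.Helper56

section grp

/-- From a normal elementary abelian subgroup of order `p²`, extract a central `z` of order `p`
and `x ∉ ⟨z⟩` with `[g, x] ∈ ⟨z⟩` for all `g`. -/
theorem exists_xz {G : Type*} [Group G] [Finite G] (p : ℕ) [hp : Fact p.Prime] (hG : IsPGroup p G)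
    (N : Subgroup G) (hNn : N.Normal) (hNcard : Nat.card N = p ^ 2) (hNexp : ∀ x ∈ N, x ^ p = 1) :
    ∃ z x : G, z ∈ Subgroup.center G ∧ z ≠ 1 ∧ z ^ p = 1 ∧ x ^ p = 1 ∧ x ∉ Subgroup.zpowers z ∧
      ∀ g : G, g * x * g⁻¹ * x⁻¹ ∈ Subgroup.zpowers z := by
  have hp2 : 2 ≤ p := hp.out.two_le
  have hNne : N ≠ ⊥ := by
    intro h
    rw [h, Subgroup.card_bot] at hNcard
    have : 4 ≤ p ^ 2 := by nlinarith
    omega
  obtain ⟨z, hzN, hz1, hzc⟩ := Cfsg.Agent.Lib.Helper53.normal_meets_center hG N hNne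
  have hzp : z ^ p = 1 := hNexp z hzN
  have hZn : (Subgroup.zpowers z).Normal := by
    constructor
    intro n hn g
    have hnc : n ∈ Subgroup.center G := by
      have : Subgroup.zpowers z ≤ Subgroup.center G := by
        rw [Subgroup.zpowers_le]; exact hzc
      exact this hn
    have : g * n * g⁻¹ = n := by
      rw [Subgroup.mem_center_iff.mp hnc g, mul_inv_cancel_right]
    rw [this]; exact hn
  have hZcard : Nat.card (Subgroup.zpowers z) ≤ p := by
    rw [Nat.card_zpowers]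
    exact Nat.le_of_dvd hp.out.pos (orderOf_dvd_of_pow_eq_one hzp)
  have hQ : IsPGroup p (G ⧸ Subgroup.zpowers z) := hG.to_quotient _
  let N' : Subgroup (G ⧸ Subgroup.zpowers z) := N.map (QuotientGroup.mk' (Subgroup.zpowers z))
  have hN'n : N'.Normal := hNn.map _ (QuotientGroup.mk'_surjective _)
  have hN'ne : N' ≠ ⊥ := by
    intro h
    have hle : N ≤ Subgroup.zpowers z := by
      intro n hn
      have : QuotientGroup.mk' (Subgroup.zpowers z) n ∈ N' := Subgroup.mem_map_of_mem _ hn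
      rw [h, Subgroup.mem_bot] at this
      exact (QuotientGroup.eq_one_iff n).mp this
    have := Subgroup.card_le_of_le hle
    rw [hNcard] at this
    have : p ^ 2 ≤ p := le_trans this hZcard
    nlinarith
  obtain ⟨b', hb'N, hb'1, hb'c⟩ := Cfsg.Agent.Lib.Helper53.normal_meets_center hQ N' hN'ne
  obtain ⟨x, hxN, rfl⟩ := hb'N
  refine ⟨z, x, hzc, hz1, hzp, hNexp x hxN, ?_, ?_⟩
  · intro hx
    apply hb'1
    exact (QuotientGroup.eq_one_iff x).mpr hx
  · intro g
    rw [← QuotientGroup.eq_one_iff]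
    have h1 := Subgroup.mem_center_iff.mp hb'c (QuotientGroup.mk' (Subgroup.zpowers z) g)
    have h2 : ((g * x * g⁻¹ * x⁻¹ : G) : G ⧸ Subgroup.zpowers z) =
        QuotientGroup.mk' (Subgroup.zpowers z) g * QuotientGroup.mk' (Subgroup.zpowers z) x *
          (QuotientGroup.mk' (Subgroup.zpowers z) g)⁻¹ * (QuotientGroup.mk' (Subgroup.zpowers z) x)⁻¹ := rfl
    rw [h2, h1]
    group

/-- The centraliser of `x` has index `p`. -/
theorem exists_H {G : Type*} [Group G] [Finite G] (p : ℕ) [hp : Fact p.Prime]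
    (z x : G) (hzc : z ∈ Subgroup.center G) (hzp : z ^ p = 1)
    (hconj : ∀ g : G, g * x * g⁻¹ * x⁻¹ ∈ Subgroup.zpowers z) (hxnc : x ∉ Subgroup.center G) :
    ∃ H : Subgroup G, H.index = p ∧ ∀ h, h ∈ H ↔ h * x = x * h := by
  have hZle : Subgroup.zpowers z ≤ Subgroup.center G := by
    rw [Subgroup.zpowers_le]; exact hzc
  let f : G →* Subgroup.zpowers z :=
    { toFun := fun g => ⟨g * x * g⁻¹ * x⁻¹, hconj g⟩
      map_one' := by
        apply Subtype.ext
        show (1 : G) * x * 1⁻¹ * x⁻¹ = 1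
        group
      map_mul' := fun g h => by
        apply Subtype.ext
        show g * h * x * (g * h)⁻¹ * x⁻¹ = (g * x * g⁻¹ * x⁻¹) * (h * x * h⁻¹ * x⁻¹)
        have ht : h * x * h⁻¹ * x⁻¹ ∈ Subgroup.center G := hZle (hconj h)
        have h3 := Subgroup.mem_center_iff.mp ht g
        -- g * t = t * g
        calc g * h * x * (g * h)⁻¹ * x⁻¹
            = (g * (h * x * h⁻¹ * x⁻¹)) * x * g⁻¹ * x⁻¹ := by group
          _ = ((h * x * h⁻¹ * x⁻¹) * g) * x * g⁻¹ * x⁻¹ := by rw [h3]
          _ = (h * x * h⁻¹ * x⁻¹) * (g * x * g⁻¹ * x⁻¹) := by group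
          _ = (g * x * g⁻¹ * x⁻¹) * (h * x * h⁻¹ * x⁻¹) :=
              (Subgroup.mem_center_iff.mp ht _).symm }
  have hfapp : ∀ g, ((f g : Subgroup.zpowers z) : G) = g * x * g⁻¹ * x⁻¹ := fun g => rfl
  have hker : ∀ h, h ∈ f.ker ↔ h * x = x * h := by
    intro h
    rw [MonoidHom.mem_ker]
    constructor
    · intro h1
      have := congrArg Subtype.val h1
      rw [hfapp] at this
      have h2 : h * x * h⁻¹ * x⁻¹ = 1 := this
      calc h * x = (h * x * h⁻¹ * x⁻¹) * x * h := by group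
        _ = x * h := by rw [h2, one_mul]
    · intro h1
      apply Subtype.ext
      rw [hfapp, h1]
      show x * h * h⁻¹ * x⁻¹ = 1
      group
  refine ⟨f.ker, ?_, hker⟩
  rw [Subgroup.index_ker]
  -- range is a nontrivial subgroup of a group of order p
  have hz1 : z ≠ 1 := by
    intro h
    apply hxnc
    rw [Subgroup.mem_center_iff]
    intro g
    have := hconj g
    rw [h, Subgroup.zpowers_one_eq_bot, Subgroup.mem_bot] at this
    calc g * x = (g * x * g⁻¹ * x⁻¹) * x * g := by group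
      _ = x * g := by rw [this, one_mul]
  have hordz : orderOf z = p := orderOf_eq_prime hzp hz1
  have hcardZ : Nat.card (Subgroup.zpowers z) = p := by rw [Nat.card_zpowers, hordz]
  haveI : Fact (Nat.card (Subgroup.zpowers z)).Prime := ⟨by rw [hcardZ]; exact hp.out⟩
  rcases Subgroup.eq_bot_or_eq_top_of_prime_card f.range with h | h
  · exfalso
    apply hxnc
    rw [Subgroup.mem_center_iff]
    intro g
    have : f g ∈ f.range := ⟨g, rfl⟩
    rw [h, Subgroup.mem_bot] at this
    exact ((hker g).mp ((MonoidHom.mem_ker).mpr this))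
  · rw [h, Subgroup.card_top, hcardZ]

end grp


section modl

variable {q : ℕ} [hq : Fact q.Prime] {V : Type*} [AddCommGroup V] [Module (ZMod q) V]
  {G : Type*} [Group G] (ρ : G →* (V ≃ₗ[ZMod q] V))

/-- The fixed subspace of `ρ a`. -/
def fixSub (a : G) : Submodule (ZMod q) V where
  carrier := {v | ρ a v = v}
  add_mem' := by
    intro u v hu hv
    simp only [Set.mem_ofPred_eq] at hu hv ⊢
    rw [map_add, hu, hv]
  zero_mem' := by simp
  smul_mem' := by
    intro c v hv
    simp only [Set.mem_ofPred_eq] at hv ⊢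
    rw [map_smul, hv]

theorem mem_fixSub (a : G) (v : V) : v ∈ fixSub ρ a ↔ ρ a v = v := Iff.rfl

theorem rho_mul_apply (a b : G) (v : V) : ρ (a * b) v = ρ a (ρ b v) := by
  rw [map_mul]; rfl

theorem rho_one_apply (v : V) : ρ 1 v = v := by
  rw [map_one]; rfl

theorem map_fixSub (g a : G) :
    (fixSub ρ a).map ((ρ g : V ≃ₗ[ZMod q] V) : V →ₗ[ZMod q] V) = fixSub ρ (g * a * g⁻¹) := by
  ext v
  rw [Submodule.mem_map, mem_fixSub]
  constructor
  · rintro ⟨w, hw, rfl⟩
    rw [mem_fixSub] at hw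
    show ρ (g * a * g⁻¹) (ρ g w) = ρ g w
    rw [← rho_mul_apply, inv_mul_cancel_right, rho_mul_apply, hw]
  · intro hv
    refine ⟨ρ g⁻¹ v, ?_, ?_⟩
    · rw [mem_fixSub, ← rho_mul_apply]
      have : a * g⁻¹ = g⁻¹ * (g * a * g⁻¹) := by group
      rw [this, rho_mul_apply, hv]
    · show ρ g (ρ g⁻¹ v) = v
      rw [← rho_mul_apply, mul_inv_cancel, rho_one_apply]

theorem fpf_of_central (hρ : Function.Injective ρ)
    (hirr : ∀ W : Submodule (ZMod q) V, (∀ g : G, ∀ w ∈ W, ρ g w ∈ W) → W = ⊥ ∨ W = ⊤)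
    {u : G} (hu : u ∈ Subgroup.center G) (hu1 : u ≠ 1) (v : V) (hv : ρ u v = v) : v = 0 := by
  have hinv : ∀ g : G, ∀ w ∈ fixSub ρ u, ρ g w ∈ fixSub ρ u := by
    intro g w hw
    rw [mem_fixSub] at hw ⊢
    have hc : g * u = u * g := Subgroup.mem_center_iff.mp hu g
    rw [← rho_mul_apply, ← hc, rho_mul_apply, hw]
  rcases hirr _ hinv with h | h
  · have : v ∈ fixSub ρ u := hv
    rw [h] at this
    exact (Submodule.mem_bot _).mp this
  · exfalso
    apply hu1
    apply hρ
    rw [map_one]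
    ext w
    have : w ∈ fixSub ρ u := by rw [h]; trivial
    exact this

theorem rho_pow_fixed {a : G} {w : V} (hw : ρ a w = w) (k : ℕ) : ρ (a ^ k) w = w := by
  induction k with
  | zero => rw [pow_zero, rho_one_apply]
  | succ k ih => rw [pow_succ, rho_mul_apply, hw, ih]

theorem nm_rho (p : ℕ) (a : G) (v : V) :
    nm p (ρ a) v = ∑ k ∈ range p, ρ (a ^ k) v := by
  unfold nm
  apply Finset.sum_congr rfl
  intro k _
  rw [← map_pow]
  rfl

theorem rho_nm_self {p : ℕ} {a : G} (ha : a ^ p = 1) (v : V) :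
    ρ a (nm p (ρ a) v) = nm p (ρ a) v := by
  have h : (ρ a) ^ p = 1 := by rw [← map_pow, ha, map_one]
  exact smul_nm_self (P := V ≃ₗ[ZMod q] V) (E := V) h v

theorem nm_kill {p : ℕ} {a u : G} (hau : Commute a u) (hup : u ^ p = 1)
    (hfu : ∀ v : V, ρ u v = v → v = 0) {w : V} (hw : ρ a w = w) :
    nm p (ρ (a * u)) w = 0 := by
  have h1 : nm p (ρ (a * u)) w = nm p (ρ u) w := by
    rw [nm_rho, nm_rho]
    apply Finset.sum_congr rfl
    intro k _
    rw [hau.mul_pow, (hau.pow_pow k k).eq, rho_mul_apply, rho_pow_fixed ρ hw]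
  rw [h1]
  apply hfu
  exact rho_nm_self ρ hup w

end modl


theorem main_construction
    (q : ℕ) [hq : Fact q.Prime] {V : Type*} [AddCommGroup V] [Module (ZMod q) V] [Finite V] [Nontrivial V]
    {G : Type*} [Group G] [Finite G] (p : ℕ) [hp : Fact p.Prime] (hG : IsPGroup p G)
    (ρ : G →* (V ≃ₗ[ZMod q] V)) (hρ : Function.Injective ρ)
    (hirr : ∀ W : Submodule (ZMod q) V, (∀ g : G, ∀ w ∈ W, ρ g w ∈ W) → W = ⊥ ∨ W = ⊤)
    (N : Subgroup G) (hNn : N.Normal) (hNcard : Nat.card N = p ^ 2) (hNexp : ∀ x ∈ N, x ^ p = 1) :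
    ∃ (H : Subgroup G) (W : Fin p → Submodule (ZMod q) V), H.index = p ∧
      iSup W = ⊤ ∧ iSupIndep W ∧
      (∀ h ∈ H, ∀ i, ∀ w ∈ W i, ρ h w ∈ W i) ∧
      (∀ i, ∃ h ∈ H, h ≠ 1 ∧ ∀ w ∈ W i, ρ h w = w) ∧
      ∀ g : G, g ∉ H → ∃ σ : Equiv.Perm (Fin p), orderOf σ = p ∧
        ∀ i, (W i).map (ρ g : V →ₗ[ZMod q] V) = W (σ i) := by
  obtain ⟨z, x, hzc, hz1, hzp, hxp, hxz, hconj⟩ := exists_xz p hG N hNn hNcard hNexp
  have hordz : orderOf z = p := orderOf_eq_prime hzp hz1
  have hfz : ∀ v : V, ρ z v = v → v = 0 := fpf_of_central ρ hρ hirr hzc hz1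
  have hzcomm : ∀ g : G, g * z = z * g := Subgroup.mem_center_iff.mp hzc
  have hzkc : ∀ k : ℕ, z ^ k ∈ Subgroup.center G := fun k => Subgroup.pow_mem _ hzc k
  have hzkcomm : ∀ (k : ℕ) (g : G), g * z ^ k = z ^ k * g :=
    fun k => Subgroup.mem_center_iff.mp (hzkc k)
  -- q ≠ p
  have hqp : q ≠ p := by
    intro hqp
    subst hqp
    classical
    haveI : Fintype V := Fintype.ofFinite V
    let f : Function.End V := fun v => ρ z v
    have hfpow : ∀ n : ℕ, ∀ v, (f ^ n) v = ρ (z ^ n) v := by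
      intro n
      induction n with
      | zero => intro v; rw [pow_zero, pow_zero, rho_one_apply]; rfl
      | succ n ih =>
        intro v
        rw [pow_succ', pow_succ', rho_mul_apply, ← ih]
        rfl
    have hf : f ^ q ^ 1 = 1 := by
      rw [pow_one]
      funext v
      rw [hfpow, hzp, rho_one_apply]
      rfl
    have hmod := Equiv.Perm.card_fixedPoints_modEq (f := f) (p := q) (n := 1) hf
    have hdvdV : q ∣ Fintype.card V := by
      obtain ⟨v, hv⟩ := exists_ne (0 : V)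
      have h1 : q • v = 0 := by
        rw [← Nat.cast_smul_eq_nsmul (ZMod q), ZMod.natCast_self, zero_smul]
      have h2 : addOrderOf v = q := addOrderOf_eq_prime h1 hv
      rw [← h2, ← Nat.card_eq_fintype_card]
      exact addOrderOf_dvd_natCard v
    have hfix : Fintype.card (Function.fixedPoints f) = 1 := by
      rw [Fintype.card_eq_one_iff]
      refine ⟨⟨0, ?_⟩, ?_⟩
      · show f 0 = 0
        simp [f]
      · rintro ⟨v, hv⟩
        apply Subtype.ext
        exact hfz v hv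
    rw [hfix] at hmod
    have h0 : Fintype.card V ≡ 0 [MOD q] := (Nat.modEq_zero_iff_dvd).mpr hdvdV
    have h10 : 1 ≡ 0 [MOD q] := hmod.symm.trans h0
    have := (Nat.modEq_zero_iff_dvd).mp h10
    exact hq.out.one_lt.ne' (Nat.dvd_one.mp this)
  have hpne : (p : ZMod q) ≠ 0 := by
    rw [Ne, ZMod.natCast_eq_zero_iff]
    intro hdvd
    exact hqp ((Nat.prime_dvd_prime_iff_eq hq.out hp.out).mp hdvd)
  have hpunit : ∀ v : V, p • v = 0 → v = 0 := by
    intro v hv
    have : (p : ZMod q) • v = 0 := by rw [Nat.cast_smul_eq_nsmul]; exact hv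
    exact (smul_eq_zero.mp this).resolve_left hpne
  have hxzcomm : ∀ k : ℕ, Commute x (z ^ k) := fun k => hzkcomm k x
  have hap : ∀ i : ℕ, (x * z ^ i) ^ p = 1 := by
    intro i
    rw [(hxzcomm i).mul_pow, hxp, one_mul, ← pow_mul, mul_comm, pow_mul, hzp, one_pow]
  have hane : ∀ i : ℕ, x * z ^ i ≠ 1 := by
    intro i h
    apply hxz
    have : x = (z ^ i)⁻¹ := eq_inv_of_mul_eq_one_left h
    rw [this]
    exact Subgroup.inv_mem _ (Subgroup.pow_mem _ (Subgroup.mem_zpowers z) i)
  -- the sum identity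
  have hsum : ∀ v : V, ∑ i ∈ range p, nm p (ρ (x * z ^ i)) v = p • v := by
    intro v
    have hcomm : Commute (ρ x) (ρ z) := by
      show ρ x * ρ z = ρ z * ρ x
      rw [← map_mul, ← map_mul, hzcomm x]
    have hz' : (ρ z) ^ p = 1 := by rw [← map_pow, hzp, map_one]
    have hz1' : ρ z ≠ 1 := by
      intro h
      apply hz1
      apply hρ
      rw [h, map_one]
    have := sum_nm_mul_pow (P := V ≃ₗ[ZMod q] V) (E := V) hp.out hcomm hz' hz1'
      (fun e he => hfz e he) v
    rw [← this]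
    apply Finset.sum_congr rfl
    intro i _
    rw [map_mul, map_pow]
  -- x is not central
  have hxnc : x ∉ Subgroup.center G := by
    intro hxc
    obtain ⟨v, hv⟩ := exists_ne (0 : V)
    apply hv
    apply hpunit
    rw [← hsum v]
    apply Finset.sum_eq_zero
    intro i _
    have hc : x * z ^ i ∈ Subgroup.center G := Subgroup.mul_mem _ hxc (hzkc i)
    apply fpf_of_central ρ hρ hirr hc (hane i)
    exact rho_nm_self ρ (hap i) v
  obtain ⟨H, hHidx, hHmem⟩ := exists_H p z x hzc hzp hconj hxnc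
  let W : Fin p → Submodule (ZMod q) V := fun i => fixSub ρ (x * z ^ (i : ℕ))
  have hWmem : ∀ (i : Fin p) (w : V), w ∈ W i ↔ ρ (x * z ^ (i : ℕ)) w = w := fun i w => Iff.rfl
  refine ⟨H, W, hHidx, ?_, ?_, ?_, ?_, ?_⟩
  · -- iSup = ⊤
    rw [eq_top_iff]
    intro v _
    have h1 : p • v ∈ iSup W := by
      rw [← hsum v]
      apply Submodule.sum_mem
      intro i hi
      have hi' : i < p := Finset.mem_range.mp hi
      apply Submodule.mem_iSup_of_mem (⟨i, hi'⟩ : Fin p)
      rw [hWmem]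
      exact rho_nm_self ρ (hap i) v
    have : v = (p : ZMod q)⁻¹ • (p • v) := by
      rw [← Nat.cast_smul_eq_nsmul (ZMod q), smul_smul, inv_mul_cancel₀ hpne, one_smul]
    rw [this]
    exact Submodule.smul_mem _ _ h1
  · -- independence
    rw [iSupIndep_def]
    intro i
    rw [Submodule.disjoint_def]
    intro w hwi hws
    apply hpunit
    have h1 : nm p (ρ (x * z ^ (i : ℕ))) w = p • w :=
      nm_of_fixed (P := V ≃ₗ[ZMod q] V) (E := V) p ((hWmem i w).mp hwi)
    rw [← h1]
    let E : V →ₗ[ZMod q] V :=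
      ∑ k ∈ range p, ((ρ ((x * z ^ (i : ℕ)) ^ k) : V ≃ₗ[ZMod q] V) : V →ₗ[ZMod q] V)
    have hE : ∀ v, E v = nm p (ρ (x * z ^ (i : ℕ))) v := by
      intro v
      rw [nm_rho]
      simp only [E, LinearMap.sum_apply, LinearEquiv.coe_coe]
    have hle : (⨆ j, ⨆ (_ : j ≠ i), W j) ≤ LinearMap.ker E := by
      apply iSup₂_le
      intro j hj u hu
      rw [LinearMap.mem_ker, hE]
      have hu' : ρ (x * z ^ (j : ℕ)) u = u := (hWmem j u).mp hu
      have hij : (i : ℕ) ≠ (j : ℕ) := fun h => hj (Fin.ext h.symm)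
      have hi := i.2
      have hj' := j.2
      have hsplit : x * z ^ (i : ℕ) = x * z ^ (j : ℕ) * z ^ ((i : ℕ) + p - (j : ℕ)) := by
        rw [mul_assoc, ← pow_add]
        have : (j : ℕ) + ((i : ℕ) + p - (j : ℕ)) = (i : ℕ) + p := by omega
        rw [this, pow_add, hzp, mul_one]
      rw [hsplit]
      have hd1 : z ^ ((i : ℕ) + p - (j : ℕ)) ≠ 1 := by
        intro h
        have hdvd : p ∣ (i : ℕ) + p - (j : ℕ) := by
          have := orderOf_dvd_of_pow_eq_one h
          rwa [hordz] at this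
        obtain ⟨k, hk⟩ := hdvd
        have hk1 : k = 1 := by
          rcases Nat.lt_or_ge k 1 with h0 | h1
          · have : k = 0 := by omega
            rw [this] at hk; omega
          · rcases Nat.lt_or_ge k 2 with h2 | h2
            · omega
            · have : p * 2 ≤ p * k := Nat.mul_le_mul_left p h2
              omega
        rw [hk1] at hk
        omega
      apply nm_kill ρ
      · have : Commute (x * z ^ (j : ℕ)) (z ^ ((i : ℕ) + p - (j : ℕ))) := hzkcomm _ _
        exact this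
      · rw [← pow_mul, mul_comm, pow_mul, hzp, one_pow]
      · exact fpf_of_central ρ hρ hirr (hzkc _) hd1
      · exact hu'
    have := hle hws
    rw [LinearMap.mem_ker, hE] at this
    exact this
  · -- H preserves each W i
    intro h hh i w hw
    rw [hWmem] at hw ⊢
    have hhx : h * x = x * h := (hHmem h).mp hh
    have hcomm : (x * z ^ (i : ℕ)) * h = h * (x * z ^ (i : ℕ)) := by
      rw [mul_assoc, ← hzkcomm (i : ℕ) h, ← mul_assoc, ← hhx, mul_assoc]
    rw [← rho_mul_apply, hcomm, rho_mul_apply, hw]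
  · -- each W i is fixed pointwise by a nontrivial element of H
    intro i
    refine ⟨x * z ^ (i : ℕ), ?_, hane _, fun w hw => (hWmem i w).mp hw⟩
    rw [hHmem]
    rw [mul_assoc, ← hzkcomm (i : ℕ) x, ← mul_assoc]
  · -- elements outside H permute the W i cyclically
    intro g hg
    have hmem := hconj g
    rw [← mem_powers_iff_mem_zpowers] at hmem
    obtain ⟨c, hc⟩ := (Submonoid.mem_powers_iff _ _).mp hmem
    have hgx : g * x * g⁻¹ = x * z ^ c := by
      rw [hzkcomm c x, hc]; group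
    have hpc : ¬ p ∣ c := by
      intro hdvd
      apply hg
      rw [hHmem]
      have h1 : z ^ c = 1 := by
        rw [← hordz] at hdvd
        exact orderOf_dvd_iff_pow_eq_one.mp hdvd
      rw [h1, mul_one] at hgx
      calc g * x = (g * x * g⁻¹) * g := by group
        _ = x * g := by rw [hgx]
    have hppos : 0 < p := hp.out.pos
    have hσinj : Function.Injective
        (fun i : Fin p => (⟨((i : ℕ) + c) % p, Nat.mod_lt _ hppos⟩ : Fin p)) := by
      intro i j hij
      have h1 : ((i : ℕ) + c) % p = ((j : ℕ) + c) % p := by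
        have := congrArg Fin.val hij
        exact this
      have h2 : (i : ℕ) % p = (j : ℕ) % p := Nat.ModEq.add_right_cancel' c h1
      rw [Nat.mod_eq_of_lt i.2, Nat.mod_eq_of_lt j.2] at h2
      exact Fin.ext h2
    let σ : Equiv.Perm (Fin p) := Equiv.ofBijective _ (Finite.injective_iff_bijective.mp hσinj)
    have hσapp : ∀ i : Fin p, ((σ i : Fin p) : ℕ) = ((i : ℕ) + c) % p := fun i => rfl
    have hσpow : ∀ (k : ℕ) (i : Fin p), (((σ ^ k) i : Fin p) : ℕ) = ((i : ℕ) + k * c) % p := by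
      intro k
      induction k with
      | zero =>
        intro i
        rw [pow_zero, Equiv.Perm.one_apply, Nat.zero_mul, Nat.add_zero, Nat.mod_eq_of_lt i.2]
      | succ k ih =>
        intro i
        rw [pow_succ', Equiv.Perm.mul_apply, hσapp, ih, Nat.mod_add_mod]
        congr 1
        ring
    refine ⟨σ, ?_, ?_⟩
    · apply orderOf_eq_prime
      · ext i
        rw [hσpow, Equiv.Perm.one_apply, Nat.add_mul_mod_self_left, Nat.mod_eq_of_lt i.2]
      · intro h
        apply hpc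
        have := hσapp ⟨0, hppos⟩
        rw [h, Equiv.Perm.one_apply] at this
        simp only [Nat.zero_add] at this
        exact Nat.dvd_of_mod_eq_zero this.symm
    · intro i
      show (fixSub ρ (x * z ^ (i : ℕ))).map (ρ g : V →ₗ[ZMod q] V) = fixSub ρ (x * z ^ ((σ i : Fin p) : ℕ))
      rw [map_fixSub, hσapp]
      congr 1
      have h1 : g * (x * z ^ (i : ℕ)) * g⁻¹ = (g * x * g⁻¹) * z ^ (i : ℕ) := by
        calc g * (x * z ^ (i : ℕ)) * g⁻¹ = g * x * (z ^ (i : ℕ) * g⁻¹) := by group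
          _ = g * x * (g⁻¹ * z ^ (i : ℕ)) := by rw [← hzkcomm (i : ℕ) g⁻¹]
          _ = (g * x * g⁻¹) * z ^ (i : ℕ) := by group
      rw [h1, hgx, mul_assoc, ← pow_add, add_comm c, pow_eq_pow_mod ((i : ℕ) + c) hzp]



/-- Let a finite p-group G act faithfully and irreducibly on a non-trivial finite vector space V over the field with q elements (q prime), and suppose G is not cyclic, generalized quaternion, dihedral or semidihedral. Then G has a subgroup H of index p and V is the direct sum of p subspaces, each invariant under H, on none of which H acts faithfully, and which every element of G outside H permutes in a single p-cycle. -/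
theorem result
    (q : ℕ) [Fact q.Prime] {V : Type*} [AddCommGroup V] [Module (ZMod q) V] [Finite V] [Nontrivial V]
    {G : Type*} [Group G] [Finite G] (p : ℕ) [Fact p.Prime] (hG : IsPGroup p G)
    (ρ : G →* (V ≃ₗ[ZMod q] V)) (hρ : Function.Injective ρ)
    (hirr : ∀ W : Submodule (ZMod q) V, (∀ g : G, ∀ w ∈ W, ρ g w ∈ W) → W = ⊥ ∨ W = ⊤)
    (hnc : ¬ IsCyclic G) (hnq : ∀ n : ℕ, ¬ Nonempty (G ≃* QuaternionGroup n))
    (hnd : ∀ n : ℕ, ¬ Nonempty (G ≃* DihedralGroup n)) (hnsd : ¬ Cfsg.IsQuasiDihedral G) :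
    ∃ (H : Subgroup G) (W : Fin p → Submodule (ZMod q) V), H.index = p ∧
      iSup W = ⊤ ∧ iSupIndep W ∧
      (∀ h ∈ H, ∀ i, ∀ w ∈ W i, ρ h w ∈ W i) ∧
      (∀ i, ∃ h ∈ H, h ≠ 1 ∧ ∀ w ∈ W i, ρ h w = w) ∧
      ∀ g : G, g ∉ H → ∃ σ : Equiv.Perm (Fin p), orderOf σ = p ∧ ∀ i, (W i).map (ρ g : V →ₗ[ZMod q] V) = W (σ i) := by
  rcases Cfsg.Agent.Lib.Helper52.normal_rank_two p hG with ⟨N, hNn, hNcard, hNexp⟩ | hcyc | ⟨hp2, hidx, hna⟩
  · exact main_construction q p hG ρ hρ hirr N hNn hNcard hNexp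
  · exact absurd hcyc hnc
  · exfalso
    subst hp2
    rcases Cfsg.Agent.Lib.Helper73.taussky hG hidx hna with ⟨k, hk⟩ | ⟨k, hcard, a, b, ha, hb, hab⟩ | ⟨k, hk⟩
    · exact hnd _ hk
    · apply hnsd
      refine ⟨k + 3, by omega, hcard, a, b, ha, hb, ?_⟩
      rw [hab]
      rfl
    · exact hnq _ hk

end Cfsg.Agent.S3380
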