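import Cfsg.Statements.S3381

set_option autoImplicit false
open Cfsg

namespace Cfsg.Agent.S3381

section
variable (q : ℕ) [Fact q.Prime] {V : Type*} [AddCommGroup V] [Module (ZMod q) V]
  {G : Type*} [Group G] (ρ : G →* (V ≃ₗ[ZMod q] V))

/-- The key uniqueness lemma: every nonzero vector has a unique nonidentity stabilizing element. -/
theorem key (hstab : ∀ v : V, v ≠ 0 → Nat.card {g : G // ρ g v = v} = 2) (v : V) (hv : v ≠ 0) :
    ∃ t : G, t ≠ 1 ∧ ρ t v = v ∧ t * t = 1 ∧ ∀ g : G, g ≠ 1 → ρ g v = v → g = t := by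
  have h2 := hstab v hv
  have one_mem : ρ 1 v = v := by simp
  rw [Nat.card_eq_two_iff' (⟨1, one_mem⟩ : {g : G // ρ g v = v})] at h2
  obtain ⟨⟨t, ht⟩, hne, huniq⟩ := h2
  have ht1 : t ≠ 1 := fun h => hne (Subtype.ext h)
  have huniq' : ∀ g : G, g ≠ 1 → ρ g v = v → g = t := by
    intro g hg hgv
    have := huniq ⟨g, hgv⟩ (fun h => hg (congrArg Subtype.val h))
    exact congrArg Subtype.val this
  refine ⟨t, ht1, ht, ?_, huniq'⟩
  by_contra hcon
  have htt : ρ (t * t) v = v := by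
    rw [map_mul]; show ρ t (ρ t v) = v; rw [ht, ht]
  have := huniq' (t * t) hcon htt
  have : t = 1 := by
    have h3 : t * t = t * 1 := by rw [mul_one]; exact this
    exact mul_left_cancel h3
  exact ht1 this

theorem rho_sq {t : G} (ht : t * t = 1) (v : V) : ρ t (ρ t v) = v := by
  have : ρ (t * t) v = v := by rw [ht]; simp
  rwa [map_mul] at this

theorem rho_comm {c : G} (hc : c ∈ Subgroup.center G) (t : G) (v : V) : ρ c (ρ t v) = ρ t (ρ c v) := by
  have h1 : ρ (c * t) v = ρ c (ρ t v) := by rw [map_mul]; rfl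
  have h2 : ρ (t * c) v = ρ t (ρ c v) := by rw [map_mul]; rfl
  rw [← h1, ← h2, Subgroup.mem_center_iff.mp hc t]

theorem exists_moved (hρ : Function.Injective ρ) (c : G) (hc1 : c ≠ 1) : ∃ v₀ : V, ρ c v₀ ≠ v₀ := by
  have hne : ρ c ≠ 1 := by
    intro h
    apply hc1
    apply hρ
    rw [h, map_one]
  by_contra hcon
  push Not at hcon
  apply hne
  ext v
  exact hcon v

theorem q_ne_two (hρ : Function.Injective ρ)
    (hstab : ∀ v : V, v ≠ 0 → Nat.card {g : G // ρ g v = v} = 2)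
    (c : G) (hc1 : c ≠ 1) (hcc : c * c = 1) (hc : c ∈ Subgroup.center G) : q ≠ 2 := by
  intro hq2
  have char2 : ∀ v : V, v + v = 0 := by
    intro v
    have : (2 : ZMod q) • v = 0 := by
      have h : (2 : ZMod q) = 0 := by
        have := (ZMod.natCast_eq_zero_iff 2 q).mpr (by rw [hq2])
        exact_mod_cast this
      rw [h, zero_smul]
    rwa [two_smul] at this
  have neg_eq : ∀ v : V, -v = v := fun v => by
    have := char2 v
    exact neg_eq_of_add_eq_zero_left this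
  obtain ⟨v₀, hv₀⟩ := exists_moved q ρ hρ c hc1
  have hv₀0 : v₀ ≠ 0 := by
    rintro rfl
    exact hv₀ (map_zero _)
  set u := ρ c v₀ + v₀ with hu
  have hu0 : u ≠ 0 := by
    intro h
    apply hv₀
    have : ρ c v₀ = -v₀ := eq_neg_of_add_eq_zero_left h
    rw [this, neg_eq]
  have hcu : ρ c u = u := by
    rw [hu, map_add, rho_sq q ρ hcc, add_comm]
  obtain ⟨t, ht1, htv, htt, -⟩ := key q ρ hstab v₀ hv₀0
  have htc : t ≠ c := by
    rintro rfl
    exact hv₀ htv
  obtain ⟨s, hs1, hsu, hss, hsuniq⟩ := key q ρ hstab u hu0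
  have hcs : c = s := hsuniq c hc1 hcu
  by_cases hu' : ρ t u + u = 0
  · have : ρ t u = u := by
      have : ρ t u = -u := eq_neg_of_add_eq_zero_left hu'
      rw [this, neg_eq]
    have hts : t = s := hsuniq t ht1 this
    exact htc (hts.trans hcs.symm)
  · obtain ⟨s', hs'1, hs'u, hs's, hs'uniq⟩ := key q ρ hstab _ hu'
    have h1 : ρ t (ρ t u + u) = ρ t u + u := by
      rw [map_add, rho_sq q ρ htt, add_comm]
    have h2 : ρ c (ρ t u + u) = ρ t u + u := by
      rw [map_add, rho_comm q ρ hc, hcu]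
    exact htc ((hs'uniq t ht1 h1).trans (hs'uniq c hc1 h2).symm)


theorem two_ne_zero_of (hq : q ≠ 2) : (2 : ZMod q) ≠ 0 := by
  intro h
  have h' : ((2 : ℕ) : ZMod q) = 0 := by exact_mod_cast h
  rw [ZMod.natCast_eq_zero_iff] at h'
  have hp : q.Prime := Fact.out
  exact hq ((Nat.prime_dvd_prime_iff_eq hp Nat.prime_two).mp h')

theorem eq_zero_of_add_self (hq : q ≠ 2) (v : V) (h : v + v = 0) : v = 0 := by
  have h2 : (2 : ZMod q) • v = 0 := by rw [two_smul]; exact h
  rcases smul_eq_zero.mp h2 with h3 | h3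
  · exact absurd h3 (two_ne_zero_of q hq)
  · exact h3

theorem central_no_fix (hρ : Function.Injective ρ)
    (hstab : ∀ v : V, v ≠ 0 → Nat.card {g : G // ρ g v = v} = 2) (hq : q ≠ 2)
    (c : G) (hc1 : c ≠ 1) (hcc : c * c = 1) (hc : c ∈ Subgroup.center G) (u : V) (hcu : ρ c u = u) :
    u = 0 := by
  by_contra hu0
  obtain ⟨v₀, hv₀⟩ := exists_moved q ρ hρ c hc1
  set w := v₀ - ρ c v₀ with hw
  have hw0 : w ≠ 0 := sub_ne_zero.mpr (Ne.symm hv₀)
  have hcw : ρ c w = -w := by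
    rw [hw, map_sub, rho_sq q ρ hcc, neg_sub]
  have hcw' : ρ c w ≠ w := by
    intro h
    rw [hcw] at h
    apply hw0
    apply eq_zero_of_add_self q hq
    nth_rewrite 1 [← h]
    exact neg_add_cancel w
  have hx0 : u + w ≠ 0 := by
    intro h
    have huw : u = -w := eq_neg_of_add_eq_zero_left h
    apply hcw'
    rw [huw, map_neg, neg_inj] at hcu
    exact hcu
  obtain ⟨t, ht1, htx, htt, -⟩ := key q ρ hstab _ hx0
  have hcx : ρ c (u + w) = u - w := by rw [map_add, hcu, hcw, sub_eq_add_neg]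
  have hty : ρ t (u - w) = u - w := by
    rw [← hcx, ← rho_comm q ρ hc, htx]
  rw [map_add] at htx
  rw [map_sub] at hty
  have htu : ρ t u = u := by
    have h : (ρ t u - u) + (ρ t u - u) = 0 := by
      have := congrArg₂ (· + ·) htx hty
      have h2 : ρ t u + ρ t u = u + u := by
        have h3 : ρ t u + ρ t w + (ρ t u - ρ t w) = ρ t u + ρ t u := by abel
        have h4 : u + w + (u - w) = u + u := by abel
        rw [← h3, ← h4]; exact this
      have h5 : (ρ t u - u) + (ρ t u - u) = (ρ t u + ρ t u) - (u + u) := by abel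
      rw [h5, h2, sub_self]
    exact sub_eq_zero.mp (eq_zero_of_add_self q hq _ h)
  have htw : ρ t w = w := by
    rw [htu] at htx
    exact add_left_cancel htx
  obtain ⟨s, -, -, -, hsuniq⟩ := key q ρ hstab u hu0
  have htc : t = c := (hsuniq t ht1 htu).trans (hsuniq c hc1 hcu).symm
  rw [htc] at htw
  exact hcw' htw

theorem central_neg (hρ : Function.Injective ρ)
    (hstab : ∀ v : V, v ≠ 0 → Nat.card {g : G // ρ g v = v} = 2) (hq : q ≠ 2)
    (c : G) (hc1 : c ≠ 1) (hcc : c * c = 1) (hc : c ∈ Subgroup.center G) (v : V) :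
    ρ c v = -v := by
  have h : ρ c (v + ρ c v) = v + ρ c v := by
    rw [map_add, rho_sq q ρ hcc, add_comm]
  have := central_no_fix q ρ hρ hstab hq c hc1 hcc hc _ h
  exact eq_neg_of_add_eq_zero_right this


/-- the fixed subspace of `g` -/
def fixSub (g : G) : Submodule (ZMod q) V :=
  LinearMap.eqLocus ((ρ g : V ≃ₗ[ZMod q] V) : V →ₗ[ZMod q] V) LinearMap.id

theorem mem_fixSub {g : G} {v : V} : v ∈ fixSub q ρ g ↔ ρ g v = v := by
  simp [fixSub, LinearMap.mem_eqLocus]

theorem mem_fixSub_mul {g z : G} (hneg : ∀ v, ρ z v = -v) {v : V} :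
    v ∈ fixSub q ρ (g * z) ↔ ρ g v = -v := by
  rw [mem_fixSub, map_mul]
  show ρ g (ρ z v) = v ↔ _
  rw [hneg, map_neg, neg_eq_iff_eq_neg]

theorem isCompl_fixSub (hq : q ≠ 2) {g z : G} (hgg : g * g = 1) (hneg : ∀ v, ρ z v = -v) :
    IsCompl (fixSub q ρ g) (fixSub q ρ (g * z)) := by
  constructor
  · rw [Submodule.disjoint_def]
    intro v h1 h2
    rw [mem_fixSub] at h1
    rw [mem_fixSub_mul q ρ hneg] at h2
    apply eq_zero_of_add_self q hq
    nth_rewrite 1 [← h1]
    rw [h2]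
    exact neg_add_cancel v
  · rw [Submodule.codisjoint_iff_exists_add_eq]
    intro v
    have h2 := two_ne_zero_of q hq
    refine ⟨(2 : ZMod q)⁻¹ • (v + ρ g v), (2 : ZMod q)⁻¹ • (v - ρ g v), ?_, ?_, ?_⟩
    · rw [mem_fixSub, map_smul, map_add, rho_sq q ρ hgg, add_comm]
    · rw [mem_fixSub_mul q ρ hneg, map_smul, map_sub, rho_sq q ρ hgg, ← smul_neg, neg_sub]
    · rw [← smul_add]
      have : v + ρ g v + (v - ρ g v) = (2 : ZMod q) • v := by rw [two_smul]; abel
      rw [this, smul_smul, inv_mul_cancel₀ h2, one_smul]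

theorem card_mul_card_eq (hq : q ≠ 2) {g z : G} (hgg : g * g = 1) (hneg : ∀ v, ρ z v = -v) :
    Nat.card (fixSub q ρ g) * Nat.card (fixSub q ρ (g * z)) = Nat.card V := by
  have e := Submodule.prodEquivOfIsCompl _ _ (isCompl_fixSub q ρ hq hgg hneg)
  rw [← Nat.card_congr e.toEquiv, Nat.card_prod]

variable [Finite V]

theorem card_mul_card_le (p p' : Submodule (ZMod q) V) (h : Disjoint p p') :
    Nat.card p * Nat.card p' ≤ Nat.card V := by
  rw [← Nat.card_prod]
  apply Nat.card_le_card_of_injective (fun x : p × p' => (x.1 : V) + (x.2 : V))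
  rintro ⟨⟨a, ha⟩, ⟨b, hb⟩⟩ ⟨⟨a', ha'⟩, ⟨b', hb'⟩⟩ hab
  simp only at hab
  have h1 : a - a' = b' - b := by
    have : a - a' - (b' - b) = (a + b) - (a' + b') := by abel
    rw [← sub_eq_zero, this, hab, sub_self]
  have h2 : a - a' ∈ p := p.sub_mem ha ha'
  have h3 : a - a' ∈ p' := by rw [h1]; exact p'.sub_mem hb' hb
  have h4 : a - a' = 0 := (Submodule.disjoint_def.mp h) _ h2 h3
  have h5 : b' - b = 0 := by rw [← h1, h4]
  have h6 : a = a' := sub_eq_zero.mp h4
  have h7 : b' = b := sub_eq_zero.mp h5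
  subst h6; subst h7
  rfl


variable [Finite G]

theorem count (I : Set G) (c : ℕ) (hI : ∀ g ∈ I, Nat.card (fixSub q ρ g) = c)
    (ex : ∀ v : V, v ≠ 0 → ∃ g ∈ I, ρ g v = v)
    (uniq : ∀ v : V, v ≠ 0 → ∀ g ∈ I, ∀ h ∈ I, ρ g v = v → ρ h v = v → g = h) :
    Nat.card V = Nat.card I * (c - 1) + 1 := by
  classical
  have : Fintype I := Fintype.ofFinite I
  let ψ : (Σ g : I, {w : fixSub q ρ g.1 // w ≠ 0}) → {v : V // v ≠ 0} :=
    fun x => ⟨x.2.1.1, fun h => x.2.2 (Subtype.ext h)⟩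
  have hψ : Function.Bijective ψ := by
    constructor
    · rintro ⟨⟨g, hg⟩, ⟨⟨w, hw⟩, hw0⟩⟩ ⟨⟨g', hg'⟩, ⟨⟨w', hw'⟩, hw0'⟩⟩ h
      have hww : w = w' := congrArg Subtype.val h
      subst hww
      have hw00 : w ≠ 0 := fun h => hw0 (Subtype.ext h)
      have hgg : g = g' := uniq w hw00 g hg g' hg' ((mem_fixSub q ρ).mp hw) ((mem_fixSub q ρ).mp hw')
      subst hgg
      rfl
    · rintro ⟨v, hv⟩
      obtain ⟨g, hg, hgv⟩ := ex v hv
      exact ⟨⟨⟨g, hg⟩, ⟨⟨v, (mem_fixSub q ρ).mpr hgv⟩, fun h => hv (congrArg Subtype.val h)⟩⟩, rfl⟩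
  have h1 : Nat.card {v : V // v ≠ 0} = Nat.card I * (c - 1) := by
    rw [← Nat.card_congr (Equiv.ofBijective ψ hψ), Nat.card_sigma]
    have : ∀ g : I, Nat.card {w : fixSub q ρ g.1 // w ≠ 0} = c - 1 := by
      intro g
      have h2 := Nat.card_congr (Equiv.optionSubtypeNe (0 : fixSub q ρ g.1))
      rw [Finite.card_option, hI g.1 g.2] at h2
      omega
    simp only [this, Finset.sum_const, Finset.card_univ, smul_eq_mul, Nat.card_eq_fintype_card]
  have h3 := Nat.card_congr (Equiv.optionSubtypeNe (0 : V))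
  rw [Finite.card_option, h1] at h3
  exact h3.symm


end

theorem core_aux (A A' B B' N : ℕ) (hA : 0 < A) (hA' : 0 < A') (hB : 0 < B) (hB' : 0 < B')
    (h1 : A * A' = N) (h2 : B * B' = N)
    (h3 : A * B ≤ N) (h4 : A' * B' ≤ N) : A * B = N := by
  by_contra hne
  have hlt : A * B < N := lt_of_le_of_ne h3 hne
  have hpos : 0 < A' * B' := Nat.mul_pos hA' hB'
  have : (A * B) * (A' * B') < N * N := by
    calc (A * B) * (A' * B') < N * (A' * B') := Nat.mul_lt_mul_of_pos_right hlt hpos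
      _ ≤ N * N := Nat.mul_le_mul_left N h4
  have h5 : (A * B) * (A' * B') = N * N := by
    calc (A * B) * (A' * B') = (A * A') * (B * B') := by ring
      _ = N * N := by rw [h1, h2]
  omega

theorem core {ι : Type*} (I : Set ι) (σ : ι → ι) (a : ι → ℕ) (N : ℕ)
    (hσI : ∀ i ∈ I, σ i ∈ I) (hσσ : ∀ i, σ (σ i) = i)
    (h1 : ∀ i ∈ I, a i * a (σ i) = N) (h2 : ∀ i ∈ I, ∀ j ∈ I, i ≠ j → a i * a j ≤ N)
    (hpos : ∀ i ∈ I, 0 < a i)
    (i j : ι) (hi : i ∈ I) (hj : j ∈ I) (hji : j ≠ i) (hjσ : j ≠ σ i) : a j * a j = N := by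
  have hσi := hσI i hi
  have hσj := hσI j hj
  have hne1 : σ i ≠ σ j := fun h => hji (by rw [← hσσ j, ← h, hσσ])
  have hne2 : i ≠ σ j := fun h => hjσ (by rw [h, hσσ])
  have e1 : a i * a j = N :=
    core_aux _ _ _ _ N (hpos i hi) (hpos _ hσi) (hpos j hj) (hpos _ hσj) (h1 i hi) (h1 j hj)
      (h2 i hi j hj (Ne.symm hji)) (h2 _ hσi _ hσj hne1)
  have e2 : a i * a (σ j) = N := by
    have := core_aux (a i) (a (σ i)) (a (σ j)) (a j) N (hpos i hi) (hpos _ hσi) (hpos _ hσj) (hpos j hj)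
      (h1 i hi) (by rw [mul_comm]; exact h1 j hj)
      (h2 i hi _ hσj hne2) (h2 _ hσi j hj (Ne.symm hjσ))
    exact this
  have e3 : a j = a (σ j) := by
    have : a i * a j = a i * a (σ j) := by rw [e1, e2]
    exact Nat.eq_of_mul_eq_mul_left (hpos i hi) this
  have := h1 j hj
  rw [← e3] at this
  exact this

theorem core_all {ι : Type*} (I : Set ι) (σ : ι → ι) (a : ι → ℕ) (N : ℕ)
    (hσI : ∀ i ∈ I, σ i ∈ I) (hσσ : ∀ i, σ (σ i) = i)
    (h1 : ∀ i ∈ I, a i * a (σ i) = N) (h2 : ∀ i ∈ I, ∀ j ∈ I, i ≠ j → a i * a j ≤ N)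
    (hpos : ∀ i ∈ I, 0 < a i)
    (i j : ι) (hi : i ∈ I) (hj : j ∈ I) (hji : j ≠ i) (hjσ : j ≠ σ i) :
    ∀ k ∈ I, a k * a k = N := by
  intro k hk
  by_cases hki : k = i
  · subst hki
    exact core I σ a N hσI hσσ h1 h2 hpos j k hj hk (Ne.symm hji)
      (fun h => hjσ (by rw [h, hσσ]))
  by_cases hkσ : k = σ i
  · subst hkσ
    have hσj := hσI j hj
    refine core I σ a N hσI hσσ h1 h2 hpos j (σ i) hj (hσI i hi) (Ne.symm hjσ) ?_
    intro h
    apply hji
    rw [← hσσ j, ← h, hσσ]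
  exact core I σ a N hσI hσσ h1 h2 hpos i k hi hk hki hkσ


theorem result
    (q : ℕ) [Fact q.Prime] {V : Type*} [AddCommGroup V] [Module (ZMod q) V] [Finite V] [Nontrivial V]
    {G : Type*} [Group G] [Finite G] (ρ : G →* (V ≃ₗ[ZMod q] V)) (hρ : Function.Injective ρ)
    (hstab : ∀ v : V, v ≠ 0 → Nat.card {g : G // ρ g v = v} = 2)
    (z : G) (hz : orderOf z = 2) (hzc : z ∈ Subgroup.center G) :
    ∃ r : ℕ, Nat.card V = q ^ (2 * r) ∧
      Nat.card {g : G // orderOf g = 2 ∧ g ∉ Subgroup.center G} = q ^ r + 1 := by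
  have hqp : q.Prime := Fact.out
  have hz1 : z ≠ 1 := by
    intro h; rw [h, orderOf_one] at hz; omega
  have hzz : z * z = 1 := by
    have := pow_orderOf_eq_one z
    rwa [hz, pow_two] at this
  have hq : q ≠ 2 := q_ne_two q ρ hρ hstab z hz1 hzz hzc
  have hneg : ∀ v, ρ z v = -v := central_neg q ρ hρ hstab hq z hz1 hzz hzc
  have ord2 : ∀ g : G, orderOf g = 2 → g ≠ 1 ∧ g * g = 1 := by
    intro g hg
    refine ⟨?_, ?_⟩
    · intro h; rw [h, orderOf_one] at hg; omega
    · have := pow_orderOf_eq_one g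
      rwa [hg, pow_two] at this
  set I : Set G := {g | orderOf g = 2 ∧ g ∉ Subgroup.center G} with hIdef
  -- characterization of I
  have charI1 : ∀ g ∈ I, ∃ v : V, v ≠ 0 ∧ ρ g v = v := by
    rintro g ⟨hg2, hgc⟩
    obtain ⟨hg1, hgg⟩ := ord2 g hg2
    have hgz : g ≠ z := fun h => hgc (h ▸ hzc)
    have : ρ g ≠ ρ z := fun h => hgz (hρ h)
    obtain ⟨v, hv⟩ : ∃ v : V, ρ g v ≠ ρ z v := by
      by_contra hcon
      push Not at hcon
      exact this (LinearEquiv.ext hcon)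
    rw [hneg] at hv
    refine ⟨ρ g v + v, fun h => hv (eq_neg_of_add_eq_zero_left h), ?_⟩
    rw [map_add, rho_sq q ρ hgg, add_comm]
  have charI2 : ∀ g : G, g ≠ 1 → ∀ v : V, v ≠ 0 → ρ g v = v → g ∈ I := by
    intro g hg1 v hv hgv
    obtain ⟨t, ht1, htv, htt, huniq⟩ := key q ρ hstab v hv
    have hgt : g = t := huniq g hg1 hgv
    subst hgt
    refine ⟨orderOf_eq_prime (by rw [pow_two]; exact htt) hg1, ?_⟩
    intro hgc
    have := central_neg q ρ hρ hstab hq g hg1 htt hgc v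
    rw [hgv] at this
    apply hv
    apply eq_zero_of_add_self q hq
    nth_rewrite 1 [this]
    exact neg_add_cancel v
  have uniq : ∀ v : V, v ≠ 0 → ∀ g ∈ I, ∀ h ∈ I, ρ g v = v → ρ h v = v → g = h := by
    intro v hv g hg h hh hgv hhv
    obtain ⟨t, -, -, -, huniq⟩ := key q ρ hstab v hv
    exact (huniq g (ord2 g hg.1).1 hgv).trans (huniq h (ord2 h hh.1).1 hhv).symm
  have ex : ∀ v : V, v ≠ 0 → ∃ g ∈ I, ρ g v = v := by
    intro v hv
    obtain ⟨t, ht1, htv, -, -⟩ := key q ρ hstab v hv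
    exact ⟨t, charI2 t ht1 v hv htv, htv⟩
  -- the involution g ↦ g * z on I
  have hσI : ∀ g ∈ I, g * z ∈ I := by
    rintro g ⟨hg2, hgc⟩
    obtain ⟨hg1, hgg⟩ := ord2 g hg2
    have hzcomm := Subgroup.mem_center_iff.mp hzc
    refine ⟨orderOf_eq_prime ?_ ?_, ?_⟩
    · rw [pow_two]
      calc g * z * (g * z) = g * (z * g) * z := by group
        _ = g * (g * z) * z := by rw [hzcomm g]
        _ = (g * g) * (z * z) := by group
        _ = 1 := by rw [hgg, hzz, one_mul]
    · intro h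
      apply hgc
      have : g = z := by
        have h' : g * z = z * z := by rw [h, hzz]
        exact mul_right_cancel h'
      rw [this]; exact hzc
    · intro h
      apply hgc
      have : g = (g * z) * z := by rw [mul_assoc, hzz, mul_one]
      rw [this]
      exact Subgroup.mul_mem _ h hzc
  have hσσ : ∀ g : G, g * z * z = g := fun g => by rw [mul_assoc, hzz, mul_one]
  have h1 : ∀ g ∈ I, Nat.card (fixSub q ρ g) * Nat.card (fixSub q ρ (g * z)) = Nat.card V := by
    intro g hg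
    exact card_mul_card_eq q ρ hq (ord2 g hg.1).2 hneg
  have h2 : ∀ g ∈ I, ∀ h ∈ I, g ≠ h →
      Nat.card (fixSub q ρ g) * Nat.card (fixSub q ρ h) ≤ Nat.card V := by
    intro g hg h hh hgh
    apply card_mul_card_le
    rw [Submodule.disjoint_def]
    intro v hv1 hv2
    by_contra hv0
    exact hgh (uniq v hv0 g hg h hh ((mem_fixSub q ρ).mp hv1) ((mem_fixSub q ρ).mp hv2))
  have hpos : ∀ g ∈ I, 0 < Nat.card (fixSub q ρ g) := fun g _ => Nat.card_pos
  -- existence of two suitable elements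
  obtain ⟨v, hv⟩ := exists_ne (0 : V)
  obtain ⟨i, hi, hiv⟩ := ex v hv
  have hiz := hσI i hi
  obtain ⟨w, hw, hizw⟩ := charI1 _ hiz
  have hne_iz : i ≠ i * z := by
    intro h
    apply hz1
    have : i * 1 = i * z := by rw [mul_one]; exact h
    exact (mul_left_cancel this).symm
  have hx : v + w ≠ 0 := by
    intro h
    have hwv : w = -v := eq_neg_of_add_eq_zero_right h
    have : ρ i w = w := by rw [hwv, map_neg, hiv]
    exact hne_iz (uniq w hw i hi _ hiz this hizw)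
  obtain ⟨j, hj, hjx⟩ := ex _ hx
  have hji : j ≠ i := by
    intro h
    subst h
    rw [map_add, hiv] at hjx
    have : ρ j w = w := add_left_cancel hjx
    exact hne_iz (uniq w hw j hi _ hiz this hizw)
  have hjσ : j ≠ i * z := by
    intro h
    subst h
    rw [map_add, hizw] at hjx
    have : ρ (i * z) v = v := add_right_cancel hjx
    exact hne_iz (uniq v hv i hi _ hiz hiv this)
  have hall := core_all I (fun g => g * z) (fun g => Nat.card (fixSub q ρ g)) (Nat.card V)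
    hσI hσσ h1 h2 hpos i j hi hj hji hjσ
  -- cardinalities
  have hVcard : q ^ Module.finrank (ZMod q) V = Nat.card V := FiniteField.pow_finrank_eq_natCard q V
  set n := Module.finrank (ZMod q) V
  have hi2 := hall i hi
  have hdvd : Nat.card (fixSub q ρ i) ∣ q ^ n := by
    rw [hVcard, ← hi2]; exact dvd_mul_right _ _
  obtain ⟨r, hrn, hr⟩ := (Nat.dvd_prime_pow hqp).mp hdvd
  have hV2 : Nat.card V = q ^ (2 * r) := by
    rw [← hi2, hr, two_mul, pow_add]
  have hc : ∀ g ∈ I, Nat.card (fixSub q ρ g) = q ^ r := by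
    intro g hg
    have := hall g hg
    rw [← hi2, hr] at this
    exact Nat.mul_self_inj.mp this
  have hcount := count q ρ I (q ^ r) hc ex uniq
  refine ⟨r, hV2, ?_⟩
  show Nat.card I = q ^ r + 1
  have hqr : 2 ≤ q ^ r := by
    by_contra hlt
    have hlt' : q ^ r < 2 := by omega
    have h1lt : 1 < Nat.card V := Finite.one_lt_card
    rw [hV2, two_mul, pow_add] at h1lt
    have : q ^ r * q ^ r ≤ 1 * 1 := Nat.mul_le_mul (by omega) (by omega)
    omega
  rw [hV2, two_mul, pow_add] at hcount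
  set c := q ^ r
  set m := Nat.card I
  obtain ⟨d, hd⟩ : ∃ d, c = d + 1 := ⟨c - 1, by omega⟩
  rw [hd] at hcount ⊢
  simp only [Nat.add_sub_cancel] at hcount
  have hdpos : 0 < d := by omega
  have : m * d = (d + 2) * d := by
    have : (d + 1) * (d + 1) = (d + 2) * d + 1 := by ring
    omega
  have := Nat.eq_of_mul_eq_mul_right hdpos this
  omega

end Cfsg.Agent.S3381
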