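import Cfsg.Statements.S3382

set_option autoImplicit false
open Cfsg

namespace Cfsg.Agent.S3382

section basics
variable {q : ℕ} [Fact q.Prime]

/-- diagonal shape -/
def IsD (f : (Fin 2 → ZMod q) ≃ₗ[ZMod q] (Fin 2 → ZMod q)) (a b : ZMod q) : Prop :=
  ∀ v, f v = ![a * v 0, b * v 1]

/-- antidiagonal shape -/
def IsN (f : (Fin 2 → ZMod q) ≃ₗ[ZMod q] (Fin 2 → ZMod q)) (a b : ZMod q) : Prop :=
  ∀ v, f v = ![b * v 1, a * v 0]

variable {f g : (Fin 2 → ZMod q) ≃ₗ[ZMod q] (Fin 2 → ZMod q)} {a b a' b' : ZMod q}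

theorem isD_one : IsD (1 : (Fin 2 → ZMod q) ≃ₗ[ZMod q] (Fin 2 → ZMod q)) 1 1 := by
  intro v; ext i; fin_cases i <;> simp

theorem IsD.mul (hf : IsD f a b) (hg : IsD g a' b') : IsD (f * g) (a * a') (b * b') := by
  intro v; rw [LinearEquiv.mul_apply, hf, hg]; ext i; fin_cases i <;> simp [mul_assoc]

theorem IsD.mulN (hf : IsD f a b) (hg : IsN g a' b') : IsN (f * g) (b * a') (a * b') := by
  intro v; rw [LinearEquiv.mul_apply, hf, hg]; ext i; fin_cases i <;> simp [mul_assoc]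

theorem IsN.mulD (hf : IsN f a b) (hg : IsD g a' b') : IsN (f * g) (a * a') (b * b') := by
  intro v; rw [LinearEquiv.mul_apply, hf, hg]; ext i; fin_cases i <;> simp [mul_assoc]

theorem IsN.mul (hf : IsN f a b) (hg : IsN g a' b') : IsD (f * g) (b * a') (a * b') := by
  intro v; rw [LinearEquiv.mul_apply, hf, hg]; ext i; fin_cases i <;> simp [mul_assoc]

theorem IsD.pow (hf : IsD f a b) (n : ℕ) : IsD (f ^ n) (a ^ n) (b ^ n) := by
  induction n with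
  | zero => simpa using isD_one
  | succ n ih => rw [pow_succ, pow_succ, pow_succ]; exact ih.mul hf

theorem IsD.inv (hf : IsD f a b) (ha : a ≠ 0) (hb : b ≠ 0) : IsD f⁻¹ a⁻¹ b⁻¹ := by
  intro v
  rw [show f⁻¹ v = f.symm v from rfl, LinearEquiv.symm_apply_eq, hf]
  ext i; fin_cases i <;> simp [ha, hb]

theorem IsN.inv (hf : IsN f a b) (ha : a ≠ 0) (hb : b ≠ 0) : IsN f⁻¹ b⁻¹ a⁻¹ := by
  intro v
  rw [show f⁻¹ v = f.symm v from rfl, LinearEquiv.symm_apply_eq, hf]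
  ext i; fin_cases i <;> simp [ha, hb]

theorem IsD.unique (h : IsD f a b) (h' : IsD f a' b') : a = a' ∧ b = b' := by
  have h1 := (h ![1, 1]).symm.trans (h' ![1, 1])
  constructor
  · simpa using congrFun h1 0
  · simpa using congrFun h1 1

theorem IsN.unique (h : IsN f a b) (h' : IsN f a' b') : a = a' ∧ b = b' := by
  have h1 := (h ![1, 1]).symm.trans (h' ![1, 1])
  constructor
  · simpa using congrFun h1 1
  · simpa using congrFun h1 0

theorem IsD.not_isN (h : IsD f a b) (h' : IsN f a' b') : a = 0 := by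
  have h1 := (h ![1, 0]).symm.trans (h' ![1, 0])
  simpa using congrFun h1 0

theorem IsD.ext (h : IsD f a b) (h' : IsD g a b) : f = g := by
  ext v : 1; rw [h, h']

theorem IsN.ext (h : IsN f a b) (h' : IsN g a b) : f = g := by
  ext v : 1; rw [h, h']

theorem IsD.congr (h : IsD f a b) (ha : a = a') (hb : b = b') : IsD f a' b' := by
  subst ha; subst hb; exact h

theorem IsN.congr (h : IsN f a b) (ha : a = a') (hb : b = b') : IsN f a' b' := by
  subst ha; subst hb; exact h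

/-- explicit diagonal element -/
def mkD (a b : ZMod q) (ha : a ≠ 0) (hb : b ≠ 0) :
    (Fin 2 → ZMod q) ≃ₗ[ZMod q] (Fin 2 → ZMod q) where
  toFun v := ![a * v 0, b * v 1]
  invFun v := ![a⁻¹ * v 0, b⁻¹ * v 1]
  map_add' v w := by ext i; fin_cases i <;> simp [mul_add]
  map_smul' c v := by ext i; fin_cases i <;> simp [mul_left_comm]
  left_inv v := by ext i; fin_cases i <;> simp [ha, hb]
  right_inv v := by ext i; fin_cases i <;> simp [ha, hb]

theorem isD_mkD (ha : a ≠ 0) (hb : b ≠ 0) : IsD (mkD a b ha hb) a b := fun _ => rfl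

/-- the coordinate swap -/
def swapE : (Fin 2 → ZMod q) ≃ₗ[ZMod q] (Fin 2 → ZMod q) where
  toFun v := ![v 1, v 0]
  invFun v := ![v 1, v 0]
  map_add' v w := by ext i; fin_cases i <;> simp
  map_smul' c v := by ext i; fin_cases i <;> simp
  left_inv v := by ext i; fin_cases i <;> simp
  right_inv v := by ext i; fin_cases i <;> simp

theorem isN_swapE : IsN (swapE : (Fin 2 → ZMod q) ≃ₗ[ZMod q] (Fin 2 → ZMod q)) 1 1 := by
  intro v; ext i; fin_cases i <;> simp [swapE]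

end basics

/-- the generic index-two step -/
theorem step {G : Type*} [Group G] (ψ : MulAut G) (k : ℕ) (hk : ψ ^ k = 1)
    (h2 : ∀ c : G, c ^ k = 1 → c = 1) (C D : Set G)
    (hC : ∀ c ∈ C, ψ c = c) (hD : ∀ d ∈ D, ψ d ∈ D)
    (hidx : ∀ x ∈ D, ∀ y ∈ D, x ∉ C → y ∉ C → x⁻¹ * y ∈ C) :
    ∀ d ∈ D, ψ d = d := by
  intro d hd
  by_cases hdC : d ∈ C
  · exact hC d hdC
  have hψd : ψ d ∉ C := by
    intro h
    have := hC _ h
    have h3 : ψ d = d := ψ.injective this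
    rw [h3] at h; exact hdC h
  have hc := hidx d hd (ψ d) (hD d hd) hdC hψd
  set c := d⁻¹ * ψ d with hcdef
  have hψc : ψ c = c := hC c hc
  have hψd' : ψ d = d * c := by rw [hcdef]; group
  have key : ∀ j : ℕ, (ψ ^ j) d = d * c ^ j := by
    intro j
    induction j with
    | zero => simp
    | succ j ih =>
      rw [pow_succ', MulAut.mul_apply, ih, map_mul, map_pow, hψc, hψd', pow_succ', mul_assoc]
  have h4 := key k
  rw [hk, MulAut.one_apply] at h4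
  have h5 : c ^ k = 1 := by
    have : d * 1 = d * c ^ k := by simpa using h4
    exact (mul_left_cancel this).symm
  have h6 := h2 c h5
  rw [hψd', h6, mul_one]


section field
variable {q : ℕ} [Fact q.Prime]

theorem sgn_sq {s : ZMod q} (hs : s = 1 ∨ s = -1) : s * s = 1 := by
  rcases hs with rfl | rfl <;> simp

theorem sgn_ne {s : ZMod q} (hs : s = 1 ∨ s = -1) : s ≠ 0 := by
  intro h; have := sgn_sq hs; rw [h] at this; simp at this

theorem sgn_inv {s : ZMod q} (hs : s = 1 ∨ s = -1) : s⁻¹ = s :=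
  inv_eq_of_mul_eq_one_left (sgn_sq hs)

theorem sgn_mul {s s' : ZMod q} (hs : s = 1 ∨ s = -1) (hs' : s' = 1 ∨ s' = -1) :
    s * s' = 1 ∨ s * s' = -1 := by
  rcases hs with rfl | rfl <;> rcases hs' with rfl | rfl <;> simp

theorem sgn_pow {s : ZMod q} (hs : s = 1 ∨ s = -1) {n : ℕ} (hn : 1 ≤ n) : s ^ (2 ^ n) = 1 := by
  obtain ⟨k, rfl⟩ : ∃ k, n = k + 1 := ⟨n - 1, by omega⟩
  rw [pow_succ', pow_mul, pow_two, sgn_sq hs, one_pow]

theorem ne_zero_of_pow {c : ZMod q} {j : ℕ} (h : c ^ (2 ^ j) = 1) : c ≠ 0 := by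
  rintro rfl
  rw [zero_pow (by positivity)] at h
  exact zero_ne_one h

theorem pow_mono {c : ZMod q} {j n : ℕ} (hjn : j ≤ n) (h : c ^ (2 ^ j) = 1) : c ^ (2 ^ n) = 1 := by
  obtain ⟨d, rfl⟩ := Nat.exists_eq_add_of_le hjn
  rw [pow_add, pow_mul, h, one_pow]

theorem half_cases {c : ZMod q} {j : ℕ} (h : c ^ (2 ^ (j + 1)) = 1) :
    c ^ (2 ^ j) = 1 ∨ c ^ (2 ^ j) = -1 := by
  apply mul_self_eq_one_iff.1
  rw [← pow_two, ← pow_mul, ← pow_succ]; exact h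

end field

section big
variable {q : ℕ} [Fact q.Prime] {n : ℕ}

theorem fermat (hq : q = 2 ^ (n + 1) + 1) {a : ZMod q} (ha : a ≠ 0) : a ^ (2 ^ (n + 1)) = 1 := by
  have := ZMod.pow_card_sub_one_eq_one ha
  rwa [show q - 1 = 2 ^ (n + 1) by omega] at this

theorem euler (hq : q = 2 ^ (n + 1) + 1) {c : ZMod q} (hc : c ^ (2 ^ n) = 1) :
    ∃ e : ZMod q, e ≠ 0 ∧ c = e * e := by
  have hc0 := ne_zero_of_pow hc
  have h2 : q / 2 = 2 ^ n := by rw [hq, pow_succ]; omega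
  have := (ZMod.euler_criterion q hc0).2 (by rw [h2]; exact hc)
  obtain ⟨e, he⟩ := this
  refine ⟨e, ?_, he⟩
  rintro rfl
  apply hc0; simpa using he

variable (T : Subgroup ((Fin 2 → ZMod q) ≃ₗ[ZMod q] (Fin 2 → ZMod q)))

/-- `t` is diagonal with parameters `a, s`. -/
def DT (t : T) (a s : ZMod q) : Prop :=
  IsD (t : (Fin 2 → ZMod q) ≃ₗ[ZMod q] (Fin 2 → ZMod q)) a (s * a⁻¹)

/-- `t` is antidiagonal with parameters `a, s`. -/
def NT (t : T) (a s : ZMod q) : Prop :=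
  IsN (t : (Fin 2 → ZMod q) ≃ₗ[ZMod q] (Fin 2 → ZMod q)) a (s * a⁻¹)

variable {T}

theorem DT.unique {t : T} {a s a' s' : ZMod q} (h : DT T t a s) (h' : DT T t a' s') (ha : a ≠ 0) :
    a = a' ∧ s = s' := by
  obtain ⟨h1, h2⟩ := IsD.unique h h'
  subst h1
  exact ⟨rfl, mul_right_cancel₀ (inv_ne_zero ha) h2⟩

theorem DT.quot {x y : T} {a s a' s' : ZMod q} (hx : DT T x a s) (hy : DT T y a' s')
    (ha : a ≠ 0) (hs : s = 1 ∨ s = -1) : DT T (x⁻¹ * y) (a⁻¹ * a') (s * s') := by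
  have h1 := (IsD.inv hx ha (mul_ne_zero (sgn_ne hs) (inv_ne_zero ha))).mul hy
  refine IsD.congr h1 rfl ?_
  rw [mul_inv, mul_inv, inv_inv, sgn_inv hs]; ring

theorem NT.quot {x y : T} {a s a' s' : ZMod q} (hx : NT T x a s) (hy : NT T y a' s')
    (ha : a ≠ 0) (hs : s = 1 ∨ s = -1) : DT T (x⁻¹ * y) (a⁻¹ * a') (s * s') := by
  have h1 := (IsN.inv hx ha (mul_ne_zero (sgn_ne hs) (inv_ne_zero ha))).mul hy
  refine IsD.congr h1 rfl ?_
  rw [mul_inv, mul_inv, inv_inv, sgn_inv hs]; ring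

theorem DT.pow {x : T} {a s : ZMod q} (hx : DT T x a s) (k : ℕ) :
    IsD ((x ^ k : T) : (Fin 2 → ZMod q) ≃ₗ[ZMod q] (Fin 2 → ZMod q)) (a ^ k) ((s * a⁻¹) ^ k) := by
  have := IsD.pow hx k
  simpa using this

theorem DT.eq_one {x : T} {a s : ZMod q} (hx : DT T x a s) (ha : a = 1) (hs : s = 1) : x = 1 := by
  subst ha; subst hs
  apply Subtype.ext
  exact IsD.ext hx (by simpa using isD_one)

theorem isD_coe_one :
    IsD ((1 : T) : (Fin 2 → ZMod q) ≃ₗ[ZMod q] (Fin 2 → ZMod q)) 1 1 := by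
  simpa using isD_one


/-- the shape hypothesis on `T` -/
def Shape (T : Subgroup ((Fin 2 → ZMod q) ≃ₗ[ZMod q] (Fin 2 → ZMod q))) : Prop :=
  ∀ f, f ∈ T ↔ ∃ a s : ZMod q, a ≠ 0 ∧ (s = 1 ∨ s = -1) ∧
    (IsD f a (s * a⁻¹) ∨ IsN f a (s * a⁻¹))

theorem T_cases (hT : Shape T) (t : T) :
    ∃ a s : ZMod q, a ≠ 0 ∧ (s = 1 ∨ s = -1) ∧ (DT T t a s ∨ NT T t a s) :=
  (hT t).1 t.2

theorem exists_DT (hT : Shape T) {a s : ZMod q} (ha : a ≠ 0) (hs : s = 1 ∨ s = -1) :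
    ∃ x : T, DT T x a s :=
  have hb : s * a⁻¹ ≠ 0 := mul_ne_zero (sgn_ne hs) (inv_ne_zero ha)
  ⟨⟨mkD a (s * a⁻¹) ha hb, (hT _).2 ⟨a, s, ha, hs, Or.inl (isD_mkD ha hb)⟩⟩, isD_mkD ha hb⟩

theorem DT.pow_eq_one {x : T} {a s : ZMod q} (hx : DT T x a s) {k : ℕ} (ha : a ^ k = 1)
    (hs : s ^ k = 1) : x ^ k = 1 := by
  apply Subtype.ext
  refine IsD.ext (DT.pow hx k) (IsD.congr isD_coe_one ha.symm ?_)
  rw [mul_pow, inv_pow, ha, hs]; simp

theorem DT.pow_of_eq_one {x : T} {a s : ZMod q} (hx : DT T x a s) {k : ℕ} (h : x ^ k = 1) :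
    a ^ k = 1 := by
  have h1 := DT.pow hx k
  rw [h] at h1
  exact (IsD.unique h1 isD_coe_one).1

theorem NT.sq {x : T} {a s : ZMod q} (hN : NT T x a s) :
    IsD ((x ^ 2 : T) : (Fin 2 → ZMod q) ≃ₗ[ZMod q] (Fin 2 → ZMod q))
      (s * a⁻¹ * a) (a * (s * a⁻¹)) := by
  have := IsN.mul hN hN
  simpa [pow_two] using this

theorem sq_DT' (hq : q = 2 ^ (n + 1) + 1) (hT : Shape T) (x : T) :
    ∃ c : ZMod q, (c ^ (2 ^ n) = 1 ∨ c = 1 ∨ c = -1) ∧ DT T (x ^ 2) c 1 := by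
  obtain ⟨a, s, ha, hs, hD | hN⟩ := T_cases hT x
  · refine ⟨a ^ 2, Or.inl ?_, IsD.congr (DT.pow hD 2) rfl ?_⟩
    · rw [← pow_mul, ← pow_succ']; exact fermat hq ha
    · rw [mul_pow, pow_two s, sgn_sq hs, inv_pow]
  · refine ⟨s, Or.inr hs, ?_⟩
    have h1 : IsD ((x ^ 2 : T) : (Fin 2 → ZMod q) ≃ₗ[ZMod q] (Fin 2 → ZMod q))
        (s * a⁻¹ * a) (a * (s * a⁻¹)) := by
      have := IsN.mul hN hN
      simpa [pow_two] using this
    refine IsD.congr h1 ?_ ?_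
    · field_simp
    · rw [sgn_inv hs]; field_simp

theorem sq_DT (hq : q = 2 ^ (n + 1) + 1) (hn : 1 ≤ n) (hT : Shape T) (x : T) :
    ∃ c : ZMod q, c ^ (2 ^ n) = 1 ∧ DT T (x ^ 2) c 1 := by
  obtain ⟨c, hc | hc, hD⟩ := sq_DT' hq hT x
  · exact ⟨c, hc, hD⟩
  · exact ⟨c, sgn_pow hc hn, hD⟩

theorem sq_char (hq : q = 2 ^ (n + 1) + 1) (hn : 1 ≤ n) (hT : Shape T) (t : T) :
    (∃ x : T, t = x ^ 2) ↔ ∃ c : ZMod q, c ^ (2 ^ n) = 1 ∧ DT T t c 1 := by
  constructor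
  · rintro ⟨x, rfl⟩
    exact sq_DT hq hn hT x
  · rintro ⟨c, hc, hD⟩
    obtain ⟨e, he0, he⟩ := euler hq hc
    obtain ⟨x, hx⟩ := exists_DT hT he0 (Or.inl rfl)
    refine ⟨x, Subtype.ext (IsD.ext hD (IsD.congr (DT.pow hx 2) ?_ ?_))⟩
    · rw [he, pow_two]
    · rw [he, pow_two, mul_inv]; ring

variable (T) in
/-- the squares of exponent dividing `2^j` -/
def W (j : ℕ) : Set T := {t | (∃ x : T, t = x ^ 2) ∧ t ^ (2 ^ j) = 1}

theorem W_char (hq : q = 2 ^ (n + 1) + 1) (hn : 1 ≤ n) (hT : Shape T) {j : ℕ} (hj : j ≤ n)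
    (t : T) : t ∈ W T j ↔ ∃ c : ZMod q, c ^ (2 ^ j) = 1 ∧ DT T t c 1 := by
  constructor
  · rintro ⟨hsq, hpow⟩
    obtain ⟨c, hc, hD⟩ := (sq_char hq hn hT t).1 hsq
    exact ⟨c, DT.pow_of_eq_one hD hpow, hD⟩
  · rintro ⟨c, hc, hD⟩
    exact ⟨(sq_char hq hn hT t).2 ⟨c, pow_mono hj hc, hD⟩, DT.pow_eq_one hD hc (one_pow _)⟩

theorem W_index (hq : q = 2 ^ (n + 1) + 1) (hn : 1 ≤ n) (hT : Shape T) {j : ℕ} (hj : j + 1 ≤ n) :
    ∀ x ∈ W T (j + 1), ∀ y ∈ W T (j + 1), x ∉ W T j → y ∉ W T j → x⁻¹ * y ∈ W T j := by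
  intro x hx y hy hx' hy'
  obtain ⟨c, hc, hxD⟩ := (W_char hq hn hT hj x).1 hx
  obtain ⟨d, hd, hyD⟩ := (W_char hq hn hT hj y).1 hy
  have hj' : j ≤ n := by omega
  have hc' : c ^ (2 ^ j) = -1 :=
    (half_cases hc).resolve_left (fun h => hx' ((W_char hq hn hT hj' x).2 ⟨c, h, hxD⟩))
  have hd' : d ^ (2 ^ j) = -1 :=
    (half_cases hd).resolve_left (fun h => hy' ((W_char hq hn hT hj' y).2 ⟨d, h, hyD⟩))
  refine (W_char hq hn hT hj' _).2 ⟨c⁻¹ * d, ?_, ?_⟩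
  · rw [mul_pow, inv_pow, hc', hd']; simp
  · have := DT.quot hxD hyD (ne_zero_of_pow hc) (Or.inl rfl)
    rwa [one_mul] at this

variable (T) in
/-- centraliser of a single element -/
def A (u : T) : Set T := {t | t * u = u * t}

theorem A_char (hT : Shape T) (u : T) {c d : ZMod q}
    (hu : IsD (u : (Fin 2 → ZMod q) ≃ₗ[ZMod q] (Fin 2 → ZMod q)) c d) (hcd : c ≠ d) (t : T) :
    t ∈ A T u ↔ ∃ a s : ZMod q, a ≠ 0 ∧ (s = 1 ∨ s = -1) ∧ DT T t a s := by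
  constructor
  · intro ht
    obtain ⟨a, s, ha, hs, hD | hN⟩ := T_cases hT t
    · exact ⟨a, s, ha, hs, hD⟩
    · exfalso
      have h1 := IsN.mulD hN hu
      have h2 := IsD.mulN hu hN
      have h3 : ((t * u : T) : (Fin 2 → ZMod q) ≃ₗ[ZMod q] (Fin 2 → ZMod q)) = (u * t : T) := by
        rw [show t * u = u * t from ht]
      rw [Subgroup.coe_mul, Subgroup.coe_mul] at h3
      rw [h3] at h1
      have h4 := (IsN.unique h1 h2).1
      apply hcd
      have h5 : a * c = a * d := by rw [h4, mul_comm]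
      exact mul_left_cancel₀ ha h5
  · rintro ⟨a, s, ha, hs, hD⟩
    apply Subtype.ext
    rw [Subgroup.coe_mul, Subgroup.coe_mul]
    exact IsD.ext (hD.mul hu) (IsD.congr (hu.mul hD) (mul_comm _ _) (mul_comm _ _))

variable (T) in
/-- elements of the centraliser of exponent dividing `2^n` -/
def B (u : T) (n : ℕ) : Set T := {t | t ∈ A T u ∧ t ^ (2 ^ n) = 1}

theorem B_char (hn : 1 ≤ n) (hT : Shape T) (u : T) {c d : ZMod q}
    (hu : IsD (u : (Fin 2 → ZMod q) ≃ₗ[ZMod q] (Fin 2 → ZMod q)) c d) (hcd : c ≠ d) (t : T) :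
    t ∈ B T u n ↔ ∃ a s : ZMod q, a ^ (2 ^ n) = 1 ∧ (s = 1 ∨ s = -1) ∧ DT T t a s := by
  constructor
  · rintro ⟨hA, hpow⟩
    obtain ⟨a, s, ha, hs, hD⟩ := (A_char hT u hu hcd t).1 hA
    exact ⟨a, s, DT.pow_of_eq_one hD hpow, hs, hD⟩
  · rintro ⟨a, s, ha, hs, hD⟩
    exact ⟨(A_char hT u hu hcd t).2 ⟨a, s, ne_zero_of_pow ha, hs, hD⟩,
      DT.pow_eq_one hD ha (sgn_pow hs hn)⟩


theorem WB_index (hq : q = 2 ^ (n + 1) + 1) (hn : 1 ≤ n) (hT : Shape T) (u : T) {c d : ZMod q}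
    (hu : IsD (u : (Fin 2 → ZMod q) ≃ₗ[ZMod q] (Fin 2 → ZMod q)) c d) (hcd : c ≠ d) :
    ∀ x ∈ B T u n, ∀ y ∈ B T u n, x ∉ W T n → y ∉ W T n → x⁻¹ * y ∈ W T n := by
  intro x hx y hy hx' hy'
  obtain ⟨a, s, ha, hs, hxD⟩ := (B_char hn hT u hu hcd x).1 hx
  obtain ⟨a', s', ha', hs', hyD⟩ := (B_char hn hT u hu hcd y).1 hy
  have hs1 : s = -1 := hs.resolve_left
    (fun h => hx' ((W_char hq hn hT le_rfl x).2 ⟨a, ha, h ▸ hxD⟩))
  have hs1' : s' = -1 := hs'.resolve_left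
    (fun h => hy' ((W_char hq hn hT le_rfl y).2 ⟨a', ha', h ▸ hyD⟩))
  subst hs1 hs1'
  refine (W_char hq hn hT le_rfl _).2 ⟨a⁻¹ * a', ?_, ?_⟩
  · rw [mul_pow, inv_pow, ha, ha']; simp
  · have := DT.quot hxD hyD (ne_zero_of_pow ha) (Or.inr rfl)
    rwa [neg_mul_neg, one_mul] at this

theorem BA_index (hq : q = 2 ^ (n + 1) + 1) (hn : 1 ≤ n) (hT : Shape T) (u : T) {c d : ZMod q}
    (hu : IsD (u : (Fin 2 → ZMod q) ≃ₗ[ZMod q] (Fin 2 → ZMod q)) c d) (hcd : c ≠ d) :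
    ∀ x ∈ A T u, ∀ y ∈ A T u, x ∉ B T u n → y ∉ B T u n → x⁻¹ * y ∈ B T u n := by
  intro x hx y hy hx' hy'
  obtain ⟨a, s, ha, hs, hxD⟩ := (A_char hT u hu hcd x).1 hx
  obtain ⟨a', s', ha', hs', hyD⟩ := (A_char hT u hu hcd y).1 hy
  have h1 : a ^ (2 ^ n) = -1 := (half_cases (fermat hq ha)).resolve_left
    (fun h => hx' ((B_char hn hT u hu hcd x).2 ⟨a, s, h, hs, hxD⟩))
  have h1' : a' ^ (2 ^ n) = -1 := (half_cases (fermat hq ha')).resolve_left
    (fun h => hy' ((B_char hn hT u hu hcd y).2 ⟨a', s', h, hs', hyD⟩))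
  refine (B_char hn hT u hu hcd _).2 ⟨a⁻¹ * a', s * s', ?_, sgn_mul hs hs', DT.quot hxD hyD ha hs⟩
  rw [mul_pow, inv_pow, h1, h1']; simp

theorem AT_index (hT : Shape T) (u : T) {c d : ZMod q}
    (hu : IsD (u : (Fin 2 → ZMod q) ≃ₗ[ZMod q] (Fin 2 → ZMod q)) c d) (hcd : c ≠ d) :
    ∀ x y : T, x ∉ A T u → y ∉ A T u → x⁻¹ * y ∈ A T u := by
  intro x y hx' hy'
  obtain ⟨a, s, ha, hs, hD | hN⟩ := T_cases hT x
  · exact absurd ((A_char hT u hu hcd x).2 ⟨a, s, ha, hs, hD⟩) hx'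
  obtain ⟨a', s', ha', hs', hD' | hN'⟩ := T_cases hT y
  · exact absurd ((A_char hT u hu hcd y).2 ⟨a', s', ha', hs', hD'⟩) hy'
  exact (A_char hT u hu hcd _).2 ⟨a⁻¹ * a', s * s', mul_ne_zero (inv_ne_zero ha) ha',
    sgn_mul hs hs', NT.quot hN hN' ha hs⟩

theorem two_group (hq : q = 2 ^ (n + 1) + 1) (hn : 1 ≤ n) (hT : Shape T) (t : T) :
    t ^ (2 ^ (n + 1)) = 1 := by
  obtain ⟨c, hc, hD⟩ := sq_DT hq hn hT t
  have := DT.pow_eq_one hD hc (one_pow _)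
  rwa [← pow_mul, ← pow_succ'] at this

theorem odd_torsion {G : Type*} [Group G] {N k : ℕ} (hk : Odd k) (hG : ∀ t : G, t ^ (2 ^ N) = 1)
    (c : G) (hc : c ^ k = 1) : c = 1 := by
  have h1 : orderOf c ∣ k := orderOf_dvd_of_pow_eq_one hc
  have h2 : orderOf c ∣ 2 ^ N := orderOf_dvd_of_pow_eq_one (hG c)
  have hcop : Nat.Coprime (2 ^ N) k := Nat.Coprime.pow_left _ (Nat.coprime_two_left.mpr hk)
  have := Nat.Coprime.eq_one_of_dvd (hcop.coprime_dvd_left h2) h1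
  exact orderOf_eq_one_iff.1 this

theorem main_big (hq : q = 2 ^ (n + 1) + 1) (hn : 1 ≤ n) (h2 : (2 : ZMod q) ≠ 0)
    (h16 : (16 : ZMod q) ≠ 1) (hT : Shape T) (ψ : MulAut T) (k : ℕ) (hk : Odd k)
    (hψ : ψ ^ k = 1) : ψ = 1 := by
  have hodd : ∀ c : T, c ^ k = 1 → c = 1 := odd_torsion hk (two_group hq hn hT)
  have hW : ∀ j, j ≤ n → ∀ t ∈ W T j, ψ t = t := by
    intro j
    induction j with
    | zero =>
      intro _ t ht
      obtain ⟨c, hc, hD⟩ := (W_char hq hn hT (Nat.zero_le _) t).1 ht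
      have : t = 1 := DT.eq_one hD (by simpa using hc) rfl
      rw [this, map_one]
    | succ j ih =>
      intro hj
      apply step ψ k hψ hodd (W T j) (W T (j + 1)) (ih (by omega)) ?_ (W_index hq hn hT hj)
      rintro t ⟨⟨x, rfl⟩, hpow⟩
      refine ⟨⟨ψ x, map_pow ψ x 2⟩, ?_⟩
      rw [← map_pow, hpow, map_one]
  obtain ⟨x₂, hx₂⟩ := exists_DT hT h2 (Or.inl rfl)
  have hu : IsD ((x₂ ^ 2 : T) : (Fin 2 → ZMod q) ≃ₗ[ZMod q] (Fin 2 → ZMod q))
      (2 ^ 2) ((1 * 2⁻¹) ^ 2) := DT.pow hx₂ 2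
  have hcd : (2 : ZMod q) ^ 2 ≠ (1 * 2⁻¹) ^ 2 := by
    intro h
    apply h16
    have h' : (2 : ZMod q) ^ 2 * 2 ^ 2 = 2 ^ 2 * (1 * 2⁻¹) ^ 2 := by rw [← h]
    have h'' : (2 : ZMod q) ^ 2 * (1 * 2⁻¹) ^ 2 = 1 := by field_simp
    rw [h''] at h'
    rw [← h']; norm_num
  have huW : x₂ ^ 2 ∈ W T n :=
    ⟨⟨x₂, rfl⟩, by rw [← pow_mul, ← pow_succ']; exact two_group hq hn hT x₂⟩
  generalize x₂ ^ 2 = u at hu huW
  have hψu : ψ u = u := hW n le_rfl u huW
  have hAinv : ∀ t ∈ A T u, ψ t ∈ A T u := by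
    intro t ht
    show ψ t * u = u * ψ t
    rw [← hψu, ← map_mul, ← map_mul, show t * u = u * t from ht]
  have hB : ∀ t ∈ B T u n, ψ t = t := by
    apply step ψ k hψ hodd (W T n) (B T u n) (hW n le_rfl) ?_ (WB_index hq hn hT u hu hcd)
    rintro t ⟨hA, hpow⟩
    exact ⟨hAinv t hA, by rw [← map_pow, hpow, map_one]⟩
  have hA : ∀ t ∈ A T u, ψ t = t :=
    step ψ k hψ hodd (B T u n) (A T u) hB hAinv (BA_index hq hn hT u hu hcd)
  have hall : ∀ t ∈ (Set.univ : Set T), ψ t = t :=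
    step ψ k hψ hodd (A T u) Set.univ hA (fun _ _ => trivial)
      (fun x _ y _ => AT_index hT u hu hcd x y)
  apply MulEquiv.ext
  intro t
  rw [MulAut.one_apply]
  exact hall t trivial


theorem exists_NT (hT : Shape T) {a s : ZMod q} (ha : a ≠ 0) (hs : s = 1 ∨ s = -1) :
    ∃ x : T, NT T x a s := by
  have hb : s * a⁻¹ ≠ 0 := mul_ne_zero (sgn_ne hs) (inv_ne_zero ha)
  have h1 : IsN (mkD (s * a⁻¹) a hb ha * swapE) a (s * a⁻¹) :=
    IsN.congr (IsD.mulN (isD_mkD hb ha) isN_swapE) (mul_one _) (mul_one _)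
  exact ⟨⟨_, (hT _).2 ⟨a, s, ha, hs, Or.inr h1⟩⟩, h1⟩

theorem DT.quotN {x y : T} {a s a' s' : ZMod q} (hx : DT T x a s) (hy : NT T y a' s')
    (ha : a ≠ 0) (ha' : a' ≠ 0) (hs : s = 1 ∨ s = -1) :
    NT T (x⁻¹ * y) (s * a * a') (s * s') := by
  have h1 := (IsD.inv hx ha (mul_ne_zero (sgn_ne hs) (inv_ne_zero ha))).mulN hy
  refine IsN.congr h1 ?_ ?_
  · rw [mul_inv, inv_inv, sgn_inv hs]
  · rw [mul_inv, mul_inv, sgn_inv hs]
    have := sgn_sq hs
    field_simp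
    rw [pow_two, this, mul_one]

theorem NT.quotD {x y : T} {a s a' s' : ZMod q} (hx : NT T x a s) (hy : DT T y a' s')
    (ha : a ≠ 0) (ha' : a' ≠ 0) (hs : s = 1 ∨ s = -1) :
    NT T (x⁻¹ * y) (s * a * a') (s * s') := by
  have h1 := (IsN.inv hx ha (mul_ne_zero (sgn_ne hs) (inv_ne_zero ha))).mulD hy
  refine IsN.congr h1 ?_ ?_
  · rw [mul_inv, inv_inv, sgn_inv hs]
  · rw [mul_inv, mul_inv, sgn_inv hs]
    have := sgn_sq hs
    field_simp
    rw [pow_two, this, mul_one]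

end big


theorem e2a : ∀ a : ZMod 2, a ≠ 0 → a = 1 := by decide
theorem e2b : ∀ s : ZMod 2, s = 1 ∨ s = -1 → s = 1 := by decide
theorem e3 : ∀ a : ZMod 3, a ≠ 0 → a = 1 ∨ a = -1 := by decide
theorem e3a : (-1 : ZMod 3) ≠ 0 := by decide
theorem e3b : (-1 : ZMod 3) ≠ 1 := by decide

section two
variable [Fact (Nat.Prime 2)] {T : Subgroup ((Fin 2 → ZMod 2) ≃ₗ[ZMod 2] (Fin 2 → ZMod 2))}

theorem main_two (hT : Shape T) (ψ : MulAut T) : ψ = 1 := by
  have e1 := e2a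
  have e2 := e2b
  apply MulEquiv.ext
  intro t
  rw [MulAut.one_apply]
  obtain ⟨a, s, ha, hs, hD | hN⟩ := T_cases hT t
  · have := DT.eq_one hD (e1 a ha) (e2 s hs)
    rw [this, map_one]
  · obtain ⟨a', s', ha', hs', hD' | hN'⟩ := T_cases hT (ψ t)
    · exfalso
      have h1 : ψ t = 1 := DT.eq_one hD' (e1 a' ha') (e2 s' hs')
      have h2 : t = 1 := ψ.injective (by rw [h1, map_one])
      rw [h2] at hN
      exact one_ne_zero (IsD.not_isN isD_coe_one hN)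
    · have h1 := e1 a ha
      have h2 := e2 s hs
      have h3 := e1 a' ha'
      have h4 := e2 s' hs'
      subst h1 h2 h3 h4
      exact Subtype.ext (IsN.ext hN' hN)

end two

section three
variable [Fact (Nat.Prime 3)] {T : Subgroup ((Fin 2 → ZMod 3) ≃ₗ[ZMod 3] (Fin 2 → ZMod 3))}

variable (T) in
/-- squares -/
def Z3 : Set T := {t | ∃ x : T, t = x ^ 2}

variable (T) in
/-- the cyclic subgroup of order four -/
def C3 : Set T := {t | t ∈ Z3 T ∨ t ^ 2 ≠ 1}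

theorem Z3_char (hT : Shape T) (t : T) :
    t ∈ Z3 T ↔ ∃ e : ZMod 3, (e = 1 ∨ e = -1) ∧ DT T t e 1 := by
  constructor
  · rintro ⟨x, rfl⟩
    obtain ⟨c, hc, hD⟩ := sq_DT' (n := 0) (by norm_num) hT x
    refine ⟨c, ?_, hD⟩
    rcases hc with hc | hc
    · left; simpa using hc
    · exact hc
  · rintro ⟨e, he | he, hD⟩
    · exact ⟨1, by rw [DT.eq_one hD he rfl]; simp⟩
    · subst he
      obtain ⟨y, hy⟩ := exists_NT hT (a := 1) (s := -1) one_ne_zero (Or.inr rfl)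
      refine ⟨y, Subtype.ext (IsD.ext hD ?_)⟩
      have h1 := NT.sq hy
      exact IsD.congr h1 (by simp) (by simp)

theorem sq_eq_one_of_DT {t : T} {a s : ZMod 3} (hD : DT T t a s) (ha : a ≠ 0)
    (hs : s = 1 ∨ s = -1) : t ^ 2 = 1 :=
  DT.pow_eq_one hD (by rw [pow_two]; exact sgn_sq (e3 a ha)) (by rw [pow_two]; exact sgn_sq hs)

theorem C3_char (hT : Shape T) (t : T) :
    t ∈ C3 T ↔ (∃ e : ZMod 3, (e = 1 ∨ e = -1) ∧ DT T t e 1) ∨
      (∃ e : ZMod 3, (e = 1 ∨ e = -1) ∧ NT T t e (-1)) := by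
  constructor
  · rintro (h | h)
    · exact Or.inl ((Z3_char hT t).1 h)
    · obtain ⟨a, s, ha, hs, hD | hN⟩ := T_cases hT t
      · exact absurd (sq_eq_one_of_DT hD ha hs) h
      · rcases hs with rfl | rfl
        · exfalso
          apply h
          have h1 := NT.sq hN
          apply Subtype.ext
          refine IsD.ext h1 (IsD.congr isD_coe_one ?_ ?_)
          · field_simp
          · field_simp
        · exact Or.inr ⟨a, e3 a ha, hN⟩
  · rintro (h | ⟨e, he, hN⟩)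
    · exact Or.inl ((Z3_char hT t).2 h)
    · right
      intro h
      have h1 := NT.sq hN
      rw [h] at h1
      have h2 := (IsD.unique h1 isD_coe_one).1
      have he0 : e ≠ 0 := sgn_ne he
      have h3 : (-1 : ZMod 3) = 1 := by
        have h4 : -1 * e⁻¹ * e = (-1 : ZMod 3) := by field_simp
        exact h4.symm.trans h2
      exact absurd h3 e3b

theorem main_three (hT : Shape T) (ψ : MulAut T) (k : ℕ) (hk : Odd k) (hψ : ψ ^ k = 1) :
    ψ = 1 := by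
  have htg : ∀ t : T, t ^ (2 ^ 2) = 1 := by
    intro t
    obtain ⟨e, he, hD⟩ := (Z3_char hT (t ^ 2)).1 ⟨t, rfl⟩
    have := sq_eq_one_of_DT hD (sgn_ne he) (Or.inl rfl)
    rw [show (2 : ℕ) ^ 2 = 2 * 2 from rfl, pow_mul]; exact this
  have hodd : ∀ c : T, c ^ k = 1 → c = 1 := odd_torsion hk htg
  have h0 : ∀ t ∈ ({1} : Set T), ψ t = t := by
    intro t ht
    rw [Set.mem_singleton_iff] at ht
    rw [ht, map_one]
  have hZinv : ∀ t ∈ Z3 T, ψ t ∈ Z3 T := by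
    rintro t ⟨x, rfl⟩
    exact ⟨ψ x, map_pow ψ x 2⟩
  have hZ : ∀ t ∈ Z3 T, ψ t = t := by
    apply step ψ k hψ hodd {1} (Z3 T) h0 hZinv
    intro x hx y hy hx' hy'
    obtain ⟨e, he, hxD⟩ := (Z3_char hT x).1 hx
    obtain ⟨e', he', hyD⟩ := (Z3_char hT y).1 hy
    have h1 : e = -1 := he.resolve_left (fun h => hx' (DT.eq_one hxD h rfl))
    have h1' : e' = -1 := he'.resolve_left (fun h => hy' (DT.eq_one hyD h rfl))
    subst h1 h1'
    have := DT.quot hxD hyD e3a (Or.inl rfl)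
    exact DT.eq_one this (by simp) (by simp)
  have hCinv : ∀ t ∈ C3 T, ψ t ∈ C3 T := by
    rintro t (h | h)
    · exact Or.inl (hZinv t h)
    · right
      intro h'
      apply h
      apply ψ.injective
      rw [map_pow, h', map_one]
  have hC : ∀ t ∈ C3 T, ψ t = t := by
    apply step ψ k hψ hodd (Z3 T) (C3 T) hZ hCinv
    intro x hx y hy hx' hy'
    rcases (C3_char hT x).1 hx with h | ⟨e, he, hxN⟩
    · exact absurd ((Z3_char hT x).2 h) hx'
    rcases (C3_char hT y).1 hy with h | ⟨e', he', hyN⟩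
    · exact absurd ((Z3_char hT y).2 h) hy'
    have := NT.quot hxN hyN (sgn_ne he) (Or.inr rfl)
    rw [neg_mul_neg, one_mul] at this
    exact (Z3_char hT _).2 ⟨_, sgn_mul (by rw [sgn_inv he]; exact he) he', this⟩
  have hall : ∀ t ∈ (Set.univ : Set T), ψ t = t := by
    apply step ψ k hψ hodd (C3 T) Set.univ hC (fun _ _ => trivial)
    intro x _ y _ hx' hy'
    -- shapes of elements outside C3
    have key : ∀ z : T, z ∉ C3 T → ∃ a : ZMod 3, a ≠ 0 ∧ (DT T z a (-1) ∨ NT T z a 1) := by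
      intro z hz
      obtain ⟨a, s, ha, hs, hD | hN⟩ := T_cases hT z
      · rcases hs with rfl | rfl
        · exact absurd ((C3_char hT z).2 (Or.inl ⟨a, e3 a ha, hD⟩)) hz
        · exact ⟨a, ha, Or.inl hD⟩
      · rcases hs with rfl | rfl
        · exact ⟨a, ha, Or.inr hN⟩
        · exact absurd ((C3_char hT z).2 (Or.inr ⟨a, e3 a ha, hN⟩)) hz
    obtain ⟨a, ha, hxD | hxN⟩ := key x hx'
    · obtain ⟨a', ha', hyD | hyN⟩ := key y hy'
      · have := DT.quot hxD hyD ha (Or.inr rfl)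
        rw [neg_mul_neg, one_mul] at this
        exact (C3_char hT _).2 (Or.inl ⟨_, e3 _ (mul_ne_zero (inv_ne_zero ha) ha'), this⟩)
      · have := DT.quotN hxD hyN ha ha' (Or.inr rfl)
        rw [mul_one] at this
        exact (C3_char hT _).2 (Or.inr ⟨_, e3 _ (mul_ne_zero (mul_ne_zero e3a ha) ha'), this⟩)
    · obtain ⟨a', ha', hyD | hyN⟩ := key y hy'
      · have := NT.quotD hxN hyD ha ha' (Or.inl rfl)
        simp only [one_mul] at this
        exact (C3_char hT _).2 (Or.inr ⟨_, e3 _ (mul_ne_zero ha ha'), this⟩)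
      · have := NT.quot hxN hyN ha (Or.inl rfl)
        rw [one_mul] at this
        exact (C3_char hT _).2 (Or.inl ⟨_, e3 _ (mul_ne_zero (inv_ne_zero ha) ha'), this⟩)
  apply MulEquiv.ext
  intro t
  rw [MulAut.one_apply]
  exact hall t trivial

end three


theorem result (q m : ℕ) [Fact q.Prime] (hq : q = 2 ^ m + 1) (hq5 : q ≠ 5)
    (T : Subgroup ((Fin 2 → ZMod q) ≃ₗ[ZMod q] (Fin 2 → ZMod q)))
    (hT : ∀ f, f ∈ T ↔ ∃ a s : ZMod q, a ≠ 0 ∧ (s = 1 ∨ s = -1) ∧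
      ((∀ v, f v = ![a * v 0, s * a⁻¹ * v 1]) ∨ (∀ v, f v = ![s * a⁻¹ * v 1, a * v 0]))) :
    IsPGroup 2 (MulAut T) := by
  have hS : Shape T := hT
  have hmain : ∀ (ψ : MulAut T) (k : ℕ), Odd k → ψ ^ k = 1 → ψ = 1 := by
    rcases Nat.lt_or_ge m 3 with hm | hm
    · interval_cases m
      · have h2 : q = 2 := by simpa using hq
        subst h2
        intro ψ k _ _
        exact main_two hS ψ
      · have h3 : q = 3 := by simpa using hq
        subst h3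
        exact fun ψ k hk h => main_three hS ψ k hk h
      · exfalso
        apply hq5
        simpa using hq
    · obtain ⟨n, rfl⟩ : ∃ n, m = n + 1 := ⟨m - 1, by omega⟩
      have hn : 1 ≤ n := by omega
      have h8 : 2 ^ 3 ≤ 2 ^ (n + 1) := Nat.pow_le_pow_right (by norm_num) hm
      have h2 : (2 : ZMod q) ≠ 0 := by
        intro h
        have h' : ((2 : ℕ) : ZMod q) = 0 := by simpa using h
        have hd := (ZMod.natCast_eq_zero_iff 2 q).1 h'
        have := Nat.le_of_dvd (by norm_num) hd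
        omega
      have h16 : (16 : ZMod q) ≠ 1 := by
        intro h
        have h' : ((15 : ℕ) : ZMod q) = 0 := by
          have : (16 : ZMod q) - 1 = 0 := sub_eq_zero.2 h
          norm_num at this ⊢
          exact this
        have hd := (ZMod.natCast_eq_zero_iff 15 q).1 h'
        have hle := Nat.le_of_dvd (by norm_num) hd
        have hlt : n + 1 < 4 := by
          by_contra hcon
          have := Nat.pow_le_pow_right (show 0 < 2 by norm_num) (not_lt.1 hcon)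
          omega
        have hn2 : n = 2 := by omega
        subst hn2
        norm_num at hq
        subst hq
        norm_num at hd
      exact fun ψ k hk h => main_big hq hn h2 h16 hS ψ k hk h
  have : Finite ((Fin 2 → ZMod q) ≃ₗ[ZMod q] (Fin 2 → ZMod q)) :=
    Finite.of_injective (fun f => (f : (Fin 2 → ZMod q) → (Fin 2 → ZMod q)))
      DFunLike.coe_injective
  have : Finite (MulAut T) := MulEquiv.finite_left
  intro φ
  have hne : orderOf φ ≠ 0 := (orderOf_pos φ).ne'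
  obtain ⟨a, k, hk, hak⟩ := Nat.exists_eq_two_pow_mul_odd hne
  refine ⟨a, hmain (φ ^ (2 ^ a)) k hk ?_⟩
  rw [← pow_mul, ← hak, pow_orderOf_eq_one]

end Cfsg.Agent.S3382
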