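import Cfsg.Statements.S3389

set_option autoImplicit false
open Cfsg

namespace Cfsg.Agent.S3389

section
variable {G : Type*} [Group G] {Ω : Type*} [MulAction G Ω]

/-- the fixed points of `g` as a sub-action of the centre -/
def fixSub (g : G) : SubMulAction (Subgroup.center G) Ω where
  carrier := MulAction.fixedBy Ω g
  smul_mem' := by
    intro z x hx
    rw [MulAction.mem_fixedBy] at hx ⊢
    have hz := Subgroup.mem_center_iff.mp z.2 g
    show g • ((z : G) • x) = (z : G) • x
    rw [← mul_smul, hz, mul_smul, hx]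

theorem center_dvd [Finite G] [Finite Ω] [FaithfulSMul G Ω] (htr : MulAction.IsPretransitive G Ω) (g : G) :
    Nat.card (Subgroup.center G) ∣ Nat.card (MulAction.fixedBy Ω g) := by
  have hfree : ∀ b : fixSub (Ω := Ω) g, MulAction.stabilizer (Subgroup.center G) b = ⊥ := by
    intro b
    rw [Subgroup.eq_bot_iff_forall]
    intro z hz
    rw [MulAction.mem_stabilizer_iff] at hz
    have hzb : (z : G) • (b : Ω) = b := congrArg Subtype.val hz
    have : (z : G) = 1 := by
      apply FaithfulSMul.eq_of_smul_eq_smul (α := Ω)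
      intro y
      obtain ⟨a, rfl⟩ := MulAction.exists_smul_eq G (b : Ω) y
      rw [one_smul, ← mul_smul, ← Subgroup.mem_center_iff.mp z.2 a, mul_smul, hzb]
    exact Subtype.ext this
  have e := MulAction.selfEquivOrbitsQuotientProd hfree
  have h1 : Nat.card (fixSub (Ω := Ω) g) = Nat.card (MulAction.fixedBy Ω g) := rfl
  rw [← h1, Nat.card_congr e, Nat.card_prod]
  exact dvd_mul_left _ _


theorem commuting_fix [Finite Ω] (p : ℕ) [Fact p.Prime] (a b : G) (hab : a * b = b * a)
    (hb : IsPGroup p (Subgroup.zpowers b)) (α : Ω) (ha : a • α = α)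
    (hlt : Nat.card (MulAction.fixedBy Ω a) < p) : b • α = α := by
  have hsub : MulAction.orbit (Subgroup.zpowers b) α ⊆ MulAction.fixedBy Ω a := by
    rintro _ ⟨⟨c, hc⟩, rfl⟩
    rw [MulAction.mem_fixedBy]
    show a • (c • α) = c • α
    obtain ⟨n, rfl⟩ := Subgroup.mem_zpowers_iff.mp hc
    have hcomm : a * b ^ n = b ^ n * a := (Commute.zpow_right hab n).eq
    rw [← mul_smul, hcomm, mul_smul, ha]
  obtain ⟨n, hn⟩ := hb.card_orbit α
  have hle : Nat.card (MulAction.orbit (Subgroup.zpowers b) α) ≤ Nat.card (MulAction.fixedBy Ω a) :=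
    Nat.card_mono (Set.toFinite _) hsub
  have hn0 : n = 0 := by
    by_contra hn0
    have : p ≤ p ^ n := Nat.le_self_pow hn0 p
    omega
  rw [hn0, pow_zero] at hn
  have hss : Subsingleton (MulAction.orbit (Subgroup.zpowers b) α) :=
    (Nat.card_eq_one_iff_unique.mp hn).1
  have h1 : (⟨b • α, ⟨⟨b, Subgroup.mem_zpowers b⟩, rfl⟩⟩ : MulAction.orbit (Subgroup.zpowers b) α) =
      ⟨α, MulAction.mem_orbit_self α⟩ := Subsingleton.elim _ _
  exact congrArg Subtype.val h1

theorem sylow_le_stabilizer [Finite G] [Finite Ω] (p : ℕ) [Fact p.Prime] (k : ℕ) (hkp : k < p)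
    (hfix : ∀ g : G, g ≠ 1 → Nat.card (MulAction.fixedBy Ω g) ≤ k)
    (P : Sylow p G) (x : G) (hx1 : x ≠ 1) (hxP : x ∈ P) (α : Ω) (hxα : x • α = α) :
    (P : Subgroup G) ≤ MulAction.stabilizer G α := by
  have hPnt : Nontrivial P := ⟨⟨⟨x, hxP⟩, 1, fun h => hx1 (congrArg Subtype.val h)⟩⟩
  have hP : IsPGroup p P := P.isPGroup'
  have hcnt : Nontrivial (Subgroup.center P) := hP.center_nontrivial
  obtain ⟨z, hz⟩ := exists_ne (1 : Subgroup.center P)
  have hzc := z.2
  have hz1 : ((z : P) : G) ≠ 1 := by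
    intro h
    apply hz
    apply Subtype.ext
    apply Subtype.ext
    exact h
  have hpg : ∀ y : G, y ∈ P → IsPGroup p (Subgroup.zpowers y) := by
    intro y hy
    exact hP.to_le (H := Subgroup.zpowers y) (K := P) (by
      rw [Subgroup.zpowers_le]; exact hy)
  have hcomm : ∀ y : G, y ∈ P → ((z : P) : G) * y = y * ((z : P) : G) := by
    intro y hy
    have := Subgroup.mem_center_iff.mp hzc ⟨y, hy⟩
    have := congrArg Subtype.val this
    simpa using this.symm
  -- z fixes α
  have hzα : ((z : P) : G) • α = α := by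
    apply commuting_fix p x _ (hcomm x hxP).symm (hpg _ (z : P).2) α hxα
    exact lt_of_le_of_lt (hfix x hx1) hkp
  intro y hy
  rw [MulAction.mem_stabilizer_iff]
  apply commuting_fix p _ y (hcomm y hy) (hpg y hy) α hzα
  exact lt_of_le_of_lt (hfix _ hz1) hkp


open scoped Pointwise in
theorem exists_normalizer_smul [Finite G] (p : ℕ) [Fact p.Prime] (P : Sylow p G) (α β : Ω)
    (hα : (P : Subgroup G) ≤ MulAction.stabilizer G α) (hβ : (P : Subgroup G) ≤ MulAction.stabilizer G β)
    (x : G) (hx : x • α = β) :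
    ∃ n : G, n ∈ Subgroup.normalizer ((P : Subgroup G) : Set G) ∧ n • α = β := by
  have hQ : ((x⁻¹ • P : Sylow p G) : Subgroup G) ≤ MulAction.stabilizer G α := by
    intro y hy
    rw [Sylow.coe_subgroup_smul, Subgroup.mem_pointwise_smul_iff_inv_smul_mem] at hy
    have hy' : x * y * x⁻¹ ∈ (P : Subgroup G) := by
      simpa [MulAut.smul_def] using hy
    have h1 := hβ hy'
    rw [MulAction.mem_stabilizer_iff] at h1 ⊢
    rw [← hx, ← mul_smul] at h1
    have h2 : x⁻¹ • ((x * y * x⁻¹ * x) • α) = x⁻¹ • (x • α) := by rw [h1]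
    rw [← mul_smul, ← mul_smul] at h2
    simpa using h2
  obtain ⟨y, hy⟩ := MulAction.exists_smul_eq (MulAction.stabilizer G α)
    ((x⁻¹ • P : Sylow p G).subtype hQ) (P.subtype hα)
  rw [Sylow.smul_subtype] at hy
  have hy2 : y • (x⁻¹ • P : Sylow p G) = P := Sylow.subtype_injective hy
  have hy3 : ((y : G) * x⁻¹) • P = P := by
    rw [mul_smul]; exact hy2
  rw [Sylow.smul_eq_iff_mem_normalizer] at hy3
  refine ⟨((y : G) * x⁻¹)⁻¹, Subgroup.inv_mem _ hy3, ?_⟩
  have hyα : (y : G) • α = α := y.2
  have : ((y : G) * x⁻¹)⁻¹ = x * (y : G)⁻¹ := by group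
  rw [this, mul_smul, ← hx]
  congr 1
  rw [inv_smul_eq_iff, hyα]


end

theorem result {G : Type*} [Group G] [Finite G] {Ω : Type*} [Fintype Ω] [MulAction G Ω] [FaithfulSMul G Ω]
    (htr : MulAction.IsPretransitive G Ω) (k : ℕ) (hk : 1 ≤ k)
    (hfix : ∀ g : G, g ≠ 1 → Nat.card (MulAction.fixedBy Ω g) ≤ k) (hex : ∃ g : G, g ≠ 1 ∧ Nat.card (MulAction.fixedBy Ω g) = k) :
    Nat.card (Subgroup.center G) ∣ k ∧ (k = 2 → 2 ∣ Nat.card G) ∧
      ∀ (p : ℕ), p.Prime → k < p → p ∣ Nat.card G → ∀ α : Ω,
        ¬ p ∣ Nat.card (MulAction.stabilizer G α) ∨ ¬ p ∣ (MulAction.stabilizer G α).index := by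
  refine ⟨?_, ?_, ?_⟩
  · obtain ⟨g, -, hg⟩ := hex
    rw [← hg]
    exact center_dvd htr g
  · intro hk2
    subst hk2
    obtain ⟨g, hg1, hg⟩ := hex
    have hne1 : orderOf g ≠ 1 := fun h => hg1 (orderOf_eq_one_iff.mp h)
    obtain ⟨p, hp, hpdvd⟩ := Nat.exists_prime_and_dvd hne1
    have : Fact p.Prime := ⟨hp⟩
    set g' := g ^ (orderOf g / p) with hg'
    have hord : orderOf g' = p := orderOf_pow_orderOf_div (orderOf_pos g).ne' hpdvd
    have hg'1 : g' ≠ 1 := by
      intro h
      rw [h, orderOf_one] at hord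
      exact hp.one_lt.ne hord
    rw [Nat.card_coe_set_eq, Set.ncard_eq_two] at hg
    obtain ⟨α, β, hαβ, hfixg⟩ := hg
    have hsub : MulAction.fixedBy Ω g ⊆ MulAction.fixedBy Ω g' := by
      intro ω hω
      rw [MulAction.mem_fixedBy] at hω ⊢
      exact MulAction.pow_smul_eq_iff_minimalPeriod_dvd.mpr
        ((MulAction.minimalPeriod_eq_one_iff_fixedBy.mpr hω).symm ▸ one_dvd _)
    have hfixg' : MulAction.fixedBy Ω g' = {α, β} := by
      rw [← hfixg]
      symm
      apply Set.eq_of_subset_of_ncard_le hsub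
      · rw [hfixg, Set.ncard_pair hαβ, ← Nat.card_coe_set_eq]
        exact hfix g' hg'1
    have hα : g' • α = α := by
      have : α ∈ MulAction.fixedBy Ω g' := by rw [hfixg']; simp
      exact this
    have hβ : g' • β = β := by
      have : β ∈ MulAction.fixedBy Ω g' := by rw [hfixg']; simp
      exact this
    by_cases hp2 : p = 2
    · rw [← hp2, ← hord]
      exact orderOf_dvd_natCard g'
    have hp3 : 2 < p := lt_of_le_of_ne hp.two_le (Ne.symm hp2)
    have hpg : IsPGroup p (Subgroup.zpowers g') := by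
      apply IsPGroup.of_card (n := 1)
      rw [Nat.card_zpowers, hord, pow_one]
    obtain ⟨P, hP⟩ := hpg.exists_le_sylow
    have hg'P : g' ∈ P := hP (Subgroup.mem_zpowers g')
    have hPα := sylow_le_stabilizer p 2 hp3 hfix P g' hg'1 hg'P α hα
    have hPβ := sylow_le_stabilizer p 2 hp3 hfix P g' hg'1 hg'P β hβ
    obtain ⟨x, hx⟩ := MulAction.exists_smul_eq G α β
    obtain ⟨n, hnN, hnα⟩ := exists_normalizer_smul p P α β hPα hPβ x hx
    have hnβ : n • β = α := by
      have hmem : n • β ∈ MulAction.fixedBy Ω g' := by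
        rw [MulAction.mem_fixedBy]
        have h1 : n⁻¹ * g' * n ∈ (P : Subgroup G) :=
          (Subgroup.mem_normalizer_iff''.mp hnN g').mp hg'P
        have h2 := hPβ h1
        rw [MulAction.mem_stabilizer_iff] at h2
        have h3 : n • ((n⁻¹ * g' * n) • β) = n • β := by rw [h2]
        rw [← mul_smul] at h3
        have h4 : n * (n⁻¹ * g' * n) = g' * n := by group
        rw [h4, mul_smul] at h3
        exact h3
      rw [hfixg'] at hmem
      rcases hmem with h | h
      · exact h
      · exfalso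
        rw [Set.mem_singleton_iff] at h
        have h' : n • β = n • α := h.trans hnα.symm
        exact hαβ (MulAction.injective n h').symm
    have hn2 : ∀ j : ℕ, n ^ (2 * j) • α = α := by
      intro j
      induction j with
      | zero => simp
      | succ j ih =>
        have : n ^ (2 * (j + 1)) = n ^ (2 * j) * (n * n) := by
          rw [mul_add, pow_add, mul_one, pow_two]
        rw [this, mul_smul, mul_smul, hnα, hnβ, ih]
    have heven : 2 ∣ orderOf n := by
      by_contra hodd
      have hodd' : orderOf n % 2 = 1 := by omega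
      have : orderOf n = 2 * (orderOf n / 2) + 1 := by omega
      have h1 : n ^ (orderOf n) • α = α := by rw [pow_orderOf_eq_one, one_smul]
      rw [this, pow_succ, mul_smul, hnα] at h1
      have h2 : n ^ (2 * (orderOf n / 2)) • β = β := by
        have h3 := hn2 (orderOf n / 2)
        have h4 : n • (n ^ (2 * (orderOf n / 2)) • α) = n • α := by rw [h3]
        rw [← mul_smul, ← pow_succ', pow_succ, mul_smul, hnα] at h4
        exact h4
      exact hαβ (h1.symm.trans h2)
    exact heven.trans (orderOf_dvd_natCard n)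
  · intro p hp hkp _ α
    by_cases hdiv : p ∣ Nat.card (MulAction.stabilizer G α)
    · right
      have : Fact p.Prime := ⟨hp⟩
      obtain ⟨x, hx⟩ := exists_prime_orderOf_dvd_card' p hdiv
      have hx1 : (x : G) ≠ 1 := by
        intro h
        have : x = 1 := Subtype.ext h
        rw [this, orderOf_one] at hx
        exact hp.one_lt.ne hx
      have hxord : orderOf (x : G) = p := by rw [Subgroup.orderOf_coe]; exact hx
      have hpg : IsPGroup p (Subgroup.zpowers (x : G)) := by
        apply IsPGroup.of_card (n := 1)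
        rw [Nat.card_zpowers, hxord, pow_one]
      obtain ⟨P, hP⟩ := hpg.exists_le_sylow
      have hxP : (x : G) ∈ P := hP (Subgroup.mem_zpowers _)
      have hPα := sylow_le_stabilizer p k hkp hfix P x hx1 hxP α x.2
      intro hdvd
      exact P.not_dvd_index (hdvd.trans (Subgroup.index_dvd_of_le hPα))
    · left; exact hdiv

end Cfsg.Agent.S3389
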