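import Cfsg.Statements.S3390
import Cfsg.Agent.Lib.Helper61.Fx2
import Cfsg.Agent.Lib.Helper61.Fx4

set_option autoImplicit false
open Cfsg

namespace Cfsg.Agent.S3390

open MulAction Cfsg.Agent.Lib.Helper61.Fx

/-- Let G be a finite group acting faithfully and transitively on a finite set Ω with fixity 2 (every non-identity element fixes at most two points, and some fixes exactly two). Let α ∈ Ω and S a Sylow 2-subgroup of G. Then one of the following holds: the stabilizer S_α of α in S is trivial; S is dihedral or semidihedral and either |S_α| = 2 or |S : S_α| = 2; |S| ≥ 4, S has exactly one orbit of size 2 on Ω, every other S-orbit is regular, and G has a normal subgroup of index 2 or of index |S| which is a Frobenius group; or S ≤ G_α. -/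
theorem result {G : Type*} [Group G] [Finite G] {Ω : Type*} [Fintype Ω] [MulAction G Ω] [FaithfulSMul G Ω] (htr : MulAction.IsPretransitive G Ω)
    (hfix : ∀ g : G, g ≠ 1 → Nat.card (MulAction.fixedBy Ω g) ≤ 2) (hex : ∃ g : G, g ≠ 1 ∧ Nat.card (MulAction.fixedBy Ω g) = 2) (α : Ω) (S : Sylow 2 G) :
    (S : Subgroup G) ⊓ MulAction.stabilizer G α = ⊥ ∨
    (((∃ n : ℕ, Nonempty (↥(S : Subgroup G) ≃* DihedralGroup n)) ∨ Cfsg.IsQuasiDihedral ↥(S : Subgroup G)) ∧
       (Nat.card ↥((S : Subgroup G) ⊓ MulAction.stabilizer G α) = 2 ∨ ((S : Subgroup G) ⊓ MulAction.stabilizer G α).relIndex (S : Subgroup G) = 2)) ∨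
    (4 ≤ Nat.card (S : Subgroup G) ∧
       (∃ ω : Ω, Nat.card (MulAction.orbit ↥(S : Subgroup G) ω) = 2 ∧
          ∀ ω' : Ω, ω' ∉ MulAction.orbit ↥(S : Subgroup G) ω → Nat.card (MulAction.orbit ↥(S : Subgroup G) ω') = Nat.card (S : Subgroup G)) ∧
       ∃ N : Subgroup G, N.Normal ∧ (N.index = 2 ∨ N.index = Nat.card (S : Subgroup G)) ∧ (∃ H : Subgroup ↥N, Cfsg.IsFrobeniusComplement H)) ∨
    (S : Subgroup G) ≤ MulAction.stabilizer G α := by
  classical
  have : Fact (Nat.Prime 2) := ⟨Nat.prime_two⟩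
  by_cases h1 : (S : Subgroup G) ⊓ stabilizer G α = ⊥
  · exact Or.inl h1
  by_cases h4 : (S : Subgroup G) ≤ stabilizer G α
  · exact Or.inr (Or.inr (Or.inr h4))
  right
  have hP : IsPGroup 2 ↥(S : Subgroup G) := S.isPGroup'
  have hF : Fix2 ↥(S : Subgroup G) Ω := by
    intro g hg
    have hg' : (g : G) ≠ 1 := fun e => hg (Subtype.ext e)
    exact hfix (g : G) hg'
  have hFG : Fix2 G Ω := hfix
  have hT1 : stabilizer ↥(S : Subgroup G) α ≠ ⊥ := by
    intro h
    apply h1
    rw [Subgroup.eq_bot_iff_forall]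
    intro g hg
    obtain ⟨hgS, hgα⟩ := Subgroup.mem_inf.1 hg
    have hm : (⟨g, hgS⟩ : ↥(S : Subgroup G)) ∈ stabilizer ↥(S : Subgroup G) α :=
      mem_stabilizer_iff.2 (mem_stabilizer_iff.1 hgα)
    rw [h, Subgroup.mem_bot] at hm
    exact congrArg Subtype.val hm
  have hT2 : stabilizer ↥(S : Subgroup G) α ≠ ⊤ := by
    intro h
    apply h4
    intro g hg
    have hm : (⟨g, hg⟩ : ↥(S : Subgroup G)) ∈ stabilizer ↥(S : Subgroup G) α := by
      rw [h]; exact Subgroup.mem_top _
    exact mem_stabilizer_iff.2 (mem_stabilizer_iff.1 hm)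
  have hstabeq : stabilizer ↥(S : Subgroup G) α =
      ((S : Subgroup G) ⊓ stabilizer G α).subgroupOf (S : Subgroup G) := by
    ext g
    rw [Subgroup.mem_subgroupOf, mem_stabilizer_iff, Subgroup.mem_inf, mem_stabilizer_iff]
    constructor
    · intro h; exact ⟨g.2, h⟩
    · intro h; exact h.2
  have hcardeq : Nat.card (stabilizer ↥(S : Subgroup G) α) =
      Nat.card ↥((S : Subgroup G) ⊓ stabilizer G α) := by
    rw [hstabeq]
    exact Nat.card_congr (Subgroup.subgroupOfEquivOfLe inf_le_left).toEquiv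
  have hidxeq : (stabilizer ↥(S : Subgroup G) α).index =
      ((S : Subgroup G) ⊓ stabilizer G α).relIndex (S : Subgroup G) := by
    rw [hstabeq]; rfl
  rcases structure_two hP hF α hT1 hT2 with ⟨hD, hc⟩ | ⟨hidx, β, hβα, hSβ, hall, hreg⟩
  · left
    refine ⟨?_, ?_⟩
    · rcases hD with h | h
      · exact Or.inl h
      · exact Or.inr h
    · rw [← hcardeq, ← hidxeq]
      exact hc
  · right; left
    -- an element of `S` outside the stabilizer
    obtain ⟨x, hxS, hxα⟩ := SetLike.not_le_iff_exists.1 h4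
    have hxα' : x • α ≠ α := fun h => hxα (mem_stabilizer_iff.2 h)
    have hxβ : x • α = β := by
      rcases hall ⟨x, hxS⟩ with h | h
      · exact absurd h hxα'
      · exact h
    -- elements of `S` with a fixed point lie in the stabilizer of `α`
    have hFP : ∀ s ∈ (S : Subgroup G), ∀ ω : Ω, s • ω = ω → s • α = α := by
      intro s hs ω hω
      by_contra hsα
      by_cases h5 : ω = α
      · rw [h5] at hω; exact hsα hω
      by_cases h6 : ω = β
      · rw [h6] at hω
        have hm : (⟨s, hs⟩ : ↥(S : Subgroup G)) ∈ stabilizer ↥(S : Subgroup G) β :=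
          mem_stabilizer_iff.2 hω
        rw [hSβ] at hm
        exact hsα (mem_stabilizer_iff.1 hm)
      · have hm : (⟨s, hs⟩ : ↥(S : Subgroup G)) ∈ stabilizer ↥(S : Subgroup G) ω :=
          mem_stabilizer_iff.2 hω
        rw [hreg ω h5 h6, Subgroup.mem_bot] at hm
        have hs1 : s = 1 := congrArg Subtype.val hm
        rw [hs1, one_smul] at hsα
        exact hsα rfl
    have hcm := (stabilizer ↥(S : Subgroup G) α).card_mul_index
    rw [hidx] at hcm
    have hTc : 2 ≤ Nat.card (stabilizer ↥(S : Subgroup G) α) := by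
      have := (Subgroup.one_lt_card_iff_ne_bot _).2 hT1
      omega
    refine ⟨by omega, ⟨α, ?_, ?_⟩, ?_⟩
    · rw [Nat.card_coe_set_eq, ← MulAction.index_stabilizer]
      exact hidx
    · intro ω' hω'
      have h5 : ω' ≠ α := fun h => hω' (by rw [h]; exact mem_orbit_self α)
      have h6 : ω' ≠ β := by
        intro h
        apply hω'
        rw [h]
        exact ⟨⟨x, hxS⟩, hxβ⟩
      rw [Nat.card_coe_set_eq, ← MulAction.index_stabilizer, hreg ω' h5 h6, Subgroup.index_bot]
    · -- the transfer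
      have hM : ((S : Subgroup G) ⊓ stabilizer G α).relIndex (S : Subgroup G) = 2 := by
        rw [← hidxeq]; exact hidx
      have hconjfix : ∀ (g y : G), y • α = α → (g⁻¹ * y * g) • (g⁻¹ • α) = g⁻¹ • α := by
        intro g y hy
        rw [smul_smul, mul_inv_cancel_right, mul_smul, hy]
      have hx1 : ∀ g : G, g⁻¹ * x * g ∈ (S : Subgroup G) →
          g⁻¹ * x * g ∉ (S : Subgroup G) ⊓ stabilizer G α := by
        intro g _ hm
        have h5 : (g⁻¹ * x * g) • α = α := mem_stabilizer_iff.1 (Subgroup.mem_inf.1 hm).2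
        have h6 : x • (g • α) = g • α := by
          have h7 := congrArg (fun z => g • z) h5
          simp only [smul_smul] at h7
          rw [← mul_assoc, ← mul_assoc, mul_inv_cancel, one_mul, mul_smul] at h7
          exact h7
        exact hxα' (hFP x hxS _ h6)
      have hxsq : (x * x) • α = α := by
        have h5 : (⟨x, hxS⟩ : ↥(S : Subgroup G)) * ⟨x, hxS⟩ ∈ stabilizer ↥(S : Subgroup G) α :=
          (Subgroup.mul_mem_iff_of_index_two hidx).2 Iff.rfl
        exact mem_stabilizer_iff.1 h5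
      have hx2 : ∀ (g : G) (r : ℕ), 2 ∣ r → g⁻¹ * x ^ r * g ∈ (S : Subgroup G) →
          g⁻¹ * x ^ r * g ∈ (S : Subgroup G) ⊓ stabilizer G α := by
        intro g r hr hm
        obtain ⟨k, rfl⟩ := hr
        have h5 : x ^ (2 * k) ∈ stabilizer G α := by
          rw [pow_mul, pow_two]
          exact Subgroup.pow_mem _ (mem_stabilizer_iff.2 hxsq) k
        refine Subgroup.mem_inf.2 ⟨hm, mem_stabilizer_iff.2 ?_⟩
        exact hFP _ hm _ (hconjfix g _ (mem_stabilizer_iff.1 h5))
      obtain ⟨N, hNn, hN2, hxN, hNy⟩ :=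
        transfer_two S ((S : Subgroup G) ⊓ stabilizer G α) hM x hxS hx1 hx2
      have hle : stabilizer G α ≤ N := by
        intro y hy
        apply hNy
        intro g r hm
        have h5 : y ^ r ∈ stabilizer G α := Subgroup.pow_mem _ hy r
        refine Subgroup.mem_inf.2 ⟨hm, mem_stabilizer_iff.2 ?_⟩
        exact hFP _ hm _ (hconjfix g _ (mem_stabilizer_iff.1 h5))
      -- a nonidentity element of the stabilizer in `S`
      obtain ⟨t, htm, ht1⟩ : ∃ t ∈ (S : Subgroup G) ⊓ stabilizer G α, t ≠ 1 := by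
        by_contra hcon
        push Not at hcon
        exact h1 ((Subgroup.eq_bot_iff_forall _).2 hcon)
      obtain ⟨htS, htα'⟩ := Subgroup.mem_inf.1 htm
      have htα : t • α = α := mem_stabilizer_iff.1 htα'
      have htβ : t • β = β := by
        have hm : (⟨t, htS⟩ : ↥(S : Subgroup G)) ∈ stabilizer ↥(S : Subgroup G) α :=
          mem_stabilizer_iff.2 htα
        rw [← hSβ] at hm
        exact mem_stabilizer_iff.1 hm
      -- a point moved by `t`
      obtain ⟨ω, hω⟩ : ∃ ω : Ω, t • ω ≠ ω := by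
        by_contra hcon
        push Not at hcon
        apply ht1
        apply FaithfulSMul.eq_of_smul_eq_smul (α := Ω)
        intro a
        rw [hcon a, one_smul]
      have hωα : ω ≠ α := fun h => hω (h ▸ htα)
      have hωβ : ω ≠ β := fun h => hω (h ▸ htβ)
      obtain ⟨g, hg⟩ := MulAction.exists_smul_eq G α ω
      obtain ⟨n₀, hn₀, hn₀α⟩ : ∃ n₀ ∈ N, n₀ • α ≠ α := by
        by_cases hgN : g ∈ N
        · exact ⟨g, hgN, by rw [hg]; exact hωα⟩
        · refine ⟨x⁻¹ * g, ?_, ?_⟩
          · rw [Subgroup.mul_mem_iff_of_index_two hN2]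
            constructor
            · intro h; exact absurd (N.inv_mem_iff.1 h) hxN
            · intro h; exact absurd h hgN
          · rw [mul_smul, hg]
            intro h
            apply hωβ
            rw [← hxβ, ← h, smul_smul, mul_inv_cancel, one_smul]
      obtain ⟨H, hH1, hH2, hH3⟩ :=
        frob_compl hFG N α β hβα.symm hle x hxN hxβ t ht1 htα htβ n₀ hn₀ hn₀α
      exact ⟨N, hNn, Or.inl hN2, H, hH1, hH2, hH3⟩

end Cfsg.Agent.S3390
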