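import Cfsg.Statements.S3391
import Cfsg.Agent.Lib.Helper6.SzFix
import Cfsg.Agent.Lib.Helper60.SzLieBridge

set_option autoImplicit false
open Cfsg

namespace Cfsg.Agent.S3391


open Cfsg.Agent.Lib.Helper6.Sz

/-- transfer of the statement along a group isomorphism. -/
lemma transfer_main {G G' : Type*} [Group G] [Group G'] (φ : G ≃* G') {Ω : Type*} [Finite Ω]
    [MulAction G Ω] (n₁ n₂ n₃ : ℕ)
    (hmain : ∀ [MulAction G' Ω], MulAction.IsPretransitive G' Ω →
      (∀ g : G', g ≠ 1 → Nat.card (MulAction.fixedBy Ω g) ≤ 2) →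
      (∃ g : G', g ≠ 1 ∧ Nat.card (MulAction.fixedBy Ω g) = 2) →
      (Nat.card Ω = n₁ ∧ MulAction.IsMultiplyPretransitive G' Ω 2) ∨
      (Nat.card Ω = n₂ ∧ ∀ α : Ω, Nat.card (MulAction.stabilizer G' α) = n₃))
    (htr : MulAction.IsPretransitive G Ω)
    (hfix : ∀ g : G, g ≠ 1 → Nat.card (MulAction.fixedBy Ω g) ≤ 2)
    (hex : ∃ g : G, g ≠ 1 ∧ Nat.card (MulAction.fixedBy Ω g) = 2) :
    (Nat.card Ω = n₁ ∧ MulAction.IsMultiplyPretransitive G Ω 2) ∨
    (Nat.card Ω = n₂ ∧ ∀ α : Ω, Nat.card (MulAction.stabilizer G α) = n₃) := by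
  let inst : MulAction G' Ω := MulAction.compHom Ω (φ.symm : G' →* G)
  have key : ∀ (g' : G') (ω : Ω), g' • ω = φ.symm g' • ω := fun _ _ => rfl
  have hfb : ∀ g' : G', MulAction.fixedBy Ω g' = MulAction.fixedBy Ω (φ.symm g') := by
    intro g'
    ext ω
    simp only [MulAction.mem_fixedBy, key]
  have htr' : MulAction.IsPretransitive G' Ω := by
    constructor
    intro a b
    obtain ⟨g, hg⟩ := MulAction.exists_smul_eq G a b
    exact ⟨φ g, by rw [key, φ.symm_apply_apply, hg]⟩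
  have hfix' : ∀ g : G', g ≠ 1 → Nat.card (MulAction.fixedBy Ω g) ≤ 2 := by
    intro g' hg'
    rw [hfb]
    apply hfix
    intro h
    apply hg'
    have := congrArg φ h
    rwa [φ.apply_symm_apply, map_one] at this
  have hex' : ∃ g : G', g ≠ 1 ∧ Nat.card (MulAction.fixedBy Ω g) = 2 := by
    obtain ⟨g, hg1, hg2⟩ := hex
    refine ⟨φ g, ?_, ?_⟩
    · intro h
      apply hg1
      have := congrArg φ.symm h
      rwa [φ.symm_apply_apply, map_one] at this
    · rw [hfb, φ.symm_apply_apply, hg2]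
  rcases hmain htr' hfix' hex' with ⟨h1, h2⟩ | ⟨h1, h2⟩
  · left
    refine ⟨h1, ?_⟩
    rw [MulAction.is_two_pretransitive_iff] at h2 ⊢
    intro a b c d hab hcd
    obtain ⟨g', hg1, hg2⟩ := h2 hab hcd
    exact ⟨φ.symm g', hg1, hg2⟩
  · right
    refine ⟨h1, fun α => ?_⟩
    rw [← h2 α]
    apply Nat.card_congr
    refine φ.toEquiv.subtypeEquiv ?_
    intro g
    show g • α = α ↔ φ g • α = α
    rw [key, φ.symm_apply_apply]


/-- Let q = 2^{2m+1} ≥ 8 and let G be isomorphic to the Suzuki group Sz(q). If G acts faithfully and transitively on a finite set Ω with fixity 2 (every non-identity element fixes at most two points, and some fixes exactly two), then either |Ω| = q² + 1 and the action is 2-transitive, or |Ω| = q²(q² + 1) and the point stabilizers have order q − 1. -/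
theorem result {G : Type*} [Group G] [Finite G] (F : Type) [Field F] [Fintype F] (m : ℕ) (hm : 1 ≤ m) (hF : Fintype.card F = 2 ^ (2 * m + 1))
    (e : G ≃* ↥(Cfsg.Lie.Sz F (2 ^ (m + 1)))) {Ω : Type*} [Fintype Ω] [MulAction G Ω] [FaithfulSMul G Ω] (htr : MulAction.IsPretransitive G Ω)
    (hfix : ∀ g : G, g ≠ 1 → Nat.card (MulAction.fixedBy Ω g) ≤ 2) (hex : ∃ g : G, g ≠ 1 ∧ Nat.card (MulAction.fixedBy Ω g) = 2) :
    (Fintype.card Ω = Fintype.card F ^ 2 + 1 ∧ MulAction.IsMultiplyPretransitive G Ω 2) ∨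
    (Fintype.card Ω = Fintype.card F ^ 2 * (Fintype.card F ^ 2 + 1) ∧ ∀ α : Ω, Nat.card (MulAction.stabilizer G α) = Fintype.card F - 1) := by
  have := charP_two hF
  have hkF : Nat.card F = 2 ^ (2 * m + 1) := by rw [Nat.card_eq_fintype_card, hF]
  have hmain := transfer_main (e.trans (Cfsg.Agent.Lib.Helper60.SzLie.szEquiv hm hF)) (Ω := Ω)
    (Nat.card F ^ 2 + 1) (Nat.card F ^ 2 * (Nat.card F ^ 2 + 1)) (Nat.card F - 1)
    (fun {inst} htr' hfix' hex' => by
      exact fix2_main (sig F m) (sig_sig hF) (sig_nt hm hF) hm hkF hfix' hex')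
    htr hfix hex
  rw [Nat.card_eq_fintype_card, Nat.card_eq_fintype_card] at hmain
  exact hmain

end Cfsg.Agent.S3391
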