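-- Statement S3401: doubly transitive groups of degree `≡ 2 (mod 4)`.
import Cfsg.Statements.S3401
import Cfsg.Agent.Lib.Helper61.TT5

set_option autoImplicit false
open Cfsg

namespace Cfsg.Agent.S3401

open MulAction Cfsg.Agent.Lib.Helper61.TT

/-- Let G be a doubly transitive permutation group on a finite set Ω with |Ω| ≡ 2 mod 4 and |Ω| > 2. Then G has a unique minimal normal subgroup M (a nontrivial normal subgroup contained in every nontrivial normal subgroup); M is simple and doubly transitive on Ω, and its centralizer in G is trivial (so G embeds in Aut(M)). -/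
theorem result {G : Type*} [Group G] [Finite G] {Ω : Type*} [Fintype Ω] [MulAction G Ω] [FaithfulSMul G Ω]
    (h2 : MulAction.IsMultiplyPretransitive G Ω 2) (hn : Fintype.card Ω % 4 = 2) (hn2 : 2 < Fintype.card Ω) :
    ∃ M : Subgroup G, M.Normal ∧ M ≠ ⊥ ∧ (∀ N : Subgroup G, N.Normal → N ≠ ⊥ → M ≤ N) ∧
      IsSimpleGroup ↥M ∧ MulAction.IsMultiplyPretransitive ↥M Ω 2 ∧ Subgroup.centralizer (M : Set G) = ⊥ := by
  classical
  have two : ∀ a b c d : Ω, a ≠ b → c ≠ d → ∃ g : G, g • a = c ∧ g • b = d :=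
    fun a b c d hab hcd => is_two_pretransitive_iff.mp h2 hab hcd
  have faith : ∀ g : G, (∀ x : Ω, g • x = x) → g = 1 := by
    intro g hg
    apply FaithfulSMul.eq_of_smul_eq_smul (α := Ω)
    intro x
    rw [hg x, one_smul]
  have hyp_of : ∀ M : Subgroup G, M.Normal → M ≠ ⊥ → Hyp (Ω := Ω) M :=
    fun M hM hM1 => ⟨two, hM, hn, faith, hM1⟩
  -- a minimal normal subgroup
  have htop : (⊤ : Subgroup G) ≠ ⊥ := by
    obtain ⟨a, b, hab⟩ : ∃ a b : Ω, a ≠ b := Fintype.exists_pair_of_one_lt_card (by omega)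
    obtain ⟨g, hga, _⟩ := two a b b a hab hab.symm
    intro h
    have hg : g ∈ (⊥ : Subgroup G) := h ▸ Subgroup.mem_top g
    rw [Subgroup.mem_bot] at hg
    rw [hg, one_smul] at hga
    exact hab hga
  have hex : ∃ n, ∃ N : Subgroup G, N.Normal ∧ N ≠ ⊥ ∧ Nat.card N = n :=
    ⟨_, ⊤, inferInstance, htop, rfl⟩
  obtain ⟨M, hMn, hM1, hMc⟩ := Nat.find_spec hex
  have hmin : ∀ N : Subgroup G, N.Normal → N ≤ M → N = ⊥ ∨ N = M := by
    intro N hN hNM
    by_cases hN1 : N = ⊥
    · left; exact hN1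
    · right
      have : Nat.card M ≤ Nat.card N := by
        rw [hMc]
        exact Nat.find_min' hex ⟨N, hN, hN1, rfl⟩
      exact Subgroup.eq_of_le_of_card_ge hNM this
  have hyp := hyp_of M hMn hM1
  have hyp2 : Hyp2 (Ω := Ω) M := ⟨hyp, hmin, hn2⟩
  -- the centralizer is trivial
  have hcent : Subgroup.centralizer (M : Set G) = ⊥ := by
    rw [Subgroup.eq_bot_iff_forall]
    intro c hc
    by_contra hc1
    obtain ⟨x, hx⟩ : ∃ x : Ω, c • x ≠ x := by
      by_contra hcon
      push Not at hcon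
      exact hc1 (faith c hcon)
    obtain ⟨z, hzx, hzy⟩ : ∃ z : Ω, z ≠ x ∧ z ≠ c • x := by
      by_contra hcon
      push Not at hcon
      have hsub : (Finset.univ : Finset Ω) ⊆ {x, c • x} := by
        intro z _
        by_cases hz : z = x
        · rw [hz]; exact Finset.mem_insert_self _ _
        · rw [hcon z hz]
          exact Finset.mem_insert_of_mem (Finset.mem_singleton_self _)
      have h1 := Finset.card_le_card hsub
      have h3 : ({x, c • x} : Finset Ω).card ≤ 2 := Finset.card_le_two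
      rw [Finset.card_univ] at h1
      omega
    obtain ⟨m, hm, hm1, hm2⟩ := hyp.two_trans (Ne.symm hx) (Ne.symm hzx)
    have hcm := (Subgroup.mem_centralizer_iff.mp hc) m hm
    apply hzy
    rw [← hm2, ← mul_smul, hcm, mul_smul, hm1]
  refine ⟨M, hMn, hM1, ?_, ?_, ?_, hcent⟩
  · -- uniqueness
    intro N hN hN1
    have hinf : (M ⊓ N).Normal := inferInstance
    rcases hmin (M ⊓ N) hinf inf_le_left with h1 | h1
    · exfalso
      apply hN1
      rw [eq_bot_iff, ← hcent]
      intro n hn
      rw [Subgroup.mem_centralizer_iff]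
      intro m hm
      have h3 : m * n * m⁻¹ * n⁻¹ ∈ M ⊓ N := by
        constructor
        · have h4 : n * m⁻¹ * n⁻¹ ∈ M := hMn.conj_mem m⁻¹ (M.inv_mem hm) n
          have h5 := M.mul_mem hm h4
          have e : m * (n * m⁻¹ * n⁻¹) = m * n * m⁻¹ * n⁻¹ := by group
          rwa [e] at h5
        · exact N.mul_mem (hN.conj_mem n hn m) (N.inv_mem hn)
      rw [h1, Subgroup.mem_bot] at h3
      have e : m * n = (m * n * m⁻¹ * n⁻¹) * (n * m) := by group
      rw [e, h3, one_mul]
    · rw [← h1]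
      exact inf_le_right
  · -- simplicity
    have : Nontrivial ↥M := (Subgroup.nontrivial_iff_ne_bot M).mpr hM1
    refine IsSimpleGroup.mk ?_
    intro H hH
    have hK : IsMN M (H.map M.subtype) := by
      constructor
      · exact Subgroup.map_subtype_le H
      · rintro m hm _ ⟨k, hk, rfl⟩
        refine ⟨⟨m, hm⟩ * k * ⟨m, hm⟩⁻¹, hH.conj_mem k hk ⟨m, hm⟩, ?_⟩
        simp
    rcases hyp2.simple _ hK with h1 | h1
    · left
      exact (Subgroup.map_eq_bot_iff_of_injective H M.subtype_injective).mp h1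
    · right
      apply Subgroup.map_injective M.subtype_injective
      rw [h1, ← MonoidHom.range_eq_map, Subgroup.range_subtype]
  · rw [is_two_pretransitive_iff]
    intro a b c d hab hcd
    obtain ⟨m, hm, h1, h2⟩ := hyp.two_trans hab hcd
    exact ⟨⟨m, hm⟩, h1, h2⟩

end Cfsg.Agent.S3401
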