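import Cfsg.Statements.S3430
import Mathlib
import Cfsg.Agent.Lib.Helper52.PrimPart

set_option autoImplicit false
open Cfsg

namespace Cfsg.Agent.S3430



open Cfsg.Agent.Lib.Helper52 Cfsg.Agent.S2904

/-- a number all of whose prime factors are `2` or `3` is of the form `2 ^ s * 3 ^ t` -/
lemma two_three_smooth (N : ℕ) (hN : 0 < N) (h : ∀ p : ℕ, p.Prime → p ∣ N → p = 2 ∨ p = 3) :
    ∃ s t : ℕ, N = 2 ^ s * 3 ^ t := by
  obtain ⟨s, u, hu, hNu⟩ := Nat.exists_eq_pow_mul_and_not_dvd hN.ne' 2 (by norm_num)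
  have hupos : 0 < u := by
    rcases Nat.eq_zero_or_pos u with h0 | h0
    · subst h0; simp at hNu; omega
    · exact h0
  obtain ⟨t, v, hv, huv⟩ := Nat.exists_eq_pow_mul_and_not_dvd hupos.ne' 3 (by norm_num)
  refine ⟨s, t, ?_⟩
  have hv1 : v = 1 := by
    by_contra hv1
    obtain ⟨p, hp, hpv⟩ := Nat.exists_prime_and_dvd hv1
    have hpu : p ∣ u := by rw [huv]; exact hpv.mul_left _
    have hpN : p ∣ N := by rw [hNu]; exact hpu.mul_left _
    rcases h p hp hpN with rfl | rfl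
    · exact hu hpu
    · exact hv hpv
  rw [hNu, huv, hv1, mul_one]

lemma sq_sub_one (q : ℕ) (hq : 1 ≤ q) : q ^ 2 - 1 = (q - 1) * (q + 1) := by
  obtain ⟨c, rfl⟩ : ∃ c, q = c + 1 := ⟨q - 1, by omega⟩
  rw [Nat.add_sub_cancel]
  have : (c + 1) ^ 2 = c * (c + 1 + 1) + 1 := by ring
  rw [this, Nat.add_sub_cancel]

/-- the case `n = 2` -/
lemma case_two (q : ℕ) (hq : 2 ≤ q)
    (h1 : ¬ ∃ s t : ℕ, t ≤ 1 ∧ q + 1 = 2 ^ s * 3 ^ t) :
    ∃ p : ℕ, p.Prime ∧ p ∣ q ^ 2 - 1 ∧ (∀ i : ℕ, 1 ≤ i → i < 2 → ¬ p ∣ q ^ i - 1) ∧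
      (2 + 1 < p ∨ p ^ 2 ∣ q ^ 2 - 1) := by
  have hfac := sq_sub_one q (by omega)
  have hnot : ∀ p : ℕ, p.Prime → p ≠ 2 → p ∣ q + 1 → ∀ i : ℕ, 1 ≤ i → i < 2 → ¬ p ∣ q ^ i - 1 := by
    intro p hp hp2 hpq i hi1 hi2 hdiv
    have hi : i = 1 := by omega
    subst hi
    rw [pow_one] at hdiv
    have h2 : p ∣ (q + 1) - (q - 1) := Nat.dvd_sub hpq hdiv
    have : (q + 1) - (q - 1) = 2 := by omega
    rw [this] at h2
    exact hp2 ((Nat.prime_dvd_prime_iff_eq hp Nat.prime_two).mp h2)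
  by_cases hbig : ∃ p : ℕ, p.Prime ∧ p ∣ q + 1 ∧ p ≠ 2 ∧ p ≠ 3
  · obtain ⟨p, hp, hpq, hp2, hp3⟩ := hbig
    refine ⟨p, hp, ?_, hnot p hp hp2 hpq, Or.inl ?_⟩
    · rw [hfac]; exact hpq.mul_left _
    · have := hp.two_le
      omega
  · push Not at hbig
    have hsm : ∀ p : ℕ, p.Prime → p ∣ q + 1 → p = 2 ∨ p = 3 := by
      intro p hp hpq
      by_cases hp2 : p = 2
      · exact Or.inl hp2
      · exact Or.inr (hbig p hp hpq hp2)
    obtain ⟨s, t, hst⟩ := two_three_smooth (q + 1) (by omega) hsm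
    have ht : 2 ≤ t := by
      by_contra hcon
      exact h1 ⟨s, t, by omega, hst⟩
    have h9 : 3 ^ 2 ∣ q + 1 := by
      rw [hst]
      exact (pow_dvd_pow 3 ht).mul_left _
    have h3 : 3 ∣ q + 1 := (dvd_pow_self 3 (by norm_num)).trans h9
    refine ⟨3, Nat.prime_three, ?_, hnot 3 Nat.prime_three (by norm_num) h3, Or.inr ?_⟩
    · rw [hfac]; exact h3.mul_left _
    · rw [hfac]; exact h9.mul_left _

/-- a primitive prime divisor of `q ^ n - 1` is at least `n + 1` -/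
lemma prim_prime_ge (q n p : ℕ) (hq : 2 ≤ q) (hn : 1 ≤ n) (hp : p.Prime) (hpd : p ∣ q ^ n - 1)
    (hprim : ∀ i : ℕ, 1 ≤ i → i < n → ¬ p ∣ q ^ i - 1) : n + 1 ≤ p := by
  have : Fact p.Prime := ⟨hp⟩
  have h1 : (q : ZMod p) ^ n = 1 := (pow_eq_one_iff_dvd p q n (by omega)).mpr hpd
  have hq0 : (q : ZMod p) ≠ 0 := by
    intro h0
    rw [h0, zero_pow (by omega)] at h1
    exact zero_ne_one h1
  have h2 : orderOf (q : ZMod p) ∣ p - 1 := ZMod.orderOf_dvd_card_sub_one hq0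
  have h3 : 0 < orderOf (q : ZMod p) :=
    orderOf_pos_iff.mpr (isOfFinOrder_iff_pow_eq_one.mpr ⟨n, by omega, h1⟩)
  have h4 : n ≤ orderOf (q : ZMod p) := by
    by_contra hcon
    push Not at hcon
    have := (pow_eq_one_iff_dvd p q (orderOf (q : ZMod p)) (by omega)).mp (pow_orderOf_eq_one _)
    exact hprim _ h3 hcon this
  have h5 := Nat.le_of_dvd (by have := hp.two_le; omega) h2
  have := hp.two_le
  omega

/-- from a primitive divisor larger than `n + 1` to a large Zsigmondy prime -/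
lemma of_divisor (q n m : ℕ) (hq : 2 ≤ q) (hn : 1 ≤ n) (hm : m ∣ q ^ n - 1)
    (hcop : ∀ i : ℕ, 1 ≤ i → i < n → Nat.Coprime m (q ^ i - 1)) (hbig : n + 1 < m) :
    ∃ p : ℕ, p.Prime ∧ p ∣ q ^ n - 1 ∧ (∀ i : ℕ, 1 ≤ i → i < n → ¬ p ∣ q ^ i - 1) ∧
      (n + 1 < p ∨ p ^ 2 ∣ q ^ n - 1) := by
  have hprim : ∀ p : ℕ, p.Prime → p ∣ m → ∀ i : ℕ, 1 ≤ i → i < n → ¬ p ∣ q ^ i - 1 := by
    intro p hp hpm i hi1 hin hdiv
    have := Nat.dvd_gcd hpm hdiv
    rw [hcop i hi1 hin] at this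
    exact hp.one_lt.ne' (Nat.dvd_one.mp this)
  by_cases hex : ∃ p : ℕ, p.Prime ∧ p ∣ m ∧ n + 1 < p
  · obtain ⟨p, hp, hpm, hlt⟩ := hex
    exact ⟨p, hp, hpm.trans hm, hprim p hp hpm, Or.inl hlt⟩
  · push Not at hex
    have hall : ∀ {p : ℕ}, p.Prime → p ∣ m → p = n + 1 := by
      intro p hp hpm
      have h1 := hex p hp hpm
      have h2 := prim_prime_ge q n p hq hn hp (hpm.trans hm) (hprim p hp hpm)
      omega
    have hm0 : m ≠ 0 := by omega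
    have hpow := Nat.eq_prime_pow_of_unique_prime_dvd hm0 hall
    obtain ⟨p, hp, hpm⟩ := Nat.exists_prime_and_dvd (by omega : m ≠ 1)
    have hpn := hall hp hpm
    set j := m.primeFactorsList.length with hj
    have hj2 : 2 ≤ j := by
      by_contra hcon
      have : j = 0 ∨ j = 1 := by omega
      rcases this with h | h
      · rw [h, pow_zero] at hpow; omega
      · rw [h, pow_one] at hpow; omega
    refine ⟨p, hp, hpm.trans hm, hprim p hp hpm, Or.inr ?_⟩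
    rw [hpn]
    refine dvd_trans ?_ hm
    rw [hpow]
    exact pow_dvd_pow _ hj2


/-- Let q, n ≥ 2 be integers. Unless (n = 2 and q + 1 = 2^s·3^t for some s ≥ 0 and t ≤ 1), or (q = 2 and n ∈ {4, 6, 10, 12, 18}), or (q = 3 and n ∈ {4, 6}), or (q, n) = (5, 6), there is a prime p dividing q^n − 1 but no q^i − 1 with 1 ≤ i < n (a primitive prime divisor), such that p > n + 1 or p² divides q^n − 1. -/
theorem result (q n : ℕ) (hq : 2 ≤ q) (hn : 2 ≤ n)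
    (h1 : ¬ (n = 2 ∧ ∃ s t : ℕ, t ≤ 1 ∧ q + 1 = 2 ^ s * 3 ^ t))
    (h2 : ¬ (q = 2 ∧ (n = 4 ∨ n = 6 ∨ n = 10 ∨ n = 12 ∨ n = 18)))
    (h3 : ¬ (q = 3 ∧ (n = 4 ∨ n = 6))) (h4 : ¬ (q = 5 ∧ n = 6)) :
    ∃ p : ℕ, p.Prime ∧ p ∣ q ^ n - 1 ∧ (∀ i : ℕ, 1 ≤ i → i < n → ¬ p ∣ q ^ i - 1) ∧ (n + 1 < p ∨ p ^ 2 ∣ q ^ n - 1) := by
  by_cases hn2 : n = 2
  · subst hn2
    exact case_two q hq (fun h => h1 ⟨rfl, h⟩)
  · have hn3 : 3 ≤ n := by omega
    by_cases hex : (q, n) ∈ thirteen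
    · unfold thirteen at hex
      simp only [List.mem_cons, Prod.mk.injEq, List.mem_nil_iff, or_false] at hex
      rcases hex with ⟨rfl, rfl⟩ | ⟨rfl, rfl⟩ | ⟨rfl, rfl⟩ | ⟨rfl, rfl⟩ | ⟨rfl, rfl⟩ | ⟨rfl, rfl⟩ |
        ⟨rfl, rfl⟩ | ⟨rfl, rfl⟩ | ⟨rfl, rfl⟩ | ⟨rfl, rfl⟩ | ⟨rfl, rfl⟩ | ⟨rfl, rfl⟩ | ⟨rfl, rfl⟩
      · exact absurd ⟨rfl, by norm_num⟩ h2
      · exact absurd ⟨rfl, by norm_num⟩ h2
      · exact absurd ⟨rfl, by norm_num⟩ h2
      · exact absurd ⟨rfl, by norm_num⟩ h2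
      · exact absurd ⟨rfl, by norm_num⟩ h2
      · exact absurd ⟨rfl, by norm_num⟩ h3
      · exact absurd ⟨rfl, by norm_num⟩ h3
      · exact absurd ⟨rfl, rfl⟩ h4
      · refine ⟨7, by norm_num, by norm_num, ?_, Or.inl (by norm_num)⟩
        intro i hi1 hi2
        interval_cases i <;> norm_num
      · refine ⟨17, by norm_num, by norm_num, ?_, Or.inl (by norm_num)⟩
        intro i hi1 hi2
        interval_cases i <;> norm_num
      · refine ⟨41, by norm_num, by norm_num, ?_, Or.inl (by norm_num)⟩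
        intro i hi1 hi2
        interval_cases i <;> norm_num
      · refine ⟨7, by norm_num, by norm_num, ?_, Or.inl (by norm_num)⟩
        intro i hi1 hi2
        interval_cases i <;> norm_num
      · refine ⟨13, by norm_num, by norm_num, ?_, Or.inl (by norm_num)⟩
        intro i hi1 hi2
        interval_cases i <;> norm_num
    · obtain ⟨m, hm, hcop, hbig⟩ := exists_large_primitive_divisor q n hq hn3 hex
      exact of_divisor q n m hq (by omega) hm hcop (by omega)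

end Cfsg.Agent.S3430
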