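import Cfsg.Statements.S3431
import Cfsg.Agent.Lib.Helper81.NseAlt
import Cfsg.Agent.Lib.Helper81.NseA4
import Cfsg.Agent.Lib.Helper81.NseA5
import Cfsg.Agent.Lib.Helper81.NseA6
import Cfsg.Agent.Lib.Helper81.NseIso

set_option autoImplicit false
open Cfsg

namespace Cfsg.Agent.S3431

open Cfsg.Agent.Lib.Helper81.Nse

/-- Let n be 4, 5 or 6 and let G be a finite group whose set of sizes of same-order classes (the set of numbers #{g : o(g) = m} over the element orders m of G) equals that of the alternating group of degree n. Then G is isomorphic to that alternating group. -/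
theorem result {G : Type*} [Group G] [Finite G] (n : ℕ) (hn : n = 4 ∨ n = 5 ∨ n = 6)
    (h : ((fun m : ℕ => Nat.card {g : G // orderOf g = m}) '' Set.range (orderOf : G → ℕ)) = ((fun m : ℕ => Nat.card {g : ↥(alternatingGroup (Fin n)) // orderOf g = m}) '' Set.range (orderOf : ↥(alternatingGroup (Fin n)) → ℕ))) :
    Nonempty (G ≃* ↥(alternatingGroup (Fin n))) := by
  rcases hn with rfl | rfl | rfl
  · rw [nse_alt4] at h
    have hmem : ∀ k, cnt G k ≠ 0 → cnt G k ∈ [1, 3, 8] := by
      intro k hk
      have := mem_of_nse h hk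
      simpa using this
    have hvals : ∀ v ∈ [1, 3, 8], ∃ k, cnt G k ≠ 0 ∧ cnt G k = v := by
      intro v hv
      apply exists_of_nse h
      simpa using hv
    obtain ⟨hc, _, _, hspec⟩ := nse_A4 hmem hvals
    exact iso_A4 hc hspec
  · rw [nse_alt5] at h
    have hmem : ∀ k, cnt G k ≠ 0 → cnt G k ∈ [1, 15, 20, 24] := by
      intro k hk
      have := mem_of_nse h hk
      simpa using this
    have hvals : ∀ v ∈ [1, 15, 20, 24], ∃ k, cnt G k ≠ 0 ∧ cnt G k = v := by
      intro v hv
      apply exists_of_nse h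
      simpa using hv
    obtain ⟨hc, _, h3, h5, hspec⟩ := nse_A5 hmem hvals
    exact iso_A5 hc h3 h5 hspec
  · rw [nse_alt6] at h
    have hmem : ∀ k, cnt G k ≠ 0 → cnt G k ∈ [1, 45, 80, 90, 144] := by
      intro k hk
      have := mem_of_nse h hk
      simpa using this
    have hvals : ∀ v ∈ [1, 45, 80, 90, 144], ∃ k, cnt G k ≠ 0 ∧ cnt G k = v := by
      intro v hv
      apply exists_of_nse h
      simpa using hv
    obtain ⟨hc, _, h3, _, h5, hspec⟩ := nse_A6 hmem hvals
    exact iso_A6 hc h3 h5 hspec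

end Cfsg.Agent.S3431
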