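import Mathlib
import Cfsg.Statements.S3443

set_option autoImplicit false
open Cfsg

namespace Cfsg.Agent.S3443

theorem dvd_or_dvd_of_dvd_mul_prime (m n p : ℕ) (hp : p.Prime) (h1 : m ∣ n * p) (h2 : n ∣ m * p)
    (hm : 0 < m) : m ∣ n ∨ n ∣ m := by
  obtain ⟨a, b, hab, hma, hnb⟩ := Nat.exists_coprime m n
  set d := Nat.gcd m n with hd
  have hdpos : 0 < d := Nat.gcd_pos_of_pos_left n hm
  rw [hma, hnb] at h1 h2
  have h1' : a ∣ b * p := by
    have : a * d ∣ (b * p) * d := by
      have e : b * d * p = (b * p) * d := by ring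
      rw [← e]; exact h1
    exact Nat.dvd_of_mul_dvd_mul_right hdpos this
  have h2' : b ∣ a * p := by
    have : b * d ∣ (a * p) * d := by
      have e : a * d * p = (a * p) * d := by ring
      rw [← e]; exact h2
    exact Nat.dvd_of_mul_dvd_mul_right hdpos this
  have ha : a ∣ p := hab.dvd_of_dvd_mul_left h1'
  have hb : b ∣ p := hab.symm.dvd_of_dvd_mul_left h2'
  rcases (Nat.dvd_prime hp).1 ha with ha1 | hap
  · left
    rw [hma, hnb, ha1, one_mul]
    exact Dvd.intro_left b rfl
  · rcases (Nat.dvd_prime hp).1 hb with hb1 | hbp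
    · right
      rw [hma, hnb, hb1, one_mul]
      exact Dvd.intro_left a rfl
    · exfalso
      rw [hap, hbp] at hab
      have := (Nat.coprime_self p).1 hab
      exact hp.one_lt.ne' this

/-- the multiplication map `(v, g) ↦ v * g`. -/
noncomputable def mulHom {G : Type*} [Group G] (V : Subgroup G) [V.Normal] :
    V ⋊[MulAut.conjNormal] G →* G :=
  SemidirectProduct.lift V.subtype (MonoidHom.id G) (by
    intro g
    ext v
    simp [MulAut.conjNormal_apply])

theorem mulHom_apply {G : Type*} [Group G] (V : Subgroup G) [V.Normal]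
    (x : V ⋊[MulAut.conjNormal] G) : mulHom V x = (x.left : G) * x.right := rfl

theorem orderOf_eq_lcm {G : Type*} [Group G] (V : Subgroup G) [V.Normal]
    (x : V ⋊[MulAut.conjNormal] G) :
    orderOf x = Nat.lcm (orderOf (mulHom V x)) (orderOf x.right) := by
  have hinj : Function.Injective ((mulHom V).prod (SemidirectProduct.rightHom)) := by
    intro x y hxy
    have h1 : mulHom V x = mulHom V y := congrArg Prod.fst hxy
    have h2 : x.right = y.right := congrArg Prod.snd hxy
    rw [mulHom_apply, mulHom_apply, h2] at h1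
    have h3 : (x.left : G) = y.left := mul_right_cancel h1
    ext
    · exact h3
    · exact h2
  have := orderOf_injective ((mulHom V).prod (SemidirectProduct.rightHom)) hinj x
  rw [← this, Prod.orderOf]
  rfl

theorem result {G : Type*} [Group G] [Finite G] (V : Subgroup G) [V.Normal] (p : ℕ) (hp : p.Prime)
    (hcomm : ∀ x y : V, x * y = y * x) (hexp : ∀ x : V, x ^ p = 1) :
    Set.range (orderOf : V ⋊[MulAut.conjNormal] G → ℕ) = Set.range (orderOf : G → ℕ) := by
  apply Set.eq_of_subset_of_subset
  · rintro _ ⟨x, rfl⟩
    rw [orderOf_eq_lcm]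
    set m := orderOf (mulHom V x) with hm
    set n := orderOf x.right with hn
    have hmpos : 0 < m := orderOf_pos _
    have hnpos : 0 < n := orderOf_pos _
    -- m ∣ n * p
    have h1 : m ∣ n * p := by
      rw [hm, orderOf_dvd_iff_pow_eq_one, pow_mul, ← map_pow]
      have hr : (x ^ n).right = 1 := by
        have : (x ^ n).right = x.right ^ n := by
          rw [← SemidirectProduct.rightHom_eq_right]
          exact map_pow SemidirectProduct.rightHom x n
        rw [this, hn, pow_orderOf_eq_one]
      rw [mulHom_apply, hr, mul_one]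
      have := hexp (x ^ n).left
      have h' := congrArg (Subtype.val) this
      simpa using h'
    have h2 : n ∣ m * p := by
      rw [hn, orderOf_dvd_iff_pow_eq_one, pow_mul]
      have hone : mulHom V (x ^ m) = 1 := by
        rw [map_pow, hm, pow_orderOf_eq_one]
      rw [mulHom_apply] at hone
      have hr : (x ^ m).right = x.right ^ m := by
        rw [← SemidirectProduct.rightHom_eq_right]
        exact map_pow SemidirectProduct.rightHom x m
      rw [hr] at hone
      have hmem : x.right ^ m = (((x ^ m).left)⁻¹ : V) := by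
        rw [Subgroup.coe_inv]
        exact eq_inv_of_mul_eq_one_right hone
      rw [hmem]
      have := hexp ((x ^ m).left)⁻¹
      have h' := congrArg (Subtype.val) this
      simpa using h'
    rcases dvd_or_dvd_of_dvd_mul_prime m n p hp h1 h2 hmpos with h | h
    · rw [Nat.lcm_eq_right h]
      exact ⟨x.right, rfl⟩
    · rw [Nat.lcm_eq_left h]
      exact ⟨mulHom V x, rfl⟩
  · rintro _ ⟨g, rfl⟩
    refine ⟨SemidirectProduct.inr g, ?_⟩
    exact orderOf_injective _ SemidirectProduct.inr_injective g

end Cfsg.Agent.S3443
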