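import Mathlib
import Cfsg.Statements.S3444
import Cfsg.Agent.S3443

set_option autoImplicit false
open Cfsg

namespace Cfsg.Agent.S3444

universe u

theorem commutator_lt_of_solvable {G : Type u} [Group G] (M : Subgroup G) [hM : Group.IsSolvable M]
    (hne : M ≠ ⊥) : ⁅M, M⁆ < M := by
  rw [← Subgroup.nontrivial_iff_ne_bot] at hne
  have h := Group.IsSolvable.commutator_lt_top_of_nontrivial M
  have h2 : Subgroup.map M.subtype (commutator M) < Subgroup.map M.subtype ⊤ :=
    Subgroup.map_subtype_lt_map_subtype.mpr h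
  rw [commutator_def, Subgroup.map_commutator, ← MonoidHom.range_eq_map, M.range_subtype] at h2
  exact h2

/-- a nontrivial solvable normal subgroup contains a nontrivial abelian normal subgroup -/
theorem exists_abelian_normal {G : Type u} [Group G] [Finite G] :
    ∀ (n : ℕ) (M : Subgroup G), M.Normal → M ≠ ⊥ → Group.IsSolvable M → Nat.card M = n →
      ∃ A : Subgroup G, A.Normal ∧ A ≠ ⊥ ∧ ∀ x ∈ A, ∀ y ∈ A, x * y = y * x := by
  intro n
  induction n using Nat.strong_induction_on with
  | _ n ih =>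
    intro M hMn hMne hMs hcard
    by_cases hc : ⁅M, M⁆ = ⊥
    · refine ⟨M, hMn, hMne, ?_⟩
      intro x hx y hy
      have hle := Subgroup.commutator_eq_bot_iff_le_centralizer.mp hc
      have := hle hx
      rw [Subgroup.mem_centralizer_iff] at this
      exact (this y hy).symm
    · have hlt : ⁅M, M⁆ < M := commutator_lt_of_solvable M hMne
      have hn' : (⁅M, M⁆ : Subgroup G).Normal := Subgroup.commutator_normal M M
      have hs' : Group.IsSolvable (⁅M, M⁆ : Subgroup G) :=
        Group.isSolvable_of_isSolvable_injective (Subgroup.inclusion_injective hlt.le)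
      have hcardlt : Nat.card (⁅M, M⁆ : Subgroup G) < n := by
        rw [← hcard]
        by_contra hge
        have := Subgroup.eq_of_le_of_card_ge hlt.le (not_lt.mp hge)
        exact hlt.ne this
      exact ih _ hcardlt ⁅M, M⁆ hn' hc hs' rfl

/-- the `p`-torsion of an abelian normal subgroup -/
def torsionSub {G : Type u} [Group G] (A : Subgroup G)
    (hA : ∀ x ∈ A, ∀ y ∈ A, x * y = y * x) (p : ℕ) : Subgroup G where
  carrier := {g | g ∈ A ∧ g ^ p = 1}
  mul_mem' := by
    rintro a b ⟨ha, hap⟩ ⟨hb, hbp⟩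
    refine ⟨A.mul_mem ha hb, ?_⟩
    have hc : Commute a b := hA a ha b hb
    rw [hc.mul_pow, hap, hbp, one_mul]
  one_mem' := ⟨A.one_mem, one_pow p⟩
  inv_mem' := by
    rintro a ⟨ha, hap⟩
    exact ⟨A.inv_mem ha, by rw [inv_pow, hap, inv_one]⟩

theorem exists_elementary_normal {G : Type u} [Group G] [Finite G] (K : Subgroup G) [hKn : K.Normal]
    (hK : K ≠ ⊥) (hs : Group.IsSolvable K) :
    ∃ (V : Subgroup G) (p : ℕ), V.Normal ∧ V ≠ ⊥ ∧ p.Prime ∧ (∀ x y : V, x * y = y * x) ∧
      ∀ x : V, x ^ p = 1 := by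
  obtain ⟨A, hAn, hAne, hAc⟩ := exists_abelian_normal (Nat.card K) K hKn hK hs rfl
  have hcard : Nat.card A ≠ 1 := by
    intro h
    exact hAne (Subgroup.card_eq_one.mp h)
  obtain ⟨p, hp, hpd⟩ := Nat.exists_prime_and_dvd hcard
  have : Fact p.Prime := ⟨hp⟩
  obtain ⟨a, ha⟩ := exists_prime_orderOf_dvd_card' (G := A) p hpd
  refine ⟨torsionSub A hAc p, p, ?_, ?_, hp, ?_, ?_⟩
  · constructor
    rintro n ⟨hn, hnp⟩ g
    refine ⟨hAn.conj_mem n hn g, ?_⟩
    rw [conj_pow, hnp, mul_one, mul_inv_cancel]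
  · intro hbot
    have hmem : (a : G) ∈ torsionSub A hAc p := by
      refine ⟨a.2, ?_⟩
      have : a ^ p = 1 := by rw [← ha, pow_orderOf_eq_one]
      have h' := congrArg Subtype.val this
      simpa using h'
    rw [hbot, Subgroup.mem_bot] at hmem
    have ha1 : a = 1 := Subtype.ext hmem
    rw [ha1, orderOf_one] at ha
    exact hp.one_lt.ne ha
  · rintro ⟨x, hx⟩ ⟨y, hy⟩
    apply Subtype.ext
    exact hAc x hx.1 y hy.1
  · rintro ⟨x, hx⟩
    apply Subtype.ext
    simpa using hx.2

theorem iterate (p : ℕ) (hp : p.Prime) : ∀ (k : ℕ) (G : Type u) [Group G] [Finite G] (V : Subgroup G)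
    [V.Normal], V ≠ ⊥ → (∀ x y : V, x * y = y * x) → (∀ x : V, x ^ p = 1) →
    ∃ (H : Type u) (_ : Group H) (_ : Finite H), Nat.card G + k ≤ Nat.card H ∧
      Set.range (orderOf : H → ℕ) = Set.range (orderOf : G → ℕ) := by
  intro k
  induction k with
  | zero =>
    intro G _ _ V _ _ _ _
    exact ⟨G, inferInstance, inferInstance, le_rfl, rfl⟩
  | succ k ih =>
    intro G _ _ V _ hV hcomm hexp
    have hspec := Cfsg.Agent.S3443.result V p hp hcomm hexp
    let G' := V ⋊[MulAut.conjNormal] G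
    let V' : Subgroup G' := (SemidirectProduct.inl : V →* G').range
    have hV'n : V'.Normal := by
      have : V' = (SemidirectProduct.rightHom : G' →* G).ker :=
        SemidirectProduct.range_inl_eq_ker_rightHom
      rw [this]
      infer_instance
    have hV'ne : V' ≠ ⊥ := by
      intro h
      apply hV
      rw [Subgroup.eq_bot_iff_forall]
      intro x hx
      have hmem : (SemidirectProduct.inl (⟨x, hx⟩ : V) : G') ∈ V' := ⟨_, rfl⟩
      rw [h, Subgroup.mem_bot] at hmem
      have h1 : (⟨x, hx⟩ : V) = 1 := by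
        apply SemidirectProduct.inl_injective (φ := (MulAut.conjNormal : G →* MulAut V))
        rw [hmem, map_one]
      exact congrArg Subtype.val h1
    have hcomm' : ∀ x y : V', x * y = y * x := by
      rintro ⟨_, ⟨a, rfl⟩⟩ ⟨_, ⟨b, rfl⟩⟩
      apply Subtype.ext
      show SemidirectProduct.inl a * SemidirectProduct.inl b
        = SemidirectProduct.inl b * SemidirectProduct.inl a
      rw [← map_mul, ← map_mul, hcomm a b]
    have hexp' : ∀ x : V', x ^ p = 1 := by
      rintro ⟨_, ⟨a, rfl⟩⟩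
      apply Subtype.ext
      show (SemidirectProduct.inl a : G') ^ p = 1
      rw [← map_pow, hexp a, map_one]
    have : Finite G' := Finite.of_equiv _ (SemidirectProduct.equivProd).symm
    obtain ⟨H, hH1, hH2, hcard, hsp⟩ := @ih G' _ _ V' hV'n hV'ne hcomm' hexp'
    refine ⟨H, hH1, hH2, ?_, hsp.trans hspec⟩
    have hc : Nat.card G' = Nat.card V * Nat.card G := SemidirectProduct.card
    have hV2 : 2 ≤ Nat.card V := by
      have : Nat.card V ≠ 1 := fun h => hV (Subgroup.card_eq_one.mp h)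
      have : Nat.card V ≠ 0 := Nat.card_pos.ne'
      omega
    have hGpos : 0 < Nat.card G := Nat.card_pos
    have : 2 * Nat.card G ≤ Nat.card G' := by
      rw [hc]
      exact Nat.mul_le_mul_right _ hV2
    omega

theorem result {G : Type*} [Group G] [Finite G] (K : Subgroup G) [K.Normal] (hK : K ≠ ⊥)
    (hs : Group.IsSolvable K) (N : ℕ) :
    ∃ (H : Type) (_ : Group H) (_ : Fintype H), N < Fintype.card H ∧ Set.range (orderOf : H → ℕ) = Set.range (orderOf : G → ℕ) := by
  obtain ⟨V, p, hVn, hVne, hp, hcomm, hexp⟩ := exists_elementary_normal K hK hs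
  obtain ⟨H, hH1, hH2, hcard, hsp⟩ := @iterate p hp (N + 1) G _ _ V hVn hVne hcomm hexp
  let e' : Shrink.{0} H ≃* H := Shrink.mulEquiv
  have : Finite (Shrink.{0} H) := Finite.of_equiv H e'.symm.toEquiv
  have : Fintype (Shrink.{0} H) := Fintype.ofFinite _
  refine ⟨Shrink.{0} H, inferInstance, this, ?_, ?_⟩
  · rw [← Nat.card_eq_fintype_card, Nat.card_congr e'.toEquiv]
    omega
  · rw [← hsp]
    ext n
    constructor
    · rintro ⟨x, rfl⟩
      exact ⟨e' x, (MulEquiv.orderOf_eq e' x)⟩
    · rintro ⟨x, rfl⟩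
      exact ⟨e'.symm x, by rw [← MulEquiv.orderOf_eq e' (e'.symm x), MulEquiv.apply_symm_apply]⟩

end Cfsg.Agent.S3444
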