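import Mathlib
import Cfsg.Statements.S3448
import Cfsg.Agent.Lib.Helper57.A5Spec

set_option autoImplicit false
open Cfsg

namespace Cfsg.Agent.S3448

open Cfsg.Agent.Lib.Helper57

/-- The set of element orders of the direct product of two copies of the alternating group of degree 5 is {1, 2, 3, 5, 6, 10, 15}. (It is shared by the direct product of two Frobenius groups of orders 50 and 75, so this direct product is not determined by its element orders.) -/
theorem result : Set.range (orderOf : alternatingGroup (Fin 5) × alternatingGroup (Fin 5) → ℕ) = {1, 2, 3, 5, 6, 10, 15} := by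
  ext n
  constructor
  · rintro ⟨⟨a, b⟩, rfl⟩
    rw [Prod.orderOf]
    rcases orderOf_A5 a with h | h | h | h <;> rcases orderOf_A5 b with h' | h' | h' | h' <;>
      simp only [h, h'] <;> decide
  · intro hn
    simp only [Set.mem_insert_iff, Set.mem_singleton_iff] at hn
    rcases hn with rfl | rfl | rfl | rfl | rfl | rfl | rfl
    · exact ⟨1, orderOf_one⟩
    · exact ⟨(a2, 1), by rw [Prod.orderOf]; simp [orderOf_a2]⟩
    · exact ⟨(a3, 1), by rw [Prod.orderOf]; simp [orderOf_a3]⟩
    · exact ⟨(a5, 1), by rw [Prod.orderOf]; simp [orderOf_a5]⟩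
    · exact ⟨(a2, a3), by rw [Prod.orderOf]; simp only [orderOf_a2, orderOf_a3]; decide⟩
    · exact ⟨(a2, a5), by rw [Prod.orderOf]; simp only [orderOf_a2, orderOf_a5]; decide⟩
    · exact ⟨(a3, a5), by rw [Prod.orderOf]; simp only [orderOf_a3, orderOf_a5]; decide⟩

end Cfsg.Agent.S3448
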