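import Mathlib
import Cfsg.Statements.S3449
import Cfsg.Agent.Lib.Helper57.A5Spec

set_option autoImplicit false
open Cfsg

namespace Cfsg.Agent.S3449

open Cfsg.Agent.Lib.Helper57

theorem range_A5_cube : Set.range (orderOf : alternatingGroup (Fin 5) × alternatingGroup (Fin 5) × alternatingGroup (Fin 5) → ℕ) = {1, 2, 3, 5, 6, 10, 15, 30} := by
  ext n
  constructor
  · rintro ⟨⟨a, b, c⟩, rfl⟩
    rw [Prod.orderOf, Prod.orderOf]
    rcases orderOf_A5 a with h | h | h | h <;> rcases orderOf_A5 b with h' | h' | h' | h' <;>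
      rcases orderOf_A5 c with h'' | h'' | h'' | h'' <;>
      simp only [h, h', h''] <;> decide
  · intro hn
    simp only [Set.mem_insert_iff, Set.mem_singleton_iff] at hn
    rcases hn with rfl | rfl | rfl | rfl | rfl | rfl | rfl | rfl
    · exact ⟨1, orderOf_one⟩
    · exact ⟨(a2, 1, 1), by rw [Prod.orderOf, Prod.orderOf]; simp [orderOf_a2]⟩
    · exact ⟨(a3, 1, 1), by rw [Prod.orderOf, Prod.orderOf]; simp [orderOf_a3]⟩
    · exact ⟨(a5, 1, 1), by rw [Prod.orderOf, Prod.orderOf]; simp [orderOf_a5]⟩
    · exact ⟨(a2, a3, 1), by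
        rw [Prod.orderOf, Prod.orderOf]; simp only [orderOf_a2, orderOf_a3, orderOf_one]; decide⟩
    · exact ⟨(a2, a5, 1), by
        rw [Prod.orderOf, Prod.orderOf]; simp only [orderOf_a2, orderOf_a5, orderOf_one]; decide⟩
    · exact ⟨(a3, a5, 1), by
        rw [Prod.orderOf, Prod.orderOf]; simp only [orderOf_a3, orderOf_a5, orderOf_one]; decide⟩
    · exact ⟨(a2, a3, a5), by
        rw [Prod.orderOf, Prod.orderOf]; simp only [orderOf_a2, orderOf_a3, orderOf_a5]; decide⟩

theorem range_Z30 : Set.range (orderOf : Multiplicative (ZMod 30) → ℕ) = {1, 2, 3, 5, 6, 10, 15, 30} := by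
  ext n
  constructor
  · rintro ⟨x, rfl⟩
    have h : orderOf x ∣ 30 := by
      have := orderOf_dvd_natCard x
      rwa [Nat.card_eq_fintype_card, Fintype.card_multiplicative, ZMod.card] at this
    have hmem : orderOf x ∈ Nat.divisors 30 := Nat.mem_divisors.mpr ⟨h, by norm_num⟩
    have hd : Nat.divisors 30 = {1, 2, 3, 5, 6, 10, 15, 30} := by decide
    rw [hd] at hmem
    simpa using hmem
  · intro hn
    have key : ∀ a : ℕ, orderOf (Multiplicative.ofAdd ((a : ℕ) : ZMod 30)) = 30 / Nat.gcd 30 a := by
      intro a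
      rw [orderOf_ofAdd_eq_addOrderOf]
      exact ZMod.addOrderOf_coe a (by norm_num)
    simp only [Set.mem_insert_iff, Set.mem_singleton_iff] at hn
    rcases hn with rfl | rfl | rfl | rfl | rfl | rfl | rfl | rfl
    · exact ⟨_, (key 30).trans (by decide)⟩
    · exact ⟨_, (key 15).trans (by decide)⟩
    · exact ⟨_, (key 10).trans (by decide)⟩
    · exact ⟨_, (key 6).trans (by decide)⟩
    · exact ⟨_, (key 5).trans (by decide)⟩
    · exact ⟨_, (key 3).trans (by decide)⟩
    · exact ⟨_, (key 2).trans (by decide)⟩
    · exact ⟨_, (key 1).trans (by decide)⟩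

/-- The direct product of three copies of the alternating group of degree 5 has exactly the same set of element orders as the cyclic group of order 30, namely the divisors of 30; in particular a direct power of a non-abelian simple group need not be determined by its element orders. -/
theorem result : Set.range (orderOf : alternatingGroup (Fin 5) × alternatingGroup (Fin 5) × alternatingGroup (Fin 5) → ℕ) =
      Set.range (orderOf : Multiplicative (ZMod 30) → ℕ) := by
  rw [range_A5_cube, range_Z30]

end Cfsg.Agent.S3449
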