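import Cfsg.Statements.S3489
import Cfsg.Agent.Lib.Helper98.A10Grp

set_option autoImplicit false
open Cfsg

namespace Cfsg.Agent.S3489

open Cfsg.Agent.Lib.Helper57 Cfsg.Agent.Lib.Helper98 Cfsg.Agent.Lib.Helper98.A10Mon

/-- The alternating group of degree 10 is not determined by its set of element orders, not even up to finitely many groups: for every bound N there is a finite group of order greater than N with exactly the same set of element orders as the alternating group of degree 10. -/
theorem result (N : ℕ) : ∃ (H : Type) (_ : Group H) (_ : Fintype H), N < Fintype.card H ∧ Set.range (orderOf : H → ℕ) = Set.range (orderOf : alternatingGroup (Fin 10) → ℕ) := by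
  classical
  -- the ring of translations: `N + 1` copies of the coefficient ring
  let ι : R →+* (Fin (N + 1) → R) := Pi.constRingHom (Fin (N + 1)) R
  have hι : Function.Injective ι := fun a b h => congrFun h 0
  have hF9 : Finite F9 := Finite.of_injective (fun x : F9 => (x.re, x.im))
    (fun a b h => QuadraticAlgebra.ext (congrArg Prod.fst h) (congrArg Prod.snd h))
  have hMon : Finite Mon := Finite.of_injective Mon.f (fun a b h => Mon.ext h)
  have hfin : Finite (AffGrp (rho ι)) := inferInstance
  let hft : Fintype (AffGrp (rho ι)) := Fintype.ofFinite _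
  refine ⟨AffGrp (rho ι), inferInstance, hft, ?_, ?_⟩
  · rw [← Nat.card_eq_fintype_card]
    have hinj : Function.Injective (fun y : Fin (N + 1) → R => (⟨y, 1⟩ : AffGrp (rho ι))) := by
      intro a b h
      exact congrArg AffGrp.x h
    have h1 := Nat.card_le_card_of_injective _ hinj
    have h2 : Nat.card (Fin (N + 1) → R) = Nat.card R ^ (N + 1) := by
      rw [Nat.card_fun, Nat.card_fin]
    have h3 : 2 ≤ Nat.card R := Finite.one_lt_card
    have h4 : N < 2 ^ (N + 1) := lt_trans Nat.lt_two_pow_self (Nat.pow_lt_pow_right (by norm_num) (Nat.lt_succ_self N))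
    calc N < 2 ^ (N + 1) := h4
      _ ≤ Nat.card R ^ (N + 1) := Nat.pow_le_pow_left h3 _
      _ = Nat.card (Fin (N + 1) → R) := h2.symm
      _ ≤ Nat.card (AffGrp (rho ι)) := h1
  · rw [spec_eq ι hι, A10Spec.spec_alt10]

end Cfsg.Agent.S3489
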