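import Cfsg.Statements.S3491
import Cfsg.Agent.Lib.Helper58.Aff4

set_option autoImplicit false
open Cfsg

namespace Cfsg.Agent.S3491

open Cfsg.Agent.Lib.Helper58 Matrix

variable {F : Type*} [Field F]

/-- The linear part of an element of the affine group. -/
def blk (M : affSub F) : Matrix (Fin 2) (Fin 2) F :=
  ((M : SpecialLinearGroup (Fin 3) F) : Matrix (Fin 3) (Fin 3) F).submatrix Fin.castSucc Fin.castSucc

theorem blk_one : blk (1 : affSub F) = 1 := by
  ext i j
  fin_cases i <;> fin_cases j <;> simp [blk]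

theorem blk_mul (M N : affSub F) : blk (M * N) = blk M * blk N := by
  obtain ⟨hN0, hN1, hN2⟩ := N.2
  ext i j
  fin_cases i <;> fin_cases j <;>
    simp [blk, Matrix.mul_apply, Fin.sum_univ_three, Fin.sum_univ_two, hN0, hN1]

/-- The linear part as a monoid homomorphism. -/
def blkHom : affSub F →* Matrix (Fin 2) (Fin 2) F where
  toFun := blk
  map_one' := blk_one
  map_mul' := blk_mul

theorem hom_inv_eq {G M : Type*} [Group G] [Monoid M] (φ : G →* M) (a b : G) (h : φ a = φ b) :
    φ a⁻¹ = φ b⁻¹ := by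
  calc φ a⁻¹ = φ a⁻¹ * (φ b * φ b⁻¹) := by rw [← map_mul, mul_inv_cancel, map_one, mul_one]
    _ = φ a⁻¹ * φ a * φ b⁻¹ := by rw [← h, mul_assoc]
    _ = φ b⁻¹ := by rw [← map_mul, inv_mul_cancel, map_one, one_mul]

/-- The fibre power: tuples of elements of the affine group with a common linear part. -/
def fib (F : Type*) [Field F] (k : ℕ) : Subgroup (Fin k → affSub F) where
  carrier := {m | ∀ i j, blkHom (m i) = blkHom (m j)}
  one_mem' := fun i j => rfl
  mul_mem' := by
    intro m n hm hn i j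
    rw [Pi.mul_apply, Pi.mul_apply, map_mul, map_mul, hm i j, hn i j]
  inv_mem' := by
    intro m hm i j
    rw [Pi.inv_apply, Pi.inv_apply]
    exact hom_inv_eq _ _ _ (hm i j)

theorem trace_eq_of_blk_eq (M N : affSub F) (h : blkHom M = blkHom N) :
    ((M : SpecialLinearGroup (Fin 3) F) : Matrix (Fin 3) (Fin 3) F) 0 0 +
      ((M : SpecialLinearGroup (Fin 3) F) : Matrix (Fin 3) (Fin 3) F) 1 1 =
    ((N : SpecialLinearGroup (Fin 3) F) : Matrix (Fin 3) (Fin 3) F) 0 0 +
      ((N : SpecialLinearGroup (Fin 3) F) : Matrix (Fin 3) (Fin 3) F) 1 1 := by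
  have h00 := congrFun (congrFun h 0) 0
  have h11 := congrFun (congrFun h 1) 1
  simp [blkHom, blk] at h00 h11
  rw [h00, h11]

theorem fib_pow_cases [Fintype F] (hF : Fintype.card F = 4) (k : ℕ) (m : Fin (k + 1) → affSub F)
    (hm : m ∈ fib F (k + 1)) : m ^ 2 = 1 ∨ m ^ 3 = 1 ∨ m ^ 4 = 1 ∨ m ^ 5 = 1 := by
  have htr : ∀ i, ((m i : SpecialLinearGroup (Fin 3) F) : Matrix (Fin 3) (Fin 3) F) 0 0 +
      ((m i : SpecialLinearGroup (Fin 3) F) : Matrix (Fin 3) (Fin 3) F) 1 1 =
      ((m 0 : SpecialLinearGroup (Fin 3) F) : Matrix (Fin 3) (Fin 3) F) 0 0 +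
      ((m 0 : SpecialLinearGroup (Fin 3) F) : Matrix (Fin 3) (Fin 3) F) 1 1 :=
    fun i => trace_eq_of_blk_eq _ _ (hm i 0)
  have hpow : ∀ i, _ := fun i => aff_pow hF (m i : SpecialLinearGroup (Fin 3) F) (m i).2
  rcases trichotomy_of_card_four hF
    (((m 0 : SpecialLinearGroup (Fin 3) F) : Matrix (Fin 3) (Fin 3) F) 0 0 +
      ((m 0 : SpecialLinearGroup (Fin 3) F) : Matrix (Fin 3) (Fin 3) F) 1 1) with h | h | h
  · refine Or.inr (Or.inr (Or.inl ?_))
    funext i
    apply Subtype.ext
    rw [Pi.pow_apply, Pi.one_apply, SubgroupClass.coe_pow, OneMemClass.coe_one]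
    exact (hpow i).1 ((htr i).trans h)
  · refine Or.inr (Or.inl ?_)
    funext i
    apply Subtype.ext
    rw [Pi.pow_apply, Pi.one_apply, SubgroupClass.coe_pow, OneMemClass.coe_one]
    exact (hpow i).2.1 ((htr i).trans h)
  · refine Or.inr (Or.inr (Or.inr ?_))
    funext i
    apply Subtype.ext
    rw [Pi.pow_apply, Pi.one_apply, SubgroupClass.coe_pow, OneMemClass.coe_one]
    exact (hpow i).2.2 (by rw [htr i]; exact h)

theorem orderOf_const {G : Type*} [Group G] (k : ℕ) (x : G) :
    orderOf (fun _ : Fin (k + 1) => x) = orderOf x := by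
  rw [orderOf_eq_orderOf_iff]
  intro n
  constructor
  · intro h
    have := congrFun h 0
    simpa using this
  · intro h
    funext i
    simp [h]

theorem fib_spec [Fintype F] (hF : Fintype.card F = 4) (k : ℕ) :
    Set.range (orderOf : fib F (k + 1) → ℕ) = ({1, 2, 3, 4, 5} : Set ℕ) := by
  rw [range_orderOf_subgroup]
  apply Set.Subset.antisymm
  · rintro n ⟨m, hm, rfl⟩
    exact mem_spec_of_pow _ (fib_pow_cases hF k m hm)
  · intro n hn
    obtain ⟨M, hM, rfl⟩ := aff_exists_orders hF n hn
    refine ⟨fun _ => ⟨M, hM⟩, fun i j => rfl, ?_⟩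
    rw [orderOf_const, ← Subgroup.orderOf_coe]

theorem fib_card [Fintype F] (k : ℕ) [Fintype (fib F (k + 1))] :
    Fintype.card F ^ (k + 1) ≤ Fintype.card (fib F (k + 1)) := by
  classical
  have hd : ∀ e : F, (1 : F) * 1 - 0 * 0 = 1 := fun _ => by ring
  let f : (Fin (k + 1) → F) → fib F (k + 1) := fun v =>
    ⟨fun i => ⟨affMk 1 0 0 1 (v i) 0 (hd (v i)), affMk_mem _ _ _ _ _ _ _⟩, by
      intro i j
      ext a b
      fin_cases a <;> fin_cases b <;> simp [blkHom, blk, affMk]⟩
  have hf : Function.Injective f := by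
    intro v w hvw
    funext i
    have h1 := congrFun (congrArg Subtype.val hvw) i
    have h2 := congrArg (fun x : affSub F => ((x : SpecialLinearGroup (Fin 3) F) :
      Matrix (Fin 3) (Fin 3) F) 0 2) h1
    simpa [f, affMk] using h2
  have := Fintype.card_le_of_injective f hf
  simpa using this


/-- The alternating group of degree 6 is not determined by its set of element orders, not even up to finitely many groups: for every bound N there is a finite group of order greater than N with exactly the same set of element orders as the alternating group of degree 6. -/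
theorem result (N : ℕ) : ∃ (H : Type) (_ : Group H) (_ : Fintype H), N < Fintype.card H ∧ Set.range (orderOf : H → ℕ) = Set.range (orderOf : alternatingGroup (Fin 6) → ℕ) := by
  classical
  let _ : Fintype (GaloisField 2 2) := Fintype.ofFinite _
  have hF : Fintype.card (GaloisField 2 2) = 4 := by
    rw [← Nat.card_eq_fintype_card, GaloisField.card 2 2 (by norm_num)]
    norm_num
  refine ⟨fib (GaloisField 2 2) (N + 1), inferInstance, Fintype.ofFinite _, ?_, ?_⟩
  · have h1 := @fib_card (GaloisField 2 2) _ _ N (Fintype.ofFinite _)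
    rw [hF] at h1
    have h2 : N < 4 ^ (N + 1) := by
      calc N < 2 ^ N := Nat.lt_two_pow_self
        _ ≤ 4 ^ (N + 1) := by
          calc 2 ^ N ≤ 4 ^ N := Nat.pow_le_pow_left (by norm_num) N
            _ ≤ 4 ^ (N + 1) := Nat.pow_le_pow_right (by norm_num) (Nat.le_succ N)
    exact lt_of_lt_of_le h2 h1
  · rw [fib_spec hF N, spec_alt6]

end Cfsg.Agent.S3491
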