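import Cfsg.Statements.S3495
import Cfsg.Agent.Lib.Helper58.Manning

set_option autoImplicit false
open Cfsg

namespace Cfsg.Agent.S3495

open Cfsg.Agent.Lib.Helper58 MulAction Subgroup

theorem orbits_eq {G : Type*} [Group G] [Finite G] {Ω : Type*} [Finite Ω] [MulAction G Ω]
    [FaithfulSMul G Ω] (hprim : IsPreprimitive G Ω)
    (hep : ∀ (α : Ω) (ω : Ω), IsPreprimitive (stabilizer G α) (orbit (stabilizer G α) ω))
    (α : Ω) (M : Subgroup G) (hM : M ≠ ⊥) (hMle : M ≤ stabilizer G α)
    (hMn : stabilizer G α ≤ normalizer (M : Set G)) (ω : Ω) :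
    orbit M ω = orbit (stabilizer G α) ω := by
  apply Set.Subset.antisymm
  · rw [orbit_subgroup_eq, orbit_subgroup_eq]
    rintro y ⟨m, hm, rfl⟩
    exact ⟨m, hMle hm, rfl⟩
  · by_cases hω : ω = α
    · subst hω
      rw [orbit_subgroup_eq, orbit_subgroup_eq]
      rintro y ⟨g, hg, rfl⟩
      exact ⟨1, one_mem _, by rw [one_smul, mem_stabilizer_iff.mp hg]⟩
    · have hnorm : (M.subgroupOf (stabilizer G α)).Normal :=
        Subgroup.normal_subgroupOf_of_le_normalizer hMn
      have hq : IsQuasiPreprimitive (stabilizer G α) (orbit (stabilizer G α) ω) :=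
        @IsPreprimitive.isQuasiPreprimitive _ _ _ _ (hep α ω)
      have hfp : fixedPoints (M.subgroupOf (stabilizer G α))
          (orbit (stabilizer G α) ω) ≠ Set.univ := by
        intro huniv
        apply hM
        rw [Subgroup.eq_bot_iff_forall]
        intro m hm
        have hmk : m ∈ kerOn G α ω := by
          refine ⟨hMle hm, fun y hy => ?_⟩
          have hmem : (⟨y, hy⟩ : orbit (stabilizer G α) ω) ∈
              fixedPoints (M.subgroupOf (stabilizer G α)) (orbit (stabilizer G α) ω) := by
            rw [huniv]; exact Set.mem_univ _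
          rw [mem_fixedPoints] at hmem
          exact congrArg Subtype.val (hmem ⟨⟨m, hMle hm⟩, hm⟩)
        rw [manning hprim hep hω, Subgroup.mem_bot] at hmk
        exact hmk
      have hpt := hq.isPretransitive_of_normal hfp
      intro y hy
      obtain ⟨n, hn⟩ := hpt.exists_smul_eq (⟨ω, mem_orbit_self _⟩ :
        orbit (stabilizer G α) ω) ⟨y, hy⟩
      rw [orbit_subgroup_eq]
      exact ⟨n.1.1, n.2, congrArg Subtype.val hn⟩

/-- Let a finite group G act faithfully and primitively on a finite set Ω with non-trivial point stabilizers, each acting primitively on every one of its orbits (an extremely primitive group), and suppose G has an elementary abelian normal p-subgroup N acting regularly on Ω (affine type). Then every non-trivial subgroup M of a point stabilizer G_α that is normal in G_α has the same orbits on Ω as G_α, and normalizes no subgroup of N other than 1 and N. -/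
theorem result {G : Type*} [Group G] [Finite G] {Ω : Type*} [Fintype Ω] [MulAction G Ω] [FaithfulSMul G Ω] (hprim : MulAction.IsPreprimitive G Ω) (hH : ∀ α : Ω, MulAction.stabilizer G α ≠ ⊥) (hep : ∀ (α : Ω) (ω : Ω), MulAction.IsPreprimitive (MulAction.stabilizer G α) (MulAction.orbit (MulAction.stabilizer G α) ω))
    (N : Subgroup G) [N.Normal] (hNc : IsMulCommutative N) (p : ℕ) (hp : p.Prime) (hNp : ∀ n ∈ N, n ^ p = 1)
    (hNtr : MulAction.IsPretransitive N Ω) (hNreg : ∀ ω : Ω, MulAction.stabilizer N ω = ⊥) (α : Ω) (M : Subgroup G) (hM : M ≠ ⊥) (hMle : M ≤ MulAction.stabilizer G α)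
    (hMn : MulAction.stabilizer G α ≤ Subgroup.normalizer (M : Set G)) :
    (∀ ω : Ω, MulAction.orbit M ω = MulAction.orbit (MulAction.stabilizer G α) ω) ∧
    (∀ L : Subgroup G, L ≤ N → M ≤ Subgroup.normalizer (L : Set G) → L = ⊥ ∨ L = N) := by
  have horb := orbits_eq hprim hep α M hM hMle hMn
  refine ⟨horb, ?_⟩
  intro L hLN hML
  by_cases hL : L = ⊥
  · exact Or.inl hL
  right
  -- regularity of N
  have hreg : ∀ a ∈ N, ∀ b ∈ N, a • α = b • α → a = b := by
    intro a ha b hb hab
    have h1 : (⟨b⁻¹ * a, N.mul_mem (N.inv_mem hb) ha⟩ : N) ∈ stabilizer N α := by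
      rw [mem_stabilizer_iff]
      change (b⁻¹ * a) • α = α
      rw [mul_smul, hab, inv_smul_smul]
    rw [hNreg α, Subgroup.mem_bot] at h1
    have h2 : b⁻¹ * a = 1 := congrArg Subtype.val h1
    exact (inv_mul_eq_one.mp h2).symm
  -- the stabiliser normalises L
  have hGL : stabilizer G α ≤ normalizer (L : Set G) := by
    intro g hg
    apply mem_normalizer_fintype
    intro l hl
    have hl' : l ∈ L := hl
    have hgα : g⁻¹ • α = α := by rw [inv_smul_eq_iff, mem_stabilizer_iff.mp hg]
    have h1 : g • (l • α) ∈ orbit (stabilizer G α) (l • α) := by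
      rw [orbit_subgroup_eq]; exact ⟨g, hg, rfl⟩
    rw [← horb, orbit_subgroup_eq] at h1
    obtain ⟨m, hm, hm'⟩ := h1
    have hmα : m⁻¹ • α = α := by rw [inv_smul_eq_iff, mem_stabilizer_iff.mp (hMle hm)]
    have hmL : m * l * m⁻¹ ∈ L := by
      have := (mem_normalizer_iff.mp (hML hm) l).mp hl'
      exact this
    have heq : g * l * g⁻¹ = m * l * m⁻¹ := by
      apply hreg
      · exact ‹N.Normal›.conj_mem l (hLN hl') g
      · exact hLN hmL
      · rw [mul_smul, mul_smul, hgα, mul_smul, mul_smul, hmα, hm']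
    change g * l * g⁻¹ ∈ L
    rw [heq]; exact hmL
  -- L is normal in G
  obtain ⟨⟨l, hl⟩, hl1⟩ := Subgroup.ne_bot_iff_exists_ne_one.mp hL
  have hl1' : l ≠ 1 := fun h => hl1 (Subtype.ext h)
  have hlα : l • α ≠ α := by
    intro h
    apply hl1'
    exact hreg l (hLN hl) 1 N.one_mem (by rw [h, one_smul])
  have hnt : Nontrivial Ω := ⟨⟨l • α, α, hlα⟩⟩
  have hco : IsCoatom (stabilizer G α) :=
    IsPreprimitive.isCoatom_stabilizer_of_isPreprimitive (G := G) (X := Ω) α
  have htop : normalizer (L : Set G) = ⊤ := by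
    rcases hco.le_iff.mp hGL with h | h
    · exact h
    · exfalso
      have h2 : l ∈ normalizer (L : Set G) := le_normalizer hl
      rw [h, mem_stabilizer_iff] at h2
      exact hlα h2
  have hn : L.Normal := normalizer_eq_top_iff.mp htop
  have hq : IsQuasiPreprimitive G Ω := inferInstance
  have hfp : fixedPoints L Ω ≠ Set.univ := by
    intro huniv
    have hmem : α ∈ fixedPoints L Ω := by rw [huniv]; exact Set.mem_univ _
    rw [mem_fixedPoints] at hmem
    exact hlα (hmem ⟨l, hl⟩)
  have hpt : IsPretransitive L Ω := hq.isPretransitive_of_normal hfp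
  apply le_antisymm hLN
  intro n hn'
  obtain ⟨⟨l', hl'⟩, h⟩ := hpt.exists_smul_eq α (n • α)
  have h' : l' • α = n • α := h
  have : l' = n := hreg l' (hLN hl') n hn' h'
  rw [← this]; exact hl'

end Cfsg.Agent.S3495
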