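import Cfsg.Statements.S3496
import Cfsg.Agent.Lib.Helper58.ExtPrim
import Cfsg.Agent.Lib.Helper58.IrredEnd
import Cfsg.Agent.Lib.Helper9.PrimitiveSolvable
import Cfsg.Agent.S0041
import Cfsg.Agent.S3495

set_option autoImplicit false
set_option linter.style.haveILetI false
open Cfsg

namespace Cfsg.Agent.S3496

open Cfsg.Agent.Lib.Helper58 MulAction
open scoped IsMulCommutative

theorem exists_minimal_normal {G : Type*} [Group G] [Finite G] [Nontrivial G] :
    ∃ N : Subgroup G, N.Normal ∧ N ≠ ⊥ ∧
      ∀ K : Subgroup G, K.Normal → K ≤ N → K = ⊥ ∨ K = N := by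
  classical
  let S : Set (Subgroup G) := {N | N.Normal ∧ N ≠ ⊥}
  have hS : S.Nonempty := ⟨⊤, inferInstance, top_ne_bot⟩
  obtain ⟨N, hNS, hmin⟩ := S.toFinite.exists_minimal hS
  refine ⟨N, hNS.1, hNS.2, fun K hK hKN => ?_⟩
  by_cases hKb : K = ⊥
  · exact Or.inl hKb
  · exact Or.inr (le_antisymm hKN (hmin ⟨hK, hKb⟩ hKN))

/-- The `p`-torsion of a commutative normal subgroup, as a normal subgroup. -/
theorem torsion_eq_of_minimal {G : Type*} [Group G] [Finite G] (N : Subgroup G) [hNn : N.Normal]
    (hNcomm : ∀ x ∈ N, ∀ y ∈ N, x * y = y * x)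
    (hmin : ∀ K : Subgroup G, K.Normal → K ≤ N → K = ⊥ ∨ K = N)
    (p : ℕ) [Fact p.Prime] (hpd : p ∣ Nat.card N) : ∀ x ∈ N, x ^ p = 1 := by
  let P : Subgroup G :=
    { carrier := {x | x ∈ N ∧ x ^ p = 1}
      one_mem' := ⟨N.one_mem, one_pow p⟩
      mul_mem' := by
        rintro a b ⟨ha, ha'⟩ ⟨hb, hb'⟩
        refine ⟨N.mul_mem ha hb, ?_⟩
        have hc : Commute a b := hNcomm a ha b hb
        rw [hc.mul_pow, ha', hb', one_mul]
      inv_mem' := by
        rintro a ⟨ha, ha'⟩
        exact ⟨N.inv_mem ha, by rw [inv_pow, ha', inv_one]⟩ }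
  have hPN : P ≤ N := fun x hx => hx.1
  have hPn : P.Normal := by
    refine ⟨fun x hx h => ⟨hNn.conj_mem x hx.1 h, ?_⟩⟩
    rw [conj_pow, hx.2, mul_one, mul_inv_cancel]
  have hPne : P ≠ ⊥ := by
    obtain ⟨x, hx⟩ := exists_prime_orderOf_dvd_card' (G := N) p hpd
    intro hbot
    have hxP : (x : G) ∈ P := by
      refine ⟨x.2, ?_⟩
      rw [← Subgroup.coe_pow, ← hx, pow_orderOf_eq_one, Subgroup.coe_one]
    rw [hbot, Subgroup.mem_bot] at hxP
    have : x = 1 := Subtype.ext hxP
    rw [this, orderOf_one] at hx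
    exact (Fact.out : p.Prime).one_lt.ne hx
  rcases hmin P hPn hPN with h | h
  · exact absurd h hPne
  · intro x hx
    rw [← h] at hx
    exact hx.2


/-- The soluble extremely primitive groups. Let a finite solvable group G act faithfully and primitively on a finite set Ω with p ^ d points (p prime), with non-trivial point stabilizers each acting primitively on every one of its orbits. Then there is a prime q such that every orbit of a point stabilizer G_α other than {α} has exactly q points, q divides p ^ d − 1 but no p ^ i − 1 with 0 < i < d, and G_α has a normal subgroup T of order q with G_α generated by T and one further element and the order of G_α dividing q·d (so G_α is cyclic of order q, or an extension of T by a cyclic group of order dividing d). -/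
theorem result {G : Type*} [Group G] [Finite G] {Ω : Type*} [Fintype Ω] [MulAction G Ω] [FaithfulSMul G Ω] [Group.IsSolvable G] (p d : ℕ) (hp : p.Prime) (hcard : Fintype.card Ω = p ^ d)
    (hprim : MulAction.IsPreprimitive G Ω) (hH : ∀ α : Ω, MulAction.stabilizer G α ≠ ⊥) (hep : ∀ (α : Ω) (ω : Ω), MulAction.IsPreprimitive (MulAction.stabilizer G α) (MulAction.orbit (MulAction.stabilizer G α) ω)) (α : Ω) :
    ∃ q : ℕ, q.Prime ∧ (∀ ω : Ω, ω ≠ α → Nat.card (MulAction.orbit (MulAction.stabilizer G α) ω) = q) ∧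
      q ∣ p ^ d - 1 ∧ (∀ i : ℕ, 0 < i → i < d → ¬ q ∣ p ^ i - 1) ∧
      ∃ T : Subgroup G, T ≤ MulAction.stabilizer G α ∧ MulAction.stabilizer G α ≤ Subgroup.normalizer (T : Set G) ∧ Nat.card T = q ∧
        (∃ h : G, MulAction.stabilizer G α = T ⊔ Subgroup.zpowers h) ∧ Nat.card (MulAction.stabilizer G α) ∣ q * d := by
  haveI : Fact p.Prime := ⟨hp⟩
  -- a point different from α
  obtain ⟨ω₀, hω₀⟩ : ∃ ω : Ω, ω ≠ α := by
    obtain ⟨h, hh1⟩ := (Subgroup.ne_bot_iff_exists_ne_one).mp (hH α)
    by_contra hall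
    push Not at hall
    apply hh1
    apply Subtype.ext
    apply FaithfulSMul.eq_of_smul_eq_smul (α := Ω)
    intro ω'
    rw [hall ω', Subgroup.coe_one, one_smul]
    exact h.2
  -- the regular normal subgroup N
  haveI : Nontrivial G := by
    rw [← not_subsingleton_iff_nontrivial]
    intro hs
    exact hH α (Subsingleton.elim _ _)
  obtain ⟨N, hNn, hNne, hNmin⟩ := exists_minimal_normal (G := G)
  haveI := hNn
  have hNcomm := Cfsg.Agent.Lib.Helper9.minimal_normal_comm N hNne hNmin
  haveI hNc : IsMulCommutative N := ⟨⟨fun a b => Subtype.ext (hNcomm a a.2 b b.2)⟩⟩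
  haveI hNtr : IsPretransitive N Ω :=
    Cfsg.Agent.Lib.Helper9.minimal_normal_isPretransitive hprim N hNne
  have hNreg : ∀ ω : Ω, stabilizer N ω = ⊥ :=
    Cfsg.Agent.Lib.Helper9.minimal_normal_stabilizer_eq_bot hprim N hNne hNmin
  have hNcard : Nat.card N = p ^ d := by
    rw [card_eq_of_regular N hNtr hNreg α, Nat.card_eq_fintype_card, hcard]
  have hd : 0 < d := by
    rcases Nat.eq_zero_or_pos d with h0 | h0
    · exfalso
      rw [h0, pow_zero] at hNcard
      exact hNne ((Subgroup.eq_bot_iff_card N).mpr hNcard)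
    · exact h0
  have hNp : ∀ n ∈ N, n ^ p = 1 :=
    torsion_eq_of_minimal N hNcomm hNmin p (by rw [hNcard]; exact dvd_pow_self p hd.ne')
  -- the minimal normal subgroup M of the stabilizer
  have hfaith : ∀ ω' : Ω, ω' ≠ α →
      FaithfulSMul (stabilizer G α) (orbit (stabilizer G α) ω') :=
    fun ω' h => faithful_on_orbit hprim hep h
  haveI : Nontrivial (stabilizer G α) := (Subgroup.nontrivial_iff_ne_bot _).mpr (hH α)
  obtain ⟨M, hMn, hMne, hMmin⟩ := exists_minimal_normal (G := stabilizer G α)
  haveI := hMn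
  have hMcomm := Cfsg.Agent.Lib.Helper9.minimal_normal_comm M hMne hMmin
  haveI hMc : IsMulCommutative M := ⟨⟨fun a b => Subtype.ext (hMcomm a a.2 b b.2)⟩⟩
  have key : ∀ ω' : Ω, ω' ≠ α →
      IsPretransitive M (orbit (stabilizer G α) ω') ∧
      (∀ δ : orbit (stabilizer G α) ω', stabilizer M δ = ⊥) ∧
      Subgroup.centralizer (M : Set (stabilizer G α)) ≤ M := by
    intro ω' hω'
    haveI := hfaith ω' hω'
    exact abelian_normal_regular (hep α ω') M hMc hMne
  -- a prime q dividing |M|; M has exponent q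
  have hMcard1 : 1 < Nat.card M := (Subgroup.one_lt_card_iff_ne_bot _).mpr hMne
  obtain ⟨q, hq, hqd⟩ := Nat.exists_prime_and_dvd (by omega : Nat.card M ≠ 1)
  haveI : Fact q.Prime := ⟨hq⟩
  have hMexp : ∀ x ∈ M, x ^ q = 1 := torsion_eq_of_minimal M hMcomm hMmin q hqd
  -- T = M as a subgroup of G
  set T : Subgroup G := M.map (stabilizer G α).subtype with hTdef
  have hTle : T ≤ stabilizer G α := Subgroup.map_subtype_le M
  have hTmem : ∀ g : G, g ∈ T ↔ ∃ hg : g ∈ stabilizer G α, (⟨g, hg⟩ : stabilizer G α) ∈ M := by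
    intro g
    constructor
    · rintro ⟨x, hx, rfl⟩
      exact ⟨x.2, hx⟩
    · rintro ⟨hg, hgM⟩
      exact ⟨⟨g, hg⟩, hgM, rfl⟩
  have hTcard : Nat.card T = Nat.card M :=
    Subgroup.card_map_of_injective (Subgroup.subtype_injective _)
  have hTnorm : stabilizer G α ≤ Subgroup.normalizer (T : Set G) := by
    intro h hh
    rw [Subgroup.mem_normalizer_iff]
    intro x
    constructor
    · intro hx
      obtain ⟨hx1, hx2⟩ := (hTmem x).mp hx
      rw [hTmem]
      refine ⟨mul_mem (mul_mem hh hx1) (inv_mem hh), ?_⟩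
      exact hMn.conj_mem ⟨x, hx1⟩ hx2 ⟨h, hh⟩
    · intro hx
      obtain ⟨hx1, hx2⟩ := (hTmem _).mp hx
      rw [hTmem]
      have hxs : x ∈ stabilizer G α := by
        have := mul_mem (mul_mem (inv_mem hh) hx1) hh
        simpa [mul_assoc] using this
      refine ⟨hxs, ?_⟩
      have := hMn.conj_mem _ hx2 ⟨h, hh⟩⁻¹
      convert this using 1
      apply Subtype.ext
      simp [mul_assoc]
  -- semiregularity of T off α
  have hTsemi : ∀ ω' : Ω, ω' ≠ α → ∀ a ∈ T, a • ω' = ω' → a = 1 := by
    intro ω' hω' a ha hfix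
    obtain ⟨ha1, ha2⟩ := (hTmem a).mp ha
    obtain ⟨-, hreg, -⟩ := key ω' hω'
    have : (⟨⟨a, ha1⟩, ha2⟩ : M) ∈
        stabilizer M (⟨ω', mem_orbit_self ω'⟩ : orbit (stabilizer G α) ω') := by
      rw [mem_stabilizer_iff]
      exact Subtype.ext hfix
    rw [hreg, Subgroup.mem_bot] at this
    exact congrArg (fun x : M => ((x : stabilizer G α) : G)) this
  -- T is cyclic, by the fixed-point-free action on N
  have hTcyc : IsCyclic T := by
    apply Cfsg.Agent.S0041.result T N hNne
    · intro g _
      rw [Subgroup.normalizer_eq_top]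
      trivial
    · intro a ha ha1
      rw [eq_bot_iff]
      rintro n ⟨hnN, hnC⟩
      rw [Subgroup.mem_bot]
      by_contra hn1
      have hnα : n • α ≠ α := by
        intro h
        have : (⟨n, hnN⟩ : N) ∈ stabilizer N α := h
        rw [hNreg α, Subgroup.mem_bot] at this
        exact hn1 (congrArg Subtype.val this)
      apply ha1
      apply hTsemi (n • α) hnα a ha
      have hcomm : n * a = a * n := by
        have := Subgroup.mem_centralizer_iff.mp hnC a (Set.mem_singleton a)
        exact this.symm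
      rw [← mul_smul, ← hcomm, mul_smul]
      congr 1
      exact hTle ha
    · left
      infer_instance
  have hTq : Nat.card T = q := by
    have h1 : Monoid.exponent T = Nat.card T := IsCyclic.exponent_eq_card
    have h2 : Monoid.exponent T ∣ q := by
      apply Monoid.exponent_dvd_of_forall_pow_eq_one
      intro x
      obtain ⟨hx1, hx2⟩ := (hTmem x).mp x.2
      apply Subtype.ext
      rw [Subgroup.coe_pow, Subgroup.coe_one]
      have := hMexp ⟨x, hx1⟩ hx2
      exact congrArg Subtype.val this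
    rw [h1] at h2
    rcases (Nat.dvd_prime hq).mp h2 with h | h
    · rw [hTcard] at h; omega
    · exact h
  have hMq : Nat.card M = q := by rw [← hTcard, hTq]
  -- a generator τ of T
  obtain ⟨⟨τ, hτT⟩, hτgen⟩ := IsCyclic.exists_generator (α := T)
  have hτpow : ∀ x ∈ T, ∃ k : ℕ, τ ^ k = x := by
    intro x hx
    have h1 := hτgen ⟨x, hx⟩
    rw [← mem_powers_iff_mem_zpowers] at h1
    obtain ⟨k, hk⟩ := h1
    exact ⟨k, congrArg Subtype.val hk⟩
  have hτα : τ ∈ stabilizer G α := hTle hτT
  have hτord : orderOf τ = q := by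
    have h1 : orderOf (⟨τ, hτT⟩ : T) = Nat.card T := orderOf_eq_card_of_forall_mem_zpowers hτgen
    rw [← hTq, ← h1, ← Subgroup.orderOf_coe]
  have hτq : τ ^ q = 1 := by rw [← hτord]; exact pow_orderOf_eq_one τ
  have hTne : T ≠ ⊥ := by
    intro h
    rw [h, Subgroup.card_bot] at hTq
    exact hq.one_lt.ne hTq
  -- conjugation by τ on N
  set φ : N ≃* N := MulAut.conjNormal τ with hφdef
  have hiter : ∀ (g : G) (i : ℕ) (x : N),
      ((MulAut.conjNormal g : MulAut N)^[i]) x = (MulAut.conjNormal (g ^ i) : MulAut N) x := by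
    intro g i
    induction i with
    | zero => intro x; simp
    | succ i ih =>
      intro x
      rw [Function.iterate_succ_apply', ih, pow_succ', map_mul]
      rfl
  have hexpN : ∀ x : N, x ^ p = 1 := fun x => Subtype.ext (by
    rw [Subgroup.coe_pow, Subgroup.coe_one]; exact hNp x x.2)
  haveI : Nontrivial N := (Subgroup.nontrivial_iff_ne_bot N).mpr hNne
  have hφq : ∀ x : N, (φ^[q]) x = x := by
    intro x
    rw [hφdef, hiter, hτq, map_one]
    rfl
  -- irreducibility, from S3495
  have h3495 := (Cfsg.Agent.S3495.result hprim hH hep N hNc p hp hNp hNtr hNreg α T hTne hTle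
    hTnorm).2
  have hirr : ∀ L : Subgroup N, (∀ x ∈ L, φ x ∈ L) → L = ⊥ ∨ L = ⊤ := by
    intro L hL
    have hLpow : ∀ (k : ℕ) (y : G), y ∈ L.map N.subtype →
        τ ^ k * y * (τ ^ k)⁻¹ ∈ L.map N.subtype := by
      intro k
      induction k with
      | zero => intro y hy; simpa using hy
      | succ k ih =>
        intro y hy
        obtain ⟨z, hz, hzy⟩ := ih y hy
        refine ⟨φ z, hL z hz, ?_⟩
        rw [Subgroup.subtype_apply] at hzy ⊢
        rw [hφdef, MulAut.conjNormal_apply, hzy, pow_succ']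
        group
    have hτnorm : τ ∈ Subgroup.normalizer ((L.map N.subtype : Subgroup G) : Set G) := by
      rw [Subgroup.mem_normalizer_iff]
      intro y
      constructor
      · intro hy
        have := hLpow 1 y hy
        simpa using this
      · intro hy
        have := hLpow (q - 1) _ hy
        have hq1 : τ ^ (q - 1) * τ = 1 := by
          rw [← pow_succ, Nat.sub_add_cancel hq.pos, hτq]
        have h2 : τ ^ (q - 1) * (τ * y * τ⁻¹) * (τ ^ (q - 1))⁻¹ = y := by
          have h3 : (τ ^ (q - 1))⁻¹ = τ := by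
            rw [inv_eq_iff_eq_inv, eq_inv_iff_mul_eq_one]
            exact hq1
          rw [h3]
          calc τ ^ (q - 1) * (τ * y * τ⁻¹) * τ
              = (τ ^ (q - 1) * τ) * y * (τ⁻¹ * τ) := by group
            _ = y := by rw [hq1, inv_mul_cancel, one_mul, mul_one]
        rwa [h2] at this
    have hTnormL : T ≤ Subgroup.normalizer ((L.map N.subtype : Subgroup G) : Set G) := by
      intro x hx
      obtain ⟨k, rfl⟩ := hτpow x hx
      exact pow_mem hτnorm k
    rcases h3495 (L.map N.subtype) (Subgroup.map_subtype_le L) hTnormL with h | h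
    · left
      rwa [Subgroup.map_eq_bot_iff_of_injective _ N.subtype_injective] at h
    · right
      rw [eq_top_iff]
      intro x _
      have hx : (x : G) ∈ L.map N.subtype := by rw [h]; exact x.2
      obtain ⟨y, hy, hyx⟩ := hx
      have : y = x := Subtype.ext hyx
      rwa [← this]
  refine ⟨q, hq, ?_, ?_, ?_, ?_⟩
  · -- orbit sizes
    intro ω' hω'
    obtain ⟨htr, hreg, -⟩ := key ω' hω'
    rw [← card_eq_of_regular M htr hreg ⟨ω', mem_orbit_self ω'⟩, hMq]
  · -- q ∣ p ^ d - 1
    rw [← hcard, ← hMq]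
    apply card_dvd_card_sub_one (K := M) α
    · intro k
      exact (k : stabilizer G α).2
    · intro ω' hω' k hk
      obtain ⟨-, hreg', -⟩ := key ω' hω'
      have : k ∈ stabilizer M (⟨ω', mem_orbit_self ω'⟩ : orbit (stabilizer G α) ω') := by
        rw [mem_stabilizer_iff]
        exact Subtype.ext hk
      rw [hreg', Subgroup.mem_bot] at this
      exact this
  · -- q ∤ p ^ i - 1 for 0 < i < d
    intro i hi hid hqi
    have h1 := (mul_irred_key p (M := N) hexpN d hNcard φ hirr).1 q i hφq hi hqi
    omega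
  · -- the structure of the stabilizer
    refine ⟨T, hTle, hTnorm, hTq, ?_⟩
    -- the conjugation action of the stabilizer on M
    let Φ : stabilizer G α →* MulAut M := MulAut.conjNormal
    have hcentM : Subgroup.centralizer (M : Set (stabilizer G α)) ≤ M := (key ω₀ hω₀).2.2
    have hker : Φ.ker = M := by
      ext h
      rw [MonoidHom.mem_ker]
      constructor
      · intro hh
        apply hcentM
        rw [Subgroup.mem_centralizer_iff]
        intro x hx
        have h1 := congrArg (fun f : MulAut M => ((f ⟨x, hx⟩ : M) : stabilizer G α)) hh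
        simp only [Φ, MulAut.conjNormal_apply, MulAut.one_apply] at h1
        exact (mul_inv_eq_iff_eq_mul.mp h1).symm
      · intro hh
        apply MulEquiv.ext
        intro x
        apply Subtype.ext
        simp only [Φ, MulAut.conjNormal_apply, MulAut.one_apply]
        rw [hMcomm h hh x x.2]
        group
    -- the automorphism group of M is cyclic
    haveI : IsCyclic M := isCyclic_of_prime_card hMq
    haveI : IsCyclic (ZMod (Nat.card M))ˣ := ZMod.isCyclic_units_prime (hMq ▸ hq)
    haveI : IsCyclic (MulAut M) :=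
      isCyclic_of_surjective (IsCyclic.mulAutMulEquiv M).symm (MulEquiv.surjective _)
    obtain ⟨⟨φ₀, h₀, rfl⟩, hgen⟩ := IsCyclic.exists_generator (α := Φ.range)
    -- conjugation by h₀ on τ
    set u : G := (h₀ : G) with hudef
    have huα : u ∈ stabilizer G α := h₀.2
    obtain ⟨a, ha⟩ := hτpow (u * τ * u⁻¹)
      ((Subgroup.mem_normalizer_iff.mp (hTnorm huα) τ).mp hτT)
    obtain ⟨j, hj⟩ := (mul_irred_key p (M := N) hexpN d hNcard φ hirr).2
      (MulAut.conjNormal u : MulAut N) a (by
        intro x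
        apply Subtype.ext
        rw [hφdef, hiter, MulAut.conjNormal_apply, MulAut.conjNormal_apply,
          MulAut.conjNormal_symm_apply, MulAut.conjNormal_apply, ha]
        group)
    -- τ ^ a = τ ^ (p ^ j)
    have hpow_eq : τ ^ a = τ ^ (p ^ j) := by
      have hc : (τ ^ (p ^ j))⁻¹ * τ ^ a = 1 := by
        apply eq_one_of_commute_of_fix N _ _ α
        · have h1 : τ ^ a ∈ stabilizer G α := pow_mem hτα a
          have h2 : (τ ^ (p ^ j))⁻¹ ∈ stabilizer G α := inv_mem (pow_mem hτα _)
          exact mul_mem h2 h1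
        · intro x hx
          have h1 := congrArg Subtype.val (hj ⟨x, hx⟩)
          rw [hφdef, hiter, hiter, MulAut.conjNormal_apply, MulAut.conjNormal_apply] at h1
          simp only at h1
          have h2 : τ ^ a * x = τ ^ (p ^ j) * x * (τ ^ (p ^ j))⁻¹ * τ ^ a := by
            rw [← h1]; group
          calc (τ ^ (p ^ j))⁻¹ * τ ^ a * x = (τ ^ (p ^ j))⁻¹ * (τ ^ a * x) := by group
            _ = (τ ^ (p ^ j))⁻¹ * (τ ^ (p ^ j) * x * (τ ^ (p ^ j))⁻¹ * τ ^ a) := by rw [← h2]
            _ = x * ((τ ^ (p ^ j))⁻¹ * τ ^ a) := by group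
      rw [inv_mul_eq_one] at hc
      exact hc.symm
    have huτ : u * τ * u⁻¹ = τ ^ (p ^ j) := by rw [← ha, hpow_eq]
    have huk : ∀ k : ℕ, u ^ k * τ * (u ^ k)⁻¹ = τ ^ ((p ^ j) ^ k) := by
      intro k
      induction k with
      | zero => simp
      | succ k ih =>
        have : u ^ (k + 1) * τ * (u ^ (k + 1))⁻¹ = u * (u ^ k * τ * (u ^ k)⁻¹) * u⁻¹ := by
          rw [pow_succ']; group
        rw [this, ih, ← conj_pow, huτ, ← pow_mul, pow_succ, mul_comm]
    have hτpd : τ ^ (p ^ d) = τ := by
      obtain ⟨k, hk⟩ : q ∣ p ^ d - 1 := by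
        rw [← hcard, ← hMq]
        apply card_dvd_card_sub_one (K := M) α
        · intro k
          exact (k : stabilizer G α).2
        · intro ω' hω' k hk
          obtain ⟨-, hreg', -⟩ := key ω' hω'
          have : k ∈ stabilizer M (⟨ω', mem_orbit_self ω'⟩ : orbit (stabilizer G α) ω') := by
            rw [mem_stabilizer_iff]
            exact Subtype.ext hk
          rw [hreg', Subgroup.mem_bot] at this
          exact this
      have hpd : p ^ d = q * k + 1 := by
        have : 1 ≤ p ^ d := Nat.one_le_pow _ _ hp.pos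
        omega
      rw [hpd, pow_succ, pow_mul, hτq, one_pow, one_mul]
    have hτpdj : ∀ l : ℕ, τ ^ ((p ^ d) ^ l) = τ := by
      intro l
      induction l with
      | zero => simp
      | succ l ih => rw [pow_succ, pow_mul, ih, hτpd]
    have hud : u ^ d * τ * (u ^ d)⁻¹ = τ := by
      rw [huk d, ← pow_mul, mul_comm, pow_mul, hτpdj]
    -- hence Φ h₀ has order dividing d
    have hΦd : (Φ h₀) ^ d = 1 := by
      rw [← map_pow]
      apply MulEquiv.ext
      intro x
      apply Subtype.ext
      apply Subtype.ext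
      obtain ⟨k, hk⟩ := hτpow ((x : stabilizer G α) : G) ⟨x, x.2, rfl⟩
      simp only [Φ, MulAut.conjNormal_apply, MulAut.one_apply, Subgroup.coe_mul,
        Subgroup.coe_pow, Subgroup.coe_inv]
      rw [← hudef, ← hk, ← conj_pow, hud]
    constructor
    · -- generation
      refine ⟨u, le_antisymm ?_ (sup_le hTle ?_)⟩
      · intro x hx
        have h1 := hgen ⟨Φ ⟨x, hx⟩, ⟨x, hx⟩, rfl⟩
        obtain ⟨k, hk⟩ := h1
        have hk' : (Φ h₀) ^ k = Φ ⟨x, hx⟩ := by
          have := congrArg Subtype.val hk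
          simpa using this
        have hmem : (⟨x, hx⟩ : stabilizer G α) * (h₀ ^ k)⁻¹ ∈ M := by
          rw [← hker, MonoidHom.mem_ker, map_mul, map_inv, map_zpow, hk', mul_inv_cancel]
        have hxeq : x = (x * (u ^ k)⁻¹) * u ^ k := by group
        rw [hxeq]
        apply Subgroup.mul_mem_sup
        · rw [hTmem]
          refine ⟨mul_mem hx (inv_mem (zpow_mem huα k)), ?_⟩
          convert hmem using 1
          apply Subtype.ext
          simp [hudef]
        · exact Subgroup.zpow_mem_zpowers u k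
      · rw [Subgroup.zpowers_le]
        exact huα
    · -- the order
      have h1 : Nat.card Φ.ker * Φ.ker.index = Nat.card (stabilizer G α) :=
        Subgroup.card_mul_index Φ.ker
      rw [Subgroup.index_ker, hker, hMq] at h1
      rw [← h1]
      apply Nat.mul_dvd_mul_left
      have h2 : orderOf (⟨Φ h₀, h₀, rfl⟩ : Φ.range) = Nat.card Φ.range :=
        orderOf_eq_card_of_forall_mem_zpowers hgen
      rw [← h2, ← Subgroup.orderOf_coe]
      exact orderOf_dvd_of_pow_eq_one hΦd

end Cfsg.Agent.S3496
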