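import Cfsg.Statements.S3497
import Cfsg.Agent.Lib.Helper58.ExtPrim
import Cfsg.Agent.Lib.Helper22.Fitting

set_option autoImplicit false
set_option linter.style.haveILetI false
open Cfsg

namespace Cfsg.Agent.S3497

open Cfsg.Agent.Lib.Helper58 MulAction
open scoped IsMulCommutative

/-- Restrictions on the point stabilizer of an extremely primitive group. Let a finite group G act faithfully and primitively on a finite set Ω with point stabilizers H = G_α whose order is neither 1 nor a prime, each acting primitively on every one of its orbits. Then H has trivial center, the Fitting subgroup F(H) is an elementary abelian p-group for some prime p, and if F(H) ≠ 1 has order p ^ e then p ^ e divides the number of points minus one and H / F(H) embeds in GL_e(p) (there is a homomorphism from H to GL_e(p) with kernel exactly F(H)). -/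
theorem result {G : Type*} [Group G] [Finite G] {Ω : Type*} [Fintype Ω] [MulAction G Ω] [FaithfulSMul G Ω] (hprim : MulAction.IsPreprimitive G Ω) (hep : ∀ (α : Ω) (ω : Ω), MulAction.IsPreprimitive (MulAction.stabilizer G α) (MulAction.orbit (MulAction.stabilizer G α) ω)) (α : Ω)
    (hH1 : MulAction.stabilizer G α ≠ ⊥) (hHp : ¬ (Nat.card (MulAction.stabilizer G α)).Prime) :
    Subgroup.center (MulAction.stabilizer G α) = ⊥ ∧
    IsMulCommutative (Cfsg.fittingSubgroup (MulAction.stabilizer G α)) ∧
    ∃ p e : ℕ, p.Prime ∧ Nat.card (Cfsg.fittingSubgroup (MulAction.stabilizer G α)) = p ^ e ∧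
      (∀ x ∈ Cfsg.fittingSubgroup (MulAction.stabilizer G α), x ^ p = 1) ∧
      (Cfsg.fittingSubgroup (MulAction.stabilizer G α) ≠ ⊥ →
        p ^ e ∣ Fintype.card Ω - 1 ∧
        ∃ φ : MulAction.stabilizer G α →* GL (Fin e) (ZMod p), φ.ker = Cfsg.fittingSubgroup (MulAction.stabilizer G α)) := by
  -- a point moved by the stabilizer
  obtain ⟨ω, hω⟩ : ∃ ω : Ω, ω ≠ α := by
    obtain ⟨h, hh1⟩ := (Subgroup.ne_bot_iff_exists_ne_one).mp hH1
    by_contra hall
    push Not at hall
    apply hh1
    apply Subtype.ext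
    apply FaithfulSMul.eq_of_smul_eq_smul (α := Ω)
    intro ω'
    rw [hall ω', Subgroup.coe_one, one_smul]
    exact h.2
  have hfaith : ∀ ω' : Ω, ω' ≠ α →
      FaithfulSMul (stabilizer G α) (orbit (stabilizer G α) ω') :=
    fun ω' h => faithful_on_orbit hprim hep h
  have key : ∀ (A : Subgroup (stabilizer G α)) [A.Normal], IsMulCommutative A → A ≠ ⊥ →
      ∀ ω' : Ω, ω' ≠ α →
      IsPretransitive A (orbit (stabilizer G α) ω') ∧
      (∀ δ : orbit (stabilizer G α) ω', stabilizer A δ = ⊥) ∧
      Subgroup.centralizer (A : Set (stabilizer G α)) ≤ A := by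
    intro A _ hAc hA ω' hω'
    haveI := hfaith ω' hω'
    exact abelian_normal_regular (hep α ω') A hAc hA
  -- the center is trivial
  have hcenter : Subgroup.center (stabilizer G α) = ⊥ := by
    by_contra hZ
    obtain ⟨htr, hreg, hcent⟩ := key (Subgroup.center (stabilizer G α)) inferInstance hZ ω hω
    have hZtop : Subgroup.center (stabilizer G α) = ⊤ := by
      rw [eq_top_iff]
      refine le_trans ?_ hcent
      rw [Subgroup.centralizer_eq_top_iff_subset.mpr (subset_refl _)]
    have hcomm : ∀ a b : stabilizer G α, a * b = b * a := by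
      intro a b
      have : a ∈ Subgroup.center (stabilizer G α) := by rw [hZtop]; trivial
      exact (Subgroup.mem_center_iff.mp this b).symm
    haveI := hfaith ω hω
    let δ : orbit (stabilizer G α) ω := ⟨ω, mem_orbit_self ω⟩
    have hstab : stabilizer (stabilizer G α) δ = ⊥ := by
      rw [Subgroup.eq_bot_iff_forall]
      intro h hh
      have hz : h ∈ Subgroup.center (stabilizer G α) := by rw [hZtop]; trivial
      have : (⟨h, hz⟩ : Subgroup.center (stabilizer G α)) ∈
          stabilizer (Subgroup.center (stabilizer G α)) δ := hh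
      rw [hreg δ, Subgroup.mem_bot] at this
      exact congrArg Subtype.val this
    haveI : Nontrivial (orbit (stabilizer G α) ω) := by
      have hc := card_eq_of_regular (Subgroup.center (stabilizer G α)) htr hreg δ
      have h1 : 1 < Nat.card (Subgroup.center (stabilizer G α)) :=
        (Subgroup.one_lt_card_iff_ne_bot _).mpr hZ
      rw [hc] at h1
      exact Finite.one_lt_card_iff_nontrivial.mp h1
    haveI := hep α ω
    have hco : IsCoatom (stabilizer (stabilizer G α) δ) :=
      IsPreprimitive.isCoatom_stabilizer_of_isPreprimitive _ δ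
    rw [hstab] at hco
    exact hHp (prime_card_of_bot_isCoatom hcomm hco)
  -- the Fitting subgroup
  haveI hFn : (Cfsg.fittingSubgroup (stabilizer G α)).Normal :=
    Cfsg.Agent.Lib.Helper22.fittingSubgroup_normal _
  haveI hFnil : Group.IsNilpotent (Cfsg.fittingSubgroup (stabilizer G α)) :=
    Cfsg.Agent.Lib.Helper22.fittingSubgroup_isNilpotent
  by_cases hF : Cfsg.fittingSubgroup (stabilizer G α) = ⊥
  · refine ⟨hcenter, ?_, 2, 0, Nat.prime_two, ?_, ?_, fun h => absurd hF h⟩
    · rw [hF]; exact ⟨⟨fun a b => Subsingleton.elim _ _⟩⟩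
    · rw [hF]; simp
    · intro x hx; rw [hF, Subgroup.mem_bot] at hx; rw [hx, one_pow]
  -- F ≠ ⊥
  set F := Cfsg.fittingSubgroup (stabilizer G α) with hFdef
  haveI : Nontrivial F := (Subgroup.nontrivial_iff_ne_bot F).mpr hF
  have hZF : Subgroup.center F ≠ ⊥ := Group.IsNilpotent.center_ne_bot _
  -- A = Z(F) as a subgroup of H
  have hAne : (Subgroup.center F).map F.subtype ≠ ⊥ := by
    intro h
    apply hZF
    rwa [Subgroup.map_eq_bot_iff_of_injective _ F.subtype_injective] at h
  obtain ⟨-, -, hAcent⟩ := key ((Subgroup.center F).map F.subtype) inferInstance hAne ω hω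
  -- F is contained in Z(F), hence abelian
  have hFcomm : ∀ a b : stabilizer G α, a ∈ F → b ∈ F → a * b = b * a := by
    have hFA : F ≤ (Subgroup.center F).map F.subtype := by
      refine le_trans ?_ hAcent
      intro f hf
      rw [Subgroup.mem_centralizer_iff]
      rintro a ⟨z, hz, rfl⟩
      have := Subgroup.mem_center_iff.mp hz ⟨f, hf⟩
      have h2 := congrArg Subtype.val this
      simpa using h2.symm
    intro a b ha hb
    obtain ⟨z, hz, rfl⟩ := hFA ha
    have := Subgroup.mem_center_iff.mp hz ⟨b, hb⟩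
    have h2 := congrArg Subtype.val this
    simpa using h2.symm
  haveI hFc : IsMulCommutative F :=
    ⟨⟨fun a b => Subtype.ext (hFcomm a b a.2 b.2)⟩⟩
  obtain ⟨hFtr, hFreg, hFcent⟩ := key F hFc hF ω hω
  -- a prime dividing |F|
  have hFcard1 : 1 < Nat.card F := (Subgroup.one_lt_card_iff_ne_bot _).mpr hF
  obtain ⟨p, hp, hpd⟩ := Nat.exists_prime_and_dvd (by omega : Nat.card F ≠ 1)
  haveI : Fact p.Prime := ⟨hp⟩
  -- the p-torsion subgroup
  let P : Subgroup (stabilizer G α) :=
    { carrier := {x | x ∈ F ∧ x ^ p = 1}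
      one_mem' := ⟨F.one_mem, one_pow p⟩
      mul_mem' := by
        rintro a b ⟨ha, ha'⟩ ⟨hb, hb'⟩
        refine ⟨F.mul_mem ha hb, ?_⟩
        have hc : Commute a b := hFcomm a b ha hb
        rw [hc.mul_pow, ha', hb', one_mul]
      inv_mem' := by
        rintro a ⟨ha, ha'⟩
        exact ⟨F.inv_mem ha, by rw [inv_pow, ha', inv_one]⟩ }
  have hPF : P ≤ F := fun x hx => hx.1
  haveI hPn : P.Normal := by
    refine ⟨fun x hx h => ⟨hFn.conj_mem x hx.1 h, ?_⟩⟩
    rw [conj_pow, hx.2, mul_one, mul_inv_cancel]
  have hPne : P ≠ ⊥ := by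
    obtain ⟨x, hx⟩ := exists_prime_orderOf_dvd_card' (G := F) p hpd
    intro hbot
    have hxP : (x : stabilizer G α) ∈ P := by
      refine ⟨x.2, ?_⟩
      rw [← Subgroup.coe_pow, ← hx, pow_orderOf_eq_one, Subgroup.coe_one]
    rw [hbot, Subgroup.mem_bot] at hxP
    have : x = 1 := Subtype.ext hxP
    rw [this, orderOf_one] at hx
    exact hp.one_lt.ne hx
  have hPc : IsMulCommutative P :=
    ⟨⟨fun a b => Subtype.ext (hFcomm a b (hPF a.2) (hPF b.2))⟩⟩
  obtain ⟨hPtr, hPreg, -⟩ := key P hPc hPne ω hω
  haveI := hfaith ω hω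
  let δ : orbit (stabilizer G α) ω := ⟨ω, mem_orbit_self ω⟩
  have hPFeq : P = F := by
    apply Subgroup.eq_of_le_of_card_ge hPF
    rw [card_eq_of_regular P hPtr hPreg δ, card_eq_of_regular F hFtr hFreg δ]
  have hexpF : ∀ x ∈ F, x ^ p = 1 := by
    intro x hx
    rw [← hPFeq] at hx
    exact hx.2
  have hexpF' : ∀ x : F, x ^ p = 1 := fun x => Subtype.ext (by
    rw [Subgroup.coe_pow, Subgroup.coe_one]; exact hexpF x x.2)
  have hpg : IsPGroup p F := fun x => ⟨1, by rw [pow_one]; exact hexpF' x⟩
  obtain ⟨e, he⟩ := IsPGroup.iff_card.mp hpg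
  refine ⟨hcenter, hFc, p, e, hp, he, hexpF, fun _ => ⟨?_, ?_⟩⟩
  · -- counting
    rw [← he]
    apply card_dvd_card_sub_one (K := F) α
    · intro k
      exact (k : stabilizer G α).2
    · intro ω' hω' k hk
      obtain ⟨-, hreg', -⟩ := key F hFc hF ω' hω'
      have : k ∈ stabilizer F (⟨ω', mem_orbit_self ω'⟩ : orbit (stabilizer G α) ω') := by
        rw [mem_stabilizer_iff]
        exact Subtype.ext hk
      rw [hreg', Subgroup.mem_bot] at this
      exact this
  · -- the homomorphism to GL
    obtain ⟨φ, hφ⟩ := exists_glHom p (M := F) hexpF' e he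
      (MulAut.conjNormal : stabilizer G α →* MulAut F)
    refine ⟨φ, ?_⟩
    rw [hφ]
    ext h
    rw [MonoidHom.mem_ker]
    constructor
    · intro hh
      apply hFcent
      rw [Subgroup.mem_centralizer_iff]
      intro x hx
      have h1 := congrArg (fun f : MulAut F => ((f ⟨x, hx⟩ : F) : stabilizer G α)) hh
      simp only [MulAut.conjNormal_apply, MulAut.one_apply] at h1
      exact (mul_inv_eq_iff_eq_mul.mp h1).symm
    · intro hh
      ext x
      rw [MulAut.conjNormal_apply, MulAut.one_apply, hFcomm h x hh x.2]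
      group

end Cfsg.Agent.S3497
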