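import Cfsg.Statements.S3498

set_option autoImplicit false
open Cfsg

namespace Cfsg.Agent.S3498

open Subgroup

theorem index_dvd_card_of_sup_eq_top {G : Type*} [Group G] [Finite G] (M K : Subgroup G) [K.Normal]
    (h : M ⊔ K = ⊤) : M.index ∣ Nat.card K := by
  have hK : K.relIndex M = K.index := by
    rw [← relIndex_sup_right M K, h, relIndex_top_right]
  have h1 : Nat.card (M ⊓ K : Subgroup G) * K.relIndex M = Nat.card M := by
    rw [← relIndex_bot_left, ← relIndex_bot_left, ← inf_relIndex_left M K]
    exact relIndex_mul_relIndex _ _ _ bot_le inf_le_left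
  have h2 : Nat.card M * M.index = Nat.card G := M.card_mul_index
  have h3 : Nat.card K * K.index = Nat.card G := K.card_mul_index
  have hpos : 0 < K.index := Nat.pos_of_ne_zero index_ne_zero_of_finite
  refine ⟨Nat.card (M ⊓ K : Subgroup G), ?_⟩
  apply Nat.eq_of_mul_eq_mul_right hpos
  rw [h3, ← h2, ← h1, hK]
  ring

theorem solvable_of_sup_eq_top {G : Type*} [Group G] (S N : Subgroup G) [N.Normal]
    [Group.IsSolvable S] [Group.IsSolvable N] (h : S ⊔ N = ⊤) : Group.IsSolvable G := by
  have : Group.IsSolvable (G ⧸ N) := by
    let f : S →* G ⧸ N := (QuotientGroup.mk' N).comp S.subtype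
    have hf : Function.Surjective f := by
      intro q
      obtain ⟨g, rfl⟩ := QuotientGroup.mk'_surjective N q
      have hg : g ∈ S ⊔ N := h ▸ mem_top g
      rw [← SetLike.mem_coe, mul_normal, Set.mem_mul] at hg
      obtain ⟨s, hs, n, hn, rfl⟩ := hg
      refine ⟨⟨s, hs⟩, ?_⟩
      change QuotientGroup.mk' N s = QuotientGroup.mk' N (s * n)
      have hn1 : QuotientGroup.mk' N n = 1 := (QuotientGroup.eq_one_iff n).mpr hn
      rw [map_mul, hn1, mul_one]
    exact Group.isSolvable_of_surjective hf
  exact (Group.isSolvable_iff_subgroup_quotient N).mpr ⟨inferInstance, inferInstance⟩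

theorem solvable_of_pgroup {G : Type*} [Group G] [Finite G] {p : ℕ} [Fact p.Prime]
    (h : IsPGroup p G) : Group.IsSolvable G := by
  have := h.isNilpotent
  infer_instance

theorem solvable_of_coatom_prime {G : Type*} [Group G] [Finite G] (H : Subgroup G)
    (hmax : IsCoatom H) {p : ℕ} (hp : p.Prime) (hH : Nat.card H = p) : Group.IsSolvable G := by
  have : Fact p.Prime := ⟨hp⟩
  have hHp : IsPGroup p H := IsPGroup.of_card (n := 1) (by rw [hH, pow_one])
  have hHsolv : Group.IsSolvable H := solvable_of_pgroup hHp
  obtain ⟨P, hHP⟩ := hHp.exists_le_sylow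
  rcases hmax.le_iff.mp hHP with hPtop | hPH
  · have hG : IsPGroup p G := by
      have h1 := P.isPGroup'
      rw [hPtop] at h1
      exact h1.of_equiv Subgroup.topEquiv
    exact solvable_of_pgroup hG
  · have hnorm : H ≤ normalizer (H : Set G) := le_normalizer
    rcases hmax.le_iff.mp hnorm with hNtop | hNH
    · have : H.Normal := normalizer_eq_top_iff.mp hNtop
      obtain ⟨x, hx⟩ : ∃ x, x ∉ H := by
        by_contra hcon
        push Not at hcon
        exact hmax.1 (eq_top_iff.mpr fun x _ => hcon x)
      have hsup : zpowers x ⊔ H = ⊤ := by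
        apply hmax.lt_iff.mp
        apply lt_of_le_of_ne le_sup_right
        intro heq
        apply hx
        rw [heq]
        exact (le_sup_left : zpowers x ≤ zpowers x ⊔ H) (mem_zpowers x)
      exact solvable_of_sup_eq_top (zpowers x) H hsup
    · have hPH' : (P : Subgroup G) = H := hPH
      have hP : normalizer ((P : Subgroup G) : Set G) ≤ centralizer (P : Set G) := by
        rw [hPH', hNH]
        intro a ha
        rw [mem_centralizer_iff]
        intro b hb
        have hb : b ∈ H := hPH' ▸ (hb : b ∈ (P : Subgroup G))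
        have hcyc : IsCyclic H := isCyclic_of_prime_card hH
        letI := IsCyclic.commGroup (α := H)
        have h1 := mul_comm (⟨b, hb⟩ : H) ⟨a, ha⟩
        exact congrArg Subtype.val h1
      have hcompl : IsComplement' (MonoidHom.transferSylow P hP).ker P :=
        MonoidHom.ker_transferSylow_isComplement' P hP
      have hpK : ¬ p ∣ Nat.card (MonoidHom.transferSylow P hP).ker :=
        MonoidHom.not_dvd_card_ker_transferSylow P hP
      generalize MonoidHom.transferSylow P hP = f at hcompl hpK
      have hcard : Nat.card f.ker * Nat.card (P : Subgroup G) = Nat.card G := hcompl.card_mul_card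
      have hK1 : Nat.card f.ker ≠ 1 := by
        intro h1
        have h2 : (P : Subgroup G) = ⊤ :=
          (Subgroup.card_eq_iff_eq_top _).mp (by rw [← hcard, h1, one_mul])
        exact hmax.1 (hPH' ▸ h2)
      obtain ⟨r, hr, hrK⟩ := Nat.exists_prime_and_dvd hK1
      have : Fact r.Prime := ⟨hr⟩
      have hrp : r ≠ p := fun h => hpK (h ▸ hrK)
      obtain ⟨R⟩ : Nonempty (Sylow r G) := inferInstance
      have hRK : (R : Subgroup G) ≤ f.ker := by
        intro x hx
        rw [MonoidHom.mem_ker]
        have h1 : orderOf (f x) ∣ orderOf x := orderOf_map_dvd f x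
        obtain ⟨k, hk⟩ := R.isPGroup'.exists_orderOf_eq_pow ⟨x, hx⟩
        rw [Subgroup.orderOf_mk] at hk
        have h2 : orderOf (f x) ∣ Nat.card (P : Subgroup G) := orderOf_dvd_natCard _
        have hcP : Nat.card (P : Subgroup G) = p := by rw [hPH', hH]
        rw [hcP] at h2
        rw [hk] at h1
        have h3 : Nat.Coprime (r ^ k) p :=
          Nat.Coprime.pow_left k ((Nat.coprime_primes hr hp).mpr hrp)
        have h4 : orderOf (f x) = 1 := Nat.eq_one_of_dvd_coprimes h3 h1 h2
        exact orderOf_eq_one_iff.mp h4
      have hfr : normalizer ((R : Subgroup G) : Set G) ⊔ f.ker = ⊤ :=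
        Sylow.normalizer_sup_eq_top' R hRK
      have hidx : (normalizer ((R : Subgroup G) : Set G)).index ∣ Nat.card f.ker :=
        index_dvd_card_of_sup_eq_top _ _ hfr
      have hnd : ¬ p ∣ Nat.card (Sylow r G) := by
        rw [Sylow.card_eq_index_normalizer R]
        exact fun h => hpK (h.trans hidx)
      obtain ⟨R', hR'⟩ := hHp.nonempty_fixed_point_of_prime_not_dvd_card (Sylow r G) hnd
      rw [Subgroup.sylow_mem_fixedPoints_iff] at hR'
      have hR'ne : ¬ (R' : Subgroup G) ≤ H := by
        intro hle
        have h1 : Nat.card (R' : Subgroup G) ∣ p := hH ▸ Subgroup.card_dvd_of_le hle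
        have h2 : r ∣ Nat.card (R' : Subgroup G) :=
          R'.dvd_card_of_dvd_card (hrK.trans (Subgroup.card_subgroup_dvd_card _))
        exact hrp ((Nat.prime_dvd_prime_iff_eq hr hp).mp (h2.trans h1))
      have hsup : H ⊔ (R' : Subgroup G) = ⊤ := by
        apply hmax.lt_iff.mp
        apply lt_of_le_of_ne le_sup_left
        intro heq
        apply hR'ne
        rw [heq]
        exact le_sup_right
      have hR'norm : (R' : Subgroup G).Normal := by
        rw [← normalizer_eq_top_iff, eq_top_iff, ← hsup]
        exact sup_le hR' le_normalizer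
      have hR'solv : Group.IsSolvable (R' : Subgroup G) := solvable_of_pgroup R'.isPGroup'
      exact solvable_of_sup_eq_top H (R' : Subgroup G) hsup

/-- A maximal subgroup of a finite almost simple group does not have prime order. Here G is almost simple in the sense that it has a non-abelian simple normal subgroup T with trivial centralizer. -/
theorem result {G : Type*} [Group G] [Finite G] (T : Subgroup G) [T.Normal] (hT : IsSimpleGroup T) (hTc : ¬ IsMulCommutative T)
    (hC : Subgroup.centralizer (T : Set G) = ⊥) (H : Subgroup G) (hmax : IsCoatom H) : ¬ (Nat.card H).Prime := by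
  intro hp
  have hsolv : Group.IsSolvable G := solvable_of_coatom_prime H hmax hp rfl
  have hTs : Group.IsSolvable T := inferInstance
  have hcomm := (IsSimpleGroup.comm_iff_isSolvable (G := T)).mpr hTs
  exact hTc ⟨⟨hcomm⟩⟩

end Cfsg.Agent.S3498
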