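import Cfsg.Statements.S3501
import Cfsg.Agent.Lib.Helper73.DerOneD

set_option autoImplicit false
open Cfsg

namespace Cfsg.Agent.S3501

/-- Let a finite group G act faithfully and primitively on a finite set Ω with at least two points, and suppose G is not almost simple (it has no non-abelian simple normal subgroup with trivial centralizer). Then the derangements of G form a single conjugacy class if and only if G is sharply 2-transitive (2-transitive, and no non-identity element fixes two points). -/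
theorem result {G : Type*} [Group G] [Finite G] {Ω : Type*} [Fintype Ω] [MulAction G Ω] [FaithfulSMul G Ω] (hΩ : 2 ≤ Fintype.card Ω) (hprim : MulAction.IsPreprimitive G Ω) (hnas : ¬ ∃ T : Subgroup G, T.Normal ∧ IsSimpleGroup T ∧ ¬ IsMulCommutative T ∧ Subgroup.centralizer (T : Set G) = ⊥) :
    Nat.card {c : ConjClasses G // ∃ g : G, ConjClasses.mk g = c ∧ ∀ ω : Ω, g • ω ≠ ω} = 1 ↔ (MulAction.IsMultiplyPretransitive G Ω 2 ∧ ∀ g : G, g ≠ 1 → ∀ a b : Ω, a ≠ b → g • a = a → g • b ≠ b) := by
  classical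
  have htrans : MulAction.IsPretransitive G Ω := hprim.toIsPretransitive
  constructor
  · intro hcard
    have hconj : ∀ x y : G, (∀ ω : Ω, x • ω ≠ ω) → (∀ ω : Ω, y • ω ≠ ω) → IsConj x y := by
      intro x y hx hy
      obtain ⟨hsub, _⟩ := Nat.card_eq_one_iff_unique.mp hcard
      have := hsub.elim ⟨ConjClasses.mk x, x, rfl, hx⟩ ⟨ConjClasses.mk y, y, rfl, hy⟩
      exact ConjClasses.mk_eq_mk_iff_isConj.mp (congrArg Subtype.val this)
    have hQ : MulAction.IsQuasiPreprimitive G Ω := inferInstance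
    have H : Lib.Helper73.DerOne.Hyp G Ω := by
      refine ⟨hΩ, ?_, hconj⟩
      intro N hN hN1 a b
      have hfix : MulAction.fixedPoints N Ω ≠ Set.univ := by
        intro h
        apply hN1
        rw [eq_bot_iff]
        intro n hn
        rw [Subgroup.mem_bot]
        apply FaithfulSMul.eq_of_smul_eq_smul (α := Ω)
        intro ω
        have hω : ω ∈ MulAction.fixedPoints N Ω := by rw [h]; exact Set.mem_univ _
        rw [one_smul]
        exact hω ⟨n, hn⟩
      have := MulAction.IsQuasiPreprimitive.isPretransitive_of_normal (N := N) hfix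
      obtain ⟨n, hn⟩ := MulAction.exists_smul_eq N a b
      exact ⟨n, n.2, hn⟩
    -- a minimal normal subgroup
    obtain ⟨x, hx⟩ := Lib.Helper73.DerOne.exists_derangement (K := G) (X := Ω) hΩ
    have hne : Nonempty Ω := by
      rw [← Fintype.card_pos_iff]; omega
    obtain ⟨a⟩ := hne
    have hx1 : x ≠ 1 := by
      rintro rfl
      exact hx a (one_smul _ _)
    let S : Set (Subgroup G) := {N | N.Normal ∧ N ≠ ⊥}
    have hS : S.Nonempty := by
      refine ⟨⊤, inferInstance, ?_⟩
      intro h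
      have : x ∈ (⊤ : Subgroup G) := Subgroup.mem_top x
      rw [h, Subgroup.mem_bot] at this
      exact hx1 this
    obtain ⟨N, hNS, hNmin⟩ := wellFounded_lt.has_min S hS
    have hmin : ∀ M : Subgroup G, M.Normal → M ≠ ⊥ → M ≤ N → M = N := by
      intro M hM hM1 hMN
      by_contra hne
      exact hNmin M ⟨hM, hM1⟩ (lt_of_le_of_ne hMN hne)
    by_cases hab : ∀ x ∈ N, ∀ y ∈ N, x * y = y * x
    · obtain ⟨h1, h2⟩ := H.abelian_case N hNS.1 hNS.2 hab
      exact ⟨MulAction.is_two_pretransitive_iff.mpr h1, h2⟩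
    · exfalso
      exact hnas (H.nonabelian_case ⟨hNS.1, hNS.2, hmin, hab⟩)
  · rintro ⟨h2, hsharp⟩
    rw [MulAction.is_two_pretransitive_iff] at h2
    rw [Nat.card_eq_one_iff_unique]
    constructor
    · refine ⟨?_⟩
      rintro ⟨c₁, g₁, rfl, hg₁⟩ ⟨c₂, g₂, rfl, hg₂⟩
      apply Subtype.ext
      exact ConjClasses.mk_eq_mk_iff_isConj.mpr
        (Lib.Helper73.DerOne.sharply_two_conj hΩ h2 hsharp g₁ g₂ hg₁ hg₂)
    · obtain ⟨x, hx⟩ := Lib.Helper73.DerOne.exists_derangement (K := G) (X := Ω) hΩ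
      exact ⟨⟨ConjClasses.mk x, x, rfl, hx⟩⟩

end Cfsg.Agent.S3501
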