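import Cfsg.Statements.S3504

set_option autoImplicit false
open Cfsg

namespace Cfsg.Agent.S3504

theorem fpf_cycleType {n : ℕ} (g : Equiv.Perm (Fin n)) (hg : (orderOf g).Prime)
    (hfpf : ∀ i, g i ≠ i) :
    orderOf g ∣ n ∧ g.cycleType = Multiset.replicate (n / orderOf g) (orderOf g) := by
  obtain ⟨m, hm⟩ := Equiv.Perm.cycleType_prime_order hg
  have hsum : g.cycleType.sum = n := by
    rw [Equiv.Perm.sum_cycleType]
    have h1 : g.support = Finset.univ := by
      ext i; simp [Equiv.Perm.mem_support, hfpf i]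
    rw [h1]; simp
  rw [hm, Multiset.sum_replicate, smul_eq_mul] at hsum
  have hpos : 0 < orderOf g := hg.pos
  refine ⟨⟨m + 1, by rw [mul_comm]; exact hsum.symm⟩, ?_⟩
  rw [hm]; congr 1
  exact (Nat.div_eq_of_eq_mul_left hpos hsum.symm).symm

theorem exists_perm {n p : ℕ} (hp : p.Prime) (hpn : p ∣ n) (hn : 0 < n) :
    ∃ g : Equiv.Perm (Fin n), orderOf g = p ∧ (∀ i, g i ≠ i) := by
  obtain ⟨g, hg⟩ := (Equiv.Perm.exists_with_cycleType_iff (Fin n)
    (m := Multiset.replicate (n / p) p)).mpr ⟨by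
      rw [Multiset.sum_replicate, smul_eq_mul, Fintype.card_fin, Nat.div_mul_cancel hpn],
      fun a ha => by rw [Multiset.eq_of_mem_replicate ha]; exact hp.two_le⟩
  refine ⟨g, ?_, ?_⟩
  · rw [← Equiv.Perm.lcm_cycleType, hg]
    have hk : n / p ≠ 0 := by
      intro h0
      have := Nat.div_mul_cancel hpn
      rw [h0, zero_mul] at this
      omega
    apply Nat.dvd_antisymm
    · rw [Multiset.lcm_dvd]
      intro b hb
      rw [Multiset.eq_of_mem_replicate hb]
    · apply Multiset.dvd_lcm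
      rw [Multiset.mem_replicate]
      exact ⟨hk, rfl⟩
  · intro i
    have hsupp : g.support.card = n := by
      rw [← Equiv.Perm.sum_cycleType, hg, Multiset.sum_replicate, smul_eq_mul,
        Nat.div_mul_cancel hpn]
    have h1 : g.support = Finset.univ := Finset.eq_univ_of_card _ (by simp [hsupp])
    have hi : i ∈ g.support := h1 ▸ Finset.mem_univ i
    exact Equiv.Perm.mem_support.mp hi

/-- For n ≥ 5, the fixed-point-free permutations of prime order in the symmetric group of degree n form a single conjugacy class if and only if n is a prime power. -/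
theorem result (n : ℕ) (hn : 5 ≤ n) :
    Nat.card {c : ConjClasses (Equiv.Perm (Fin n)) // ∃ g : Equiv.Perm (Fin n), ConjClasses.mk g = c ∧ (orderOf g).Prime ∧ ∀ i : Fin n, g i ≠ i} = 1 ↔ IsPrimePow n := by
  rw [isPrimePow_iff_unique_prime_dvd, Nat.card_eq_one_iff_unique]
  constructor
  · rintro ⟨hsub, _⟩
    have hn1 : n ≠ 1 := by omega
    obtain ⟨p, hp, hpn⟩ := Nat.exists_prime_and_dvd hn1
    refine ⟨p, ⟨hp, hpn⟩, ?_⟩
    rintro q ⟨hq, hqn⟩
    obtain ⟨gp, hgp, hgp'⟩ := exists_perm hp hpn (by omega)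
    obtain ⟨gq, hgq, hgq'⟩ := exists_perm hq hqn (by omega)
    have h1 := hsub.elim ⟨ConjClasses.mk gp, gp, rfl, hgp ▸ hp, hgp'⟩
      ⟨ConjClasses.mk gq, gq, rfl, hgq ▸ hq, hgq'⟩
    have h2 : ConjClasses.mk gp = ConjClasses.mk gq := congrArg Subtype.val h1
    rw [ConjClasses.mk_eq_mk_iff_isConj, Equiv.Perm.isConj_iff_cycleType_eq] at h2
    rw [← hgq, ← hgp, ← Equiv.Perm.lcm_cycleType, ← Equiv.Perm.lcm_cycleType, h2]
  · rintro ⟨p, ⟨hp, hpn⟩, huniq⟩
    constructor
    · constructor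
      rintro ⟨c1, g1, rfl, ho1, hf1⟩ ⟨c2, g2, rfl, ho2, hf2⟩
      apply Subtype.ext
      rw [ConjClasses.mk_eq_mk_iff_isConj, Equiv.Perm.isConj_iff_cycleType_eq]
      obtain ⟨hd1, ht1⟩ := fpf_cycleType g1 ho1 hf1
      obtain ⟨hd2, ht2⟩ := fpf_cycleType g2 ho2 hf2
      have e1 : orderOf g1 = p := huniq _ ⟨ho1, hd1⟩
      have e2 : orderOf g2 = p := huniq _ ⟨ho2, hd2⟩
      rw [ht1, ht2, e1, e2]
    · obtain ⟨g, hg, hg'⟩ := exists_perm hp hpn (by omega)
      exact ⟨⟨ConjClasses.mk g, g, rfl, hg ▸ hp, hg'⟩⟩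

end Cfsg.Agent.S3504
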