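import Cfsg.Statements.S3508
import Cfsg.Agent.Lib.Helper58.Unipotent

set_option autoImplicit false
open Cfsg

namespace Cfsg.Agent.S3508

open Cfsg.Agent.Lib.Helper58
open scoped IsMulCommutative

lemma two_pow_ge (k : ℕ) (hk : 2 ≤ k) : k + 2 ≤ 2 ^ k := by
  induction k, hk using Nat.le_induction with
  | base => norm_num
  | succ k hk ih => rw [pow_succ]; omega

lemma three_pow_ge (k : ℕ) (hk : 1 ≤ k) : k + 2 ≤ 3 ^ k := by
  induction k, hk using Nat.le_induction with
  | base => norm_num
  | succ k hk ih => rw [pow_succ]; omega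

/-- Let a finite group G act faithfully on a set Ω with p ^ m points (p prime) and have an elementary abelian normal p-subgroup N acting regularly on Ω (so G is a group of affine transformations of an m-dimensional space over the field with p elements). If G contains an element of order p ^ r with r ≥ 1, then p ^ (r − 1) ≤ m. In particular an element of order p ^ m forces m ≤ 2, and m ≤ 1 when p is odd. -/
theorem result {G : Type*} [Group G] [Finite G] {Ω : Type*} [Fintype Ω] [MulAction G Ω] [FaithfulSMul G Ω] (p m : ℕ) (hp : p.Prime) (hcard : Fintype.card Ω = p ^ m)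
    (N : Subgroup G) [N.Normal] (hNc : IsMulCommutative N) (hNp : ∀ n ∈ N, n ^ p = 1)
    (hNtr : MulAction.IsPretransitive N Ω) (hNreg : ∀ ω : Ω, MulAction.stabilizer N ω = ⊥)
    (g : G) (r : ℕ) (hr : 1 ≤ r) (hg : orderOf g = p ^ r) :
    p ^ (r - 1) ≤ m ∧ (r = m → m ≤ 2 ∧ (2 < p → m ≤ 1)) := by
  haveI : Fact p.Prime := ⟨hp⟩
  have main : p ^ (r - 1) ≤ m := by
    by_contra hlt
    push Not at hlt
    -- a base point
    have hΩ : Nonempty Ω := by
      rw [← Fintype.card_pos_iff, hcard]; exact Nat.pow_pos hp.pos
    obtain ⟨α⟩ := hΩ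
    -- |N| = p^m
    have hNcard : Nat.card N = p ^ m := by
      have hbij : Function.Bijective (fun n : N => n • α) := by
        constructor
        · intro a b hab
          have hab' : a • α = b • α := hab
          have : a⁻¹ * b ∈ MulAction.stabilizer N α := by
            rw [MulAction.mem_stabilizer_iff, mul_smul, ← hab', inv_smul_smul]
          rw [hNreg α, Subgroup.mem_bot] at this
          exact (inv_mul_eq_one.mp this)
        · intro ω
          exact MulAction.exists_smul_eq N α ω
      rw [Nat.card_congr (Equiv.ofBijective _ hbij), Nat.card_eq_fintype_card, hcard]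
    -- decomposition g = n * h
    obtain ⟨n, hn⟩ := MulAction.exists_smul_eq N α (g • α)
    set h : G := (n : G)⁻¹ * g with hh
    have hhα : h • α = α := by
      rw [hh, mul_smul, ← hn]
      exact inv_smul_smul n α
    have hgnh : g = (n : G) * h := by rw [hh, mul_inv_cancel_left]
    -- power formula
    have hpow : ∀ k : ℕ, g ^ k =
        ((∏ i ∈ Finset.range k, (MulAut.conjNormal (h ^ i) : MulAut N) n : N) : G) * h ^ k := by
      intro k
      induction k with
      | zero => simp
      | succ k ih =>
        rw [pow_succ, ih, Finset.prod_range_succ, Subgroup.coe_mul, MulAut.conjNormal_apply,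
          pow_succ h]
        conv_lhs => rw [hgnh]
        group
    -- powers of h fixing α and lying in N are trivial
    have hstab : ∀ k : ℕ, h ^ k ∈ N → h ^ k = 1 := by
      intro k hk
      have : (⟨h ^ k, hk⟩ : N) ∈ MulAction.stabilizer N α := by
        rw [MulAction.mem_stabilizer_iff]
        show (h ^ k) • α = α
        exact MulAction.mem_stabilizer_iff.mp
          (Subgroup.pow_mem _ (MulAction.mem_stabilizer_iff.mpr hhα) k)
      rw [hNreg α, Subgroup.mem_bot] at this
      exact congrArg Subtype.val this
    have hgr : g ^ (p ^ r) = 1 := by rw [← hg]; exact pow_orderOf_eq_one g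
    have hhr : h ^ (p ^ r) = 1 := by
      apply hstab
      have := hpow (p ^ r)
      rw [hgr] at this
      have h2 : h ^ (p ^ r) = ((∏ i ∈ Finset.range (p ^ r),
          (MulAut.conjNormal (h ^ i) : MulAut N) n : N) : G)⁻¹ :=
        eq_inv_of_mul_eq_one_right this.symm
      rw [h2]
      exact N.inv_mem (SetLike.coe_mem _)
    -- the conjugation endomorphism
    set φ : N →* N := (MulAut.conjNormal h : MulAut N).toMonoidHom with hφdef
    have hiter : ∀ (i : ℕ) (x : N), (φ^[i]) x = (MulAut.conjNormal (h ^ i) : MulAut N) x := by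
      intro i
      induction i with
      | zero => intro x; simp
      | succ i ih =>
        intro x
        rw [Function.iterate_succ_apply', ih, pow_succ', map_mul]
        rfl
    have hexp : ∀ x : N, x ^ p = 1 := fun x => Subtype.ext (by
      rw [Subgroup.coe_pow, Subgroup.coe_one]; exact hNp x x.2)
    obtain ⟨h1, h2⟩ := elem_abelian_key p (M := N) hexp m hNcard φ r
      (by intro x; rw [hiter, hhr, map_one]; rfl) (r - 1) hlt
    -- g^k = h^k
    have hgk : g ^ (p ^ (r - 1)) = h ^ (p ^ (r - 1)) := by
      rw [hpow]
      have := h2 n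
      simp only [hiter] at this
      rw [this, Subgroup.coe_one, one_mul]
    -- h^k centralizes N
    have hcomm : ∀ x : N, h ^ (p ^ (r - 1)) * (x : G) = (x : G) * h ^ (p ^ (r - 1)) := by
      intro x
      have := h1 x
      rw [hiter] at this
      have h3 := congrArg Subtype.val this
      rw [MulAut.conjNormal_apply] at h3
      exact mul_inv_eq_iff_eq_mul.mp h3
    have htriv : h ^ (p ^ (r - 1)) = 1 := by
      apply FaithfulSMul.eq_of_smul_eq_smul (α := Ω)
      intro ω
      obtain ⟨x, hx⟩ := MulAction.exists_smul_eq N α ω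
      have hx' : (x : G) • α = ω := hx
      have hfix : h ^ (p ^ (r - 1)) • α = α :=
        MulAction.mem_stabilizer_iff.mp
          (Subgroup.pow_mem _ (MulAction.mem_stabilizer_iff.mpr hhα) _)
      rw [one_smul, ← hx', ← mul_smul, hcomm, mul_smul, hfix]
    rw [htriv] at hgk
    have hdvd : orderOf g ∣ p ^ (r - 1) := orderOf_dvd_of_pow_eq_one hgk
    rw [hg] at hdvd
    have hle := Nat.le_of_dvd (Nat.pow_pos hp.pos) hdvd
    have : p ^ (r - 1) < p ^ r := Nat.pow_lt_pow_right hp.one_lt (by omega)
    omega
  refine ⟨main, ?_⟩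
  intro hrm
  subst hrm
  obtain ⟨k, rfl⟩ : ∃ k, r = k + 1 := ⟨r - 1, by omega⟩
  simp only [Nat.add_sub_cancel] at main
  constructor
  · by_contra hc
    have hk : 2 ≤ k := by omega
    have h1 := two_pow_ge k hk
    have h2 : 2 ^ k ≤ p ^ k := Nat.pow_le_pow_left hp.two_le k
    omega
  · intro hp2
    by_contra hc
    have hk : 1 ≤ k := by omega
    have h1 := three_pow_ge k hk
    have h2 : 3 ^ k ≤ p ^ k := Nat.pow_le_pow_left hp2 k
    omega

end Cfsg.Agent.S3508
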