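import Cfsg.Statements.S3511

set_option autoImplicit false
open Cfsg

namespace Cfsg.Agent.S3511

/-- Let a finite group G act faithfully on a set Ω. If every element of G of square-free order has a regular cycle (an orbit of the cyclic group it generates with trivial stabilizer), then every element of G has a regular cycle. -/
theorem result {G : Type*} [Group G] [Finite G] {Ω : Type*} [MulAction G Ω] [FaithfulSMul G Ω]
    (h : ∀ g : G, Squarefree (orderOf g) → ∃ ω : Ω, MulAction.stabilizer (Subgroup.zpowers g) ω = ⊥) (g : G) :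
    ∃ ω : Ω, MulAction.stabilizer (Subgroup.zpowers g) ω = ⊥ := by
  classical
  have key : ∀ (x : G) (ω : Ω), (∀ k : ℤ, x ^ k • ω = ω → x ^ k = 1) →
      MulAction.stabilizer (Subgroup.zpowers x) ω = ⊥ := by
    intro x ω hx
    rw [Subgroup.eq_bot_iff_forall]
    rintro ⟨y, hy⟩ hyω
    obtain ⟨k, rfl⟩ := Subgroup.mem_zpowers_iff.mp hy
    rw [MulAction.mem_stabilizer_iff] at hyω
    have h1 : x ^ k • ω = ω := hyω
    have h2 := hx k h1
    exact Subtype.ext h2
  have key' : ∀ (x : G) (ω : Ω), MulAction.stabilizer (Subgroup.zpowers x) ω = ⊥ →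
      (∀ k : ℤ, x ^ k • ω = ω → x ^ k = 1) := by
    intro x ω hx k hk
    have hmem : (⟨x ^ k, Subgroup.zpow_mem_zpowers x k⟩ : Subgroup.zpowers x) ∈
        MulAction.stabilizer (Subgroup.zpowers x) ω := by
      rw [MulAction.mem_stabilizer_iff]; exact hk
    rw [hx, Subgroup.mem_bot] at hmem
    exact congrArg Subtype.val hmem
  suffices H : ∀ n : ℕ, ∀ g : G, orderOf g = n →
      ∃ ω : Ω, ∀ k : ℤ, g ^ k • ω = ω → g ^ k = 1 by
    obtain ⟨ω, hω⟩ := H _ g rfl
    exact ⟨ω, key g ω hω⟩
  intro n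
  induction n using Nat.strong_induction_on with
  | _ n ih =>
    intro g hg
    by_cases hsq : Squarefree n
    · obtain ⟨ω, hω⟩ := h g (hg ▸ hsq)
      exact ⟨ω, key' g ω hω⟩
    · rw [Nat.squarefree_iff_prime_squarefree] at hsq
      push Not at hsq
      obtain ⟨r, hr, hrn⟩ := hsq
      have hnpos : 0 < n := hg ▸ orderOf_pos g
      have hrdvd : r ∣ orderOf g := hg ▸ (dvd_trans (dvd_mul_left r r) hrn)
      have hord : orderOf (g ^ r) = n / r := by
        rw [orderOf_pow_of_dvd hr.ne_zero hrdvd, hg]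
      have hlt : n / r < n := Nat.div_lt_self hnpos hr.one_lt
      obtain ⟨ω, hω⟩ := ih (n / r) hlt (g ^ r) hord
      refine ⟨ω, ?_⟩
      intro k hk
      have h1 : (g ^ r) ^ k • ω = ω := by
        have e1 : (g ^ r) ^ k = (g ^ k) ^ r := by
          rw [← zpow_natCast, ← zpow_natCast, ← zpow_mul, ← zpow_mul, mul_comm]
        rw [e1]
        have hmem : g ^ k ∈ MulAction.stabilizer G ω := hk
        exact (MulAction.stabilizer G ω).pow_mem hmem r
      have h2 := hω k h1
      have h3 : g ^ ((r : ℤ) * k) = 1 := by rw [zpow_mul, zpow_natCast]; exact h2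
      have h4 : (orderOf g : ℤ) ∣ (r : ℤ) * k := orderOf_dvd_iff_zpow_eq_one.mpr h3
      obtain ⟨m, hm⟩ := hrn
      have h5 : ((r * m : ℕ) : ℤ) ∣ k := by
        rw [hg, hm] at h4
        have hr0 : (r : ℤ) ≠ 0 := by exact_mod_cast hr.ne_zero
        push_cast at h4 ⊢
        rw [mul_assoc] at h4
        exact (mul_dvd_mul_iff_left hr0).mp h4
      obtain ⟨j, hj⟩ := h5
      have h6 : g ^ k = (g ^ r) ^ ((m : ℤ) * j) := by
        rw [hj]; push_cast; rw [← zpow_natCast, ← zpow_mul, mul_assoc]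
      rw [h6] at hk ⊢
      exact hω _ hk

end Cfsg.Agent.S3511
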