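import Cfsg.Statements.S3514

set_option autoImplicit false
open Cfsg

namespace Cfsg.Agent.S3514

open Subgroup

theorem finite_linearEquiv (p : ℕ) {V : Type*} [AddCommGroup V] [Module (ZMod p) V] [Finite V] :
    Finite (V ≃ₗ[ZMod p] V) :=
  Finite.of_injective (fun f => (f : V → V)) DFunLike.coe_injective

theorem relIndex_sup_right' {G : Type*} [Group G] (H K : Subgroup G) (h : H ≤ normalizer (K : Set G)) :
    K.relIndex (H ⊔ K) = K.relIndex H := by
  have := Subgroup.normal_subgroupOf_of_le_normalizer h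
  have := Subgroup.normal_subgroupOf_sup_of_le_normalizer h
  exact Nat.card_congr (QuotientGroup.quotientInfEquivProdNormalizerQuotient H K h).toEquiv.symm

theorem relIndex_sup_self {G : Type*} [Group G] [Finite G] (S K : Subgroup G)
    (h : S ≤ normalizer (K : Set G)) : S.relIndex (S ⊔ K) = S.relIndex K := by
  have h1 : Nat.card (S ⊓ K : Subgroup G) * S.relIndex K = Nat.card K := by
    rw [← relIndex_bot_left, ← relIndex_bot_left, ← inf_relIndex_right S K]
    exact relIndex_mul_relIndex _ _ _ bot_le inf_le_right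
  have h2 : Nat.card (S ⊓ K : Subgroup G) * K.relIndex S = Nat.card S := by
    rw [← relIndex_bot_left, ← relIndex_bot_left, ← inf_relIndex_left S K]
    exact relIndex_mul_relIndex _ _ _ bot_le inf_le_left
  have h3 : Nat.card K * K.relIndex S = Nat.card (S ⊔ K : Subgroup G) := by
    rw [← relIndex_sup_right' S K h, ← relIndex_bot_left, ← relIndex_bot_left]
    exact relIndex_mul_relIndex _ _ _ bot_le le_sup_right
  have h4 : Nat.card S * S.relIndex (S ⊔ K) = Nat.card (S ⊔ K : Subgroup G) := by
    rw [← relIndex_bot_left, ← relIndex_bot_left]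
    exact relIndex_mul_relIndex _ _ _ bot_le le_sup_left
  have hpos : 0 < Nat.card S := Nat.card_pos
  apply Nat.eq_of_mul_eq_mul_left hpos
  rw [h4, ← h3, ← h1, ← h2]
  ring

theorem card_orbit_eq_relIndex {G X : Type*} [Group G] [MulAction G X] (S : Subgroup G) (v : X) :
    Nat.card {u : X | ∃ h ∈ S, h • v = u} = (MulAction.stabilizer G v).relIndex S := by
  have h1 : {u : X | ∃ h ∈ S, h • v = u} = MulAction.orbit S v := by
    ext u
    constructor
    · rintro ⟨h, hh, rfl⟩
      exact ⟨⟨h, hh⟩, rfl⟩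
    · rintro ⟨⟨h, hh⟩, rfl⟩
      exact ⟨h, hh, rfl⟩
  rw [h1, Nat.card_congr (MulAction.orbitEquivQuotientStabilizer S v)]
  have h2 : MulAction.stabilizer S v = (MulAction.stabilizer G v).subgroupOf S := by
    ext ⟨x, hx⟩
    simp [MulAction.mem_stabilizer_iff, mem_subgroupOf]
  rw [h2]
  rfl

/-- Let p be a prime, V a finite vector space over the field with p elements, and H a group of linear transformations of V all of whose orbits on V have size coprime to p. (i) Every normal subgroup K of H has all its orbits on V of size coprime to p. (ii) If N is a group of linear transformations of V of order coprime to p that is normalized by H, then the group generated by N and H has all its orbits on V of size coprime to p. -/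
theorem result (p : ℕ) [Fact p.Prime] {V : Type*} [AddCommGroup V] [Module (ZMod p) V] [Finite V]
    (H : Subgroup (V ≃ₗ[ZMod p] V)) (hH : ∀ v : V, ¬ p ∣ Nat.card {u : V | ∃ h ∈ H, h v = u}) :
    (∀ K : Subgroup (V ≃ₗ[ZMod p] V), K ≤ H → H ≤ Subgroup.normalizer (K : Set (V ≃ₗ[ZMod p] V)) →
        ∀ v : V, ¬ p ∣ Nat.card {u : V | ∃ k ∈ K, k v = u}) ∧
    (∀ N : Subgroup (V ≃ₗ[ZMod p] V), ¬ p ∣ Nat.card N → H ≤ Subgroup.normalizer (N : Set (V ≃ₗ[ZMod p] V)) →
        ∀ v : V, ¬ p ∣ Nat.card {u : V | ∃ x ∈ N ⊔ H, x v = u}) := by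
  have hfin : Finite (V ≃ₗ[ZMod p] V) := finite_linearEquiv p
  have hp : p.Prime := Fact.out
  have key : ∀ (S : Subgroup (V ≃ₗ[ZMod p] V)) (v : V),
      Nat.card {u : V | ∃ h ∈ S, h v = u} = (MulAction.stabilizer (V ≃ₗ[ZMod p] V) v).relIndex S :=
    fun S v => card_orbit_eq_relIndex S v
  constructor
  · intro K hKH hnorm v
    rw [key]
    have h0 := hH v
    rw [key] at h0
    intro hdiv
    apply h0
    refine hdiv.trans ?_
    set S := MulAction.stabilizer (V ≃ₗ[ZMod p] V) v with hS
    have h1 : S.relIndex K = (S ⊓ H).relIndex K := by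
      rw [← inf_relIndex_right S K, ← inf_relIndex_right (S ⊓ H) K, inf_assoc,
        inf_eq_right.mpr hKH]
    have h2 : (S ⊓ H).relIndex K = (S ⊓ H).relIndex ((S ⊓ H) ⊔ K) :=
      (relIndex_sup_self _ _ (inf_le_right.trans hnorm)).symm
    have h3 : (S ⊓ H).relIndex ((S ⊓ H) ⊔ K) ∣ (S ⊓ H).relIndex H := by
      have h4 := relIndex_mul_relIndex (S ⊓ H) ((S ⊓ H) ⊔ K) H le_sup_left
        (sup_le inf_le_right hKH)
      exact Dvd.intro _ h4
    rw [h1, h2, ← inf_relIndex_right S H]
    exact h3
  · intro N hN hnorm v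
    rw [key]
    have h0 := hH v
    rw [key] at h0
    set S := MulAction.stabilizer (V ≃ₗ[ZMod p] V) v with hS
    have h1 : S.relIndex (N ⊔ H) ∣ (S ⊓ H).relIndex (N ⊔ H) := by
      rw [← inf_relIndex_right S (N ⊔ H)]
      exact relIndex_dvd_of_le_left (N ⊔ H) (le_inf inf_le_left (inf_le_right.trans le_sup_right))
    have h2 : (S ⊓ H).relIndex H * H.relIndex (N ⊔ H) = (S ⊓ H).relIndex (N ⊔ H) :=
      relIndex_mul_relIndex _ _ _ inf_le_right le_sup_right
    have h3 : H.relIndex (N ⊔ H) = H.relIndex N := by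
      rw [sup_comm]
      exact relIndex_sup_self H N hnorm
    have h4 : H.relIndex N ∣ Nat.card N := relIndex_dvd_card H N
    intro hdiv
    have h5 : p ∣ (S ⊓ H).relIndex H * H.relIndex (N ⊔ H) := h2 ▸ hdiv.trans h1
    rcases (Nat.Prime.dvd_mul hp).mp h5 with h6 | h6
    · rw [inf_relIndex_right] at h6
      exact h0 h6
    · rw [h3] at h6
      exact hN (h6.trans h4)

end Cfsg.Agent.S3514
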