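import Cfsg.Statements.S3515
import Cfsg.Agent.Lib.Helper58.Affine

set_option autoImplicit false
open Cfsg

namespace Cfsg.Agent.S3515

open Cfsg.Agent.Lib.Helper58

theorem four_points : ∀ v : Fin 2 → ZMod 2, v = 0 ∨ v = Pi.single 0 1 ∨ v = Pi.single 1 1 ∨
    v = Pi.single 0 1 + Pi.single 1 1 := by
  decide

theorem sum_ne_zero : (Pi.single 0 1 + Pi.single 1 1 : Fin 2 → ZMod 2) ≠ 0 := by decide

theorem sum_ne_e1 : (Pi.single 0 1 + Pi.single 1 1 : Fin 2 → ZMod 2) ≠ Pi.single 0 1 := by decide

theorem sum_ne_e2 : (Pi.single 0 1 + Pi.single 1 1 : Fin 2 → ZMod 2) ≠ Pi.single 1 1 := by decide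

/-- Every primitive affine permutation group of degree p² is 3-closed. Let p be a prime and G a group of permutations of the plane V = F_p² consisting of affine maps x ↦ Ax + b, containing all translations, and acting primitively on V. Then any permutation σ of V that agrees on every triple of points with some element of G (σ preserves every G-orbit on ordered triples) already lies in G. -/
theorem result (p : ℕ) [Fact p.Prime] (G : Subgroup (Equiv.Perm (Fin 2 → ZMod p)))
    (haff : (G : Set (Equiv.Perm (Fin 2 → ZMod p))) ⊆ {τ : Equiv.Perm (Fin 2 → ZMod p) | ∃ (A : (Fin 2 → ZMod p) ≃ₗ[ZMod p] (Fin 2 → ZMod p)) (b : Fin 2 → ZMod p), ∀ x, τ x = A x + b})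
    (htrans : ∀ b : Fin 2 → ZMod p, ∃ g ∈ G, ∀ x, g x = x + b) (hprim : MulAction.IsPreprimitive G (Fin 2 → ZMod p))
    (σ : Equiv.Perm (Fin 2 → ZMod p)) (hσ : (∀ t : Fin 3 → (Fin 2 → ZMod p), ∃ g ∈ G, ∀ i, σ (t i) = g (t i))) : σ ∈ G := by
  obtain ⟨g, hg, hgσ⟩ := hσ ![0, Pi.single 0 1, Pi.single 1 1]
  have e0 : σ 0 = g 0 := hgσ 0
  have e1 : σ (Pi.single 0 1) = g (Pi.single 0 1) := hgσ 1
  have e2 : σ (Pi.single 1 1) = g (Pi.single 1 1) := hgσ 2
  suffices hs : σ = g by rw [hs]; exact hg
  by_cases hp : p = 2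
  · subst hp
    ext1 x
    rcases four_points x with rfl | rfl | rfl | rfl
    · exact e0
    · exact e1
    · exact e2
    · have hz : g.symm (σ (Pi.single 0 1 + Pi.single 1 1)) = Pi.single 0 1 + Pi.single 1 1 := by
        rcases four_points (g.symm (σ (Pi.single 0 1 + Pi.single 1 1))) with h | h | h | h
        · exfalso
          rw [Equiv.symm_apply_eq, ← e0] at h
          exact sum_ne_zero (σ.injective h)
        · exfalso
          rw [Equiv.symm_apply_eq, ← e1] at h
          exact sum_ne_e1 (σ.injective h)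
        · exfalso
          rw [Equiv.symm_apply_eq, ← e2] at h
          exact sum_ne_e2 (σ.injective h)
        · exact h
      rw [Equiv.symm_apply_eq] at hz
      exact hz
  · obtain ⟨A, b, hA⟩ := affine_of_triples hp σ (fun t => by
      obtain ⟨g', hg', h'⟩ := hσ t
      obtain ⟨A', b', hA'⟩ := haff hg'
      exact ⟨A', b', fun i => by rw [h' i, hA']⟩)
    obtain ⟨A', b', hA'⟩ := haff hg
    have hb : b = b' := by
      have h := e0
      rw [hA, hA', LinearEquiv.map_zero, LinearEquiv.map_zero, zero_add, zero_add] at h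
      exact h
    have h1 : A (Pi.single 0 1) = A' (Pi.single 0 1) := by
      have h := e1
      rw [hA, hA', hb] at h
      exact add_right_cancel h
    have h2 : A (Pi.single 1 1) = A' (Pi.single 1 1) := by
      have h := e2
      rw [hA, hA', hb] at h
      exact add_right_cancel h
    have hAA' : (A : (Fin 2 → ZMod p) →ₗ[ZMod p] (Fin 2 → ZMod p)) = A' := by
      apply LinearMap.pi_ext
      intro i c
      have hc : (Pi.single i c : Fin 2 → ZMod p) = c • Pi.single i (1 : ZMod p) := by
        rw [← Pi.single_smul, smul_eq_mul, mul_one]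
      rw [hc, map_smul, map_smul]
      fin_cases i
      · exact congrArg _ h1
      · exact congrArg _ h2
    ext1 x
    rw [hA, hA', hb]
    have := congrArg (fun f : (Fin 2 → ZMod p) →ₗ[ZMod p] (Fin 2 → ZMod p) => f x) hAA'
    simpa using congrArg (· + b') this

end Cfsg.Agent.S3515
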