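import Cfsg.Statements.S3516
import Cfsg.Agent.Lib.Helper58.Affine

set_option autoImplicit false
open Cfsg

namespace Cfsg.Agent.S3516

open Cfsg.Agent.Lib.Helper58 Matrix

theorem exists_det_one_agree {K : Type*} [Field K] {d : ℕ} (hd : 3 ≤ d)
    (A : (Fin d → K) ≃ₗ[K] (Fin d → K)) (u1 u2 : Fin d → K) :
    ∃ B : (Fin d → K) ≃ₗ[K] (Fin d → K),
      LinearMap.det (B : (Fin d → K) →ₗ[K] (Fin d → K)) = 1 ∧ B u1 = A u1 ∧ B u2 = A u2 := by
  classical
  -- a functional vanishing on u1, u2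
  let F : (Fin d → K) →ₗ[K] (Fin 2 → K) :=
    { toFun := fun φ => ![φ ⬝ᵥ u1, φ ⬝ᵥ u2]
      map_add' := by
        intro φ ψ
        ext i; fin_cases i <;> simp [add_dotProduct]
      map_smul' := by
        intro c φ
        ext i; fin_cases i <;> simp [smul_dotProduct] }
  have hker : LinearMap.ker F ≠ ⊥ := by
    apply LinearMap.ker_ne_bot_of_finrank_lt
    rw [Module.finrank_fin_fun, Module.finrank_fin_fun]
    omega
  obtain ⟨φ, hφker, hφ0⟩ := (Submodule.ne_bot_iff _).mp hker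
  have hφ : F φ = 0 := hφker
  have hφ1 : φ ⬝ᵥ u1 = 0 := by
    have := congrFun hφ 0
    simpa [F] using this
  have hφ2 : φ ⬝ᵥ u2 = 0 := by
    have := congrFun hφ 1
    simpa [F] using this
  obtain ⟨i, hi⟩ : ∃ i, φ i ≠ 0 := by
    by_contra hcon
    push Not at hcon
    exact hφ0 (funext hcon)
  set w : Fin d → K := Pi.single i (φ i)⁻¹ with hw
  have hφw : φ ⬝ᵥ w = 1 := by
    rw [hw, dotProduct_single, mul_inv_cancel₀ hi]
  have hdetA : LinearMap.det (A : (Fin d → K) →ₗ[K] (Fin d → K)) ≠ 0 :=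
    (LinearEquiv.isUnit_det' A).ne_zero
  set c : K := (LinearMap.det (A : (Fin d → K) →ₗ[K] (Fin d → K)))⁻¹ with hc
  set M : Matrix (Fin d) (Fin d) K :=
    1 + replicateCol Unit ((c - 1) • w) * replicateRow Unit φ with hM
  have hMdet : M.det = c := by
    rw [hM, det_one_add_replicateCol_mul_replicateRow, dotProduct_smul, hφw]
    simp
  have hMv : ∀ u : Fin d → K, φ ⬝ᵥ u = 0 → M *ᵥ u = u := by
    intro u hu
    rw [hM, add_mulVec, one_mulVec]
    have : (replicateCol Unit ((c - 1) • w) * replicateRow Unit φ) *ᵥ u = 0 := by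
      ext j
      simp only [mulVec, dotProduct, mul_apply, replicateCol_apply, replicateRow_apply,
        Finset.univ_unique, Finset.sum_singleton, Pi.zero_apply]
      have h1 : ∑ x, ((c - 1) • w) j * φ x * u x = ((c - 1) • w) j * (φ ⬝ᵥ u) := by
        rw [dotProduct, Finset.mul_sum]
        apply Finset.sum_congr rfl
        intro k _
        ring
      rw [h1, hu, mul_zero]
    rw [this, add_zero]
  set Dl : (Fin d → K) →ₗ[K] (Fin d → K) := Matrix.toLin' M with hDl
  have hDdet : LinearMap.det Dl = c := by rw [hDl, LinearMap.det_toLin', hMdet]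
  set Bl : (Fin d → K) →ₗ[K] (Fin d → K) := (A : (Fin d → K) →ₗ[K] (Fin d → K)) ∘ₗ Dl with hBl
  have hBdet : LinearMap.det Bl = 1 := by
    rw [hBl, LinearMap.det_comp, hDdet, hc, mul_inv_cancel₀ hdetA]
  have hunit : IsUnit (LinearMap.det Bl) := by rw [hBdet]; exact isUnit_one
  refine ⟨LinearMap.equivOfIsUnitDet hunit, ?_, ?_, ?_⟩
  · rw [LinearMap.coe_equivOfIsUnitDet, hBdet]
  · rw [LinearMap.equivOfIsUnitDet_apply]
    simp [hBl, hDl, hMv u1 hφ1]
  · rw [LinearMap.equivOfIsUnitDet_apply]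
    simp [hBl, hDl, hMv u2 hφ2]

/-- Let p be an odd prime, d ≥ 3, and G a group of affine permutations x ↦ Ax + b of V = F_p^d containing all translations and all maps x ↦ Ax with A of determinant 1. Then the 3-closure of G is the full affine group: a permutation σ of V agrees on every triple of points with some element of G if and only if σ is an affine map. -/
theorem result (p : ℕ) [Fact p.Prime] (hp : p ≠ 2) (d : ℕ) (hd : 3 ≤ d) (G : Subgroup (Equiv.Perm (Fin d → ZMod p)))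
    (haff : (G : Set (Equiv.Perm (Fin d → ZMod p))) ⊆ {τ : Equiv.Perm (Fin d → ZMod p) | ∃ (A : (Fin d → ZMod p) ≃ₗ[ZMod p] (Fin d → ZMod p)) (b : Fin d → ZMod p), ∀ x, τ x = A x + b})
    (htrans : ∀ b : Fin d → ZMod p, ∃ g ∈ G, ∀ x, g x = x + b)
    (hsl : ∀ A : (Fin d → ZMod p) ≃ₗ[ZMod p] (Fin d → ZMod p), LinearMap.det (A : (Fin d → ZMod p) →ₗ[ZMod p] (Fin d → ZMod p)) = 1 → ∃ g ∈ G, ∀ x, g x = A x)
    (σ : Equiv.Perm (Fin d → ZMod p)) :
    (∀ t : Fin 3 → (Fin d → ZMod p), ∃ g ∈ G, ∀ i, σ (t i) = g (t i)) ↔ σ ∈ {τ : Equiv.Perm (Fin d → ZMod p) | ∃ (A : (Fin d → ZMod p) ≃ₗ[ZMod p] (Fin d → ZMod p)) (b : Fin d → ZMod p), ∀ x, τ x = A x + b} := by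
  constructor
  · intro hσ
    exact affine_of_triples hp σ (fun t => by
      obtain ⟨g', hg', h'⟩ := hσ t
      obtain ⟨A', b', hA'⟩ := haff hg'
      exact ⟨A', b', fun i => by rw [h' i, hA']⟩)
  · rintro ⟨A, b, hA⟩ t
    obtain ⟨B, hBdet, hB1, hB2⟩ := exists_det_one_agree hd A (t 1 - t 0) (t 2 - t 0)
    obtain ⟨g0, hg0, hg0'⟩ := hsl B hBdet
    obtain ⟨g1, hg1, hg1'⟩ := htrans (σ (t 0) - B (t 0))
    refine ⟨g1 * g0, G.mul_mem hg1 hg0, ?_⟩
    have key : ∀ x, B (x - t 0) = A (x - t 0) → σ x = (g1 * g0) x := by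
      intro x hx
      rw [Equiv.Perm.mul_apply, hg1', hg0', hA, hA]
      rw [map_sub, map_sub] at hx
      have : B x = A x - A (t 0) + B (t 0) := by
        rw [← hx]; abel
      rw [this]; abel
    intro i
    fin_cases i
    · exact key _ (by simp)
    · exact key _ hB1
    · exact key _ hB2

end Cfsg.Agent.S3516
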