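import Cfsg.Statements.S3517

set_option autoImplicit false
open Cfsg

namespace Cfsg.Agent.S3517

theorem exists_equiv_of_li {K V ι : Type*} [Field K] [AddCommGroup V] [Module K V]
    [FiniteDimensional K V]
    {u v : ι → V} (hu : LinearIndependent K u) (hv : LinearIndependent K v) :
    ∃ A : V ≃ₗ[K] V, ∀ i, A (u i) = v i := by
  let f : Submodule.span K (Set.range u) ≃ₗ[K] Submodule.span K (Set.range v) :=
    hu.linearCombinationEquiv.symm ≪≫ₗ hv.linearCombinationEquiv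
  obtain ⟨g, hg⟩ := Submodule.exists_linearEquiv_restrict_eq f
  refine ⟨g, fun i => ?_⟩
  have h1 := hg ⟨u i, Submodule.subset_span ⟨i, rfl⟩⟩
  rw [← h1]
  have h2 : hu.repr ⟨u i, Submodule.subset_span ⟨i, rfl⟩⟩ = Finsupp.single i 1 :=
    hu.repr_eq_single i _ rfl
  change ((hv.linearCombinationEquiv (hu.repr ⟨u i, Submodule.subset_span ⟨i, rfl⟩⟩) :
    Submodule.span K (Set.range v)) : V) = v i
  rw [h2, LinearIndependent.linearCombinationEquiv_apply_coe]
  simp

theorem exists_equiv_single {K V : Type*} [Field K] [AddCommGroup V] [Module K V]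
    [FiniteDimensional K V] {u v : V} (hu : u ≠ 0) (hv : v ≠ 0) :
    ∃ A : V ≃ₗ[K] V, A u = v := by
  have hu' : LinearIndependent K (fun _ : Unit => u) := by
    rw [linearIndependent_unique_iff]; exact hu
  have hv' : LinearIndependent K (fun _ : Unit => v) := by
    rw [linearIndependent_unique_iff]; exact hv
  obtain ⟨A, hA⟩ := exists_equiv_of_li hu' hv'
  exact ⟨A, hA ()⟩

theorem li_pair_zmod2 {V : Type*} [AddCommGroup V] [Module (ZMod 2) V] {x y : V}
    (hx : x ≠ 0) (hy : y ≠ 0) (hxy : x ≠ y) : LinearIndependent (ZMod 2) ![x, y] := by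
  rw [LinearIndependent.pair_iff' hx]
  intro a
  have ha : a = 0 ∨ a = 1 := by revert a; decide
  rcases ha with rfl | rfl
  · simpa using hy.symm
  · simpa using hxy

theorem exists_equiv_pair {V : Type*} [AddCommGroup V] [Module (ZMod 2) V]
    [FiniteDimensional (ZMod 2) V] {u1 u2 v1 v2 : V}
    (h1 : u1 = 0 ↔ v1 = 0) (h2 : u2 = 0 ↔ v2 = 0) (h12 : u1 = u2 ↔ v1 = v2) :
    ∃ A : V ≃ₗ[ZMod 2] V, A u1 = v1 ∧ A u2 = v2 := by
  by_cases hu1 : u1 = 0
  · have hv1 : v1 = 0 := h1.mp hu1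
    by_cases hu2 : u2 = 0
    · have hv2 : v2 = 0 := h2.mp hu2
      exact ⟨LinearEquiv.refl _ _, by simp [hu1, hv1], by simp [hu2, hv2]⟩
    · have hv2 : v2 ≠ 0 := fun h => hu2 (h2.mpr h)
      obtain ⟨A, hA⟩ := exists_equiv_single (K := ZMod 2) hu2 hv2
      exact ⟨A, by simp [hu1, hv1], hA⟩
  · have hv1 : v1 ≠ 0 := fun h => hu1 (h1.mpr h)
    by_cases hu2 : u2 = 0
    · have hv2 : v2 = 0 := h2.mp hu2
      obtain ⟨A, hA⟩ := exists_equiv_single (K := ZMod 2) hu1 hv1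
      exact ⟨A, hA, by simp [hu2, hv2]⟩
    · have hv2 : v2 ≠ 0 := fun h => hu2 (h2.mpr h)
      by_cases hu12 : u1 = u2
      · have hv12 : v1 = v2 := h12.mp hu12
        obtain ⟨A, hA⟩ := exists_equiv_single (K := ZMod 2) hu1 hv1
        exact ⟨A, hA, by rw [← hu12, ← hv12]; exact hA⟩
      · have hv12 : v1 ≠ v2 := fun h => hu12 (h12.mpr h)
        obtain ⟨A, hA⟩ := exists_equiv_of_li (li_pair_zmod2 hu1 hu2 hu12)
          (li_pair_zmod2 hv1 hv2 hv12)
        exact ⟨A, by simpa using hA 0, by simpa using hA 1⟩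

/-- For d ≥ 3, the 3-closure of the affine group AGL_d(2) acting on F_2^d is the full symmetric group: every permutation of F_2^d agrees on every ordered triple of points with some affine map (AGL_d(2) is 3-transitive). -/
theorem result (d : ℕ) (hd : 3 ≤ d) (σ : Equiv.Perm (Fin d → ZMod 2)) (t : Fin 3 → (Fin d → ZMod 2)) :
    ∃ (A : (Fin d → ZMod 2) ≃ₗ[ZMod 2] (Fin d → ZMod 2)) (b : Fin d → ZMod 2), ∀ i, σ (t i) = A (t i) + b := by
  have H : ∃ A : (Fin d → ZMod 2) ≃ₗ[ZMod 2] (Fin d → ZMod 2),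
      A (t 1 - t 0) = σ (t 1) - σ (t 0) ∧ A (t 2 - t 0) = σ (t 2) - σ (t 0) := by
    apply exists_equiv_pair
    · rw [sub_eq_zero, sub_eq_zero, σ.injective.eq_iff]
    · rw [sub_eq_zero, sub_eq_zero, σ.injective.eq_iff]
    · rw [sub_left_inj, sub_left_inj, σ.injective.eq_iff]
  obtain ⟨A, h1, h2⟩ := H
  refine ⟨A, σ (t 0) - A (t 0), ?_⟩
  intro i
  rw [map_sub] at h1 h2
  fin_cases i
  · simp
  · change σ (t 1) = A (t 1) + (σ (t 0) - A (t 0))
    rw [sub_eq_sub_iff_add_eq_add] at h1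
    rw [← add_sub_assoc, eq_sub_iff_add_eq, add_comm (A (t 1)), ← h1, add_comm]
  · change σ (t 2) = A (t 2) + (σ (t 0) - A (t 0))
    rw [sub_eq_sub_iff_add_eq_add] at h2
    rw [← add_sub_assoc, eq_sub_iff_add_eq, add_comm (A (t 2)), ← h2, add_comm]

end Cfsg.Agent.S3517
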