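import Cfsg.Statements.S3518
import Cfsg.Agent.Lib.Helper58.McConnel

set_option autoImplicit false
set_option linter.style.haveILetI false
open Cfsg

namespace Cfsg.Agent.S3518

open Cfsg.Agent.Lib.Helper58

/-- The affine permutation `x ↦ a * x + b`. -/
def affPerm {p : ℕ} (a : (ZMod p)ˣ) (b : ZMod p) : Equiv.Perm (ZMod p) :=
  Equiv.addRight b * Units.mulLeft a

theorem affPerm_apply {p : ℕ} (a : (ZMod p)ˣ) (b : ZMod p) (x : ZMod p) :
    affPerm a b x = (a : ZMod p) * x + b := rfl

theorem affPerm_mem {p : ℕ} (a : (ZMod p)ˣ) (b : ZMod p) :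
    affPerm a b ∈ Cfsg.affineGroup (ZMod p) := ⟨a, b, fun _ => rfl⟩

/-- Closures of subgroups of the one-dimensional affine group. Let p be a prime and G a group of permutations of F_p lying in the affine group AGL₁(p) = {x ↦ ax + b, a ≠ 0} and containing all translations. (1) If G is a proper subgroup of AGL₁(p), then G is 2-closed: a permutation of F_p agreeing on every ordered pair of points with some element of G lies in G. (2) Every permutation of F_p agrees on every ordered pair with some element of AGL₁(p) (the 2-closure of AGL₁(p) is the symmetric group). (3) AGL₁(p) is 3-closed: a permutation agreeing on every ordered triple with some affine map is affine. -/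
theorem result (p : ℕ) [Fact p.Prime] (G : Subgroup (Equiv.Perm (ZMod p))) (hG : G ≤ Cfsg.affineGroup (ZMod p))
    (htrans : ∀ b : ZMod p, ∃ g ∈ G, ∀ x, g x = x + b) :
    (G ≠ Cfsg.affineGroup (ZMod p) → ∀ σ : Equiv.Perm (ZMod p), (∀ t : Fin 2 → ZMod p, ∃ g ∈ G, ∀ i, σ (t i) = g (t i)) → σ ∈ G) ∧
    (∀ σ : Equiv.Perm (ZMod p), (∀ t : Fin 2 → ZMod p, ∃ g ∈ Cfsg.affineGroup (ZMod p), ∀ i, σ (t i) = g (t i))) ∧
    (∀ σ : Equiv.Perm (ZMod p), (∀ t : Fin 3 → ZMod p, ∃ g ∈ Cfsg.affineGroup (ZMod p), ∀ i, σ (t i) = g (t i)) → σ ∈ Cfsg.affineGroup (ZMod p)) := by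
  refine ⟨?_, ?_, ?_⟩
  · intro hne σ hσ
    -- the multiplier subgroup
    set H : Subgroup (ZMod p)ˣ := G.comap (MulAction.toPermHom (ZMod p)ˣ (ZMod p)) with hHdef
    have F1 : ∀ g ∈ G, ∀ (a : (ZMod p)ˣ) (b : ZMod p), (∀ x, g x = (a : ZMod p) * x + b) → a ∈ H := by
      intro g hg a b hgab
      obtain ⟨g', hg', hg'b⟩ := htrans (-b)
      rw [hHdef, Subgroup.mem_comap]
      have : MulAction.toPermHom (ZMod p)ˣ (ZMod p) a = g' * g := by
        ext x
        rw [Equiv.Perm.mul_apply, hg'b, hgab]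
        simp [Units.smul_def]
      rw [this]
      exact G.mul_mem hg' hg
    have F2 : ∀ (σ : Equiv.Perm (ZMod p)) (a : (ZMod p)ˣ) (b : ZMod p), a ∈ H →
        (∀ x, σ x = (a : ZMod p) * x + b) → σ ∈ G := by
      intro σ a b ha hσab
      obtain ⟨g', hg', hg'b⟩ := htrans b
      rw [hHdef, Subgroup.mem_comap] at ha
      have : σ = g' * MulAction.toPermHom (ZMod p)ˣ (ZMod p) a := by
        ext x
        rw [Equiv.Perm.mul_apply, hg'b, hσab]
        simp [Units.smul_def]
      rw [this]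
      exact G.mul_mem hg' ha
    have F3 : H ≠ ⊤ := by
      intro htop
      apply hne
      apply le_antisymm hG
      rintro τ ⟨a, b, hτ⟩
      exact F2 τ a b (by rw [htop]; trivial) hτ
    have hpair : ∀ x y : ZMod p, x ≠ y →
        ∃ a ∈ H, σ x - σ y = ((a : (ZMod p)ˣ) : ZMod p) * (x - y) := by
      intro x y _
      obtain ⟨g, hg, hgt⟩ := hσ ![x, y]
      obtain ⟨a, b, hgab⟩ := hG hg
      refine ⟨a, F1 g hg a b hgab, ?_⟩
      have h0 := hgt 0
      have h1 := hgt 1
      simp only [Matrix.cons_val_zero, Matrix.cons_val_one] at h0 h1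
      rw [h0, h1, hgab, hgab]
      ring
    obtain ⟨c, hc, b, hcb⟩ := mcconnel H F3 σ σ.injective hpair
    exact F2 σ c b hc hcb
  · intro σ t
    by_cases h01 : t 0 = t 1
    · refine ⟨affPerm 1 (σ (t 0) - t 0), affPerm_mem _ _, ?_⟩
      rw [Fin.forall_fin_two]
      refine ⟨?_, ?_⟩
      · rw [affPerm_apply]; simp
      · rw [affPerm_apply, ← h01]; simp
    · have hne : σ (t 1) - σ (t 0) ≠ 0 := by
        rw [sub_ne_zero]
        intro h
        exact h01 (σ.injective h).symm
      have hne2 : t 1 - t 0 ≠ 0 := sub_ne_zero.mpr (Ne.symm h01)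
      refine ⟨affPerm (Units.mk0 ((σ (t 1) - σ (t 0)) / (t 1 - t 0)) (div_ne_zero hne hne2))
        (σ (t 0) - (σ (t 1) - σ (t 0)) / (t 1 - t 0) * t 0), affPerm_mem _ _, ?_⟩
      rw [Fin.forall_fin_two]
      refine ⟨?_, ?_⟩
      · rw [affPerm_apply, Units.val_mk0]; ring
      · rw [affPerm_apply, Units.val_mk0]
        field_simp
        ring
  · intro σ hσ
    obtain ⟨g₀, ⟨a₀, b₀, hg₀⟩, ht₀⟩ := hσ ![0, 1, 0]
    refine ⟨a₀, b₀, fun x => ?_⟩
    obtain ⟨g, ⟨a, b, hg⟩, ht⟩ := hσ ![0, 1, x]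
    have e0 := ht₀ 0
    have e1 := ht₀ 1
    have f0 := ht 0
    have f1 := ht 1
    have f2 := ht 2
    simp only [Matrix.cons_val_zero, Matrix.cons_val_one, Matrix.cons_val_two,
      Matrix.head_cons, Matrix.tail_cons] at e0 e1 f0 f1 f2
    rw [hg₀] at e0 e1
    rw [hg] at f0 f1 f2
    have hb : b = b₀ := by
      have := f0.symm.trans e0
      simpa using this
    have ha : (a : ZMod p) = a₀ := by
      have := f1.symm.trans e1
      rw [hb] at this
      simpa using this
    rw [f2, ha, hb]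

end Cfsg.Agent.S3518
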