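import Cfsg.Statements.S3520
import Cfsg.Agent.Lib.Helper73.DerTwoB
import Cfsg.Agent.Lib.Helper73.DerTwoC

set_option autoImplicit false
open Cfsg

namespace Cfsg.Agent.S3520

/-- Let a finite group G act faithfully and primitively on a finite set Ω with at least two points, suppose G is not almost simple (no non-abelian simple normal subgroup with trivial centralizer), and suppose the derangements of G form exactly two conjugacy classes. Then either Ω has 3 points and G has order 3; or G has a non-trivial abelian normal subgroup N acting regularly, every non-identity element of G fixes at most one point (so, when n > 3, G is a Frobenius group with kernel N), the number n of points is odd and a point stabilizer has order (n − 1)/2; or G is 2-transitive with a non-trivial abelian regular normal subgroup and some non-identity element fixes at least two points (a non-Frobenius 2-transitive affine group). -/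
theorem result {G : Type*} [Group G] [Finite G] {Ω : Type*} [Fintype Ω] [MulAction G Ω] [FaithfulSMul G Ω] (hΩ : 2 ≤ Fintype.card Ω) (hprim : MulAction.IsPreprimitive G Ω) (hnas : ¬ ∃ T : Subgroup G, T.Normal ∧ IsSimpleGroup T ∧ ¬ IsMulCommutative T ∧ Subgroup.centralizer (T : Set G) = ⊥)
    (hκ : Nat.card {c : ConjClasses G // ∃ g : G, ConjClasses.mk g = c ∧ ∀ ω : Ω, g • ω ≠ ω} = 2) (α : Ω) :
    (Fintype.card Ω = 3 ∧ Nat.card G = 3) ∨
    ((∃ N : Subgroup G, N.Normal ∧ N ≠ ⊥ ∧ IsMulCommutative N ∧ ∀ ω : Ω, MulAction.stabilizer N ω = ⊥) ∧ (∀ g : G, g ≠ 1 → Nat.card (MulAction.fixedBy Ω g) ≤ 1) ∧ ¬ 2 ∣ Fintype.card Ω ∧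
        2 * Nat.card (MulAction.stabilizer G α) = Fintype.card Ω - 1) ∨
    ((∃ N : Subgroup G, N.Normal ∧ N ≠ ⊥ ∧ IsMulCommutative N ∧ ∀ ω : Ω, MulAction.stabilizer N ω = ⊥) ∧ MulAction.IsMultiplyPretransitive G Ω 2 ∧ ∃ g : G, g ≠ 1 ∧ 2 ≤ Nat.card (MulAction.fixedBy Ω g)) := by
  classical
  have htrans : MulAction.IsPretransitive G Ω := hprim.toIsPretransitive
  -- the two classes
  obtain ⟨c₁, c₂, hc12, huniv⟩ := Nat.card_eq_two_iff.mp hκ
  have hmem : ∀ c : {c : ConjClasses G // ∃ g : G, ConjClasses.mk g = c ∧ ∀ ω : Ω, g • ω ≠ ω},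
      c = c₁ ∨ c = c₂ := by
    intro c
    have : c ∈ ({c₁, c₂} : Set _) := by rw [huniv]; exact Set.mem_univ _
    simpa using this
  have e : ∀ (u v : G) (hu : ∀ ω : Ω, u • ω ≠ ω) (hv : ∀ ω : Ω, v • ω ≠ ω),
      (⟨ConjClasses.mk u, u, rfl, hu⟩ :
        {c : ConjClasses G // ∃ g : G, ConjClasses.mk g = c ∧ ∀ ω : Ω, g • ω ≠ ω})
        = ⟨ConjClasses.mk v, v, rfl, hv⟩ → IsConj u v :=
    fun u v hu hv h => ConjClasses.mk_eq_mk_iff_isConj.mp (congrArg Subtype.val h)
  have hconj3 : ∀ x y z : G, (∀ ω : Ω, x • ω ≠ ω) → (∀ ω : Ω, y • ω ≠ ω) →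
      (∀ ω : Ω, z • ω ≠ ω) → IsConj x y ∨ IsConj x z ∨ IsConj y z := by
    intro x y z hx hy hz
    rcases hmem ⟨ConjClasses.mk x, x, rfl, hx⟩ with h1 | h1 <;>
    rcases hmem ⟨ConjClasses.mk y, y, rfl, hy⟩ with h2 | h2 <;>
    rcases hmem ⟨ConjClasses.mk z, z, rfl, hz⟩ with h3 | h3 <;>
    first
      | exact Or.inl (e x y hx hy (h1.trans h2.symm))
      | exact Or.inr (Or.inl (e x z hx hz (h1.trans h3.symm)))
      | exact Or.inr (Or.inr (e y z hy hz (h2.trans h3.symm)))
  obtain ⟨g₁, hg₁c, hg₁⟩ := c₁.2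
  obtain ⟨g₂, hg₂c, hg₂⟩ := c₂.2
  have hg12 : ¬ IsConj g₁ g₂ := by
    intro h
    apply hc12
    apply Subtype.ext
    rw [← hg₁c, ← hg₂c]
    exact ConjClasses.mk_eq_mk_iff_isConj.mpr h
  have hQ : MulAction.IsQuasiPreprimitive G Ω := inferInstance
  have H : Lib.Helper73.DerTwo.Hyp2 G Ω := by
    refine ⟨hΩ, ?_, hconj3⟩
    intro N hN hN1 a b
    have hfix : MulAction.fixedPoints N Ω ≠ Set.univ := by
      intro h
      apply hN1
      rw [eq_bot_iff]
      intro n hn
      rw [Subgroup.mem_bot]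
      apply FaithfulSMul.eq_of_smul_eq_smul (α := Ω)
      intro ω
      have hω : ω ∈ MulAction.fixedPoints N Ω := by rw [h]; exact Set.mem_univ _
      rw [one_smul]
      exact hω ⟨n, hn⟩
    have := MulAction.IsQuasiPreprimitive.isPretransitive_of_normal (N := N) hfix
    obtain ⟨n, hn⟩ := MulAction.exists_smul_eq N a b
    exact ⟨n, n.2, hn⟩
  -- a minimal normal subgroup
  have hg₁1 : g₁ ≠ 1 := by
    rintro rfl
    exact hg₁ α (one_smul _ _)
  let S : Set (Subgroup G) := {N | N.Normal ∧ N ≠ ⊥}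
  have hS : S.Nonempty := by
    refine ⟨⊤, inferInstance, ?_⟩
    intro h
    have : g₁ ∈ (⊤ : Subgroup G) := Subgroup.mem_top g₁
    rw [h, Subgroup.mem_bot] at this
    exact hg₁1 this
  obtain ⟨N, hNS, hNmin⟩ := wellFounded_lt.has_min S hS
  have hmin : ∀ M : Subgroup G, M.Normal → M ≠ ⊥ → M ≤ N → M = N := by
    intro M hM hM1 hMN
    by_contra hne
    exact hNmin M ⟨hM, hM1⟩ (lt_of_le_of_ne hMN hne)
  by_cases hab : ∀ x ∈ N, ∀ y ∈ N, x * y = y * x
  · have htr := H.trans N hNS.1 hNS.2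
    have hreg : ∀ n ∈ N, ∀ a : Ω, n • a = a → n = 1 := by
      intro n hn a ha
      exact Lib.Helper73.DerOne.eq_one_of_commute_transitive N htr n
        (fun k hk => hab k hk n hn) a ha
    have R : Lib.Helper73.DerTwo.RegAb N Ω := ⟨hNS.1, hab, htr, hreg⟩
    have hNex : ∃ N : Subgroup G, N.Normal ∧ N ≠ ⊥ ∧ IsMulCommutative N ∧
        ∀ ω : Ω, MulAction.stabilizer N ω = ⊥ := by
      refine ⟨N, hNS.1, hNS.2, ⟨⟨fun a b => Subtype.ext (hab a a.2 b b.2)⟩⟩, ?_⟩
      intro ω
      rw [eq_bot_iff]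
      intro n hn
      rw [Subgroup.mem_bot]
      apply Subtype.ext
      exact hreg n n.2 ω (MulAction.mem_stabilizer_iff.mp hn)
    by_cases hone : ∀ n ∈ N, ∀ n' ∈ N, n ≠ 1 → n' ≠ 1 → IsConj n n'
    · right; right
      refine ⟨hNex, MulAction.is_two_pretransitive_iff.mpr (R.two_trans hone), ?_⟩
      by_contra hno
      push Not at hno
      have hsharp : ∀ g : G, g ≠ 1 → ∀ a b : Ω, a ≠ b → g • a = a → g • b ≠ b := by
        intro g hg a b hab' ha hb
        have h1 := hno g hg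
        have h2 : 1 < Nat.card (MulAction.fixedBy Ω g) :=
          Finite.one_lt_card_iff_nontrivial.mpr
            ⟨⟨a, ha⟩, ⟨b, hb⟩, fun h => hab' (congrArg Subtype.val h)⟩
        omega
      exact hg12 (Lib.Helper73.DerOne.sharply_two_conj hΩ (R.two_trans hone) hsharp
        g₁ g₂ hg₁ hg₂)
    · push Not at hone
      obtain ⟨n₁, h₁, n₂, h₂, h₁1, h₂1, hnc⟩ := hone
      have hd₁ : ∀ ω : Ω, n₁ • ω ≠ ω := fun ω h => h₁1 (hreg n₁ h₁ ω h)
      have hd₂ : ∀ ω : Ω, n₂ • ω ≠ ω := fun ω h => h₂1 (hreg n₂ h₂ ω h)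
      have hder : ∀ x : G, (∀ ω : Ω, x • ω ≠ ω) → x ∈ N := by
        intro x hx
        rcases hconj3 n₁ n₂ x hd₁ hd₂ hx with h | h | h
        · exact absurd h hnc
        · obtain ⟨c, rfl⟩ := isConj_iff.mp h
          exact hNS.1.conj_mem n₁ h₁ c
        · obtain ⟨c, rfl⟩ := isConj_iff.mp h
          exact hNS.1.conj_mem n₂ h₂ c
      have hall : ∀ m ∈ N, m ≠ 1 → IsConj n₁ m ∨ IsConj n₂ m := by
        intro m hm hm1
        rcases hconj3 n₁ n₂ m hd₁ hd₂ (fun ω h => hm1 (hreg m hm ω h)) with h | h | h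
        · exact absurd h hnc
        · exact Or.inl h
        · exact Or.inr h
      have hsharp := R.sharp hder
      have hcount := R.count hsharp n₁ n₂ h₁ h₂ h₁1 h₂1 hnc hall α
      right; left
      refine ⟨hNex, ?_, ?_, ?_⟩
      · intro g hg
        rw [Finite.card_le_one_iff_subsingleton]
        refine ⟨fun a b => ?_⟩
        by_contra hne
        exact hsharp g hg a.1 b.1 (fun h => hne (Subtype.ext h)) a.2 b.2
      · omega
      · omega
  · exfalso
    exact hnas (H.nonabelian_case ⟨hNS.1, hNS.2, hmin, hab⟩)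

end Cfsg.Agent.S3520
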