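import Cfsg.Statements.S3532
import Cfsg.Agent.S2475
import Cfsg.Agent.Lib.Helper41.AffGroup

set_option autoImplicit false
open Cfsg

namespace Cfsg.Agent.S3532

open Cfsg.Agent.Lib.Helper41

theorem range_orderOf_prod {G G' : Type*} [Group G] [Group G'] :
    Set.range (orderOf : G × G' → ℕ) =
      {n : ℕ | ∃ a ∈ Set.range (orderOf : G → ℕ), ∃ b ∈ Set.range (orderOf : G' → ℕ),
        n = Nat.lcm a b} := by
  ext n
  constructor
  · rintro ⟨⟨x, y⟩, rfl⟩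
    exact ⟨orderOf x, ⟨x, rfl⟩, orderOf y, ⟨y, rfl⟩, Prod.orderOf_mk⟩
  · rintro ⟨a, ⟨x, rfl⟩, b, ⟨y, rfl⟩, rfl⟩
    exact ⟨(x, y), Prod.orderOf_mk⟩

/-- The combinatorial heart: lcm-closures agree. -/
theorem lcm_sets_eq (p m₁ m₂ : ℕ) :
    {n : ℕ | ∃ a ∈ {n : ℕ | n ∣ p ∨ n ∣ m₁}, ∃ b ∈ {n : ℕ | n ∣ p ∨ n ∣ m₂}, n = Nat.lcm a b} =
    {n : ℕ | ∃ a ∈ {n : ℕ | n ∣ p ∨ n ∣ m₁ ∨ n ∣ m₂}, ∃ b ∈ {n : ℕ | n ∣ p ∨ n ∣ m₁ ∨ n ∣ m₂},
      n = Nat.lcm a b} := by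
  ext n
  constructor
  · rintro ⟨a, ha, b, hb, rfl⟩
    refine ⟨a, ?_, b, ?_, rfl⟩
    · rcases ha with h | h
      · exact Or.inl h
      · exact Or.inr (Or.inl h)
    · rcases hb with h | h
      · exact Or.inl h
      · exact Or.inr (Or.inr h)
  · rintro ⟨a, ha, b, hb, rfl⟩
    rcases ha with ha | ha | ha <;> rcases hb with hb | hb | hb
    · exact ⟨Nat.lcm a b, Or.inl (Nat.lcm_dvd ha hb), 1, Or.inl (one_dvd _), by simp⟩
    · exact ⟨b, Or.inr hb, a, Or.inl ha, Nat.lcm_comm a b⟩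
    · exact ⟨a, Or.inl ha, b, Or.inr hb, rfl⟩
    · exact ⟨a, Or.inr ha, b, Or.inl hb, rfl⟩
    · exact ⟨Nat.lcm a b, Or.inr (Nat.lcm_dvd ha hb), 1, Or.inl (one_dvd _), by simp⟩
    · exact ⟨a, Or.inr ha, b, Or.inr hb, rfl⟩
    · exact ⟨b, Or.inl hb, a, Or.inr ha, Nat.lcm_comm a b⟩
    · exact ⟨b, Or.inr hb, a, Or.inr ha, Nat.lcm_comm a b⟩
    · exact ⟨1, Or.inl (one_dvd _), Nat.lcm a b, Or.inr (Nat.lcm_dvd ha hb), by simp⟩

/-- Let q ≥ 4 be a prime power and L = PSL(2,q). There is a finite solvable group with the same set of element orders as L × L (so L × L is not determined by its spectrum). -/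
theorem result {F : Type*} [Field F] [Fintype F] (hF : 4 ≤ Fintype.card F) :
    ∃ (H : Type) (_ : Group H) (_ : Finite H), Group.IsSolvable H ∧
      Set.range (orderOf : H → ℕ) = Set.range (orderOf : Matrix.ProjectiveSpecialLinearGroup (Fin 2) F × Matrix.ProjectiveSpecialLinearGroup (Fin 2) F → ℕ) := by
  classical
  obtain ⟨p, hp⟩ := CharP.exists F
  have := hp
  have : Fact p.Prime := ⟨CharP.char_is_prime F p⟩
  obtain ⟨k, -, hk⟩ := FiniteField.card F p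
  set q := Fintype.card F with hq
  have hk0 : 2 * (k : ℕ) ≠ 0 := by have := k.pos; omega
  let K := GaloisField p (2 * k)
  have : Fintype K := Fintype.ofFinite K
  have hKcard : Fintype.card K = q ^ 2 := by
    rw [← Nat.card_eq_fintype_card, GaloisField.card p _ hk0, hk, ← pow_mul, mul_comm]
  have hq1 : 1 ≤ q := by omega
  have hfac : q ^ 2 - 1 = (q - 1) * (q + 1) := by
    zify [hq1, Nat.one_le_pow 2 q (by omega)]
    ring
  set d := Nat.gcd 2 (q - 1) with hd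
  have hd1 : d ∣ q - 1 := Nat.gcd_dvd_right _ _
  have hd2 : d ∣ q + 1 := by
    have h2 : d ∣ 2 := Nat.gcd_dvd_left _ _
    have : q + 1 = (q - 1) + 2 := by omega
    rw [this]; exact Dvd.dvd.add hd1 h2
  have hm₁ : (q - 1) / d ∣ Fintype.card K - 1 := by
    rw [hKcard, hfac]
    exact (Nat.div_dvd_of_dvd hd1).trans (Dvd.intro _ rfl)
  have hm₂ : (q + 1) / d ∣ Fintype.card K - 1 := by
    rw [hKcard, hfac]
    exact (Nat.div_dvd_of_dvd hd2).trans (Dvd.intro_left _ rfl)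
  refine ⟨Aff K ((q - 1) / d) × Aff K ((q + 1) / d), inferInstance, inferInstance, inferInstance, ?_⟩
  rw [range_orderOf_prod, range_orderOf_prod, Aff.range_orderOf p hm₁, Aff.range_orderOf p hm₂,
    Cfsg.Agent.S2475.result p hF]
  exact lcm_sets_eq p _ _

end Cfsg.Agent.S3532
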