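import Cfsg.Statements.S3549
import Cfsg.Agent.Lib.Helper59.DerIndex

set_option autoImplicit false
open Cfsg

namespace Cfsg.Agent.S3549

open MulAction Cfsg.Agent.Lib.Helper59
open scoped Pointwise

theorem arith (k b m n : ℕ) (_hk : 0 < k) (hb : 2 ≤ b) (hbm : b * m = n) (hlt : b < n)
    (h1 : k ∣ b - 1) (h2 : k ∣ n - b) : (k + 1) ^ 2 ≤ n := by
  have hm2 : 2 ≤ m := by
    by_contra h
    have : m ≤ 1 := by omega
    have : b * m ≤ b * 1 := Nat.mul_le_mul_left b this
    omega
  have hnb : n - b = b * (m - 1) := by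
    rw [← hbm, Nat.mul_sub, mul_one]
  have hcop : Nat.Coprime k b := by
    have hb1 : b = (b - 1) + 1 := by omega
    have hd : Nat.gcd k b ∣ 1 := by
      have g1 : Nat.gcd k b ∣ b - 1 := (Nat.gcd_dvd_left k b).trans h1
      have g2 : Nat.gcd k b ∣ b := Nat.gcd_dvd_right k b
      have : Nat.gcd k b ∣ b - (b - 1) := Nat.dvd_sub g2 g1
      have e : b - (b - 1) = 1 := by omega
      rwa [e] at this
    exact Nat.dvd_one.1 hd
  have h3 : k ∣ m - 1 := by
    rw [hnb] at h2
    exact hcop.dvd_of_dvd_mul_left h2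
  have hkb : k ≤ b - 1 := Nat.le_of_dvd (by omega) h1
  have hkm : k ≤ m - 1 := Nat.le_of_dvd (by omega) h3
  have : (k + 1) * (k + 1) ≤ b * m := Nat.mul_le_mul (by omega) (by omega)
  rw [sq]
  omega

/-- Let G act faithfully, transitively but imprimitively on a finite set with n points, and let D be the subgroup generated by the derangements. Then the index of D in G is at most √n − 1. -/
theorem result {G Ω : Type*} [Group G] [Finite G] [MulAction G Ω] [FaithfulSMul G Ω] [Finite Ω]
    (htrans : MulAction.IsPretransitive G Ω) (himp : ¬ MulAction.IsPreprimitive G Ω) :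
    ((Subgroup.closure {g : G | ∀ ω : Ω, g • ω ≠ ω}).index : ℝ) ≤ Real.sqrt (Nat.card Ω) - 1 := by
  have hex : ∃ B : Set Ω, IsBlock G B ∧ ¬ IsTrivialBlock B := by
    by_contra h
    refine himp { toIsPretransitive := htrans, isTrivialBlock_of_isBlock := fun {B} hB => ?_ }
    by_contra h2
    exact h ⟨B, hB, h2⟩
  obtain ⟨B, hB, hBnt⟩ := hex
  unfold IsTrivialBlock at hBnt
  rw [not_or] at hBnt
  obtain ⟨hBns, hBnu⟩ := hBnt
  rw [Set.not_subsingleton_iff] at hBns
  obtain ⟨a, haB, c, hcB, hac⟩ := hBns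
  have hne : Nonempty Ω := ⟨a⟩
  have hnorm : (Subgroup.closure {g : G | ∀ ω : Ω, g • ω ≠ ω}).Normal :=
    derangement_closure_normal
  set D := Subgroup.closure {g : G | ∀ ω : Ω, g • ω ≠ ω} with hD
  have hDder : ∀ g : G, (∀ ω : Ω, g • ω ≠ ω) → g ∈ D := fun g hg => Subgroup.subset_closure hg
  have hstab : ∀ g ∈ stabilizer G a, g • B = B := by
    intro g hg
    have := hB.stabilizer_le haB hg
    exact this
  have h1 : D.index ∣ (B \ {a}).ncard := by
    apply index_dvd_ncard_invariant htrans D hDder a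
    · simp
    · intro g hg x hx
      refine ⟨?_, ?_⟩
      · rw [← hstab g hg]
        exact Set.smul_mem_smul_set hx.1
      · simp only [Set.mem_singleton_iff]
        intro h
        apply hx.2
        simp only [Set.mem_singleton_iff]
        have : g • x = g • a := by rw [h]; exact hg.symm
        exact smul_left_cancel g this
  have h2 : D.index ∣ (Bᶜ).ncard := by
    apply index_dvd_ncard_invariant htrans D hDder a
    · simpa using haB
    · intro g hg x hx hgx
      apply hx
      rw [← hstab g hg] at hgx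
      exact (Set.smul_mem_smul_set_iff).1 hgx
  have hBfin : B.Finite := Set.toFinite B
  have e1 : (B \ {a}).ncard = B.ncard - 1 := by
    rw [Set.ncard_sdiff_singleton_of_mem haB]
  have e2 : (Bᶜ).ncard = Nat.card Ω - B.ncard := Set.ncard_compl B
  have hb2 : 2 ≤ B.ncard := by
    have : 1 < B.ncard := by
      rw [Set.one_lt_ncard_iff hBfin]
      exact ⟨a, c, haB, hcB, hac⟩
    omega
  have hlt : B.ncard < Nat.card Ω := by
    rw [← Set.ncard_univ]
    apply Set.ncard_lt_ncard _ (Set.toFinite _)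
    exact Set.ssubset_univ_iff.2 hBnu
  have hmul := hB.ncard_block_mul_ncard_orbit_eq ⟨a, haB⟩
  rw [e1] at h1
  rw [e2] at h2
  have hkpos : 0 < D.index := Nat.pos_of_ne_zero Subgroup.index_ne_zero_of_finite
  have key := arith D.index B.ncard _ (Nat.card Ω) hkpos hb2 hmul hlt h1 h2
  have hreal : ((D.index : ℝ) + 1) ≤ Real.sqrt (Nat.card Ω) := by
    apply Real.le_sqrt_of_sq_le
    have : (((D.index + 1) ^ 2 : ℕ) : ℝ) ≤ ((Nat.card Ω : ℕ) : ℝ) := by exact_mod_cast key
    simpa using this
  linarith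

end Cfsg.Agent.S3549
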