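import Cfsg.Statements.S3554

set_option autoImplicit false
open Cfsg

namespace Cfsg.Agent.S3554

/-- Let G act faithfully and transitively on a finite set and suppose G has a non-trivial cyclic normal subgroup. Then some element of G of prime order fixes no point. -/
theorem result {G Ω : Type*} [Group G] [Finite G] [MulAction G Ω] [FaithfulSMul G Ω] [Finite Ω]
    (htrans : MulAction.IsPretransitive G Ω) (C : Subgroup G) (hC : C.Normal) (hC1 : C ≠ ⊥) (hcyc : IsCyclic ↥C) :
    ∃ g : G, (orderOf g).Prime ∧ ∀ ω : Ω, g • ω ≠ ω := by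
  obtain ⟨c, hc⟩ := hcyc.exists_generator
  have hcne : (c : G) ≠ 1 := by
    intro h1
    apply hC1
    rw [Subgroup.eq_bot_iff_forall]
    intro x hx
    have := hc ⟨x, hx⟩
    rw [Subgroup.mem_zpowers_iff] at this
    obtain ⟨k, hk⟩ := this
    have hc1 : c = 1 := Subtype.ext h1
    rw [hc1, one_zpow] at hk
    exact (congrArg Subtype.val hk).symm
  set n := orderOf (c : G) with hn
  have hnpos : 0 < n := orderOf_pos _
  have hn1 : n ≠ 1 := by
    intro h
    exact hcne (orderOf_eq_one_iff.1 h)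
  set p := n.minFac with hp
  have hpp : p.Prime := Nat.minFac_prime hn1
  have hpn : p ∣ n := Nat.minFac_dvd n
  obtain ⟨m, hm⟩ := hpn
  have hmpos : 0 < m := by
    rcases Nat.eq_zero_or_pos m with h | h
    · rw [h, mul_zero] at hm; omega
    · exact h
  set h := (c : G) ^ m with hh
  have hord : orderOf h = p := by
    rw [hh, orderOf_pow_of_dvd hmpos.ne' ⟨p, by rw [← hn, hm, mul_comm]⟩, ← hn, hm,
      Nat.mul_div_cancel _ hmpos]
  have hconj : ∀ x : G, ∃ k : ℤ, x * h * x⁻¹ = h ^ k := by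
    intro x
    have hmem : x * (c : G) * x⁻¹ ∈ C := hC.conj_mem _ c.2 x
    have := hc ⟨_, hmem⟩
    rw [Subgroup.mem_zpowers_iff] at this
    obtain ⟨k, hk⟩ := this
    have hk' : (c : G) ^ k = x * (c : G) * x⁻¹ := by
      have := congrArg Subtype.val hk
      simpa using this
    refine ⟨k, ?_⟩
    rw [hh, ← conj_pow, ← hk', ← zpow_natCast, ← zpow_natCast, ← zpow_mul, ← zpow_mul, mul_comm]
  refine ⟨h, by rw [hord]; exact hpp, ?_⟩
  intro ω hω
  have hall : ∀ ω' : Ω, h • ω' = ω' := by
    intro ω'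
    obtain ⟨x, rfl⟩ := MulAction.exists_smul_eq G ω ω'
    obtain ⟨k, hk⟩ := hconj x⁻¹
    have h1 : h * x = x * (x⁻¹ * h * x⁻¹⁻¹) := by group
    rw [← mul_smul, h1, hk, mul_smul]
    congr 1
    have : h ∈ MulAction.stabilizer G ω := hω
    exact (MulAction.stabilizer G ω).zpow_mem this k
  have h1 : h = 1 := by
    apply FaithfulSMul.eq_of_smul_eq_smul (α := Ω)
    intro a
    rw [hall a, one_smul]
  rw [h1, orderOf_one] at hord
  exact hpp.one_lt.ne hord

end Cfsg.Agent.S3554
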