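import Cfsg.Statements.S3555
import Cfsg.Agent.Lib.Helper55.Derange
-- import your own Cfsg.Agent.* helpers here

set_option autoImplicit false
open Cfsg

namespace Cfsg.Agent.S3555

open Cfsg.Agent.Lib.Helper55 Pointwise in
/-- Let G act faithfully and transitively on a finite set and suppose every element of G fixing no point is an involution. Then either G is an elementary abelian 2-group, or G is a Frobenius group whose Frobenius kernel is an elementary abelian 2-group: G has a Frobenius complement H, and the elements lying in no conjugate of H, together with the identity, pairwise commute and square to the identity. -/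
theorem result {G Ω : Type*} [Group G] [Finite G] [MulAction G Ω] [FaithfulSMul G Ω] [Finite Ω]
    (htrans : MulAction.IsPretransitive G Ω) (hinv : ∀ g : G, (∀ ω : Ω, g • ω ≠ ω) → orderOf g = 2) :
    (IsMulCommutative G ∧ ∀ g : G, g ^ 2 = 1) ∨
    (∃ H : Subgroup G, Cfsg.IsFrobeniusComplement H ∧
      (∀ x ∈ Cfsg.frobeniusKernel H, x ^ 2 = 1) ∧
      ∀ x ∈ Cfsg.frobeniusKernel H, ∀ y ∈ Cfsg.frobeniusKernel H, x * y = y * x) := by
  classical
  haveI : Fintype G := Fintype.ofFinite G
  haveI : Fintype Ω := Fintype.ofFinite Ω
  -- key: an element fixing two distinct points is trivial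
  have key : ∀ g : G, ∀ β γ : Ω, β ≠ γ → g • β = β → g • γ = γ → g = 1 := by
    intro g β γ hne hβ hγ
    have hall := fixes_all_of_two hinv g β γ hne hβ hγ
    apply FaithfulSMul.eq_of_smul_eq_smul (α := Ω)
    intro ω
    rw [hall ω, one_smul]
  -- derangements are involutions
  have hsq : ∀ d : G, (∀ ω : Ω, d • ω ≠ ω) → d * d = 1 := by
    intro d hd
    have h2 : orderOf d = 2 := hinv d hd
    have : d ^ 2 = 1 := by rw [← h2]; exact pow_orderOf_eq_one d
    rwa [pow_two] at this
  -- derangements commute
  have hcomm : ∀ x y : G, (∀ ω : Ω, x • ω ≠ ω) → (∀ ω : Ω, y • ω ≠ ω) → x * y = y * x := by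
    intro x y hx hy
    have hxx := hsq x hx
    have hyy := hsq y hy
    have hxinv : x⁻¹ = x := inv_eq_of_mul_eq_one_right hxx
    have hyinv : y⁻¹ = y := inv_eq_of_mul_eq_one_right hyy
    by_cases hder : ∀ ω : Ω, (x * y) • ω ≠ ω
    · have h := hsq (x * y) hder
      -- (xy)(xy) = 1 → xy = y⁻¹ x⁻¹ = y x
      have : x * y = (x * y)⁻¹ := (inv_eq_of_mul_eq_one_right h).symm
      rw [this, mul_inv_rev, hxinv, hyinv]
    · push Not at hder
      obtain ⟨γ, hγ⟩ := hder
      -- y γ = x γ
      have h1 : y • γ = x • γ := by
        have : x • (y • γ) = γ := by rw [← mul_smul]; exact hγ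
        calc y • γ = x⁻¹ • (x • (y • γ)) := by rw [inv_smul_smul]
          _ = x⁻¹ • γ := by rw [this]
          _ = x • γ := by rw [hxinv]
      set δ := x • γ with hδ
      have hne : γ ≠ δ := fun h => hx γ h.symm
      have hxδ : x • δ = γ := by rw [hδ, ← mul_smul, hxx, one_smul]
      have hyδ : y • δ = γ := by rw [← h1, ← mul_smul, hyy, one_smul]
      have hfix1 : (x⁻¹ * y) • γ = γ := by rw [mul_smul, h1, inv_smul_smul]
      have hfix2 : (x⁻¹ * y) • δ = δ := by rw [mul_smul, hyδ, hxinv]
      have h := key (x⁻¹ * y) γ δ hne hfix1 hfix2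
      have hxy : y = x := by
        have := inv_mul_eq_one.mp h
        exact this.symm
      rw [hxy]
  rcases isEmpty_or_nonempty Ω with hemp | ⟨⟨α⟩⟩
  · -- G is trivial
    left
    have htriv : ∀ g : G, g = 1 := by
      intro g
      apply FaithfulSMul.eq_of_smul_eq_smul (α := Ω)
      intro ω
      exact (hemp.false ω).elim
    refine ⟨⟨⟨fun a b => by rw [htriv a, htriv b]⟩⟩, fun g => by rw [htriv g]; simp⟩
  · set H : Subgroup G := MulAction.stabilizer G α with hH
    -- membership in conjugates
    have hconj : ∀ (x g : G), x ∈ MulAut.conj g • H ↔ x • (g • α) = g • α := by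
      intro x g
      rw [Subgroup.mem_pointwise_smul_iff_inv_smul_mem, hH, MulAction.mem_stabilizer_iff]
      simp only [MulAut.smul_def, MulAut.conj_inv_apply]
      rw [mul_smul, mul_smul, inv_smul_eq_iff]
    have hder_iff : ∀ x : G, (∀ g : G, x ∉ MulAut.conj g • H) ↔ ∀ ω : Ω, x • ω ≠ ω := by
      intro x
      constructor
      · intro h ω
        obtain ⟨g, rfl⟩ := MulAction.exists_smul_eq G α ω
        intro hfix
        exact h g ((hconj x g).mpr hfix)
      · intro h g hmem
        exact h (g • α) ((hconj x g).mp hmem)
    by_cases hbot : H = ⊥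
    · left
      -- every nonidentity element is a derangement
      have hall : ∀ g : G, g ≠ 1 → ∀ ω : Ω, g • ω ≠ ω := by
        intro g hg
        rw [← hder_iff]
        intro x hmem
        rw [hbot] at hmem
        have : MulAut.conj x • (⊥ : Subgroup G) = ⊥ := by simp
        rw [this, Subgroup.mem_bot] at hmem
        exact hg hmem
      have hsq' : ∀ g : G, g * g = 1 := by
        intro g
        by_cases hg : g = 1
        · rw [hg, mul_one]
        · exact hsq g (hall g hg)
      refine ⟨⟨⟨fun a b => ?_⟩⟩, fun g => by rw [pow_two]; exact hsq' g⟩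
      by_cases ha : a = 1
      · rw [ha, one_mul, mul_one]
      by_cases hb : b = 1
      · rw [hb, one_mul, mul_one]
      exact hcomm a b (hall a ha) (hall b hb)
    · right
      refine ⟨H, ⟨hbot, ?_, ?_⟩, ?_, ?_⟩
      · -- H ≠ ⊤
        intro htop
        apply hbot
        rw [Subgroup.eq_bot_iff_forall]
        intro x _
        apply FaithfulSMul.eq_of_smul_eq_smul (α := Ω)
        intro ω
        obtain ⟨g, rfl⟩ := MulAction.exists_smul_eq G α ω
        have hg : g ∈ H := by rw [htop]; exact Subgroup.mem_top g
        have hxg : x * g ∈ H := by rw [htop]; exact Subgroup.mem_top _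
        rw [hH, MulAction.mem_stabilizer_iff] at hg hxg
        rw [one_smul, ← mul_smul, hxg, hg]
      · intro g hg
        rw [Subgroup.eq_bot_iff_forall]
        intro x hx
        obtain ⟨hx1, hx2⟩ := Subgroup.mem_inf.mp hx
        have hfix1 : x • α = α := by rwa [hH, MulAction.mem_stabilizer_iff] at hx1
        have hfix2 : x • (g • α) = g • α := (hconj x g).mp hx2
        have hne : α ≠ g • α := by
          intro h
          apply hg
          rw [hH, MulAction.mem_stabilizer_iff]
          exact h.symm
        exact key x α (g • α) hne hfix1 hfix2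
      · intro x hx
        rcases hx with rfl | hx
        · simp
        · rw [pow_two]
          exact hsq x ((hder_iff x).mp hx)
      · intro x hx y hy
        rcases hx with rfl | hx
        · rw [one_mul, mul_one]
        rcases hy with rfl | hy
        · rw [one_mul, mul_one]
        exact hcomm x y ((hder_iff x).mp hx) ((hder_iff y).mp hy)

end Cfsg.Agent.S3555
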