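import Cfsg.Statements.S3556
import Cfsg.Agent.Lib.Helper73.DerP

set_option autoImplicit false
open Cfsg

namespace Cfsg.Agent.S3556

/-- Let G act faithfully and primitively on a finite set with at least two points, and suppose that for some fixed prime p every element of G fixing no point has order a power of p. Then G is of affine type (it has a regular normal subgroup that is an elementary abelian r-group for some prime r) or almost simple (it has a non-abelian simple normal subgroup with trivial centralizer). -/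
theorem result {G Ω : Type*} [Group G] [Finite G] [MulAction G Ω] [FaithfulSMul G Ω] [Finite Ω]
    (hprim : MulAction.IsPreprimitive G Ω) (hΩ : 2 ≤ Nat.card Ω) (p : ℕ) (hp : p.Prime)
    (hder : ∀ g : G, (∀ ω : Ω, g • ω ≠ ω) → ∃ k : ℕ, orderOf g = p ^ k) :
    (∃ (N : Subgroup G) (r : ℕ), r.Prime ∧ N.Normal ∧ Cfsg.IsElementaryAbelian r N ∧
      MulAction.IsPretransitive N Ω ∧ ∀ a : Ω, MulAction.stabilizer N a = ⊥) ∨
    (∃ T : Subgroup G, T.Normal ∧ IsSimpleGroup ↥T ∧ ¬ IsMulCommutative ↥T ∧
      Subgroup.centralizer (T : Set G) = ⊥) := by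
  classical
  have := Fintype.ofFinite Ω
  have hΩ' : 2 ≤ Fintype.card Ω := by rwa [Nat.card_eq_fintype_card] at hΩ
  have htrans : MulAction.IsPretransitive G Ω := hprim.toIsPretransitive
  have hQ : MulAction.IsQuasiPreprimitive G Ω := inferInstance
  have htr : ∀ N : Subgroup G, N.Normal → N ≠ ⊥ → ∀ a b : Ω, ∃ n ∈ N, n • a = b :=
    fun N hN hN1 => Lib.Helper73.DerP.normal_transitive (Ω := Ω) N hN hN1
  obtain ⟨x, hx⟩ := Lib.Helper73.DerOne.exists_derangement (K := G) (X := Ω) hΩ'
  have hne : Nonempty Ω := by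
    rw [← Fintype.card_pos_iff]; omega
  obtain ⟨a₀⟩ := hne
  have hx1 : x ≠ 1 := by
    rintro rfl
    exact hx a₀ (one_smul _ _)
  obtain ⟨N, hNn, hN1, hmin⟩ := Lib.Helper73.DerP.exists_minimal_normal ⟨x, hx1⟩
  by_cases hab : ∀ x ∈ N, ∀ y ∈ N, x * y = y * x
  · left
    have htrN := htr N hNn hN1
    have hreg : ∀ n ∈ N, ∀ a : Ω, n • a = a → n = 1 := by
      intro n hn a ha
      exact Lib.Helper73.DerOne.eq_one_of_commute_transitive N htrN n
        (fun k hk => hab k hk n hn) a ha
    have hnt : Nontrivial N := (Subgroup.nontrivial_iff_ne_bot N).mpr hN1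
    have hcard1 : Nat.card N ≠ 1 := by
      intro h
      have := (Nat.card_eq_one_iff_unique.mp h).1
      exact not_subsingleton N this
    obtain ⟨r, hr, hrd⟩ := Nat.exists_prime_and_dvd hcard1
    have : Fact r.Prime := ⟨hr⟩
    obtain ⟨y, hy⟩ := exists_prime_orderOf_dvd_card' r hrd
    let M : Subgroup G :=
      { carrier := {a | a ∈ N ∧ a ^ r = 1}
        one_mem' := ⟨N.one_mem, one_pow _⟩
        mul_mem' := by
          rintro a b ⟨ha, ha'⟩ ⟨hb, hb'⟩
          refine ⟨N.mul_mem ha hb, ?_⟩
          have : Commute a b := hab a ha b hb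
          rw [this.mul_pow, ha', hb', one_mul]
        inv_mem' := by
          rintro a ⟨ha, ha'⟩
          exact ⟨N.inv_mem ha, by rw [inv_pow, ha', inv_one]⟩ }
    have hMn : M.Normal := by
      refine ⟨fun a ha g => ⟨hNn.conj_mem a ha.1 g, ?_⟩⟩
      rw [conj_pow, ha.2]; group
    have hM1 : M ≠ ⊥ := by
      intro h
      have hyM : (y : G) ∈ M := by
        refine ⟨y.2, ?_⟩
        rw [← Subgroup.orderOf_coe] at hy
        rw [← hy]
        exact pow_orderOf_eq_one _
      rw [h, Subgroup.mem_bot] at hyM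
      have : orderOf (y : G) = r := by rw [Subgroup.orderOf_coe]; exact hy
      rw [hyM, orderOf_one] at this
      exact hr.one_lt.ne' this.symm
    have hMN : M = N := hmin M hMn hM1 (fun a ha => ha.1)
    refine ⟨N, r, hr, hNn, ⟨⟨⟨fun a b => Subtype.ext (hab a a.2 b b.2)⟩⟩, fun a ha => ?_⟩,
      ⟨fun a b => ?_⟩, ?_⟩
    · have : a ∈ M := by rw [hMN]; exact ha
      exact this.2
    · obtain ⟨n, hn, h⟩ := htrN a b
      exact ⟨⟨n, hn⟩, h⟩
    · intro ω
      rw [eq_bot_iff]
      intro n hn
      rw [Subgroup.mem_bot]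
      apply Subtype.ext
      exact hreg n n.2 ω (MulAction.mem_stabilizer_iff.mp hn)
  · right
    exact Lib.Helper73.DerP.almost_simple_of_p_derangements hp htr hder ⟨hNn, hN1, hmin, hab⟩

end Cfsg.Agent.S3556
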