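import Cfsg.Statements.S3559
import Cfsg.Agent.Lib.Helper59.SchurRing

set_option autoImplicit false
open Cfsg

namespace Cfsg.Agent.S3559

open MulAction Cfsg.Agent.Lib.Helper59.SR

/-- Let G act faithfully and transitively on a finite set whose number of points n ≥ 2 is not a prime power, and suppose G has a cyclic subgroup acting regularly (transitively with trivial point stabilizers). Then G is imprimitive or doubly transitive. -/
theorem result {G Ω : Type*} [Group G] [Finite G] [MulAction G Ω] [FaithfulSMul G Ω] [Finite Ω]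
    (htrans : MulAction.IsPretransitive G Ω) (hn : 2 ≤ Nat.card Ω) (hnp : ¬ IsPrimePow (Nat.card Ω))
    (C : Subgroup G) (hcyc : IsCyclic ↥C) (hC : MulAction.IsPretransitive ↥C Ω ∧ ∀ a : Ω, MulAction.stabilizer ↥C a = ⊥) :
    ¬ MulAction.IsPreprimitive G Ω ∨ MulAction.IsMultiplyPretransitive G Ω 2 := by
  classical
  by_cases hprim : MulAction.IsPreprimitive G Ω
  · right
    have hnt : Nontrivial Ω := Finite.one_lt_card_iff_nontrivial.1 (by omega)
    obtain ⟨ω₀⟩ : Nonempty Ω := inferInstance
    let _ : CommGroup ↥C := IsCyclic.commGroup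
    have : Fintype ↥C := Fintype.ofFinite _
    have hreg : Function.Bijective (pt C.subtype ω₀) := by
      constructor
      · intro x y hxy
        have hxy' : (x : G) • ω₀ = (y : G) • ω₀ := hxy
        have h1 : y⁻¹ * x ∈ stabilizer ↥C ω₀ := by
          rw [mem_stabilizer_iff, Subgroup.smul_def]
          push_cast
          rw [mul_smul, hxy', inv_smul_smul]
        rw [hC.2 ω₀, Subgroup.mem_bot] at h1
        exact (inv_mul_eq_one.1 h1).symm
      · intro ω
        obtain ⟨x, hx⟩ := hC.1.exists_smul_eq ω₀ ω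
        exact ⟨x, hx⟩
    have hcard : Fintype.card ↥C = Nat.card Ω := by
      rw [← Nat.card_eq_fintype_card]
      exact Nat.card_congr (Equiv.ofBijective _ hreg)
    have hmax : IsCoatom (stabilizer G ω₀) := IsPreprimitive.isCoatom_stabilizer_of_isPreprimitive (G := G) ω₀
    rw [is_two_pretransitive_iff]
    intro a b c d hab hcd
    obtain ⟨g₁, hg₁⟩ := exists_smul_eq G a ω₀
    obtain ⟨g₂, hg₂⟩ := exists_smul_eq G c ω₀
    have h1 : g₁ • b ≠ ω₀ := by
      intro h
      rw [← hg₁] at h
      exact hab (smul_left_cancel g₁ h).symm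
    have h2 : g₂ • d ≠ ω₀ := by
      intro h
      rw [← hg₂] at h
      exact hcd (smul_left_cancel g₂ h).symm
    obtain ⟨s, hs, hsb⟩ := stabilizer_transitive hreg hmax (by rw [hcard]; exact hnp)
      (by rw [hcard]; exact hn) (g₁ • b) (g₂ • d) h1 h2
    refine ⟨g₂⁻¹ * s * g₁, ?_, ?_⟩
    · rw [mul_smul, mul_smul, hg₁, hs, inv_smul_eq_iff, hg₂]
    · rw [mul_smul, mul_smul, hsb, inv_smul_smul]
  · left; exact hprim

end Cfsg.Agent.S3559
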