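import Cfsg.Statements.S3560

set_option autoImplicit false
open Cfsg

namespace Cfsg.Agent.S3560

open MulAction
open scoped Pointwise

section Coord

variable {ι : Type*} {m : ℕ}

/-- coordinatewise permutation of the coordinate space -/
def cw (τ : ι → Equiv.Perm (Fin m)) : Equiv.Perm (ι → Fin m) := Equiv.piCongrRight τ

/-- permutation of the coordinates -/
def cp (π : Equiv.Perm ι) : Equiv.Perm (ι → Fin m) where
  toFun w := w ∘ π
  invFun w := w ∘ π.symm
  left_inv w := by ext k; simp
  right_inv w := by ext k; simp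

theorem cw_apply (τ : ι → Equiv.Perm (Fin m)) (w : ι → Fin m) (k : ι) :
    cw τ w k = τ k (w k) := rfl

theorem cp_apply (π : Equiv.Perm ι) (w : ι → Fin m) : cp π w = w ∘ π := rfl

variable [Fintype ι]

theorem hd_cw (τ : ι → Equiv.Perm (Fin m)) (w w' : ι → Fin m) :
    hammingDist (cw τ w) (cw τ w') = hammingDist w w' :=
  hammingDist_comp (fun i => τ i) (fun i => (τ i).injective)

variable [DecidableEq ι]

theorem hd_cp (π : Equiv.Perm ι) (w w' : ι → Fin m) :
    hammingDist (cp π w) (cp π w') = hammingDist w w' := by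
  unfold hammingDist
  apply Finset.card_bij (fun k _ => π k)
  · intro k hk
    rw [Finset.mem_filter] at hk ⊢
    exact ⟨Finset.mem_univ _, hk.2⟩
  · intro a _ b _ h
    exact π.injective h
  · intro b hb
    rw [Finset.mem_filter] at hb
    refine ⟨π.symm b, ?_, by simp⟩
    rw [Finset.mem_filter]
    refine ⟨Finset.mem_univ _, ?_⟩
    simpa [cp_apply] using hb.2

theorem exists_perm_two {a₁ a₂ b₁ b₂ : Fin m} (ha : a₁ ≠ a₂) (hb : b₁ ≠ b₂) :
    ∃ τ : Equiv.Perm (Fin m), τ a₁ = b₁ ∧ τ a₂ = b₂ := by
  set c := Equiv.swap a₁ b₁ a₂ with hc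
  have hcb : c ≠ b₁ := by
    intro h
    have : Equiv.swap a₁ b₁ a₂ = Equiv.swap a₁ b₁ a₁ := by
      rw [← hc, h, Equiv.swap_apply_left]
    exact ha ((Equiv.swap a₁ b₁).injective this).symm
  refine ⟨Equiv.swap c b₂ * Equiv.swap a₁ b₁, ?_, ?_⟩
  · rw [Equiv.Perm.mul_apply, Equiv.swap_apply_left]
    exact Equiv.swap_apply_of_ne_of_ne hcb.symm hb
  · rw [Equiv.Perm.mul_apply, ← hc, Equiv.swap_apply_left]

/-- transitivity of isometries on pairs differing in exactly one coordinate -/
theorem lemmaA (z : ι → Fin m) (i : ι) (a : Fin m) (u : ι → Fin m) (j : ι) (b : Fin m)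
    (ha : a ≠ z i) (hb : b ≠ u j) :
    ∃ g : Equiv.Perm (ι → Fin m), (∀ w w', hammingDist (g w) (g w') = hammingDist w w') ∧
      g z = u ∧ g (Function.update z i a) = Function.update u j b := by
  set π := Equiv.swap i j with hπ
  set w := z ∘ π with hw
  have hwj : w j = z i := by simp [hw, hπ]
  obtain ⟨τj, hτ1, hτ2⟩ := exists_perm_two (a₁ := w j) (a₂ := a) (b₁ := u j) (b₂ := b)
    (by rw [hwj]; exact ha.symm) hb.symm
  set τ : ι → Equiv.Perm (Fin m) := fun k => if k = j then τj else Equiv.swap (w k) (u k) with hτ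
  refine ⟨(cp π).trans (cw τ), ?_, ?_, ?_⟩
  · intro x x'
    simp only [Equiv.trans_apply]
    rw [hd_cw, hd_cp]
  · funext k
    simp only [Equiv.trans_apply, cw_apply, cp_apply]
    by_cases hk : k = j
    · subst hk
      simp only [hτ, if_true]
      rw [← hτ1]
    · simp only [hτ, hk, if_false]
      rw [← hw, Equiv.swap_apply_left]
  · funext k
    simp only [Equiv.trans_apply, cw_apply, cp_apply]
    have hupd : Function.update z i a ∘ π = Function.update w j a := by
      rw [Function.update_comp_equiv]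
      congr 1
      simp [hπ]
    rw [hupd]
    by_cases hk : k = j
    · subst hk
      simp only [hτ, if_true, Function.update_self]
      exact hτ2
    · simp only [hτ, hk, if_false, Function.update_of_ne hk]
      rw [Equiv.swap_apply_left]

end Coord

section Abstract

variable {ι : Type*} [Fintype ι] [DecidableEq ι] {m : ℕ} {Y : Type*} (c : Y ≃ (ι → Fin m))

/-- transport a permutation of the coordinate space to `Y` -/
def lift (g : Equiv.Perm (ι → Fin m)) : Equiv.Perm Y := (c.trans g).trans c.symm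

omit [Fintype ι] [DecidableEq ι] in
theorem lift_apply (g : Equiv.Perm (ι → Fin m)) (y : Y) : lift c g y = c.symm (g (c y)) := rfl

/-- the group of Hamming isometries -/
def isoGroup : Subgroup (Equiv.Perm Y) where
  carrier := {σ | ∀ y z, hammingDist (c (σ y)) (c (σ z)) = hammingDist (c y) (c z)}
  mul_mem' := by
    intro a b ha hb y z
    simp only [Set.mem_ofPred_eq, Equiv.Perm.mul_apply] at *
    rw [ha, hb]
  one_mem' := by intro y z; rfl
  inv_mem' := by
    intro a ha y z
    simp only [Set.mem_ofPred_eq] at *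
    have := ha (a⁻¹ y) (a⁻¹ z)
    simp only [Equiv.Perm.coe_inv, Equiv.apply_symm_apply] at this ⊢
    exact this.symm

omit [DecidableEq ι] in
theorem mem_isoGroup (σ : Equiv.Perm Y) : σ ∈ isoGroup c ↔
    ∀ y z, hammingDist (c (σ y)) (c (σ z)) = hammingDist (c y) (c z) := Iff.rfl

omit [DecidableEq ι] in
theorem lift_mem (g : Equiv.Perm (ι → Fin m))
    (hg : ∀ w w', hammingDist (g w) (g w') = hammingDist w w') : lift c g ∈ isoGroup c := by
  intro y z
  simp [lift_apply, hg]

omit [DecidableEq ι] in
theorem smul_mk (σ : Equiv.Perm Y) (h : σ ∈ isoGroup c) (y : Y) :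
    (⟨σ, h⟩ : isoGroup c) • y = σ y := rfl

theorem isoGroup_pretransitive : IsPretransitive (isoGroup c) Y := by
  constructor
  intro y z
  refine ⟨⟨lift c (cw (fun i => Equiv.swap (c y i) (c z i))), lift_mem c _ (hd_cw _)⟩, ?_⟩
  rw [smul_mk, lift_apply, Equiv.symm_apply_eq]
  funext k
  rw [cw_apply, Equiv.swap_apply_left]

/-- modify one coordinate -/
def upd (y : Y) (i : ι) (a : Fin m) : Y := c.symm (Function.update (c y) i a)

omit [Fintype ι] in
theorem c_upd (y : Y) (i : ι) (a : Fin m) : c (upd c y i a) = Function.update (c y) i a := by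
  simp [upd]

theorem lemmaB (hm : 3 ≤ m) (B : Set Y) (hB : IsBlock (isoGroup c) B) (y z : Y) (hy : y ∈ B)
    (hz : z ∈ B) (hyz : y ≠ z) :
    ∃ z₀ ∈ B, ∃ i a, a ≠ c z₀ i ∧ upd c z₀ i a ∈ B := by
  have hne : c y ≠ c z := fun h => hyz (c.injective h)
  obtain ⟨i, hi⟩ := Function.ne_iff.1 hne
  obtain ⟨w, -, hw⟩ : ∃ w ∈ (Finset.univ : Finset (Fin m)), w ∉ ({c y i, c z i} : Finset (Fin m)) := by
    apply Finset.exists_mem_notMem_of_card_lt_card
    calc ({c y i, c z i} : Finset (Fin m)).card ≤ 2 := Finset.card_le_two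
      _ < m := by omega
      _ = (Finset.univ : Finset (Fin m)).card := by simp
  simp only [Finset.mem_insert, Finset.mem_singleton, not_or] at hw
  obtain ⟨hw1, hw2⟩ := hw
  set τ : ι → Equiv.Perm (Fin m) := Function.update (fun _ => 1) i (Equiv.swap (c z i) w) with hτ
  set g : isoGroup c := ⟨lift c (cw τ), lift_mem c _ (hd_cw _)⟩ with hg
  have hgy : g • y = y := by
    rw [hg, smul_mk, lift_apply, Equiv.symm_apply_eq]
    funext k
    rw [cw_apply]
    by_cases hk : k = i
    · subst hk
      simp only [hτ, Function.update_self]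
      exact Equiv.swap_apply_of_ne_of_ne hi (Ne.symm hw1)
    · simp [hτ, Function.update_of_ne hk]
  have hgz : g • z = upd c z i w := by
    rw [hg, smul_mk, lift_apply, upd]
    congr 1
    funext k
    rw [cw_apply]
    by_cases hk : k = i
    · subst hk
      simp [hτ]
    · simp [hτ, Function.update_of_ne hk]
  have hgB : g • B = B := (isBlock_iff_smul_eq_of_mem.1 hB) hy (by rw [hgy]; exact hy)
  refine ⟨z, hz, i, w, hw2, ?_⟩
  rw [← hgz, ← hgB]
  exact Set.smul_mem_smul_set hz

theorem lemmaC (B : Set Y) (hB : IsBlock (isoGroup c) B) (z₀ : Y) (hz₀ : z₀ ∈ B) (i : ι)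
    (a : Fin m) (ha : a ≠ c z₀ i) (hupd : upd c z₀ i a ∈ B) :
    ∀ u ∈ B, ∀ j b, upd c u j b ∈ B := by
  intro u hu j b
  by_cases hb : b = c u j
  · have : upd c u j b = u := by
      rw [upd, hb, Function.update_eq_self, Equiv.symm_apply_apply]
    rw [this]; exact hu
  · obtain ⟨g', hg'iso, hg'1, hg'2⟩ := lemmaA (c z₀) i a (c u) j b ha hb
    set g : isoGroup c := ⟨lift c g', lift_mem c _ hg'iso⟩ with hg
    have h1 : g • z₀ = u := by
      rw [hg, smul_mk, lift_apply, hg'1, Equiv.symm_apply_apply]
    have h2 : g • (upd c z₀ i a) = upd c u j b := by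
      rw [hg, smul_mk, lift_apply, c_upd, hg'2, upd]
    have hgB : g • B = B := (isBlock_iff_smul_eq_of_mem.1 hB) hz₀ (by rw [h1]; exact hu)
    rw [← h2, ← hgB]
    exact Set.smul_mem_smul_set hupd

theorem lemmaD (B : Set Y) (h : ∀ u ∈ B, ∀ j b, upd c u j b ∈ B) (u₀ : Y) (hu₀ : u₀ ∈ B) :
    B = Set.univ := by
  rw [Set.eq_univ_iff_forall]
  intro y
  have key : ∀ s : Finset ι, c.symm (fun k => if k ∈ s then c y k else c u₀ k) ∈ B := by
    intro s
    induction s using Finset.induction_on with
    | empty => simpa using hu₀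
    | insert k s hk ih =>
      have := h _ ih k (c y k)
      convert this using 1
      rw [upd]
      congr 1
      funext l
      by_cases hl : l = k
      · subst hl
        simp
      · simp [hl, Function.update_of_ne hl]
  have := key Finset.univ
  simpa using this

theorem isoGroup_preprimitive (hm : 3 ≤ m) [Nonempty Y] : IsPreprimitive (isoGroup c) Y := by
  have := isoGroup_pretransitive c
  obtain ⟨a⟩ := ‹Nonempty Y›
  apply IsPreprimitive.of_isTrivialBlock_base a
  intro B haB hB
  by_cases hs : B.Subsingleton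
  · exact Or.inl hs
  · right
    rw [Set.not_subsingleton_iff] at hs
    obtain ⟨y, hy, z, hz, hyz⟩ := hs
    obtain ⟨z₀, hz₀, i, a', ha', hupd⟩ := lemmaB c hm B hB y z hy hz hyz
    exact lemmaD c B (lemmaC c B hB z₀ hz₀ i a' ha' hupd) a haB

omit [DecidableEq ι] in
theorem hd_update_one (w : ι → Fin m) (i : ι) (a : Fin m) (ha : a ≠ w i) [DecidableEq ι] :
    hammingDist w (Function.update w i a) = 1 := by
  unfold hammingDist
  rw [Finset.card_eq_one]
  refine ⟨i, ?_⟩
  ext k
  simp only [Finset.mem_filter, Finset.mem_univ, true_and, Finset.mem_singleton]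
  by_cases hk : k = i
  · subst hk
    simp [ha.symm]
  · simp [hk, Function.update_of_ne hk]

omit [DecidableEq ι] in
theorem hd_update_two (w : ι → Fin m) (i j : ι) (hij : i ≠ j) (a b : Fin m) (ha : a ≠ w i)
    (hb : b ≠ w j) [DecidableEq ι] :
    hammingDist w (Function.update (Function.update w i a) j b) = 2 := by
  unfold hammingDist
  rw [Finset.card_eq_two]
  refine ⟨i, j, hij, ?_⟩
  ext k
  simp only [Finset.mem_filter, Finset.mem_univ, true_and, Finset.mem_insert,
    Finset.mem_singleton]
  by_cases hkj : k = j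
  · subst hkj
    simp [hb.symm]
  · by_cases hki : k = i
    · subst hki
      simp [Function.update_of_ne hkj, ha.symm]
    · simp [Function.update_of_ne hkj, Function.update_of_ne hki, hkj, hki]

theorem isoGroup_not_two (hm : 2 ≤ m) (i j : ι) (hij : i ≠ j) :
    ¬ IsMultiplyPretransitive (isoGroup c) Y 2 := by
  intro h
  rw [is_two_pretransitive_iff] at h
  set a0 : Fin m := ⟨0, by omega⟩ with ha0
  set a1 : Fin m := ⟨1, by omega⟩ with ha1
  have h01 : a1 ≠ a0 := by
    intro h
    have := congrArg Fin.val h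
    simp [ha0, ha1] at this
  set w0 : ι → Fin m := fun _ => a0 with hw0
  set y : Y := c.symm w0 with hy
  set z : Y := c.symm (Function.update w0 i a1) with hz
  set z' : Y := c.symm (Function.update (Function.update w0 i a1) j a1) with hz'
  have d1 : hammingDist (c y) (c z) = 1 := by
    rw [hy, hz, Equiv.apply_symm_apply, Equiv.apply_symm_apply]
    exact hd_update_one w0 i a1 h01
  have d2 : hammingDist (c y) (c z') = 2 := by
    rw [hy, hz', Equiv.apply_symm_apply, Equiv.apply_symm_apply]
    exact hd_update_two w0 i j hij a1 a1 h01 h01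
  have hyz : y ≠ z := by
    intro h
    rw [h, hammingDist_self] at d1
    omega
  have hyz' : y ≠ z' := by
    intro h
    rw [h, hammingDist_self] at d2
    omega
  obtain ⟨g, hg1, hg2⟩ := h hyz hyz'
  have := g.2 y z
  have e1 : (g : Equiv.Perm Y) y = y := hg1
  have e2 : (g : Equiv.Perm Y) z = z' := hg2
  rw [e1, e2, d1, d2] at this
  omega

section Regular

variable (F : ι → Type*) [∀ i, Group (F i)] (β : ∀ i, F i ≃ Fin m)

/-- the action of the product group on `Y` -/
def actHom : (∀ i, F i) →* Equiv.Perm Y :=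
  MonoidHom.mk' (fun x => lift c (cw (fun i => (β i).symm.trans ((Equiv.mulLeft (x i)).trans (β i)))))
    (by
      intro x x'
      ext y
      simp only [lift_apply, Equiv.Perm.mul_apply, Equiv.apply_symm_apply]
      congr 1
      funext k
      simp [cw_apply, mul_assoc])

omit [Fintype ι] [DecidableEq ι] in
theorem c_actHom (x : ∀ i, F i) (y : Y) (k : ι) :
    c (actHom c F β x y) k = β k (x k * (β k).symm (c y k)) := by
  simp [actHom, lift_apply, cw_apply]

omit [DecidableEq ι] in
theorem actHom_mem (x : ∀ i, F i) : actHom c F β x ∈ isoGroup c :=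
  lift_mem c _ (hd_cw _)

omit [Fintype ι] [DecidableEq ι] in
theorem actHom_trans (y z : Y) : ∃ x : ∀ i, F i, actHom c F β x y = z := by
  refine ⟨fun i => (β i).symm (c z i) * ((β i).symm (c y i))⁻¹, ?_⟩
  apply c.injective
  funext k
  rw [c_actHom]
  simp

omit [Fintype ι] [DecidableEq ι] in
theorem actHom_free (x : ∀ i, F i) (y : Y) (h : actHom c F β x y = y) : x = 1 := by
  funext k
  have := congrFun (congrArg c h) k
  rw [c_actHom] at this
  have h2 := (β k).injective (this.trans ((β k).apply_symm_apply _).symm)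
  simpa using h2

omit [Fintype ι] [DecidableEq ι] in
theorem actHom_injective [Nonempty Y] : Function.Injective (actHom c F β) := by
  rw [injective_iff_map_eq_one]
  intro x hx
  obtain ⟨y⟩ := ‹Nonempty Y›
  apply actHom_free c F β x y
  rw [hx]
  rfl

end Regular

end Abstract

/-- Let K be a finite group isomorphic to a direct product of r ≥ 2 groups all of the same order m ≥ 3. Then K is not a B-group: there is a primitive but not doubly transitive permutation group (on some finite set) containing a regular subgroup isomorphic to K. -/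
theorem result {K : Type*} [Group K] [Finite K] {ι : Type*} [Fintype ι] (F : ι → Type*) [∀ i, Group (F i)]
    (hr : 2 ≤ Fintype.card ι) (m : ℕ) (hm : 3 ≤ m) (hcard : ∀ i, Nat.card (F i) = m) (e : K ≃* (∀ i, F i)) :
    ∃ (n : ℕ) (G R : Subgroup (Equiv.Perm (Fin n))), R ≤ G ∧ Nonempty (↥R ≃* K) ∧
      MulAction.IsPretransitive ↥R (Fin n) ∧ (∀ a : Fin n, MulAction.stabilizer ↥R a = ⊥) ∧
      MulAction.IsPreprimitive ↥G (Fin n) ∧ ¬ MulAction.IsMultiplyPretransitive ↥G (Fin n) 2 := by
  classical
  have hfin : ∀ i, Finite (F i) := fun i =>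
    Nat.finite_of_card_ne_zero (by rw [hcard i]; omega)
  let β : ∀ i, F i ≃ Fin m := fun i => Finite.equivFinOfCardEq (hcard i)
  let n := Fintype.card (ι → Fin m)
  let c : Fin n ≃ (ι → Fin m) := (Fintype.equivFin (ι → Fin m)).symm
  have hne : Nonempty (Fin n) := ⟨c.symm (fun _ => ⟨0, by omega⟩)⟩
  obtain ⟨i, j, hij⟩ := Fintype.one_lt_card_iff.1 (by omega : 1 < Fintype.card ι)
  let ρ : K →* Equiv.Perm (Fin n) := (actHom c F β).comp e.toMonoidHom
  have hρinj : Function.Injective ρ := (actHom_injective c F β).comp e.injective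
  refine ⟨n, isoGroup c, ρ.range, ?_, ⟨(MonoidHom.ofInjective hρinj).symm⟩, ?_, ?_,
    isoGroup_preprimitive c hm, isoGroup_not_two c (by omega) i j hij⟩
  · rintro _ ⟨k, rfl⟩
    exact actHom_mem c F β (e k)
  · constructor
    intro y z
    obtain ⟨x, hx⟩ := actHom_trans c F β y z
    refine ⟨⟨ρ (e.symm x), ⟨_, rfl⟩⟩, ?_⟩
    show ρ (e.symm x) y = z
    simp only [ρ, MonoidHom.comp_apply, MulEquiv.coe_toMonoidHom, MulEquiv.apply_symm_apply]
    exact hx
  · intro a
    rw [Subgroup.eq_bot_iff_forall]
    rintro ⟨σ, k, rfl⟩ h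
    have h' : actHom c F β (e k) a = a := h
    have hk := actHom_free c F β (e k) a h'
    have hk1 : k = 1 := by
      apply e.injective
      rw [hk, map_one]
    apply Subtype.ext
    simp [hk1]

end Cfsg.Agent.S3560
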