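import Cfsg.Statements.S3573

set_option autoImplicit false
open Cfsg

namespace Cfsg.Agent.S3573

open Equiv Equiv.Perm

section General

variable {α : Type*} [Fintype α] [DecidableEq α]

theorem exists_invariant (σ : Perm α) (r : ℕ) (hr : r.Prime) (hσ : orderOf σ = r) (k : ℕ)
    (hk : k ≤ Fintype.card α) (hmod : k % r ≤ Fintype.card α % r) :
    ∃ s : Finset α, s.card = k ∧ s.image σ = s := by
  obtain ⟨c', hct⟩ := cycleType_prime_order (σ := σ) (by rw [hσ]; exact hr)
  rw [hσ] at hct
  set c := c' + 1 with hc
  have hrpos : 0 < r := hr.pos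
  have hsupp : σ.support.card = c * r := by
    rw [← sum_cycleType, hct, Multiset.sum_replicate, smul_eq_mul]
  have hcf : σ.cycleFactorsFinset.card = c := by
    have := congrArg Multiset.card hct
    rw [cycleType_def, Multiset.card_map, Multiset.card_replicate] at this
    exact this
  have hcyc : ∀ τ ∈ σ.cycleFactorsFinset, τ.support.card = r := by
    intro τ hτ
    have : τ.support.card ∈ σ.cycleType := by
      rw [cycleType_def]
      exact Multiset.mem_map_of_mem (Finset.card ∘ support) hτ
    rw [hct] at this
    exact Multiset.eq_of_mem_replicate this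
  set j := min c (k / r) with hj
  have hjc : j ≤ c := min_le_left _ _
  have hjk : j ≤ k / r := min_le_right _ _
  have hjrk : j * r ≤ k := (Nat.mul_le_mul_right r hjk).trans (Nat.div_mul_le_self k r)
  obtain ⟨T, hTsub, hTcard⟩ := Finset.exists_subset_card_eq (s := σ.cycleFactorsFinset)
    (n := j) (by rw [hcf]; exact hjc)
  set A := T.biUnion support with hA
  have hAcard : A.card = j * r := by
    rw [hA, Finset.card_biUnion]
    · rw [Finset.sum_congr rfl (fun τ hτ => hcyc τ (hTsub hτ))]
      simp [hTcard]
    · intro τ hτ τ' hτ' hne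
      exact (cycleFactorsFinset_pairwise_disjoint σ (hTsub hτ) (hTsub hτ') hne).disjoint_support
  have hAsub : A ⊆ σ.support := by
    intro x hx
    rw [hA, Finset.mem_biUnion] at hx
    obtain ⟨τ, hτ, hxτ⟩ := hx
    exact mem_cycleFactorsFinset_support_le (hTsub hτ) hxτ
  have hfix : (σ.support)ᶜ.card = Fintype.card α - c * r := by
    rw [Finset.card_compl, hsupp]
  have hcr : c * r ≤ Fintype.card α := by
    rw [← hsupp]; exact Finset.card_le_univ _
  have hrest : k - j * r ≤ (σ.support)ᶜ.card := by
    rw [hfix]
    rcases le_total c (k / r) with h | h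
    · have : j = c := min_eq_left h
      rw [this]
      omega
    · have hjeq : j = k / r := min_eq_right h
      rw [hjeq]
      have h1 : k - k / r * r = k % r := by
        have := Nat.div_add_mod k r
        rw [mul_comm] at this
        omega
      rw [h1]
      have h2 : (Fintype.card α - c * r) % r = Fintype.card α % r := by
        have : Fintype.card α = (Fintype.card α - c * r) + c * r := by omega
        conv_rhs => rw [this, Nat.add_mul_mod_self_right]
      calc k % r ≤ Fintype.card α % r := hmod
        _ = (Fintype.card α - c * r) % r := h2.symm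
        _ ≤ Fintype.card α - c * r := Nat.mod_le _ _
  obtain ⟨B, hBsub, hBcard⟩ := Finset.exists_subset_card_eq hrest
  have hdisj : Disjoint A B := by
    rw [Finset.disjoint_left]
    intro x hxA hxB
    have h1 := hAsub hxA
    have h2 := hBsub hxB
    rw [Finset.mem_compl] at h2
    exact h2 h1
  refine ⟨A ∪ B, ?_, ?_⟩
  · rw [Finset.card_union_of_disjoint hdisj, hAcard, hBcard]
    omega
  · apply Finset.eq_of_subset_of_card_le
    · intro y hy
      rw [Finset.mem_image] at hy
      obtain ⟨x, hx, rfl⟩ := hy
      rw [Finset.mem_union] at hx ⊢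
      rcases hx with hx | hx
      · left
        rw [hA, Finset.mem_biUnion] at hx ⊢
        obtain ⟨τ, hτ, hxτ⟩ := hx
        refine ⟨τ, hτ, ?_⟩
        have h1 := (mem_cycleFactorsFinset_iff.1 (hTsub hτ)).2 x hxτ
        rw [← h1]
        exact apply_mem_support.2 hxτ
      · right
        have h2 := hBsub hx
        rw [Finset.mem_compl, notMem_support] at h2
        rw [h2]; exact hx
    · rw [Finset.card_image_of_injective _ σ.injective]

theorem invariant_card (σ : Perm α) (r : ℕ) (hr : r.Prime) (hσ : σ ^ r = 1) (s : Finset α)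
    (hs : s.image σ = s) : ∃ t, t ≤ (σ.support)ᶜ.card ∧ s.card ≡ t [MOD r] := by
  have : Fact r.Prime := ⟨hr⟩
  have h : ∀ x, σ x ∈ s ↔ x ∈ s := by
    intro x
    constructor
    · intro hx
      rw [← hs, Finset.mem_image] at hx
      obtain ⟨y, hy, hyx⟩ := hx
      rw [← σ.injective hyx]; exact hy
    · intro hx
      rw [← hs]
      exact Finset.mem_image_of_mem _ hx
  set τ : Perm {x // x ∈ s} := σ.subtypePerm h with hτ
  have hτr : τ ^ r ^ 1 = 1 := by
    rw [pow_one, hτ, subtypePerm_pow]
    ext x
    simp [hσ]
  have h1 := card_compl_support_modEq hτr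
  rw [Fintype.card_coe] at h1
  refine ⟨(τ.support)ᶜ.card, ?_, h1.symm⟩
  apply Finset.card_le_card_of_injOn (fun x => x.1)
  · intro x hx
    rw [Finset.mem_coe, Finset.mem_compl, notMem_support] at hx ⊢
    have := congrArg Subtype.val hx
    simpa [hτ] using this
  · intro x _ y _ hxy
    exact Subtype.ext hxy

end General

theorem core (n k r : ℕ) (hr : r.Prime) (hkn : k ≤ n) :
    (∀ σ : Equiv.Perm (Fin n), orderOf σ = r → ∃ s : Finset (Fin n), s.card = k ∧ s.image σ = s) ↔
      k % r ≤ n % r := by
  have : Fact r.Prime := ⟨hr⟩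
  constructor
  · intro h
    by_contra hlt
    rw [not_le] at hlt
    have hrn : r ≤ n := by
      by_contra hnr
      rw [not_le] at hnr
      rw [Nat.mod_eq_of_lt hnr, Nat.mod_eq_of_lt (lt_of_le_of_lt hkn hnr)] at hlt
      omega
    have hdiv : 1 ≤ n / r := Nat.div_pos hrn hr.pos
    obtain ⟨σ, hσ⟩ := (exists_with_cycleType_iff (Fin n) (m := Multiset.replicate (n / r) r)).2
      ⟨by
        rw [Multiset.sum_replicate, smul_eq_mul, Fintype.card_fin]
        exact Nat.div_mul_le_self n r,
       by
        intro a ha
        rw [Multiset.eq_of_mem_replicate ha]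
        exact hr.two_le⟩
    have hσr : σ ^ r = 1 := by
      rw [pow_prime_eq_one_iff, hσ]
      intro c hc
      exact Multiset.eq_of_mem_replicate hc
    have hσ1 : σ ≠ 1 := by
      intro h1
      rw [h1, cycleType_one] at hσ
      have := congrArg Multiset.card hσ
      rw [Multiset.card_replicate, Multiset.card_zero] at this
      omega
    have hord : orderOf σ = r := orderOf_eq_prime hσr hσ1
    obtain ⟨s, hsk, hsσ⟩ := h σ hord
    obtain ⟨t, ht, hmod⟩ := invariant_card σ r hr hσr s hsσ
    have hfix : (σ.support)ᶜ.card = n % r := by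
      rw [Finset.card_compl, ← sum_cycleType, hσ, Multiset.sum_replicate, smul_eq_mul,
        Fintype.card_fin]
      have := Nat.div_add_mod n r
      rw [mul_comm] at this
      omega
    rw [hfix] at ht
    rw [hsk] at hmod
    have htr : t < r := lt_of_le_of_lt ht (Nat.mod_lt _ hr.pos)
    have : k % r = t := by
      have := hmod
      unfold Nat.ModEq at this
      rw [Nat.mod_eq_of_lt htr] at this
      exact this
    omega
  · intro h σ hσ
    exact exists_invariant σ r hr hσ k (by rw [Fintype.card_fin]; exact hkn)
      (by rw [Fintype.card_fin]; exact h)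

theorem le_of_mod_le (n k r : ℕ) (hr : r.Prime) (hk : 1 ≤ k) (hrd : r ∣ Nat.choose n k)
    (h : k % r ≤ n % r) : r ≤ k := by
  have : Fact r.Prime := ⟨hr⟩
  by_contra hlt
  rw [not_le] at hlt
  have hluc := Choose.choose_modEq_choose_mod_mul_choose_div_nat (n := n) (k := k) (p := r)
  rw [Nat.mod_eq_of_lt hlt, Nat.div_eq_of_lt hlt, Nat.choose_zero_right, mul_one] at hluc
  rw [Nat.mod_eq_of_lt hlt] at h
  have h0 : Nat.choose n k ≡ 0 [MOD r] := (Nat.modEq_zero_iff_dvd).2 hrd
  have h1 : Nat.choose (n % r) k ≡ 0 [MOD r] := hluc.symm.trans h0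
  have h2 : r ∣ Nat.choose (n % r) k := (Nat.modEq_zero_iff_dvd).1 h1
  have h3 : Nat.choose (n % r) k ∣ (n % r).factorial := by
    have := Nat.choose_mul_factorial_mul_factorial h
    exact ⟨k.factorial * (n % r - k).factorial, by rw [← this, mul_assoc]⟩
  have h4 : r ∣ (n % r).factorial := h2.trans h3
  rw [hr.dvd_factorial] at h4
  have := Nat.mod_lt n hr.pos
  omega

/-- Let 1 ≤ k with 2k < n and consider the symmetric group of degree n acting on the k-subsets of an n-set. Let r be a prime dividing the number C(n,k) of k-subsets. If r is odd, then every permutation of order r fixes some k-subset if and only if r ≤ k and the remainder of k modulo r is at most the remainder of n modulo r. If r = 2, then every involution fixes some k-subset if and only if k is even or n is odd. -/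
theorem result (n k : ℕ) (hk : 1 ≤ k) (hkn : 2 * k < n) (r : ℕ) (hr : r.Prime) (hrd : r ∣ Nat.choose n k) :
    (r ≠ 2 → ((∀ σ : Equiv.Perm (Fin n), orderOf σ = r → ∃ s : Finset (Fin n), s.card = k ∧ s.image σ = s) ↔
      (r ≤ k ∧ k % r ≤ n % r))) ∧
    (r = 2 → ((∀ σ : Equiv.Perm (Fin n), orderOf σ = 2 → ∃ s : Finset (Fin n), s.card = k ∧ s.image σ = s) ↔
      (Even k ∨ Odd n))) := by
  have hkn' : k ≤ n := by omega
  constructor
  · intro _
    rw [core n k r hr hkn']
    constructor
    · intro h
      exact ⟨le_of_mod_le n k r hr hk hrd h, h⟩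
    · intro h
      exact h.2
  · intro h2
    rw [core n k 2 Nat.prime_two hkn']
    rw [Nat.even_iff, Nat.odd_iff]
    omega

end Cfsg.Agent.S3573
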