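import Cfsg.Statements.S3575
import Cfsg.Agent.Lib.Helper59.UniformPart

set_option autoImplicit false
open Cfsg

namespace Cfsg.Agent.S3575

open Equiv Equiv.Perm Cfsg.Agent.Lib.Helper59.UP

def Good (r a b f : ℕ) : Prop :=
  ∃ b₀, b₀ ≤ b ∧ b₀ % r = b % r ∧ b₀ * (a % r) ≤ f ∧ f ≤ b₀ * a

theorem cover (r a k : ℕ) (hr : 0 < r) (b : ℕ)
    (hgap : r ≤ b → (k + r) * (a % r) ≤ k * a + r) :
    ∀ j, k + j * r ≤ b → ∀ f, f % r = (k * (a % r)) % r → k * (a % r) ≤ f →
      f ≤ (k + j * r) * a →
      ∃ i, i ≤ j ∧ (k + i * r) * (a % r) ≤ f ∧ f ≤ (k + i * r) * a := by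
  intro j
  induction j with
  | zero =>
    intro _ f _ h1 h2
    exact ⟨0, le_refl _, by simpa using h1, by simpa using h2⟩
  | succ j ih =>
    intro hjb f hfm h1 h2
    by_cases hle : f ≤ (k + j * r) * a
    · have hjb' : k + j * r ≤ b := by
        have : (j + 1) * r = j * r + r := by ring
        omega
      obtain ⟨i, hi, h3, h4⟩ := ih hjb' f hfm h1 hle
      exact ⟨i, Nat.le_succ_of_le hi, h3, h4⟩
    · rw [not_le] at hle
      refine ⟨j + 1, le_refl _, ?_, h2⟩
      have hrb : r ≤ b := by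
        have : (j + 1) * r = j * r + r := by ring
        omega
      have hg := hgap hrb
      -- f ≡ (k + j r) a mod r
      have hmod : ((k + j * r) * a) % r = f % r := by
        rw [hfm]
        have e1 : (k + j * r) * a = k * a + r * (j * a) := by ring
        rw [e1, Nat.add_mul_mod_self_left, Nat.mul_mod, Nat.mul_mod k (a % r), Nat.mod_mod]
      have hdvd : r ∣ f - (k + j * r) * a := (Nat.modEq_iff_dvd' hle.le).1 hmod
      have hpos : 0 < f - (k + j * r) * a := Nat.sub_pos_of_lt hle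
      have hge : r ≤ f - (k + j * r) * a := Nat.le_of_dvd hpos hdvd
      have hla : a % r ≤ a := Nat.mod_le _ _
      have e2 : (k + (j + 1) * r) * (a % r) = (k + r) * (a % r) + j * r * (a % r) := by ring
      have e3 : (k + j * r) * a = k * a + j * r * a := by ring
      have h5 : j * r * (a % r) ≤ j * r * a := Nat.mul_le_mul_left _ hla
      rw [e2]
      omega

theorem good_of_cond (r a b : ℕ) (hr : 0 < r) (h1 : (b % r) * (a % r) < r)
    (h2 : b < r ∨ (b % r + r) * (a % r) ≤ (b % r) * a + r) (c : ℕ) (hc : c * r ≤ a * b) :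
    Good r a b (a * b - c * r) := by
  set k := b % r with hk
  have hgap : r ≤ b → (k + r) * (a % r) ≤ k * a + r := by
    intro hrb
    rcases h2 with h | h
    · omega
    · exact h
  have hb : k + (b / r) * r = b := by
    rw [hk, mul_comm]; exact Nat.mod_add_div b r
  have hfm : (a * b - c * r) % r = (k * (a % r)) % r := by
    rw [mul_comm c r, Nat.sub_mul_mod (by rw [mul_comm r c]; exact hc), Nat.mul_mod, mul_comm]
  have hf1 : k * (a % r) ≤ a * b - c * r := by
    calc k * (a % r) = (k * (a % r)) % r := (Nat.mod_eq_of_lt h1).symm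
      _ = (a * b - c * r) % r := hfm.symm
      _ ≤ a * b - c * r := Nat.mod_le _ _
  have hf2 : a * b - c * r ≤ (k + (b / r) * r) * a := by
    rw [hb, mul_comm b a]; exact Nat.sub_le _ _
  obtain ⟨i, hi, h3, h4⟩ := cover r a k hr b hgap (b / r) (le_of_eq hb) _ hfm hf1 hf2
  refine ⟨k + i * r, ?_, ?_, h3, h4⟩
  · have : i * r ≤ (b / r) * r := Nat.mul_le_mul_right r hi
    omega
  · rw [Nat.add_mul_mod_self_right, hk, Nat.mod_mod]

theorem cond_of_good (r a b : ℕ) (hr : r.Prime) (ha : 2 ≤ a) (hb : 2 ≤ b) (hrab : r ≤ a * b)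
    (h : ∀ c, 1 ≤ c → c * r ≤ a * b → Good r a b (a * b - c * r)) :
    r ≤ a ∧ (b % r) * (a % r) < r ∧ (b < r ∨ (b % r + r) * (a % r) ≤ (b % r) * a + r) := by
  have hrpos : 0 < r := hr.pos
  refine ⟨?_, ?_, ?_⟩
  · -- r ≤ a
    obtain ⟨b₀, hb₀, hmod, h1, h2⟩ := h 1 (le_refl _) (by simpa using hrab)
    rw [one_mul] at h1 h2
    by_contra hlt
    rw [not_le] at hlt
    rw [Nat.mod_eq_of_lt hlt] at h1
    rcases Nat.eq_or_lt_of_le hb₀ with heq | hlt2
    · subst heq
      have : b₀ * a = a * b₀ := mul_comm _ _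
      omega
    · have hdvd : r ∣ b - b₀ := (Nat.modEq_iff_dvd' hb₀).1 hmod
      have hge : r ≤ b - b₀ := Nat.le_of_dvd (Nat.sub_pos_of_lt hlt2) hdvd
      have h3 : (b₀ + r) * a ≤ b * a := Nat.mul_le_mul_right a (by omega)
      have e1 : (b₀ + r) * a = b₀ * a + r * a := by ring
      have e2 : b * a = a * b := mul_comm _ _
      have h4 : r * 2 ≤ r * a := Nat.mul_le_mul_left r ha
      omega
  · -- k ℓ < r
    have hc1 : 1 ≤ a * b / r := Nat.div_pos hrab hrpos
    obtain ⟨b₀, hb₀, hmod, h1, h2⟩ := h (a * b / r) hc1 (Nat.div_mul_le_self _ _)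
    have e1 : a * b - a * b / r * r = (a * b) % r := by
      have := Nat.div_add_mod (a * b) r
      rw [mul_comm r] at this
      omega
    rw [e1] at h1
    have h3 : (a * b) % r < r := Nat.mod_lt _ hrpos
    have h4 : b % r ≤ b₀ := by rw [← hmod]; exact Nat.mod_le _ _
    have h5 : (b % r) * (a % r) ≤ b₀ * (a % r) := Nat.mul_le_mul_right _ h4
    omega
  · by_contra hcon
    rw [not_or, not_lt, not_le] at hcon
    obtain ⟨hrb, hgap⟩ := hcon
    set k := b % r with hk
    set B := b / r with hB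
    have hbB : k + r * B = b := Nat.mod_add_div b r
    have hB1 : 1 ≤ B := Nat.div_pos hrb hrpos
    have hBa : 2 ≤ B * a := by
      calc 2 ≤ a := ha
        _ = 1 * a := (one_mul a).symm
        _ ≤ B * a := Nat.mul_le_mul_right a hB1
    have e0 : a * b = a * k + (B * a) * r := by
      rw [← hbB]; ring
    have e1 : (B * a - 1) * r = (B * a) * r - r := by
      rw [Nat.sub_mul, one_mul]
    have hBar : r * 2 ≤ (B * a) * r := by
      rw [mul_comm (B * a) r]; exact Nat.mul_le_mul_left r hBa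
    obtain ⟨b₀, hb₀, hmod, h1, h2⟩ := h (B * a - 1) (by omega) (by rw [e1, e0]; omega)
    have e2 : a * b - (B * a - 1) * r = k * a + r := by
      rw [e1, e0, mul_comm a k]; omega
    rw [e2] at h1 h2
    have hb₀' : k + r * (b₀ / r) = b₀ := by
      rw [hk, ← hmod]; exact Nat.mod_add_div b₀ r
    rcases Nat.eq_zero_or_pos (b₀ / r) with hz | hp
    · rw [hz, mul_zero, add_zero] at hb₀'
      rw [← hb₀'] at h2
      omega
    · have h3 : k + r ≤ b₀ := by
        have : r * 1 ≤ r * (b₀ / r) := Nat.mul_le_mul_left r hp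
        omega
      have h4 : (k + r) * (a % r) ≤ b₀ * (a % r) := Nat.mul_le_mul_right _ h3
      omega

theorem closed_iff (r a b : ℕ) (hr : r.Prime) (hb : 2 ≤ b) :
    (r ≤ a ∧ (a % r = 0 ∨ (b % r = 0 ∧ a % r = 1) ∨
        (a % r ≠ 0 ∧ b % r ≠ 0 ∧ (b % r) * (a % r) < r ∧
          (b < r ∨ (b % r + r) * (a % r) ≤ (b % r) * a + r)))) ↔
    (r ≤ a ∧ (b % r) * (a % r) < r ∧ (b < r ∨ (b % r + r) * (a % r) ≤ (b % r) * a + r)) := by
  have hrpos : 0 < r := hr.pos
  constructor
  · rintro ⟨h1, h2⟩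
    refine ⟨h1, ?_⟩
    rcases h2 with h | ⟨hk, hl⟩ | ⟨_, _, h3, h4⟩
    · rw [h]
      simp [hrpos]
    · rw [hk, hl]
      simp [hrpos]
    · exact ⟨h3, h4⟩
  · rintro ⟨h1, h2, h3⟩
    refine ⟨h1, ?_⟩
    by_cases hl : a % r = 0
    · left; exact hl
    · right
      by_cases hk : b % r = 0
      · left
        refine ⟨hk, ?_⟩
        have hrb : r ≤ b := Nat.le_of_dvd (by omega) (Nat.dvd_of_mod_eq_zero hk)
        rcases h3 with h | h
        · omega
        · rw [hk, zero_add, zero_mul, zero_add] at h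
          have : r * (a % r) ≤ r * 1 := by rw [mul_one]; exact h
          have := Nat.le_of_mul_le_mul_left this hrpos
          omega
      · right
        exact ⟨hl, hk, h2, h3⟩

theorem exists_perm (n r c : ℕ) (hr : r.Prime) (hc : 1 ≤ c) (hcr : c * r ≤ n) :
    ∃ σ : Perm (Fin n), orderOf σ = r ∧ σ ^ r = 1 ∧ nfix σ = n - c * r := by
  have : Fact r.Prime := ⟨hr⟩
  obtain ⟨σ, hσ⟩ := (exists_with_cycleType_iff (Fin n) (m := Multiset.replicate c r)).2
    ⟨by
      rw [Multiset.sum_replicate, smul_eq_mul, Fintype.card_fin]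
      exact hcr,
     by
      intro a ha
      rw [Multiset.eq_of_mem_replicate ha]
      exact hr.two_le⟩
  have hσr : σ ^ r = 1 := by
    rw [pow_prime_eq_one_iff, hσ]
    intro c hc
    exact Multiset.eq_of_mem_replicate hc
  have hσ1 : σ ≠ 1 := by
    intro h1
    rw [h1, cycleType_one] at hσ
    have := congrArg Multiset.card hσ
    rw [Multiset.card_replicate, Multiset.card_zero] at this
    omega
  refine ⟨σ, orderOf_eq_prime hσr hσ1, hσr, ?_⟩
  have h1 := nfix_add_card_support σ
  rw [← sum_cycleType, hσ, Multiset.sum_replicate, smul_eq_mul, Fintype.card_fin] at h1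
  omega

/-- Let a, b ≥ 2 and consider the symmetric group of degree a·b acting on the partitions of an (a·b)-set into b parts of size a (encoded as maps onto a b-element set all of whose fibres have a elements; a permutation fixes such a partition when it permutes the fibres). Let r be a prime dividing the number (ab)!/((a!)^b·b!) of such partitions, and let ℓ and k be the remainders of a and b modulo r. Then every permutation of order r fixes some such partition if and only if r ≤ a and one of the following holds: ℓ = 0; or k = 0 and ℓ = 1; or ℓ and k are non-zero, k·ℓ < r, and either b < r or (k + r)·ℓ ≤ k·a + r. -/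
theorem result (a b : ℕ) (ha : 2 ≤ a) (hb : 2 ≤ b) (r : ℕ) (hr : r.Prime)
    (hrd : r ∣ (a * b).factorial / (a.factorial ^ b * b.factorial)) :
    (∀ σ : Equiv.Perm (Fin (a * b)), orderOf σ = r →
        ∃ f : Fin (a * b) → Fin b, (∀ j : Fin b, Nat.card {x : Fin (a * b) // f x = j} = a) ∧
          ∃ π : Equiv.Perm (Fin b), ∀ x : Fin (a * b), f (σ x) = π (f x)) ↔
      (r ≤ a ∧ (a % r = 0 ∨ (b % r = 0 ∧ a % r = 1) ∨
        (a % r ≠ 0 ∧ b % r ≠ 0 ∧ (b % r) * (a % r) < r ∧ (b < r ∨ (b % r + r) * (a % r) ≤ (b % r) * a + r)))) := by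
  have hrab : r ≤ a * b := by
    have hdvd : a.factorial ^ b * b.factorial ∣ (a * b).factorial := by
      have := Nat.uniformBell_mul_eq b (n := a) (by omega)
      rw [mul_comm b a] at this
      rw [← this, mul_assoc]
      exact Dvd.intro_left _ rfl
    have h2 : r ∣ (a * b).factorial := hrd.trans (Nat.div_dvd_of_dvd hdvd)
    exact (hr.dvd_factorial).1 h2
  rw [closed_iff r a b hr hb]
  constructor
  · intro h
    apply cond_of_good r a b hr ha hb hrab
    intro c hc hcr
    obtain ⟨σ, hord, hσr, hnf⟩ := exists_perm (a * b) r c hr hc hcr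
    have hfix : Fixes σ a (Fin b) := h σ hord
    obtain ⟨b₀, h1, h2, h3, h4⟩ := necessity hr (by omega) σ hσr hfix
    rw [Fintype.card_fin] at h1 h2
    rw [hnf] at h3 h4
    exact ⟨b₀, h1, h2, h3, h4⟩
  · rintro ⟨h1, h2, h3⟩ σ hord
    have hσr : σ ^ r = 1 := by rw [← hord]; exact pow_orderOf_eq_one σ
    have hσ1 : σ ≠ 1 := by
      intro h
      rw [h, orderOf_one] at hord
      exact hr.one_lt.ne hord
    have hct := cycleType_eq_replicate_of_pow_prime hr hσr
    set c := (Fintype.card (Fin (a * b)) - nfix σ) / r with hc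
    have hc1 : 1 ≤ c := by
      rcases Nat.eq_zero_or_pos c with hz | hp
      · rw [hz, Multiset.replicate_zero, cycleType_eq_zero] at hct
        exact absurd hct hσ1
      · exact hp
    have hsupp := nfix_add_card_support σ
    rw [← sum_cycleType, hct, Multiset.sum_replicate, smul_eq_mul, Fintype.card_fin] at hsupp
    have hcr : c * r ≤ a * b := by omega
    have hnf : nfix σ = a * b - c * r := by omega
    obtain ⟨b₀, g1, g2, g3, g4⟩ := good_of_cond r a b hr.pos h2 h3 c hcr
    have hQ : Q r a b (a * b - c * r) := Q_of_good hr b₀ g1 g2 g3 g4 (by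
      rw [mul_comm c r, Nat.sub_mul_mod (by rw [mul_comm r c]; exact hcr)])
    exact fixes_of_Q hr hQ σ hσr hnf

end Cfsg.Agent.S3575
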