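import Cfsg.Statements.S3589
import Cfsg.Agent.Lib.Helper94.Iso8Main
import Cfsg.Agent.Lib.Helper94.Iso8U
import Cfsg.Agent.Lib.Helper94.Iso8E
import Cfsg.Agent.Lib.Helper39.TwoRkG
import Cfsg.Agent.Lib.Helper5.SympCenter

set_option autoImplicit false
open Cfsg

namespace Cfsg.Agent.S3589

/-- Let F be a finite field of characteristic 2 and let a, b ∈ F make the binary form z₁² + a z₁z₂ + b z₂² anisotropic. Then the symplectic group PSp(8,F) (= Sp(8,F)) and the full isometry group of the non-singular quadratic form x₁y₁ + x₂y₂ + x₃y₃ + (z₁² + a z₁z₂ + b z₂²) of minus type in dimension 8 have the same set of element orders. -/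
theorem result {F : Type*} [Field F] [Fintype F]
    [CharP F 2] (a b : F) (han : ∀ z₁ z₂ : F, z₁ ^ 2 + a * z₁ * z₂ + b * z₂ ^ 2 = 0 → z₁ = 0 ∧ z₂ = 0) :
    Set.range (orderOf : Cfsg.PSp 4 F → ℕ) = Set.range (orderOf : ↥(Cfsg.isometryGroup F (Cfsg.quadFormMinus 3 F a b)) → ℕ) := by
  classical
  have : Nonempty (Fin 4) := ⟨0⟩
  have h2 : (2 : F) = 0 := by
    have := CharP.cast_eq_zero F 2
    exact_mod_cast this
  have hneg : (-1 : Matrix (Fin 4 ⊕ Fin 4) (Fin 4 ⊕ Fin 4) F) = 1 := by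
    have : CharP (Matrix (Fin 4 ⊕ Fin 4) (Fin 4 ⊕ Fin 4) F) 2 := inferInstance
    exact CharTwo.neg_eq 1
  have ha : a ≠ 0 := by
    rintro rfl
    obtain ⟨e, he⟩ := FiniteField.isSquare_of_char_two (ringChar.eq F 2) b
    have := han e 1 (by rw [he]; linear_combination (e * e) * h2)
    exact one_ne_zero this.2
  obtain ⟨r, hq⟩ : ∃ r, Fintype.card F = r + 1 :=
    ⟨Fintype.card F - 1, by have := Fintype.card_pos (α := F); omega⟩
  -- the centre is trivial
  have hcen : ∀ g : ↥(Matrix.symplecticGroup (Fin 4) F),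
      orderOf (QuotientGroup.mk g : Cfsg.PSp 4 F) = orderOf g := by
    intro g
    rw [orderOf_eq_orderOf_iff]
    intro n
    rw [← QuotientGroup.mk_pow, QuotientGroup.eq_one_iff,
      Cfsg.Agent.Lib.Helper5.mem_center_symplecticGroup_iff, hneg, or_self]
    constructor
    · intro h
      exact Subtype.ext h
    · intro h
      rw [h]
      rfl
  -- the upper bound
  have hup : ∀ g : ↥(Matrix.symplecticGroup (Fin 4) F),
      ∃ v ∈ Cfsg.Agent.Lib.Helper94.Iso8.LstE 4, orderOf g ∣ v.val r := by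
    intro A
    set T : Module.End F (Fin 4 ⊕ Fin 4 → F) :=
      Matrix.toLin' (A : Matrix (Fin 4 ⊕ Fin 4) (Fin 4 ⊕ Fin 4) F) with hT
    have hiso : ∀ u w, Cfsg.Agent.Lib.Helper39.TwoRk.spB 4 F (T u) (T w) =
        Cfsg.Agent.Lib.Helper39.TwoRk.spB 4 F u w := by
      intro u w
      simp only [hT, Cfsg.Agent.Lib.Helper39.TwoRk.spB_apply, Matrix.toLin'_apply]
      exact Cfsg.Agent.Lib.Helper5.sympForm_mulVec_mulVec A.2 u w
    have halt : (Cfsg.Agent.Lib.Helper39.TwoRk.spB 4 F).IsAlt :=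
      (Cfsg.Agent.Lib.Helper39.TwoRk.isSymp_spB (m := 4) (F := F)).alt
    have hS : Cfsg.Agent.Lib.Helper39.SpT.SpIso (Cfsg.Agent.Lib.Helper39.TwoRk.spB 4 F) T := by
      refine ⟨halt, ?_, hiso⟩
      refine (halt.isRefl.nondegenerate_iff_separatingLeft).mpr ?_
      exact (Cfsg.Agent.Lib.Helper39.TwoRk.isSymp_spB (m := 4) (F := F)).nd
    have hfr : Module.finrank F (Fin 4 ⊕ Fin 4 → F) = 2 * 4 := by
      rw [Module.finrank_fintype_fun_eq_card, Fintype.card_sum, Fintype.card_fin]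
    obtain ⟨v, hv, hTv⟩ := Cfsg.Agent.Lib.Helper94.Iso8.spec_upper r hq 4 (by norm_num) le_rfl _
      (Cfsg.Agent.Lib.Helper39.TwoRk.spB 4 F) T hfr hS
    refine ⟨v, hv, orderOf_dvd_of_pow_eq_one ?_⟩
    apply Subtype.ext
    rw [SubmonoidClass.coe_pow]
    apply Matrix.toLin'.injective
    rw [Matrix.toLin'_pow, hTv, OneMemClass.coe_one, Matrix.toLin'_one]
    rfl
  apply Set.Subset.antisymm
  · rintro n ⟨x, rfl⟩
    obtain ⟨g, rfl⟩ := QuotientGroup.mk_surjective x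
    rw [hcen]
    obtain ⟨v, hv, hdvd⟩ := hup g
    obtain ⟨h, hh⟩ := Cfsg.Agent.Lib.Helper94.Iso8.exists_dvd_order a b han r hq v hv
    have hpos : orderOf h ≠ 0 := (orderOf_pos h).ne'
    exact ⟨h ^ (orderOf h / orderOf g), orderOf_pow_orderOf_div hpos (hdvd.trans hh)⟩
  · rintro n ⟨h, rfl⟩
    obtain ⟨g, hg⟩ := Cfsg.Agent.Lib.Helper94.Iso8.exists_symplectic h2 a b ha h
    exact ⟨QuotientGroup.mk g, by rw [hcen, hg]⟩

end Cfsg.Agent.S3589
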