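import Cfsg.Statements.S3590
import Cfsg.Agent.S3589
import Cfsg.Agent.Lib.Helper94.Iso8bFin
import Cfsg.Agent.Lib.Helper94.Iso8bDKw
import Cfsg.Agent.Lib.Helper94.Iso8bSubM
import Cfsg.Agent.Lib.Helper43.QbarFacts

set_option autoImplicit false
open Cfsg

namespace Cfsg.Agent.S3590

/-- Let F be a finite field of characteristic 2. Then PSp(8,F) is not determined by its set of element orders, not even up to finitely many groups: for every bound there is a finite group of larger order with exactly the same set of element orders as PSp(8,F). -/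
theorem result {F : Type*} [Field F] [Fintype F]
    [CharP F 2] (M : ℕ) :
    ∃ (H : Type) (_ : Group H) (_ : Fintype H), M < Fintype.card H ∧ Set.range (orderOf : H → ℕ) = Set.range (orderOf : Cfsg.PSp 4 F → ℕ) := by
  classical
  obtain ⟨a, b, han⟩ := Cfsg.Agent.Lib.Helper43.OrthGen.exists_aniso F
  have hS := Cfsg.Agent.S3589.result a b han
  have h2 : (2 : F) = 0 := by
    have := CharP.cast_eq_zero F 2
    exact_mod_cast this
  have ha : a ≠ 0 := by
    rintro rfl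
    obtain ⟨e, he⟩ := FiniteField.isSquare_of_char_two (ringChar.eq F 2) b
    have := han e 1 (by rw [he]; linear_combination (e * e) * h2)
    exact one_ne_zero this.2
  obtain ⟨r, hq⟩ : ∃ r, Fintype.card F = r + 1 :=
    ⟨Fintype.card F - 1, by have := Fintype.card_pos (α := F); omega⟩
  obtain ⟨D, hD⟩ := Cfsg.Agent.Lib.Helper94.Iso8.dickson_minus_w a b han 3
  obtain ⟨K, hK⟩ : ∃ K : Subgroup (Matrix.GeneralLinearGroup ((Fin 3 ⊕ Fin 3) ⊕ Fin 2) F),
      K = D.ker.map (Cfsg.isometryGroup F (Cfsg.quadFormMinus 3 F a b)).subtype := ⟨_, rfl⟩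
  obtain ⟨H, hG, hF, hcard, hrange⟩ :=
    Cfsg.Agent.Lib.Helper94.Iso8.exists_affine_group K (M + 1) (by omega)
  refine ⟨H, hG, hF, ?_, ?_⟩
  · calc M < M + 1 := Nat.lt_succ_self M
      _ < 2 ^ (M + 1) := Nat.lt_two_pow_self
      _ ≤ Fintype.card H := hcard
  -- elements of `K`
  have hKelt : ∀ g : ↥K, ∃ g₀ : ↥(Cfsg.isometryGroup F (Cfsg.quadFormMinus 3 F a b)), D g₀ = 1 ∧ orderOf g₀ = orderOf g ∧
      Cfsg.Agent.Lib.Helper94.Iso8.matOf g₀ =
        ((g : Matrix.GeneralLinearGroup ((Fin 3 ⊕ Fin 3) ⊕ Fin 2) F) : Matrix _ _ F) := by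
    intro g
    have hg2 : (g : Matrix.GeneralLinearGroup ((Fin 3 ⊕ Fin 3) ⊕ Fin 2) F) ∈
        D.ker.map (Cfsg.isometryGroup F (Cfsg.quadFormMinus 3 F a b)).subtype := hK ▸ g.2
    obtain ⟨g₀, hg₀, hg₀g⟩ := hg2
    refine ⟨g₀, MonoidHom.mem_ker.mp hg₀, ?_, ?_⟩
    · rw [← Subgroup.orderOf_coe g, ← Subgroup.orderOf_coe g₀]
      exact congrArg orderOf hg₀g
    · unfold Cfsg.Agent.Lib.Helper94.Iso8.matOf
      exact congrArg Units.val hg₀g
  have hmkK : ∀ g₀ : ↥(Cfsg.isometryGroup F (Cfsg.quadFormMinus 3 F a b)), D g₀ = 1 → ∃ g : ↥K, orderOf g = orderOf g₀ ∧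
      ((g : Matrix.GeneralLinearGroup ((Fin 3 ⊕ Fin 3) ⊕ Fin 2) F) : Matrix _ _ F) =
        Cfsg.Agent.Lib.Helper94.Iso8.matOf g₀ := by
    intro g₀ hg₀
    refine ⟨⟨(Cfsg.isometryGroup F (Cfsg.quadFormMinus 3 F a b)).subtype g₀,
      by rw [hK]; exact ⟨g₀, MonoidHom.mem_ker.mpr hg₀, rfl⟩⟩, ?_, rfl⟩
    rw [← Subgroup.orderOf_coe, ← Subgroup.orderOf_coe g₀]
    rfl
  rw [hS, hrange]
  apply Set.Subset.antisymm
  · rintro n ⟨g, hn | ⟨hn, hN⟩⟩
    · obtain ⟨g₀, -, hord, -⟩ := hKelt g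
      exact ⟨g₀, by rw [hord, hn]⟩
    · obtain ⟨g₀, hDg, hord, hmat⟩ := hKelt g
      have heven : Even (Cfsg.Agent.Lib.Helper94.Iso8.fixdim
          (Cfsg.Agent.Lib.Helper94.Iso8.matOf g₀)) := by
        have := hD g₀
        rw [hDg] at this
        exact (Cfsg.Agent.Lib.Helper94.Iso8.ofAdd_natCast_eq_one_iff _).1 this.symm
      obtain ⟨v, hv, hdvd⟩ := Cfsg.Agent.Lib.Helper94.Iso8.sub_spec a b han r hq g₀ heven
        (by rw [hmat, hord]; exact hN)
      obtain ⟨h, hh⟩ := Cfsg.Agent.Lib.Helper94.Iso8.exists_dvd_order a b han r hq v hv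
      rw [hn, ← hord]
      exact Cfsg.Agent.Lib.Helper94.Iso8.mem_range_orderOf_of_dvd h _ (orderOf_pos h).ne' (hdvd.trans hh)
  · rintro n ⟨h, rfl⟩
    -- the upper bound for `h`
    have hSp := Cfsg.Agent.Lib.Helper94.Iso8.spIso_of_mem 3 a b ha h
    have hfr : Module.finrank F ((Fin 3 ⊕ Fin 3) ⊕ Fin 2 → F) = 2 * 4 := by
      rw [Module.finrank_fintype_fun_eq_card]
      simp
    obtain ⟨v, hv, hTv⟩ := Cfsg.Agent.Lib.Helper94.Iso8.spec_upper r hq 4 (by norm_num) le_rfl _ _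
      (Matrix.toLin' (Cfsg.Agent.Lib.Helper94.Iso8.matOf h)) hfr hSp
    rw [Cfsg.Agent.Lib.Helper94.Iso8.toLin'_pow_eq_one_iff,
      Cfsg.Agent.Lib.Helper94.Iso8.matOf_pow_eq_one_iff] at hTv
    have hdvd : orderOf h ∣ v.val r := orderOf_dvd_of_pow_eq_one hTv
    obtain ⟨g₀, hDg, hcase⟩ :=
      Cfsg.Agent.Lib.Helper94.Iso8.exists_in_kernel a b han r hq D hD v hv
    obtain ⟨g, hgord, hgmat⟩ := hmkK g₀ hDg
    have hposg : orderOf g₀ ≠ 0 := (orderOf_pos g₀).ne'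
    rcases hcase with hc | ⟨hc, hN⟩
    · have hmem : orderOf g₀ ∈ Set.range (orderOf : H → ℕ) := by
        rw [hrange]
        exact ⟨g, Or.inl hgord.symm⟩
      obtain ⟨x, hx⟩ := hmem
      rw [← hrange]
      exact Cfsg.Agent.Lib.Helper94.Iso8.mem_range_orderOf_of_dvd x _ (by rw [hx]; exact hposg)
        (by rw [hx]; exact hdvd.trans hc)
    · have hmem : 2 * orderOf g₀ ∈ Set.range (orderOf : H → ℕ) := by
        rw [hrange]
        exact ⟨g, Or.inr ⟨by rw [hgord], by rw [hgmat, hgord]; exact hN⟩⟩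
      obtain ⟨x, hx⟩ := hmem
      rw [← hrange]
      exact Cfsg.Agent.Lib.Helper94.Iso8.mem_range_orderOf_of_dvd x _ (by rw [hx]; omega)
        (by rw [hx]; exact hdvd.trans hc)

end Cfsg.Agent.S3590
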