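import Cfsg.Statements.S3599
import Cfsg.Agent.Lib.Helper59.AffExists
import Cfsg.Agent.Lib.Helper59.PiCrit

set_option autoImplicit false
open Cfsg

namespace Cfsg.Agent.S3599

open Cfsg.Agent.Lib.Helper59

section Family

variable {ι : Type} [Fintype ι] [DecidableEq ι] (Φ : ι → Type) [∀ j, Group (Φ j)]
  [∀ j, Fintype (Φ j)] (q r : ι → ℕ) (d : ι → ℕ)

/-- the target set of element orders -/
def Om (q r : ι → ℕ) : Set ℕ :=
  {m | ∃ c : ι → ℕ, (∀ j, c j = 1 ∨ c j = q j ∨ c j = r j) ∧ m = ∏ j, c j}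

omit [DecidableEq ι] in
theorem mem_Om_single [DecidableEq ι] (j : ι) (x : ℕ) (hx : x = 1 ∨ x = q j ∨ x = r j) :
    x ∈ Om q r := by
  refine ⟨Function.update (fun _ => 1) j x, ?_, ?_⟩
  · intro i
    by_cases hi : i = j
    · subst hi; simpa using hx
    · left; simp [Function.update_of_ne hi]
  · rw [Fintype.prod_eq_single j]
    · simp
    · intro i hi
      simp [Function.update_of_ne hi]

variable (hq : ∀ j, (q j).Prime) (hr : ∀ j, (r j).Prime) (hd : ∀ j, 1 ≤ d j)
  (hcard : ∀ j, Nat.card (Φ j) = q j ^ d j * r j)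
  (hord : ∀ j (x : Φ j), orderOf x = 1 ∨ orderOf x = q j ∨ orderOf x = r j)
  (hcrit : ∀ j, ∀ H N : Subgroup (Φ j), N ≤ H → (∀ h ∈ H, ∀ n ∈ N, h * n * h⁻¹ ∈ N) →
      q j ∣ N.relIndex H → r j ∣ N.relIndex H → H = ⊤ ∧ N = ⊥)
  (hcop : ∀ i j, i ≠ j → Nat.Coprime (Nat.card (Φ i)) (Nat.card (Φ j)))

include hd hcard in
theorem q_dvd (j : ι) : q j ∣ Nat.card (Φ j) := by
  rw [hcard j]
  exact Dvd.dvd.mul_right (dvd_pow_self _ (by have := hd j; omega)) _

include hcard in
theorem r_dvd (j : ι) : r j ∣ Nat.card (Φ j) := by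
  rw [hcard j]
  exact Dvd.intro_left _ rfl

include hq hr hd hcard hord hcop in
theorem spec_eq : Set.range (orderOf : (∀ j, Φ j) → ℕ) = Om q r := by
  ext m
  constructor
  · rintro ⟨x, rfl⟩
    refine ⟨fun j => orderOf (x j), fun j => hord j (x j), ?_⟩
    exact pi_orderOf_eq_prod Φ hcop x
  · rintro ⟨c, hc, rfl⟩
    have hex : ∀ j, ∃ x : Φ j, orderOf x = c j := by
      intro j
      rcases hc j with h | h | h
      · exact ⟨1, by rw [h, orderOf_one]⟩
      · have : Fact (q j).Prime := ⟨hq j⟩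
        obtain ⟨x, hx⟩ := exists_prime_orderOf_dvd_card' (q j) (q_dvd Φ q r d hd hcard j)
        exact ⟨x, by rw [hx, h]⟩
      · have : Fact (r j).Prime := ⟨hr j⟩
        obtain ⟨x, hx⟩ := exists_prime_orderOf_dvd_card' (r j) (r_dvd Φ q r d hcard j)
        exact ⟨x, by rw [hx, h]⟩
    choose x hx using hex
    refine ⟨x, ?_⟩
    rw [pi_orderOf_eq_prod Φ hcop x]
    exact Finset.prod_congr rfl (fun j _ => hx j)

include hd hcard hcrit hcop in
theorem crit (H : Subgroup (∀ j, Φ j)) (N : Subgroup ↥H) [N.Normal] (hne : H ≠ ⊤ ∨ N ≠ ⊥) :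
    Set.range (orderOf : (↥H ⧸ N) → ℕ) ≠ Om q r := by
  intro heq
  have hidx : ∀ x ∈ Om q r, x ∣ N.index := by
    intro x hx
    rw [← heq] at hx
    obtain ⟨y, rfl⟩ := hx
    rw [Subgroup.index_eq_card]
    exact orderOf_dvd_natCard y
  set N' := N.map H.subtype with hN'
  have hN'H : N' ≤ H := Subgroup.map_subtype_le N
  have hrel : N'.relIndex H = N.index := by
    unfold Subgroup.relIndex
    congr 1
    exact Subgroup.comap_map_eq_self_of_injective H.subtype_injective N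
  have hnorm : ∀ h ∈ H, ∀ n ∈ N', h * n * h⁻¹ ∈ N' := by
    rintro h hh _ ⟨n, hn, rfl⟩
    refine ⟨⟨h, hh⟩ * n * ⟨h, hh⟩⁻¹, ?_, by simp⟩
    exact ‹N.Normal›.conj_mem n hn ⟨h, hh⟩
  have hres := pi_critical Φ q r (q_dvd Φ q r d hd hcard) (r_dvd Φ q r d hcard) hcop hcrit H N'
    hN'H hnorm
    (fun j => by rw [hrel]; exact hidx _ (mem_Om_single q r j (q j) (Or.inr (Or.inl rfl))))
    (fun j => by rw [hrel]; exact hidx _ (mem_Om_single q r j (r j) (Or.inr (Or.inr rfl))))
  rcases hne with h | h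
  · exact h hres.1
  · apply h
    exact (Subgroup.map_eq_bot_iff_of_injective N H.subtype_injective).1 hres.2

end Family

theorem fin2_cases (β : Fin 2) : β = 0 ∨ β = 1 := by
  fin_cases β <;> simp

theorem fin2_ne (β : Fin 2) : β ≠ 1 - β := by
  fin_cases β <;> decide

theorem fin2_sub_sub (β : Fin 2) : 1 - (1 - β) = β := by
  fin_cases β <;> decide

theorem fin2_eq_of_ne (β γ : Fin 2) (h : β ≠ γ) : γ = 1 - β := by
  fin_cases β <;> fin_cases γ <;> simp_all

theorem cond_iff (p : Fin 2 → ℕ) (β : Fin 2) (x : ℕ) :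
    (x = 1 ∨ x = p β ∨ x = p (1 - β)) ↔ (x = 1 ∨ x = p 0 ∨ x = p 1) := by
  rcases fin2_cases β with h | h
  · rw [h]; simp
  · rw [h]; simp only [sub_self]; tauto

/-- A finite group is critical with respect to a set Ω of natural numbers when its set of element orders is Ω while no proper section H/N (H a subgroup, N normal in H, (H, N) ≠ (whole group, 1)) has Ω as its set of element orders. Let s ≥ 1 and let p(j,0), p(j,1) (j < s) be 2s pairwise distinct primes, and let Ω be the set of all products c(0)·…·c(s−1) with each c(j) ∈ {1, p(j,0), p(j,1)}. Then there are 2^s pairwise non-isomorphic finite groups critical with respect to Ω. -/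
theorem result (s : ℕ) (hs : 1 ≤ s) (p : Fin s → Fin 2 → ℕ)
    (hp : ∀ j i, (p j i).Prime) (hinj : ∀ j i j' i', p j i = p j' i' → j = j' ∧ i = i') :
    ∃ (G : Fin (2 ^ s) → Type) (_ : ∀ a, Group (G a)) (_ : ∀ a, Fintype (G a)),
      (∀ a b, a ≠ b → ¬ Nonempty (G a ≃* G b)) ∧
      ∀ a, Set.range (orderOf : (G a) → ℕ) = {m : ℕ | ∃ c : Fin s → ℕ, (∀ j, c j = 1 ∨ c j = p j 0 ∨ c j = p j 1) ∧ m = ∏ j, c j} ∧
      ∀ (H : Subgroup (G a)) (N : Subgroup ↥H) [N.Normal], (H ≠ ⊤ ∨ N ≠ ⊥) → Set.range (orderOf : (↥H ⧸ N) → ℕ) ≠ {m : ℕ | ∃ c : Fin s → ℕ, (∀ j, c j = 1 ∨ c j = p j 0 ∨ c j = p j 1) ∧ m = ∏ j, c j} := by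
  classical
  have hne : ∀ (j : Fin s) (β : Fin 2), p j β ≠ p j (1 - β) := by
    intro j β h
    exact fin2_ne β (hinj _ _ _ _ h).2
  have key : ∀ jb : Fin s × Fin 2, ∃ (Φ : Type) (_ : Group Φ) (_ : Fintype Φ) (d : ℕ), 1 ≤ d ∧
      Nat.card Φ = p jb.1 jb.2 ^ d * p jb.1 (1 - jb.2) ∧
      p jb.1 (1 - jb.2) ∣ p jb.1 jb.2 ^ d - 1 ∧
      (∀ x : Φ, orderOf x = 1 ∨ orderOf x = p jb.1 jb.2 ∨ orderOf x = p jb.1 (1 - jb.2)) ∧
      (∀ H N : Subgroup Φ, N ≤ H → (∀ h ∈ H, ∀ n ∈ N, h * n * h⁻¹ ∈ N) →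
        p jb.1 jb.2 ∣ N.relIndex H → p jb.1 (1 - jb.2) ∣ N.relIndex H → H = ⊤ ∧ N = ⊥) :=
    fun jb => exists_crit (p jb.1 jb.2) (p jb.1 (1 - jb.2)) (hp _ _) (hp _ _) (hne _ _)
  choose Φ iG iF d hd1 hcard hrdvd hord hcrit using key
  let bits : Fin (2 ^ s) → Fin s → Fin 2 := fun a => finFunctionFinEquiv.symm a
  -- coprimality of different coordinates
  have hcopΦ : ∀ (i j : Fin s) (β γ : Fin 2), i ≠ j →
      Nat.Coprime (Nat.card (Φ (i, β))) (Nat.card (Φ (j, γ))) := by
    intro i j β γ hij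
    rw [hcard (i, β), hcard (j, γ)]
    have hpp : ∀ β' γ' : Fin 2, Nat.Coprime (p i β') (p j γ') := by
      intro β' γ'
      rw [Nat.coprime_primes (hp _ _) (hp _ _)]
      intro h
      exact hij (hinj _ _ _ _ h).1
    apply Nat.Coprime.mul_left
    · apply Nat.Coprime.mul_right
      · exact Nat.Coprime.pow _ _ (hpp _ _)
      · exact Nat.Coprime.pow_left _ (hpp _ _)
    · apply Nat.Coprime.mul_right
      · exact Nat.Coprime.pow_right _ (hpp _ _)
      · exact hpp _ _
  have hOm : ∀ a : Fin (2 ^ s),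
      Om (fun j => p j (bits a j)) (fun j => p j (1 - bits a j))
        = {m : ℕ | ∃ c : Fin s → ℕ, (∀ j, c j = 1 ∨ c j = p j 0 ∨ c j = p j 1) ∧ m = ∏ j, c j} := by
    intro a
    ext m
    constructor
    · rintro ⟨c, hc, rfl⟩
      exact ⟨c, fun j => (cond_iff (p j) (bits a j) (c j)).1 (hc j), rfl⟩
    · rintro ⟨c, hc, rfl⟩
      exact ⟨c, fun j => (cond_iff (p j) (bits a j) (c j)).2 (hc j), rfl⟩
  refine ⟨fun a => ∀ j, Φ (j, bits a j), fun a => inferInstance, fun a => inferInstance, ?_, ?_⟩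
  · -- non-isomorphism via cardinalities
    have hcardG : ∀ a : Fin (2 ^ s),
        Nat.card (∀ j, Φ (j, bits a j)) = ∏ j, Nat.card (Φ (j, bits a j)) := fun a => Nat.card_pi
    have hexp : ∀ a b : Fin (2 ^ s), ∀ j, bits b j = 1 - bits a j →
        Nat.card (∀ j, Φ (j, bits a j)) = Nat.card (∀ j, Φ (j, bits b j)) →
        d (j, bits a j) = 1 := by
      intro a b j hb heq
      set β := bits a j with hβ
      set Q := p j β with hQ
      set R := p j (1 - β) with hR
      have hQp : Q.Prime := hp _ _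
      have hRp : R.Prime := hp _ _
      have hQR : Nat.Coprime Q R := by
        rw [Nat.coprime_primes hQp hRp]; exact hne j β
      have h1 : Q ^ d (j, β) ∣ Nat.card (∀ j, Φ (j, bits a j)) := by
        rw [hcardG a]
        have h2 : Nat.card (Φ (j, bits a j)) ∣ ∏ i, Nat.card (Φ (i, bits a i)) :=
          Finset.dvd_prod_of_mem _ (Finset.mem_univ j)
        refine Dvd.dvd.trans ?_ h2
        rw [← hβ, hcard (j, β)]
        exact Dvd.intro _ rfl
      rw [heq, hcardG b, ← Finset.mul_prod_erase Finset.univ _ (Finset.mem_univ j), hb,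
        hcard (j, 1 - β)] at h1
      simp only [fin2_sub_sub] at h1
      rw [← hQ, ← hR] at h1
      have hcopB : Nat.Coprime (Q ^ d (j, β))
          (∏ i ∈ Finset.univ.erase j, Nat.card (Φ (i, bits b i))) := by
        apply Nat.Coprime.prod_right
        intro i hi
        have hij : i ≠ j := Finset.ne_of_mem_erase hi
        rw [hcard (i, bits b i)]
        have hpp : ∀ γ' : Fin 2, Nat.Coprime Q (p i γ') := by
          intro γ'
          rw [Nat.coprime_primes hQp (hp _ _)]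
          intro h
          exact hij (hinj _ _ _ _ h).1.symm
        apply Nat.Coprime.pow_left
        apply Nat.Coprime.mul_right
        · exact Nat.Coprime.pow_right _ (hpp _)
        · exact hpp _
      have h2 : Q ^ d (j, β) ∣ R ^ d (j, 1 - β) * Q := hcopB.dvd_of_dvd_mul_right h1
      have hcopR : Nat.Coprime (Q ^ d (j, β)) (R ^ d (j, 1 - β)) := Nat.Coprime.pow _ _ hQR
      have h3 : Q ^ d (j, β) ∣ Q := hcopR.dvd_of_dvd_mul_left h2
      have h4 : Q ^ d (j, β) ∣ Q ^ 1 := by rwa [pow_one]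
      have h5 := (Nat.pow_dvd_pow_iff_le_right hQp.one_lt).1 h4
      have := hd1 (j, β)
      omega
    intro a b hab hiso
    obtain ⟨e⟩ := hiso
    have heq : Nat.card (∀ j, Φ (j, bits a j)) = Nat.card (∀ j, Φ (j, bits b j)) :=
      Nat.card_congr e.toEquiv
    have hbits : bits a ≠ bits b := by
      intro h
      exact hab (finFunctionFinEquiv.symm.injective h)
    obtain ⟨j, hj⟩ := Function.ne_iff.1 hbits
    have hb : bits b j = 1 - bits a j := fin2_eq_of_ne _ _ hj
    have ha : bits a j = 1 - bits b j := fin2_eq_of_ne _ _ (Ne.symm hj)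
    have d1 := hexp a b j hb heq
    have d2 := hexp b a j ha heq.symm
    have r1 := hrdvd (j, bits a j)
    have r2 := hrdvd (j, bits b j)
    simp only at r1 r2
    rw [d1, pow_one] at r1
    rw [d2, pow_one] at r2
    rw [← hb] at r1
    rw [← ha] at r2
    have hA := (hp j (bits a j)).two_le
    have hB := (hp j (bits b j)).two_le
    have l1 := Nat.le_of_dvd (by omega) r1
    have l2 := Nat.le_of_dvd (by omega) r2
    omega
  · intro a
    have hcop : ∀ i j : Fin s, i ≠ j →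
        Nat.Coprime (Nat.card (Φ (i, bits a i))) (Nat.card (Φ (j, bits a j))) :=
      fun i j hij => hcopΦ i j _ _ hij
    refine ⟨?_, ?_⟩
    · rw [← hOm a]
      exact spec_eq (fun j => Φ (j, bits a j)) _ _ (fun j => d (j, bits a j))
        (fun j => hp _ _) (fun j => hp _ _) (fun j => hd1 _) (fun j => hcard _)
        (fun j => hord _) hcop
    · intro H N _ hne'
      rw [← hOm a]
      exact crit (fun j => Φ (j, bits a j)) _ _ (fun j => d (j, bits a j))
        (fun j => hd1 _) (fun j => hcard _) (fun j => hcrit _) hcop H N hne'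

end Cfsg.Agent.S3599
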