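import Cfsg.Statements.S3619
-- import your own Cfsg.Agent.* helpers here

set_option autoImplicit false
open Cfsg

namespace Cfsg.Agent.S3619

open MulAction SubMulAction
open scoped Pointwise

/-- The fixing subgroup of the complement of a set with at least two points, acting transitively, is nontrivial. -/
theorem fixing_ne_bot {G Ω : Type*} [Group G] [MulAction G Ω] [Finite Ω]
    (Γ : Set Ω) (hΓ1 : 1 < Γ.ncard)
    (hJ : MulAction.IsPretransitive ↥(fixingSubgroup G Γᶜ) ↥(SubMulAction.ofFixingSubgroup G Γᶜ)) :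
    fixingSubgroup G Γᶜ ≠ ⊥ := by
  intro hbot
  rw [Set.one_lt_ncard_iff] at hΓ1
  obtain ⟨a, b, ha, hb, hab⟩ := hΓ1
  have ha' : a ∈ SubMulAction.ofFixingSubgroup G Γᶜ := by
    rw [SubMulAction.mem_ofFixingSubgroup_iff]; simpa using ha
  have hb' : b ∈ SubMulAction.ofFixingSubgroup G Γᶜ := by
    rw [SubMulAction.mem_ofFixingSubgroup_iff]; simpa using hb
  obtain ⟨⟨h, hh⟩, hhab⟩ := hJ.exists_smul_eq (⟨a, ha'⟩ : ↥(SubMulAction.ofFixingSubgroup G Γᶜ)) ⟨b, hb'⟩
  have h1 : h = 1 := by
    have : h ∈ (⊥ : Subgroup G) := hbot ▸ hh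
    simpa using this
  subst h1
  apply hab
  have := congrArg Subtype.val hhab
  simpa using this

theorem smul_eq_of_mem_fixing {G Ω : Type*} [Group G] [MulAction G Ω] (Γ : Set Ω) (h : G)
    (hh : h ∈ fixingSubgroup G Γᶜ) : h • Γ = Γ := by
  have h1 : h • Γᶜ = Γᶜ := by
    have := MulAction.fixingSubgroup_le_stabilizer G Γᶜ hh
    rwa [MulAction.mem_stabilizer_iff] at this
  rw [Set.smul_set_compl] at h1
  exact compl_injective h1

/-- The kernel of the action on the translates of a set. -/
def translateKernel (G : Type*) {Ω : Type*} [Group G] [MulAction G Ω] (B : Set Ω) : Subgroup G where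
  carrier := {x | ∀ g : G, x • (g • B) = g • B}
  mul_mem' {a b} ha hb := by
    intro g
    rw [mul_smul, hb g, ha g]
  one_mem' := by
    intro g
    simp
  inv_mem' {a} ha := by
    intro g
    rw [inv_smul_eq_iff, ha g]

theorem translateKernel_normal (G : Type*) {Ω : Type*} [Group G] [MulAction G Ω] (B : Set Ω) :
    (translateKernel G B).Normal := by
  constructor
  intro n hn g k
  have := hn (g⁻¹ * k)
  rw [mul_smul, mul_smul, ← mul_smul g⁻¹ k B, this, ← mul_smul]
  simp

theorem isPreprimitive_of_quasi {G Ω : Type*} [Group G] [MulAction G Ω] [Finite Ω]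
    (hqp : ∀ N : Subgroup G, N.Normal → N ≠ ⊥ → MulAction.IsPretransitive ↥N Ω)
    (Γ : Set Ω) (hΓ1 : 1 < Γ.ncard)
    (hJ : MulAction.IsPretransitive ↥(fixingSubgroup G Γᶜ) ↥(SubMulAction.ofFixingSubgroup G Γᶜ))
    (hJp : MulAction.IsPreprimitive ↥(fixingSubgroup G Γᶜ) ↥(SubMulAction.ofFixingSubgroup G Γᶜ)) :
    MulAction.IsPreprimitive G Ω := by
  have hHne := fixing_ne_bot Γ hΓ1 hJ
  have htop : (⊤ : Subgroup G) ≠ ⊥ := by
    intro h
    apply hHne
    rw [eq_bot_iff, ← h]
    exact le_top
  have htrans : MulAction.IsPretransitive G Ω := by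
    have := hqp ⊤ inferInstance htop
    constructor
    intro x y
    obtain ⟨g, hg⟩ := this.exists_smul_eq x y
    exact ⟨g.1, hg⟩
  refine { htrans with isTrivialBlock_of_isBlock := ?_ }
  intro B hB
  by_contra hBt
  unfold IsTrivialBlock at hBt
  push Not at hBt
  obtain ⟨hBns, hBnu⟩ := hBt
  -- the kernel of the action on the translates of B is trivial
  have hNbot : translateKernel G B = ⊥ := by
    by_contra hne
    have htr := hqp _ (translateKernel_normal G B) hne
    obtain ⟨b, hb⟩ := hBns.nonempty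
    obtain ⟨c, hc⟩ := (Set.ne_univ_iff_exists_notMem B).mp hBnu
    obtain ⟨⟨x, hx⟩, hxb⟩ := htr.exists_smul_eq b c
    apply hc
    have h1 : x • B = B := by simpa using hx 1
    have : x • b ∈ x • B := Set.smul_mem_smul_set hb
    rw [h1] at this
    exact hxb ▸ this
  -- but it contains the fixing subgroup
  apply hHne
  rw [eq_bot_iff, ← hNbot]
  intro h hh g
  have hB' : IsBlock G (g • B) := hB.translate g
  have hB'ns : (g • B).Nontrivial := by
    obtain ⟨x, hx, y, hy, hxy⟩ := hBns
    exact ⟨g • x, Set.smul_mem_smul_set hx, g • y, Set.smul_mem_smul_set hy, fun e => hxy (smul_left_cancel g e)⟩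
  generalize g • B = B' at hB' hB'ns
  rw [isBlock_iff_smul_eq_of_nonempty] at hB'
  by_cases hsub : B' ⊆ Γ
  · -- B' ⊆ Γ : use primitivity of the fixing subgroup
    have hblk : IsBlock (fixingSubgroup G Γᶜ) B' := by
      rw [← isBlock_iff_smul_eq_of_nonempty] at hB'
      exact hB'.subgroup
    have hblk' := hblk.subtype_val_preimage (C := SubMulAction.ofFixingSubgroup G Γᶜ)
    rcases hJp.isTrivialBlock_of_isBlock hblk' with h1 | h1
    · exfalso
      obtain ⟨x, hx, y, hy, hxy⟩ := hB'ns
      have hx' : x ∈ SubMulAction.ofFixingSubgroup G Γᶜ := by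
        rw [SubMulAction.mem_ofFixingSubgroup_iff]; simpa using hsub hx
      have hy' : y ∈ SubMulAction.ofFixingSubgroup G Γᶜ := by
        rw [SubMulAction.mem_ofFixingSubgroup_iff]; simpa using hsub hy
      have := @h1 ⟨x, hx'⟩ (by simpa using hx) ⟨y, hy'⟩ (by simpa using hy)
      exact hxy (congrArg Subtype.val this)
    · have hΓB : Γ ⊆ B' := by
        intro x hx
        have hx' : x ∈ SubMulAction.ofFixingSubgroup G Γᶜ := by
          rw [SubMulAction.mem_ofFixingSubgroup_iff]; simpa using hx
        have : (⟨x, hx'⟩ : ↥(SubMulAction.ofFixingSubgroup G Γᶜ)) ∈ (Set.univ : Set _) := Set.mem_univ _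
        rw [← h1] at this
        exact this
      have : B' = Γ := Set.Subset.antisymm hsub hΓB
      rw [this]
      exact smul_eq_of_mem_fixing Γ h hh
  · -- some point of B' is outside Γ, hence fixed by h
    rw [Set.not_subset] at hsub
    obtain ⟨x, hx, hxΓ⟩ := hsub
    apply hB'
    refine ⟨x, ?_, hx⟩
    have hfix : h • x = x := by
      have := (mem_fixingSubgroup_iff G).mp hh x (by simpa using hxΓ)
      exact this
    rw [← hfix]
    exact Set.smul_mem_smul_set hx

/-- Let G act faithfully on a finite set in such a way that every non-trivial normal subgroup of G is transitive (G is quasiprimitive). Let Γ be a subset with more than one point and not the whole set, such that the pointwise stabilizer of the complement of Γ acts transitively on Γ (a Jordan set). If that pointwise stabilizer acts primitively on Γ, then G is k-fold transitive where k is one more than the number of points outside Γ (the Jordan set is a trivial one). -/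
theorem result {G Ω : Type*} [Group G] [Finite G] [MulAction G Ω] [FaithfulSMul G Ω] [Finite Ω]
    (hqp : ∀ N : Subgroup G, N.Normal → N ≠ ⊥ → MulAction.IsPretransitive ↥N Ω)
    (Γ : Set Ω) (hΓ1 : 1 < Γ.ncard) (hΓ2 : Γ.ncard < Nat.card Ω)
    (hJ : MulAction.IsPretransitive ↥(fixingSubgroup G Γᶜ) ↥(SubMulAction.ofFixingSubgroup G Γᶜ))
    (hJp : MulAction.IsPreprimitive ↥(fixingSubgroup G Γᶜ) ↥(SubMulAction.ofFixingSubgroup G Γᶜ)) :
    MulAction.IsMultiplyPretransitive G Ω (Nat.card Ω - Γ.ncard + 1) := by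
  have hprim := isPreprimitive_of_quasi hqp Γ hΓ1 hJ hJp
  have hcompl : Γᶜ.ncard = Nat.card Ω - Γ.ncard := by
    have := Set.ncard_add_ncard_compl Γ
    omega
  have hsn : Γᶜ.ncard = (Nat.card Ω - Γ.ncard - 1) + 1 := by omega
  have hsn' : (Nat.card Ω - Γ.ncard - 1) + 2 < Nat.card Ω := by omega
  have key := MulAction.IsPreprimitive.isMultiplyPreprimitive hprim hsn hsn' hJp
  have e : Nat.card Ω - Γ.ncard + 1 = (Nat.card Ω - Γ.ncard - 1) + 2 := by omega
  rw [e]
  exact key.isMultiplyPretransitive

end Cfsg.Agent.S3619
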