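import Cfsg.Statements.S3633
import Cfsg.Agent.Lib.Helper60.ThreePrimes

set_option autoImplicit false
open Cfsg

namespace Cfsg.Agent.S3633

open Cfsg.Agent.Lib.Helper60

/-- A normal solvable subgroup extended by a cyclic group is solvable: the preimage of a cyclic
subgroup of the quotient. -/
theorem solvable_comap_zpowers {G : Type*} [Group G] (K : Subgroup G) [K.Normal]
    (hK : Group.IsSolvable ↥K) (z : G ⧸ K) :
    Group.IsSolvable ↥((Subgroup.zpowers z).comap (QuotientGroup.mk' K)) := by
  have hKH : K ≤ (Subgroup.zpowers z).comap (QuotientGroup.mk' K) := by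
    intro g hg
    rw [Subgroup.mem_comap]
    have : (QuotientGroup.mk' K) g = 1 := (QuotientGroup.eq_one_iff g).mpr hg
    rw [this]
    exact Subgroup.one_mem _
  haveI : Group.IsSolvable ↥(Subgroup.zpowers z) := by
    apply Group.isSolvable_of_comm
    intro a b
    obtain ⟨m, hm⟩ := Subgroup.mem_zpowers_iff.mp a.2
    obtain ⟨n, hn⟩ := Subgroup.mem_zpowers_iff.mp b.2
    apply Subtype.ext
    rw [Subgroup.coe_mul, Subgroup.coe_mul, ← hm, ← hn, ← zpow_add, ← zpow_add, add_comm]
  apply Group.isSolvable_of_ker_le_range (Subgroup.inclusion hKH)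
    ((QuotientGroup.mk' K).subgroupComap (Subgroup.zpowers z))
  intro h hh
  rw [MonoidHom.mem_ker] at hh
  have h1 : (QuotientGroup.mk' K) (h : G) = 1 := congrArg Subtype.val hh
  have h2 : (h : G) ∈ K := (QuotientGroup.eq_one_iff (h : G)).mp h1
  exact ⟨⟨(h : G), h2⟩, Subtype.ext rfl⟩

/-- Let G be a finite group and ρ a set of at least three prime divisors of the order of G that are pairwise non-adjacent in the prime graph (no element of order rs for distinct r, s ∈ ρ). Then at most one prime of ρ divides the order of any given solvable normal subgroup of G; in particular G is not solvable. -/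
theorem result {G : Type*} [Group G] [Finite G] (ρ : Finset ℕ) (hρ : 3 ≤ ρ.card) (hc : ((∀ r ∈ ρ, r.Prime ∧ r ∣ Nat.card G) ∧ (∀ r ∈ ρ, ∀ s ∈ ρ, r ≠ s → ¬ ∃ x : G, orderOf x = r * s)))
    (K : Subgroup G) [K.Normal] (hK : Group.IsSolvable ↥K) :
    (∀ r ∈ ρ, ∀ s ∈ ρ, r ∣ Nat.card ↥K → s ∣ Nat.card ↥K → r = s) ∧ ¬ Group.IsSolvable G := by
  have hno : ∀ a ∈ ρ, ∀ b ∈ ρ, ∀ c ∈ ρ, a ≠ b → a ≠ c → b ≠ c → ¬ P3 G a b c := by
    intro a ha b hb c hc' hab hac hbc h
    rcases h with h | h | h
    · exact hc.2 a ha b hb hab h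
    · exact hc.2 a ha c hc' hac h
    · exact hc.2 b hb c hc' hbc h
  constructor
  · intro r hr s hs hrK hsK
    by_contra hrs
    have hne : ((ρ.erase r).erase s).Nonempty := by
      rw [← Finset.card_pos]
      have h1 := Finset.card_erase_of_mem hr
      have h2 : s ∈ ρ.erase r := Finset.mem_erase.mpr ⟨Ne.symm hrs, hs⟩
      have h3 := Finset.card_erase_of_mem h2
      omega
    obtain ⟨t, ht⟩ := hne
    rw [Finset.mem_erase, Finset.mem_erase] at ht
    obtain ⟨hts, htr, htρ⟩ := ht
    have hrp := (hc.1 r hr).1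
    have hsp := (hc.1 s hs).1
    have htp := (hc.1 t htρ).1
    by_cases htK : t ∣ Nat.card ↥K
    · have h3 : P3 ↥K r s t :=
        three_primes_solvable hrp hsp htp hrs (Ne.symm htr) (Ne.symm hts) hrK hsK htK
      exact hno r hr s hs t htρ hrs (Ne.symm htr) (Ne.symm hts) (P3.of_subgroup K h3)
    · haveI : Fact t.Prime := ⟨htp⟩
      obtain ⟨g, hg⟩ := exists_prime_orderOf_dvd_card' t (hc.1 t htρ).2
      set H := (Subgroup.zpowers ((QuotientGroup.mk' K) g)).comap (QuotientGroup.mk' K) with hH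
      haveI : Group.IsSolvable ↥H := solvable_comap_zpowers K hK _
      have hKH : K ≤ H := by
        intro k hk
        rw [hH, Subgroup.mem_comap]
        have : (QuotientGroup.mk' K) k = 1 := (QuotientGroup.eq_one_iff k).mpr hk
        rw [this]
        exact Subgroup.one_mem _
      have hgH : g ∈ H := by
        rw [hH, Subgroup.mem_comap]
        exact Subgroup.mem_zpowers _
      have hrH : r ∣ Nat.card ↥H := hrK.trans (Subgroup.card_dvd_of_le hKH)
      have hsH : s ∣ Nat.card ↥H := hsK.trans (Subgroup.card_dvd_of_le hKH)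
      have htH : t ∣ Nat.card ↥H := by
        have := orderOf_dvd_natCard (⟨g, hgH⟩ : ↥H)
        rwa [← Subgroup.orderOf_coe, hg] at this
      have h3 : P3 ↥H r s t :=
        three_primes_solvable hrp hsp htp hrs (Ne.symm htr) (Ne.symm hts) hrH hsH htH
      exact hno r hr s hs t htρ hrs (Ne.symm htr) (Ne.symm hts) (P3.of_subgroup H h3)
  · intro hG
    obtain ⟨a, b, c, ha, hb, hc', hab, hac, hbc⟩ := Finset.two_lt_card_iff.mp (by omega : 2 < ρ.card)
    exact hno a ha b hb c hc' hab hac hbc
      (three_primes_solvable (hc.1 a ha).1 (hc.1 b hb).1 (hc.1 c hc').1 hab hac hbc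
        (hc.1 a ha).2 (hc.1 b hb).2 (hc.1 c hc').2)

end Cfsg.Agent.S3633
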