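import Cfsg.Statements.S3634
import Cfsg.Agent.Lib.Helper60.ThreePrimes

set_option autoImplicit false
open Cfsg

namespace Cfsg.Agent.S3634

open Cfsg.Agent.Lib.Helper60

/-- Let G be a finite group with normal subgroups K ≤ M, and let p, q, r be distinct primes with p dividing the order of K, q dividing the order of M/K and r dividing the order of G/M. Then p, q, r are not pairwise non-adjacent in the prime graph of G: G has an element of order pq, pr or qr. -/
theorem result {G : Type*} [Group G] [Finite G] (K M : Subgroup G) [K.Normal] [M.Normal] (hKM : K ≤ M)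
    (p q r : ℕ) (hp : p.Prime) (hq : q.Prime) (hr : r.Prime) (hpq : p ≠ q) (hpr : p ≠ r) (hqr : q ≠ r)
    (hpK : p ∣ Nat.card ↥K) (hqM : q ∣ Nat.card ↥M / Nat.card ↥K) (hrG : r ∣ Nat.card G / Nat.card ↥M) :
    (∃ x : G, orderOf x = p * q) ∨ (∃ x : G, orderOf x = p * r) ∨ (∃ x : G, orderOf x = q * r) := by
  classical
  haveI : Fact p.Prime := ⟨hp⟩
  haveI : Fact q.Prime := ⟨hq⟩
  obtain ⟨P⟩ : Nonempty (Sylow p ↥K) := inferInstance
  have hfrat := Sylow.normalizer_sup_eq_top P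
  set P₁ : Subgroup G := (P : Subgroup ↥K).map K.subtype with hP₁
  have hP₁ne : P₁ ≠ ⊥ := by
    intro h
    apply P.ne_bot_of_dvd_card hpK
    rw [hP₁] at h
    exact (Subgroup.map_eq_bot_iff_of_injective _ K.subtype_injective).mp h
  have hP₁p : IsPGroup p P₁ := P.2.map _
  set N₁ : Subgroup G := Subgroup.normalizer (P₁ : Set G) with hN₁
  have hNK : N₁ ⊔ K = ⊤ := hfrat
  have hA'n : ((Zc P₁).subgroupOf N₁).Normal := by
    constructor
    intro c hc n
    rw [Subgroup.mem_subgroupOf] at hc ⊢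
    simp only [Subgroup.coe_mul, InvMemClass.coe_inv]
    exact Zc_conj_mem n.2 hc
  have hA'comm : ∀ c ∈ (Zc P₁).subgroupOf N₁, ∀ d ∈ (Zc P₁).subgroupOf N₁, c * d = d * c := by
    intro c hc d hd
    apply Subtype.ext
    simp only [Subgroup.coe_mul]
    exact Zc_comm P₁ _ (Subgroup.mem_subgroupOf.mp hc) _ (Subgroup.mem_subgroupOf.mp hd)
  have hA'ne : (Zc P₁).subgroupOf N₁ ≠ ⊥ := by
    intro h
    have hZ := Zc_ne_bot P₁ hP₁p hP₁ne
    apply hZ
    rw [eq_bot_iff]
    intro c hc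
    have hcN : c ∈ N₁ := Subgroup.le_normalizer (Zc_le P₁ hc)
    have hmem : (⟨c, hcN⟩ : ↥N₁) ∈ (Zc P₁).subgroupOf N₁ := Subgroup.mem_subgroupOf.mpr hc
    rw [h, Subgroup.mem_bot] at hmem
    rw [Subgroup.mem_bot]
    exact congrArg Subtype.val hmem
  have hA'p : IsPGroup p ↥((Zc P₁).subgroupOf N₁) := (hP₁p.to_le (Zc_le P₁)).comap_subtype
  have hrI : r ∣ (M.subgroupOf N₁).index := by
    have h1 : M.relIndex (N₁ ⊔ M) = M.relIndex N₁ := Subgroup.relIndex_sup_right _ _
    have h2 : N₁ ⊔ M = ⊤ := by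
      rw [eq_top_iff, ← hNK]
      exact sup_le_sup_left hKM N₁
    rw [h2, Subgroup.relIndex_top_right] at h1
    have h3 : M.index = Nat.card G / Nat.card ↥M := by
      have := M.card_mul_index
      exact (Nat.div_eq_of_eq_mul_right Nat.card_pos this.symm).symm
    change r ∣ M.relIndex N₁
    rw [← h1, h3]
    exact hrG
  have hqC : q ∣ Nat.card ↥(M.subgroupOf N₁) := by
    have h1 : K.relIndex M = Nat.card ↥M / Nat.card ↥K := by
      have h := Subgroup.relIndex_mul_relIndex (⊥ : Subgroup G) K M bot_le hKM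
      rw [Subgroup.relIndex_bot_left, Subgroup.relIndex_bot_left] at h
      exact (Nat.div_eq_of_eq_mul_right Nat.card_pos h.symm).symm
    have h2 : M = K ⊔ N₁ ⊓ M := by
      apply le_antisymm
      · intro m hm
        have hm' : m ∈ ((N₁ ⊔ K : Subgroup G) : Set G) := by
          rw [hNK]
          exact Set.mem_univ m
        rw [Subgroup.mul_normal] at hm'
        obtain ⟨n, hn, k, hk, rfl⟩ := Set.mem_mul.mp hm'
        have hnM : n ∈ M := by
          have : n = n * k * k⁻¹ := by group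
          rw [this]
          exact M.mul_mem hm (M.inv_mem (hKM hk))
        rw [sup_comm]
        exact Subgroup.mul_mem_sup (Subgroup.mem_inf.mpr ⟨hn, hnM⟩) hk
      · exact sup_le hKM inf_le_right
    have h3 : K.relIndex M = K.relIndex (N₁ ⊓ M) := by
      conv_lhs => rw [h2, sup_comm]
      exact Subgroup.relIndex_sup_right _ _
    have h4 : Nat.card ↥(M.subgroupOf N₁) = Nat.card ↥(N₁ ⊓ M) := by
      rw [← Subgroup.inf_subgroupOf_left M N₁]
      exact Nat.card_congr (Subgroup.subgroupOfEquivOfLe inf_le_left).toEquiv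
    rw [h4]
    rw [← h1, h3] at hqM
    exact hqM.trans (Subgroup.relIndex_dvd_card _ _)
  obtain ⟨P₀, y, hP₀q, hP₀ne, _, hy, hyN⟩ :=
    exists_normalizing_of_normal (M.subgroupOf N₁) q r hr hrI hqC
  obtain ⟨x, hxZ, hx⟩ := exists_orderOf_eq_in_Zc P₀ hP₀q hP₀ne
  haveI := hA'n
  have hP3 : P3 ↥N₁ q r p := by
    apply core_three_primes ((Zc P₁).subgroupOf N₁) hA'comm hA'ne q r p hq hr hp hqr hpq.symm
      hpr.symm hA'p x y hx hy
    intro j
    have hyj : y ^ j ∈ Subgroup.normalizer (P₀ : Set ↥N₁) := Subgroup.pow_mem _ hyN j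
    have hxP : x⁻¹ ∈ P₀ := P₀.inv_mem (Zc_le P₀ hxZ)
    have hu : y ^ j * x⁻¹ * (y ^ j)⁻¹ ∈ P₀ := (Subgroup.mem_normalizer_iff.mp hyj _).mp hxP
    exact ((mem_Zc.mp hxZ).2 _ hu).symm
  exact ((P3.of_subgroup N₁ hP3).swap23).swap12

end Cfsg.Agent.S3634
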