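import Cfsg.Statements.S3639
import Cfsg.Agent.Lib.Helper60.PrimeGraphExt

set_option autoImplicit false
open Cfsg

namespace Cfsg.Agent.S3639

open Matrix Cfsg.Lie

variable {F : Type*} [Field F]

/-- The adjoint of `M` with respect to the antidiagonal form. -/
def adj4 (M : Matrix (Fin 4) (Fin 4) F) : Matrix (Fin 4) (Fin 4) F :=
  !![M 3 3, M 2 3, M 1 3, M 0 3;
     M 3 2, M 2 2, M 1 2, M 0 2;
     M 3 1, M 2 1, M 1 1, M 0 1;
     M 3 0, M 2 0, M 1 0, M 0 0]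

/-- the isometry condition -/
def IsSp (M : Matrix (Fin 4) (Fin 4) F) : Prop :=
  ∀ u v : Fin 4 → F, altForm4 (M *ᵥ u) (M *ᵥ v) = altForm4 u v

theorem col_rel {M : Matrix (Fin 4) (Fin 4) F} (hM : IsSp M) (i j : Fin 4) :
    M 0 i * M 3 j + M 1 i * M 2 j + M 2 i * M 1 j + M 3 i * M 0 j =
      altForm4 (Pi.single i (1 : F)) (Pi.single j (1 : F)) := by
  have := hM (Pi.single i 1) (Pi.single j 1)
  rw [← this, Matrix.mulVec_single_one, Matrix.mulVec_single_one]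
  rfl

theorem adj4_mul {M : Matrix (Fin 4) (Fin 4) F} (hM : IsSp M) : adj4 M * M = 1 := by
  ext i j
  have := col_rel hM (Fin.rev i) j
  fin_cases i <;> fin_cases j <;>
    simp [adj4, Matrix.mul_apply, Fin.sum_univ_four, altForm4, Fin.rev] at this ⊢ <;>
    linear_combination this

theorem mul_adj4 {M : Matrix (Fin 4) (Fin 4) F} (hM : IsSp M) : M * adj4 M = 1 :=
  mul_eq_one_comm.mp (adj4_mul hM)

theorem row_rel {M : Matrix (Fin 4) (Fin 4) F} (hM : IsSp M) (k l : Fin 4) :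
    M k 0 * M l 3 + M k 1 * M l 2 + M k 2 * M l 1 + M k 3 * M l 0 =
      altForm4 (Pi.single k (1 : F)) (Pi.single l (1 : F)) := by
  have := congrFun (congrFun (mul_adj4 hM) k) (Fin.rev l)
  fin_cases k <;> fin_cases l <;>
    simp [adj4, Matrix.mul_apply, Fin.sum_univ_four, altForm4, Fin.rev, Matrix.one_apply] at this ⊢ <;>
    linear_combination this

theorem altForm4_pair (r : Fin 4) :
    altForm4 (Pi.single (pairOf r).1 (1 : F)) (Pi.single (pairOf r).2 (1 : F)) = 0 := by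
  fin_cases r <;> simp [altForm4, pairOf]

theorem cb_entry (h2 : (2 : F) = 0) (g h : Matrix (Fin 4) (Fin 4) F) (k l i j : Fin 4)
    (hg : g k 0 * g l 3 + g k 1 * g l 2 + g k 2 * g l 1 + g k 3 * g l 0 = 0)
    (hh : h 0 i * h 3 j + h 1 i * h 2 j + h 2 i * h 1 j + h 3 i * h 0 j = 0) :
    (g * h) k i * (g * h) l j - (g * h) l i * (g * h) k j =
      (g k 0 * g l 1 - g l 0 * g k 1) * (h 0 i * h 1 j - h 1 i * h 0 j) +
      (g k 0 * g l 2 - g l 0 * g k 2) * (h 0 i * h 2 j - h 2 i * h 0 j) +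
      (g k 1 * g l 3 - g l 1 * g k 3) * (h 1 i * h 3 j - h 3 i * h 1 j) +
      (g k 2 * g l 3 - g l 2 * g k 3) * (h 2 i * h 3 j - h 3 i * h 2 j) := by
  simp only [Matrix.mul_apply, Fin.sum_univ_four]
  linear_combination
    ((h 0 i * h 3 j + h 1 i * h 2 j + h 2 i * h 1 j + h 3 i * h 0 j)
      - (h 0 i * h 3 j - h 3 i * h 0 j) - 2 * (h 3 i * h 0 j + h 2 i * h 1 j)) * hg
    + (-(g k 0 * g l 3 - g l 0 * g k 3) - 2 * (g l 0 * g k 3 + g l 1 * g k 2)) * hh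
    + ((g k 0 * g l 3 - g l 0 * g k 3) * (h 0 i * h 3 j - h 3 i * h 0 j)
      + (g k 0 * g l 3 - g l 0 * g k 3) * (h 3 i * h 0 j + h 2 i * h 1 j)
      + (h 0 i * h 3 j - h 3 i * h 0 j) * (g l 0 * g k 3 + g l 1 * g k 2)
      + 2 * (g l 0 * g k 3 + g l 1 * g k 2) * (h 3 i * h 0 j + h 2 i * h 1 j)) * h2

theorem star4_apply (M : Matrix (Fin 4) (Fin 4) F) (p r : Fin 4) :
    star4 M p r = M (pairOf p).1 (pairOf r).1 * M (pairOf p).2 (pairOf r).2
      - M (pairOf p).2 (pairOf r).1 * M (pairOf p).1 (pairOf r).2 := rfl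

theorem star4_mul (h2 : (2 : F) = 0) {g h : Matrix (Fin 4) (Fin 4) F} (hg : IsSp g) (hh : IsSp h) :
    star4 (g * h) = star4 g * star4 h := by
  ext p r
  have hgr := row_rel hg (pairOf p).1 (pairOf p).2
  rw [altForm4_pair] at hgr
  have hhc := col_rel hh (pairOf r).1 (pairOf r).2
  rw [altForm4_pair] at hhc
  have := cb_entry h2 g h _ _ _ _ hgr hhc
  rw [star4_apply, this, Matrix.mul_apply, Fin.sum_univ_four]
  simp only [star4_apply]
  rfl


theorem star4_one : star4 (1 : Matrix (Fin 4) (Fin 4) F) = 1 := by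
  ext p r
  rw [star4_apply]
  simp only [Matrix.one_apply]
  fin_cases p <;> fin_cases r <;> simp [pairOf]

theorem hC03 {M : Matrix (Fin 4) (Fin 4) F} (hM : IsSp M) :
    M 0 0 * M 3 3 + M 1 0 * M 2 3 + M 2 0 * M 1 3 + M 3 0 * M 0 3 = 1 := by
  have := col_rel hM 0 3
  simpa [altForm4] using this

theorem hC12 {M : Matrix (Fin 4) (Fin 4) F} (hM : IsSp M) :
    M 0 1 * M 3 2 + M 1 1 * M 2 2 + M 2 1 * M 1 2 + M 3 1 * M 0 2 = 1 := by
  have := col_rel hM 1 2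
  simpa [altForm4] using this

theorem hR03 {M : Matrix (Fin 4) (Fin 4) F} (hM : IsSp M) :
    M 0 0 * M 3 3 + M 0 1 * M 3 2 + M 0 2 * M 3 1 + M 0 3 * M 3 0 = 1 := by
  have := row_rel hM 0 3
  simpa [altForm4] using this

/-- trace -/
def c1 (M : Matrix (Fin 4) (Fin 4) F) : F := M 0 0 + M 1 1 + M 2 2 + M 3 3

/-- sum of principal 2x2 minors -/
def c2 (M : Matrix (Fin 4) (Fin 4) F) : F :=
  (M 0 0 * M 1 1 - M 1 0 * M 0 1) + (M 0 0 * M 2 2 - M 2 0 * M 0 2) + (M 0 0 * M 3 3 - M 3 0 * M 0 3)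
  + (M 1 1 * M 2 2 - M 2 1 * M 1 2) + (M 1 1 * M 3 3 - M 3 1 * M 1 3) + (M 2 2 * M 3 3 - M 3 2 * M 2 3)

theorem D_id (h2 : (2 : F) = 0) {M : Matrix (Fin 4) (Fin 4) F} (hM : IsSp M) :
    (M 0 0 * M 3 3 - M 3 0 * M 0 3) + (M 1 1 * M 2 2 - M 2 1 * M 1 2) = 0 := by
  have hC12 := hC12 hM
  have hR03 := hR03 hM
  linear_combination hC12 + hR03 + ((1) + (-1) * M 0 1 * M 3 2 + (-1) * M 0 2 * M 3 1 + (-1) * M 0 3 * M 3 0 + (-1) * M 1 2 * M 2 1) * h2

theorem Q_id (h2 : (2 : F) = 0) {M : Matrix (Fin 4) (Fin 4) F} (hM : IsSp M) :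
    (M + adj4 M) * (M + adj4 M) + c1 M • (M + adj4 M) + c2 M • (1 : Matrix (Fin 4) (Fin 4) F) = 0 := by
  have hC03 := hC03 hM
  have hC12 := hC12 hM
  ext i j
  fin_cases i <;> fin_cases j <;>
    simp [adj4, c1, c2, Matrix.mul_apply, Fin.sum_univ_four, Matrix.add_apply, Matrix.smul_apply]
  · linear_combination hC03 + hC12 + ((1) + M 0 0 * M 0 0 + M 0 0 * M 1 1 + M 0 0 * M 2 2 + (2) * M 0 0 * M 3 3 + M 0 3 * M 3 0 + M 1 1 * M 3 3 + (-1) * M 1 2 * M 2 1 + M 2 2 * M 3 3 + M 3 3 * M 3 3) * h2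
  · linear_combination (M 0 0 * M 0 1 + M 0 0 * M 2 3 + M 0 1 * M 1 1 + M 0 1 * M 2 2 + M 0 1 * M 3 3 + M 0 2 * M 2 1 + M 0 3 * M 2 0 + M 0 3 * M 3 1 + M 1 1 * M 2 3 + M 1 3 * M 2 1 + M 2 2 * M 2 3 + M 2 3 * M 3 3) * h2
  · linear_combination (M 0 0 * M 0 2 + M 0 0 * M 1 3 + M 0 1 * M 1 2 + M 0 2 * M 1 1 + M 0 2 * M 2 2 + M 0 2 * M 3 3 + M 0 3 * M 1 0 + M 0 3 * M 3 2 + M 1 1 * M 1 3 + M 1 2 * M 2 3 + M 1 3 * M 2 2 + M 1 3 * M 3 3) * h2
  · linear_combination ((3) * M 0 0 * M 0 3 + M 0 1 * M 0 2 + M 0 1 * M 1 3 + M 0 2 * M 2 3 + M 0 3 * M 1 1 + M 0 3 * M 2 2 + (3) * M 0 3 * M 3 3 + M 1 3 * M 2 3) * h2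
  · linear_combination (M 0 0 * M 1 0 + M 0 0 * M 3 2 + M 0 2 * M 3 0 + M 1 0 * M 1 1 + M 1 0 * M 2 2 + M 1 0 * M 3 3 + M 1 1 * M 3 2 + M 1 2 * M 2 0 + M 1 2 * M 3 1 + M 1 3 * M 3 0 + M 2 2 * M 3 2 + M 3 2 * M 3 3) * h2
  · linear_combination hC03 + hC12 + ((1) + M 0 0 * M 1 1 + M 0 0 * M 2 2 + (-1) * M 0 3 * M 3 0 + M 1 1 * M 1 1 + (2) * M 1 1 * M 2 2 + M 1 1 * M 3 3 + M 1 2 * M 2 1 + M 2 2 * M 2 2 + M 2 2 * M 3 3) * h2
  · linear_combination (M 0 0 * M 1 2 + M 0 2 * M 1 0 + M 0 2 * M 3 2 + M 1 0 * M 1 3 + (3) * M 1 1 * M 1 2 + (3) * M 1 2 * M 2 2 + M 1 2 * M 3 3 + M 1 3 * M 3 2) * h2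
  · linear_combination (M 0 0 * M 0 2 + M 0 0 * M 1 3 + M 0 1 * M 1 2 + M 0 2 * M 1 1 + M 0 2 * M 2 2 + M 0 2 * M 3 3 + M 0 3 * M 1 0 + M 0 3 * M 3 2 + M 1 1 * M 1 3 + M 1 2 * M 2 3 + M 1 3 * M 2 2 + M 1 3 * M 3 3) * h2
  · linear_combination (M 0 0 * M 2 0 + M 0 0 * M 3 1 + M 0 1 * M 3 0 + M 1 0 * M 2 1 + M 1 1 * M 2 0 + M 1 1 * M 3 1 + M 2 0 * M 2 2 + M 2 0 * M 3 3 + M 2 1 * M 3 2 + M 2 2 * M 3 1 + M 2 3 * M 3 0 + M 3 1 * M 3 3) * h2
  · linear_combination (M 0 0 * M 2 1 + M 0 1 * M 2 0 + M 0 1 * M 3 1 + (3) * M 1 1 * M 2 1 + M 2 0 * M 2 3 + (3) * M 2 1 * M 2 2 + M 2 1 * M 3 3 + M 2 3 * M 3 1) * h2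
  · linear_combination hC03 + hC12 + ((1) + M 0 0 * M 1 1 + M 0 0 * M 2 2 + (-1) * M 0 3 * M 3 0 + M 1 1 * M 1 1 + (2) * M 1 1 * M 2 2 + M 1 1 * M 3 3 + M 1 2 * M 2 1 + M 2 2 * M 2 2 + M 2 2 * M 3 3) * h2
  · linear_combination (M 0 0 * M 0 1 + M 0 0 * M 2 3 + M 0 1 * M 1 1 + M 0 1 * M 2 2 + M 0 1 * M 3 3 + M 0 2 * M 2 1 + M 0 3 * M 2 0 + M 0 3 * M 3 1 + M 1 1 * M 2 3 + M 1 3 * M 2 1 + M 2 2 * M 2 3 + M 2 3 * M 3 3) * h2
  · linear_combination ((3) * M 0 0 * M 3 0 + M 1 0 * M 2 0 + M 1 0 * M 3 1 + M 1 1 * M 3 0 + M 2 0 * M 3 2 + M 2 2 * M 3 0 + (3) * M 3 0 * M 3 3 + M 3 1 * M 3 2) * h2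
  · linear_combination (M 0 0 * M 2 0 + M 0 0 * M 3 1 + M 0 1 * M 3 0 + M 1 0 * M 2 1 + M 1 1 * M 2 0 + M 1 1 * M 3 1 + M 2 0 * M 2 2 + M 2 0 * M 3 3 + M 2 1 * M 3 2 + M 2 2 * M 3 1 + M 2 3 * M 3 0 + M 3 1 * M 3 3) * h2
  · linear_combination (M 0 0 * M 1 0 + M 0 0 * M 3 2 + M 0 2 * M 3 0 + M 1 0 * M 1 1 + M 1 0 * M 2 2 + M 1 0 * M 3 3 + M 1 1 * M 3 2 + M 1 2 * M 2 0 + M 1 2 * M 3 1 + M 1 3 * M 3 0 + M 2 2 * M 3 2 + M 3 2 * M 3 3) * h2
  · linear_combination hC03 + hC12 + ((1) + M 0 0 * M 0 0 + M 0 0 * M 1 1 + M 0 0 * M 2 2 + (2) * M 0 0 * M 3 3 + M 0 3 * M 3 0 + M 1 1 * M 3 3 + (-1) * M 1 2 * M 2 1 + M 2 2 * M 3 3 + M 3 3 * M 3 3) * h2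


theorem isSp_of_mem {g : GL (Fin 4) F} (hg : g ∈ Sp4 F) : IsSp (g : Matrix (Fin 4) (Fin 4) F) :=
  fun u v => hg u v

theorem sz_prop (h2 : (2 : F) = 0) (e : ℕ) (θ : F →+* F) (hθ : ∀ x, θ x = x ^ e)
    (g : GL (Fin 4) F) (hg : g ∈ Sz F e) :
    g ∈ Sp4 F ∧ star4 (g : Matrix (Fin 4) (Fin 4) F) = (g : Matrix (Fin 4) (Fin 4) F).map θ := by
  have hfun : (fun x : F => x ^ e) = θ := by
    funext x
    exact (hθ x).symm
  unfold Sz at hg
  induction hg using Subgroup.closure_induction with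
  | mem x hx =>
    rw [← hfun]
    exact hx
  | one =>
    refine ⟨Subgroup.one_mem _, ?_⟩
    rw [Units.val_one, star4_one, Matrix.map_one _ (map_zero θ) (map_one θ)]
  | mul x y _ _ hx hy =>
    refine ⟨Subgroup.mul_mem _ hx.1 hy.1, ?_⟩
    rw [Units.val_mul, star4_mul h2 (isSp_of_mem hx.1) (isSp_of_mem hy.1), hx.2, hy.2, Matrix.map_mul]
  | inv x _ hx =>
    refine ⟨Subgroup.inv_mem _ hx.1, ?_⟩
    have hX : star4 ((x⁻¹ : GL (Fin 4) F) : Matrix (Fin 4) (Fin 4) F) * star4 (x : Matrix (Fin 4) (Fin 4) F) = 1 := by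
      rw [← star4_mul h2 (isSp_of_mem (Subgroup.inv_mem _ hx.1)) (isSp_of_mem hx.1), ← Units.val_mul,
        inv_mul_cancel, Units.val_one, star4_one]
    have hY : (x : Matrix (Fin 4) (Fin 4) F).map θ * ((x⁻¹ : GL (Fin 4) F) : Matrix (Fin 4) (Fin 4) F).map θ = 1 := by
      rw [← Matrix.map_mul, ← Units.val_mul, mul_inv_cancel, Units.val_one,
        Matrix.map_one _ (map_zero θ) (map_one θ)]
    calc star4 ((x⁻¹ : GL (Fin 4) F) : Matrix (Fin 4) (Fin 4) F)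
        = star4 ((x⁻¹ : GL (Fin 4) F) : Matrix (Fin 4) (Fin 4) F) *
            ((x : Matrix (Fin 4) (Fin 4) F).map θ * ((x⁻¹ : GL (Fin 4) F) : Matrix (Fin 4) (Fin 4) F).map θ) := by
          rw [hY, Matrix.mul_one]
      _ = (star4 ((x⁻¹ : GL (Fin 4) F) : Matrix (Fin 4) (Fin 4) F) * star4 (x : Matrix (Fin 4) (Fin 4) F)) *
            ((x⁻¹ : GL (Fin 4) F) : Matrix (Fin 4) (Fin 4) F).map θ := by
          rw [hx.2, Matrix.mul_assoc]
      _ = ((x⁻¹ : GL (Fin 4) F) : Matrix (Fin 4) (Fin 4) F).map θ := by rw [hX, Matrix.one_mul]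

theorem add_self_mat (h2 : (2 : F) = 0) (X : Matrix (Fin 4) (Fin 4) F) : X + X = 0 := by
  ext i j
  simp only [Matrix.add_apply, Matrix.zero_apply]
  linear_combination (X i j) * h2

/-- An element of the Suzuki group fixing a non-zero vector has fourth power one. -/
theorem pow_four_of_fixed (h2 : (2 : F) = 0) (θ : F →+* F)
    {M : Matrix (Fin 4) (Fin 4) F} (hM : IsSp M) (hstar : star4 M = M.map θ)
    (w : Fin 4 → F) (hw : w ≠ 0) (hfix : M *ᵥ w = w) :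
    M * M * (M * M) = 1 := by
  have hA := adj4_mul hM
  have hB := mul_adj4 hM
  have htw : (M + adj4 M) *ᵥ w = 0 := by
    have h1 : adj4 M *ᵥ w = w := by
      conv_lhs => rw [← hfix]
      rw [Matrix.mulVec_mulVec, hA, Matrix.one_mulVec]
    rw [Matrix.add_mulVec, hfix, h1]
    ext i
    simp only [Pi.add_apply, Pi.zero_apply]
    linear_combination (w i) * h2
  have hQ := Q_id h2 hM
  have hc2 : c2 M = 0 := by
    have h3 := congrArg (fun X : Matrix (Fin 4) (Fin 4) F => X *ᵥ w) hQ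
    simp only [Matrix.add_mulVec, ← Matrix.mulVec_mulVec, Matrix.smul_mulVec, htw,
      Matrix.mulVec_zero, smul_zero, zero_add, Matrix.one_mulVec, Matrix.zero_mulVec] at h3
    obtain ⟨i, hi⟩ := Function.ne_iff.mp hw
    have h4 := congrFun h3 i
    simp only [Pi.smul_apply, smul_eq_mul, Pi.zero_apply] at h4
    exact (mul_eq_zero.mp h4).resolve_right hi
  have hc1 : c1 M = 0 := by
    have e0 : star4 M 0 0 = θ (M 0 0) := by rw [hstar]; rfl
    have e1 : star4 M 1 1 = θ (M 1 1) := by rw [hstar]; rfl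
    have e2 : star4 M 2 2 = θ (M 2 2) := by rw [hstar]; rfl
    have e3 : star4 M 3 3 = θ (M 3 3) := by rw [hstar]; rfl
    have e0' : M 0 0 * M 1 1 - M 1 0 * M 0 1 = θ (M 0 0) := e0
    have e1' : M 0 0 * M 2 2 - M 2 0 * M 0 2 = θ (M 1 1) := e1
    have e2' : M 1 1 * M 3 3 - M 3 1 * M 1 3 = θ (M 2 2) := e2
    have e3' : M 2 2 * M 3 3 - M 3 2 * M 2 3 = θ (M 3 3) := e3
    have hD := D_id h2 hM
    have : θ (c1 M) = 0 := by
      rw [← hc2, c1, c2, map_add, map_add, map_add]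
      linear_combination (-1 : F) * e0' - e1' - e2' - e3' - hD
    exact (map_eq_zero θ).mp this
  rw [hc1, hc2, zero_smul, zero_smul, add_zero, add_zero] at hQ
  have h5 : M * M + adj4 M * adj4 M = 0 := by
    have : (M + adj4 M) * (M + adj4 M) = M * M + adj4 M * adj4 M + (1 + 1) := by
      rw [add_mul, mul_add, mul_add, hB, hA]
      abel
    rw [this, add_self_mat h2 1, add_zero] at hQ
    exact hQ
  have h6 : M * M = adj4 M * adj4 M := by
    calc M * M = M * M + adj4 M * adj4 M + adj4 M * adj4 M := by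
          rw [add_assoc, add_self_mat h2, add_zero]
      _ = adj4 M * adj4 M := by rw [h5, zero_add]
  calc M * M * (M * M) = M * M * (adj4 M * adj4 M) := congrArg (fun X => M * M * X) h6
    _ = M * (M * adj4 M) * adj4 M := by simp only [Matrix.mul_assoc]
    _ = 1 := by rw [hB, Matrix.mul_one, hB]


/-- Left multiplication of `4 × n` matrices by an element of `GL(4,F)`. -/
def actFun (n : ℕ) (A : GL (Fin 4) F) :
    MulAut (Multiplicative (Matrix (Fin 4) (Fin n) F)) where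
  toFun M := Multiplicative.ofAdd ((A : Matrix (Fin 4) (Fin 4) F) * Multiplicative.toAdd M)
  invFun M := Multiplicative.ofAdd (((A⁻¹ : GL (Fin 4) F) : Matrix (Fin 4) (Fin 4) F) * Multiplicative.toAdd M)
  left_inv M := by
    simp only [toAdd_ofAdd]
    rw [← Matrix.mul_assoc, ← Units.val_mul, inv_mul_cancel]
    simp
  right_inv M := by
    simp only [toAdd_ofAdd]
    rw [← Matrix.mul_assoc, ← Units.val_mul, mul_inv_cancel]
    simp
  map_mul' M M' := by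
    simp only [toAdd_mul, Matrix.mul_add, ofAdd_add]

def actGL (n : ℕ) : GL (Fin 4) F →* MulAut (Multiplicative (Matrix (Fin 4) (Fin n) F)) where
  toFun A := actFun n A
  map_one' := by
    ext M
    simp [actFun]
  map_mul' A B := by
    ext M
    simp [actFun, Matrix.mul_assoc]

def act (n e : ℕ) : ↥(Sz F e) →* MulAut (Multiplicative (Matrix (Fin 4) (Fin n) F)) :=
  (actGL n).comp (Sz F e).subtype

theorem act_apply (n e : ℕ) (x : ↥(Sz F e)) (v : Multiplicative (Matrix (Fin 4) (Fin n) F)) :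
    act n e x v = Multiplicative.ofAdd
      (((x : GL (Fin 4) F) : Matrix (Fin 4) (Fin 4) F) * Multiplicative.toAdd v) := rfl

theorem sq_eq_one_mat (h2 : (2 : F) = 0) (n : ℕ)
    (v : Multiplicative (Matrix (Fin 4) (Fin n) F)) : v ^ 2 = 1 := by
  apply Multiplicative.toAdd.injective
  rw [toAdd_pow, toAdd_one]
  ext i j
  simp only [Matrix.smul_apply, Matrix.zero_apply, nsmul_eq_mul, Nat.cast_ofNat]
  rw [h2, zero_mul]

def t0 : Matrix (Fin 4) (Fin 4) F := !![1,0,0,0; 0,1,0,0; 1,0,1,0; 1,1,0,1]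

theorem t0_mul_t0 (h2 : (2 : F) = 0) : (t0 : Matrix (Fin 4) (Fin 4) F) * t0 = 1 := by
  ext i j
  fin_cases i <;> fin_cases j <;> simp [t0, Matrix.mul_apply, Fin.sum_univ_four] <;>
    linear_combination h2

theorem star4_t0 (h2 : (2 : F) = 0) : star4 (t0 : Matrix (Fin 4) (Fin 4) F) = t0 := by
  ext p r
  rw [star4_apply]
  fin_cases p <;> fin_cases r <;> simp [pairOf, t0] <;> linear_combination - h2

theorem t0_map (e : ℕ) (he : e ≠ 0) : (t0 : Matrix (Fin 4) (Fin 4) F).map (fun x => x ^ e) = t0 := by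
  ext i j
  fin_cases i <;> fin_cases j <;> simp [t0, he]

theorem t0_isSp (h2 : (2 : F) = 0) : IsSp (t0 : Matrix (Fin 4) (Fin 4) F) := by
  intro u v
  simp [altForm4, t0, Matrix.mulVec, dotProduct, Fin.sum_univ_four]
  linear_combination (u 0 * v 0 + u 0 * v 1 + u 1 * v 0) * h2

def t0u (h2 : (2 : F) = 0) : GL (Fin 4) F := ⟨t0, t0, t0_mul_t0 h2, t0_mul_t0 h2⟩

theorem t0u_mem (h2 : (2 : F) = 0) (e : ℕ) (he : e ≠ 0) : t0u h2 ∈ Sz F e := by
  apply Subgroup.subset_closure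
  refine ⟨fun u v => t0_isSp h2 u v, ?_⟩
  change star4 (t0 : Matrix (Fin 4) (Fin 4) F) = (t0 : Matrix (Fin 4) (Fin 4) F).map (fun x => x ^ e)
  rw [star4_t0 h2, t0_map e he]

theorem two_dvd_card [Fintype F] (h2 : (2 : F) = 0) (e : ℕ) (he : e ≠ 0) :
    2 ∣ Nat.card ↥(Sz F e) := by
  have hord : orderOf (⟨t0u h2, t0u_mem h2 e he⟩ : ↥(Sz F e)) = 2 := by
    apply orderOf_eq_prime
    · apply Subtype.ext
      apply Units.ext
      rw [pow_two]
      exact t0_mul_t0 h2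
    · intro h
      have h3 := congrArg (fun A : ↥(Sz F e) => ((A : GL (Fin 4) F) : Matrix (Fin 4) (Fin 4) F) 2 0) h
      simp [t0u, t0] at h3
  have := orderOf_dvd_natCard (⟨t0u h2, t0u_mem h2 e he⟩ : ↥(Sz F e))
  rwa [hord] at this

theorem fpf_act (h2 : (2 : F) = 0) (e : ℕ) (θ : F →+* F) (hθ : ∀ x, θ x = x ^ e) (n : ℕ)
    (x : ↥(Sz F e)) (r : ℕ) (hr : r.Prime) (hr2 : r ≠ 2) (hx : orderOf x = r)
    (v : Multiplicative (Matrix (Fin 4) (Fin n) F)) (hv : act n e x v = v) : v = 1 := by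
  by_contra hne
  have hW : Multiplicative.toAdd v ≠ 0 := by
    intro h
    apply hne
    exact Multiplicative.toAdd.injective h
  have hfix : ((x : GL (Fin 4) F) : Matrix (Fin 4) (Fin 4) F) * Multiplicative.toAdd v
      = Multiplicative.toAdd v := by
    have := congrArg Multiplicative.toAdd hv
    rwa [act_apply, toAdd_ofAdd] at this
  obtain ⟨i, j, hij⟩ : ∃ i j, Multiplicative.toAdd v i j ≠ 0 := by
    by_contra hall
    push Not at hall
    apply hW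
    ext i j
    exact hall i j
  obtain ⟨hsp, hstar⟩ := sz_prop h2 e θ hθ (x : GL (Fin 4) F) x.2
  have hw : (fun k => Multiplicative.toAdd v k j) ≠ 0 := by
    intro h
    exact hij (congrFun h i)
  have hfixw : ((x : GL (Fin 4) F) : Matrix (Fin 4) (Fin 4) F) *ᵥ (fun k => Multiplicative.toAdd v k j)
      = (fun k => Multiplicative.toAdd v k j) := by
    ext k
    exact congrFun (congrFun hfix k) j
  have h4 := pow_four_of_fixed h2 θ (isSp_of_mem hsp) hstar _ hw hfixw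
  have hx4 : x ^ 4 = 1 := by
    apply Subtype.ext
    apply Units.ext
    have : x ^ 4 = x * x * (x * x) := by
      simp only [pow_succ, pow_zero, one_mul, mul_assoc]
    rw [this]
    exact h4
  have hdvd := orderOf_dvd_of_pow_eq_one hx4
  rw [hx] at hdvd
  have : r ∣ 2 := by
    have h22 : (4 : ℕ) = 2 ^ 2 := by norm_num
    rw [h22] at hdvd
    exact hr.dvd_of_dvd_pow hdvd
  exact hr2 ((Nat.prime_dvd_prime_iff_eq hr Nat.prime_two).mp this)


/-- Let S be the Suzuki group over the field with q = 2^(2m+1) ≥ 8 elements. Then there are finite groups of arbitrarily large order with the same prime graph as S. -/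
theorem result {F : Type*} [Field F] [Fintype F] {m : ℕ} (hm : 1 ≤ m) (hF : Fintype.card F = 2 ^ (2 * m + 1)) (N : ℕ) :
    ∃ (H : Type) (_ : Group H) (_ : Fintype H), N < Fintype.card H ∧ ((∀ r : ℕ, r.Prime → (r ∣ Nat.card ↥(Cfsg.Lie.Sz F (2 ^ (m + 1))) ↔ r ∣ Nat.card H)) ∧
      (∀ r s : ℕ, r.Prime → s.Prime → r ≠ s → ((∃ x : ↥(Cfsg.Lie.Sz F (2 ^ (m + 1))), orderOf x = r * s) ↔ (∃ y : H, orderOf y = r * s)))) := by
  classical
  have h2 : (2 : F) = 0 := by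
    have h := Nat.cast_card_eq_zero F
    rw [hF] at h
    push_cast at h
    exact (pow_eq_zero_iff (by omega)).mp h
  have : CharP F 2 := CharTwo.of_one_ne_zero_of_two_eq_zero one_ne_zero h2
  have he : (2 : ℕ) ^ (m + 1) ≠ 0 := pow_ne_zero _ (by norm_num)
  have hθ : ∀ x : F, iterateFrobenius F 2 (m + 1) x = x ^ (2 ^ (m + 1)) := fun x =>
    iterateFrobenius_def 2 (m + 1) x
  have : Finite (Multiplicative (Matrix (Fin 4) (Fin N) F)) :=
    Finite.of_equiv (Matrix (Fin 4) (Fin N) F) Multiplicative.ofAdd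
  have := Cfsg.Agent.Lib.Helper60.finite_semidirect (act (F := F) N (2 ^ (m + 1)))
  have hsame := Cfsg.Agent.Lib.Helper60.samePrimeGraph_semidirect (act (F := F) N (2 ^ (m + 1)))
    (sq_eq_one_mat h2 N) (two_dvd_card h2 _ he)
    (fpf_act h2 (2 ^ (m + 1)) (iterateFrobenius F 2 (m + 1)) hθ N)
  have hsame2 := hsame.congr_right
    (Shrink.mulEquiv.{0} (α := Multiplicative (Matrix (Fin 4) (Fin N) F) ⋊[act (F := F) N (2 ^ (m + 1))]
      ↥(Cfsg.Lie.Sz F (2 ^ (m + 1))))).symm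
  refine ⟨Shrink.{0} (Multiplicative (Matrix (Fin 4) (Fin N) F) ⋊[act (F := F) N (2 ^ (m + 1))]
      ↥(Cfsg.Lie.Sz F (2 ^ (m + 1)))), inferInstance, Fintype.ofFinite _, ?_, hsame2⟩
  rw [Fintype.card_eq_nat_card,
    Nat.card_congr (Shrink.mulEquiv.{0} (α := Multiplicative (Matrix (Fin 4) (Fin N) F) ⋊[act (F := F) N (2 ^ (m + 1))]
      ↥(Cfsg.Lie.Sz F (2 ^ (m + 1))))).toEquiv, SemidirectProduct.card]
  have hV : Nat.card (Multiplicative (Matrix (Fin 4) (Fin N) F)) = Fintype.card F ^ (4 * N) := by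
    rw [Nat.card_congr (Multiplicative.toAdd : Multiplicative (Matrix (Fin 4) (Fin N) F) ≃ _),
      Nat.card_eq_fintype_card]
    change Fintype.card (Fin 4 → Fin N → F) = _
    rw [Fintype.card_fun, Fintype.card_fun, Fintype.card_fin, Fintype.card_fin, ← pow_mul, mul_comm]
  rw [hV]
  have hL : 0 < Nat.card ↥(Cfsg.Lie.Sz F (2 ^ (m + 1))) := Nat.card_pos
  have h1 : N < 2 ^ N := Nat.lt_two_pow_self
  have hF2 : 2 ≤ Fintype.card F := by
    rw [hF]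
    calc 2 = 2 ^ 1 := by norm_num
      _ ≤ 2 ^ (2 * m + 1) := Nat.pow_le_pow_right (by norm_num) (by omega)
  have h3 : 2 ^ N ≤ Fintype.card F ^ (4 * N) := by
    calc 2 ^ N ≤ Fintype.card F ^ N := Nat.pow_le_pow_left hF2 N
      _ ≤ Fintype.card F ^ (4 * N) := Nat.pow_le_pow_right (by omega) (by omega)
  calc N < Fintype.card F ^ (4 * N) := lt_of_lt_of_le h1 h3
    _ ≤ Fintype.card F ^ (4 * N) * Nat.card ↥(Cfsg.Lie.Sz F (2 ^ (m + 1))) :=
      Nat.le_mul_of_pos_right _ hL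

end Cfsg.Agent.S3639
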