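import Cfsg.Statements.S3660
import Cfsg.Agent.Lib.Helper60.PrimeGraphExt

set_option autoImplicit false
open Cfsg

namespace Cfsg.Agent.S3660

open Matrix

/-- Left multiplication of `2 × n` matrices by an element of `SL(2,F)`, as an automorphism of the
multiplicative version of the additive group of matrices. -/
def actFun {F : Type*} [Field F] (n : ℕ) (A : Matrix.SpecialLinearGroup (Fin 2) F) :
    MulAut (Multiplicative (Matrix (Fin 2) (Fin n) F)) where
  toFun M := Multiplicative.ofAdd ((A : Matrix (Fin 2) (Fin 2) F) * Multiplicative.toAdd M)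
  invFun M := Multiplicative.ofAdd (((A⁻¹ : Matrix.SpecialLinearGroup (Fin 2) F) : Matrix (Fin 2) (Fin 2) F) * Multiplicative.toAdd M)
  left_inv M := by
    simp only [toAdd_ofAdd]
    rw [← Matrix.mul_assoc, ← Matrix.SpecialLinearGroup.coe_mul, inv_mul_cancel]
    simp
  right_inv M := by
    simp only [toAdd_ofAdd]
    rw [← Matrix.mul_assoc, ← Matrix.SpecialLinearGroup.coe_mul, mul_inv_cancel]
    simp
  map_mul' M M' := by
    simp only [toAdd_mul, Matrix.mul_add, ofAdd_add]

def act {F : Type*} [Field F] (n : ℕ) :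
    Matrix.SpecialLinearGroup (Fin 2) F →* MulAut (Multiplicative (Matrix (Fin 2) (Fin n) F)) where
  toFun A := actFun n A
  map_one' := by
    ext M
    simp [actFun]
  map_mul' A B := by
    ext M
    simp [actFun, Matrix.mul_assoc]

theorem act_apply {F : Type*} [Field F] (n : ℕ) (A : Matrix.SpecialLinearGroup (Fin 2) F)
    (M : Multiplicative (Matrix (Fin 2) (Fin n) F)) :
    act n A M = Multiplicative.ofAdd ((A : Matrix (Fin 2) (Fin 2) F) * Multiplicative.toAdd M) := rfl




theorem two_eq_zero' {F : Type*} [Field F] [CharP F 2] : (2 : F) = 0 := by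
  have := CharP.cast_eq_zero F 2
  simpa using this

theorem center_eq_bot {F : Type*} [Field F] [CharP F 2] :
    Subgroup.center (Matrix.SpecialLinearGroup (Fin 2) F) = ⊥ := by
  rw [eq_bot_iff]
  intro A hA
  rw [Matrix.SpecialLinearGroup.mem_center_iff] at hA
  obtain ⟨r, hr, hrA⟩ := hA
  simp only [Fintype.card_fin] at hr
  have h2 : (2 : F) = 0 := two_eq_zero'
  have hr1 : r = 1 := by
    have : (r - 1) ^ 2 = 0 := by linear_combination hr + (1 - r) * h2
    have := pow_eq_zero_iff (two_ne_zero) |>.mp this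
    linear_combination this
  rw [Subgroup.mem_bot]
  apply Subtype.ext
  rw [← hrA, hr1]
  simp

noncomputable def pslEquiv {F : Type*} [Field F] [CharP F 2] :
    Matrix.ProjectiveSpecialLinearGroup (Fin 2) F ≃* Matrix.SpecialLinearGroup (Fin 2) F :=
  (QuotientGroup.quotientMulEquivOfEq center_eq_bot).trans QuotientGroup.quotientBot

/-- The involution `[[1,1],[0,1]]`. -/
def invol {F : Type*} [Field F] : Matrix.SpecialLinearGroup (Fin 2) F :=
  ⟨!![1, 1; 0, 1], by simp [Matrix.det_fin_two]⟩

theorem orderOf_invol {F : Type*} [Field F] [CharP F 2] : orderOf (invol : Matrix.SpecialLinearGroup (Fin 2) F) = 2 := by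
  have h2 : (2 : F) = 0 := two_eq_zero'
  apply orderOf_eq_prime
  · apply Subtype.ext
    rw [pow_two, Matrix.SpecialLinearGroup.coe_mul]
    simp only [invol, Matrix.SpecialLinearGroup.coe_one]
    ext i j
    fin_cases i <;> fin_cases j <;> simp [Matrix.mul_apply, Fin.sum_univ_two]
    linear_combination h2
  · intro h
    have := congrArg (fun A : Matrix.SpecialLinearGroup (Fin 2) F => (A : Matrix (Fin 2) (Fin 2) F) 0 1) h
    simp [invol] at this

theorem two_dvd_card {F : Type*} [Field F] [Fintype F] [CharP F 2] :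
    2 ∣ Nat.card (Matrix.SpecialLinearGroup (Fin 2) F) := by
  have := orderOf_dvd_natCard (invol : Matrix.SpecialLinearGroup (Fin 2) F)
  rwa [orderOf_invol] at this

/-- An element of `SL(2,F)` in characteristic two fixing a non-zero vector squares to one. -/
theorem sq_eq_one_of_fixed {F : Type*} [Field F] [CharP F 2] (A : Matrix.SpecialLinearGroup (Fin 2) F)
    (v0 v1 : F) (hv : v0 ≠ 0 ∨ v1 ≠ 0)
    (h0 : (A : Matrix (Fin 2) (Fin 2) F) 0 0 * v0 + (A : Matrix (Fin 2) (Fin 2) F) 0 1 * v1 = v0)
    (h1 : (A : Matrix (Fin 2) (Fin 2) F) 1 0 * v0 + (A : Matrix (Fin 2) (Fin 2) F) 1 1 * v1 = v1) :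
    A ^ 2 = 1 := by
  have h2 : (2 : F) = 0 := two_eq_zero'
  have hdet : (A : Matrix (Fin 2) (Fin 2) F) 0 0 * (A : Matrix (Fin 2) (Fin 2) F) 1 1
      - (A : Matrix (Fin 2) (Fin 2) F) 0 1 * (A : Matrix (Fin 2) (Fin 2) F) 1 0 = 1 := by
    have := A.2
    rwa [Matrix.det_fin_two] at this
  set a := (A : Matrix (Fin 2) (Fin 2) F) 0 0 with ha
  set b := (A : Matrix (Fin 2) (Fin 2) F) 0 1 with hb
  set c := (A : Matrix (Fin 2) (Fin 2) F) 1 0 with hc
  set d := (A : Matrix (Fin 2) (Fin 2) F) 1 1 with hd
  have htr : a + d = 0 := by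
    have key : ((a - 1) * (d - 1) - b * c) = 0 := by
      rcases hv with hv | hv
      · have : ((a - 1) * (d - 1) - b * c) * v0 = 0 := by
          linear_combination (d - 1) * h0 - b * h1
        exact (mul_eq_zero.mp this).resolve_right hv
      · have : ((a - 1) * (d - 1) - b * c) * v1 = 0 := by
          linear_combination (a - 1) * h1 - c * h0
        exact (mul_eq_zero.mp this).resolve_right hv
    linear_combination hdet - key + h2
  apply Subtype.ext
  rw [pow_two, Matrix.SpecialLinearGroup.coe_mul, Matrix.SpecialLinearGroup.coe_one]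
  ext i j
  fin_cases i <;> fin_cases j <;> simp [Matrix.mul_apply, Fin.sum_univ_two, ← ha, ← hb, ← hc, ← hd]
  · linear_combination hdet + a * htr + b * c * h2 - a * d * h2
  · linear_combination b * htr
  · linear_combination c * htr
  · linear_combination hdet + d * htr + b * c * h2 - a * d * h2


theorem fpf_act {F : Type*} [Field F] [CharP F 2] (n : ℕ)
    (x : Matrix.SpecialLinearGroup (Fin 2) F) (r : ℕ) (hr : r.Prime) (hr2 : r ≠ 2) (hx : orderOf x = r)
    (v : Multiplicative (Matrix (Fin 2) (Fin n) F)) (hv : act n x v = v) : v = 1 := by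
  by_contra hne
  have hM : Multiplicative.toAdd v ≠ 0 := by
    intro h
    apply hne
    exact Multiplicative.toAdd.injective h
  have hfix : (x : Matrix (Fin 2) (Fin 2) F) * Multiplicative.toAdd v = Multiplicative.toAdd v := by
    have := congrArg Multiplicative.toAdd hv
    rwa [act_apply, toAdd_ofAdd] at this
  obtain ⟨j, hj⟩ : ∃ j, Multiplicative.toAdd v 0 j ≠ 0 ∨ Multiplicative.toAdd v 1 j ≠ 0 := by
    by_contra hall
    push Not at hall
    apply hM
    ext i j
    fin_cases i
    · exact (hall j).1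
    · exact (hall j).2
  have h0 := congrFun (congrFun hfix 0) j
  have h1 := congrFun (congrFun hfix 1) j
  rw [Matrix.mul_apply, Fin.sum_univ_two] at h0 h1
  have hsq := sq_eq_one_of_fixed x _ _ hj h0 h1
  have hdvd := orderOf_dvd_of_pow_eq_one hsq
  rw [hx] at hdvd
  exact hr2 ((Nat.prime_dvd_prime_iff_eq hr Nat.prime_two).mp hdvd)

theorem sq_eq_one_mat {F : Type*} [Field F] [CharP F 2] (n : ℕ)
    (v : Multiplicative (Matrix (Fin 2) (Fin n) F)) : v ^ 2 = 1 := by
  apply Multiplicative.toAdd.injective
  rw [toAdd_pow, toAdd_one]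
  ext i j
  have h2 : (2 : F) = 0 := two_eq_zero'
  simp only [Matrix.smul_apply, Matrix.zero_apply, nsmul_eq_mul, Nat.cast_ofNat]
  rw [h2, zero_mul]

/-- The prime graph of a finite group has the prime divisors of its order as vertices, two distinct primes p, q being joined when the group has an element of order pq; two groups have the same prime graph when they have the same prime divisors and the same joined pairs. Let F be a finite field of characteristic 2 with at least 4 elements. Then there are finite groups of arbitrarily large order with the same prime graph as PSL(2,F); in particular PSL(2,F) is not determined by its prime graph. -/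
theorem result {F : Type*} [Field F] [Fintype F] [CharP F 2] (hF : 4 ≤ Fintype.card F) (N : ℕ) :
    ∃ (H : Type) (_ : Group H) (_ : Finite H), N < Nat.card H ∧
      ((∀ p : ℕ, p.Prime → (p ∣ Nat.card (Matrix.ProjectiveSpecialLinearGroup (Fin 2) F) ↔ p ∣ Nat.card H)) ∧
      (∀ p q : ℕ, p.Prime → q.Prime → p ≠ q → ((∃ g : (Matrix.ProjectiveSpecialLinearGroup (Fin 2) F), orderOf g = p * q) ↔ (∃ g : H, orderOf g = p * q)))) := by
  classical
  have : Finite (Multiplicative (Matrix (Fin 2) (Fin N) F)) :=
    Finite.of_equiv (Matrix (Fin 2) (Fin N) F) Multiplicative.ofAdd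
  have := Cfsg.Agent.Lib.Helper60.finite_semidirect (act (F := F) N)
  have hsame := Cfsg.Agent.Lib.Helper60.samePrimeGraph_semidirect (act (F := F) N)
    (sq_eq_one_mat N) two_dvd_card (fpf_act N)
  have hsame2 := (hsame.congr_left (pslEquiv (F := F)).symm).congr_right
    (Shrink.mulEquiv.{0} (α := Multiplicative (Matrix (Fin 2) (Fin N) F) ⋊[act (F := F) N]
      Matrix.SpecialLinearGroup (Fin 2) F)).symm
  refine ⟨Shrink.{0} (Multiplicative (Matrix (Fin 2) (Fin N) F) ⋊[act (F := F) N]
      Matrix.SpecialLinearGroup (Fin 2) F), inferInstance, inferInstance, ?_, hsame2⟩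
  rw [Nat.card_congr (Shrink.mulEquiv.{0} (α := Multiplicative (Matrix (Fin 2) (Fin N) F) ⋊[act (F := F) N]
      Matrix.SpecialLinearGroup (Fin 2) F)).toEquiv, SemidirectProduct.card]
  have hV : Nat.card (Multiplicative (Matrix (Fin 2) (Fin N) F)) = Fintype.card F ^ (2 * N) := by
    rw [Nat.card_congr (Multiplicative.toAdd : Multiplicative (Matrix (Fin 2) (Fin N) F) ≃ _),
      Nat.card_eq_fintype_card]
    change Fintype.card (Fin 2 → Fin N → F) = _
    rw [Fintype.card_fun, Fintype.card_fun, Fintype.card_fin, Fintype.card_fin, ← pow_mul, mul_comm]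
  rw [hV]
  have hL : 0 < Nat.card (Matrix.SpecialLinearGroup (Fin 2) F) := Nat.card_pos
  have h1 : N < 2 ^ N := Nat.lt_two_pow_self
  have h2 : 2 ^ N ≤ Fintype.card F ^ (2 * N) := by
    calc 2 ^ N ≤ Fintype.card F ^ N := Nat.pow_le_pow_left (by omega) N
      _ ≤ Fintype.card F ^ (2 * N) := Nat.pow_le_pow_right (by omega) (by omega)
  calc N < Fintype.card F ^ (2 * N) := lt_of_lt_of_le h1 h2
    _ ≤ Fintype.card F ^ (2 * N) * Nat.card (Matrix.SpecialLinearGroup (Fin 2) F) :=
      Nat.le_mul_of_pos_right _ hL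

end Cfsg.Agent.S3660
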