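import Cfsg.Statements.S3662
import Cfsg.Agent.Lib.Helper58.G24Main
import Cfsg.Agent.Lib.Helper58.G2Transfer

set_option autoImplicit false
open Cfsg

namespace Cfsg.Agent.S3662

open Cfsg.Lie Cfsg.Agent.Lib.Helper14.SU32 Cfsg.Agent.Lib.Helper58

/-- the Chevalley group over any field with four elements is the concrete group -/
noncomputable def toDs {F : Type*} [Field F] [Fintype F] (hF : Fintype.card F = 4) :
    ↥G24Levels.Ds ≃* ↥(chevG2.group F) :=
  G24Levels.toChev.trans
    (G2Transfer.groupEquiv chevG2
      (FiniteField.ringEquivOfCardEq (K := F4c) (K' := F) (by rw [F4c.card_eq, hF])))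

/-- The prime graph of a finite group has the prime divisors of its order as vertices, two distinct primes p, q being joined when the group has an element of order pq; two groups have the same prime graph when they have the same prime divisors and the same joined pairs. Let F be the field with 4 elements and L the Chevalley group of type G₂ over F. There are finite groups of arbitrarily large order with the same prime graph as L. -/
theorem result {F : Type*} [Field F] [Fintype F] (hF : Fintype.card F = 4) (N : ℕ) :
    ∃ (H : Type) (_ : Group H) (_ : Finite H), N < Nat.card H ∧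
      ((∀ p : ℕ, p.Prime → (p ∣ Nat.card ↥(Cfsg.Lie.chevG2.group F) ↔ p ∣ Nat.card H)) ∧
      (∀ p q : ℕ, p.Prime → q.Prime → p ≠ q → ((∃ g : ↥(Cfsg.Lie.chevG2.group F), orderOf g = p * q) ↔ (∃ g : H, orderOf g = p * q)))) := by
  classical
  have hfin := Cfsg.Agent.Lib.Helper60.finite_semidirect (G24Main.phi N)
  have hsame := ((G24Main.same_graph N).congr_left (toDs hF)).congr_right
    (Shrink.mulEquiv.{0} (α := G24Main.W N ⋊[G24Main.phi N] ↥G24Levels.Ds)).symm
  refine ⟨Shrink.{0} (G24Main.W N ⋊[G24Main.phi N] ↥G24Levels.Ds), inferInstance, inferInstance, ?_, hsame⟩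
  rw [Nat.card_congr (Shrink.mulEquiv.{0} (α := G24Main.W N ⋊[G24Main.phi N] ↥G24Levels.Ds)).toEquiv]
  exact G24Main.card_ext N

end Cfsg.Agent.S3662
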