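import Cfsg.Statements.S3663
import Cfsg.Agent.Lib.Helper58.U34Mod
import Cfsg.Agent.Lib.Helper58.SUTransfer

set_option autoImplicit false
open Cfsg

namespace Cfsg.Agent.S3663

open Cfsg.Agent.Lib.Helper58 Cfsg.Agent.Lib.Helper58.U34Field

/-- the projective special unitary group over any field with sixteen elements is the concrete group -/
noncomputable def toL {F : Type*} [Field F] [Fintype F] (hF : Fintype.card F = 16) :
    ↥U34Elts.SUc ≃* Cfsg.PSU 3 F 4 :=
  (SUTransfer.psuEquiv 3 4
    (FiniteField.ringEquivOfCardEq (K := F) (K' := F16c) (by rw [hF, F16c.card_eq]))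
    U34Elts.center_eq_bot).symm

/-- The prime graph of a finite group has the prime divisors of its order as vertices, two distinct primes p, q being joined when the group has an element of order pq; two groups have the same prime graph when they have the same prime divisors and the same joined pairs. Let F be the field with 16 elements and L = PSU(3,4) realised over F. There are finite groups of arbitrarily large order with the same prime graph as L. -/
theorem result {F : Type*} [Field F] [Fintype F] (hF : Fintype.card F = 16) (N : ℕ) :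
    ∃ (H : Type) (_ : Group H) (_ : Finite H), N < Nat.card H ∧
      ((∀ p : ℕ, p.Prime → (p ∣ Nat.card (Cfsg.PSU 3 F 4) ↔ p ∣ Nat.card H)) ∧
      (∀ p q : ℕ, p.Prime → q.Prime → p ≠ q → ((∃ g : (Cfsg.PSU 3 F 4), orderOf g = p * q) ↔ (∃ g : H, orderOf g = p * q)))) := by
  classical
  have hfin := Cfsg.Agent.Lib.Helper60.finite_semidirect (U34Mod.phi N)
  have hsame := ((U34Mod.same_graph N).congr_left (toL hF)).congr_right
    (Shrink.mulEquiv.{0} (α := U34Mod.W N ⋊[U34Mod.phi N] ↥U34Elts.SUc)).symm
  refine ⟨Shrink.{0} (U34Mod.W N ⋊[U34Mod.phi N] ↥U34Elts.SUc), inferInstance, inferInstance, ?_, hsame⟩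
  rw [Nat.card_congr (Shrink.mulEquiv.{0} (α := U34Mod.W N ⋊[U34Mod.phi N] ↥U34Elts.SUc)).toEquiv]
  exact U34Mod.card_ext N

end Cfsg.Agent.S3663
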