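-- Statement S3669: a group of order 60 with the character degree graph of A5 is A5.
import Cfsg.Statements.S3669
import Cfsg.Agent.Lib.Helper39.Sixty
import Cfsg.Agent.Lib.Helper39.SixtySolv
import Cfsg.Agent.Lib.Helper79.Ito
import Cfsg.Agent.Lib.Helper48.Order120
import Cfsg.Agent.Lib.Helper5.Order60

set_option autoImplicit false
open Cfsg

namespace Cfsg.Agent.S3669

section Aux

/-- The value at one of an irreducible character is its degree. -/
theorem irr_one_eq_charDegree {G : Type*} [Group G] (χ : Cfsg.IrrCharacter G) :
    (χ : G → ℂ) 1 = (Cfsg.charDegree (χ : G → ℂ) : ℂ) := by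
  obtain ⟨m, ρ, _, hρ⟩ := χ.2
  have h1 : (χ : G → ℂ) 1 = (m : ℂ) := by
    rw [← hρ, Representation.char_one]; simp
  rw [h1]
  unfold Cfsg.charDegree
  rw [h1, Complex.natCast_re, Nat.floor_natCast]

/-- The alternating group of degree 5 has an irreducible character of degree divisible by 5. -/
theorem five_mem_degreePrimes_A5 : (5 : ℕ) ∈ Cfsg.degreePrimes (alternatingGroup (Fin 5)) := by
  have hcardA : Nat.card (alternatingGroup (Fin 5)) = 60 := by
    rw [nat_card_alternatingGroup]
    simp [Nat.factorial]
  have : IsSimpleGroup (alternatingGroup (Fin 5)) := alternatingGroup.isSimpleGroup (by simp)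
  obtain ⟨χ, hχ, hχ1⟩ := Cfsg.Agent.Lib.Helper39.exists_irr_degree_five_of_simple hcardA
  refine ⟨by norm_num, 5, ⟨⟨χ, hχ⟩, ?_⟩, dvd_refl 5⟩
  unfold Cfsg.charDegree
  show ⌊(χ 1).re⌋₊ = 5
  rw [hχ1]
  norm_num

end Aux

/-- The character degree graph of a finite group has as vertices the primes dividing some irreducible complex character degree, two distinct primes being joined when their product divides some irreducible character degree; two groups have the same character degree graph when they have the same vertices and the same joined pairs. A finite group of order 60 with the same character degree graph as the alternating group A₅ (whose character degrees are 1, 3, 4, 5, so the graph has vertices 2, 3, 5 and no edges) is isomorphic to A₅. -/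
theorem result {G : Type*} [Group G] [Finite G] (hcard : Nat.card G = 60)
    (hΓ : Cfsg.degreePrimes G = Cfsg.degreePrimes (alternatingGroup (Fin 5)) ∧ Cfsg.degreeGraph G = Cfsg.degreeGraph (alternatingGroup (Fin 5))) : Nonempty (G ≃* alternatingGroup (Fin 5)) := by
  classical
  have : Fact (Nat.Prime 5) := ⟨by norm_num⟩
  have hA := five_mem_degreePrimes_A5
  rw [← hΓ.1] at hA
  obtain ⟨_, d, ⟨χ, hd⟩, h5d⟩ := hA
  have hns : ¬ Group.IsSolvable G := by
    intro hs
    obtain ⟨P⟩ : Nonempty (Sylow 5 G) := Sylow.nonempty
    have hPn := Cfsg.Agent.Lib.Helper39.sylow_five_normal_of_solvable 60 G hcard (dvd_refl 60) hs P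
    have hPc : Nat.card (P : Subgroup G) = 5 :=
      Cfsg.Agent.Lib.Helper39.card_sylow_five_of_sixty hcard P
    have : IsCyclic (P : Subgroup G) := isCyclic_of_prime_card hPc
    have hab : ∀ a ∈ (P : Subgroup G), ∀ b ∈ (P : Subgroup G), a * b = b * a :=
      fun a ha b hb => setLike_mul_comm (s := (P : Subgroup G)) ha hb
    have : Fintype G := Fintype.ofFinite G
    have h1 : (χ : G → ℂ) 1 = (d : ℂ) := by rw [irr_one_eq_charDegree, hd]
    have hdvd := Cfsg.Agent.Lib.Helper79.ito_aux 60 G hcard (P : Subgroup G) hab (χ : G → ℂ) χ.2 d h1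
    have hidx : (P : Subgroup G).index = 12 := by
      have := (P : Subgroup G).card_mul_index
      rw [hPc, hcard] at this
      omega
    rw [hidx] at hdvd
    have : 5 ∣ 12 := h5d.trans hdvd
    norm_num at this
  have := Cfsg.Agent.Lib.Helper48.O120.simple_of_card_sixty hcard hns
  exact Cfsg.Agent.Lib.Helper5.mulEquiv_alternatingGroup_five_of_card_eq_sixty hcard

end Cfsg.Agent.S3669
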