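import Cfsg.Statements.S3678
import Cfsg.Agent.S2475
import Cfsg.Agent.S0261
import Cfsg.Agent.Lib.Helper38.SLCard
import Cfsg.Agent.Lib.Helper41.SemiAff

set_option autoImplicit false
open Cfsg

namespace Cfsg.Agent.S3678

open Cfsg.Agent.Lib.Helper41

local notation "SL₂(" F ")" => Matrix.SpecialLinearGroup (Fin 2) F
local notation "PSL₂(" F ")" => Matrix.ProjectiveSpecialLinearGroup (Fin 2) F

section CharTwo

variable {K : Type*} [Field K]

theorem sq_eq_one_of_tr2 (h20 : (2 : K) = 0) (g : SL₂(K)) (ht : tr2 g = 0) : g ^ 2 = 1 := by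
  apply Subtype.ext
  rw [pow_two, Matrix.SpecialLinearGroup.coe_mul, mat2_sq_eq _ g.det_coe, ← tr2_eq_trace, ht,
    zero_smul, zero_sub]
  have : (-1 : K) = 1 := by linear_combination -h20
  ext i j
  fin_cases i <;> fin_cases j <;> simp [this]

theorem fpf_of_tr2_ne_zero (h20 : (2 : K) = 0) (g : SL₂(K)) (ht : tr2 g ≠ 0) (u : Fin 2 → K)
    (hu : g • u = u) : u = 0 := by
  have hdet := sl2_det g
  have e0 := congrFun hu 0
  have e1 := congrFun hu 1
  simp only [Matrix.SpecialLinearGroup.smul_def, Matrix.smul_eq_mulVec, Matrix.mulVec,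
    dotProduct, Fin.sum_univ_two] at e0 e1
  rw [tr2] at ht
  have h0 : (g 0 0 + g 1 1) * u 0 = 0 := by
    linear_combination (-(g 1 1) + 1) * e0 + g 0 1 * e1 + u 0 * hdet + u 0 * h20
  have h1 : (g 0 0 + g 1 1) * u 1 = 0 := by
    linear_combination g 1 0 * e0 + (-(g 0 0) + 1) * e1 + u 1 * hdet + u 1 * h20
  funext i
  fin_cases i
  · exact (mul_eq_zero.mp h0).resolve_left ht
  · exact (mul_eq_zero.mp h1).resolve_left ht

theorem pow_of_tr2_ne_zero [Fintype K] (hK : Fintype.card K = 8) (h20 : (2 : K) = 0)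
    (g : SL₂(K)) (ht : tr2 g ≠ 0) : g ^ 7 = 1 ∨ g ^ 9 = 1 := by
  obtain ⟨l, hl0, hl, hlq⟩ := exists_eigen (tr2 g)
  rw [hK] at hlq
  have h20' : (2 : AlgebraicClosure K) = 0 := by
    have := congrArg (algebraMap K (AlgebraicClosure K)) h20
    rwa [map_ofNat, map_zero] at this
  have hl2 : l ^ 2 ≠ 1 := by
    intro h
    apply ht
    have h1 : (l + 1) ^ 2 = 0 := by linear_combination h + (l + 1) * h20'
    have h2 : l + 1 = 0 := pow_eq_zero_iff (two_ne_zero) |>.mp h1
    have h3 : l = 1 := by linear_combination h2 - h20'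
    rw [h3, inv_one] at hl
    apply (algebraMap K (AlgebraicClosure K)).injective
    rw [← hl, map_zero]
    linear_combination h20'
  rcases hlq with h | h
  · left
    exact (Cfsg.Agent.S0261.sl2_pow_eq_one_iff_eigen _ hl0 hl hl2 7).mpr h
  · right
    exact (Cfsg.Agent.S0261.sl2_pow_eq_one_iff_eigen _ hl0 hl hl2 9).mpr h

/-- Every element of `(K²)^k ⋊ SL₂(K)`, `|K| = 8`, has order dividing `4`, `7` or `9`. -/
theorem pow_cases [Fintype K] (hK : Fintype.card K = 8) (h20 : (2 : K) = 0) (k : ℕ)
    (x : SemiAff (SL₂(K)) (Fin k → (Fin 2 → K))) : x ^ 4 = 1 ∨ x ^ 7 = 1 ∨ x ^ 9 = 1 := by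
  by_cases ht : tr2 x.g = 0
  · left
    apply SemiAff.pow_four_eq_one x (sq_eq_one_of_tr2 h20 _ ht)
    intro w
    funext i j
    show w i j + w i j = 0
    linear_combination w i j * h20
  · have hfpf : ∀ w : Fin k → (Fin 2 → K), x.g • w = w → w = 0 := by
      intro w hw
      funext i
      exact fpf_of_tr2_ne_zero h20 x.g ht (w i) (congrFun hw i)
    rcases pow_of_tr2_ne_zero hK h20 x.g ht with h | h
    · right; left
      exact SemiAff.pow_eq_one_of_fpf x 7 h hfpf
    · right; right
      exact SemiAff.pow_eq_one_of_fpf x 9 h hfpf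

end CharTwo

theorem not_mul_dvd (p q : ℕ) (hp : p.Prime) (hq : q.Prime) (hpq : p ≠ q) :
    ¬ p * q ∣ 4 ∧ ¬ p * q ∣ 7 ∧ ¬ p * q ∣ 9 ∧ ¬ p * q ∣ 3 := by
  have key : ∀ (r e : ℕ), r.Prime → ¬ p * q ∣ r ^ e := by
    intro r e hr h
    have h1 : p ∣ r ^ e := (Dvd.intro _ rfl).trans h
    have h2 : q ∣ r ^ e := (Dvd.intro_left _ rfl).trans h
    have e1 := (Nat.prime_dvd_prime_iff_eq hp hr).mp (hp.dvd_of_dvd_pow h1)
    have e2 := (Nat.prime_dvd_prime_iff_eq hq hr).mp (hq.dvd_of_dvd_pow h2)
    exact hpq (e1.trans e2.symm)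
  refine ⟨?_, ?_, ?_, ?_⟩
  · exact key 2 2 Nat.prime_two
  · have := key 7 1 (by norm_num); simpa using this
  · exact key 3 2 Nat.prime_three
  · have := key 3 1 Nat.prime_three; simpa using this

/-- In a finite group, a prime divides the order iff it is an element order. -/
theorem prime_dvd_card_iff {G : Type*} [Group G] [Finite G] (p : ℕ) (hp : p.Prime) :
    p ∣ Nat.card G ↔ p ∈ Set.range (orderOf : G → ℕ) := by
  constructor
  · intro h
    have : Fact p.Prime := ⟨hp⟩
    obtain ⟨g, hg⟩ := exists_prime_orderOf_dvd_card' p h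
    exact ⟨g, hg⟩
  · rintro ⟨g, rfl⟩
    exact orderOf_dvd_natCard g

/-- The prime graph of a finite group has the prime divisors of its order as vertices, two distinct primes p, q being joined when the group has an element of order pq; two groups have the same prime graph when they have the same prime divisors and the same joined pairs. Let F be the field with 7 elements. There are finite groups of arbitrarily large order with the same prime graph as PSL(2,F) (the graph on {2, 3, 7} with no edges, which is also the prime graph of PSL(2,8)). -/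
theorem result {F : Type*} [Field F] [Fintype F] (hF : Fintype.card F = 7) (N : ℕ) :
    ∃ (H : Type) (_ : Group H) (_ : Finite H), N < Nat.card H ∧
      ((∀ p : ℕ, p.Prime → (p ∣ Nat.card (Matrix.ProjectiveSpecialLinearGroup (Fin 2) F) ↔ p ∣ Nat.card H)) ∧
      (∀ p q : ℕ, p.Prime → q.Prime → p ≠ q → ((∃ g : (Matrix.ProjectiveSpecialLinearGroup (Fin 2) F), orderOf g = p * q) ↔ (∃ g : H, orderOf g = p * q)))) := by
  classical
  -- the spectrum of PSL₂(7)
  have : Fact (Nat.Prime 7) := ⟨by norm_num⟩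
  have hchar : CharP F 7 := by
    obtain ⟨p, hp⟩ := CharP.exists F
    have := hp
    have hpp : Fact p.Prime := ⟨CharP.char_is_prime F p⟩
    obtain ⟨n, -, hn⟩ := FiniteField.card F p
    rw [hF] at hn
    have h7 : p ∣ 7 := by rw [hn]; exact dvd_pow_self p n.pos.ne'
    have : p = 7 := (Nat.prime_dvd_prime_iff_eq hpp.out (by norm_num)).mp h7
    rw [← this]; exact hp
  have hspec := Cfsg.Agent.S2475.result (F := F) 7 (by rw [hF]; norm_num)
  rw [hF] at hspec
  have e3 : (7 - 1) / Nat.gcd 2 (7 - 1) = 3 := by decide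
  have e4 : (7 + 1) / Nat.gcd 2 (7 - 1) = 4 := by decide
  rw [e3, e4] at hspec
  -- the field with 8 elements
  let K := GaloisField 2 3
  have : Fintype K := Fintype.ofFinite K
  have hK : Fintype.card K = 8 := by
    rw [← Nat.card_eq_fintype_card, GaloisField.card 2 3 (by norm_num)]; norm_num
  have h20 : (2 : K) = 0 := by
    have := CharP.cast_eq_zero K 2
    exact_mod_cast this
  let H := SemiAff (SL₂(K)) (Fin N → (Fin 2 → K))
  have hcardH : Nat.card H = 64 ^ N * 504 := by
    rw [SemiAff.card_eq, Cfsg.Agent.Lib.Helper38.card_SL2, hK, Nat.card_eq_fintype_card,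
      Fintype.card_pi]
    simp only [Fintype.card_pi, hK, Finset.prod_const, Finset.card_univ, Fintype.card_fin]
    norm_num
  have hno : ∀ p q : ℕ, p.Prime → q.Prime → p ≠ q → ¬ ∃ g : H, orderOf g = p * q := by
    rintro p q hp hq hpq ⟨g, hg⟩
    obtain ⟨n4, n7, n9, -⟩ := not_mul_dvd p q hp hq hpq
    rcases pow_cases hK h20 N g with h | h | h
    · exact n4 (hg ▸ orderOf_dvd_of_pow_eq_one h)
    · exact n7 (hg ▸ orderOf_dvd_of_pow_eq_one h)
    · exact n9 (hg ▸ orderOf_dvd_of_pow_eq_one h)
  have hno' : ∀ p q : ℕ, p.Prime → q.Prime → p ≠ q →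
      ¬ ∃ g : PSL₂(F), orderOf g = p * q := by
    rintro p q hp hq hpq ⟨g, hg⟩
    obtain ⟨n4, n7, -, n3⟩ := not_mul_dvd p q hp hq hpq
    have hmem : orderOf g ∈ Set.range (orderOf : PSL₂(F) → ℕ) := ⟨g, rfl⟩
    rw [hspec, hg] at hmem
    rcases hmem with h | h | h
    · exact n7 h
    · exact n3 h
    · exact n4 h
  refine ⟨H, inferInstance, inferInstance, ?_, ?_, ?_⟩
  · rw [hcardH]
    calc N < 64 ^ N := Nat.lt_pow_self (by norm_num)
      _ ≤ 64 ^ N * 504 := Nat.le_mul_of_pos_right _ (by norm_num)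
  · intro p hp
    rw [prime_dvd_card_iff p hp, hspec, hcardH]
    have key : p ∣ 64 ^ N * 504 ↔ (p = 2 ∨ p = 3 ∨ p = 7) := by
      constructor
      · intro h
        rcases (Nat.Prime.dvd_mul hp).mp h with h1 | h1
        · left
          have h2 : p ∣ 2 ^ 6 := by
            have := hp.dvd_of_dvd_pow h1
            norm_num at this ⊢
            exact this
          exact (Nat.prime_dvd_prime_iff_eq hp Nat.prime_two).mp (hp.dvd_of_dvd_pow h2)
        · have e : 504 = 2 ^ 3 * (3 ^ 2 * 7) := by norm_num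
          rw [e] at h1
          rcases (Nat.Prime.dvd_mul hp).mp h1 with h2 | h2
          · left
            exact (Nat.prime_dvd_prime_iff_eq hp Nat.prime_two).mp (hp.dvd_of_dvd_pow h2)
          · rcases (Nat.Prime.dvd_mul hp).mp h2 with h3 | h3
            · right; left
              exact (Nat.prime_dvd_prime_iff_eq hp Nat.prime_three).mp (hp.dvd_of_dvd_pow h3)
            · right; right
              exact (Nat.prime_dvd_prime_iff_eq hp (by norm_num)).mp h3
      · rintro (rfl | rfl | rfl)
        · exact Dvd.dvd.mul_left (by norm_num) _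
        · exact Dvd.dvd.mul_left (by norm_num) _
        · exact Dvd.dvd.mul_left (by norm_num) _
    rw [key]
    constructor
    · rintro (h | h | h)
      · right; right
        exact (Nat.prime_dvd_prime_iff_eq hp (by norm_num)).mp h
      · right; left
        exact (Nat.prime_dvd_prime_iff_eq hp Nat.prime_three).mp h
      · left
        have h2 : p ∣ 2 ^ 2 := by norm_num; exact h
        exact (Nat.prime_dvd_prime_iff_eq hp Nat.prime_two).mp (hp.dvd_of_dvd_pow h2)
    · rintro (rfl | rfl | rfl)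
      · right; right; norm_num
      · right; left; norm_num
      · left; norm_num
  · intro p q hp hq hpq
    constructor
    · intro h; exact absurd h (hno' p q hp hq hpq)
    · intro h; exact absurd h (hno p q hp hq hpq)

end Cfsg.Agent.S3678
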