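import Cfsg.Statements.S3680
import Cfsg.Agent.S0721
import Mathlib

set_option autoImplicit false
set_option linter.unusedVariables false
set_option linter.unusedSectionVars false
set_option linter.style.haveILetI false
open Cfsg

namespace Cfsg.Agent.S3680

open MulAction

section
variable {G Ω : Type*} [Group G] [MulAction G Ω]

/-- Minimal normal subgroups. -/
def MinN (V : Subgroup G) : Prop :=
  V.Normal ∧ V ≠ ⊥ ∧ ∀ M : Subgroup G, M.Normal → M ≤ V → M = ⊥ ∨ M = V

/-- Transitive subgroups. -/
def Tr (Ω : Type*) [MulAction G Ω] (K : Subgroup G) : Prop := ∀ x y : Ω, ∃ k ∈ K, k • x = y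

/-- Semiregular subgroups. -/
def Sr (Ω : Type*) [MulAction G Ω] (K : Subgroup G) : Prop :=
  ∀ k ∈ K, ∀ x : Ω, k • x = x → k = 1

theorem tr_of_normal [FaithfulSMul G Ω] (hprim : IsPreprimitive G Ω) (K : Subgroup G)
    (hKn : K.Normal) (hK : K ≠ ⊥) : Tr Ω K := by
  have hfp : fixedPoints K Ω ≠ Set.univ := by
    intro h
    apply hK
    rw [Subgroup.eq_bot_iff_forall]
    intro k hk
    apply FaithfulSMul.eq_of_smul_eq_smul (α := Ω)
    intro x
    have hx : x ∈ fixedPoints K Ω := by rw [h]; trivial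
    rw [one_smul]
    exact hx ⟨k, hk⟩
  have hq : IsQuasiPreprimitive G Ω := inferInstance
  have hpt : IsPretransitive K Ω := hq.isPretransitive_of_normal hfp
  intro x y
  obtain ⟨k, hk⟩ := hpt.exists_smul_eq x y
  exact ⟨k.1, k.2, hk⟩

theorem sr_centralizer [FaithfulSMul G Ω] (K : Subgroup G) (hK : Tr Ω K) :
    Sr Ω (Subgroup.centralizer (K : Set G)) := by
  intro c hc x hx
  apply FaithfulSMul.eq_of_smul_eq_smul (α := Ω)
  intro y
  obtain ⟨k, hk, rfl⟩ := hK x y
  rw [one_smul, ← mul_smul, ← (Subgroup.mem_centralizer_iff.mp hc k hk), mul_smul, hx]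

theorem eq_of_tr_sr (K1 K2 : Subgroup G) (hle : K1 ≤ K2) (h1 : Tr Ω K1) (h2 : Sr Ω K2)
    (x0 : Ω) : K1 = K2 := by
  apply le_antisymm hle
  intro c hc
  obtain ⟨k, hk, hkx⟩ := h1 x0 (c • x0)
  have h3 : (k⁻¹ * c) • x0 = x0 := by
    rw [mul_smul, inv_smul_eq_iff, hkx]
  have h4 := h2 _ (K2.mul_mem (K2.inv_mem (hle hk)) hc) x0 h3
  have : c = k := by
    have := congrArg (k * ·) h4
    simpa using this
  rw [this]
  exact hk

theorem exists_minN_le [Finite G] :
    ∀ (n : ℕ) (K : Subgroup G), Nat.card K = n → K.Normal → K ≠ ⊥ →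
      ∃ V : Subgroup G, MinN V ∧ V ≤ K := by
  intro n
  induction n using Nat.strong_induction_on with
  | _ n ih =>
    intro K hn hKn hK
    by_cases hmin : ∀ M : Subgroup G, M.Normal → M ≤ K → M = ⊥ ∨ M = K
    · exact ⟨K, ⟨hKn, hK, hmin⟩, le_refl _⟩
    · push Not at hmin
      obtain ⟨M, hMn, hMle, hMne, hMK⟩ := hmin
      have hlt : M < K := lt_of_le_of_ne hMle hMK
      have hcard : Nat.card M < n := by
        rw [← hn]
        by_contra hcon
        push Not at hcon
        exact hMK (Subgroup.eq_of_le_of_card_ge hMle hcon)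
      obtain ⟨V, hV, hVle⟩ := ih _ hcard M rfl hMn hMne
      exact ⟨V, hV, hVle.trans hMle⟩

theorem commute_of_disjoint (M M' : Subgroup G) (hM : M.Normal) (hM' : M'.Normal)
    (h : M ⊓ M' = ⊥) : M' ≤ Subgroup.centralizer (M : Set G) := by
  intro y hy
  rw [Subgroup.mem_centralizer_iff]
  intro x hx
  have hmem : x * y * x⁻¹ * y⁻¹ ∈ M ⊓ M' := by
    constructor
    · have : x * (y * x⁻¹ * y⁻¹) ∈ M := M.mul_mem hx (hM.conj_mem _ (M.inv_mem hx) y)
      simpa [mul_assoc] using this
    · exact M'.mul_mem (hM'.conj_mem _ hy x) (M'.inv_mem hy)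
  rw [h, Subgroup.mem_bot] at hmem
  have h1 : x * y * x⁻¹ = y := by
    have := congrArg (· * y) hmem
    simpa using this
  have h2 := congrArg (· * x) h1
  simpa using h2

theorem minN_inf (M M' : Subgroup G) (hM : MinN M) (hM' : MinN M') (hne : M ≠ M') :
    M ⊓ M' = ⊥ := by
  haveI := hM.1
  haveI := hM'.1
  have hn : (M ⊓ M').Normal := inferInstance
  rcases hM.2.2 _ hn inf_le_left with h | h
  · exact h
  · rcases hM'.2.2 _ hn inf_le_right with h' | h'
    · exact h'
    · exact absurd (h.symm.trans h') hne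

theorem elem_abelian [Finite G] (M : Subgroup G) (hM : MinN M)
    (hab : ∀ x ∈ M, ∀ y ∈ M, x * y = y * x) : ∃ p : ℕ, p.Prime ∧ ∀ x ∈ M, x ^ p = 1 := by
  have hnt : Nontrivial M := (Subgroup.nontrivial_iff_ne_bot M).2 hM.2.1
  have hcard : Nat.card M ≠ 1 := by
    intro h
    have := (Nat.card_eq_one_iff_unique.mp h).1
    exact not_subsingleton M this
  set p := (Nat.card M).minFac with hp
  have hpp : p.Prime := Nat.minFac_prime hcard
  haveI : Fact p.Prime := ⟨hpp⟩
  obtain ⟨x0, hx0⟩ := exists_prime_orderOf_dvd_card' (G := M) p (Nat.minFac_dvd _)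
  let K : Subgroup G :=
    { carrier := {x | x ∈ M ∧ x ^ p = 1}
      mul_mem' := by
        rintro x y ⟨hx, hx1⟩ ⟨hy, hy1⟩
        refine ⟨M.mul_mem hx hy, ?_⟩
        have hc : Commute x y := hab x hx y hy
        rw [hc.mul_pow, hx1, hy1, one_mul]
      one_mem' := ⟨M.one_mem, one_pow _⟩
      inv_mem' := by
        rintro x ⟨hx, hx1⟩
        exact ⟨M.inv_mem hx, by rw [inv_pow, hx1, inv_one]⟩ }
  have hKn : K.Normal := by
    constructor
    rintro x ⟨hx, hx1⟩ g
    refine ⟨hM.1.conj_mem x hx g, ?_⟩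
    rw [conj_pow, hx1, mul_one, mul_inv_cancel]
  have hKle : K ≤ M := fun x hx => hx.1
  have hKne : K ≠ ⊥ := by
    intro h
    have hmem : (x0 : G) ∈ K := by
      refine ⟨x0.2, ?_⟩
      have : x0 ^ p = 1 := by rw [← hx0]; exact pow_orderOf_eq_one x0
      have := congrArg Subtype.val this
      simpa using this
    rw [h, Subgroup.mem_bot] at hmem
    have hx01 : x0 = 1 := Subtype.ext hmem
    rw [hx01, orderOf_one] at hx0
    exact hpp.one_lt.ne hx0
  rcases hM.2.2 K hKn hKle with h | h
  · exact absurd h hKne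
  · refine ⟨p, hpp, fun x hx => ?_⟩
    have : x ∈ K := by rw [h]; exact hx
    exact this.2

theorem iso_of_regular (M C : Subgroup G) (hCM : C ≤ Subgroup.centralizer (M : Set G))
    (hMtr : Tr Ω M) (hMsr : Sr Ω M) (hCtr : Tr Ω C) (hCsr : Sr Ω C) (x0 : Ω) :
    Nonempty (C ≃* M) := by
  have hex : ∀ c : C, ∃ m : M, (m : G) • x0 = (c : G) • x0 := by
    intro c
    obtain ⟨k, hk, h⟩ := hMtr x0 ((c : G) • x0)
    exact ⟨⟨k, hk⟩, h⟩
  choose μ hμ using hex
  have huniq : ∀ m m' : M, (m : G) • x0 = (m' : G) • x0 → m = m' := by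
    intro m m' h
    have h1 : ((m' : G)⁻¹ * (m : G)) • x0 = x0 := by
      rw [mul_smul, inv_smul_eq_iff, h]
    have h2 := hMsr _ (M.mul_mem (M.inv_mem m'.2) m.2) x0 h1
    have := congrArg ((m' : G) * ·) h2
    apply Subtype.ext
    simpa using this
  have hμmul : ∀ c c' : C, μ (c * c') = μ c' * μ c := by
    intro c c'
    apply huniq
    rw [hμ, Subgroup.coe_mul, Subgroup.coe_mul, mul_smul, mul_smul, hμ c]
    have hcomm : (μ c' : G) * (c : G) = (c : G) * (μ c' : G) :=
      Subgroup.mem_centralizer_iff.mp (hCM c.2) _ (μ c').2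
    rw [← hμ c', ← mul_smul, ← mul_smul, hcomm]
  let φ : C →* M := MonoidHom.mk' (fun c => (μ c)⁻¹) (by
    intro c c'
    rw [hμmul, mul_inv_rev])
  have hinj : Function.Injective φ := by
    intro c c' h
    have h1 : μ c = μ c' := inv_injective h
    have h2 : (c : G) • x0 = (c' : G) • x0 := by rw [← hμ c, ← hμ c', h1]
    have h3 : ((c' : G)⁻¹ * (c : G)) • x0 = x0 := by
      rw [mul_smul, inv_smul_eq_iff, h2]
    have h4 := hCsr _ (C.mul_mem (C.inv_mem c'.2) c.2) x0 h3
    have := congrArg ((c' : G) * ·) h4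
    apply Subtype.ext
    simpa using this
  have hsurj : Function.Surjective φ := by
    intro m
    obtain ⟨k, hk, h⟩ := hCtr x0 ((m : G)⁻¹ • x0)
    refine ⟨⟨k, hk⟩, ?_⟩
    have h1 : μ ⟨k, hk⟩ = m⁻¹ := by
      apply huniq
      rw [hμ]
      exact h
    change (μ ⟨k, hk⟩)⁻¹ = m
    rw [h1, inv_inv]
  exact ⟨MulEquiv.ofBijective φ ⟨hinj, hsurj⟩⟩

theorem prod_iso (M C : Subgroup G) (hCM : C ≤ Subgroup.centralizer (M : Set G))
    (hdisj : M ⊓ C = ⊥) : Nonempty ((M × C) ≃* ↥(M ⊔ C)) := by
  have comm : ∀ (m : M) (c : C), Commute (M.subtype m) (C.subtype c) := by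
    intro m c
    exact (Subgroup.mem_centralizer_iff.mp (hCM c.2) _ m.2)
  set ψ := MonoidHom.noncommCoprod M.subtype C.subtype comm with hψ
  have hinj : Function.Injective ψ := by
    rw [MonoidHom.noncommCoprod_injective]
    refine ⟨M.subtype_injective, C.subtype_injective, ?_⟩
    rw [Subgroup.range_subtype, Subgroup.range_subtype, disjoint_iff, hdisj]
  have hrange : ψ.range = M ⊔ C := by
    rw [hψ, MonoidHom.noncommCoprod_range, Subgroup.range_subtype, Subgroup.range_subtype]
  exact ⟨(MonoidHom.ofInjective hinj).trans (MulEquiv.subgroupCongr hrange)⟩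

end

/-- `T^m × T^m ≃* T^(m+m)`. -/
def piSum (T : Type*) [Group T] (m : ℕ) : ((Fin m → T) × (Fin m → T)) ≃* (Fin (m + m) → T) where
  toFun fg := fun i => Sum.elim fg.1 fg.2 (finSumFinEquiv.symm i)
  invFun h := (fun i => h (finSumFinEquiv (Sum.inl i)), fun j => h (finSumFinEquiv (Sum.inr j)))
  left_inv := by
    intro fg
    ext i <;> simp only [Equiv.symm_apply_apply, Sum.elim_inl, Sum.elim_inr]
  right_inv := by
    intro h
    funext i
    obtain ⟨s, rfl⟩ := finSumFinEquiv.surjective i
    cases s <;> simp only [Equiv.symm_apply_apply, Sum.elim_inl, Sum.elim_inr]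
  map_mul' := by
    intro fg fg'
    funext i
    obtain ⟨s, rfl⟩ := finSumFinEquiv.surjective i
    cases s <;>
      simp only [Equiv.symm_apply_apply, Sum.elim_inl, Sum.elim_inr, Prod.fst_mul, Prod.snd_mul,
        Pi.mul_apply]

theorem result {G Ω : Type*} [Group G] [Finite G] [MulAction G Ω] [FaithfulSMul G Ω] [Finite Ω]
    (hprim : MulAction.IsPreprimitive G Ω) (N : Subgroup G)
    (hN : N = sSup {V : Subgroup G | V.Normal ∧ V ≠ ⊥ ∧ ∀ M : Subgroup G, M.Normal → M ≤ V → M = ⊥ ∨ M = V}) :
    (∃ p : ℕ, p.Prime ∧ IsMulCommutative N ∧ (∀ x : N, x ^ p = 1) ∧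
      MulAction.IsPretransitive N Ω ∧ ∀ ω : Ω, MulAction.stabilizer N ω = ⊥) ∨
    (∃ (T : Type) (_ : Group T) (m : ℕ), 1 ≤ m ∧ IsSimpleGroup T ∧ ¬ IsMulCommutative T ∧ Nonempty (N ≃* (Fin m → T))) := by
  classical
  have hsetN : N = sSup {V : Subgroup G | MinN V} := hN
  by_cases htriv : Subsingleton G
  · left
    have hΩ : Subsingleton Ω := by
      constructor
      intro x y
      obtain ⟨g, hg⟩ := hprim.toIsPretransitive.exists_smul_eq x y
      rw [Subsingleton.elim g 1, one_smul] at hg
      exact hg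
    refine ⟨2, Nat.prime_two, ⟨⟨fun a b => Subsingleton.elim _ _⟩⟩, fun x => Subsingleton.elim _ _,
      ⟨fun x y => ⟨1, Subsingleton.elim _ _⟩⟩, fun ω => ?_⟩
    rw [Subgroup.eq_bot_iff_forall]
    intro k _
    exact Subsingleton.elim _ _
  · rw [not_subsingleton_iff_nontrivial] at htriv
    obtain ⟨g0, hg0⟩ := exists_ne (1 : G)
    obtain ⟨x0⟩ : Nonempty Ω := by
      by_contra hemp
      rw [not_nonempty_iff] at hemp
      apply hg0
      apply FaithfulSMul.eq_of_smul_eq_smul (α := Ω)
      intro x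
      exact hemp.elim x
    have htop : (⊤ : Subgroup G) ≠ ⊥ := by
      intro h
      have : g0 ∈ (⊥ : Subgroup G) := by rw [← h]; trivial
      exact hg0 (Subgroup.mem_bot.mp this)
    obtain ⟨M, hM, _⟩ := exists_minN_le _ (⊤ : Subgroup G) rfl inferInstance htop
    haveI hMn : M.Normal := hM.1
    set C := Subgroup.centralizer (M : Set G) with hC
    have hCn : C.Normal := Subgroup.normal_centralizer
    have hMtr : Tr Ω M := tr_of_normal hprim M hM.1 hM.2.1
    have hCsr : Sr Ω C := sr_centralizer M hMtr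
    have hother : ∀ M' : Subgroup G, MinN M' → M' ≠ M → M' ≤ C := fun M' hM' hne =>
      commute_of_disjoint M M' hM.1 hM'.1 (minN_inf M M' hM hM' (Ne.symm hne))
    by_cases hCbot : C = ⊥
    · have huniq : ∀ M' : Subgroup G, MinN M' → M' = M := by
        intro M' hM'
        by_contra hne
        have := hother M' hM' hne
        rw [hCbot] at this
        exact hM'.2.1 (le_bot_iff.mp this)
      have hNM : N = M := by
        rw [hsetN]
        apply le_antisymm
        · apply sSup_le
          intro V hV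
          rw [huniq V hV]
        · exact le_sSup hM
      right
      obtain ⟨T, instT, m, hTs, hm, ⟨e⟩⟩ := Cfsg.Agent.S0721.result M hM.2.1 hM.2.2
      refine ⟨T, instT, m, hm, hTs, ?_, ⟨(MulEquiv.subgroupCongr hNM).trans e⟩⟩
      intro hTc
      apply hM.2.1
      rw [← le_bot_iff, ← hCbot]
      intro x hx
      rw [Subgroup.mem_centralizer_iff]
      intro y hy
      have : (⟨y, hy⟩ : M) * ⟨x, hx⟩ = ⟨x, hx⟩ * ⟨y, hy⟩ := by
        apply e.injective
        rw [map_mul, map_mul]
        funext i
        simp only [Pi.mul_apply]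
        exact hTc.is_comm.comm _ _
      exact congrArg Subtype.val this
    · have hCtr : Tr Ω C := tr_of_normal hprim C hCn hCbot
      have hMsr : Sr Ω M := by
        have h1 : Sr Ω (Subgroup.centralizer (C : Set G)) := sr_centralizer C hCtr
        have h2 : M ≤ Subgroup.centralizer (C : Set G) :=
          Subgroup.le_centralizer_iff.mp (le_refl C)
        intro k hk x hx
        exact h1 k (h2 hk) x hx
      by_cases hMC : M ≤ C
      · have hMeqC : M = C := eq_of_tr_sr M C hMC hMtr hCsr x0
        have huniq : ∀ M' : Subgroup G, MinN M' → M' = M := by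
          intro M' hM'
          by_contra hne
          have h1 := hother M' hM' hne
          rw [← hMeqC] at h1
          rcases hM.2.2 M' hM'.1 h1 with h | h
          · exact hM'.2.1 h
          · exact hne h
        have hNM : N = M := by
          rw [hsetN]
          apply le_antisymm
          · apply sSup_le
            intro V hV
            rw [huniq V hV]
          · exact le_sSup hM
        left
        have hab : ∀ x ∈ M, ∀ y ∈ M, x * y = y * x := fun x hx y hy =>
          (Subgroup.mem_centralizer_iff.mp (hMC hy) x hx)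
        obtain ⟨p, hp, hexp⟩ := elem_abelian M hM hab
        rw [hNM]
        refine ⟨p, hp, ⟨⟨fun a b => Subtype.ext (hab a a.2 b b.2)⟩⟩, fun x => ?_, ?_, ?_⟩
        · apply Subtype.ext
          simpa using hexp x x.2
        · exact ⟨fun x y => by
            obtain ⟨k, hk, h⟩ := hMtr x y
            exact ⟨⟨k, hk⟩, h⟩⟩
        · intro ω
          rw [Subgroup.eq_bot_iff_forall]
          intro k hk
          exact Subtype.ext (hMsr k k.2 ω (MulAction.mem_stabilizer_iff.mp hk))
      · have hdisj : M ⊓ C = ⊥ := by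
          have hn : (M ⊓ C).Normal := inferInstance
          rcases hM.2.2 _ hn inf_le_left with h | h
          · exact h
          · exfalso
            apply hMC
            rw [← h]
            exact inf_le_right
        obtain ⟨M1, hM1, hM1le⟩ := exists_minN_le _ C rfl hCn hCbot
        have hM1C : M1 = C :=
          eq_of_tr_sr M1 C hM1le (tr_of_normal hprim M1 hM1.1 hM1.2.1) hCsr x0
        have hCmin : MinN C := hM1C ▸ hM1
        have hset : ∀ M' : Subgroup G, MinN M' → M' = M ∨ M' = C := by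
          intro M' hM'
          by_cases hne : M' = M
          · exact Or.inl hne
          · right
            rcases hCmin.2.2 M' hM'.1 (hother M' hM' hne) with h | h
            · exact absurd h hM'.2.1
            · exact h
        have hNMC : N = M ⊔ C := by
          rw [hsetN]
          apply le_antisymm
          · apply sSup_le
            intro V hV
            rcases hset V hV with h | h
            · rw [h]; exact le_sup_left
            · rw [h]; exact le_sup_right
          · exact sup_le (le_sSup hM) (le_sSup hCmin)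
        right
        obtain ⟨T, instT, m, hTs, hm, ⟨e⟩⟩ := Cfsg.Agent.S0721.result M hM.2.1 hM.2.2
        obtain ⟨φ⟩ := iso_of_regular M C (le_refl _) hMtr hMsr hCtr hCsr x0
        obtain ⟨ψ⟩ := prod_iso M C (le_refl _) hdisj
        refine ⟨T, instT, m + m, by omega, hTs, ?_, ⟨?_⟩⟩
        · intro hTc
          apply hMC
          intro x hx
          rw [hC, Subgroup.mem_centralizer_iff]
          intro y hy
          have : (⟨y, hy⟩ : M) * ⟨x, hx⟩ = ⟨x, hx⟩ * ⟨y, hy⟩ := by
            apply e.injective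
            rw [map_mul, map_mul]
            funext i
            simp only [Pi.mul_apply]
            exact hTc.is_comm.comm _ _
          exact congrArg Subtype.val this
        · exact (MulEquiv.subgroupCongr hNMC).trans
            (ψ.symm.trans ((MulEquiv.prodCongr e (φ.trans e)).trans (piSum T m)))

end Cfsg.Agent.S3680
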