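import Cfsg.Statements.S3681

set_option autoImplicit false
open Cfsg

namespace Cfsg.Agent.S3681

open Equiv Equiv.Perm MulAction

/-- If the supports of two permutations meet in exactly one point, their commutator is a
three-cycle. -/
theorem commutator_isThreeCycle {α : Type*} [DecidableEq α] [Fintype α] (x y : Perm α) (a : α)
    (hxa : x a ≠ a) (hya : y a ≠ a) (h : ∀ ω, x ω ≠ ω → y ω ≠ ω → ω = a) :
    (x * y * x⁻¹ * y⁻¹).IsThreeCycle := by
  have apply_inv : ∀ (z : Perm α) (ω : α), z (z⁻¹ ω) = ω := fun z ω => by simp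
  have inv_apply : ∀ (z : Perm α) (ω : α), z⁻¹ (z ω) = ω := fun z ω => by simp
  have hxi : ∀ ω, x⁻¹ ω = ω ↔ x ω = ω := fun ω => by
    rw [Perm.inv_eq_iff_eq]; exact eq_comm
  have hyi : ∀ ω, y⁻¹ ω = ω ↔ y ω = ω := fun ω => by
    rw [Perm.inv_eq_iff_eq]; exact eq_comm
  have hxm : ∀ ω, x ω ≠ ω → x (x ω) ≠ x ω := fun ω hω hc => hω (x.injective hc)
  have hym : ∀ ω, y ω ≠ ω → y (y ω) ≠ y ω := fun ω hω hc => hω (y.injective hc)
  have hxim : ∀ ω, x ω ≠ ω → x (x⁻¹ ω) ≠ x⁻¹ ω := fun ω hω hc => by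
    rw [apply_inv] at hc
    exact hω ((hxi ω).mp hc.symm)
  have hyim : ∀ ω, y ω ≠ ω → y (y⁻¹ ω) ≠ y⁻¹ ω := fun ω hω hc => by
    rw [apply_inv] at hc
    exact hω ((hyi ω).mp hc.symm)
  -- x fixes points moved by y other than a, and vice versa
  have hxfix : ∀ ω, ω ≠ a → y ω ≠ ω → x ω = ω := fun ω hωa hy => by
    by_contra hx; exact hωa (h ω hx hy)
  have hyfix : ∀ ω, ω ≠ a → x ω ≠ ω → y ω = ω := fun ω hωa hx => by
    by_contra hy; exact hωa (h ω hx hy)
  have hxaya : x a ≠ y a := by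
    intro hc
    have h1 : x (x a) ≠ x a := hxm a hxa
    have h2 : y (x a) ≠ x a := by rw [hc]; exact hym a hya
    exact hxa (h _ h1 h2)
  have key : x * y * x⁻¹ * y⁻¹ = swap a (y a) * swap a (x a) := by
    ext ω
    simp only [Perm.mul_apply]
    by_cases h1 : ω = a
    · subst h1
      rw [swap_apply_left, swap_apply_of_ne_of_ne hxa hxaya]
      have hb : y⁻¹ ω ≠ ω := fun hc => hya ((hyi ω).mp hc)
      have hyb : y (y⁻¹ ω) ≠ y⁻¹ ω := hyim ω hya
      have hxb : x (y⁻¹ ω) = y⁻¹ ω := hxfix _ hb hyb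
      rw [(hxi _).mpr hxb, apply_inv]
    by_cases h2 : ω = x a
    · subst h2
      rw [swap_apply_right, swap_apply_left]
      have hy1 : y (x a) = x a := hyfix _ hxa (hxm a hxa)
      rw [(hyi _).mpr hy1, inv_apply]
      exact hxfix _ hya (hym a hya)
    by_cases h3 : ω = y a
    · subst h3
      rw [swap_apply_of_ne_of_ne hya hxaya.symm, swap_apply_right, inv_apply]
      have ha' : x⁻¹ a ≠ a := fun hc => hxa ((hxi a).mp hc)
      have hxa' : x (x⁻¹ a) ≠ x⁻¹ a := hxim a hxa
      rw [hyfix _ ha' hxa', apply_inv]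
    rw [swap_apply_of_ne_of_ne h1 h2, swap_apply_of_ne_of_ne h1 h3]
    by_cases hy : y ω = ω
    · rw [(hyi ω).mpr hy]
      by_cases hx : x ω = ω
      · rw [(hxi ω).mpr hx, hy, hx]
      · have hv : x⁻¹ ω ≠ a := fun hc => h2 (by rw [← hc, apply_inv])
        rw [hyfix _ hv (hxim ω hx), apply_inv]
    · have hu : y⁻¹ ω ≠ a := fun hc => h3 (by rw [← hc, apply_inv])
      have hxu : x (y⁻¹ ω) = y⁻¹ ω := hxfix _ hu (hyim ω hy)
      rw [(hxi _).mpr hxu, apply_inv]
      exact hxfix ω h1 hy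
  rw [key]
  exact isThreeCycle_swap_mul_swap_same (Ne.symm hya) (Ne.symm hxa) (Ne.symm hxaya)

/-- Bochert's bound for a subgroup of the symmetric group. -/
theorem bochert_subgroup {Ω : Type*} [Fintype Ω] [DecidableEq Ω] (P : Subgroup (Perm Ω))
    (hprim : IsPreprimitive P Ω) (hA : ¬ alternatingGroup Ω ≤ P) :
    Nat.card P * Nat.factorial ((Fintype.card Ω + 1) / 2) ≤ Nat.factorial (Fintype.card Ω) := by
  classical
  -- bases
  let IsBase : Finset Ω → Prop := fun Δ => ∀ g ∈ P, (∀ δ ∈ Δ, g δ = δ) → g = 1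
  have huniv : IsBase Finset.univ := fun g _ hg => by
    ext ω; exact hg ω (Finset.mem_univ ω)
  -- a base of minimal cardinality
  obtain ⟨Δ, hΔ, hmin⟩ : ∃ Δ, IsBase Δ ∧ ∀ Δ', IsBase Δ' → Δ.card ≤ Δ'.card := by
    have hne : ((Finset.univ : Finset (Finset Ω)).filter IsBase).Nonempty :=
      ⟨Finset.univ, by simp [huniv]⟩
    obtain ⟨Δ, hΔ, hmin⟩ := Finset.exists_min_image _ Finset.card hne
    refine ⟨Δ, (Finset.mem_filter.mp hΔ).2, fun Δ' hΔ' => hmin Δ' (by simp [hΔ'])⟩
  -- the complement is also a base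
  have hcompl : IsBase Δᶜ := by
    intro y hyP hyfix
    by_contra hy1
    obtain ⟨δ, hδ⟩ : ∃ δ, y δ ≠ δ := by
      by_contra hc
      push Not at hc
      exact hy1 (Perm.ext hc)
    have hδΔ : δ ∈ Δ := by
      by_contra hc
      exact hδ (hyfix δ (Finset.mem_compl.mpr hc))
    -- erase δ is not a base
    have hnb : ¬ IsBase (Δ.erase δ) := by
      intro hb
      have := hmin _ hb
      rw [Finset.card_erase_of_mem hδΔ] at this
      have hpos : 0 < Δ.card := Finset.card_pos.mpr ⟨δ, hδΔ⟩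
      omega
    simp only [IsBase] at hnb
    push Not at hnb
    obtain ⟨x, hxP, hxfix, hx1⟩ := hnb
    have hxδ : x δ ≠ δ := by
      intro hc
      apply hx1
      apply hΔ x hxP
      intro ε hε
      by_cases he : ε = δ
      · rw [he]; exact hc
      · exact hxfix ε (Finset.mem_erase.mpr ⟨he, hε⟩)
    have hmeet : ∀ ω, x ω ≠ ω → y ω ≠ ω → ω = δ := by
      intro ω hxω hyω
      by_contra hne
      have hωΔ : ω ∈ Δ := by
        by_contra hc
        exact hyω (hyfix ω (Finset.mem_compl.mpr hc))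
      exact hxω (hxfix ω (Finset.mem_erase.mpr ⟨hne, hωΔ⟩))
    have h3 := commutator_isThreeCycle x y δ hxδ hδ hmeet
    have hmem : x * y * x⁻¹ * y⁻¹ ∈ P :=
      P.mul_mem (P.mul_mem (P.mul_mem hxP hyP) (P.inv_mem hxP)) (P.inv_mem hyP)
    exact hA (alternatingGroup_le_of_isPreprimitive_of_isThreeCycle_mem hprim h3 hmem)
  -- a base of size at most n / 2
  obtain ⟨B, hB, hBcard⟩ : ∃ B, IsBase B ∧ 2 * B.card ≤ Fintype.card Ω := by
    by_cases hc : 2 * Δ.card ≤ Fintype.card Ω
    · exact ⟨Δ, hΔ, hc⟩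
    · refine ⟨Δᶜ, hcompl, ?_⟩
      rw [Finset.card_compl]
      have : Δ.card ≤ Fintype.card Ω := Finset.card_le_univ Δ
      omega
  -- the injection
  let f : P × Perm {ω // ω ∉ B} → Perm Ω := fun p => (p.1 : Perm Ω) * ofSubtype p.2
  have hf : Function.Injective f := by
    rintro ⟨g, s⟩ ⟨g', s'⟩ hgs
    simp only [f] at hgs
    have h1 : ((g'⁻¹ * g : P) : Perm Ω) = ofSubtype (s' * s⁻¹) := by
      rw [map_mul, map_inv, Subgroup.coe_mul, Subgroup.coe_inv]
      rw [eq_mul_inv_iff_mul_eq, mul_assoc, hgs]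
      group
    have h2 : ((g'⁻¹ * g : P) : Perm Ω) = 1 := by
      apply hB _ (g'⁻¹ * g).2
      intro δ hδ
      rw [h1]
      exact ofSubtype_apply_of_not_mem _ (by simpa using hδ)
    have hgg : g = g' := by
      have : (g'⁻¹ * g : P) = 1 := Subtype.ext h2
      rw [inv_mul_eq_one] at this
      exact this.symm
    subst hgg
    have hss : ofSubtype s = ofSubtype s' := mul_left_cancel hgs
    rw [ofSubtype_injective hss]
  have hcard := Nat.card_le_card_of_injective f hf
  have hsub : Nat.card {ω // ω ∉ B} = Fintype.card Ω - B.card := by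
    rw [Nat.card_eq_fintype_card, Fintype.card_subtype_compl, Fintype.card_coe]
  rw [Nat.card_prod, Nat.card_perm, Nat.card_perm, Nat.card_eq_fintype_card (α := Ω), hsub] at hcard
  refine le_trans (Nat.mul_le_mul_left _ (Nat.factorial_le ?_)) hcard
  omega

/-- Bochert's bound for primitive groups. Let a finite group G act faithfully and primitively on a finite set Ω with n elements, and suppose the image of G in the symmetric group of Ω does not contain the alternating group of Ω. Then |G| · ⌊(n + 1)/2⌋! ≤ n!, that is, the index of G in the symmetric group is at least ⌊(n + 1)/2⌋!. -/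
theorem result {G Ω : Type*} [Group G] [Finite G] [MulAction G Ω] [FaithfulSMul G Ω] [Fintype Ω] [DecidableEq Ω]
    (hprim : MulAction.IsPreprimitive G Ω) (hA : ¬ alternatingGroup Ω ≤ (MulAction.toPermHom G Ω).range) :
    Nat.card G * Nat.factorial ((Fintype.card Ω + 1) / 2) ≤ Nat.factorial (Fintype.card Ω) := by
  have hcard : Nat.card G = Nat.card (MulAction.toPermHom G Ω).range :=
    Nat.card_congr (MonoidHom.ofInjective (MulAction.toPerm_injective (α := G) (β := Ω))).toEquiv
  rw [hcard]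
  apply bochert_subgroup _ _ hA
  -- primitivity transfers to the range
  let φ : G → (MulAction.toPermHom G Ω).range := fun g => ⟨MulAction.toPermHom G Ω g, ⟨g, rfl⟩⟩
  let f : Ω →ₑ[φ] Ω :=
    { toFun := id
      map_smul' := fun _ _ => rfl }
  have hφ : Function.Surjective φ := by
    rintro ⟨_, g, rfl⟩; exact ⟨g, rfl⟩
  exact (isPreprimitive_congr hφ (f := f) Function.bijective_id).mp hprim

end Cfsg.Agent.S3681
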