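import Cfsg.Statements.S3682
import Cfsg.Agent.Lib.Helper30.WielandtBound

set_option autoImplicit false
open Cfsg

namespace Cfsg.Agent.S3682

/-- Wielandt's bound toward the Sims conjecture. Let a finite group G act faithfully and primitively on a set Ω, let a and b be points, and suppose the orbit of b under the stabilizer of a has length d ≥ 2. Then there are a prime p and a normal p-subgroup P of the stabilizer of a, all of whose elements fix b, such that the index of P in the stabilizer of a divides d! · ((d - 1)!)^d. -/
theorem result {G Ω : Type*} [Group G] [Finite G] [MulAction G Ω] [FaithfulSMul G Ω] [Finite Ω]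
    (hprim : MulAction.IsPreprimitive G Ω) (a b : Ω) (d : ℕ) (hd : Nat.card (MulAction.orbit (MulAction.stabilizer G a) b) = d) (h2 : 2 ≤ d) :
    ∃ p : ℕ, p.Prime ∧ ∃ P : Subgroup (MulAction.stabilizer G a), P.Normal ∧ IsPGroup p P ∧ (∀ g : P, ((g : MulAction.stabilizer G a) : G) • b = b) ∧
      P.index ∣ Nat.factorial d * (Nat.factorial (d - 1)) ^ d := by
  have hpt : MulAction.IsPretransitive G Ω := hprim.toIsPretransitive
  obtain ⟨g, hg⟩ := MulAction.exists_smul_eq G a b
  -- the index of the two point stabilizer is `d`
  have hrel : (MulAction.stabilizer G a ⊓ MulAction.stabilizer G b).relIndex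
      (MulAction.stabilizer G a) = d := by
    have e : (MulAction.stabilizer G a ⊓ MulAction.stabilizer G b).subgroupOf
        (MulAction.stabilizer G a) = MulAction.stabilizer (MulAction.stabilizer G a) b := by
      ext x
      rw [Subgroup.mem_subgroupOf, Subgroup.mem_inf, MulAction.mem_stabilizer_iff]
      constructor
      · intro h; exact h.2
      · intro h; exact ⟨x.2, h⟩
    unfold Subgroup.relIndex
    rw [e, MulAction.index_stabilizer, ← hd, Nat.card_coe_set_eq]
  have hab : a ≠ b := by
    intro h
    have h1 : (MulAction.stabilizer G a ⊓ MulAction.stabilizer G b).relIndex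
        (MulAction.stabilizer G a) = 1 := by
      rw [← h, inf_idem]; exact Subgroup.relIndex_self _
    omega
  have hnt : Nontrivial Ω := ⟨⟨a, b, hab⟩⟩
  have hmax : IsCoatom (MulAction.stabilizer G a) :=
    (MulAction.isCoatom_stabilizer_iff_preprimitive G a).mpr hprim
  have hconj : MulAction.stabilizer G b =
      (MulAction.stabilizer G a).map (MulAut.conj g).toMonoidHom := by
    rw [← hg]; exact MulAction.stabilizer_smul_eq_stabilizer_map_conj g a
  have hne : MulAction.stabilizer G a ≠ MulAction.stabilizer G b := by
    intro h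
    have h1 : (MulAction.stabilizer G a ⊓ MulAction.stabilizer G b).relIndex
        (MulAction.stabilizer G a) = 1 := by
      rw [← h, inf_idem]; exact Subgroup.relIndex_self _
    omega
  have hcore : (MulAction.stabilizer G a).normalCore = ⊥ := by
    rw [eq_bot_iff]
    intro x hx
    rw [Subgroup.mem_bot]
    apply FaithfulSMul.eq_of_smul_eq_smul (α := Ω)
    intro c
    obtain ⟨k, hk⟩ := MulAction.exists_smul_eq G a c
    have h1 : k⁻¹ * x * k⁻¹⁻¹ ∈ MulAction.stabilizer G a := hx k⁻¹
    rw [MulAction.mem_stabilizer_iff] at h1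
    rw [one_smul, ← hk]
    have e : x * k = k * (k⁻¹ * x * k⁻¹⁻¹) := by group
    rw [smul_smul, e, ← smul_smul, h1]
  obtain ⟨p, hp, P, hPn, hPp, hPb, hPi⟩ := Cfsg.Agent.Lib.Helper30.wielandt_bound
    (MulAction.stabilizer G a) (MulAction.stabilizer G b) hmax g hconj hne hcore d hrel
  refine ⟨p, hp, P, hPn, hPp, ?_, hPi⟩
  intro x
  exact MulAction.mem_stabilizer_iff.mp (hPb x)

end Cfsg.Agent.S3682
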