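import Cfsg.Statements.S3683

set_option autoImplicit false
open Cfsg

namespace Cfsg.Agent.S3683

open MulAction in
/-- Let a finite group G act faithfully and primitively on a set Ω, and suppose the stabilizer of a point a fixes a second point b ≠ a (a suborbit of length 1 other than {a}). Then the stabilizer of a is trivial and G is cyclic of prime order. -/
theorem result {G Ω : Type*} [Group G] [Finite G] [MulAction G Ω] [FaithfulSMul G Ω] [Finite Ω]
    (hprim : MulAction.IsPreprimitive G Ω) (a b : Ω) (hab : a ≠ b) (hfix : ∀ g : G, g • a = a → g • b = b) :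
    MulAction.stabilizer G a = ⊥ ∧ IsCyclic G ∧ (Nat.card G).Prime := by
  have : Nontrivial Ω := ⟨⟨a, b, hab⟩⟩
  have : IsPretransitive G Ω := hprim.toIsPretransitive
  have hco : IsCoatom (stabilizer G a) :=
    IsPreprimitive.isCoatom_stabilizer_of_isPreprimitive G a
  have hle : stabilizer G a ≤ stabilizer G b := fun g hg => by
    rw [mem_stabilizer_iff] at hg ⊢
    exact hfix g hg
  have hbtop : stabilizer G b ≠ ⊤ := by
    intro h
    obtain ⟨g, hg⟩ := exists_smul_eq G b a
    have : g ∈ stabilizer G b := by rw [h]; trivial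
    rw [mem_stabilizer_iff] at this
    exact hab (hg.symm.trans this)
  have heq : stabilizer G a = stabilizer G b := by
    by_contra hne
    exact hbtop (hco.2 _ (lt_of_le_of_ne hle hne))
  obtain ⟨g, hg⟩ := exists_smul_eq G a b
  -- g normalizes the stabilizer
  have hgn : g ∈ Subgroup.normalizer ((stabilizer G a : Subgroup G) : Set G) := by
    rw [Subgroup.mem_normalizer_iff]
    intro h
    have h1 : stabilizer G b = (stabilizer G a).map (MulAut.conj g).toMonoidHom := by
      rw [← hg]; exact stabilizer_smul_eq_stabilizer_map_conj g a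
    constructor
    · intro hh
      rw [heq, h1]
      exact ⟨h, hh, rfl⟩
    · intro hh
      rw [heq, h1] at hh
      obtain ⟨k, hk, hk'⟩ := hh
      have : k = h := by
        simpa using hk'
      rwa [← this]
  have hgS : g ∉ stabilizer G a := by
    intro h
    rw [mem_stabilizer_iff] at h
    exact hab (h.symm.trans hg)
  have hnorm : Subgroup.normalizer ((stabilizer G a : Subgroup G) : Set G) = ⊤ := by
    apply hco.2
    refine lt_of_le_of_ne Subgroup.le_normalizer ?_
    intro h
    apply hgS
    rw [h]; exact hgn
  have hN : (stabilizer G a).Normal := Subgroup.normalizer_eq_top_iff.mp hnorm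
  have hbot : stabilizer G a = ⊥ := by
    rw [Subgroup.eq_bot_iff_forall]
    intro s hs
    apply FaithfulSMul.eq_of_smul_eq_smul (α := Ω)
    intro x
    obtain ⟨k, rfl⟩ := exists_smul_eq G a x
    have : k⁻¹ * s * k ∈ stabilizer G a := by
      have := hN.conj_mem s hs k⁻¹
      simpa using this
    rw [mem_stabilizer_iff] at this
    rw [one_smul]
    calc s • k • a = k • ((k⁻¹ * s * k) • a) := by simp [mul_smul]
      _ = k • a := by rw [this]
  refine ⟨hbot, ?_⟩
  rw [hbot] at hco
  -- every subgroup is ⊥ or ⊤
  have hnt : Nontrivial G := by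
    by_contra h
    rw [not_nontrivial_iff_subsingleton] at h
    exact hco.1 (Subsingleton.elim _ _)
  have hcard : 1 < Nat.card G := Finite.one_lt_card
  obtain ⟨p, hp, hpd⟩ := Nat.exists_prime_and_dvd (ne_of_gt hcard)
  have := Fact.mk hp
  obtain ⟨y, hy⟩ := exists_prime_orderOf_dvd_card' p hpd
  have hy1 : y ≠ 1 := by
    intro h
    rw [h, orderOf_one] at hy
    exact hp.one_lt.ne hy
  have hz : Subgroup.zpowers y = ⊤ := by
    by_contra hne
    have hlt : (⊥ : Subgroup G) < Subgroup.zpowers y := by
      rw [bot_lt_iff_ne_bot]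
      intro h
      exact hy1 (Subgroup.zpowers_eq_bot.mp h)
    exact hne (hco.2 _ hlt)
  have hcyc : IsCyclic G := ⟨⟨y, fun x => by
    have : x ∈ Subgroup.zpowers y := by rw [hz]; trivial
    exact this⟩⟩
  refine ⟨hcyc, ?_⟩
  have : Nat.card G = p := by
    rw [← hy, ← Nat.card_zpowers, hz]
    exact (Subgroup.card_top).symm
  rw [this]; exact hp

end Cfsg.Agent.S3683
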