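import Cfsg.Statements.S3684
import Cfsg.Agent.Lib.Helper61.DihedralLift

set_option autoImplicit false
open Cfsg

namespace Cfsg.Agent.S3684

open MulAction Cfsg.Agent.Lib.Helper61

theorem normal_le_stabilizer_eq_bot {G Ω : Type*} [Group G] [MulAction G Ω] [FaithfulSMul G Ω]
    [IsPretransitive G Ω] (a : Ω) (N : Subgroup G) (hN : N.Normal) (hle : N ≤ stabilizer G a) :
    N = ⊥ := by
  rw [Subgroup.eq_bot_iff_forall]
  intro s hs
  apply FaithfulSMul.eq_of_smul_eq_smul (α := Ω)
  intro x
  obtain ⟨k, rfl⟩ := exists_smul_eq G a x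
  have : k⁻¹ * s * k ∈ stabilizer G a := by
    have := hN.conj_mem s hs k⁻¹
    apply hle
    simpa using this
  rw [mem_stabilizer_iff] at this
  rw [one_smul]
  calc s • k • a = k • ((k⁻¹ * s * k) • a) := by simp [mul_smul]
    _ = k • a := by rw [this]

/-- Let a finite group G act faithfully and primitively on a set Ω, and suppose the stabilizer of a point a has an orbit of length 2. Then the stabilizer of a has order 2 and G is isomorphic to the dihedral group of order 2p for some prime p. -/
theorem result {G Ω : Type*} [Group G] [Finite G] [MulAction G Ω] [FaithfulSMul G Ω] [Finite Ω]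
    (hprim : MulAction.IsPreprimitive G Ω) (a b : Ω) (h2 : Nat.card (MulAction.orbit (MulAction.stabilizer G a) b) = 2) :
    Nat.card (MulAction.stabilizer G a) = 2 ∧ ∃ p : ℕ, p.Prime ∧ Nonempty (G ≃* DihedralGroup p) := by
  have : IsPretransitive G Ω := hprim.toIsPretransitive
  have hnt : Nontrivial Ω := by
    by_contra h
    rw [not_nontrivial_iff_subsingleton] at h
    have : Nat.card (orbit (stabilizer G a) b) ≤ 1 := Finite.card_le_one_iff_subsingleton.mpr inferInstance
    omega
  set S := stabilizer G a with hS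
  set S' := stabilizer G b with hS'
  have hco : IsCoatom S := IsPreprimitive.isCoatom_stabilizer_of_isPreprimitive G a
  -- relative index 2
  have hrel : S'.relIndex S = 2 := by
    have h1 : (stabilizer S b).index = 2 := by
      rw [index_stabilizer, ← Nat.card_coe_set_eq]; exact h2
    have h3 : stabilizer S b = S'.subgroupOf S := by
      ext g
      simp [Subgroup.mem_subgroupOf, mem_stabilizer_iff, hS', Subgroup.smul_def]
    rw [Subgroup.relIndex, ← h3]; exact h1
  have hcardΩ : Nat.card Ω ≠ 0 := Nat.card_pos.ne'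
  have hcardS : Nat.card S = Nat.card S' := by
    have e1 := S.card_mul_index
    have e2 := S'.card_mul_index
    rw [hS, index_stabilizer_of_transitive] at e1
    rw [hS', index_stabilizer_of_transitive] at e2
    exact Nat.eq_of_mul_eq_mul_right (Nat.pos_of_ne_zero hcardΩ) (e1.trans e2.symm)
  set T := S ⊓ S' with hT
  have hTS : T ≤ S := inf_le_left
  have hTS' : T ≤ S' := inf_le_right
  have hrelT : T.relIndex S = 2 := by
    rw [hT, inf_comm, Subgroup.inf_relIndex_right]; exact hrel
  have hcT : Nat.card T * 2 = Nat.card S := by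
    have := (T.subgroupOf S).card_mul_index
    rw [← Subgroup.relIndex, hrelT, Nat.card_congr (Subgroup.subgroupOfEquivOfLe hTS).toEquiv] at this
    exact this
  have hrelT' : T.relIndex S' = 2 := by
    have := (T.subgroupOf S').card_mul_index
    rw [← Subgroup.relIndex, Nat.card_congr (Subgroup.subgroupOfEquivOfLe hTS').toEquiv,
      ← hcardS, ← hcT] at this
    have hpos : 0 < Nat.card T := Nat.card_pos
    exact Nat.eq_of_mul_eq_mul_left hpos this
  have hn1 : S ≤ Subgroup.normalizer (T : Set G) := by
    rw [← Subgroup.normal_subgroupOf_iff_le_normalizer hTS]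
    exact Subgroup.normal_of_index_eq_two hrelT
  have hn2 : S' ≤ Subgroup.normalizer (T : Set G) := by
    rw [← Subgroup.normal_subgroupOf_iff_le_normalizer hTS']
    exact Subgroup.normal_of_index_eq_two hrelT'
  have hS'S : ¬ S' ≤ S := by
    intro h
    have : T = S' := by rw [hT]; exact inf_eq_right.mpr h
    rw [this, ← hcardS] at hcT
    have hpos : 0 < Nat.card S := Nat.card_pos
    omega
  have hsup : S ⊔ S' = ⊤ := by
    apply hco.2
    refine lt_of_le_of_ne le_sup_left ?_
    intro h
    apply hS'S
    rw [h]; exact le_sup_right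
  have hTn : T.Normal := by
    rw [← Subgroup.normalizer_eq_top_iff, eq_top_iff, ← hsup]
    exact sup_le hn1 hn2
  have hTbot : T = ⊥ := normal_le_stabilizer_eq_bot a T hTn hTS
  have hS2 : Nat.card S = 2 := by
    rw [← hcT, hTbot]; simp
  refine ⟨hS2, ?_⟩
  -- an involution generating S
  have h2p : Nat.Prime 2 := Nat.prime_two
  have := Fact.mk h2p
  obtain ⟨t0, ht0⟩ := exists_prime_orderOf_dvd_card' (G := S) 2 (by rw [hS2])
  set t : G := (t0 : G) with ht
  have htS : t ∈ S := t0.2
  have hto : orderOf t = 2 := by rw [ht, Subgroup.orderOf_coe]; exact ht0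
  have htt : t * t = 1 := by rw [← pow_two, ← hto]; exact pow_orderOf_eq_one t
  have ht1 : t ≠ 1 := by
    intro h; rw [h, orderOf_one] at hto; omega
  have hSz : S = Subgroup.zpowers t := by
    symm
    apply Subgroup.eq_of_le_of_card_ge
    · rw [Subgroup.zpowers_le]; exact htS
    · rw [Nat.card_zpowers, hto, hS2]
  have hSmem : ∀ g ∈ S, g = 1 ∨ g = t := by
    intro g hg
    rw [hSz, Subgroup.mem_zpowers_iff] at hg
    obtain ⟨k, rfl⟩ := hg
    rcases Int.even_or_odd k with ⟨m, rfl⟩ | ⟨m, rfl⟩
    · left
      rw [← two_mul, zpow_mul, zpow_ofNat, pow_two, htt, one_zpow]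
    · right
      rw [zpow_add, zpow_one, zpow_mul, zpow_ofNat, pow_two, htt, one_zpow, one_mul]
  -- S is not normal
  have hSnn : ¬ S.Normal := by
    intro h
    have := normal_le_stabilizer_eq_bot a S h le_rfl
    rw [this] at hS2
    simp at hS2
  have hex : ∃ g : G, g * t * g⁻¹ ∉ S := by
    by_contra hcon
    push Not at hcon
    apply hSnn
    constructor
    intro n hn g
    rcases hSmem n hn with rfl | rfl
    · simp [S.one_mem]
    · exact hcon g
  obtain ⟨g, hg⟩ := hex
  set t' := g * t * g⁻¹ with ht'
  have ht't' : t' * t' = 1 := by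
    rw [ht']
    calc g * t * g⁻¹ * (g * t * g⁻¹) = g * (t * t) * g⁻¹ := by group
      _ = 1 := by rw [htt]; group
  have ht'inv : t'⁻¹ = t' := inv_eq_of_mul_eq_one_right ht't'
  have htinv : t⁻¹ = t := inv_eq_of_mul_eq_one_right htt
  have hclos : Subgroup.closure ({t, t'} : Set G) = ⊤ := by
    apply hco.2
    refine lt_of_le_of_ne ?_ ?_
    · rw [hSz, Subgroup.zpowers_le]
      exact Subgroup.subset_closure (by simp)
    · intro h
      apply hg
      rw [h]
      exact Subgroup.subset_closure (by simp)
  set x := t * t' with hx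
  have hsx : t * x * t = x⁻¹ := by
    rw [hx, mul_inv_rev, ht'inv, htinv, ← mul_assoc, htt, one_mul]
  have hxinv : x⁻¹ = t' * t := by rw [hx, mul_inv_rev, ht'inv, htinv]
  have hgen : ∀ y : G, y ∈ Subgroup.zpowers x → t * y ≠ 1 → t * y ≠ t →
      Subgroup.closure ({t, t * y} : Set G) = ⊤ := by
    intro y _ h1 h2
    apply hco.2
    refine lt_of_le_of_ne ?_ ?_
    · rw [hSz, Subgroup.zpowers_le]
      exact Subgroup.subset_closure (by simp)
    · intro h
      have : t * y ∈ S := by
        rw [h]; exact Subgroup.subset_closure (by simp)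
      rcases hSmem _ this with h' | h'
      · exact h1 h'
      · exact h2 h'
  have hclos2 : Subgroup.closure ({t, x} : Set G) = ⊤ := by
    rw [eq_top_iff, ← hclos, Subgroup.closure_le]
    intro z hz
    rcases hz with rfl | rfl
    · exact Subgroup.subset_closure (by simp)
    · have : t' = t * x := by rw [hx, ← mul_assoc, htt, one_mul]
      rw [SetLike.mem_coe, this]
      exact Subgroup.mul_mem _ (Subgroup.subset_closure (by simp)) (Subgroup.subset_closure (by simp))
  have ht'S : t' ≠ t := by
    intro h; apply hg; rw [h]; exact htS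
  have ht'1 : t' ≠ 1 := by
    intro h; apply hg; rw [h]; exact S.one_mem
  have hx1 : x ≠ 1 := by
    intro h
    apply ht'S
    have : t' = t⁻¹ := eq_inv_of_mul_eq_one_right h
    rw [this, htinv]
  have hns : t ∉ Subgroup.zpowers x := by
    intro hmem
    obtain ⟨k, hk⟩ := Subgroup.mem_zpowers_iff.mp hmem
    have hcomm : t * x = x * t := by
      rw [← hk, ← zpow_add_one, ← zpow_one_add]; congr 1; ring
    -- then x = x⁻¹
    have hxx : x * x = 1 := by
      have : x⁻¹ = x := by
        rw [← hsx, hcomm, mul_assoc, htt, mul_one]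
      calc x * x = x * x⁻¹ := by rw [this]
        _ = 1 := mul_inv_cancel x
    -- powers of x are 1 or x
    have hpx : ∀ k : ℤ, x ^ k = 1 ∨ x ^ k = x := by
      intro k
      rcases Int.even_or_odd k with ⟨m, rfl⟩ | ⟨m, rfl⟩
      · left
        rw [← two_mul, zpow_mul, zpow_ofNat, pow_two, hxx, one_zpow]
      · right
        rw [zpow_add, zpow_one, zpow_mul, zpow_ofNat, pow_two, hxx, one_zpow, one_mul]
    rcases hpx k with h | h
    · rw [h] at hk; exact ht1 hk.symm
    · rw [h] at hk
      apply ht'1
      have : t * t' = t * 1 := by rw [← hx, mul_one]; exact hk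
      exact mul_left_cancel this
  let e := dihedralEquiv t x htt hsx hns hclos2
  set n := orderOf x with hn
  have hcardG : Nat.card G = 2 * n := by
    rw [← Nat.card_congr e.toEquiv, DihedralGroup.nat_card]
  have hn0 : n ≠ 0 := (orderOf_pos x).ne'
  have hn1' : n ≠ 1 := by
    intro h; apply hx1; rwa [hn, orderOf_eq_one_iff] at h
  obtain ⟨q, hq, hqn⟩ := Nat.exists_prime_and_dvd hn1'
  -- y = x^(n/q) has order q
  set y := x ^ (n / q) with hy
  have hyq : y ^ q = 1 := by
    rw [hy, ← pow_mul, Nat.div_mul_cancel hqn]; exact pow_orderOf_eq_one x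
  have hy1 : y ≠ 1 := by
    intro h
    rw [hy] at h
    have hdvd := orderOf_dvd_of_pow_eq_one h
    rw [← hn] at hdvd
    have hpos : 0 < n / q := Nat.div_pos (Nat.le_of_dvd (Nat.pos_of_ne_zero hn0) hqn) hq.pos
    have hle := Nat.le_of_dvd hpos hdvd
    have hlt : n / q < n := Nat.div_lt_self (Nat.pos_of_ne_zero hn0) hq.one_lt
    omega
  have hymem : y ∈ Subgroup.zpowers x := Subgroup.npow_mem_zpowers x _
  have hty1 : t * y ≠ 1 := by
    intro h
    apply hns
    have : t = y⁻¹ := eq_inv_of_mul_eq_one_left h
    rw [this]; exact Subgroup.inv_mem _ hymem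
  have htyt : t * y ≠ t := by
    intro h
    apply hy1
    have : t * y = t * 1 := by rw [mul_one]; exact h
    exact mul_left_cancel this
  have hcl3 := hgen y hymem hty1 htyt
  -- relation t y t = y⁻¹
  have hsy : t * y * t = y⁻¹ := by
    have h1 : t * y * t⁻¹ = (t * x * t⁻¹) ^ (n / q) := by
      rw [hy, conj_pow]
    rw [htinv, hsx, inv_pow] at h1
    rw [h1]
  have hcl4 : Subgroup.closure ({t, y} : Set G) = ⊤ := by
    rw [eq_top_iff, ← hcl3, Subgroup.closure_le]
    intro z hz
    rcases hz with rfl | rfl
    · exact Subgroup.subset_closure (by simp)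
    · exact Subgroup.mul_mem _ (Subgroup.subset_closure (by simp)) (Subgroup.subset_closure (by simp))
  have hsurj := dihedralLift_surjective t y q htt hsy hyq hcl4
  have hle : Nat.card G ≤ 2 * q := by
    have : NeZero q := ⟨hq.ne_zero⟩
    have := Nat.card_le_card_of_surjective _ hsurj
    rwa [DihedralGroup.nat_card] at this
  have hnq : n = q := by
    have h1 : q ≤ n := Nat.le_of_dvd (Nat.pos_of_ne_zero hn0) hqn
    omega
  exact ⟨q, hq, ⟨(hnq ▸ e).symm⟩⟩

end Cfsg.Agent.S3684
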