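import Cfsg.Statements.S3693
import Cfsg.Agent.Lib.Helper30.WielandtBound

set_option autoImplicit false
open Cfsg

namespace Cfsg.Agent.S3693

/-- Let a finite group G act faithfully and primitively on a set Ω, let a and b be points such that the orbit Δ of b under the stabilizer H of a has length d ≥ 2, and consider the permutation group induced on Δ by the elements of H fixing b. If that induced group has trivial Fitting subgroup (no non-trivial nilpotent normal subgroup), then the two-point stabilizer of a and b has trivial Fitting subgroup and the order of H divides d! · ((d - 1)!)^d. -/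
theorem result {G Ω : Type*} [Group G] [Finite G] [MulAction G Ω] [FaithfulSMul G Ω] [Finite Ω]
    (hprim : MulAction.IsPreprimitive G Ω) (a b : Ω) (d : ℕ) (hd : Nat.card (MulAction.orbit (MulAction.stabilizer G a) b) = d) (h2 : 2 ≤ d)
    (hF : Cfsg.fittingSubgroup ↥(((MulAction.stabilizer G b).subgroupOf (MulAction.stabilizer G a)).map (MulAction.toPermHom (MulAction.stabilizer G a) (MulAction.orbit (MulAction.stabilizer G a) b))) = ⊥) :
    Cfsg.fittingSubgroup ↥(MulAction.stabilizer G a ⊓ MulAction.stabilizer G b) = ⊥ ∧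
      Nat.card (MulAction.stabilizer G a) ∣ Nat.factorial d * (Nat.factorial (d - 1)) ^ d := by
  classical
  obtain ⟨g, hmax, hconj, hne, hcore, hrel⟩ :=
    Cfsg.Agent.Lib.Helper30.tw_of_primitive hprim a b d hd h2
  -- every normal `r`-subgroup of the two-point stabilizer lies in the first core
  have hK : ∀ (r : ℕ) [Fact r.Prime] (R : Subgroup G),
      R ≤ MulAction.stabilizer G a ⊓ MulAction.stabilizer G b → IsPGroup r R →
      MulAction.stabilizer G a ⊓ MulAction.stabilizer G b ≤ Subgroup.normalizer (R : Set G) →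
      R ≤ Cfsg.Agent.Lib.Helper30.twCore (MulAction.stabilizer G a)
        (MulAction.stabilizer G a ⊓ MulAction.stabilizer G b) := by
    intro r _ R hRD hRp hRn
    set H := MulAction.stabilizer G a with hH
    set f := MulAction.toPermHom H (MulAction.orbit H b) with hf
    set Hb : Subgroup H := (MulAction.stabilizer G b).subgroupOf H with hHb
    set I : Subgroup (Equiv.Perm (MulAction.orbit H b)) := Hb.map f with hI
    set RH : Subgroup H := R.subgroupOf H with hRH
    have hRHb : RH ≤ Hb := by
      intro x hx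
      exact Subgroup.mem_subgroupOf.mpr (hRD (Subgroup.mem_subgroupOf.mp hx)).2
    set J : Subgroup (Equiv.Perm (MulAction.orbit H b)) := RH.map f with hJ
    have hJI : J ≤ I := Subgroup.map_mono hRHb
    have hJn : (J.subgroupOf I).Normal := by
      constructor
      intro y hy x
      rw [Subgroup.mem_subgroupOf] at hy ⊢
      obtain ⟨ρ, hρ, hρy⟩ := hy
      obtain ⟨h, hh, hhx⟩ := x.2
      refine ⟨h * ρ * h⁻¹, ?_, ?_⟩
      · change ((h * ρ * h⁻¹ : ↥H) : G) ∈ R
        have hhD : (h : G) ∈ MulAction.stabilizer G a ⊓ MulAction.stabilizer G b :=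
          ⟨h.2, Subgroup.mem_subgroupOf.mp hh⟩
        have := (Subgroup.mem_normalizer_iff.mp (hRn hhD) (ρ : G)).mp
          (Subgroup.mem_subgroupOf.mp hρ)
        simpa using this
      · rw [map_mul, map_mul, map_inv, hρy, hhx]
        rfl
    have hJp : IsPGroup r ↥(J.subgroupOf I) := by
      have h1 : IsPGroup r ↥RH := hRp.comap_subtype
      have h2 : IsPGroup r ↥J := h1.map f
      exact h2.comap_subtype
    have hJnil : Group.IsNilpotent ↥(J.subgroupOf I) := hJp.isNilpotent
    have hJle := Cfsg.Agent.Lib.Helper22.le_fittingSubgroup hJn hJnil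
    rw [hF] at hJle
    have hfix : ∀ ρ ∈ RH, f ρ = 1 := by
      intro ρ hρ
      have h1 : f ρ ∈ J := ⟨ρ, hρ, rfl⟩
      have h2 : (⟨f ρ, hJI h1⟩ : ↥I) ∈ J.subgroupOf I := Subgroup.mem_subgroupOf.mpr h1
      have h3 := hJle h2
      rw [Subgroup.mem_bot] at h3
      exact congrArg Subtype.val h3
    intro x hx
    have hxH : x ∈ H := (hRD hx).1
    apply Cfsg.Agent.Lib.Helper30.twCore_mem _ _ hxH
    intro n hn
    refine ⟨H.mul_mem (H.mul_mem hn hxH) (H.inv_mem hn), ?_⟩
    change (n * x * n⁻¹) • b = b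
    have hδ : n⁻¹ • b ∈ MulAction.orbit H b := ⟨⟨n⁻¹, H.inv_mem hn⟩, rfl⟩
    have h1 := hfix ⟨x, hxH⟩ (Subgroup.mem_subgroupOf.mpr hx)
    have h2 : (f ⟨x, hxH⟩) ⟨n⁻¹ • b, hδ⟩ = ⟨n⁻¹ • b, hδ⟩ := by rw [h1]; rfl
    have h3 : x • (n⁻¹ • b) = n⁻¹ • b := congrArg Subtype.val h2
    rw [mul_smul, mul_smul, h3, smul_inv_smul]
  -- the Fitting subgroup of the two-point stabilizer is trivial
  have hcores : ∀ r : Nat.Primes, Cfsg.pCore (r : ℕ)
      ↥(MulAction.stabilizer G a ⊓ MulAction.stabilizer G b) = ⊥ := by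
    intro r
    have : Fact (r : ℕ).Prime := ⟨r.2⟩
    exact Cfsg.Agent.Lib.Helper30.tw_pCore_inf_eq_bot _ _ hmax g hconj hne hcore (r : ℕ)
      (hK (r : ℕ))
  refine ⟨?_, ?_⟩
  · rw [Cfsg.Agent.Lib.Helper22.fittingSubgroup_eq_iSup_pCore, eq_bot_iff]
    apply iSup_le
    intro r
    rw [hcores r]
  · rcases Cfsg.Agent.Lib.Helper30.wielandt_alternative
      (MulAction.stabilizer G a) (MulAction.stabilizer G b) hmax g hconj hne hcore d hrel with h | h
    · exact h
    · exfalso
      obtain ⟨hA, p, hp, hAp, -⟩ := h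
      have : Fact p.Prime := ⟨hp⟩
      apply hA
      set A := Cfsg.Agent.Lib.Helper30.twCore (MulAction.stabilizer G a)
        (Cfsg.Agent.Lib.Helper30.twCore (MulAction.stabilizer G a)
            (MulAction.stabilizer G a ⊓ MulAction.stabilizer G b) ⊓
          Cfsg.Agent.Lib.Helper30.twCore (MulAction.stabilizer G b)
            (MulAction.stabilizer G a ⊓ MulAction.stabilizer G b)) with hAdef
      have hAD : A ≤ MulAction.stabilizer G a ⊓ MulAction.stabilizer G b :=
        ((Cfsg.Agent.Lib.Helper30.twCore_le_right _ _).trans inf_le_left).trans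
          (Cfsg.Agent.Lib.Helper30.twCore_le_right _ _)
      have hAn : MulAction.stabilizer G a ⊓ MulAction.stabilizer G b ≤
          Subgroup.normalizer (A : Set G) :=
        inf_le_left.trans (Cfsg.Agent.Lib.Helper30.twCore_norm _ _)
      have h1 : A ≤ Cfsg.Agent.Lib.Helper30.bpO
          (MulAction.stabilizer G a ⊓ MulAction.stabilizer G b) p :=
        Cfsg.Agent.Lib.Helper30.le_bpO_of_subnormal hAD hAp
          (Cfsg.Agent.Lib.Helper62.snIn_of_le_normalizer hAD hAn).2
      have h2 : Cfsg.Agent.Lib.Helper30.bpO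
          (MulAction.stabilizer G a ⊓ MulAction.stabilizer G b) p = ⊥ := by
        unfold Cfsg.Agent.Lib.Helper30.bpO
        rw [hcores ⟨p, hp⟩, Subgroup.map_bot]
      rw [h2] at h1
      exact eq_bot_iff.mpr h1

end Cfsg.Agent.S3693
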