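import Cfsg.Statements.S3696
import Mathlib

set_option autoImplicit false
set_option linter.unusedVariables false
set_option linter.unusedSectionVars false
open Cfsg

namespace Cfsg.Agent.S3696

theorem amgm_real (x y : ℝ) (a b : ℕ) (hx : 0 ≤ x) (hy : 0 ≤ y) (ha : 0 < a) (hb : 0 < b) :
    x ^ a * y ^ b * ((a : ℝ) + b) ^ (a + b) ≤ (x + y) ^ (a + b) * ((a : ℝ) ^ a * (b : ℝ) ^ b) := by
  have ha' : (0 : ℝ) < a := by exact_mod_cast ha
  have hb' : (0 : ℝ) < b := by exact_mod_cast hb
  have hab : (0 : ℝ) < (a : ℝ) + b := by positivity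
  have key := Real.geom_mean_le_arith_mean2_weighted (w₁ := (a : ℝ) / (a + b))
    (w₂ := (b : ℝ) / (a + b)) (p₁ := x / a) (p₂ := y / b) (by positivity) (by positivity)
    (by positivity) (by positivity) (by field_simp)
  have rhs : (a : ℝ) / (a + b) * (x / a) + (b : ℝ) / (a + b) * (y / b) = (x + y) / (a + b) := by
    field_simp
  rw [rhs] at key
  have h2 := pow_le_pow_left₀ (by positivity) key (a + b)
  have e1 : ((x / a) ^ ((a : ℝ) / (a + b))) ^ (a + b) = (x / a) ^ a := by
    rw [← Real.rpow_natCast, ← Real.rpow_mul (by positivity)]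
    have : (a : ℝ) / (a + b) * ((a + b : ℕ) : ℝ) = (a : ℕ) := by
      push_cast
      field_simp
    rw [this, Real.rpow_natCast]
  have e2 : ((y / b) ^ ((b : ℝ) / (a + b))) ^ (a + b) = (y / b) ^ b := by
    rw [← Real.rpow_natCast, ← Real.rpow_mul (by positivity)]
    have : (b : ℝ) / (a + b) * ((a + b : ℕ) : ℝ) = (b : ℕ) := by
      push_cast
      field_simp
    rw [this, Real.rpow_natCast]
  rw [mul_pow, e1, e2, div_pow, div_pow, div_pow] at h2
  rw [div_mul_div_comm, div_le_div_iff₀ (by positivity) (by positivity)] at h2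
  linarith

theorem amgm_nat (x y a b : ℕ) :
    x ^ a * y ^ b * (a + b) ^ (a + b) ≤ (x + y) ^ (a + b) * (a ^ a * b ^ b) := by
  rcases Nat.eq_zero_or_pos a with rfl | ha
  · simp only [pow_zero, one_mul, zero_add]
    exact Nat.mul_le_mul_right _ (Nat.pow_le_pow_left (Nat.le_add_left _ _) _)
  rcases Nat.eq_zero_or_pos b with rfl | hb
  · simp only [pow_zero, mul_one, add_zero]
    exact Nat.mul_le_mul_right _ (Nat.pow_le_pow_left (Nat.le_add_right _ _) _)
  have := amgm_real x y a b (Nat.cast_nonneg _) (Nat.cast_nonneg _) ha hb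
  exact_mod_cast this

theorem le_two_pow_pred (d : ℕ) (hd : 1 ≤ d) : d ≤ 2 ^ (d - 1) := by
  have := Nat.lt_two_pow_self (n := d - 1)
  omega

theorem pow_bound (p a d : ℕ) (hp : 2 ≤ p) (hd : 1 ≤ d) (hda : d ≤ a) :
    p ^ a * d ^ d ≤ (p ^ a) ^ d := by
  have h1 : d ^ d ≤ p ^ (a * (d - 1)) := by
    calc d ^ d ≤ (2 ^ (d - 1)) ^ d := Nat.pow_le_pow_left (le_two_pow_pred d hd) d
      _ = 2 ^ ((d - 1) * d) := by rw [← pow_mul]
      _ ≤ p ^ ((d - 1) * d) := Nat.pow_le_pow_left hp _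
      _ ≤ p ^ (a * (d - 1)) := by
          apply Nat.pow_le_pow_right (by omega)
          rw [mul_comm]
          exact Nat.mul_le_mul_right _ hda
  calc p ^ a * d ^ d ≤ p ^ a * p ^ (a * (d - 1)) := Nat.mul_le_mul_left _ h1
    _ = (p ^ a) ^ d := by
        rw [← pow_add, ← pow_mul]
        congr 1
        obtain ⟨e, rfl⟩ : ∃ e, d = e + 1 := ⟨d - 1, by omega⟩
        simp only [Nat.add_sub_cancel]
        ring

/-- the arithmetic step. -/
theorem arith_step (K x y a d : ℕ) (hd : 1 ≤ d) (h1 : K * a ^ a ≤ x ^ a) (h2 : y * d ^ d ≤ y ^ d) :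
    K * y * (a + d) ^ (a + d) ≤ (x + y) ^ (a + d) := by
  have h3 := amgm_nat x y a d
  have hpos : 0 < a ^ a * d ^ d := by
    apply Nat.mul_pos
    · rcases Nat.eq_zero_or_pos a with rfl | ha
      · simp
      · exact Nat.pow_pos ha
    · exact Nat.pow_pos (by omega)
  apply Nat.le_of_mul_le_mul_right _ hpos
  calc K * y * (a + d) ^ (a + d) * (a ^ a * d ^ d)
      = (K * a ^ a) * (y * d ^ d) * (a + d) ^ (a + d) := by ring
    _ ≤ x ^ a * y ^ d * (a + d) ^ (a + d) :=
        Nat.mul_le_mul_right _ (Nat.mul_le_mul h1 h2)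
    _ ≤ (x + y) ^ (a + d) * (a ^ a * d ^ d) := h3

section
variable {Ω : Type*} [Fintype Ω] [DecidableEq Ω]

/-- the elements of order dividing `p` of an abelian permutation group. -/
def socle (p : ℕ) (A : Subgroup (Equiv.Perm Ω)) (hab : ∀ x ∈ A, ∀ y ∈ A, x * y = y * x) :
    Subgroup (Equiv.Perm Ω) where
  carrier := {x | x ∈ A ∧ x ^ p = 1}
  one_mem' := ⟨A.one_mem, one_pow p⟩
  mul_mem' := by
    rintro a b ⟨ha, hap⟩ ⟨hb, hbp⟩
    refine ⟨A.mul_mem ha hb, ?_⟩
    have hc : Commute a b := hab a ha b hb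
    rw [hc.mul_pow, hap, hbp, one_mul]
  inv_mem' := by
    rintro a ⟨ha, hap⟩
    exact ⟨A.inv_mem ha, by rw [inv_pow, hap, inv_one]⟩

theorem mem_socle (p : ℕ) (A : Subgroup (Equiv.Perm Ω)) (hab : ∀ x ∈ A, ∀ y ∈ A, x * y = y * x)
    (x : Equiv.Perm Ω) : x ∈ socle p A hab ↔ x ∈ A ∧ x ^ p = 1 := Iff.rfl

theorem socle_le (p : ℕ) (A : Subgroup (Equiv.Perm Ω)) (hab : ∀ x ∈ A, ∀ y ∈ A, x * y = y * x) :
    socle p A hab ≤ A := fun x hx => hx.1

/-- orbit-stabilizer for a permutation group. -/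
theorem card_orbit_mul (H : Subgroup (Equiv.Perm Ω)) (ω : Ω) :
    (MulAction.orbit ↥H ω).ncard *
      Nat.card ↥(H ⊓ MulAction.stabilizer (Equiv.Perm Ω) ω) = Nat.card H := by
  rw [← MulAction.index_stabilizer, mul_comm,
    ← Subgroup.card_mul_index (MulAction.stabilizer ↥H ω)]
  congr 1
  apply Nat.card_congr
  refine ⟨fun x => ⟨⟨x.1, (Subgroup.mem_inf.mp x.2).1⟩, ?_⟩,
    fun y => ⟨y.1.1, Subgroup.mem_inf.mpr ⟨y.1.2, ?_⟩⟩, fun x => rfl, fun y => rfl⟩
  · rw [MulAction.mem_stabilizer_iff]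
    exact MulAction.mem_stabilizer_iff.mp (Subgroup.mem_inf.mp x.2).2
  · rw [MulAction.mem_stabilizer_iff]
    exact MulAction.mem_stabilizer_iff.mp y.2

theorem mem_orbit_iff (H : Subgroup (Equiv.Perm Ω)) (ω x : Ω) :
    x ∈ MulAction.orbit ↥H ω ↔ ∃ h ∈ H, h ω = x := by
  constructor
  · rintro ⟨h, rfl⟩
    exact ⟨h.1, h.2, rfl⟩
  · rintro ⟨h, hh, rfl⟩
    exact ⟨⟨h, hh⟩, rfl⟩


theorem main (p : ℕ) [hp : Fact p.Prime] : ∀ (m : ℕ) (A : Subgroup (Equiv.Perm Ω))
    (hab : ∀ x ∈ A, ∀ y ∈ A, x * y = y * x) (hA : IsPGroup p A) (T : Finset Ω), T.card = m →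
    (∀ g ∈ A, ∀ ω, ω ∉ T → g ω = ω) → ∀ k, Nat.card (socle p A hab) = p ^ k →
    Nat.card A * k ^ k ≤ m ^ k := by
  classical
  intro m
  induction m using Nat.strong_induction_on with
  | _ m ih =>
  intro A hab hA T hT hsupp k hk
  by_cases hA1 : A = ⊥
  · subst hA1
    have hs : socle p ⊥ hab = ⊥ := le_bot_iff.mp (socle_le p ⊥ hab)
    rw [hs, Subgroup.card_bot] at hk
    have hk0 : k = 0 := by
      by_contra hne
      have : 1 < p ^ k := Nat.one_lt_pow hne hp.out.one_lt
      omega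
    subst hk0
    simp
  · obtain ⟨N, hN⟩ := hA.exists_card_eq
    have hcard : p ∣ Nat.card A := by
      rcases Nat.eq_zero_or_pos N with rfl | hNpos
      · exfalso
        rw [pow_zero] at hN
        exact hA1 (Subgroup.card_eq_one.mp hN)
      · rw [hN]
        exact dvd_pow_self p hNpos.ne'
    obtain ⟨s, hs⟩ := exists_prime_orderOf_dvd_card' p hcard
    have hs0A : (s : Equiv.Perm Ω) ∈ A := s.2
    have hs0p : (s : Equiv.Perm Ω) ^ p = 1 := by
      have := pow_orderOf_eq_one s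
      rw [hs] at this
      have h2 := congrArg (Subtype.val) this
      simpa using h2
    have hs01 : (s : Equiv.Perm Ω) ≠ 1 := by
      intro h
      have : s = 1 := Subtype.ext h
      rw [this, orderOf_one] at hs
      exact hp.out.one_lt.ne hs
    obtain ⟨ω, hω⟩ : ∃ ω, (s : Equiv.Perm Ω) ω ≠ ω := by
      by_contra hcon
      push Not at hcon
      exact hs01 (Equiv.ext hcon)
    have hωT : ω ∈ T := by
      by_contra h
      exact hω (hsupp _ hs0A ω h)
    set K : Subgroup (Equiv.Perm Ω) := A ⊓ MulAction.stabilizer (Equiv.Perm Ω) ω with hK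
    have habK : ∀ x ∈ K, ∀ y ∈ K, x * y = y * x := fun x hx y hy =>
      hab x (Subgroup.mem_inf.mp hx).1 y (Subgroup.mem_inf.mp hy).1
    have hKp : IsPGroup p K := hA.to_le inf_le_left
    set S := socle p A hab with hS
    have hOA := card_orbit_mul A ω
    have hOS := card_orbit_mul S ω
    have hsocK : socle p K habK = S ⊓ MulAction.stabilizer (Equiv.Perm Ω) ω := by
      ext x
      rw [mem_socle, Subgroup.mem_inf, Subgroup.mem_inf, hS, mem_socle]
      tauto
    rw [← hsocK] at hOS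
    have hsub : MulAction.orbit ↥S ω ⊆ MulAction.orbit ↥A ω := by
      intro x hx
      rw [mem_orbit_iff] at hx ⊢
      obtain ⟨h, hh, rfl⟩ := hx
      exact ⟨h, socle_le p A hab hh, rfl⟩
    have h2OS : 1 < (MulAction.orbit ↥S ω).ncard := by
      rw [Set.one_lt_ncard_iff (Set.toFinite _)]
      refine ⟨ω, (s : Equiv.Perm Ω) ω, MulAction.mem_orbit_self ω, ?_, fun h => hω h.symm⟩
      rw [mem_orbit_iff]
      exact ⟨s, ⟨hs0A, hs0p⟩, rfl⟩
    -- p-powers
    obtain ⟨d, hdk, hd⟩ : ∃ d ≤ k, (MulAction.orbit ↥S ω).ncard = p ^ d := by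
      apply (Nat.dvd_prime_pow hp.out).mp
      rw [← hk, ← hOS]
      exact Dvd.intro _ rfl
    obtain ⟨k', hk'k, hk'⟩ : ∃ k' ≤ k, Nat.card (socle p K habK) = p ^ k' := by
      apply (Nat.dvd_prime_pow hp.out).mp
      rw [← hk, ← hOS]
      exact Dvd.intro_left _ rfl
    obtain ⟨a, haN, ha⟩ : ∃ a ≤ N, (MulAction.orbit ↥A ω).ncard = p ^ a := by
      apply (Nat.dvd_prime_pow hp.out).mp
      rw [← hN, ← hOA]
      exact Dvd.intro _ rfl
    have hd1 : 1 ≤ d := by
      rcases Nat.eq_zero_or_pos d with rfl | h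
      · rw [hd, pow_zero] at h2OS
        exact absurd h2OS (lt_irrefl _)
      · exact h
    have hkk : k = d + k' := by
      rw [hd, hk', hk, ← pow_add] at hOS
      exact (Nat.pow_right_injective hp.out.two_le hOS).symm
    have hda : d ≤ a := by
      have := Set.ncard_le_ncard hsub (Set.toFinite _)
      rw [hd, ha] at this
      exact (Nat.pow_le_pow_iff_right hp.out.one_lt).mp this
    -- the complement of the orbit
    have hOAT : MulAction.orbit ↥A ω ⊆ (T : Set Ω) := by
      intro x hx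
      rw [mem_orbit_iff] at hx
      obtain ⟨h, hh, rfl⟩ := hx
      by_contra hxT
      have h1 := hsupp h⁻¹ (A.inv_mem hh) (h ω) hxT
      have h1' : h⁻¹ (h ω) = ω := by simp
      rw [h1'] at h1
      rw [← h1] at hxT
      exact hxT hωT
    set T' : Finset Ω := T.filter (fun x => x ∉ MulAction.orbit ↥A ω) with hT'
    have hcardT : T'.card + p ^ a = m := by
      have h1 := Finset.card_filter_add_card_filter_not (s := T)
        (fun x => x ∈ MulAction.orbit ↥A ω)
      have h2 : (T.filter (fun x => x ∈ MulAction.orbit ↥A ω)).card = p ^ a := by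
        rw [← ha, ← Set.ncard_coe_finset]
        congr 1
        ext x
        simp only [Finset.coe_filter, Set.mem_ofPred_eq]
        constructor
        · exact fun h => h.2
        · exact fun h => ⟨hOAT h, h⟩
      rw [h2, hT] at h1
      have h3 : (Finset.filter (fun x => ¬ x ∈ MulAction.orbit ↥A ω) T).card = T'.card := by
        rw [hT']
      omega
    have hKsupp : ∀ g ∈ K, ∀ x, x ∉ T' → g x = x := by
      intro g hg x hx
      obtain ⟨hgA, hgω⟩ := Subgroup.mem_inf.mp hg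
      by_cases hxT : x ∈ T
      · have hxO : x ∈ MulAction.orbit ↥A ω := by
          by_contra h
          exact hx (Finset.mem_filter.mpr ⟨hxT, h⟩)
        rw [mem_orbit_iff] at hxO
        obtain ⟨h, hh, rfl⟩ := hxO
        have h1 : g ω = ω := MulAction.mem_stabilizer_iff.mp hgω
        have h2 := hab g hgA h hh
        calc g (h ω) = (g * h) ω := rfl
          _ = (h * g) ω := by rw [h2]
          _ = h (g ω) := rfl
          _ = h ω := by rw [h1]
      · exact hsupp g hgA x hxT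
    have hp2 : 2 ≤ p ^ a := by
      calc 2 ≤ p ^ d := by rw [← hd]; exact h2OS
        _ ≤ p ^ a := Nat.pow_le_pow_right hp.out.pos hda
    have hlt : T'.card < m := by omega
    have IH := ih T'.card hlt K habK hKp T' rfl hKsupp k' hk'
    have hfin := arith_step (Nat.card K) T'.card (p ^ a) k' d hd1 IH
      (pow_bound p a d hp.out.two_le hd1 hda)
    rw [hcardT] at hfin
    rw [hkk, ← hOA, ha]
    calc p ^ a * Nat.card K * (d + k') ^ (d + k')
        = Nat.card K * p ^ a * (k' + d) ^ (k' + d) := by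
          rw [add_comm d k']; ring
      _ ≤ m ^ (k' + d) := hfin
      _ = m ^ (d + k') := by rw [add_comm]

end

theorem result {Ω : Type*} [Fintype Ω] [DecidableEq Ω]
    (p : ℕ) (hp : p.Prime) (hn : p ≤ Fintype.card Ω) (A : Subgroup (Equiv.Perm Ω)) (hA : IsPGroup p A) (hab : IsMulCommutative A)
    (k : ℕ) (hk : Nat.card {x : A // x ^ p = 1} = p ^ k) :
    Nat.card A * k ^ k ≤ Fintype.card Ω ^ k := by
  have : Fact p.Prime := ⟨hp⟩
  have hab' : ∀ x ∈ A, ∀ y ∈ A, x * y = y * x := by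
    intro x hx y hy
    have := mul_comm' (⟨x, hx⟩ : A) ⟨y, hy⟩
    exact congrArg Subtype.val this
  have hk' : Nat.card (socle p A hab') = p ^ k := by
    rw [← hk]
    apply Nat.card_congr
    refine ⟨fun x => ⟨⟨x.1, x.2.1⟩, Subtype.ext x.2.2⟩, fun y => ⟨y.1.1, y.1.2, ?_⟩,
      fun x => rfl, fun y => rfl⟩
    have := congrArg Subtype.val y.2
    simpa using this
  have := main p (Fintype.card Ω) A hab' hA Finset.univ Finset.card_univ
    (fun g _ ω hω => absurd (Finset.mem_univ ω) hω) k hk'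
  exact this

end Cfsg.Agent.S3696
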