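import Cfsg.Statements.S3703
import Cfsg.Agent.Lib.Helper58.Mazurov

set_option autoImplicit false
open Cfsg

namespace Cfsg.Agent.S3703

open Cfsg.Agent.Lib.Helper58.Mazurov
open scoped Pointwise

/-- Let N be a normal subgroup of the finite group G such that G/N is a Frobenius group with kernel F and cyclic complement H, where the order of F is coprime to that of N and F is not contained in the image of C_G(N) in G/N. Then G has an element of order p·#H for some prime p dividing the order of N. (A standard tool in recognising groups by their element orders.) -/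
theorem result {G : Type*} [Group G] [Finite G] (N : Subgroup G) [N.Normal]
    (Fb Hb : Subgroup (G ⧸ N)) [Fb.Normal] (hHb : Cfsg.IsFrobeniusComplement Hb) (hker : Cfsg.frobeniusKernel Hb = (Fb : Set (G ⧸ N)))
    (hcyc : IsCyclic Hb) (hcop : (Nat.card Fb).Coprime (Nat.card N))
    (hnot : ¬ Fb ≤ (Subgroup.centralizer (N : Set G)).map (QuotientGroup.mk' N)) :
    ∃ p : ℕ, p.Prime ∧ p ∣ Nat.card N ∧ ∃ g : G, orderOf g = p * Nat.card Hb := by
  classical
  by_contra hno
  obtain ⟨hHbot, hHtop, hmal⟩ := hHb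
  set π := QuotientGroup.mk' N with hπ
  have hπsurj : Function.Surjective π := QuotientGroup.mk'_surjective N
  have hπone : ∀ z : G, π z = 1 ↔ z ∈ N := fun z => QuotientGroup.eq_one_iff z
  -- (A0) Fb ∩ Hb = 1
  have hA : ∀ x : G ⧸ N, x ∈ Fb → x ∈ Hb → x = 1 := by
    intro x hxF hxH
    have hx : x ∈ Cfsg.frobeniusKernel Hb := by rw [hker]; exact hxF
    rcases hx with hx | hx
    · exact hx
    · exfalso
      apply hx 1
      rw [map_one, one_smul]
      exact hxH
  -- (B0) malnormality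
  have hB : ∀ y c : G ⧸ N, y ∈ Hb → y ≠ 1 → c * y * c⁻¹ = y → c ∈ Hb := by
    intro y c hy hy1 hc
    by_contra hcH
    have h1 := hmal c hcH
    have h2 : y ∈ MulAut.conj c • Hb := by
      have : MulAut.conj c • y ∈ MulAut.conj c • Hb := Subgroup.smul_mem_pointwise_smul _ _ _ hy
      rwa [MulAut.smul_def, MulAut.conj_apply, hc] at this
    have h3 : y ∈ Hb ⊓ MulAut.conj c • Hb := ⟨hy, h2⟩
    rw [h1, Subgroup.mem_bot] at h3
    exact hy1 h3
  -- generator
  obtain ⟨hb, hgen⟩ := hcyc.exists_generator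
  set m := Nat.card Hb with hm
  have hmo : orderOf hb = m := orderOf_eq_card_of_forall_mem_zpowers hgen
  have hmo' : orderOf (hb : G ⧸ N) = m := by rw [Subgroup.orderOf_coe, hmo]
  have hmpos : 0 < m := Nat.card_pos
  have hb1 : (hb : G ⧸ N) ≠ 1 := by
    intro h1
    apply hHbot
    rw [Subgroup.eq_bot_iff_forall]
    intro x hx
    have h2 : hb = 1 := Subtype.ext h1
    have h3 := hgen ⟨x, hx⟩
    rw [h2, Subgroup.zpowers_one_eq_bot, Subgroup.mem_bot] at h3
    exact congrArg Subtype.val h3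
  obtain ⟨h, hh⟩ := hπsurj (hb : G ⧸ N)
  -- (C) every element of the coset is a conjugate
  have hC : ∀ fb ∈ Fb, ∃ c ∈ Fb, (hb : G ⧸ N) * fb = c⁻¹ * (hb : G ⧸ N) * c := by
    let ψ : Fb → Fb := fun c =>
      ⟨(hb : G ⧸ N)⁻¹ * (c : G ⧸ N)⁻¹ * (hb : G ⧸ N) * c, by
        refine Fb.mul_mem ?_ c.2
        have := (inferInstance : Fb.Normal).conj_mem _ (Fb.inv_mem c.2) (hb : G ⧸ N)⁻¹
        simpa [mul_assoc] using this⟩
    have hψinj : Function.Injective ψ := by
      intro c c' hcc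
      have h1 : (hb : G ⧸ N)⁻¹ * (c : G ⧸ N)⁻¹ * (hb : G ⧸ N) * c =
          (hb : G ⧸ N)⁻¹ * (c' : G ⧸ N)⁻¹ * (hb : G ⧸ N) * c' := congrArg Subtype.val hcc
      have h2 : (c : G ⧸ N)⁻¹ * (hb : G ⧸ N) * c = (c' : G ⧸ N)⁻¹ * (hb : G ⧸ N) * c' := by
        have := congrArg (fun t => (hb : G ⧸ N) * t) h1
        simpa [mul_assoc] using this
      have h3 : ((c' : G ⧸ N) * (c : G ⧸ N)⁻¹) * (hb : G ⧸ N) * ((c' : G ⧸ N) * (c : G ⧸ N)⁻¹)⁻¹ =
          (hb : G ⧸ N) := by
        calc ((c' : G ⧸ N) * (c : G ⧸ N)⁻¹) * (hb : G ⧸ N) * ((c' : G ⧸ N) * (c : G ⧸ N)⁻¹)⁻¹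
            = (c' : G ⧸ N) * ((c : G ⧸ N)⁻¹ * (hb : G ⧸ N) * c) * (c' : G ⧸ N)⁻¹ := by group
          _ = (hb : G ⧸ N) := by rw [h2]; group
      have h4 : (c' : G ⧸ N) * (c : G ⧸ N)⁻¹ ∈ Hb := hB _ _ hb.2 hb1 h3
      have h5 := hA _ (Fb.mul_mem c'.2 (Fb.inv_mem c.2)) h4
      apply Subtype.ext
      have : (c' : G ⧸ N) = c := by
        calc (c' : G ⧸ N) = (c' : G ⧸ N) * (c : G ⧸ N)⁻¹ * c := by group
          _ = c := by rw [h5, one_mul]
      exact this.symm
    have hψsurj : Function.Surjective ψ := Finite.injective_iff_surjective.mp hψinj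
    intro fb hfb
    obtain ⟨c, hc⟩ := hψsurj ⟨fb, hfb⟩
    refine ⟨c, c.2, ?_⟩
    have h1 : (hb : G ⧸ N)⁻¹ * (c : G ⧸ N)⁻¹ * (hb : G ⧸ N) * c = fb := congrArg Subtype.val hc
    rw [← h1]
    group
  set F : Subgroup G := Fb.comap π with hF
  have hconjpow : ∀ (c : G ⧸ N) (i : ℕ), (c⁻¹ * (hb : G ⧸ N) * c) ^ i = c⁻¹ * (hb : G ⧸ N) ^ i * c := by
    intro c i
    have := conj_pow (a := c⁻¹) (b := (hb : G ⧸ N)) (i := i)
    simpa using this
  -- image of coset elements
  have himg : ∀ f ∈ F, ∃ c ∈ Fb, π (h * f) = c⁻¹ * (hb : G ⧸ N) * c := by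
    intro f hf
    obtain ⟨c, hc, hcc⟩ := hC (π f) hf
    exact ⟨c, hc, by rw [map_mul, hh, hcc]⟩
  have himgord : ∀ f ∈ F, orderOf (π (h * f)) = m := by
    intro f hf
    obtain ⟨c, hc, hcc⟩ := himg f hf
    rw [hcc, ← hmo']
    have := MulEquiv.orderOf_eq (MulAut.conj c⁻¹) (hb : G ⧸ N)
    rwa [MulAut.conj_apply, inv_inv] at this
  -- all elements of the coset have order m
  have hord : ∀ f ∈ F, orderOf (h * f) = m := by
    intro f hf
    set g := h * f with hg
    have h1 : m ∣ orderOf g := by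
      rw [← himgord f hf]
      exact orderOf_map_dvd π g
    have h2 : g ^ m ∈ N := by
      rw [← hπone, map_pow, ← himgord f hf, pow_orderOf_eq_one]
    set k := orderOf (g ^ m) with hk
    have hkN : k ∣ Nat.card N := by
      have := orderOf_dvd_natCard (⟨g ^ m, h2⟩ : N)
      rwa [Subgroup.orderOf_mk] at this
    have hgo : orderOf g = m * k := by
      rw [hk, orderOf_pow_of_dvd hmpos.ne' h1, Nat.mul_div_cancel' h1]
    by_cases hk1 : k = 1
    · rw [hgo, hk1, mul_one]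
    · exfalso
      apply hno
      have hkpos : 0 < k := orderOf_pos _
      obtain ⟨p, hp, hpk⟩ := Nat.exists_prime_and_dvd hk1
      refine ⟨p, hp, hpk.trans hkN, g ^ (k / p), ?_⟩
      obtain ⟨q, hq⟩ := hpk
      have hqpos : 0 < q := by
        rcases Nat.eq_zero_or_pos q with h0 | h0
        · rw [h0, mul_zero] at hq; omega
        · exact h0
      have hkp : k / p = q := by rw [hq, Nat.mul_div_cancel_left _ hp.pos]
      rw [hkp, orderOf_pow_of_dvd hqpos.ne' (by rw [hgo, hq]; exact ⟨m * p, by ring⟩), hgo, hq]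
      rw [show m * (p * q) = (p * m) * q by ring, Nat.mul_div_cancel _ hqpos]
  have hFn : F.Normal := Subgroup.Normal.comap inferInstance π
  have hNF : N ≤ F := by
    intro z hz
    show π z ∈ Fb
    rw [(hπone z).mpr hz]
    exact Fb.one_mem
  have H : MHyp N F h m := by
    refine ⟨inferInstance, hFn, hNF, hord, ?_⟩
    intro f hf i hi f' hf' hcomm
    obtain ⟨c, hc, hcc⟩ := himg f hf
    have hi' : (π (h * f)) ^ i ≠ 1 := by
      intro h1
      apply hi
      have h2 : m ∣ i := by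
        rw [← himgord f hf]
        exact orderOf_dvd_of_pow_eq_one h1
      rw [← hord f hf] at h2
      exact orderOf_dvd_iff_pow_eq_one.mp h2
    rw [hcc, hconjpow] at hi'
    have hy0 : (hb : G ⧸ N) ^ i ≠ 1 := by
      intro h1
      apply hi'
      rw [h1]; group
    have hy0H : (hb : G ⧸ N) ^ i ∈ Hb := Hb.pow_mem hb.2 i
    have hcomm' : π ((h * f) ^ i * f' * ((h * f) ^ i)⁻¹ * f'⁻¹) = 1 := (hπone _).mpr hcomm
    rw [map_mul, map_mul, map_mul, map_inv, map_inv, map_pow, hcc, hconjpow] at hcomm'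
    set fb' := π f' with hfb'
    have hfb'F : fb' ∈ Fb := hf'
    set c0 := c * fb' * c⁻¹ with hc0
    have hc0F : c0 ∈ Fb := (inferInstance : Fb.Normal).conj_mem _ hfb'F c
    have hc0y : c0 * (hb : G ⧸ N) ^ i * c0⁻¹ = (hb : G ⧸ N) ^ i := by
      have e1 : c⁻¹ * (hb : G ⧸ N) ^ i * c * fb' = fb' * (c⁻¹ * (hb : G ⧸ N) ^ i * c) := by
        have := congrArg (fun t => t * fb' * (c⁻¹ * (hb : G ⧸ N) ^ i * c)) hcomm'
        simpa [mul_assoc] using this
      calc c0 * (hb : G ⧸ N) ^ i * c0⁻¹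
          = c * (fb' * (c⁻¹ * (hb : G ⧸ N) ^ i * c)) * fb'⁻¹ * c⁻¹ := by rw [hc0]; group
        _ = c * (c⁻¹ * (hb : G ⧸ N) ^ i * c * fb') * fb'⁻¹ * c⁻¹ := by rw [e1]
        _ = (hb : G ⧸ N) ^ i := by group
    have hc0H : c0 ∈ Hb := hB _ _ hy0H hy0 hc0y
    have hc01 : c0 = 1 := hA _ hc0F hc0H
    have hfb1 : fb' = 1 := by
      calc fb' = c⁻¹ * c0 * c := by rw [hc0]; group
        _ = 1 := by rw [hc01]; group
    exact (hπone f').mp hfb1
  have hmain := main H
  apply hnot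
  intro fb hfb
  set ν := Nat.card N with hν
  have hfbo : (orderOf fb).Coprime ν := by
    apply Nat.Coprime.coprime_dvd_left _ hcop
    have := orderOf_dvd_natCard (⟨fb, hfb⟩ : Fb)
    rwa [Subgroup.orderOf_mk] at this
  obtain ⟨k, hk⟩ := exists_pow_eq_self_of_coprime hfbo.symm
  obtain ⟨y, hy⟩ := hπsurj fb
  set x := (y ^ ν) ^ k with hx
  have hπx : π x = fb := by rw [hx, map_pow, map_pow, hy, hk]
  have hxF : x ∈ F := by
    show π x ∈ Fb
    rw [hπx]; exact hfb
  have hyN : y ^ orderOf fb ∈ N := by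
    rw [← hπone, map_pow, hy, pow_orderOf_eq_one]
  have hyν : (y ^ ν) ^ orderOf fb = 1 := by
    rw [← pow_mul, mul_comm, pow_mul]
    have := pow_card_eq_one' (G := N) (x := ⟨y ^ orderOf fb, hyN⟩)
    exact congrArg Subtype.val this
  have hxo : (orderOf x).Coprime ν := by
    apply Nat.Coprime.coprime_dvd_left _ hfbo
    exact (orderOf_pow_dvd k).trans (orderOf_dvd_of_pow_eq_one hyν)
  refine ⟨x, ?_, hπx⟩
  rw [SetLike.mem_coe, Subgroup.mem_centralizer_iff]
  intro v hv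
  exact (hmain x hxF hxo v hv).symm

end Cfsg.Agent.S3703
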