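import Cfsg.Statements.S3704

set_option autoImplicit false
set_option linter.unusedSectionVars false
open Cfsg

namespace Cfsg.Agent.S3704

open MulAction

section incidence

variable {G Ω : Type*} [Group G] [MulAction G Ω] (H : Subgroup G)

/-- Incidence between points and cosets: `ω ∈ x • O` for some representative `x` of `c`. -/
def Inc (O : Set Ω) (ω : Ω) (c : G ⧸ H) : Prop :=
  ∃ x : G, (QuotientGroup.mk x : G ⧸ H) = c ∧ x⁻¹ • ω ∈ O

theorem inc_mk {O : Set Ω} (hO : ∀ h ∈ H, ∀ ω, h • ω ∈ O ↔ ω ∈ O) (ω : Ω) (x : G) :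
    Inc H O ω (QuotientGroup.mk x) ↔ x⁻¹ • ω ∈ O := by
  constructor
  · rintro ⟨y, hy, hyO⟩
    have h1 : y⁻¹ * x ∈ H := QuotientGroup.eq.mp hy
    have h2 : x⁻¹ • ω = (y⁻¹ * x)⁻¹ • (y⁻¹ • ω) := by
      rw [← mul_smul]; congr 1; group
    rw [h2]
    exact (hO _ (H.inv_mem h1) _).mpr hyO
  · intro h
    exact ⟨x, rfl, h⟩

theorem inc_smul (O : Set Ω) (g : G) (ω : Ω) (c : G ⧸ H) :
    Inc H O (g • ω) (g • c) ↔ Inc H O ω c := by
  constructor
  · rintro ⟨x, hx, hxO⟩
    refine ⟨g⁻¹ * x, ?_, ?_⟩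
    · show (QuotientGroup.mk (g⁻¹ • x) : G ⧸ H) = c
      rw [← MulAction.Quotient.smul_mk, hx, inv_smul_smul]
    · have : (g⁻¹ * x)⁻¹ • ω = x⁻¹ • g • ω := by
        rw [← mul_smul]; congr 1; group
      rw [this]; exact hxO
  · rintro ⟨y, hy, hyO⟩
    refine ⟨g * y, ?_, ?_⟩
    · show (QuotientGroup.mk (g • y) : G ⧸ H) = g • c
      rw [← MulAction.Quotient.smul_mk, hy]
    · have : (g * y)⁻¹ • g • ω = y⁻¹ • ω := by
        rw [← mul_smul]; congr 1; group
      rw [this]; exact hyO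

variable [Fintype Ω] [Fintype (G ⧸ H)]

open Classical in
/-- The incidence matrix. -/
noncomputable def incM (O : Set Ω) : Matrix Ω (G ⧸ H) ℚ :=
  fun ω c => if Inc H O ω c then 1 else 0

open Classical in
theorem incM_smul (O : Set Ω) (g : G) (ω : Ω) (c : G ⧸ H) :
    incM H O (g • ω) (g • c) = incM H O ω c :=
  if_congr (inc_smul H O g ω c) rfl rfl

open Classical in
theorem incM_mk {O : Set Ω} (hO : ∀ h ∈ H, ∀ ω, h • ω ∈ O ↔ ω ∈ O) (ω : Ω) (x : G) :
    incM H O ω (QuotientGroup.mk x) = if x⁻¹ • ω ∈ O then 1 else 0 :=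
  if_congr (inc_mk H hO ω x) rfl rfl

open Classical in
theorem incM_colsum {O : Set Ω} (hO : ∀ h ∈ H, ∀ ω, h • ω ∈ O ↔ ω ∈ O) (c : G ⧸ H) :
    ∑ ω, incM H O ω c = (O.ncard : ℚ) := by
  induction c using QuotientGroup.induction_on with
  | H x =>
    simp only [incM_mk H hO]
    rw [← Equiv.sum_comp (MulAction.toPerm x)]
    simp only [MulAction.toPerm_apply, inv_smul_smul]
    rw [Finset.sum_boole, Set.ncard_eq_toFinset_card']
    congr 2
    ext ω
    simp

theorem incM_mul_inter {O O' : Set Ω} (hO : ∀ h ∈ H, ∀ ω, h • ω ∈ O ↔ ω ∈ O)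
    (hO' : ∀ h ∈ H, ∀ ω, h • ω ∈ O' ↔ ω ∈ O') (ω : Ω) (c : G ⧸ H) :
    incM H O ω c * incM H O' ω c = incM H (O ∩ O') ω c := by
  have hOO' : ∀ h ∈ H, ∀ ω, h • ω ∈ O ∩ O' ↔ ω ∈ O ∩ O' := by
    intro h hh ω
    simp only [Set.mem_inter_iff, hO h hh, hO' h hh]
  induction c using QuotientGroup.induction_on with
  | H x =>
    simp only [incM_mk H hO, incM_mk H hO', incM_mk H hOO', Set.mem_inter_iff]
    by_cases h1 : x⁻¹ • ω ∈ O <;> by_cases h2 : x⁻¹ • ω ∈ O' <;> simp [h1, h2]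

open Classical in
/-- The Gram identity: products of incidence matrices are combinations of `1` and `J`. -/
theorem incM_gram (htr : ∀ a b : Ω, ∃ g : G, g • a = b)
    (h2t : ∀ a b c d : Ω, a ≠ b → c ≠ d → ∃ g : G, g • a = c ∧ g • b = d)
    (hcard : Fintype.card (G ⧸ H) = Fintype.card Ω) (hn : 2 ≤ Fintype.card Ω)
    {O O' : Set Ω} (hO : ∀ h ∈ H, ∀ ω, h • ω ∈ O ↔ ω ∈ O)
    (hO' : ∀ h ∈ H, ∀ ω, h • ω ∈ O' ↔ ω ∈ O') (ω ω' : Ω) :
    ∑ c, incM H O ω c * incM H O' ω' c =
      if ω = ω' then ((O ∩ O').ncard : ℚ)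
      else ((O.ncard : ℚ) * O'.ncard - (O ∩ O').ncard) / ((Fintype.card Ω : ℚ) - 1) := by
  classical
  set S : Ω → Ω → ℚ := fun ω ω' => ∑ c, incM H O ω c * incM H O' ω' c with hS
  have hOO' : ∀ h ∈ H, ∀ ω, h • ω ∈ O ∩ O' ↔ ω ∈ O ∩ O' := by
    intro h hh ω
    simp only [Set.mem_inter_iff, hO h hh, hO' h hh]
  have hinv : ∀ (g : G) (ω ω' : Ω), S (g • ω) (g • ω') = S ω ω' := by
    intro g ω ω'
    simp only [hS]
    rw [← Equiv.sum_comp (MulAction.toPerm g)]
    simp only [MulAction.toPerm_apply, incM_smul]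
  obtain ⟨ω0, ω1, h01⟩ : ∃ a b : Ω, a ≠ b := by
    have : 1 < Fintype.card Ω := by omega
    exact Fintype.exists_pair_of_one_lt_card this
  have hdiag : ∀ ω, S ω ω = S ω0 ω0 := by
    intro ω
    obtain ⟨g, hg⟩ := htr ω0 ω
    rw [← hg, hinv]
  have hoff : ∀ ω ω', ω ≠ ω' → S ω ω' = S ω0 ω1 := by
    intro ω ω' hne
    obtain ⟨g, hg1, hg2⟩ := h2t ω0 ω1 ω ω' h01 hne
    rw [← hg1, ← hg2, hinv]
  set n : ℚ := (Fintype.card Ω : ℚ) with hnq
  have hn0 : n ≠ 0 := by
    rw [hnq]; exact_mod_cast (by omega : Fintype.card Ω ≠ 0)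
  have hn1 : n - 1 ≠ 0 := by
    have : (2 : ℚ) ≤ n := by rw [hnq]; exact_mod_cast hn
    intro h; linarith
  have hcardC : (Fintype.card (G ⧸ H) : ℚ) = n := by rw [hcard]
  -- total of the diagonal
  have hsum1 : ∑ ω, S ω ω = n * (O ∩ O').ncard := by
    simp only [hS]
    rw [Finset.sum_comm]
    simp only [incM_mul_inter H hO hO', incM_colsum H hOO']
    rw [Finset.sum_const, Finset.card_univ, nsmul_eq_mul, hcardC]
  -- total of everything
  have hsum2 : ∑ ω, ∑ ω', S ω ω' = n * ((O.ncard : ℚ) * O'.ncard) := by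
    simp only [hS]
    have : ∀ c : G ⧸ H, ∑ ω, ∑ ω', incM H O ω c * incM H O' ω' c = (O.ncard : ℚ) * O'.ncard := by
      intro c
      rw [← Finset.sum_mul_sum, incM_colsum H hO, incM_colsum H hO']
    calc ∑ ω, ∑ ω', ∑ c, incM H O ω c * incM H O' ω' c
        = ∑ ω, ∑ c, ∑ ω', incM H O ω c * incM H O' ω' c := by
          apply Finset.sum_congr rfl
          intro ω _
          rw [Finset.sum_comm]
      _ = ∑ c, ∑ ω, ∑ ω', incM H O ω c * incM H O' ω' c := Finset.sum_comm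
      _ = ∑ c : G ⧸ H, (O.ncard : ℚ) * O'.ncard := by
          apply Finset.sum_congr rfl
          intro c _
          exact this c
      _ = n * ((O.ncard : ℚ) * O'.ncard) := by
          rw [Finset.sum_const, Finset.card_univ, nsmul_eq_mul, hcardC]
  have hμ : S ω0 ω0 = (O ∩ O').ncard := by
    have : ∑ ω, S ω ω = n * S ω0 ω0 := by
      rw [Finset.sum_congr rfl (fun ω _ => hdiag ω), Finset.sum_const, Finset.card_univ,
        nsmul_eq_mul]
    rw [this] at hsum1
    exact mul_left_cancel₀ hn0 hsum1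
  have hrow : ∀ ω, ∑ ω', S ω ω' = S ω0 ω0 + (n - 1) * S ω0 ω1 := by
    intro ω
    rw [← Finset.add_sum_erase Finset.univ _ (Finset.mem_univ ω), hdiag ω]
    congr 1
    rw [Finset.sum_congr rfl (fun ω' hω' => hoff ω ω' (Finset.ne_of_mem_erase hω').symm),
      Finset.sum_const, Finset.card_erase_of_mem (Finset.mem_univ ω), Finset.card_univ,
      nsmul_eq_mul, Nat.cast_sub (by omega), Nat.cast_one]
  have hν : S ω0 ω0 + (n - 1) * S ω0 ω1 = (O.ncard : ℚ) * O'.ncard := by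
    have : ∑ ω, ∑ ω', S ω ω' = n * (S ω0 ω0 + (n - 1) * S ω0 ω1) := by
      rw [Finset.sum_congr rfl (fun ω _ => hrow ω), Finset.sum_const, Finset.card_univ,
        nsmul_eq_mul]
    rw [this] at hsum2
    exact mul_left_cancel₀ hn0 hsum2
  show S ω ω' = _
  by_cases h : ω = ω'
  · rw [if_pos h, ← h, hdiag, hμ]
  · rw [if_neg h, hoff ω ω' h, eq_div_iff hn1, ← hν, hμ]
    ring

open Classical in
/-- There cannot be three pairwise disjoint nonempty `H`-invariant sets. -/
theorem no_three_invariant (htr : ∀ a b : Ω, ∃ g : G, g • a = b)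
    (h2t : ∀ a b c d : Ω, a ≠ b → c ≠ d → ∃ g : G, g • a = c ∧ g • b = d)
    (hcard : Fintype.card (G ⧸ H) = Fintype.card Ω) (hn : 2 ≤ Fintype.card Ω)
    {O1 O2 O3 : Set Ω} (h1 : ∀ h ∈ H, ∀ ω, h • ω ∈ O1 ↔ ω ∈ O1)
    (h2 : ∀ h ∈ H, ∀ ω, h • ω ∈ O2 ↔ ω ∈ O2) (h3 : ∀ h ∈ H, ∀ ω, h • ω ∈ O3 ↔ ω ∈ O3)
    (hne1 : O1.Nonempty) (hne2 : O2.Nonempty) (hne3 : O3.Nonempty)
    (d12 : Disjoint O1 O2) (d13 : Disjoint O1 O3) (d23 : Disjoint O2 O3) : False := by
  have hU : ∀ h ∈ H, ∀ ω : Ω, h • ω ∈ (Set.univ : Set Ω) ↔ ω ∈ (Set.univ : Set Ω) := by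
    intro h _ ω; simp
  set n : ℚ := (Fintype.card Ω : ℚ) with hnq
  set k1 : ℚ := (O1.ncard : ℚ) with hk1
  set k2 : ℚ := (O2.ncard : ℚ) with hk2
  set k3 : ℚ := (O3.ncard : ℚ) with hk3
  have hn1 : n - 1 ≠ 0 := by
    have : (2 : ℚ) ≤ n := by rw [hnq]; exact_mod_cast hn
    intro h; linarith
  have hk1pos : 0 < k1 := by
    rw [hk1]; exact_mod_cast (Set.ncard_pos).mpr hne1
  have hk2pos : 0 < k2 := by
    rw [hk2]; exact_mod_cast (Set.ncard_pos).mpr hne2
  have hk3pos : 0 < k3 := by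
    rw [hk3]; exact_mod_cast (Set.ncard_pos).mpr hne3
  have hk12 : k1 + k2 ≤ n := by
    have : O1.ncard + O2.ncard ≤ Fintype.card Ω := by
      rw [← Set.ncard_union_eq d12, ← Nat.card_eq_fintype_card]
      exact Set.ncard_le_card _
    rw [hk1, hk2, hnq]; exact_mod_cast this
  have i12 : (O1 ∩ O2).ncard = 0 := by
    rw [Set.disjoint_iff_inter_eq_empty.mp d12]; simp
  have i13 : (O1 ∩ O3).ncard = 0 := by
    rw [Set.disjoint_iff_inter_eq_empty.mp d13]; simp
  set M1 := incM H O1 with hM1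
  set M2 := incM H O2 with hM2
  set M3 := incM H O3 with hM3
  set U := incM H (Set.univ : Set Ω) with hUdef
  let J : Matrix Ω Ω ℚ := Matrix.of fun _ _ => 1
  set lam : ℚ := (k1 * k1 - k1) / (n - 1) with hlam
  set nu12 : ℚ := k1 * k2 / (n - 1) with hnu12
  set nu13 : ℚ := k1 * k3 / (n - 1) with hnu13
  have G11 : M1 * M1.transpose = (k1 - lam) • (1 : Matrix Ω Ω ℚ) + lam • J := by
    ext ω ω'
    rw [Matrix.mul_apply]
    simp only [Matrix.transpose_apply]
    rw [hM1, incM_gram H htr h2t hcard hn h1 h1, Set.inter_self]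
    simp only [Matrix.add_apply, Matrix.smul_apply, Matrix.one_apply, J, Matrix.of_apply,
      smul_eq_mul]
    by_cases h : ω = ω'
    · simp only [if_pos h]; rw [← hk1]; ring
    · simp only [if_neg h]; rw [← hk1, hlam]; ring
  have G1U : M1 * U.transpose = k1 • J := by
    ext ω ω'
    rw [Matrix.mul_apply]
    simp only [Matrix.transpose_apply]
    rw [hM1, hUdef, incM_gram H htr h2t hcard hn h1 hU, Set.inter_univ, Set.ncard_univ,
      Nat.card_eq_fintype_card]
    simp only [Matrix.smul_apply, J, Matrix.of_apply, smul_eq_mul]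
    by_cases h : ω = ω'
    · simp only [if_pos h]; rw [← hk1]; ring
    · simp only [if_neg h]; rw [← hk1, ← hnq]; field_simp
  have G12 : M1 * M2.transpose = nu12 • (J - 1) := by
    ext ω ω'
    rw [Matrix.mul_apply]
    simp only [Matrix.transpose_apply]
    rw [hM1, hM2, incM_gram H htr h2t hcard hn h1 h2, i12]
    simp only [Matrix.sub_apply, Matrix.smul_apply, Matrix.one_apply, J, Matrix.of_apply,
      smul_eq_mul]
    by_cases h : ω = ω'
    · simp only [if_pos h]; simp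
    · simp only [if_neg h]; rw [← hk1, ← hk2, ← hnq, hnu12]; simp
  have G13 : M1 * M3.transpose = nu13 • (J - 1) := by
    ext ω ω'
    rw [Matrix.mul_apply]
    simp only [Matrix.transpose_apply]
    rw [hM1, hM3, incM_gram H htr h2t hcard hn h1 h3, i13]
    simp only [Matrix.sub_apply, Matrix.smul_apply, Matrix.one_apply, J, Matrix.of_apply,
      smul_eq_mul]
    by_cases h : ω = ω'
    · simp only [if_pos h]; simp
    · simp only [if_neg h]; rw [← hk1, ← hk3, ← hnq, hnu13]; simp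
  -- a = k1 - lam is nonzero
  set a : ℚ := k1 - lam with ha
  have ha0 : a ≠ 0 := by
    have h4 : a * (n - 1) = k1 * (n - k1) := by
      rw [ha, hlam]; field_simp; ring
    intro h
    rw [h, zero_mul] at h4
    have : 0 < k1 * (n - k1) := mul_pos hk1pos (by linarith)
    linarith
  have hk10 : k1 ≠ 0 := hk1pos.ne'
  -- the right inverse
  set R : Matrix (G ⧸ H) Ω ℚ := a⁻¹ • (M1.transpose - (lam / k1) • U.transpose) with hR
  have hMR : M1 * R = 1 := by
    rw [hR, Matrix.mul_smul, Matrix.mul_sub, Matrix.mul_smul, G11, G1U, smul_smul,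
      div_mul_cancel₀ _ hk10, add_sub_cancel_right, smul_smul, inv_mul_cancel₀ ha0, one_smul]
  have hRM : R * M1 = 1 := (Matrix.mul_eq_one_comm_of_equiv (Fintype.equivOfCardEq hcard.symm)).mp hMR
  set Z : Matrix Ω (G ⧸ H) ℚ := nu13 • M2 - nu12 • M3 with hZ
  have hMZ : M1 * Z.transpose = 0 := by
    rw [hZ, Matrix.transpose_sub, Matrix.transpose_smul, Matrix.transpose_smul, Matrix.mul_sub,
      Matrix.mul_smul, Matrix.mul_smul, G12, G13, smul_smul, smul_smul, mul_comm nu13 nu12,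
      sub_self]
  have hZ0 : Z.transpose = 0 := by
    calc Z.transpose = (R * M1) * Z.transpose := by rw [hRM, Matrix.one_mul]
      _ = R * (M1 * Z.transpose) := Matrix.mul_assoc _ _ _
      _ = 0 := by rw [hMZ, Matrix.mul_zero]
  obtain ⟨ω2, hω2⟩ := hne2
  have hω3 : ω2 ∉ O3 := fun h => (Set.disjoint_left.mp d23) hω2 h
  have hentry : Z ω2 (QuotientGroup.mk 1) = nu13 := by
    rw [hZ]
    simp only [Matrix.sub_apply, Matrix.smul_apply, smul_eq_mul]
    rw [hM2, hM3, incM_mk H h2, incM_mk H h3]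
    simp [hω2, hω3]
  have : Z ω2 (QuotientGroup.mk 1) = 0 := by
    have := congrFun (congrFun hZ0 (QuotientGroup.mk 1)) ω2
    simpa using this
  rw [hentry, hnu13] at this
  have hpos : 0 < k1 * k3 / (n - 1) := by
    apply div_pos (mul_pos hk1pos hk3pos)
    have : (2 : ℚ) ≤ n := by rw [hnq]; exact_mod_cast hn
    linarith
  linarith

end incidence

/-- Let G be a finite group acting faithfully and 2-transitively on a finite set Ω of size n, and let H be a subgroup of index n in G which is not transitive on Ω and fixes no point of Ω. Then H has exactly two orbits on Ω. -/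
theorem result {G Ω : Type*} [Group G] [Finite G] [MulAction G Ω] [FaithfulSMul G Ω] [Finite Ω] (h2 : MulAction.IsMultiplyPretransitive G Ω 2) (H : Subgroup G) (hidx : H.index = Nat.card Ω) (hnt : ¬ MulAction.IsPretransitive H Ω) (hfix : ∀ a : Ω, ∃ h : H, h • a ≠ a) : Nat.card (MulAction.orbitRel.Quotient H Ω) = 2 := by
  classical
  have := Fintype.ofFinite Ω
  have := Fintype.ofFinite (G ⧸ H)
  have hcard : Fintype.card (G ⧸ H) = Fintype.card Ω := by
    rw [← Nat.card_eq_fintype_card, ← Nat.card_eq_fintype_card, ← hidx]; rfl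
  have hn : 2 ≤ Fintype.card Ω := by
    by_contra hlt
    apply hnt
    have : Fintype.card Ω ≤ 1 := by omega
    have hsub : Subsingleton Ω := Fintype.card_le_one_iff_subsingleton.mp this
    exact ⟨fun a b => ⟨1, Subsingleton.elim _ _⟩⟩
  have h2t : ∀ a b c d : Ω, a ≠ b → c ≠ d → ∃ g : G, g • a = c ∧ g • b = d :=
    fun a b c d hab hcd => (is_two_pretransitive_iff.mp h2) hab hcd
  have htr : ∀ a b : Ω, ∃ g : G, g • a = b := by
    intro a b
    by_cases hab : a = b
    · exact ⟨1, by rw [one_smul, hab]⟩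
    · obtain ⟨c, hc⟩ : ∃ c, c ≠ a := by
        have : 1 < Fintype.card Ω := by omega
        obtain ⟨x, y, hxy⟩ := Fintype.exists_pair_of_one_lt_card this
        by_cases hx : x = a
        · exact ⟨y, fun h => hxy (hx.trans h.symm)⟩
        · exact ⟨x, hx⟩
      by_cases hcb : c = b
      · obtain ⟨g, hg1, _⟩ := h2t a c b a (Ne.symm hc) (Ne.symm hab)
        exact ⟨g, hg1⟩
      · obtain ⟨g, hg1, _⟩ := h2t a c b c (Ne.symm hc) (Ne.symm hcb)
        exact ⟨g, hg1⟩
  set Q := MulAction.orbitRel.Quotient H Ω with hQ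
  have hQfin : Finite Q := Quotient.finite _
  have hQnt : Nontrivial Q := by
    by_contra h
    rw [not_nontrivial_iff_subsingleton] at h
    exact hnt ((pretransitive_iff_subsingleton_quotient H Ω).mpr h)
  have hge : 2 ≤ Nat.card Q := Finite.one_lt_card
  have hle : Nat.card Q ≤ 2 := by
    by_contra hgt
    have := Fintype.ofFinite Q
    have h3 : 2 < Fintype.card Q := by
      rw [← Nat.card_eq_fintype_card]; omega
    obtain ⟨q1, q2, q3, h12, h13, h23⟩ := Fintype.two_lt_card_iff.mp h3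
    have hinv : ∀ q : Q, ∀ h ∈ H, ∀ ω : Ω, h • ω ∈ q.orbit ↔ ω ∈ q.orbit := by
      intro q h hh ω
      rw [orbitRel.Quotient.mem_orbit, orbitRel.Quotient.mem_orbit]
      have : (Quotient.mk'' (h • ω) : Q) = Quotient.mk'' ω :=
        orbitRel.Quotient.quotient_smul_eq (G := H) (g := ⟨h, hh⟩) (a := ω)
      rw [this]
    have hdisj : ∀ q q' : Q, q ≠ q' → Disjoint q.orbit q'.orbit := by
      intro q q' hne
      rw [Set.disjoint_left]
      intro ω h1 h2
      rw [orbitRel.Quotient.mem_orbit] at h1 h2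
      exact hne (h1.symm.trans h2)
    exact no_three_invariant H htr h2t hcard hn (hinv q1) (hinv q2) (hinv q3)
      q1.nonempty_orbit q2.nonempty_orbit q3.nonempty_orbit
      (hdisj _ _ h12) (hdisj _ _ h13) (hdisj _ _ h23)
  omega

end Cfsg.Agent.S3704
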