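import Cfsg.Statements.S3707

set_option autoImplicit false
open Cfsg

namespace Cfsg.Agent.S3707

open MulAction
open scoped Pointwise

/-- `A` is a Jordan set: the pointwise stabilizer of its complement is transitive on it. -/
def IsJordan (G : Type*) {Ω : Type*} [Group G] [MulAction G Ω] (A : Set Ω) : Prop :=
  ∀ x ∈ A, ∀ y ∈ A, ∃ g : G, (∀ z ∉ A, g • z = z) ∧ g • x = y

section basic

variable {G Ω : Type*} [Group G] [MulAction G Ω]

theorem IsJordan.smul {A : Set Ω} (hA : IsJordan G A) (k : G) : IsJordan G (k • A) := by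
  intro x hx y hy
  rw [Set.mem_smul_set_iff_inv_smul_mem] at hx hy
  obtain ⟨g, hg1, hg2⟩ := hA _ hx _ hy
  refine ⟨k * g * k⁻¹, ?_, ?_⟩
  · intro z hz
    rw [Set.mem_smul_set_iff_inv_smul_mem] at hz
    rw [mul_smul, mul_smul, hg1 _ hz, smul_inv_smul]
  · rw [mul_smul, mul_smul, hg2, smul_inv_smul]

theorem IsJordan.union {A B : Set Ω} (hA : IsJordan G A) (hB : IsJordan G B) {c : Ω}
    (hcA : c ∈ A) (hcB : c ∈ B) : IsJordan G (A ∪ B) := by
  have key : ∀ x ∈ A ∪ B, ∃ g : G, (∀ z ∉ A ∪ B, g • z = z) ∧ g • x = c := by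
    intro x hx
    rcases hx with hx | hx
    · obtain ⟨g, hg1, hg2⟩ := hA x hx c hcA
      exact ⟨g, fun z hz => hg1 z (fun h => hz (Or.inl h)), hg2⟩
    · obtain ⟨g, hg1, hg2⟩ := hB x hx c hcB
      exact ⟨g, fun z hz => hg1 z (fun h => hz (Or.inr h)), hg2⟩
  intro x hx y hy
  obtain ⟨g, hg1, hg2⟩ := key x hx
  obtain ⟨k, hk1, hk2⟩ := key y hy
  refine ⟨k⁻¹ * g, ?_, ?_⟩
  · intro z hz
    rw [mul_smul, hg1 z hz, inv_smul_eq_iff, hk1 z hz]
  · rw [mul_smul, hg2, inv_smul_eq_iff, hk2]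

/-- Two-transitivity together with a Jordan set whose complement has two points gives
three-transitivity. -/
theorem three_trans_of_jordan [Finite Ω]
    (h2t : ∀ a b c d : Ω, a ≠ b → c ≠ d → ∃ g : G, g • a = c ∧ g • b = d)
    (A : Set Ω) (hA : IsJordan G A) (hAc : Aᶜ.ncard = 2) : IsMultiplyPretransitive G Ω 3 := by
  obtain ⟨α0, β0, hαβ, hAeq⟩ := Set.ncard_eq_two.mp hAc
  have hmemA : ∀ z, z ≠ α0 → z ≠ β0 → z ∈ A := by
    intro z h1 h2
    by_contra hz
    have : z ∈ Aᶜ := hz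
    rw [hAeq] at this
    rcases this with h | h
    · exact h1 h
    · exact h2 h
  have hα0 : α0 ∉ A := by
    have : α0 ∈ Aᶜ := by rw [hAeq]; simp
    exact this
  have hβ0 : β0 ∉ A := by
    have : β0 ∈ Aᶜ := by rw [hAeq]; simp
    exact this
  constructor
  intro x y
  have hx01 : x 0 ≠ x 1 := x.injective.ne (by decide)
  have hx02 : x 0 ≠ x 2 := x.injective.ne (by decide)
  have hx12 : x 1 ≠ x 2 := x.injective.ne (by decide)
  have hy01 : y 0 ≠ y 1 := y.injective.ne (by decide)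
  have hy02 : y 0 ≠ y 2 := y.injective.ne (by decide)
  have hy12 : y 1 ≠ y 2 := y.injective.ne (by decide)
  obtain ⟨k1, hk1a, hk1b⟩ := h2t α0 β0 (x 0) (x 1) hαβ hx01
  obtain ⟨k2, hk2a, hk2b⟩ := h2t α0 β0 (y 0) (y 1) hαβ hy01
  have hu : k1⁻¹ • x 2 ∈ A := by
    apply hmemA
    · intro h
      rw [inv_smul_eq_iff, hk1a] at h
      exact hx02 h.symm
    · intro h
      rw [inv_smul_eq_iff, hk1b] at h
      exact hx12 h.symm
  have hv : k2⁻¹ • y 2 ∈ A := by
    apply hmemA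
    · intro h
      rw [inv_smul_eq_iff, hk2a] at h
      exact hy02 h.symm
    · intro h
      rw [inv_smul_eq_iff, hk2b] at h
      exact hy12 h.symm
  obtain ⟨h, hh1, hh2⟩ := hA _ hu _ hv
  refine ⟨k2 * h * k1⁻¹, ?_⟩
  ext i
  rw [Function.Embedding.smul_apply]
  fin_cases i
  · show (k2 * h * k1⁻¹) • x 0 = y 0
    rw [mul_smul, mul_smul, ← hk1a, inv_smul_smul, hh1 _ hα0, hk2a]
  · show (k2 * h * k1⁻¹) • x 1 = y 1
    rw [mul_smul, mul_smul, ← hk1b, inv_smul_smul, hh1 _ hβ0, hk2b]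
  · show (k2 * h * k1⁻¹) • x 2 = y 2
    rw [mul_smul, mul_smul, hh2, smul_inv_smul]

/-- Two-transitivity from a Jordan set (Mathlib's form of Jordan's theorem). -/
theorem two_trans_of_jordan [Finite Ω] (hprim : IsPreprimitive G Ω) (Γ : Set Ω)
    (h1 : 1 < Γ.ncard) (h2 : 2 * Γ.ncard ≤ Nat.card Ω) (hΓ : IsJordan G Γ) :
    ∀ a b c d : Ω, a ≠ b → c ≠ d → ∃ g : G, g • a = c ∧ g • b = d := by
  have hc : Γ.ncard + Γᶜ.ncard = Nat.card Ω := Set.ncard_add_ncard_compl Γ
  have h2' : IsMultiplyPretransitive G Ω 2 := by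
    apply hprim.is_two_pretransitive (s := Γᶜ) (n := Γᶜ.ncard - 1)
    · omega
    · omega
    · constructor
      rintro ⟨x, hx⟩ ⟨y, hy⟩
      rw [SubMulAction.mem_ofFixingSubgroup_iff] at hx hy
      simp only [Set.mem_compl_iff, not_not] at hx hy
      obtain ⟨g, hg1, hg2⟩ := hΓ x hx y hy
      have hg : g ∈ fixingSubgroup G Γᶜ := by
        rw [mem_fixingSubgroup_iff]
        intro z hz
        exact hg1 z hz
      refine ⟨⟨g, hg⟩, ?_⟩
      apply Subtype.ext
      exact hg2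
  intro a b c d hab hcd
  exact (is_two_pretransitive_iff.mp h2') hab hcd

/-- The combinatorial core: a maximal Jordan set among those missing at least two points misses
exactly two points. -/
theorem exists_jordan_compl_two [Finite Ω] (hprim : IsPreprimitive G Ω)
    (h2t : ∀ a b c d : Ω, a ≠ b → c ≠ d → ∃ g : G, g • a = c ∧ g • b = d)
    (Γ : Set Ω) (h1 : 1 < Γ.ncard) (h2 : 2 * Γ.ncard ≤ Nat.card Ω) (hΓ : IsJordan G Γ) :
    ∃ A : Set Ω, IsJordan G A ∧ Aᶜ.ncard = 2 := by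
  classical
  set N := Nat.card Ω with hN
  have hcompl : ∀ Z : Set Ω, Z.ncard + Zᶜ.ncard = N := fun Z => Set.ncard_add_ncard_compl Z
  have hui : ∀ X Y : Set Ω, (X ∪ Y).ncard + (X ∩ Y).ncard = X.ncard + Y.ncard :=
    fun X Y => Set.ncard_union_add_ncard_inter X Y
  have htwo : ∀ (Z : Set Ω) (u v : Ω), u ∈ Z → v ∈ Z → u ≠ v → 2 ≤ Z.ncard := by
    intro Z u v hu hv huv
    exact (Set.one_lt_ncard_iff).mpr ⟨u, v, hu, hv, huv⟩
  -- the maximal Jordan set
  let S : Set (Set Ω) := {A | IsJordan G A ∧ A.ncard + 2 ≤ N}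
  have hSne : S.Nonempty := ⟨Γ, hΓ, by omega⟩
  obtain ⟨A, ⟨hAJ, hAN⟩, hmax⟩ := Set.exists_max_image S Set.ncard (Set.toFinite S) hSne
  set m := A.ncard with hm
  have hΓm : Γ.ncard ≤ m := hmax Γ ⟨hΓ, by omega⟩
  refine ⟨A, hAJ, ?_⟩
  by_contra hne
  have hm3 : m + 3 ≤ N := by
    have := hcompl A
    omega
  have hsm : ∀ k : G, (k • A).ncard = m := fun k => Set.ncard_smul_set k A
  have hsmJ : ∀ k : G, IsJordan G (k • A) := fun k => hAJ.smul k
  have hsmc : ∀ k : G, 3 ≤ (k • A)ᶜ.ncard := by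
    intro k
    have := hcompl (k • A)
    rw [hsm k] at this
    omega
  -- (P1)
  have P1 : ∀ X Y : Set Ω, IsJordan G X → IsJordan G Y → Y.ncard = m → ∀ c, c ∈ X → c ∈ Y →
      X ⊆ Y ∨ N ≤ (X ∪ Y).ncard + 1 := by
    intro X Y hX hY hYm c hcX hcY
    by_cases h : (X ∪ Y).ncard + 2 ≤ N
    · left
      have h3 : (X ∪ Y).ncard ≤ Y.ncard := by
        rw [hYm]; exact hmax _ ⟨hX.union hY hcX hcY, h⟩
      have h4 : Y = X ∪ Y := Set.eq_of_subset_of_ncard_le Set.subset_union_right h3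
      rw [h4]; exact Set.subset_union_left
    · right; omega
  -- equal translates from inclusion
  have hsub_eq : ∀ k1 k2 : G, k1 • A ⊆ k2 • A → k1 • A = k2 • A := by
    intro k1 k2 h
    exact Set.eq_of_subset_of_ncard_le h (by rw [hsm, hsm])
  -- A is not a block
  have hnb : ∃ g : G, g • A ≠ A ∧ ∃ p, p ∈ g • A ∧ p ∈ A := by
    by_contra hcon
    push Not at hcon
    have hblock : IsBlock G A := by
      rw [isBlock_iff_smul_eq_or_disjoint]
      intro g
      by_cases hg : g • A = A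
      · left; exact hg
      · right
        rw [Set.disjoint_left]
        intro p hp1 hp2
        exact hcon g hg p hp1 hp2
    rcases hprim.isTrivialBlock_of_isBlock hblock with hsing | huniv
    · have : A.ncard ≤ 1 := Set.ncard_le_one_iff_subsingleton.mpr hsing
      omega
    · rw [huniv, Set.ncard_univ] at hm
      omega
  obtain ⟨g, hgne, p, hpg, hpA⟩ := hnb
  have hA1 : (1 : G) • A = A := one_smul G A
  by_cases hcase : 2 * m ≤ N
  · -- Case I
    have L' : ∀ k1 k2 : G, k1 • A ≠ k2 • A → ∀ u v, u ∈ k1 • A → u ∈ k2 • A → v ∈ k1 • A →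
        v ∈ k2 • A → u = v := by
      intro k1 k2 hk u v hu1 hu2 hv1 hv2
      by_contra huv
      rcases P1 _ _ (hsmJ k1) (hsmJ k2) (hsm k2) u hu1 hu2 with hsub | hbig
      · exact hk (hsub_eq k1 k2 hsub)
      · have h5 := htwo (k1 • A ∩ k2 • A) u v ⟨hu1, hu2⟩ ⟨hv1, hv2⟩ huv
        have h6 := hui (k1 • A) (k2 • A)
        rw [hsm, hsm] at h6
        omega
    rcases P1 _ _ (hsmJ g) hAJ rfl p hpg hpA with hsub | hbig
    · apply hgne
      have := hsub_eq g 1 (by rw [hA1]; exact hsub)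
      rw [hA1] at this; exact this
    · have h5 : 1 ≤ (g • A ∩ A).ncard := by
        have : (g • A ∩ A).Nonempty := ⟨p, hpg, hpA⟩
        exact (Set.ncard_pos).mpr this
      have h6 := hui (g • A) A
      rw [hsm] at h6
      have hN2 : N = 2 * m := by omega
      have hm3' : 3 ≤ m := by omega
      -- the missing point
      obtain ⟨q, hq⟩ : ∃ q, q ∉ g • A ∪ A := by
        by_contra hcon
        push Not at hcon
        have : g • A ∪ A = Set.univ := Set.eq_univ_iff_forall.mpr hcon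
        rw [this, Set.ncard_univ] at h6
        omega
      have huniq : ∀ z, z ∉ g • A ∪ A → z = q := by
        intro z hz
        by_contra hzq
        have h7 := htwo (g • A ∪ A)ᶜ z q hz hq hzq
        have h8 := hcompl (g • A ∪ A)
        omega
      have hpq : p ≠ q := by
        intro h; apply hq; rw [← h]; exact Or.inr hpA
      obtain ⟨a1, a2, ha1, ha2, ha12⟩ := (Set.one_lt_ncard_iff).mp (show 1 < A.ncard by omega)
      obtain ⟨k, hk1, hk2⟩ := h2t a1 a2 p q ha12 hpq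
      have hpC : p ∈ k • A := by rw [← hk1]; exact Set.smul_mem_smul_set ha1
      have hqC : q ∈ k • A := by rw [← hk2]; exact Set.smul_mem_smul_set ha2
      have hpair : ({p, q} : Set Ω).ncard < (k • A).ncard := by
        rw [hsm, Set.ncard_pair hpq]; omega
      obtain ⟨c, hcC, hcpq⟩ := Set.exists_mem_notMem_of_ncard_lt_ncard hpair
      have hcp : c ≠ p := fun h => hcpq (by rw [h]; simp)
      have hcq : c ≠ q := fun h => hcpq (by rw [h]; simp)
      have hcU : c ∈ g • A ∪ A := by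
        by_contra h; exact hcq (huniq c h)
      rcases hcU with hc | hc
      · have hne' : k • A ≠ g • A := by
          intro h; apply hq; left; rw [← h]; exact hqC
        exact hcp (L' k g hne' p c hpC hpg hcC hc).symm
      · have hne' : k • A ≠ (1 : G) • A := by
          intro h; apply hq; right; rw [hA1] at h; rw [← h]; exact hqC
        exact hcp (L' k 1 hne' p c hpC (by rw [hA1]; exact hpA) hcC (by rw [hA1]; exact hc)).symm
  · -- Case II
    have I1 : ∀ k1 k2 : G, k1 • A ≠ k2 • A → ∀ u v, u ∉ k1 • A → u ∉ k2 • A → v ∉ k1 • A →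
        v ∉ k2 • A → u = v := by
      intro k1 k2 hk u v hu1 hu2 hv1 hv2
      have h6 := hui (k1 • A) (k2 • A)
      rw [hsm, hsm] at h6
      have h7 : (k1 • A ∪ k2 • A).ncard ≤ N := Set.ncard_le_card _
      have h8 : 0 < (k1 • A ∩ k2 • A).ncard := by omega
      obtain ⟨c, hc1, hc2⟩ := (Set.ncard_pos).mp h8
      rcases P1 _ _ (hsmJ k1) (hsmJ k2) (hsm k2) c hc1 hc2 with hsub | hbig
      · exact absurd (hsub_eq k1 k2 hsub) hk
      · by_contra huv
        have h9 := htwo (k1 • A ∪ k2 • A)ᶜ u v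
          (fun h => h.elim hu1 hu2) (fun h => h.elim hv1 hv2) huv
        have h10 := hcompl (k1 • A ∪ k2 • A)
        omega
    have I2 : ∀ x y : Ω, x ≠ y → ∃ k : G, x ∉ k • A ∧ y ∉ k • A := by
      intro x y hxy
      have h3 : 1 < Aᶜ.ncard := by
        have := hsmc 1; rw [hA1] at this; omega
      obtain ⟨d1, d2, hd1, hd2, hd12⟩ := (Set.one_lt_ncard_iff).mp h3
      obtain ⟨k, hk1, hk2⟩ := h2t d1 d2 x y hd12 hxy
      refine ⟨k, ?_, ?_⟩
      · rw [← hk1, Set.smul_mem_smul_set_iff]; exact hd1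
      · rw [← hk2, Set.smul_mem_smul_set_iff]; exact hd2
    have I3 : ∀ k : G, ∀ c, c ∈ Γ → c ∈ k • A → ¬ Γ ⊆ k • A → ∀ u v, u ∉ Γ → u ∉ k • A →
        v ∉ Γ → v ∉ k • A → u = v := by
      intro k c hcΓ hck hns u v hu1 hu2 hv1 hv2
      rcases P1 _ _ hΓ (hsmJ k) (hsm k) c hcΓ hck with hsub | hbig
      · exact absurd hsub hns
      · by_contra huv
        have h9 := htwo (Γ ∪ k • A)ᶜ u v
          (fun h => h.elim hu1 hu2) (fun h => h.elim hv1 hv2) huv
        have h10 := hcompl (Γ ∪ k • A)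
        omega
    have T1 : ∀ (k : G) (a b : Ω), ∃ w, w ∉ k • A ∧ w ≠ a ∧ w ≠ b := by
      intro k a b
      have h3 : ({a, b} : Set Ω).ncard < (k • A)ᶜ.ncard := by
        have h4 : ({a, b} : Set Ω).ncard ≤ 2 := by
          have := Set.ncard_insert_le a ({b} : Set Ω)
          rw [Set.ncard_singleton] at this
          exact this
        have := hsmc k
        omega
      obtain ⟨w, hw1, hw2⟩ := Set.exists_mem_notMem_of_ncard_lt_ncard h3
      refine ⟨w, hw1, fun h => hw2 (by rw [h]; simp), fun h => hw2 (by rw [h]; simp)⟩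
    -- step (a)
    have stepa : ∀ (k : G) (x y : Ω), x ∈ Γ → y ∈ Γ → x ≠ y → x ∉ k • A → y ∉ k • A →
        ∃ c, c ∈ Γ ∧ c ∈ k • A := by
      intro k x y hxΓ hyΓ hxy hxk hyk
      by_contra hno
      push Not at hno
      have hne : (k • A).Nonempty := by
        apply (Set.ncard_pos).mp; rw [hsm]; omega
      obtain ⟨z, hz⟩ := hne
      have hzx : x ≠ z := fun h => hxk (by rw [h]; exact hz)
      obtain ⟨k', hx', hz'⟩ := I2 x z hzx
      have hkk' : k • A ≠ k' • A := by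
        intro h; apply hz'; rw [← h]; exact hz
      have hyk' : y ∈ k' • A := by
        by_contra h
        exact hxy (I1 k k' hkk' x y hxk hx' hyk h)
      have hns : ¬ Γ ⊆ k' • A := fun h => hx' (h hxΓ)
      obtain ⟨u, hu1, hu2, _⟩ := T1 k' x x
      obtain ⟨v, hv1, hv2, hv3⟩ := T1 k' x u
      have huΓ : u ∉ Γ := by
        intro h
        exact hu2 (I1 k k' hkk' x u hxk hx' (hno u h) hu1).symm
      have hvΓ : v ∉ Γ := by
        intro h
        exact hv2 (I1 k k' hkk' x v hxk hx' (hno v h) hv1).symm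
      exact hv3 (I3 k' y hyΓ hyk' hns u v huΓ hu1 hvΓ hv1).symm
    obtain ⟨x, y, hxΓ, hyΓ, hxy⟩ := (Set.one_lt_ncard_iff).mp h1
    have stepc : ∀ z, z ∉ Γ → ∃ (k : G) (w : Ω), x ∉ k • A ∧ z ∉ k • A ∧ w ∉ k • A ∧ w ≠ x ∧
        w ∈ Γ ∧ (∀ u, u ∉ Γ → u ∉ k • A → u = z) := by
      intro z hzΓ
      have hxz : x ≠ z := fun h => hzΓ (by rw [← h]; exact hxΓ)
      obtain ⟨k, hxk, hzk⟩ := I2 x z hxz
      obtain ⟨c, hcΓ, hck⟩ : ∃ c, c ∈ Γ ∧ c ∈ k • A := by
        by_cases hy : y ∈ k • A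
        · exact ⟨y, hyΓ, hy⟩
        · exact stepa k x y hxΓ hyΓ hxy hxk hy
      have hns : ¬ Γ ⊆ k • A := fun h => hxk (h hxΓ)
      have huniq : ∀ u, u ∉ Γ → u ∉ k • A → u = z := fun u hu1 hu2 =>
        I3 k c hcΓ hck hns u z hu1 hu2 hzΓ hzk
      obtain ⟨w, hw1, hw2, hw3⟩ := T1 k x z
      refine ⟨k, w, hxk, hzk, hw1, hw2, ?_, huniq⟩
      by_contra hwΓ
      exact hw3 (huniq w hwΓ hw1)
    choose! kf wf hkw using stepc
    have hmaps : ∀ z ∈ Γᶜ, wf z ∈ Γ \ {x} := by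
      intro z hz
      obtain ⟨_, _, _, h4, h5, _⟩ := hkw z hz
      exact ⟨h5, h4⟩
    have hinj : Set.InjOn wf Γᶜ := by
      intro z hz z' hz' hww
      by_contra hzz'
      obtain ⟨a1, a2, a3, a4, a5, a6⟩ := hkw z hz
      obtain ⟨b1, b2, b3, b4, b5, b6⟩ := hkw z' hz'
      by_cases hk : kf z • A = kf z' • A
      · apply hzz'
        symm
        apply a6 z' hz'
        rw [hk]; exact b2
      · apply a4
        symm
        apply I1 (kf z) (kf z') hk x (wf z) a1 b1 a3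
        rw [hww]; exact b3
    have hle := Set.ncard_le_ncard_of_injOn wf hmaps hinj
    have h3 := Set.ncard_sdiff_singleton_add_one hxΓ
    have h4 := hcompl Γ
    omega

end basic

/-- Let G be a finite primitive permutation group on Ω of degree n and Γ ⊂ Ω a subset with 1 < #Γ ≤ n/2 such that the pointwise stabilizer of Ω ∖ Γ is transitive on Γ. Then G is 3-transitive on Ω. -/
theorem result {G Ω : Type*} [Group G] [Finite G] [MulAction G Ω] [FaithfulSMul G Ω] [Finite Ω] (hprim : MulAction.IsPreprimitive G Ω) (Γ : Set Ω) (h1 : 1 < Γ.ncard) (h2 : 2 * Γ.ncard ≤ Nat.card Ω) (htr : ∀ x ∈ Γ, ∀ y ∈ Γ, ∃ g : G, (∀ z ∉ Γ, g • z = z) ∧ g • x = y) : MulAction.IsMultiplyPretransitive G Ω 3 := by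
  have hΓ : IsJordan G Γ := htr
  have h2t := two_trans_of_jordan hprim Γ h1 h2 hΓ
  obtain ⟨A, hA, hAc⟩ := exists_jordan_compl_two hprim h2t Γ h1 h2 hΓ
  exact three_trans_of_jordan h2t A hA hAc

end Cfsg.Agent.S3707
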