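import Cfsg.Statements.S3733
import Mathlib

set_option autoImplicit false
open Cfsg

namespace Cfsg.Agent.S3733

open scoped IsMulCommutative

section
variable {G : Type*} [Group G] (V : Subgroup G)

/-- conjugation by `g` on `V` (junk value `1` when the conjugate leaves `V`) -/
noncomputable def cc (g : G) (v : V) : V := by
  classical exact if h : g * v * g⁻¹ ∈ V then ⟨g * v * g⁻¹, h⟩ else 1

variable {V}

theorem conj_mem {g : G} (hg : g ∈ Subgroup.normalizer (V : Set G)) (v : V) : g * v * g⁻¹ ∈ V :=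
  ((Subgroup.mem_set_normalizer_iff.mp hg) v).mp v.2

theorem cc_coe {g : G} (hg : g ∈ Subgroup.normalizer (V : Set G)) (v : V) :
    ((cc V g v : V) : G) = g * v * g⁻¹ := by
  unfold cc
  rw [dif_pos (conj_mem hg v)]

theorem cc_one (v : V) : cc V 1 v = v := by
  apply Subtype.ext
  rw [cc_coe (Subgroup.one_mem _)]
  simp

theorem cc_mul_arg {g : G} (hg : g ∈ Subgroup.normalizer (V : Set G)) (x y : V) :
    cc V g (x * y) = cc V g x * cc V g y := by
  apply Subtype.ext
  rw [Subgroup.coe_mul, cc_coe hg, cc_coe hg, cc_coe hg, Subgroup.coe_mul]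
  group

theorem cc_one_arg {g : G} (hg : g ∈ Subgroup.normalizer (V : Set G)) :
    cc V g 1 = 1 := by
  apply Subtype.ext
  rw [cc_coe hg]
  simp

theorem cc_comp {g h : G} (hg : g ∈ Subgroup.normalizer (V : Set G))
    (hh : h ∈ Subgroup.normalizer (V : Set G)) (v : V) :
    cc V g (cc V h v) = cc V (g * h) v := by
  apply Subtype.ext
  rw [cc_coe hg, cc_coe hh, cc_coe (Subgroup.mul_mem _ hg hh)]
  group

/-- conjugation as a monoid hom -/
noncomputable def ccHom {g : G} (hg : g ∈ Subgroup.normalizer (V : Set G)) : V →* V where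
  toFun := cc V g
  map_one' := cc_one_arg hg
  map_mul' := cc_mul_arg hg

end

section
variable {G : Type*} [Group G] [Fintype G] (V : Subgroup G) [IsMulCommutative V]

open Classical

noncomputable def sig (S : Subgroup G) (v : V) : V :=
  ∏ g : G, if g ∈ S then cc V g v else 1

noncomputable def sigF (S : Subgroup G) (v : V) : V :=
  ∏ g : G, if g ∈ S ∧ g ≠ 1 then cc V g v else 1

theorem sig_eq (S : Subgroup G) (v : V) : sig V S v = v * sigF V S v := by
  unfold sig sigF
  have h1 : ∀ g : G, (if g ∈ S then cc V g v else 1) =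
      (if g = 1 then v else 1) * (if g ∈ S ∧ g ≠ 1 then cc V g v else 1) := by
    intro g
    by_cases hg : g = 1
    · subst hg
      simp [cc_one, S.one_mem]
    · simp [hg]
  rw [Finset.prod_congr rfl (fun g _ => h1 g), Finset.prod_mul_distrib]
  congr 1
  simp

theorem sig_fixed {S : Subgroup G} (hS : S ≤ Subgroup.normalizer (V : Set G))
    {b : G} (hb : b ∈ S) (v : V) : cc V b (sig V S v) = sig V S v := by
  have hbN := hS hb
  change ccHom hbN (sig V S v) = _
  unfold sig
  rw [map_prod]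
  have h1 : ∀ g : G, ccHom hbN (if g ∈ S then cc V g v else 1) =
      (if b * g ∈ S then cc V (b * g) v else 1) := by
    intro g
    by_cases hg : g ∈ S
    · rw [if_pos hg, if_pos (S.mul_mem hb hg)]
      exact cc_comp hbN (hS hg) v
    · have : ¬ b * g ∈ S := by
        intro h
        apply hg
        have := S.mul_mem (S.inv_mem hb) h
        simpa using this
      rw [if_neg hg, if_neg this]
      exact map_one _
  rw [Finset.prod_congr rfl (fun g _ => h1 g)]
  exact Fintype.prod_equiv (Equiv.mulLeft b) _ _ (fun g => rfl)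

end

theorem main {G : Type*} [Group G] [Finite G] (A V : Subgroup G) [hVab : IsMulCommutative V] (hV : V ≠ ⊥) (hAV : A ≤ Subgroup.normalizer (V : Set G)) (𝒜 : Finset (Subgroup G)) (hne : 𝒜.Nonempty) (hprop : ∀ B ∈ 𝒜, B < A) (hpart : ∀ a ∈ A, a ≠ 1 → ∃! B, B ∈ 𝒜 ∧ a ∈ B) (hk : (𝒜.card - 1).Coprime (Nat.card V)) : ∃ B ∈ 𝒜, V ⊓ Subgroup.centralizer (B : Set G) ≠ ⊥ := by
  classical
  letI : Fintype G := Fintype.ofFinite G
  by_contra hcon
  push Not at hcon
  -- fixed points of B are trivial
  have hfix : ∀ B ∈ 𝒜, ∀ v : V, (∀ b ∈ B, cc V b v = v) → v = 1 := by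
    intro B hB v hv
    have hBN : B ≤ Subgroup.normalizer (V : Set G) := (hprop B hB).le.trans hAV
    have : (v : G) ∈ V ⊓ Subgroup.centralizer (B : Set G) := by
      refine Subgroup.mem_inf.mpr ⟨v.2, ?_⟩
      rw [Subgroup.mem_centralizer_iff]
      intro b hb
      have h1 := congrArg Subtype.val (hv b hb)
      rw [cc_coe (hBN hb)] at h1
      calc b * v = (b * v * b⁻¹) * b := by group
        _ = v * b := by rw [h1]
    rw [hcon B hB, Subgroup.mem_bot] at this
    exact Subtype.ext this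
  have hsigB : ∀ B ∈ 𝒜, ∀ v : V, sig V B v = 1 := by
    intro B hB v
    have hBN : B ≤ Subgroup.normalizer (V : Set G) := (hprop B hB).le.trans hAV
    exact hfix B hB _ (fun b hb => sig_fixed V hBN hb v)
  have hsigA : ∀ v : V, sig V A v = 1 := by
    intro v
    obtain ⟨B₀, hB₀⟩ := hne
    exact hfix B₀ hB₀ _ (fun b hb => sig_fixed V hAV ((hprop B₀ hB₀).le hb) v)
  -- partition identity
  have hpartF : ∀ v : V, ∏ B ∈ 𝒜, sigF V B v = sigF V A v := by
    intro v
    unfold sigF
    rw [Finset.prod_comm]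
    apply Finset.prod_congr rfl
    intro g _
    by_cases hg : g ∈ A ∧ g ≠ 1
    · rw [if_pos hg]
      obtain ⟨B₀, ⟨hB₀, hgB₀⟩, huniq⟩ := hpart g hg.1 hg.2
      rw [Finset.prod_eq_single_of_mem B₀ hB₀]
      · rw [if_pos ⟨hgB₀, hg.2⟩]
      · intro B hB hBne
        rw [if_neg]
        rintro ⟨hgB, -⟩
        exact hBne (huniq B ⟨hB, hgB⟩)
    · rw [if_neg hg]
      apply Finset.prod_eq_one
      intro B hB
      rw [if_neg]
      rintro ⟨hgB, hg1⟩
      exact hg ⟨(hprop B hB).le hgB, hg1⟩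
  -- so v ^ (k - 1) = 1 for all v
  have hpow : ∀ v : V, v ^ (𝒜.card - 1) = 1 := by
    intro v
    have h1 : ∏ B ∈ 𝒜, sig V B v = 1 := Finset.prod_eq_one (fun B hB => hsigB B hB v)
    have h2 : ∏ B ∈ 𝒜, sig V B v = v ^ 𝒜.card * sigF V A v := by
      rw [Finset.prod_congr rfl (fun B _ => sig_eq V B v), Finset.prod_mul_distrib, hpartF,
        Finset.prod_const]
    have h3 : v * sigF V A v = 1 := by rw [← sig_eq]; exact hsigA v
    have hcard : 𝒜.card = (𝒜.card - 1) + 1 := by
      have := Finset.card_pos.mpr hne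
      omega
    rw [h2, hcard, pow_succ, mul_assoc, h3, mul_one] at h1
    exact h1
  apply hV
  rw [eq_bot_iff]
  intro x hx
  rw [Subgroup.mem_bot]
  have h1 := hpow ⟨x, hx⟩
  have h2 : orderOf (⟨x, hx⟩ : V) ∣ 𝒜.card - 1 := orderOf_dvd_of_pow_eq_one h1
  have h3 : orderOf (⟨x, hx⟩ : V) ∣ Nat.card V := orderOf_dvd_natCard _
  have h4 : orderOf (⟨x, hx⟩ : V) ∣ 1 := by
    have := Nat.dvd_gcd h2 h3
    rwa [hk] at this
  have h5 : (⟨x, hx⟩ : V) = 1 := by
    rw [← orderOf_eq_one_iff]; exact Nat.dvd_one.mp h4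
  exact congrArg Subtype.val h5

/-- Let A and V be subgroups of a finite group with V abelian and nontrivial and A normalizing V. Suppose a nonempty finite family of proper subgroups of A partitions A: every non-identity element of A lies in exactly one member. If the number of members minus one is coprime to the order of V, then some member B of the family has a non-identity fixed point on V, that is V ∩ C(B) ≠ 1. -/
theorem result {G : Type*} [Group G] [Finite G] (A V : Subgroup G) (hVab : IsMulCommutative V) (hV : V ≠ ⊥) (hAV : A ≤ Subgroup.normalizer (V : Set G)) (𝒜 : Finset (Subgroup G)) (hne : 𝒜.Nonempty) (hprop : ∀ B ∈ 𝒜, B < A) (hpart : ∀ a ∈ A, a ≠ 1 → ∃! B, B ∈ 𝒜 ∧ a ∈ B) (hk : (𝒜.card - 1).Coprime (Nat.card V)) : ∃ B ∈ 𝒜, V ⊓ Subgroup.centralizer (B : Set G) ≠ ⊥ :=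
  main A V hV hAV 𝒜 hne hprop hpart hk

end Cfsg.Agent.S3733
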