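import Cfsg.Statements.S3735
import Cfsg.Agent.Lib.Helper62.Conj

set_option autoImplicit false
open Cfsg
open Cfsg.Agent.Lib.Helper62

namespace Cfsg.Agent.S3735

variable {G : Type*} [Group G]

/-- minimal nontrivial `A`-invariant subgroup inside `V` -/
def Irr (A V S : Subgroup G) : Prop :=
  S ≠ ⊥ ∧ S ≤ V ∧ A ≤ Subgroup.normalizer (S : Set G) ∧
    ∀ U' : Subgroup G, U' ≤ S → A ≤ Subgroup.normalizer (U' : Set G) → U' = ⊥ ∨ U' = S

theorem irr_cj {A V S : Subgroup G} {h : G} (hA : h ∈ Subgroup.normalizer (A : Set G))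
    (hV : h ∈ Subgroup.normalizer (V : Set G)) (hS : Irr A V S) : Irr A V (cj h S) := by
  obtain ⟨h1, h2, h3, h4⟩ := hS
  refine ⟨?_, ?_, le_normalizer_cj hA h3, ?_⟩
  · rw [Ne, cj_eq_bot_iff]; exact h1
  · have := cj_mono h h2
    rwa [mem_normalizer_iff_cj.mp hV] at this
  · intro U' hU' hAU'
    have hA' : h⁻¹ ∈ Subgroup.normalizer (A : Set G) := Subgroup.inv_mem _ hA
    have h5 : cj h⁻¹ U' ≤ S := by
      rw [cj_le_iff, inv_inv]; exact hU'
    rcases h4 _ h5 (le_normalizer_cj hA' hAU') with h6 | h6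
    · left; rwa [cj_eq_bot_iff] at h6
    · right; rw [← h6, cj_cj_inv]

/-- every nontrivial `A`-invariant subgroup `W ≤ V` contains an irreducible one -/
theorem exists_irr_le [Finite G] {A V W : Subgroup G} (hWV : W ≤ V) (hW : W ≠ ⊥)
    (hAW : A ≤ Subgroup.normalizer (W : Set G)) : ∃ S, Irr A V S ∧ S ≤ W := by
  classical
  let P : Set (Subgroup G) := {S | S ≠ ⊥ ∧ S ≤ W ∧ A ≤ Subgroup.normalizer (S : Set G)}
  have hP : P.Nonempty := ⟨W, hW, le_rfl, hAW⟩
  obtain ⟨S, hSP, hmin⟩ := (Set.toFinite P).exists_minimal hP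
  refine ⟨S, ⟨hSP.1, hSP.2.1.trans hWV, hSP.2.2, ?_⟩, hSP.2.1⟩
  intro U' hU' hAU'
  by_cases hb : U' = ⊥
  · left; exact hb
  · right
    have hU'P : U' ∈ P := ⟨hb, hU'.trans hSP.2.1, hAU'⟩
    exact le_antisymm hU' (hmin hU'P hU')

/-- Clifford's Theorem for actions on finite abelian groups, first part. Let H and V be subgroups of a finite group with V abelian and H normalizing V, and let A be a normal subgroup of H. If every H-invariant subgroup of V has an H-invariant complement in V, then every A-invariant subgroup of V has an A-invariant complement in V. -/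
theorem result {G : Type*} [Group G] [Finite G] (H A V : Subgroup G) (hVab : IsMulCommutative V) (hHV : H ≤ Subgroup.normalizer (V : Set G)) (hAH : A ≤ H) (hAn : H ≤ Subgroup.normalizer (A : Set G)) (hss : ∀ U : Subgroup G, U ≤ V → H ≤ Subgroup.normalizer (U : Set G) → ∃ W : Subgroup G, W ≤ V ∧ H ≤ Subgroup.normalizer (W : Set G) ∧ U ⊓ W = ⊥ ∧ U ⊔ W = V) (U : Subgroup G) (hUV : U ≤ V) (hAU : A ≤ Subgroup.normalizer (U : Set G)) : ∃ W : Subgroup G, W ≤ V ∧ A ≤ Subgroup.normalizer (W : Set G) ∧ U ⊓ W = ⊥ ∧ U ⊔ W = V := by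
  classical
  -- commutativity of elements of V
  have hcomm : ∀ x ∈ V, ∀ y ∈ V, x * y = y * x := by
    intro x hx y hy
    have := hVab.is_comm.comm ⟨x, hx⟩ ⟨y, hy⟩
    exact congrArg Subtype.val this
  -- the socle
  let T : Subgroup G := sSup {S | Irr A V S}
  have hTV : T ≤ V := sSup_le (fun S hS => hS.2.1)
  have hHT : H ≤ Subgroup.normalizer (T : Set G) := by
    apply le_normalizer_of_cj_le
    intro h hh
    rw [cj_le_iff]
    apply sSup_le
    intro S hS
    rw [← inv_inv h, ← cj_le_iff, inv_inv]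
    exact le_sSup (irr_cj (hAn hh) (hHV hh) hS)
  have hT : T = V := by
    obtain ⟨W, hWV, hHW, hTW, hTW'⟩ := hss T hTV hHT
    by_cases hW : W = ⊥
    · rw [hW, sup_bot_eq] at hTW'; exact hTW'
    · exfalso
      obtain ⟨S, hS, hSW⟩ := exists_irr_le (A := A) hWV hW (hAH.trans hHW)
      have h1 : S ≤ T := le_sSup hS
      have h2 : S ≤ T ⊓ W := le_inf h1 hSW
      rw [hTW] at h2
      exact hS.1 (le_bot_iff.mp h2)
  -- a maximal invariant W with U ⊓ W = ⊥
  let P : Set (Subgroup G) := {W | W ≤ V ∧ A ≤ Subgroup.normalizer (W : Set G) ∧ U ⊓ W = ⊥}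
  have hbotinv : A ≤ Subgroup.normalizer (((⊥ : Subgroup G)) : Set G) := by
    rw [le_normalizer_iff_cj]; intro a _; exact cj_bot a
  have hP : P.Nonempty := ⟨⊥, bot_le, hbotinv, by simp⟩
  obtain ⟨W, hWP, hmax⟩ := (Set.toFinite P).exists_maximal hP
  refine ⟨W, hWP.1, hWP.2.1, hWP.2.2, ?_⟩
  by_contra hne
  have hUW : U ⊔ W ≤ V := sup_le hUV hWP.1
  -- some irreducible S is not inside U ⊔ W
  have hex : ∃ S, Irr A V S ∧ ¬ S ≤ U ⊔ W := by
    by_contra hcon
    push Not at hcon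
    apply hne
    apply le_antisymm hUW
    rw [← hT]
    exact sSup_le (fun S hS => hcon S hS)
  obtain ⟨S, hS, hSUW⟩ := hex
  have hAUW : A ≤ Subgroup.normalizer ((U ⊔ W : Subgroup G) : Set G) := le_normalizer_sup hAU hWP.2.1
  have hSint : S ⊓ (U ⊔ W) = ⊥ := by
    rcases hS.2.2.2 (S ⊓ (U ⊔ W)) inf_le_left (le_normalizer_inf hS.2.2.1 hAUW) with h | h
    · exact h
    · exfalso; apply hSUW; rw [← h]; exact inf_le_right
  have hWS : W ⊔ S ∈ P := by
    refine ⟨sup_le hWP.1 hS.2.1, le_normalizer_sup hWP.2.1 hS.2.2.1, ?_⟩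
    rw [eq_bot_iff]
    intro x hx
    obtain ⟨hxU, hxWS⟩ := hx
    obtain ⟨w, hw, s, hs, rfl⟩ := mem_sup_of_commute
      (fun w hw s hs => hcomm w (hWP.1 hw) s (hS.2.1 hs)) hxWS
    have hs' : s ∈ S ⊓ (U ⊔ W) := by
      refine ⟨hs, ?_⟩
      have : s = w⁻¹ * (w * s) := by group
      rw [this]
      exact Subgroup.mul_mem _ (Subgroup.mem_sup_right (W.inv_mem hw)) (Subgroup.mem_sup_left hxU)
    rw [hSint, Subgroup.mem_bot] at hs'
    subst hs'
    rw [mul_one] at hxU ⊢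
    have : w ∈ U ⊓ W := ⟨hxU, hw⟩
    rw [hWP.2.2] at this
    exact this
  have h1 : W ⊔ S ≤ W := hmax hWS le_sup_left
  exact hSUW ((le_sup_right.trans h1).trans le_sup_right)

end Cfsg.Agent.S3735
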