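import Cfsg.Statements.S3736
import Cfsg.Agent.Lib.Helper62.Conj
import Cfsg.Agent.Lib.Helper62.CoprimeQuot
import Cfsg.Agent.Lib.Helper24.Omega1
import Cfsg.Agent.Lib.Helper21.Layer

set_option autoImplicit false
open Cfsg

namespace Cfsg.Agent.S3736

open Subgroup
open Cfsg.Agent.Lib.Helper62
open scoped commutatorElement

variable {X : Type*} [Group X]

theorem le_normalizer_commutator' {B S T : Subgroup X} (hS : B ≤ normalizer (S : Set X))
    (hT : B ≤ normalizer (T : Set X)) : B ≤ normalizer ((⁅S, T⁆ : Subgroup X) : Set X) := by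
  rw [le_normalizer_iff_cj] at *
  intro b hb
  show Subgroup.map _ _ = _
  rw [Subgroup.map_commutator]
  have h1 : Subgroup.map (MulAut.conj b).toMonoidHom S = S := hS b hb
  have h2 : Subgroup.map (MulAut.conj b).toMonoidHom T = T := hT b hb
  rw [h1, h2]

/-- the subgroup of `P` generated by the elements with `x ^ p = 1` is characteristic -/
instance omega_characteristic (P : Type*) [Group P] (p : ℕ) :
    (Subgroup.closure {x : P | x ^ p = 1}).Characteristic := by
  rw [characteristic_iff_map_le]
  intro φ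
  rw [MonoidHom.map_closure]
  apply Subgroup.closure_mono
  rintro _ ⟨x, hx, rfl⟩
  show (φ x) ^ p = 1
  have hx' : x ^ p = 1 := hx
  rw [← map_pow, hx', map_one]

/-- If the non-trivial p-group P ≤ X is normalized by B, A ⊴ B has order prime to p, [P,A] ≠ 1, and every B-invariant proper subgroup of P is centralized by A, then: [P,A] = P; P is elementary abelian or special; B acts irreducibly on P/Φ(P) (no B-invariant subgroup strictly between Φ(P) and P); and for odd p, P has exponent p. -/
theorem result {X : Type*} [Group X] [Finite X] {p : ℕ} [Fact p.Prime] (B A P : Subgroup X) (hP : IsPGroup p P) (hBP : B ≤ Subgroup.normalizer (P : Set X)) (hAB : A ≤ B) (hAn : B ≤ Subgroup.normalizer (A : Set X)) (hAp : (Nat.card A).Coprime p) (hnt : ⁅P, A⁆ ≠ ⊥) (hmin : ∀ U : Subgroup X, U < P → B ≤ Subgroup.normalizer (U : Set X) → ⁅U, A⁆ = ⊥) : ⁅P, A⁆ = P ∧ (Cfsg.IsElementaryAbelian p P ∨ Cfsg.IsSpecial p ↥P) ∧ (∀ U : Subgroup X, (frattini ↥P).map P.subtype ≤ U → U ≤ P → B ≤ Subgroup.normalizer (U : Set X) → U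 = (frattini ↥P).map P.subtype ∨ U = P) ∧ (p ≠ 2 → ∀ x ∈ P, x ^ p = 1) := by
  have hp : p.Prime := Fact.out
  have hAP : A ≤ normalizer (P : Set X) := hAB.trans hBP
  have hcop : (Nat.card A).Coprime (Nat.card P) := by
    obtain ⟨k, hk⟩ := (IsPGroup.iff_card (p := p)).mp hP
    rw [hk]
    exact Nat.Coprime.pow_right k hAp
  have hsolvP : Group.IsSolvable P := by
    have := hP.isNilpotent
    infer_instance
  have hPne : P ≠ ⊥ := by
    rintro rfl
    apply hnt
    rw [eq_bot_iff]
    exact (Cfsg.Agent.Lib.Helper24.commutator_le_of_le_normalizer ⊥ A hAP)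
  have hnontriv : Nontrivial P := (Subgroup.nontrivial_iff_ne_bot P).mpr hPne
  -- (1)
  have hle : ⁅P, A⁆ ≤ P := Cfsg.Agent.Lib.Helper24.commutator_le_of_le_normalizer P A hAP
  have h1 : ⁅P, A⁆ = P := by
    by_contra hne
    have hlt : ⁅P, A⁆ < P := lt_of_le_of_ne hle hne
    have h2 := hmin _ hlt (le_normalizer_commutator' hBP hAn)
    rw [Cfsg.Agent.Lib.Helper24.commutator_commutator_eq A P hAP hcop (Or.inr hsolvP)] at h2
    exact hnt h2
  -- notation
  set D : Subgroup X := ⁅P, P⁆ with hD
  set Φ : Subgroup X := (frattini ↥P).map P.subtype with hΦ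
  set Z : Subgroup X := (center ↥P).map P.subtype with hZ
  have hPP : P ≤ normalizer (P : Set X) := le_normalizer
  have hDP : D ≤ P := Subgroup.commutator_le_self P
  have hPD : P ≤ normalizer (D : Set X) := le_normalizer_commutator' hPP hPP
  have hAD : A ≤ normalizer (D : Set X) := le_normalizer_commutator' hAP hAP
  have hBD : B ≤ normalizer (D : Set X) := le_normalizer_commutator' hBP hBP
  have hBΦ : B ≤ normalizer (Φ : Set X) :=
    hBP.trans (Cfsg.Agent.Lib.Helper24.normalizer_le_normalizer_map_of_characteristic P (frattini ↥P))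
  have hBZ : B ≤ normalizer (Z : Set X) :=
    hBP.trans (Cfsg.Agent.Lib.Helper24.normalizer_le_normalizer_map_of_characteristic P (center ↥P))
  have hDmap : (commutator ↥P).map P.subtype = D := Subgroup.map_subtype_commutator P
  have hDΦ : D ≤ Φ := by
    rw [← hDmap]
    exact Subgroup.map_mono (Cfsg.Agent.Lib.Helper24.commutator_le_frattini_of_isPGroup hP)
  have hΦP : Φ < P := by
    refine lt_of_le_of_ne (Subgroup.map_subtype_le _) ?_
    intro h
    have h2 : frattini ↥P = ⊤ := by
      apply Subgroup.map_injective (Subgroup.subtype_injective P)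
      rw [← hΦ, h, ← MonoidHom.range_eq_map, Subgroup.range_subtype]
    exact (Cfsg.Agent.Lib.Helper24.frattini_lt_top (P := ↥P)).ne h2
  -- every proper B-invariant subgroup lies in D
  have hall : ∀ U : Subgroup X, U < P → B ≤ normalizer (U : Set X) → U ≤ D := by
    intro U hU hBU
    apply le_of_commutator_le_of_abelian_section A P D U hPD hAP hAD le_rfl hcop hU.le
    · rw [hmin U hU hBU]; exact bot_le
    · rw [h1]; exact le_sup_left
  have hΦD : Φ = D := le_antisymm (hall Φ hΦP hBΦ) hDΦ
  have hDltP : D < P := hΦD ▸ hΦP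
  -- D is central
  have hDcent : ⁅P, D⁆ = ⊥ := by
    have hDA : ⁅D, A⁆ = ⊥ := hmin D hDltP hBD
    have hPDD : ⁅P, D⁆ ≤ D := by
      rw [Subgroup.commutator_comm]
      exact Cfsg.Agent.Lib.Helper24.commutator_le_of_le_normalizer D P hPD
    have e1 : ⁅⁅P, D⁆, A⁆ = ⊥ := by
      rw [eq_bot_iff, ← hDA]
      exact Subgroup.commutator_mono hPDD le_rfl
    have e2 : ⁅⁅D, A⁆, P⁆ = ⊥ := by
      rw [hDA]
      exact Subgroup.commutator_bot_left P
    have e3 := Subgroup.commutator_commutator_eq_bot_of_rotate e1 e2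
    rwa [Subgroup.commutator_comm A P, h1] at e3
  have hDZ : D ≤ Z := by
    intro d hd
    rw [Cfsg.Agent.Lib.Helper21.mem_map_center_iff]
    refine ⟨hDP hd, fun k hk => ?_⟩
    have h2 : ⁅k, d⁆ ∈ ⁅P, D⁆ := Subgroup.commutator_mem_commutator hk hd
    rw [hDcent, Subgroup.mem_bot] at h2
    exact (commutatorElement_eq_one_iff_mul_comm.mp h2)
  have hclass2 : commutator ↥P ≤ center ↥P := by
    have : (commutator ↥P).map P.subtype ≤ (center ↥P).map P.subtype := by rw [hDmap]; exact hDZ
    exact (Subgroup.map_le_map_iff_of_injective (Subgroup.subtype_injective P)).mp this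
  have hpowΦ : ∀ x ∈ P, x ^ p ∈ Φ := by
    intro x hx
    exact ⟨⟨x, hx⟩ ^ p, Cfsg.Agent.Lib.Helper24.pow_mem_frattini_of_isPGroup hP ⟨x, hx⟩, rfl⟩
  refine ⟨h1, ?_, ?_, ?_⟩
  · -- (2)
    by_cases hZP : Z = P
    · left
      have hcomm : IsMulCommutative ↥P := by
        rw [← center_eq_top_iff]
        apply Subgroup.map_injective (Subgroup.subtype_injective P)
        rw [← hZ, hZP, ← MonoidHom.range_eq_map, Subgroup.range_subtype]
      have hD0 : D = ⊥ := by
        rw [hD, Subgroup.commutator_eq_bot_iff_le_centralizer]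
        exact le_centralizer_iff_isMulCommutative.mpr hcomm
      refine ⟨hcomm, fun a ha => ?_⟩
      have := hpowΦ a ha
      rwa [hΦD, hD0, Subgroup.mem_bot] at this
    · right
      have hZlt : Z < P := lt_of_le_of_ne (Subgroup.map_subtype_le _) hZP
      have hZD : Z = D := le_antisymm (hall Z hZlt hBZ) hDZ
      refine ⟨hP, ?_, ?_⟩
      · apply Subgroup.map_injective (Subgroup.subtype_injective P)
        rw [← hΦ, ← hZ, hΦD, hZD]
      · apply Subgroup.map_injective (Subgroup.subtype_injective P)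
        rw [hDmap, ← hZ, hZD]
  · -- (3)
    intro U hΦU hUP hBU
    by_cases hUP' : U = P
    · right; exact hUP'
    · left
      have := hall U (lt_of_le_of_ne hUP hUP') hBU
      exact le_antisymm (hΦD ▸ this) hΦU
  · -- (4)
    intro hp2
    set Ω' : Subgroup ↥P := Subgroup.closure {x : ↥P | x ^ p = 1} with hΩ'
    set Ω : Subgroup X := Ω'.map P.subtype with hΩ
    have hΩpow : ∀ g ∈ Ω', g ^ p = 1 := fun g hg =>
      Cfsg.Agent.Lib.Helper29.pow_prime_eq_one_of_mem_closure hclass2 hp hp2 g hg
    have hBΩ : B ≤ normalizer (Ω : Set X) :=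
      hBP.trans (Cfsg.Agent.Lib.Helper24.normalizer_le_normalizer_map_of_characteristic P Ω')
    by_cases hΩP : Ω = P
    · intro x hx
      have hx' : x ∈ Ω := hΩP ▸ hx
      obtain ⟨y, hy, rfl⟩ := hx'
      have := hΩpow y hy
      have h3 := congrArg Subtype.val this
      simpa using h3
    · exfalso
      have hΩlt : Ω < P := lt_of_le_of_ne (Subgroup.map_subtype_le _) hΩP
      have hΩA : ⁅Ω, A⁆ = ⊥ := hmin Ω hΩlt hBΩ
      rw [Subgroup.commutator_eq_bot_iff_le_centralizer] at hΩA
      have hfix : ∀ x ∈ P, orderOf x = p → A ≤ centralizer ({x} : Set X) := by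
        intro x hx hox a ha
        rw [Subgroup.mem_centralizer_singleton_iff]
        have hxΩ : x ∈ Ω := by
          refine ⟨⟨x, hx⟩, Subgroup.subset_closure ?_, rfl⟩
          show (⟨x, hx⟩ : ↥P) ^ p = 1
          apply Subtype.ext
          simp only [Subgroup.coe_pow, Subgroup.coe_one]
          rw [← hox]; exact pow_orderOf_eq_one x
        have := hΩA hxΩ
        rw [Subgroup.mem_centralizer_iff] at this
        exact this a ha
      have hcent := Cfsg.Agent.Lib.Helper24.omega1_centralizer hp2 A P hAp hP hAP hfix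
      apply hnt
      rw [Subgroup.commutator_comm, Subgroup.commutator_eq_bot_iff_le_centralizer]
      exact hcent

end Cfsg.Agent.S3736
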