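import Cfsg.Statements.S3737
import Cfsg.Agent.S3736
import Cfsg.Agent.Lib.Helper24.BaerCoprime

set_option autoImplicit false
open Cfsg

namespace Cfsg.Agent.S3737

open Subgroup

theorem aux {X : Type*} [Group X] [Finite X] {p : ℕ} [Fact p.Prime] (hp : p ≠ 2)
    (P Q : Subgroup X) (hP : IsPGroup p P) (hQ : (Nat.card Q).Coprime p)
    (hPQ : P ≤ Subgroup.normalizer (Q : Set X)) (n : ℕ) :
    ∀ G : Subgroup X, Nat.card G ≤ n → IsPGroup p G → P ≤ Subgroup.normalizer (G : Set X) →
      Q ≤ Subgroup.normalizer (G : Set X) →
      G ⊓ Subgroup.centralizer (P : Set X) ≤ Subgroup.centralizer (Q : Set X) →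
      Q ≤ Subgroup.centralizer (G : Set X) := by
  induction n with
  | zero =>
    intro G hcard
    have : 0 < Nat.card G := Nat.card_pos
    omega
  | succ n ih =>
    intro G hcard hG hPG hQG hC
    by_cases hnt : ⁅G, Q⁆ = ⊥
    · rw [← le_centralizer_iff]
      exact commutator_eq_bot_iff_le_centralizer.mp hnt
    have hcard_lt : ∀ V : Subgroup X, V < G → Nat.card V ≤ n := by
      intro V hV
      by_contra hcon
      push Not at hcon
      have h1 : Nat.card G ≤ Nat.card V := by omega
      exact hV.ne (eq_of_le_of_card_ge hV.le h1)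
    have hmin : ∀ U : Subgroup X, U < G → P ⊔ Q ≤ Subgroup.normalizer (U : Set X) →
        ⁅U, Q⁆ = ⊥ := by
      intro U hU hBU
      have h1 : Q ≤ centralizer (U : Set X) :=
        ih U (hcard_lt U hU) (hG.to_le hU.le) (le_sup_left.trans hBU) (le_sup_right.trans hBU)
          ((inf_le_inf_right _ hU.le).trans hC)
      rw [commutator_eq_bot_iff_le_centralizer, le_centralizer_iff]
      exact h1
    obtain ⟨-, hstr, -, hexp⟩ := Cfsg.Agent.S3736.result (P ⊔ Q) Q G hG (sup_le hPG hQG)
      le_sup_right (sup_le hPQ le_normalizer) hQ hnt hmin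
    have hcl : commutator ↥G ≤ center ↥G := by
      rcases hstr with hE | hS
      · have hc : IsMulCommutative ↥G := hE.1
        rw [(commutator_eq_bot_iff_center_eq_top (G := ↥G)).mpr
          (by
            rw [eq_top_iff]
            intro x _
            rw [mem_center_iff]
            intro y
            exact (hc.is_comm.comm y x))]
        exact bot_le
      · exact hS.2.2.le
    exact Cfsg.Agent.Lib.Helper24.thompson_PQ_classTwo hp P Q G hP hQ hPQ hG hPG hQG hcl
      (hexp hp) hC

/-- Thompson's strengthening of the P × Q lemma for odd primes. Let p be an odd prime and let P, Q and G be subgroups of a finite group with P a p-group, Q of order prime to p and normalized by P, and G a p-group normalized by both P and Q. If every element of G centralized by P is centralized by Q, then Q centralizes G. -/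
theorem result {X : Type*} [Group X] [Finite X] {p : ℕ} [Fact p.Prime] (hp : p ≠ 2) (P Q G : Subgroup X) (hP : IsPGroup p P) (hQ : (Nat.card Q).Coprime p) (hPQ : P ≤ Subgroup.normalizer (Q : Set X)) (hG : IsPGroup p G) (hPG : P ≤ Subgroup.normalizer (G : Set X)) (hQG : Q ≤ Subgroup.normalizer (G : Set X)) (hC : G ⊓ Subgroup.centralizer (P : Set X) ≤ Subgroup.centralizer (Q : Set X)) : Q ≤ Subgroup.centralizer (G : Set X) :=
  aux hp P Q hP hQ hPQ _ G le_rfl hG hPG hQG hC

end Cfsg.Agent.S3737
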