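import Cfsg.Statements.S3738
import Cfsg.Agent.S3773
import Cfsg.Agent.Lib.Helper24.Coprime
import Cfsg.Agent.Lib.Helper24.Omega1
import Cfsg.Agent.Lib.Helper62.Conj
import Cfsg.Agent.Lib.Helper62.AbelianGen

set_option autoImplicit false
set_option linter.style.haveILetI false
set_option linter.unusedSectionVars false
open Cfsg

namespace Cfsg.Agent.S3738

open Subgroup
open Cfsg.Agent.Lib.Helper62
open scoped commutatorElement

section counting

theorem arith (k l : ℕ) (hk6 : k ≤ 6) (hlk : l < k) (h9 : 9 ∣ 2 ^ k - 2 ^ l)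
    (hl0 : l = 0 → 2 ^ k ≤ 4) : False := by
  interval_cases k <;> interval_cases l <;> omega

theorem exists_mul_eq (k : ℕ) (h0 : 0 < k) (h9 : k < 9) : ∃ m t : ℕ, k * m = 3 + 9 * t := by
  interval_cases k
  · exact ⟨3, 0, rfl⟩
  · exact ⟨6, 1, rfl⟩
  · exact ⟨1, 0, rfl⟩
  · exact ⟨3, 1, rfl⟩
  · exact ⟨6, 3, rfl⟩
  · exact ⟨2, 1, rfl⟩
  · exact ⟨3, 2, rfl⟩
  · exact ⟨6, 5, rfl⟩

/-- a permutation with `φ ^ 9 = 1` whose cube is fixed point free lives on a set of size divisible by 9 -/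
theorem nine_dvd_of_free {Y : Type*} [Finite Y] (φ : Equiv.Perm Y) (h9 : φ ^ 9 = 1)
    (hfree : ∀ y : Y, (φ ^ 3) y ≠ y) : 9 ∣ Nat.card Y := by
  rcases isEmpty_or_nonempty Y with hY | hY
  · simp
  obtain ⟨y₀⟩ := hY
  have hstab : ∀ y : Y, MulAction.stabilizer (zpowers φ) y = ⊥ := by
    intro y
    rw [eq_bot_iff]
    rintro ⟨g, hg⟩ hgy
    rw [MulAction.mem_stabilizer_iff] at hgy
    have hgy' : g y = y := hgy
    rw [Subgroup.mem_bot]
    apply Subtype.ext
    show g = 1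
    have hfin : IsOfFinOrder φ := isOfFinOrder_iff_pow_eq_one.mpr ⟨9, by norm_num, h9⟩
    obtain ⟨n, hn⟩ := (hfin.mem_powers_iff_mem_zpowers).mpr hg
    have hn' : φ ^ n = g := hn
    subst hn'
    have hk : φ ^ n = φ ^ (n % 9) := pow_eq_pow_mod n h9
    rw [hk] at hgy' ⊢
    set k := n % 9 with hkdef
    have hk9 : k < 9 := Nat.mod_lt _ (by norm_num)
    rcases Nat.eq_zero_or_pos k with h0 | hpos
    · rw [h0, pow_zero]
    · exfalso
      obtain ⟨m, t, hmt⟩ := exists_mul_eq k hpos hk9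
      have h1 : (φ ^ k) ^ m = φ ^ 3 := by
        rw [← pow_mul, hmt, pow_add, pow_mul, h9, one_pow, mul_one]
      have h2 : ∀ j : ℕ, ((φ ^ k) ^ j) y = y := by
        intro j
        induction j with
        | zero => simp
        | succ j ih => rw [pow_succ, Equiv.Perm.mul_apply, hgy', ih]
      have := h2 m
      rw [h1] at this
      exact hfree y this
  have e := MulAction.selfEquivOrbitsQuotientProd hstab
  have hcard : Nat.card Y = Nat.card (Quotient (MulAction.orbitRel (zpowers φ) Y)) *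
      Nat.card (zpowers φ) := by
    rw [Nat.card_congr e, Nat.card_prod]
  have hord : orderOf φ = 9 := by
    have hdvd : orderOf φ ∣ 3 ^ 2 := orderOf_dvd_of_pow_eq_one (by simpa using h9)
    obtain ⟨i, hi, hio⟩ := (Nat.dvd_prime_pow Nat.prime_three).mp hdvd
    rcases Nat.lt_or_ge i 2 with hlt | hge
    · exfalso
      have h3 : φ ^ 3 = 1 := by
        apply orderOf_dvd_iff_pow_eq_one.mp
        rw [hio]
        have : i ≤ 1 := by omega
        calc 3 ^ i ∣ 3 ^ 1 := Nat.pow_dvd_pow 3 this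
          _ = 3 := by norm_num
      exact hfree y₀ (by rw [h3]; rfl)
    · have : i = 2 := le_antisymm hi hge
      rw [hio, this]; norm_num
  rw [hcard, Nat.card_zpowers, hord]
  exact Dvd.intro_left _ rfl

end counting

section classtwo
variable {X : Type*} [Group X]

/-- class-two computation: `⁅y, x⁆² = 1` when `y²` commutes with `x` -/
lemma comm_sq_eq_one {x y : X} (hcy : Commute ⁅y, x⁆ y) (hy2 : Commute (y ^ 2) x) :
    ⁅y, x⁆ ^ 2 = 1 := by
  set c := ⁅y, x⁆ with hc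
  have h1 : y * x * y⁻¹ = c * x := by rw [hc, commutatorElement_def]; group
  have h2 : y ^ 2 * x * (y ^ 2)⁻¹ = x := by rw [hy2.eq]; group
  have h3 : y ^ 2 * x * (y ^ 2)⁻¹ = y * (y * x * y⁻¹) * y⁻¹ := by rw [pow_two]; group
  rw [h1, h2] at h3
  have h4 : y * (c * x) * y⁻¹ = c * (c * x) := by
    calc y * (c * x) * y⁻¹ = (y * c) * x * y⁻¹ := by group
      _ = (c * y) * x * y⁻¹ := by rw [hcy.eq]
      _ = c * (y * x * y⁻¹) := by group
      _ = c * (c * x) := by rw [h1]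
  rw [h4] at h3
  have h5 : 1 * x = c ^ 2 * x := by rw [one_mul, pow_two, mul_assoc]; exact h3
  exact (mul_right_cancel h5).symm

lemma sq_mul' {x y : X} (hcx : Commute ⁅y, x⁆ x) : (x * y) ^ 2 = ⁅y, x⁆ * x ^ 2 * y ^ 2 := by
  set c := ⁅y, x⁆ with hc
  have h1 : y * x = c * x * y := by rw [hc, commutatorElement_def]; group
  calc (x * y) ^ 2 = x * (y * x) * y := by rw [pow_two]; group
    _ = x * (c * x * y) * y := by rw [h1]
    _ = (x * c) * x * y * y := by group
    _ = (c * x) * x * y * y := by rw [hcx.eq]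
    _ = c * x ^ 2 * y ^ 2 := by rw [pow_two, pow_two]; group

/-- `Y` normalizing `H` and `K` normalizes `⁅H, K⁆`. -/
theorem le_normalizer_commutator'' {Y H K : Subgroup X} (hH : Y ≤ normalizer (H : Set X))
    (hK : Y ≤ normalizer (K : Set X)) : Y ≤ normalizer ((⁅H, K⁆ : Subgroup X) : Set X) := by
  rw [le_normalizer_iff_cj]
  intro y hy
  show (⁅H, K⁆).map (MulAut.conj y).toMonoidHom = ⁅H, K⁆
  rw [Subgroup.map_commutator]
  have h1 : H.map (MulAut.conj y).toMonoidHom = H := le_normalizer_iff_cj.mp hH y hy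
  have h2 : K.map (MulAut.conj y).toMonoidHom = K := le_normalizer_iff_cj.mp hK y hy
  rw [h1, h2]

end classtwo

section main
variable {X : Type*} [Group X] [Finite X]

/-- the minimal configuration -/
structure Setup (d e : X) (Q : Subgroup X) : Prop where
  hQ2 : IsPGroup 2 Q
  hdQ : zpowers d ≤ normalizer (Q : Set X)
  hde : e ∈ zpowers d
  he3 : e ^ 3 = 1
  hQE : ¬ Q ≤ centralizer ((zpowers e : Subgroup X) : Set X)
  hb : ∀ R : Subgroup X, R < Q → zpowers d ≤ normalizer (R : Set X) →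
    R ≤ centralizer ((zpowers e : Subgroup X) : Set X)

variable {d e : X} {Q : Subgroup X}

theorem Setup.hED (h : Setup d e Q) : zpowers e ≤ zpowers d := zpowers_le.mpr h.hde

theorem Setup.hDcE (h : Setup d e Q) :
    zpowers d ≤ centralizer ((zpowers e : Subgroup X) : Set X) := by
  rw [le_centralizer_iff]
  intro x hx
  have hx' := h.hED hx
  rw [mem_centralizer_iff]
  intro y hy
  obtain ⟨i, rfl⟩ := mem_zpowers_iff.mp hx'
  obtain ⟨j, rfl⟩ := mem_zpowers_iff.mp hy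
  exact ((Commute.refl d).zpow_zpow j i).eq

theorem Setup.hDnE (h : Setup d e Q) :
    zpowers d ≤ normalizer ((zpowers e : Subgroup X) : Set X) := by
  exact le_trans h.hDcE (centralizer_le_normalizer _)

theorem Setup.hDnC (h : Setup d e Q) :
    zpowers d ≤ normalizer ((centralizer ((zpowers e : Subgroup X) : Set X) : Subgroup X) : Set X) :=
  h.hDcE.trans le_normalizer

theorem Setup.hEQ (h : Setup d e Q) : zpowers e ≤ normalizer (Q : Set X) := h.hED.trans h.hdQ

theorem Setup.cardE (h : Setup d e Q) : Nat.card (zpowers e) ∣ 3 := by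
  rw [Nat.card_zpowers]
  exact orderOf_dvd_of_pow_eq_one h.he3

theorem Setup.hcop (h : Setup d e Q) : (Nat.card (zpowers e)).Coprime (Nat.card Q) := by
  obtain ⟨k, hk⟩ := IsPGroup.iff_card.mp h.hQ2
  rw [hk]
  exact Nat.Coprime.pow_right k (Nat.Coprime.coprime_dvd_left h.cardE (by norm_num))

/-- `[Q, e] = Q` -/
theorem Setup.comm_eq (h : Setup d e Q) : ⁅Q, zpowers e⁆ = Q := by
  haveI : Fact (Nat.Prime 2) := ⟨Nat.prime_two⟩
  have hsolvQ : Group.IsSolvable Q := by
    have := h.hQ2.isNilpotent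
    infer_instance
  have hsup := Cfsg.Agent.Lib.Helper24.commutator_sup_centralizer_eq (zpowers e) Q h.hEQ h.hcop
    (Or.inr hsolvQ)
  have hle : ⁅Q, zpowers e⁆ ≤ Q :=
    Cfsg.Agent.Lib.Helper24.commutator_le_of_le_normalizer Q (zpowers e) h.hEQ
  by_contra hne
  have hlt : ⁅Q, zpowers e⁆ < Q := lt_of_le_of_ne hle hne
  have hd : zpowers d ≤ normalizer ((⁅Q, zpowers e⁆ : Subgroup X) : Set X) :=
    le_normalizer_commutator'' h.hdQ h.hDnE
  have h1 := h.hb _ hlt hd
  apply h.hQE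
  intro x hx
  exact (sup_le h1 inf_le_right) (hsup.ge hx)

/-- `N = C_Q(e)` -/
def NN (e : X) (Q : Subgroup X) : Subgroup X := Q ⊓ centralizer ((zpowers e : Subgroup X) : Set X)

theorem Setup.N_lt (h : Setup d e Q) : NN e Q < Q := by
  refine lt_of_le_of_ne inf_le_left ?_
  intro heq
  apply h.hQE
  rw [← heq]; exact inf_le_right

theorem Setup.hdN (h : Setup d e Q) : zpowers d ≤ normalizer ((NN e Q : Subgroup X) : Set X) :=
  le_normalizer_inf h.hdQ h.hDnC

/-- `Φ(Q) ≤ N` -/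
theorem Setup.frattini_le (h : Setup d e Q) : (frattini ↥Q).map Q.subtype ≤ NN e Q := by
  set F := (frattini ↥Q).map Q.subtype with hF
  have hFQ : F ≤ Q := map_subtype_le _
  set T := NN e Q ⊔ F with hT
  have hTQ : T ≤ Q := sup_le inf_le_left hFQ
  have hdF : zpowers d ≤ normalizer (F : Set X) :=
    h.hdQ.trans (Cfsg.Agent.Lib.Helper24.normalizer_le_normalizer_map_of_characteristic Q _)
  have hdT : zpowers d ≤ normalizer (T : Set X) := le_normalizer_sup h.hdN hdF
  have hTne : T ≠ Q := by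
    intro heq
    have h1 : (NN e Q).subgroupOf Q ⊔ frattini ↥Q = ⊤ := by
      have h2 : F.subgroupOf Q = frattini ↥Q := by
        rw [hF]
        exact Subgroup.comap_map_eq_self_of_injective Q.subtype_injective _
      have hNQ : NN e Q ≤ Q := inf_le_left
      rw [← h2, ← Subgroup.subgroupOf_sup hNQ hFQ, Subgroup.subgroupOf_eq_top]
      exact heq.ge
    have h3 := frattini_nongenerating h1
    rw [Subgroup.subgroupOf_eq_top] at h3
    exact absurd (lt_of_lt_of_le h.N_lt h3) (lt_irrefl _)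
  have hlt : T < Q := lt_of_le_of_ne hTQ hTne
  have h1 := h.hb T hlt hdT
  exact le_inf hFQ (le_sup_right.trans h1)

theorem Setup.sq_mem (h : Setup d e Q) {x : X} (hx : x ∈ Q) : x ^ 2 ∈ NN e Q := by
  have h2 := Cfsg.Agent.Lib.Helper24.pow_mem_frattini_of_isPGroup h.hQ2 (⟨x, hx⟩ : Q)
  have h3 : (((⟨x, hx⟩ : Q) ^ 2 : Q) : X) ∈ (frattini ↥Q).map Q.subtype := ⟨_, h2, rfl⟩
  have := h.frattini_le h3
  simpa using this

theorem Setup.comm_mem (h : Setup d e Q) {x y : X} (hx : x ∈ Q) (hy : y ∈ Q) :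
    ⁅x, y⁆ ∈ NN e Q := by
  have h1 : ⁅(⟨x, hx⟩ : Q), ⟨y, hy⟩⁆ ∈ commutator Q := by
    rw [commutator_def]
    exact Subgroup.commutator_mem_commutator (Subgroup.mem_top _) (Subgroup.mem_top _)
  have h2 := Cfsg.Agent.Lib.Helper24.commutator_le_frattini_of_isPGroup h.hQ2 h1
  have h3 : ((⁅(⟨x, hx⟩ : Q), ⟨y, hy⟩⁆ : Q) : X) ∈ (frattini ↥Q).map Q.subtype := ⟨_, h2, rfl⟩
  have := h.frattini_le h3
  simpa [commutatorElement_def] using this

theorem Setup.hQnN (h : Setup d e Q) : Q ≤ normalizer ((NN e Q : Subgroup X) : Set X) := by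
  apply le_normalizer_of_cj_le
  intro x hx z hz
  rw [mem_cj] at hz
  have hzQ : x⁻¹ * z * x ∈ Q := (inf_le_left : NN e Q ≤ Q) hz
  have hzQ' : z ∈ Q := by
    have := Q.mul_mem (Q.mul_mem hx hzQ) (Q.inv_mem hx)
    have e1 : x * (x⁻¹ * z * x) * x⁻¹ = z := by group
    rwa [e1] at this
  have hc := h.comm_mem hx hzQ
  have e2 : z = ⁅x, x⁻¹ * z * x⁆ * (x⁻¹ * z * x) := by
    rw [commutatorElement_def]; group
  rw [e2]
  exact (NN e Q).mul_mem hc hz

/-- `N ≤ Z(Q)` -/
theorem Setup.central (h : Setup d e Q) : Q ≤ centralizer ((NN e Q : Subgroup X) : Set X) := by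
  have hNE : NN e Q ≤ centralizer ((zpowers e : Subgroup X) : Set X) := inf_le_right
  have h1 : ⁅⁅zpowers e, NN e Q⁆, Q⁆ = ⊥ := by
    have : ⁅zpowers e, NN e Q⁆ = ⊥ := by
      rw [Subgroup.commutator_eq_bot_iff_le_centralizer, le_centralizer_iff]
      exact hNE
    rw [this, Subgroup.commutator_bot_left]
  have h2 : ⁅⁅NN e Q, Q⁆, zpowers e⁆ = ⊥ := by
    rw [Subgroup.commutator_eq_bot_iff_le_centralizer]
    have : ⁅NN e Q, Q⁆ ≤ NN e Q := by
      rw [Subgroup.commutator_le]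
      intro z hz x hx
      have h3 := conj_mem_of_le_normalizer h.hQnN hx ((NN e Q).inv_mem hz)
      have e1 : ⁅z, x⁆ = z * (x * z⁻¹ * x⁻¹) := by rw [commutatorElement_def]; group
      rw [e1]
      exact (NN e Q).mul_mem hz h3
    exact this.trans hNE
  have h3 := Subgroup.commutator_commutator_eq_bot_of_rotate h1 h2
  rw [h.comm_eq, Subgroup.commutator_eq_bot_iff_le_centralizer] at h3
  exact h3

theorem Setup.comm_elt (h : Setup d e Q) {x z : X} (hx : x ∈ Q) (hz : z ∈ NN e Q) :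
    Commute z x := by
  have := h.central hx
  rw [mem_centralizer_iff] at this
  exact this z hz

/-- fourth powers are multiplicative on `Q` -/
theorem Setup.pow_four_mul (h : Setup d e Q) {x y : X} (hx : x ∈ Q) (hy : y ∈ Q) :
    (x * y) ^ 4 = x ^ 4 * y ^ 4 := by
  set c := ⁅y, x⁆ with hc
  have hcN : c ∈ NN e Q := h.comm_mem hy hx
  have hx2 : x ^ 2 ∈ NN e Q := h.sq_mem hx
  have hy2 : y ^ 2 ∈ NN e Q := h.sq_mem hy
  have hNQ : NN e Q ≤ Q := inf_le_left
  have hcx : Commute c x := h.comm_elt hx hcN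
  have hcy : Commute c y := h.comm_elt hy hcN
  have hy2x : Commute (y ^ 2) x := h.comm_elt hx hy2
  have hc2 : c ^ 2 = 1 := comm_sq_eq_one hcy hy2x
  have hsq : (x * y) ^ 2 = c * x ^ 2 * y ^ 2 := sq_mul' hcx
  have h1 : Commute c (x ^ 2) := hcx.pow_right 2
  have h2 : Commute c (y ^ 2) := hcy.pow_right 2
  have h3 : Commute (x ^ 2) (y ^ 2) := h.comm_elt (hNQ hy2) hx2
  have h4 : Commute (c * x ^ 2) (y ^ 2) := h2.mul_left h3
  calc (x * y) ^ 4 = ((x * y) ^ 2) ^ 2 := by rw [← pow_mul]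
    _ = (c * x ^ 2 * y ^ 2) ^ 2 := by rw [hsq]
    _ = (c * x ^ 2) ^ 2 * (y ^ 2) ^ 2 := h4.mul_pow 2
    _ = c ^ 2 * (x ^ 2) ^ 2 * (y ^ 2) ^ 2 := by rw [h1.mul_pow 2]
    _ = x ^ 4 * y ^ 4 := by rw [hc2, one_mul, ← pow_mul, ← pow_mul]

/-- the subgroup of elements of `Q` of order dividing `4` -/
def Q1 (h : Setup d e Q) : Subgroup X where
  carrier := {x | x ∈ Q ∧ x ^ 4 = 1}
  one_mem' := ⟨Q.one_mem, one_pow 4⟩
  mul_mem' := by
    rintro x y ⟨hx, hx4⟩ ⟨hy, hy4⟩
    exact ⟨Q.mul_mem hx hy, by rw [h.pow_four_mul hx hy, hx4, hy4, one_mul]⟩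
  inv_mem' := by
    rintro x ⟨hx, hx4⟩
    exact ⟨Q.inv_mem hx, by rw [inv_pow, hx4, inv_one]⟩

theorem Setup.exp_four (h : Setup d e Q) : ∀ x ∈ Q, x ^ 4 = 1 := by
  have hQ1Q : Q1 h ≤ Q := fun x hx => hx.1
  have hdQ1 : zpowers d ≤ normalizer ((Q1 h : Subgroup X) : Set X) := by
    apply le_normalizer_of_cj_le
    intro g hg y hy
    rw [mem_cj] at hy
    obtain ⟨hyQ, hy4⟩ := hy
    have hgQ : g ∈ normalizer (Q : Set X) := h.hdQ hg
    have e1 : g * (g⁻¹ * y * g) * g⁻¹ = y := by group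
    refine ⟨?_, ?_⟩
    · have := conj_mem_of_le_normalizer h.hdQ hg hyQ
      rwa [e1] at this
    · have : (g * (g⁻¹ * y * g) * g⁻¹) ^ 4 = g * (g⁻¹ * y * g) ^ 4 * g⁻¹ := conj_pow
      rw [e1, hy4] at this
      rw [this]; group
  by_contra hne
  have hlt : Q1 h < Q := by
    refine lt_of_le_of_ne hQ1Q ?_
    intro heq
    apply hne
    intro x hx
    have : x ∈ Q1 h := by rw [heq]; exact hx
    exact this.2
  have hQ1N : Q1 h ≤ NN e Q := le_inf hQ1Q (h.hb _ hlt hdQ1)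
  -- `[Q, E] ≤ N`
  have hcomm : ⁅Q, zpowers e⁆ ≤ NN e Q := by
    rw [Subgroup.commutator_le]
    intro x hx g hg
    apply hQ1N
    set x' := x⁻¹ with hx'
    have hx'Q : x' ∈ Q := Q.inv_mem hx
    set y' := g * x' * g⁻¹ with hy'
    have hy'Q : y' ∈ Q := conj_mem_of_le_normalizer h.hEQ hg hx'Q
    have hx'2 : x' ^ 2 ∈ NN e Q := h.sq_mem hx'Q
    have hgx : Commute g (x' ^ 2) := by
      have := (inf_le_right : NN e Q ≤ _) hx'2
      rw [mem_centralizer_iff] at this
      exact this g hg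
    have hy'2 : y' ^ 2 = x' ^ 2 := by
      rw [hy', conj_pow, hgx.eq]; group
    have hz : ⁅x, g⁆ = x'⁻¹ * y' := by
      rw [commutatorElement_def, hy', hx']; group
    have hx'iQ : x'⁻¹ ∈ Q := Q.inv_mem hx'Q
    set c' := ⁅y', x'⁻¹⁆ with hc'
    have hc'N : c' ∈ NN e Q := h.comm_mem hy'Q hx'iQ
    have hcx : Commute c' x'⁻¹ := h.comm_elt hx'iQ hc'N
    have hcy : Commute c' y' := h.comm_elt hy'Q hc'N
    have hy2x : Commute (y' ^ 2) x'⁻¹ := h.comm_elt hx'iQ (h.sq_mem hy'Q)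
    have hc2 : c' ^ 2 = 1 := comm_sq_eq_one hcy hy2x
    have hsq : (x'⁻¹ * y') ^ 2 = c' * x'⁻¹ ^ 2 * y' ^ 2 := sq_mul' hcx
    have hsq' : (x'⁻¹ * y') ^ 2 = c' := by
      rw [hsq, hy'2, inv_pow, mul_assoc, inv_mul_cancel, mul_one]
    rw [hz]
    refine ⟨Q.mul_mem hx'iQ hy'Q, ?_⟩
    calc (x'⁻¹ * y') ^ 4 = ((x'⁻¹ * y') ^ 2) ^ 2 := by rw [← pow_mul]
      _ = 1 := by rw [hsq', hc2]
  rw [h.comm_eq] at hcomm
  exact absurd (lt_of_lt_of_le h.N_lt hcomm) (lt_irrefl _)

/-- the involutions of `N` -/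
def WW (h : Setup d e Q) : Subgroup X where
  carrier := {x | x ∈ NN e Q ∧ x ^ 2 = 1}
  one_mem' := ⟨(NN e Q).one_mem, one_pow 2⟩
  mul_mem' := by
    rintro x y ⟨hx, hx2⟩ ⟨hy, hy2⟩
    refine ⟨(NN e Q).mul_mem hx hy, ?_⟩
    have hc : Commute x y := h.comm_elt ((inf_le_left : NN e Q ≤ Q) hy) hx
    rw [hc.mul_pow, hx2, hy2, one_mul]
  inv_mem' := by
    rintro x ⟨hx, hx2⟩
    exact ⟨(NN e Q).inv_mem hx, by rw [inv_pow, hx2, inv_one]⟩

theorem Setup.card_le (h : Setup d e Q)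
    (hrank : ∀ E₀ : Subgroup X, E₀ ≤ Q → (∀ x ∈ E₀, ∀ y ∈ E₀, x * y = y * x) →
      (∀ x ∈ E₀, x ^ 2 = 1) → Nat.card E₀ ≤ 4)
    (hfpf : ∀ x ∈ Q, d * x = x * d → x = 1) :
    Nat.card Q ≤ 64 ∧ (NN e Q = ⊥ → Nat.card Q ≤ 4) := by
  haveI : Fact (Nat.Prime 2) := ⟨Nat.prime_two⟩
  have hNQ : NN e Q ≤ Q := inf_le_left
  by_cases hN : NN e Q = ⊥
  · have hexp2 : ∀ x ∈ Q, x ^ 2 = 1 := by
      intro x hx
      have := h.sq_mem hx
      rw [hN, mem_bot] at this
      exact this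
    have hab : ∀ x ∈ Q, ∀ y ∈ Q, x * y = y * x := by
      intro x hx y hy
      have := h.comm_mem hx hy
      rw [hN, mem_bot] at this
      exact commutatorElement_eq_one_iff_mul_comm.mp this
    have := hrank Q le_rfl hab hexp2
    exact ⟨by omega, fun _ => this⟩
  · refine ⟨?_, fun h0 => absurd h0 hN⟩
    set W := WW h with hW
    have hWN : W ≤ NN e Q := fun x hx => hx.1
    have hWQ : W ≤ Q := hWN.trans hNQ
    have hWexp : ∀ x ∈ W, x ^ 2 = 1 := fun x hx => hx.2
    have hWab : ∀ x ∈ W, ∀ y ∈ W, x * y = y * x := by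
      intro x hx y hy
      exact (h.comm_elt (hWQ hy) (hWN hx)).eq
    have hW4 : Nat.card W ≤ 4 := hrank W hWQ hWab hWexp
    -- `W ≠ ⊥`
    obtain ⟨z, hz1⟩ := (Subgroup.ne_bot_iff_exists_ne_one).mp hN
    have hW1 : ∃ w ∈ W, w ≠ 1 := by
      obtain ⟨z, hz⟩ := z
      have hz1' : z ≠ 1 := fun h1 => hz1 (Subtype.ext h1)
      by_cases hz2 : z ^ 2 = 1
      · exact ⟨z, ⟨hz, hz2⟩, hz1'⟩
      · refine ⟨z ^ 2, ⟨(NN e Q).pow_mem hz 2, ?_⟩, hz2⟩
        rw [← pow_mul]
        exact h.exp_four z (hNQ hz)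
    have hdW : ∀ w ∈ W, d * w * d⁻¹ ∈ W := by
      intro w hw
      refine ⟨conj_mem_of_le_normalizer h.hdN (mem_zpowers d) hw.1, ?_⟩
      rw [conj_pow, hw.2]; group
    have hW2 : Nat.card W ≠ 2 := by
      intro h2
      obtain ⟨w, hwW, hw1⟩ := hW1
      obtain ⟨y, -, hy⟩ := (Nat.card_eq_two_iff' (1 : W)).mp h2
      have e1 : (⟨w, hwW⟩ : W) = y := hy _ (fun h1 => hw1 (congrArg Subtype.val h1))
      have hdw1 : d * w * d⁻¹ ≠ 1 := by
        intro h1
        apply hw1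
        have : w = d⁻¹ * (d * w * d⁻¹) * d := by group
        rw [this, h1]; group
      have e2 : (⟨d * w * d⁻¹, hdW w hwW⟩ : W) = y :=
        hy _ (fun h1 => hdw1 (congrArg Subtype.val h1))
      have e3 : d * w * d⁻¹ = w := congrArg Subtype.val (e2.trans e1.symm)
      have e4 : d * w = w * d := by
        calc d * w = (d * w * d⁻¹) * d := by group
          _ = w * d := by rw [e3]
      exact hw1 (hfpf w (hWQ hwW) e4)
    have hWp : IsPGroup 2 W := h.hQ2.to_le hWQ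
    have hWc : Nat.card W = 4 := by
      obtain ⟨i, hi⟩ := IsPGroup.iff_card.mp hWp
      have hne1 : Nat.card W ≠ 1 := by
        intro h1
        obtain ⟨w, hwW, hw1⟩ := hW1
        have := Subgroup.card_eq_one.mp h1
        rw [this, mem_bot] at hwW
        exact hw1 hwW
      rw [hi] at hW4 hW2 hne1 ⊢
      have hi2 : i ≤ 2 := by
        by_contra hgt
        push Not at hgt
        have : 2 ^ 3 ≤ 2 ^ i := Nat.pow_le_pow_right (by norm_num) hgt
        omega
      interval_cases i <;> simp_all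
    have hinv : ∀ t ∈ Q, t ^ 2 = 1 → t ∈ W := by
      intro t ht ht2
      by_contra htW
      set W' := W ⊔ zpowers t with hW'
      have htQ : zpowers t ≤ Q := zpowers_le.mpr ht
      have hc : ∀ s ∈ W, ∀ u ∈ zpowers t, s * u = u * s := by
        intro s hs u hu
        exact (h.comm_elt (htQ hu) (hWN hs)).eq
      have hW'Q : W' ≤ Q := sup_le hWQ htQ
      have hW'exp : ∀ x ∈ W', x ^ 2 = 1 := by
        intro x hx
        obtain ⟨s, hs, u, hu, rfl⟩ := mem_sup_of_commute hc hx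
        have hu2 : u ^ 2 = 1 := by
          obtain ⟨k, rfl⟩ := mem_zpowers_iff.mp hu
          rw [← zpow_natCast, ← zpow_mul, mul_comm, zpow_mul, zpow_natCast, ht2, one_zpow]
        have hsu : Commute s u := hc s hs u hu
        rw [hsu.mul_pow, hs.2, hu2, one_mul]
      have hW'ab : ∀ x ∈ W', ∀ y ∈ W', x * y = y * x := by
        intro x hx y hy
        have hx2 := hW'exp x hx
        have hy2 := hW'exp y hy
        have hxy2 := hW'exp (x * y) (W'.mul_mem hx hy)
        have hxi : x⁻¹ = x := by rw [inv_eq_iff_mul_eq_one, ← pow_two]; exact hx2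
        have hyi : y⁻¹ = y := by rw [inv_eq_iff_mul_eq_one, ← pow_two]; exact hy2
        have hxyi : (x * y)⁻¹ = x * y := by rw [inv_eq_iff_mul_eq_one, ← pow_two]; exact hxy2
        rw [← hxyi, mul_inv_rev, hxi, hyi]
      have h8 : Nat.card W' ≤ 4 := hrank W' hW'Q hW'ab hW'exp
      have hlt : W < W' := by
        refine lt_of_le_of_ne le_sup_left ?_
        intro heq
        apply htW
        rw [heq]
        exact (le_sup_right : zpowers t ≤ W') (mem_zpowers t)
      have hclt : Nat.card W < Nat.card W' :=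
        Set.Finite.card_lt_card (Set.toFinite (W' : Set X)) (SetLike.coe_ssubset_coe.mpr hlt)
      omega
    -- apply S3773
    have hcl : (⊤ : Subgroup ↥Q).lowerCentralSeries 2 = ⊥ := by
      rw [Subgroup.lowerCentralSeries_succ, Subgroup.lowerCentralSeries_succ,
        Subgroup.lowerCentralSeries_zero, Subgroup.commutator_eq_bot_iff_le_centralizer,
        Subgroup.commutator_le]
      intro a _ b _
      rw [mem_centralizer_iff]
      intro c _
      apply Subtype.ext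
      have hm : ⁅(a : X), (b : X)⁆ ∈ NN e Q := h.comm_mem a.2 b.2
      have := (h.comm_elt c.2 hm).eq
      simpa [commutatorElement_def] using this.symm
    have hexp : ∀ x : ↥Q, x ^ 4 = 1 := fun x => Subtype.ext (by simpa using h.exp_four x.1 x.2)
    have hNcl : ∀ x y : ↥Q, x ^ 2 = 1 → y ^ 2 = 1 → (x * y) ^ 2 = 1 := by
      intro x y hx hy
      have hx' : (x : X) ^ 2 = 1 := by simpa using congrArg Subtype.val hx
      have hy' : (y : X) ^ 2 = 1 := by simpa using congrArg Subtype.val hy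
      have hxW := hinv x.1 x.2 hx'
      have hyW := hinv y.1 y.2 hy'
      have := (W.mul_mem hxW hyW).2
      apply Subtype.ext
      simpa using this
    have hbound := (Cfsg.Agent.S3773.result (G := ↥Q) h.hQ2 hcl hexp hNcl).1
    have hcardI : Nat.card {x : ↥Q // x ^ 2 = 1} ≤ 4 := by
      rw [← hWc]
      let f : {x : ↥Q // x ^ 2 = 1} → W := fun x =>
        ⟨x.1.1, hinv x.1.1 x.1.2 (by simpa using congrArg Subtype.val x.2)⟩
      apply Nat.card_le_card_of_injective f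
      intro x y hxy
      have : ((f x : W) : X) = ((f y : W) : X) := congrArg Subtype.val hxy
      exact Subtype.ext (Subtype.ext this)
    calc Nat.card Q ≤ Nat.card {x : ↥Q // x ^ 2 = 1} ^ 3 := hbound
      _ ≤ 4 ^ 3 := Nat.pow_le_pow_left hcardI 3
      _ = 64 := by norm_num

/-- `⟨S⟩` of order `9` acts freely on `Q \ N` -/
theorem Setup.nine_dvd (h : Setup d e Q) {S : X} (hSd : S ∈ zpowers d) (hS3 : S ^ 3 = e) :
    9 ∣ Nat.card Q - Nat.card (NN e Q) := by
  classical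
  have hS9 : S ^ 9 = 1 := by rw [show 9 = 3 * 3 from rfl, pow_mul, hS3, h.he3]
  have hSN : ∀ g ∈ zpowers d, ∀ x, x ∈ NN e Q ↔ g * x * g⁻¹ ∈ NN e Q := fun g hg x => by
    have := h.hdN hg
    rw [mem_normalizer_iff] at this
    exact this x
  let Y := {x : X // x ∈ Q ∧ x ∉ NN e Q}
  let φ : Equiv.Perm Y :=
    { toFun := fun y => ⟨S * y.1 * S⁻¹, conj_mem_of_le_normalizer h.hdQ hSd y.2.1,
        fun hn => y.2.2 ((hSN S hSd y.1).mpr hn)⟩
      invFun := fun y => ⟨S⁻¹ * y.1 * S, by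
          have := conj_mem_of_le_normalizer h.hdQ (inv_mem hSd) y.2.1
          simpa using this,
        fun hn => y.2.2 ((hSN S⁻¹ (inv_mem hSd) y.1).mpr (by simpa using hn))⟩
      left_inv := fun y => Subtype.ext (by simp [mul_assoc])
      right_inv := fun y => Subtype.ext (by simp [mul_assoc]) }
  have hφ1 : ∀ y : Y, ((φ y : Y) : X) = S * y.1 * S⁻¹ := fun y => rfl
  have hφk : ∀ (k : ℕ) (y : Y), (((φ ^ k) y : Y) : X) = S ^ k * y.1 * (S ^ k)⁻¹ := by
    intro k
    induction k with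
    | zero => intro y; simp
    | succ k ih =>
      intro y
      rw [pow_succ', Equiv.Perm.mul_apply, hφ1, ih, pow_succ']
      group
  have h9 : φ ^ 9 = 1 := by
    ext y
    rw [hφk, hS9]
    simp
  have hfree : ∀ y : Y, (φ ^ 3) y ≠ y := by
    intro y hy
    have h1 := congrArg Subtype.val hy
    rw [hφk, hS3] at h1
    apply y.2.2
    refine mem_inf.mpr ⟨y.2.1, ?_⟩
    rw [mem_centralizer_iff]
    intro g hg
    obtain ⟨k, rfl⟩ := mem_zpowers_iff.mp hg
    have hc : Commute e y.1 := by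
      unfold Commute SemiconjBy
      calc e * y.1 = (e * y.1 * e⁻¹) * e := by group
        _ = y.1 * e := by rw [h1]
    exact (hc.zpow_left k).eq
  have hdvd := nine_dvd_of_free φ h9 hfree
  have hcard : Nat.card Y = Nat.card Q - Nat.card (NN e Q) := by
    have h1 : Nat.card Y = ((Q : Set X) \ (NN e Q : Set X)).ncard :=
      Nat.card_coe_set_eq ((Q : Set X) \ (NN e Q : Set X))
    have hsub : ((NN e Q : Subgroup X) : Set X) ⊆ (Q : Set X) := fun x hx => hx.1
    rw [h1, Set.ncard_sdiff hsub]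
    rw [← Nat.card_coe_set_eq, ← Nat.card_coe_set_eq]
    rfl
  rwa [hcard] at hdvd

theorem main_false (d : X) (n' : ℕ) (hd : orderOf d = 3 ^ (n' + 2)) (P : Subgroup X)
    (hP : IsPGroup 2 P) (hdP : d ∈ normalizer (P : Set X))
    (hfaith : zpowers d ⊓ centralizer (P : Set X) = ⊥)
    (hfpf : P ⊓ centralizer {d} = ⊥)
    (hrank : ∀ E₀ : Subgroup X, E₀ ≤ P → (∀ x ∈ E₀, ∀ y ∈ E₀, x * y = y * x) →
      (∀ x ∈ E₀, x ^ 2 = 1) → Nat.card E₀ ≤ 4) : False := by
  classical
  set S := d ^ (3 ^ n') with hS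
  set e := S ^ 3 with he
  have hSd : S ∈ zpowers d := pow_mem (mem_zpowers d) _
  have hed : e ∈ zpowers d := pow_mem hSd _
  have hS9 : S ^ 9 = 1 := by
    rw [hS, ← pow_mul]
    have : 3 ^ n' * 9 = 3 ^ (n' + 2) := by ring
    rw [this, ← hd, pow_orderOf_eq_one]
  have he3 : e ^ 3 = 1 := by rw [he, ← pow_mul]; exact hS9
  have he1 : e ≠ 1 := by
    intro h1
    rw [he, hS, ← pow_mul] at h1
    have hdvd := orderOf_dvd_of_pow_eq_one h1
    rw [hd] at hdvd
    have e1 : 3 ^ n' * 3 = 3 ^ (n' + 1) := by ring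
    rw [e1] at hdvd
    have h2 := Nat.le_of_dvd (by positivity) hdvd
    have h3 : 3 ^ (n' + 1) < 3 ^ (n' + 2) := Nat.pow_lt_pow_right (by norm_num) (by omega)
    omega
  have heP : ¬ P ≤ centralizer ((zpowers e : Subgroup X) : Set X) := by
    intro h
    have h1 : e ∈ zpowers d ⊓ centralizer (P : Set X) :=
      mem_inf.mpr ⟨hed, (le_centralizer_iff.mp h) (mem_zpowers e)⟩
    rw [hfaith] at h1
    exact he1 (mem_bot.mp h1)
  have hex : ∃ m, ∃ Q : Subgroup X, Q ≤ P ∧ zpowers d ≤ normalizer (Q : Set X) ∧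
      ¬ Q ≤ centralizer ((zpowers e : Subgroup X) : Set X) ∧ Nat.card Q = m :=
    ⟨_, P, le_rfl, zpowers_le.mpr hdP, heP, rfl⟩
  obtain ⟨Q, hQP, hdQ, hQE, hQm⟩ := Nat.find_spec hex
  have hmin : ∀ R : Subgroup X, R ≤ P → zpowers d ≤ normalizer (R : Set X) →
      ¬ R ≤ centralizer ((zpowers e : Subgroup X) : Set X) → Nat.card Q ≤ Nat.card R := by
    intro R hRP hdR hRE
    rw [hQm]
    exact Nat.find_min' hex ⟨R, hRP, hdR, hRE, rfl⟩
  have hsetup : Setup d e Q :=
    { hQ2 := hP.to_le hQP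
      hdQ := hdQ
      hde := hed
      he3 := he3
      hQE := hQE
      hb := by
        intro R hRQ hdR
        by_contra hne
        have h1 := hmin R (hRQ.le.trans hQP) hdR hne
        have h2 : Nat.card R < Nat.card Q :=
          Set.Finite.card_lt_card (Set.toFinite (Q : Set X)) (SetLike.coe_ssubset_coe.mpr hRQ)
        omega }
  have hfpfQ : ∀ x ∈ Q, d * x = x * d → x = 1 := by
    intro x hx hdx
    have : x ∈ P ⊓ centralizer {d} := by
      refine mem_inf.mpr ⟨hQP hx, ?_⟩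
      rw [mem_centralizer_iff]
      intro y hy
      rw [Set.mem_singleton_iff] at hy
      subst hy
      exact hdx
    rw [hfpf] at this
    exact mem_bot.mp this
  obtain ⟨h64, h4⟩ := hsetup.card_le (fun E₀ hE => hrank E₀ (hE.trans hQP)) hfpfQ
  have h9 := hsetup.nine_dvd hSd rfl
  obtain ⟨k, hk⟩ := IsPGroup.iff_card.mp hsetup.hQ2
  have hNQ : NN e Q ≤ Q := inf_le_left
  have hN2 : IsPGroup 2 (NN e Q) := hsetup.hQ2.to_le hNQ
  obtain ⟨l, hl⟩ := IsPGroup.iff_card.mp hN2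
  have hlt : Nat.card (NN e Q) < Nat.card Q :=
    Set.Finite.card_lt_card (Set.toFinite (Q : Set X)) (SetLike.coe_ssubset_coe.mpr hsetup.N_lt)
  have hl0 : l = 0 → Nat.card Q ≤ 4 := by
    intro h0
    apply h4
    apply Subgroup.card_eq_one.mp
    rw [hl, h0, pow_zero]
  rw [hk, hl] at h9 hlt
  rw [hk] at h64 hl0
  have hk6 : k ≤ 6 := by
    by_contra hgt
    push Not at hgt
    have : 2 ^ 7 ≤ 2 ^ k := Nat.pow_le_pow_right (by norm_num) hgt
    omega
  have hlk : l < k := (Nat.pow_lt_pow_iff_right (by norm_num)).mp hlt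
  exact arith k l hk6 hlk h9 hl0

end main

/-- Let d be a non-identity 3-element of a finite group and P a 2-subgroup normalized by d on which ⟨d⟩ acts faithfully (no non-identity power of d centralizes P) and without non-identity fixed points (C_P(d) = 1). If every abelian subgroup of P has 2-rank at most 2, then d has order 3. -/
theorem result {X : Type*} [Group X] [Finite X] (d : X) (n : ℕ) (hn : 1 ≤ n) (hd : orderOf d = 3 ^ n) (P : Subgroup X) (hP : IsPGroup 2 P) (hdP : d ∈ Subgroup.normalizer (P : Set X)) (hfaith : Subgroup.zpowers d ⊓ Subgroup.centralizer (P : Set X) = ⊥) (hfpf : P ⊓ Subgroup.centralizer {d} = ⊥) (hrank : ∀ V : Subgroup X, V ≤ P → IsMulCommutative V → Cfsg.PRankLE 2 2 V) : orderOf d = 3 := by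
  by_contra hne
  have hn2 : 2 ≤ n := by
    by_contra hlt
    have : n = 1 := by omega
    rw [this, pow_one] at hd
    exact hne hd
  obtain ⟨n', rfl⟩ : ∃ n', n = n' + 2 := ⟨n - 2, by omega⟩
  refine main_false d n' hd P hP hdP hfaith hfpf ?_
  intro E₀ hE hab hexp
  have hcomm : IsMulCommutative E₀ := ⟨⟨fun a b => Subtype.ext (hab a a.2 b b.2)⟩⟩
  have := hrank E₀ hE hcomm ⊤
    ⟨⟨fun a b => Subtype.ext (Subtype.ext (hab a.1 a.1.2 b.1 b.1.2))⟩⟩
    (fun a _ => Subtype.ext (by simpa using hexp a a.2))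
  rwa [Subgroup.card_top] at this

end Cfsg.Agent.S3738
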