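import Cfsg.Statements.S3739
import Cfsg.Agent.S3738
import Cfsg.Agent.Lib.Helper48.CoprimeGen
import Cfsg.Agent.Lib.Helper48.PCore
import Cfsg.Agent.Lib.Helper48.Misc
import Cfsg.Agent.Lib.Helper17.ActionCounts
import Cfsg.Agent.Lib.Helper17.NormCent
import Cfsg.Agent.Lib.Helper17.InvolTools
import Cfsg.Agent.Lib.Helper20.KleinAct

set_option autoImplicit false
open Cfsg

namespace Cfsg.Agent.S3739

open Subgroup

variable {G : Type*} [Group G]

/-- the closure of a set of pairwise commuting involutions is elementary abelian -/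
theorem isElementaryAbelian_closure (S : Set G) (hc : ∀ x ∈ S, ∀ y ∈ S, x * y = y * x)
    (hs : ∀ x ∈ S, x ^ 2 = 1) : Cfsg.IsElementaryAbelian 2 (closure S) := by
  have hcomm : IsMulCommutative (closure S) := isMulCommutative_closure hc
  refine ⟨hcomm, ?_⟩
  intro a ha
  induction ha using closure_induction with
  | mem x hx => exact hs x hx
  | one => simp
  | mul x y hx hy ihx ihy =>
    have hxy : x * y = y * x := setLike_mul_comm hx hy
    rw [(show Commute x y from hxy).mul_pow, ihx, ihy, one_mul]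
  | inv x hx ih => rw [inv_pow, ih, inv_one]

theorem isPGroup_of_elementary {E : Subgroup G} (hE : Cfsg.IsElementaryAbelian 2 E) :
    IsPGroup 2 E := fun g => ⟨1, by
    apply Subtype.ext
    rw [pow_one]
    exact hE.2 g g.2⟩

/-- Without an elementary abelian subgroup of order eight, elementary abelian `2`-subgroups
have order at most four. -/
theorem card_le_four [Finite G]
    (hno : ∀ E : Subgroup G, Cfsg.IsElementaryAbelian 2 E → Nat.card E ≠ 8)
    (E : Subgroup G) (hE : Cfsg.IsElementaryAbelian 2 E) : Nat.card E ≤ 4 := by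
  obtain ⟨k, hk⟩ := (isPGroup_of_elementary hE).exists_card_eq
  by_contra hlt
  push Not at hlt
  have hk3 : 3 ≤ k := by
    by_contra h3
    push Not at h3
    have : 2 ^ k ≤ 2 ^ 2 := Nat.pow_le_pow_right (by norm_num) (by omega)
    omega
  have hdvd : 2 ^ 3 ∣ Nat.card E := by
    rw [hk]; exact pow_dvd_pow 2 hk3
  obtain ⟨K, hK⟩ := Sylow.exists_subgroup_card_pow_prime 2 hdvd
  apply hno (K.map E.subtype)
  · have hcE := hE.1
    refine ⟨?_, ?_⟩
    · refine ⟨⟨?_⟩⟩
      rintro ⟨_, ⟨a, ha, rfl⟩⟩ ⟨_, ⟨b, hb, rfl⟩⟩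
      apply Subtype.ext
      show E.subtype a * E.subtype b = E.subtype b * E.subtype a
      rw [← map_mul, ← map_mul, hcE.is_comm.comm a b]
    · rintro _ ⟨a, ha, rfl⟩
      exact hE.2 a a.2
  · rw [Nat.card_congr (K.equivMapOfInjective E.subtype E.subtype_injective).symm.toEquiv, hK]
    norm_num

/-- An involution centralizing an elementary abelian `2`-subgroup with at least three elements
lies in it (in the absence of `E₈`). -/
theorem mem_of_centralizes [Finite G]
    (hno : ∀ E : Subgroup G, Cfsg.IsElementaryAbelian 2 E → Nat.card E ≠ 8)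
    (E : Subgroup G) (hE : Cfsg.IsElementaryAbelian 2 E) (h3 : 3 ≤ Nat.card E)
    (s : G) (hs : s ^ 2 = 1) (hsE : ∀ e ∈ E, s * e = e * s) : s ∈ E := by
  by_contra hsn
  set S : Set G := (E : Set G) ∪ {s} with hS
  have hcE := hE.1
  have hEl : Cfsg.IsElementaryAbelian 2 (closure S) := by
    apply isElementaryAbelian_closure
    · rintro x (hx | hx) y (hy | hy)
      · exact setLike_mul_comm hx hy
      · rw [Set.mem_singleton_iff.mp hy]; exact (hsE x hx).symm
      · rw [Set.mem_singleton_iff.mp hx]; exact hsE y hy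
      · rw [Set.mem_singleton_iff.mp hx, Set.mem_singleton_iff.mp hy]
    · rintro x (hx | hx)
      · exact hE.2 x hx
      · rw [Set.mem_singleton_iff.mp hx]; exact hs
  have hle : E ≤ closure S := fun e he => subset_closure (Or.inl he)
  have hsm : s ∈ closure S := subset_closure (Or.inr rfl)
  have hlt : E < closure S := lt_of_le_of_ne hle (fun h => hsn (h ▸ hsm))
  have h1 : Nat.card E < Nat.card (closure S) := by
    by_contra h
    push Not at h
    exact hlt.ne (Subgroup.eq_of_le_of_card_ge hle h)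
  have h2 : Nat.card E ∣ Nat.card (closure S) := Subgroup.card_dvd_of_le hle
  have h4 := card_le_four hno _ hEl
  obtain ⟨m, hm⟩ := h2
  have : 2 ≤ m := by
    by_contra hm2
    push Not at hm2
    interval_cases m <;> omega
  nlinarith

/-- `Ω₁(Z(Q))` as a subgroup of the ambient group -/
def omegaZ (Q : Subgroup G) : Subgroup G where
  carrier := {x | x ∈ Q ∧ (∀ q ∈ Q, q * x = x * q) ∧ x ^ 2 = 1}
  one_mem' := ⟨Q.one_mem, fun q _ => by simp, by simp⟩
  mul_mem' := by
    rintro x y ⟨hx, hxc, hx2⟩ ⟨hy, hyc, hy2⟩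
    refine ⟨Q.mul_mem hx hy, fun q hq => ?_, ?_⟩
    · rw [← mul_assoc, hxc q hq, mul_assoc, hyc q hq, mul_assoc]
    · rw [(show Commute x y from (hyc x hx)).mul_pow, hx2, hy2, one_mul]
  inv_mem' := by
    rintro x ⟨hx, hxc, hx2⟩
    refine ⟨Q.inv_mem hx, fun q hq => ?_, by rw [inv_pow, hx2, inv_one]⟩
    have := hxc q hq
    calc q * x⁻¹ = x⁻¹ * (x * q) * x⁻¹ := by group
      _ = x⁻¹ * (q * x) * x⁻¹ := by rw [this]
      _ = x⁻¹ * q := by group

theorem omegaZ_le (Q : Subgroup G) : omegaZ Q ≤ Q := fun _ hx => hx.1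

theorem omegaZ_elementary (Q : Subgroup G) : Cfsg.IsElementaryAbelian 2 (omegaZ Q) := by
  refine ⟨⟨⟨?_⟩⟩, fun a ha => ha.2.2⟩
  rintro ⟨a, ha⟩ ⟨b, hb⟩
  apply Subtype.ext
  exact hb.2.1 a ha.1

theorem le_centralizer_omegaZ (Q : Subgroup G) : Q ≤ centralizer (omegaZ Q : Set G) := by
  intro q hq
  rw [mem_centralizer_iff]
  intro x hx
  exact (hx.2.1 q hq).symm

theorem omegaZ_normal (Q : Subgroup G) [hQ : Q.Normal] : (omegaZ Q).Normal := by
  constructor
  rintro x ⟨hx, hxc, hx2⟩ g
  refine ⟨hQ.conj_mem x hx g, fun q hq => ?_, ?_⟩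
  · have h1 : g⁻¹ * q * g ∈ Q := by
      have := hQ.conj_mem q hq g⁻¹
      rwa [inv_inv] at this
    have h2 := hxc _ h1
    calc q * (g * x * g⁻¹) = g * ((g⁻¹ * q * g) * x) * g⁻¹ := by group
      _ = g * (x * (g⁻¹ * q * g)) * g⁻¹ := by rw [h2]
      _ = g * x * g⁻¹ * q := by group
  · rw [conj_pow, hx2, mul_one, mul_inv_cancel]

theorem omegaZ_ne_bot [Finite G] (Q : Subgroup G) (hQ : IsPGroup 2 Q) (hne : Q ≠ ⊥) :
    omegaZ Q ≠ ⊥ := by
  have : Nontrivial Q := (Subgroup.nontrivial_iff_ne_bot Q).mpr hne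
  have hc : Nontrivial (center Q) := hQ.center_nontrivial
  have hpc : IsPGroup 2 (center Q) := hQ.to_subgroup _
  obtain ⟨k, hk⟩ := hpc.exists_card_eq
  have hk0 : k ≠ 0 := by
    rintro rfl
    rw [pow_zero] at hk
    have := (Finite.one_lt_card_iff_nontrivial (α := center Q)).mpr hc
    omega
  have h2 : 2 ∣ Nat.card (center Q) := by
    rw [hk]; exact dvd_pow_self 2 hk0
  obtain ⟨x, hx⟩ := exists_prime_orderOf_dvd_card' 2 h2
  intro hbot
  have hmem : ((x : Q) : G) ∈ omegaZ Q := by
    refine ⟨(x : Q).2, fun q hq => ?_, ?_⟩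
    · have := Subgroup.mem_center_iff.mp x.2 ⟨q, hq⟩
      exact congrArg Subtype.val this
    · have h1 : x ^ 2 = 1 := by rw [← hx]; exact pow_orderOf_eq_one x
      have := congrArg (fun y : center Q => ((y : Q) : G)) h1
      simpa using this
  rw [hbot, mem_bot] at hmem
  have hx1 : x = 1 := by
    apply Subtype.ext; apply Subtype.ext; simpa using hmem
  rw [hx1, orderOf_one] at hx
  omega

theorem isPGroup_zpowers {p : ℕ} (a : G) (k : ℕ) (h : a ^ (p ^ k) = 1) :
    IsPGroup p (zpowers a) := by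
  rintro ⟨g, hg⟩
  obtain ⟨m, rfl⟩ := mem_zpowers_iff.mp hg
  refine ⟨k, Subtype.ext ?_⟩
  show (a ^ m) ^ (p ^ k) = 1
  rw [← zpow_natCast, ← zpow_mul, mul_comm, zpow_mul, zpow_natCast, h, one_zpow]

theorem exists_prime_order [Finite G] {p : ℕ} [hp : Fact p.Prime] (R : Subgroup G)
    (hR : IsPGroup p R) (hne : R ≠ ⊥) : ∃ s ∈ R, s ≠ 1 ∧ s ^ p = 1 := by
  obtain ⟨k, hk⟩ := hR.exists_card_eq
  have hk0 : k ≠ 0 := by
    rintro rfl
    rw [pow_zero] at hk
    exact hne (Subgroup.card_eq_one.mp hk)
  have h2 : p ∣ Nat.card R := by rw [hk]; exact dvd_pow_self p hk0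
  obtain ⟨x, hx⟩ := exists_prime_orderOf_dvd_card' p h2
  refine ⟨x, x.2, ?_, ?_⟩
  · intro h1
    have : x = 1 := Subtype.ext h1
    rw [this, orderOf_one] at hx
    exact hp.out.one_lt.ne hx
  · have := pow_orderOf_eq_one x
    rw [hx] at this
    have := congrArg Subtype.val this
    simpa using this

theorem mem_normalizer_of_conj (H : Subgroup G) (g : G) (h1 : ∀ x ∈ H, g * x * g⁻¹ ∈ H)
    (h2 : ∀ x ∈ H, g⁻¹ * x * g ∈ H) : g ∈ normalizer (H : Set G) := by
  rw [mem_normalizer_iff]
  intro x
  constructor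
  · exact h1 x
  · intro hx
    have := h2 _ hx
    simpa [mul_assoc] using this

/-- a `3`-element not centralizing a normal four-group acts on it without fixed points -/
theorem fpf_of_not_centralizes [Finite G] (Z : Subgroup G) [hZn : Z.Normal] (hZ4 : Nat.card Z = 4)
    (a : G) (ha : IsPGroup 3 (zpowers a)) (hna : a ∉ centralizer (Z : Set G)) :
    Z ⊓ centralizer {a} = ⊥ := by
  have : Fact (Nat.Prime 3) := ⟨Nat.prime_three⟩
  have hnorm : a ∈ normalizer (Z : Set G) := by
    rw [normalizer_eq_top_iff.mpr hZn]; exact mem_top a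
  have h1 := Cfsg.Agent.Lib.Helper17.card_modEq_card_inf_centralizer Z a hnorm ha
  have h2 : Nat.card (Z ⊓ centralizer {a} : Subgroup G) ∣ Nat.card Z :=
    Subgroup.card_dvd_of_le inf_le_left
  rw [hZ4] at h1 h2
  have h3 : Nat.card (Z ⊓ centralizer {a} : Subgroup G) ≤ 4 := Nat.le_of_dvd (by norm_num) h2
  have h4 : Nat.card (Z ⊓ centralizer {a} : Subgroup G) ≠ 4 := by
    intro h4
    apply hna
    have heq : Z ⊓ centralizer {a} = Z :=
      Subgroup.eq_of_le_of_card_ge inf_le_left (by rw [hZ4, h4])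
    rw [mem_centralizer_iff]
    intro z hz
    have hz' : z ∈ Z ⊓ centralizer {a} := by rw [heq]; exact hz
    exact mem_centralizer_singleton_iff.mp hz'.2
  apply Subgroup.card_eq_one.mp
  unfold Nat.ModEq at h1
  generalize Nat.card (Z ⊓ centralizer {a} : Subgroup G) = n at *
  interval_cases n <;> omega

/-- the case where `Ω₁(Z(O₂(G)))` has order four -/
theorem case_four [Finite G]
    (hno : ∀ E : Subgroup G, Cfsg.IsElementaryAbelian 2 E → Nat.card E ≠ 8)
    (hchar : centralizer (Cfsg.pCore 2 G : Set G) ≤ Cfsg.pCore 2 G)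
    (g : G) (hg : orderOf g = 6) (d : G) (hd1 : d ≠ 1) (hd : IsPGroup 3 (zpowers d))
    (W : Subgroup G) (hW : Cfsg.IsElementaryAbelian 2 W) (hW4 : Nat.card W = 4)
    (hfpf : W ⊓ centralizer {d} = ⊥)
    (hZ4 : Nat.card (omegaZ (Cfsg.pCore 2 G)) = 4) : False := by
  classical
  have : Fact (Nat.Prime 2) := ⟨Nat.prime_two⟩
  have : Fact (Nat.Prime 3) := ⟨Nat.prime_three⟩
  set Q : Subgroup G := Cfsg.pCore 2 G with hQdef
  have hQp : IsPGroup 2 Q := Cfsg.Agent.Lib.Helper48.isPGroup_pCore 2 G
  have hQn : Q.Normal := Cfsg.pCore_normal 2 G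
  set Z : Subgroup G := omegaZ Q with hZdef
  have hZel : Cfsg.IsElementaryAbelian 2 Z := omegaZ_elementary Q
  have hZn : Z.Normal := omegaZ_normal Q
  -- Fact A
  have factA : ∀ s : G, s ^ 2 = 1 → s ∈ centralizer (Z : Set G) → s ∈ Z := by
    intro s hs hsc
    apply mem_of_centralizes hno Z hZel (by omega) s hs
    intro e he
    exact (mem_centralizer_iff.mp hsc e he).symm
  -- Fact C
  have factC : ∀ a : G, Z ⊓ centralizer {a} = ⊥ → Q ⊓ centralizer {a} = ⊥ := by
    intro a ha
    by_contra hne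
    obtain ⟨s, hsR, hs1, hs2⟩ := exists_prime_order (p := 2) (Q ⊓ centralizer {a})
      (hQp.to_le inf_le_left) hne
    have hsZ : s ∈ Z := factA s hs2 (le_centralizer_omegaZ Q hsR.1)
    have : s ∈ Z ⊓ centralizer {a} := ⟨hsZ, hsR.2⟩
    rw [ha, mem_bot] at this
    exact hs1 this
  set C : Subgroup G := centralizer (Z : Set G) with hCdef
  have hCn : C.Normal := by rw [hCdef]; infer_instance
  by_cases hdC : d ∈ C
  · -- case 2a
    have hidx : C.index ∣ 6 := by
      have h1 := Cfsg.Agent.Lib.Helper17.relIndex_centralizer_normalizer_dvd Z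
      rw [normalizer_eq_top_iff.mpr hZn, relIndex_top_right] at h1
      exact h1.trans (Cfsg.Agent.Lib.Helper20.card_mulAut_dvd_six hZ4)
    have h2 : C.relIndex W ∣ 6 := (relIndex_dvd_index_of_normal C W).trans hidx
    have h3 : C.relIndex W ∣ 4 := hW4 ▸ relIndex_dvd_card C W
    have h4 := Cfsg.Agent.Lib.Helper17.card_inf_mul_relIndex C W
    rw [hW4] at h4
    have h5 : C.relIndex W ≤ 2 := by
      have : C.relIndex W ∣ 2 := by
        have := Nat.dvd_gcd h2 h3
        simpa using this
      exact Nat.le_of_dvd (by norm_num) this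
    have h6 : (C ⊓ W : Subgroup G) ≠ ⊥ := by
      intro hb
      rw [hb, Subgroup.card_bot] at h4
      omega
    obtain ⟨w, hw1⟩ := (Subgroup.ne_bot_iff_exists_ne_one).mp h6
    have hwC : (w : G) ∈ C := w.2.1
    have hwW : (w : G) ∈ W := w.2.2
    have hwZ : (w : G) ∈ Z := factA w (hW.2 w hwW) hwC
    have hwd : (w : G) ∈ centralizer {d} := by
      rw [mem_centralizer_singleton_iff]
      exact (mem_centralizer_iff.mp hdC w hwZ)
    have : (w : G) ∈ W ⊓ centralizer {d} := ⟨hwW, hwd⟩
    rw [hfpf, mem_bot] at this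
    exact hw1 (Subtype.ext this)
  · -- case 2b
    have hfZ : Z ⊓ centralizer {d} = ⊥ := fpf_of_not_centralizes Z hZ4 d hd hdC
    have hfQ : Q ⊓ centralizer {d} = ⊥ := factC d hfZ
    -- the elements c and t
    set c : G := g ^ 2 with hc
    set t : G := g ^ 3 with ht
    have hg6 : g ^ 6 = 1 := by rw [← hg]; exact pow_orderOf_eq_one g
    have hc3 : c ^ 3 = 1 := by rw [hc, ← pow_mul]; exact hg6
    have ht2 : t ^ 2 = 1 := by rw [ht, ← pow_mul]; exact hg6
    have hc1 : c ≠ 1 := by
      intro h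
      have := orderOf_dvd_of_pow_eq_one h
      rw [hg] at this
      omega
    have ht1 : t ≠ 1 := by
      intro h
      have := orderOf_dvd_of_pow_eq_one h
      rw [hg] at this
      omega
    have hct : c * t = t * c := by rw [hc, ht, ← pow_add, ← pow_add]
    have hcp : IsPGroup 3 (zpowers c) := isPGroup_zpowers c 1 (by rw [pow_one]; exact hc3)
    have htp : IsPGroup 2 (zpowers t) := isPGroup_zpowers t 1 (by rw [pow_one]; exact ht2)
    -- Fact D: c centralizes Z
    have hcC : c ∈ C := by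
      by_contra hcC
      have hfc : Z ⊓ centralizer {c} = ⊥ := fpf_of_not_centralizes Z hZ4 c hcp hcC
      set Y : Subgroup G := Z ⊓ centralizer {t} with hY
      have htn : t ∈ normalizer (Z : Set G) := by
        rw [normalizer_eq_top_iff.mpr hZn]; exact mem_top t
      have h1 := Cfsg.Agent.Lib.Helper17.card_modEq_card_inf_centralizer Z t htn htp
      rw [hZ4] at h1
      have h2 : Nat.card Y ∣ 4 := hZ4 ▸ Subgroup.card_dvd_of_le (inf_le_left : Y ≤ Z)
      have hcCt : c ∈ centralizer {t} := mem_centralizer_singleton_iff.mpr hct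
      have hcY : c ∈ normalizer (Y : Set G) := by
        apply mem_normalizer_of_conj
        · intro x hx
          have hxZ : x ∈ Z := hx.1
          have hxt : x ∈ centralizer {t} := hx.2
          exact ⟨hZn.conj_mem x hxZ c,
            (centralizer {t}).mul_mem ((centralizer {t}).mul_mem hcCt hxt)
              ((centralizer {t}).inv_mem hcCt)⟩
        · intro x hx
          have hxZ : x ∈ Z := hx.1
          have hxt : x ∈ centralizer {t} := hx.2
          refine ⟨by simpa using hZn.conj_mem x hxZ c⁻¹, ?_⟩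
          exact (centralizer {t}).mul_mem ((centralizer {t}).mul_mem
            ((centralizer {t}).inv_mem hcCt) hxt) hcCt
      have h3 := Cfsg.Agent.Lib.Helper17.card_modEq_card_inf_centralizer Y c hcY hcp
      have h4 : (Y ⊓ centralizer {c} : Subgroup G) = ⊥ := by
        apply le_bot_iff.mp
        rw [← hfc]
        exact inf_le_inf_right _ inf_le_left
      rw [h4, Subgroup.card_bot] at h3
      have hY4 : Nat.card Y = 4 := by
        have h5 : Nat.card Y ≤ 4 := Nat.le_of_dvd (by norm_num) h2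
        have h6 : 0 < Nat.card Y := Nat.card_pos
        unfold Nat.ModEq at h1 h3
        generalize Nat.card Y = n at *
        interval_cases n <;> omega
      have hYZ : Y = Z := Subgroup.eq_of_le_of_card_ge inf_le_left (by rw [hZ4, hY4])
      have htC : t ∈ centralizer (Z : Set G) := by
        rw [mem_centralizer_iff]
        intro z hz
        have hz' : z ∈ Y := by rw [hYZ]; exact hz
        exact mem_centralizer_singleton_iff.mp hz'.2
      have htZ : t ∈ Z := factA t ht2 htC
      have : t ∈ Z ⊓ centralizer {c} := ⟨htZ, mem_centralizer_singleton_iff.mpr hct.symm⟩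
      rw [hfc, mem_bot] at this
      exact ht1 this
    -- the order of d
    obtain ⟨n, hn⟩ := (IsPGroup.iff_orderOf.mp hd) ⟨d, mem_zpowers d⟩
    rw [Subgroup.orderOf_mk] at hn
    have hn1 : 1 ≤ n := by
      by_contra h0
      have : n = 0 := by omega
      rw [this, pow_zero, orderOf_eq_one_iff] at hn
      exact hd1 hn
    have hdQ : d ∈ normalizer (Q : Set G) := by
      rw [normalizer_eq_top_iff.mpr hQn]; exact mem_top d
    have hfaith : zpowers d ⊓ centralizer (Q : Set G) = ⊥ := by
      have hdis : Disjoint (zpowers d) Q :=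
        IsPGroup.disjoint_of_ne 3 2 (by norm_num) _ _ hd hQp
      apply le_bot_iff.mp
      rw [← disjoint_iff.mp hdis]
      exact inf_le_inf_left _ hchar
    have hrank : ∀ V : Subgroup G, V ≤ Q → IsMulCommutative V → Cfsg.PRankLE 2 2 V := by
      intro V _ _ A hAc hA2
      have hel : Cfsg.IsElementaryAbelian 2 (A.map V.subtype) := by
        refine ⟨⟨⟨?_⟩⟩, ?_⟩
        · rintro ⟨_, ⟨a, ha, rfl⟩⟩ ⟨_, ⟨b, hb, rfl⟩⟩
          apply Subtype.ext
          show V.subtype a * V.subtype b = V.subtype b * V.subtype a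
          have := hAc.is_comm.comm ⟨a, ha⟩ ⟨b, hb⟩
          have := congrArg (fun x : A => V.subtype (x : V)) this
          simpa using this
        · rintro _ ⟨a, ha, rfl⟩
          have := hA2 a ha
          have := congrArg V.subtype this
          simpa using this
      have := card_le_four hno _ hel
      rw [Nat.card_congr (A.equivMapOfInjective V.subtype V.subtype_injective).symm.toEquiv] at this
      simpa using this
    have hd3o : orderOf d = 3 := Cfsg.Agent.S3738.result d n hn1 hn Q hQp hdQ hfaith hfQ hrank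
    have hd3 : d ^ 3 = 1 := by rw [← hd3o]; exact pow_orderOf_eq_one d
    -- Sylow 3-subgroup containing d
    obtain ⟨T, hdT⟩ := hd.exists_le_sylow
    have hdT' : d ∈ (T : Subgroup G) := hdT (mem_zpowers d)
    obtain ⟨T', hcT'⟩ := hcp.exists_le_sylow
    obtain ⟨x, hx⟩ := MulAction.exists_smul_eq G T T'
    have hc1T : x⁻¹ * c * x ∈ (T : Subgroup G) := by
      rw [← Cfsg.Agent.Lib.Helper17.mem_smul_sylow_iff, hx]
      exact hcT' (mem_zpowers c)
    have hc1C : x⁻¹ * c * x ∈ C := by
      have := hCn.conj_mem c hcC x⁻¹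
      rwa [inv_inv] at this
    have hc1ne : x⁻¹ * c * x ≠ 1 := by
      intro h
      apply hc1
      have := congrArg (fun y => x * y * x⁻¹) h
      simpa [mul_assoc] using this
    -- a central element of order three of T inside C
    set N : Subgroup (T : Subgroup G) := C.subgroupOf T with hN
    have hNn : N.Normal := hCn.subgroupOf _
    have hNne : N ≠ ⊥ := by
      intro hb
      have : (⟨x⁻¹ * c * x, hc1T⟩ : (T : Subgroup G)) ∈ N := by
        rw [hN, mem_subgroupOf]; exact hc1C
      rw [hb, mem_bot] at this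
      exact hc1ne (congrArg Subtype.val this)
    obtain ⟨b, hbN, hb1, hbc⟩ := Cfsg.Agent.Lib.Helper48.normal_meets_center' T.isPGroup' N hNne
    set M : Subgroup (T : Subgroup G) := N ⊓ center (T : Subgroup G) with hM
    have hMne : M ≠ ⊥ := by
      intro hb
      have : b ∈ M := ⟨hbN, hbc⟩
      rw [hb, mem_bot] at this
      exact hb1 this
    obtain ⟨b', hb'M, hb'1, hb'3⟩ := exists_prime_order (p := 3) M (T.isPGroup'.to_subgroup M) hMne
    set c' : G := (b' : G) with hc'
    have hc'T : c' ∈ (T : Subgroup G) := b'.2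
    have hc'C : c' ∈ C := by
      have h1 : b' ∈ C.subgroupOf T := hb'M.1
      exact mem_subgroupOf.mp h1
    have hc'1 : c' ≠ 1 := fun h => hb'1 (Subtype.ext h)
    have hc'3 : c' ^ 3 = 1 := by
      have := congrArg Subtype.val hb'3
      simpa using this
    have hc'cen : ∀ y ∈ (T : Subgroup G), y * c' = c' * y := by
      intro y hy
      have := Subgroup.mem_center_iff.mp hb'M.2 ⟨y, hy⟩
      exact congrArg Subtype.val this
    have hdc' : d * c' = c' * d := hc'cen d hdT'
    have hQ3 : ¬ 3 ∣ Nat.card Q := by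
      obtain ⟨k, hk⟩ := hQp.exists_card_eq
      rw [hk]
      intro h3
      have := (Nat.Prime.dvd_of_dvd_pow Nat.prime_three h3)
      omega
    have hgen := Cfsg.Agent.Lib.Helper48.coprime_gen Q d c' hd3 hc'3 hdc' hQ3
    have hle : Cfsg.Agent.Lib.Helper48.genSub Q d c' ≤ centralizer {c'} := by
      unfold Cfsg.Agent.Lib.Helper48.genSub
      apply iSup₂_le
      intro γ hγ
      rcases hγ with rfl | ⟨m, rfl⟩
      · exact inf_le_right
      · have hγT : d * c' ^ m ∈ (T : Subgroup G) :=
          (T : Subgroup G).mul_mem hdT' ((T : Subgroup G).pow_mem hc'T m)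
        have hγp : IsPGroup 3 (zpowers (d * c' ^ m)) :=
          T.isPGroup'.to_le ((zpowers_le).mpr hγT)
        have hγC : d * c' ^ m ∉ C := by
          intro h
          apply hdC
          have := C.mul_mem h (C.inv_mem (C.pow_mem hc'C m))
          simpa using this
        rw [factC _ (fpf_of_not_centralizes Z hZ4 _ hγp hγC)]
        exact bot_le
    have hc'Q : c' ∈ centralizer (Q : Set G) := by
      rw [mem_centralizer_iff]
      intro q hq
      have := hle (hgen hq)
      exact (mem_centralizer_singleton_iff.mp this)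
    have hc'Qm : c' ∈ Q := hchar hc'Q
    obtain ⟨k, hk⟩ := hQp ⟨c', hc'Qm⟩
    have hk' : c' ^ 2 ^ k = 1 := by
      have := congrArg Subtype.val hk
      simpa using this
    have h1 : orderOf c' ∣ 2 ^ k := orderOf_dvd_of_pow_eq_one hk'
    have h2 : orderOf c' ∣ 3 := orderOf_dvd_of_pow_eq_one hc'3
    have h3 : orderOf c' = 1 := by
      have hcop : Nat.Coprime (2 ^ k) 3 := Nat.Coprime.pow_left k (by norm_num)
      exact Nat.eq_one_of_dvd_coprimes hcop h1 h2
    exact hc'1 (orderOf_eq_one_iff.mp h3)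

/-- Let G be a finite group with C_G(O₂(G)) ≤ O₂(G) containing an element of order 6, and let d be a non-identity 3-element of G normalizing a nontrivial elementary abelian 2-subgroup W with C_W(d) = 1. Then G has an elementary abelian subgroup of order 8. -/
theorem result {G : Type*} [Group G] [Finite G] (hchar : Subgroup.centralizer (Cfsg.pCore 2 G : Set G) ≤ Cfsg.pCore 2 G) (hsix : ∃ g : G, orderOf g = 6) (d : G) (hd1 : d ≠ 1) (hd : IsPGroup 3 ↥(Subgroup.zpowers d)) (W : Subgroup G) (hW : Cfsg.IsElementaryAbelian 2 W) (hW1 : W ≠ ⊥) (hdW : d ∈ Subgroup.normalizer (W : Set G)) (hfpf : W ⊓ Subgroup.centralizer {d} = ⊥) : ∃ E : Subgroup G, Cfsg.IsElementaryAbelian 2 E ∧ Nat.card E = 8 := by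
  classical
  by_contra hcon
  have hno : ∀ E : Subgroup G, Cfsg.IsElementaryAbelian 2 E → Nat.card E ≠ 8 :=
    fun E hE h8 => hcon ⟨E, hE, h8⟩
  have : Fact (Nat.Prime 2) := ⟨Nat.prime_two⟩
  have : Fact (Nat.Prime 3) := ⟨Nat.prime_three⟩
  obtain ⟨g, hg⟩ := hsix
  have hQp : IsPGroup 2 (Cfsg.pCore 2 G) := Cfsg.Agent.Lib.Helper48.isPGroup_pCore 2 G
  have hQn : (Cfsg.pCore 2 G).Normal := Cfsg.pCore_normal 2 G
  have hQne : Cfsg.pCore 2 G ≠ ⊥ := by
    intro hb
    have h1 : g ∈ Subgroup.centralizer (Cfsg.pCore 2 G : Set G) := by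
      rw [hb, Subgroup.mem_centralizer_iff]
      intro x hx
      rw [Subgroup.coe_bot, Set.mem_singleton_iff] at hx
      rw [hx, one_mul, mul_one]
    have h2 := hchar h1
    rw [hb, Subgroup.mem_bot] at h2
    rw [h2, orderOf_one] at hg
    omega
  have hZel := omegaZ_elementary (Cfsg.pCore 2 G)
  have hZn : (omegaZ (Cfsg.pCore 2 G)).Normal := omegaZ_normal _
  have hZne : omegaZ (Cfsg.pCore 2 G) ≠ ⊥ := omegaZ_ne_bot _ hQp hQne
  have hZle : Nat.card (omegaZ (Cfsg.pCore 2 G)) ≤ 4 := card_le_four hno _ hZel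
  -- the order of W
  have hW4 : Nat.card W = 4 := by
    have h1 := Cfsg.Agent.Lib.Helper17.card_modEq_card_inf_centralizer W d hdW hd
    rw [hfpf, Subgroup.card_bot] at h1
    have h4 := card_le_four hno W hW
    have hne : Nat.card W ≠ 1 := fun h => hW1 (Subgroup.card_eq_one.mp h)
    have hpos : 0 < Nat.card W := Nat.card_pos
    unfold Nat.ModEq at h1
    generalize Nat.card W = n at *
    interval_cases n <;> omega
  -- the order of Z
  obtain ⟨k, hk⟩ := (isPGroup_of_elementary hZel).exists_card_eq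
  have hk0 : k ≠ 0 := by
    rintro rfl
    rw [pow_zero] at hk
    exact hZne (Subgroup.card_eq_one.mp hk)
  have hk2 : k ≤ 2 := by
    by_contra h3
    push Not at h3
    have : 2 ^ 3 ≤ 2 ^ k := Nat.pow_le_pow_right (by norm_num) h3
    omega
  have hkcases : k = 1 ∨ k = 2 := by omega
  rcases hkcases with rfl | rfl
  · -- Z of order two: its involution is central
    rw [pow_one] at hk
    obtain ⟨⟨z, hz⟩, hz1, hzu⟩ := (Nat.card_eq_two_iff' (1 : omegaZ (Cfsg.pCore 2 G))).mp hk
    have hz1' : z ≠ 1 := fun h => hz1 (Subtype.ext h)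
    have hzc : ∀ x : G, x * z = z * x := by
      intro x
      have hmem : x * z * x⁻¹ ∈ omegaZ (Cfsg.pCore 2 G) := hZn.conj_mem z hz x
      have hne : (⟨x * z * x⁻¹, hmem⟩ : omegaZ (Cfsg.pCore 2 G)) ≠ 1 := by
        intro h
        apply hz1'
        have h' : x * z * x⁻¹ = 1 := congrArg Subtype.val h
        have := congrArg (fun w => x⁻¹ * w * x) h'
        simpa [mul_assoc] using this
      have h := congrArg Subtype.val (hzu _ hne)
      have h' : x * z * x⁻¹ = z := h
      calc x * z = x * z * x⁻¹ * x := by group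
        _ = z * x := by rw [h']
    have hzW : z ∈ W := by
      apply mem_of_centralizes hno W hW (by omega) z (hZel.2 z hz)
      intro e _
      exact (hzc e).symm
    have : z ∈ W ⊓ Subgroup.centralizer {d} :=
      ⟨hzW, Subgroup.mem_centralizer_singleton_iff.mpr (hzc d).symm⟩
    rw [hfpf, Subgroup.mem_bot] at this
    exact hz1' this
  · exact case_four hno hchar g hg d hd1 hd W hW hW4 hfpf (by rw [hk]; norm_num)

end Cfsg.Agent.S3739
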