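import Cfsg.Statements.S3741
import Mathlib

set_option autoImplicit false
open Cfsg

namespace Cfsg.Agent.S3741

open scoped commutatorElement

variable {G : Type*} [Group G]

/-- a `p`-subgroup `B` normalizing a subgroup `Z` of order `p` centralizes it -/
theorem centralizes_of_card_prime [Finite G] {p : ℕ} [Fact p.Prime] {B Z : Subgroup G}
    (hB : IsPGroup p B) (hZ : Nat.card Z = p) (hBZ : ∀ b ∈ B, ∀ z ∈ Z, b * z * b⁻¹ ∈ Z) :
    ∀ b ∈ B, ∀ z ∈ Z, b * z = z * b := by
  classical
  letI : MulAction B Z :=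
    { smul := fun b z => ⟨(b : G) * z * (b : G)⁻¹, hBZ b b.2 z z.2⟩
      one_smul := fun z => Subtype.ext (by
        change ((1 : B) : G) * z * ((1 : B) : G)⁻¹ = z
        simp)
      mul_smul := fun b b' z => Subtype.ext (by
        change ((b * b' : B) : G) * z * ((b * b' : B) : G)⁻¹ = (b : G) * ((b' : G) * z * (b' : G)⁻¹) * (b : G)⁻¹
        simp [mul_assoc]) }
  have hsmul : ∀ (b : B) (z : Z), ((b • z : Z) : G) = (b : G) * z * (b : G)⁻¹ := fun _ _ => rfl
  have h1 : (1 : Z) ∈ MulAction.fixedPoints B Z := by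
    intro b
    apply Subtype.ext
    rw [hsmul]
    simp
  obtain ⟨z, hz, hz1⟩ := hB.exists_fixed_point_of_prime_dvd_card_of_fixed_point (α := Z)
    (by rw [hZ]) h1
  intro b hb z' hz'
  have hgen : (⟨z', hz'⟩ : Z) ∈ Subgroup.zpowers z := mem_zpowers_of_prime_card hZ (Ne.symm hz1)
  obtain ⟨k, hk⟩ := Subgroup.mem_zpowers_iff.mp hgen
  have hbz : (b : G) * z = z * b := by
    have h2 := congrArg Subtype.val (hz ⟨b, hb⟩)
    rw [hsmul] at h2
    calc b * (z : G) = (b * z * b⁻¹) * b := by group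
      _ = z * b := by rw [h2]
  have hk' : z' = (z : G) ^ k := by
    have := congrArg Subtype.val hk
    simpa using this.symm
  rw [hk']
  exact (Commute.zpow_right (show Commute b (z : G) from hbz) k)

/-- the commutator map `b ↦ ⁅a, b⁆` as a hom `B →* Z` -/
noncomputable def commHom {B Z : Subgroup G} (a : G) (hcomm : ∀ b ∈ B, ⁅a, b⁆ ∈ Z)
    (hBZ : ∀ b ∈ B, ∀ z ∈ Z, b * z = z * b) : B →* Z where
  toFun b := ⟨⁅a, (b : G)⁆, hcomm b b.2⟩
  map_one' := Subtype.ext (by simp)
  map_mul' b b' := Subtype.ext (by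
    have h := hBZ b b.2 _ (hcomm b' b'.2)
    simp only [Subgroup.coe_mul]
    rw [commutatorElement_def, commutatorElement_def, commutatorElement_def] at *
    calc a * (↑b * ↑b') * a⁻¹ * (↑b * ↑b')⁻¹
        = a * ↑b * a⁻¹ * (b : G)⁻¹ * ((b : G) * (a * ↑b' * a⁻¹ * (b' : G)⁻¹)) * (b : G)⁻¹ := by group
      _ = a * ↑b * a⁻¹ * (b : G)⁻¹ * ((a * ↑b' * a⁻¹ * (b' : G)⁻¹) * (b : G)) * (b : G)⁻¹ := by rw [h]
      _ = a * ↑b * a⁻¹ * (↑b)⁻¹ * (a * ↑b' * a⁻¹ * (↑b')⁻¹) := by group)

theorem count [Finite G] {p : ℕ} [Fact p.Prime] {B Z : Subgroup G} (hZ : Nat.card Z = p)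
    (a : G) (hcomm : ∀ b ∈ B, ⁅a, b⁆ ∈ Z) (hBZ : ∀ b ∈ B, ∀ z ∈ Z, b * z = z * b)
    (ha : a ∉ Subgroup.centralizer (B : Set G)) :
    Nat.card {b : B // a * (b : G) = (b : G) * a} * p = Nat.card B := by
  let φ := commHom a hcomm hBZ
  have hker : Nat.card φ.ker = Nat.card {b : B // a * (b : G) = (b : G) * a} := by
    apply Nat.card_congr
    refine Equiv.subtypeEquivRight ?_
    intro b
    rw [MonoidHom.mem_ker]
    constructor
    · intro h
      have h' : ⁅a, (b : G)⁆ = 1 := congrArg Subtype.val h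
      exact commutatorElement_eq_one_iff_mul_comm.mp h'
    · intro h
      apply Subtype.ext
      exact commutatorElement_eq_one_iff_mul_comm.mpr h
  have hrange : Nat.card φ.range = p := by
    haveI : Fact (Nat.card Z).Prime := ⟨by rw [hZ]; exact Fact.out⟩
    rcases φ.range.eq_bot_or_eq_top_of_prime_card with h | h
    · exfalso
      apply ha
      rw [Subgroup.mem_centralizer_iff]
      intro b hb
      have h1 : φ ⟨b, hb⟩ ∈ φ.range := ⟨_, rfl⟩
      rw [h, Subgroup.mem_bot] at h1
      have h2 : ⁅a, b⁆ = 1 := congrArg Subtype.val h1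
      exact (commutatorElement_eq_one_iff_mul_comm.mp h2).symm
    · rw [h, Subgroup.card_top, hZ]
  rw [← hker, ← hrange, ← Subgroup.index_ker]
  exact Subgroup.card_mul_index _

/-- sum formula -/
theorem sum_formula [Finite G] {p : ℕ} [Fact p.Prime] {A B Z : Subgroup G} (hZ : Nat.card Z = p)
    (hcomm : ∀ a ∈ A, ∀ b ∈ B, ⁅a, b⁆ ∈ Z) (hBZ : ∀ b ∈ B, ∀ z ∈ Z, b * z = z * b) :
    Nat.card {x : A × B // (x.1 : G) * (x.2 : G) = (x.2 : G) * (x.1 : G)} * p =
      Nat.card A * Nat.card B +
        Nat.card ((A ⊓ Subgroup.centralizer (B : Set G)).subgroupOf A) * (Nat.card B * (p - 1)) := by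
  classical
  letI : Fintype A := Fintype.ofFinite A
  have hp1 : 1 ≤ p := (Fact.out : p.Prime).one_lt.le
  rw [Nat.card_congr (Equiv.subtypeProdEquivSigmaSubtype
    (fun (a : A) (b : B) => (a : G) * (b : G) = (b : G) * (a : G))), Nat.card_sigma, Finset.sum_mul]
  have h1 : ∀ a : A, Nat.card {b : B // (a : G) * (b : G) = (b : G) * (a : G)} * p =
      Nat.card B + (if (a : G) ∈ Subgroup.centralizer (B : Set G) then Nat.card B * (p - 1) else 0) := by
    intro a
    by_cases ha : (a : G) ∈ Subgroup.centralizer (B : Set G)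
    · rw [if_pos ha]
      have : Nat.card {b : B // (a : G) * (b : G) = (b : G) * (a : G)} = Nat.card B := by
        apply Nat.card_congr
        refine Equiv.subtypeUnivEquiv ?_
        intro b
        exact ((Subgroup.mem_centralizer_iff.mp ha) b b.2).symm
      rw [this]
      obtain ⟨q, rfl⟩ : ∃ q, p = q + 1 := ⟨p - 1, by omega⟩
      simp only [Nat.add_sub_cancel]
      ring
    · rw [if_neg ha, add_zero]
      exact count hZ a (hcomm a a.2) hBZ ha
  rw [Finset.sum_congr rfl (fun a _ => h1 a), Finset.sum_add_distrib, Finset.sum_const,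
    Finset.card_univ, smul_eq_mul, ← Nat.card_eq_fintype_card]
  congr 1
  rw [Finset.sum_ite, Finset.sum_const_zero, add_zero, Finset.sum_const, smul_eq_mul]
  congr 1
  rw [Nat.card_eq_fintype_card, Fintype.card_subtype]
  congr 1
  ext a
  simp only [Finset.mem_filter, Finset.mem_univ, true_and]
  rw [Subgroup.mem_subgroupOf, Subgroup.mem_inf]
  constructor
  · intro h; exact ⟨a.2, h⟩
  · intro h; exact h.2

theorem main [Finite G] {p : ℕ} [Fact p.Prime] (hG : IsPGroup p G) (A B : Subgroup G) (hAB : ⁅A, B⁆ ≤ A ⊓ B) (hcard : Nat.card ↥⁅A, B⁆ ≤ p) : (A ⊓ Subgroup.centralizer (B : Set G)).relIndex A = (B ⊓ Subgroup.centralizer (A : Set G)).relIndex B := by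
  classical
  by_cases hbot : ⁅A, B⁆ = ⊥
  · have h1 : A ≤ Subgroup.centralizer (B : Set G) := Subgroup.commutator_eq_bot_iff_le_centralizer.mp hbot
    have h2 : B ≤ Subgroup.centralizer (A : Set G) := by
      rw [Subgroup.commutator_comm] at hbot
      exact Subgroup.commutator_eq_bot_iff_le_centralizer.mp hbot
    rw [inf_eq_left.mpr h1, inf_eq_left.mpr h2, Subgroup.relIndex_self, Subgroup.relIndex_self]
  · set Z := ⁅A, B⁆ with hZdef
    have hp : p.Prime := Fact.out
    have hZ : Nat.card Z = p := by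
      obtain ⟨k, hk⟩ := (IsPGroup.iff_card (p := p)).mp (hG.to_subgroup Z)
      have hk0 : k ≠ 0 := by
        rintro rfl
        rw [pow_zero] at hk
        exact hbot (Subgroup.card_eq_one.mp hk)
      have hk1 : k ≤ 1 := by
        by_contra hcon
        push Not at hcon
        have : p ^ 2 ≤ p ^ k := Nat.pow_le_pow_right hp.pos hcon
        have h2 : p < p ^ 2 := by nlinarith [hp.one_lt]
        omega
      have : k = 1 := by omega
      rw [hk, this, pow_one]
    have hcomm : ∀ a ∈ A, ∀ b ∈ B, ⁅a, b⁆ ∈ Z := fun a ha b hb =>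
      Subgroup.commutator_mem_commutator ha hb
    have hcomm' : ∀ b ∈ B, ∀ a ∈ A, ⁅b, a⁆ ∈ Z := fun b hb a ha => by
      rw [← commutatorElement_inv]
      exact Z.inv_mem (hcomm a ha b hb)
    have hBZ : ∀ b ∈ B, ∀ z ∈ Z, b * z = z * b := by
      apply centralizes_of_card_prime (hG.to_subgroup B) hZ
      intro b hb z hz
      have h1 : ⁅b, z⁆ ∈ Z := hcomm' b hb z (hAB hz).1
      have h2 : b * z * b⁻¹ = ⁅b, z⁆ * z := by rw [commutatorElement_def]; group
      rw [h2]
      exact Z.mul_mem h1 hz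
    have hAZ : ∀ a ∈ A, ∀ z ∈ Z, a * z = z * a := by
      apply centralizes_of_card_prime (hG.to_subgroup A) hZ
      intro a ha z hz
      have h1 : ⁅a, z⁆ ∈ Z := hcomm a ha z (hAB hz).2
      have h2 : a * z * a⁻¹ = ⁅a, z⁆ * z := by rw [commutatorElement_def]; group
      rw [h2]
      exact Z.mul_mem h1 hz
    have e1 := sum_formula hZ hcomm hBZ
    have e2 := sum_formula hZ hcomm' hAZ
    have hN : Nat.card {x : A × B // (x.1 : G) * (x.2 : G) = (x.2 : G) * (x.1 : G)} =
        Nat.card {x : B × A // (x.1 : G) * (x.2 : G) = (x.2 : G) * (x.1 : G)} := by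
      apply Nat.card_congr
      refine (Equiv.prodComm A B).subtypeEquiv ?_
      intro x
      simp only [Equiv.prodComm_apply, Prod.fst_swap, Prod.snd_swap]
      exact eq_comm
    rw [hN, e2] at e1
    set cA := Nat.card ((A ⊓ Subgroup.centralizer (B : Set G)).subgroupOf A) with hcA
    set cB := Nat.card ((B ⊓ Subgroup.centralizer (A : Set G)).subgroupOf B) with hcB
    have hA := Subgroup.card_mul_index ((A ⊓ Subgroup.centralizer (B : Set G)).subgroupOf A)
    have hB := Subgroup.card_mul_index ((B ⊓ Subgroup.centralizer (A : Set G)).subgroupOf B)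
    change cA * (A ⊓ Subgroup.centralizer (B : Set G)).relIndex A = Nat.card A at hA
    change cB * (B ⊓ Subgroup.centralizer (A : Set G)).relIndex B = Nat.card B at hB
    set rA := (A ⊓ Subgroup.centralizer (B : Set G)).relIndex A
    set rB := (B ⊓ Subgroup.centralizer (A : Set G)).relIndex B
    have hcApos : 0 < cA := Nat.card_pos
    have hcBpos : 0 < cB := Nat.card_pos
    have hp1 : 0 < p - 1 := by have := hp.one_lt; omega
    -- e1 : nB * nA + cB * (nA * (p-1)) = nA * nB + cA * (nB * (p-1))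
    have e3 : cB * (Nat.card A * (p - 1)) = cA * (Nat.card B * (p - 1)) := by
      have : Nat.card B * Nat.card A = Nat.card A * Nat.card B := mul_comm _ _
      omega
    have e4 : cB * Nat.card A = cA * Nat.card B := by
      have : (cB * Nat.card A) * (p - 1) = (cA * Nat.card B) * (p - 1) := by
        rw [mul_assoc, mul_assoc]; exact e3
      exact Nat.eq_of_mul_eq_mul_right hp1 this
    rw [← hA, ← hB] at e4
    -- cB * (cA * rA) = cA * (cB * rB)
    have e5 : (cA * cB) * rA = (cA * cB) * rB := by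
      calc (cA * cB) * rA = cB * (cA * rA) := by ring
        _ = cA * (cB * rB) := e4
        _ = (cA * cB) * rB := by ring
    exact Nat.eq_of_mul_eq_mul_left (Nat.mul_pos hcApos hcBpos) e5

/-- Let A and B be subgroups of a finite p-group with [A, B] ≤ A ∩ B and [A, B] of order at most p. Then |A : C_A(B)| = |B : C_B(A)|. -/
theorem result {G : Type*} [Group G] [Finite G] {p : ℕ} [Fact p.Prime] (hG : IsPGroup p G) (A B : Subgroup G) (hAB : ⁅A, B⁆ ≤ A ⊓ B) (hcard : Nat.card ↥⁅A, B⁆ ≤ p) : (A ⊓ Subgroup.centralizer (B : Set G)).relIndex A = (B ⊓ Subgroup.centralizer (A : Set G)).relIndex B :=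
  main hG A B hAB hcard

end Cfsg.Agent.S3741
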