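import Cfsg.Statements.S3745
import Cfsg.Agent.Lib.Helper24.InvHall
import Cfsg.Agent.Lib.Helper67.PiNat

set_option autoImplicit false
set_option linter.style.haveILetI false
open Cfsg

namespace Cfsg.Agent.S3745

open Cfsg.Agent.Lib.Helper24 Cfsg.Agent.Lib.Helper33 Cfsg.Agent.Lib.Helper67 Subgroup

/-- Hall `π`-subgroups of `G` are the subgroups of order the `π`-part of `|G|`. -/
theorem isPiHallOf_iff_card {X : Type*} [Group X] [Finite X] (π : Set ℕ) (H G : Subgroup X)
    (hHG : H ≤ G) (a b : ℕ) (hab : Nat.card G = a * b) (ha : PiNat π a) (hb : PiNat πᶜ b) :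
    Cfsg.IsPiHallOf π H G ↔ Nat.card H = a := by
  have hmul : H.relIndex G * Nat.card H = a * b := by rw [← hab]; exact relIndex_mul_card' hHG
  have hapos : 0 < a := by
    rcases Nat.eq_zero_or_pos a with h | h
    · rw [h, zero_mul] at hab
      exact absurd hab (Nat.card_pos (α := G)).ne'
    · exact h
  constructor
  · rintro ⟨-, h1, h2⟩
    have hH : PiNat π (Nat.card H) := h1
    have hr : PiNat πᶜ (H.relIndex G) := fun p hp hpd hpπ => h2 p hp hpπ hpd
    have hd1 : Nat.card H ∣ a :=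
      (hH.coprime hb).dvd_of_dvd_mul_right (Dvd.intro_left _ hmul)
    have hd2 : a ∣ Nat.card H :=
      (ha.coprime hr).dvd_of_dvd_mul_left (Dvd.intro _ hmul.symm)
    exact Nat.dvd_antisymm hd1 hd2
  · intro hc
    refine ⟨hHG, ?_, ?_⟩
    · rw [hc]; exact ha
    · intro p hp hpπ hpd
      rw [hc, mul_comm] at hmul
      have hr : H.relIndex G = b := Nat.eq_of_mul_eq_mul_left hapos hmul
      rw [hr] at hpd
      exact hb p hp hpd hpπ

/-- Coprime action on a solvable group and Hall subgroups. Let A and G be subgroups of a finite group with A normalizing G, the orders of A and G coprime, and G solvable, and let π be a set of primes. Then (a) G has an A-invariant Hall π-subgroup; (b) any two A-invariant Hall π-subgroups of G are conjugate by an element of C_G(A); (c) every A-invariant π-subgroup of G lies in an A-invariant Hall π-subgroup of G. -/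
theorem result {X : Type*} [Group X] [Finite X] (A G : Subgroup X) (hAG : A ≤ Subgroup.normalizer (G : Set X)) (hcop : (Nat.card A).Coprime (Nat.card G)) (hsolv : Group.IsSolvable G) (π : Set ℕ) : (∃ H : Subgroup X, Cfsg.IsPiHallOf π H G ∧ A ≤ Subgroup.normalizer (H : Set X)) ∧ (∀ H₁ H₂ : Subgroup X, Cfsg.IsPiHallOf π H₁ G → A ≤ Subgroup.normalizer (H₁ : Set X) → Cfsg.IsPiHallOf π H₂ G → A ≤ Subgroup.normalizer (H₂ : Set X) → ∃ c ∈ G ⊓ Subgroup.centralizer (A : Set X), H₂ = H₁.map (MulAut.conj c).toMonoidHom) ∧ (∀ U : Subgroup X, U ≤ G → A ≤ Subgroup.normalizer (U : Set X) → (∀ p : ℕ, p.Prime → p ∣ Nat.card U → p ∈ π) → ∃ H : Subgroup X, Cfsg.IsPiHallOf π H G ∧ A ≤ Subgroup.normalizer (H : Set X) ∧ U ≤ H) := by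
  obtain ⟨a, b, hab, ha, hb⟩ := exists_piNat_mul π (Nat.card G) (Nat.card_pos (α := G)).ne'
  have hco : a.Coprime b := ha.coprime hb
  -- part (c)
  have partc : ∀ U : Subgroup X, U ≤ G → A ≤ Subgroup.normalizer (U : Set X) →
      (∀ p : ℕ, p.Prime → p ∣ Nat.card U → p ∈ π) →
      ∃ H : Subgroup X, Cfsg.IsPiHallOf π H G ∧ A ≤ Subgroup.normalizer (H : Set X) ∧ U ≤ H := by
    intro U hUG hAU hU
    have hUb : (Nat.card U).Coprime b := PiNat.coprime (π := π) hU hb
    obtain ⟨H, hHG, hHc, hAH, hUH⟩ :=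
      exists_invariant_hall_ge G A U hAG hsolv hcop a b hab hco hUG hAU hUb
    exact ⟨H, (isPiHallOf_iff_card π H G hHG a b hab ha hb).mpr hHc, hAH, hUH⟩
  refine ⟨?_, ?_, partc⟩
  · -- part (a)
    obtain ⟨H, hH, hAH, -⟩ := partc ⊥ bot_le
      (by
        intro x _
        rw [mem_normalizer_iff]
        intro y
        simp)
      (by
        intro p hp hpd
        rw [card_bot] at hpd
        exact absurd (Nat.dvd_one.mp hpd) hp.one_lt.ne')
    exact ⟨H, hH, hAH⟩
  · -- part (b)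
    intro H₁ H₂ hH₁ hAH₁ hH₂ hAH₂
    have h1G : H₁ ≤ G := hH₁.1
    have h2G : H₂ ≤ G := hH₂.1
    have hc1 : Nat.card H₁ = a := (isPiHallOf_iff_card π H₁ G h1G a b hab ha hb).mp hH₁
    have hc2 : Nat.card H₂ = a := (isPiHallOf_iff_card π H₂ G h2G a b hab ha hb).mp hH₂
    have hc1' : Nat.card (H₁.subgroupOf G) = a := by
      rw [Nat.card_congr (subgroupOfEquivOfLe h1G).toEquiv]; exact hc1
    have hc2' : Nat.card (H₂.subgroupOf G) = a := by
      rw [Nat.card_congr (subgroupOfEquivOfLe h2G).toEquiv]; exact hc2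
    obtain ⟨g, hg⟩ := Cfsg.Agent.Lib.Helper1.hallConj_all G hsolv a b hab hco
      (H₁.subgroupOf G) (H₂.subgroupOf G) hc1' hc2'
    have hg' : cj (g : X) H₁ = H₂ := by
      rw [cj_eq_smul]
      exact Cfsg.Agent.Lib.Helper1.conj_of_conj_subgroupOf h1G h2G g hg
    obtain ⟨c, hc, hcH⟩ := glauberman_conj A G H₁ hAG hcop (Or.inr hsolv) hAH₁ (g : X) g.2
      (by rw [hg']; exact hAH₂)
    refine ⟨c, hc, ?_⟩
    rw [← hg', ← hcH]
    rfl

end Cfsg.Agent.S3745
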