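import Cfsg.Statements.S3746
import Mathlib

set_option autoImplicit false
open Cfsg
open scoped commutatorElement

namespace Cfsg.Agent.S3746

section general

variable {G : Type*} [Group G]

/-- In a perfect group, if `⁅M, ⊤⁆` is central then `M` is central. -/
lemma le_center_of_commutator_le_center [Group.IsPerfect G] (M : Subgroup G)
    (h : ⁅M, (⊤ : Subgroup G)⁆ ≤ Subgroup.center G) : M ≤ Subgroup.center G := by
  have h1 : ⁅⁅M, (⊤ : Subgroup G)⁆, (⊤ : Subgroup G)⁆ = ⊥ := by
    rw [Subgroup.commutator_eq_bot_iff_le_centralizer]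
    simpa [Subgroup.coe_top, Subgroup.centralizer_univ] using h
  have h2 : ⁅⁅(⊤ : Subgroup G), M⁆, (⊤ : Subgroup G)⁆ = ⊥ := by
    rw [Subgroup.commutator_comm (⊤ : Subgroup G) M]; exact h1
  have h3 : ⁅⁅(⊤ : Subgroup G), (⊤ : Subgroup G)⁆, M⁆ = ⊥ :=
    Subgroup.commutator_commutator_eq_bot_of_rotate h2 h1
  have htop : ⁅(⊤ : Subgroup G), (⊤ : Subgroup G)⁆ = ⊤ := by
    rw [← commutator_def]; exact Group.IsPerfect.commutator_eq_top
  rw [htop, Subgroup.commutator_comm, Subgroup.commutator_eq_bot_iff_le_centralizer] at h3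
  simpa [Subgroup.coe_top, Subgroup.centralizer_univ] using h3

/-- A perfect central extension of a group with simple central quotient has simple central
quotient. -/
lemma quasisimple_of_central_ext {A B : Type*} [Group A] [Group B] (φ : A →* B)
    (hφ : Function.Surjective φ) (hker : φ.ker ≤ Subgroup.center A) [Group.IsPerfect A]
    (hB : IsSimpleGroup (B ⧸ Subgroup.center B)) : IsSimpleGroup (A ⧸ Subgroup.center A) := by
  let ψ : A →* B ⧸ Subgroup.center B := (QuotientGroup.mk' (Subgroup.center B)).comp φ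
  have hψ : Function.Surjective ψ := (QuotientGroup.mk'_surjective _).comp hφ
  have hkerψ : ψ.ker = Subgroup.center A := by
    apply le_antisymm
    · apply le_center_of_commutator_le_center
      rw [Subgroup.commutator_le]
      intro a ha x _
      apply hker
      rw [MonoidHom.mem_ker, map_commutatorElement]
      have ha' : φ a ∈ Subgroup.center B := by
        have : ψ a = 1 := ha
        exact (QuotientGroup.eq_one_iff (φ a)).1 this
      rw [commutatorElement_def]
      rw [← Subgroup.mem_center_iff.1 ha' (φ x)]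
      group
    · intro a ha
      rw [MonoidHom.mem_ker]
      show (QuotientGroup.mk' (Subgroup.center B)) (φ a) = 1
      rw [QuotientGroup.mk'_apply, QuotientGroup.eq_one_iff]
      rw [Subgroup.mem_center_iff]
      intro b
      obtain ⟨x, rfl⟩ := hφ b
      rw [← map_mul, ← map_mul, Subgroup.mem_center_iff.1 ha x]
  have e1 : A ⧸ ψ.ker ≃* B ⧸ Subgroup.center B :=
    QuotientGroup.quotientKerEquivOfSurjective ψ hψ
  have e2 : A ⧸ Subgroup.center A ≃* A ⧸ ψ.ker :=
    QuotientGroup.quotientMulEquivOfEq hkerψ.symm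
  exact (e2.trans e1).isSimpleGroup

lemma commutator_self_subnormal (K : Subgroup G) (hK : K.IsSubnormal) :
    (⁅K, K⁆).IsSubnormal := by
  refine Subgroup.IsSubnormal.step _ K (Subgroup.commutator_le_self K) hK ?_
  have : (⁅K, K⁆).subgroupOf K = commutator ↥K := by
    rw [← Subgroup.map_subtype_commutator]
    exact Subgroup.comap_map_eq_self_of_injective (Subgroup.subtype_injective K) _
  rw [this]
  infer_instance

lemma comm_mul_central_left {a b z : G} (hz : ∀ g : G, g * z = z * g) :
    ⁅a * z, b⁆ = ⁅a, b⁆ := by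
  rw [commutatorElement_def, commutatorElement_def]
  calc a * z * b * (a * z)⁻¹ * b⁻¹ = a * (z * b) * z⁻¹ * a⁻¹ * b⁻¹ := by group
    _ = a * (b * z) * z⁻¹ * a⁻¹ * b⁻¹ := by rw [hz b]
    _ = a * b * a⁻¹ * b⁻¹ := by group

lemma comm_mul_central_right {a b z : G} (hz : ∀ g : G, g * z = z * g) :
    ⁅a, b * z⁆ = ⁅a, b⁆ := by
  rw [commutatorElement_def, commutatorElement_def]
  calc a * (b * z) * a⁻¹ * (b * z)⁻¹ = a * b * (z * a⁻¹) * z⁻¹ * b⁻¹ := by group
    _ = a * b * (a⁻¹ * z) * z⁻¹ * b⁻¹ := by rw [hz a⁻¹]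
    _ = a * b * a⁻¹ * b⁻¹ := by group

end general

/-- Let Z ≤ Z(G) be a central subgroup of a finite group G and E a subgroup of G containing Z whose image E/Z is a component of G/Z (subnormal and quasisimple). Then the derived subgroup [E, E] is a component of G. -/
theorem result {G : Type*} [Group G] [Finite G] (Z : Subgroup G) (hZ : Z ≤ Subgroup.center G) [Z.Normal] (E : Subgroup G) (hZE : Z ≤ E) (hE : Cfsg.IsComponent (E.map (QuotientGroup.mk' Z))) : Cfsg.IsComponent ⁅E, E⁆ := by
  obtain ⟨hsub, hperf, hsimple⟩ := hE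
  set f := QuotientGroup.mk' Z with hf
  set Ebar := E.map f with hEbar
  set D := ⁅E, E⁆ with hD
  -- E is subnormal
  have hEcomap : Ebar.comap f = E := by
    rw [hEbar, Subgroup.comap_map_eq, hf, QuotientGroup.ker_mk', sup_eq_left.mpr hZE]
  have hEsub : E.IsSubnormal := by
    rw [← hEcomap]; exact hsub.comap f
  have hDsub : D.IsSubnormal := commutator_self_subnormal E hEsub
  have hDE : D ≤ E := Subgroup.commutator_le_self E
  -- Ebar = D.map f
  have hEbarD : Ebar = D.map f := by
    haveI := hperf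
    have h1 : ⁅Ebar, Ebar⁆ = Ebar := Subgroup.commutator_eq_self
    rw [hD, Subgroup.map_commutator, ← hEbar, h1]
  -- E ≤ D ⊔ Z elementwise
  have hEDZ : ∀ e ∈ E, ∃ d ∈ D, ∃ z ∈ Z, e = d * z := by
    intro e he
    have h1 : f e ∈ Ebar := ⟨e, he, rfl⟩
    rw [hEbarD] at h1
    obtain ⟨d, hd, hde⟩ := h1
    refine ⟨d, hd, d⁻¹ * e, ?_, by group⟩
    have : f d = f e := hde
    rw [hf] at this
    exact (QuotientGroup.eq).mp this
  -- D is perfect
  have hDperf : ⁅D, D⁆ = D := by
    apply le_antisymm (Subgroup.commutator_le_self D)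
    conv_lhs => rw [hD]
    rw [Subgroup.commutator_le]
    intro e₁ he₁ e₂ he₂
    obtain ⟨d₁, hd₁, z₁, hz₁, rfl⟩ := hEDZ e₁ he₁
    obtain ⟨d₂, hd₂, z₂, hz₂, rfl⟩ := hEDZ e₂ he₂
    have hz₁c := Subgroup.mem_center_iff.mp (hZ hz₁)
    have hz₂c := Subgroup.mem_center_iff.mp (hZ hz₂)
    have : ⁅d₁ * z₁, d₂ * z₂⁆ = ⁅d₁, d₂⁆ := by
      rw [comm_mul_central_left hz₁c, comm_mul_central_right hz₂c]
    rw [this]
    exact Subgroup.commutator_mem_commutator hd₁ hd₂
  haveI hDperf' : Group.IsPerfect D := Subgroup.isPerfect_iff.mpr hDperf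
  -- the hom D → Ebar
  let φ : D →* Ebar :=
    { toFun := fun d => ⟨f d, ⟨d, hDE d.2, rfl⟩⟩
      map_one' := Subtype.ext (by simp)
      map_mul' := fun a b => Subtype.ext (by simp) }
  have hφsurj : Function.Surjective φ := by
    rintro ⟨x, hx⟩
    have hx' := hx
    rw [hEbarD] at hx'
    obtain ⟨d, hd, rfl⟩ := hx'
    exact ⟨⟨d, hd⟩, rfl⟩
  have hφker : φ.ker ≤ Subgroup.center D := by
    intro d hd
    rw [MonoidHom.mem_ker] at hd
    have h1 : f (d : G) = 1 := congrArg Subtype.val hd
    have h2 : (d : G) ∈ Z := by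
      rw [hf] at h1
      exact (QuotientGroup.eq_one_iff _).mp h1
    rw [Subgroup.mem_center_iff]
    intro x
    apply Subtype.ext
    simp only [Subgroup.coe_mul]
    exact Subgroup.mem_center_iff.mp (hZ h2) x
  exact ⟨hDsub, hDperf', quasisimple_of_central_ext φ hφsurj hφker hsimple⟩

end Cfsg.Agent.S3746
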