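import Cfsg.Statements.S3748
import Cfsg.Agent.Lib.Helper62.MinNormal
import Cfsg.Agent.Lib.Helper22.Fitting

set_option autoImplicit false
open Cfsg
open Cfsg.Agent.Lib.Helper62

namespace Cfsg.Agent.S3748

/-- in a finite nilpotent group every subgroup is subnormal -/
theorem subnormal_of_nilpotent {G : Type*} [Group G] [Finite G] [Group.IsNilpotent G]
    (H : Subgroup G) : H.IsSubnormal := by
  induction H using WellFoundedGT.induction with
  | ind H ih =>
    by_cases hH : H = ⊤
    · subst hH; exact Subgroup.IsSubnormal.top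
    · have hlt : H < Subgroup.normalizer (H : Set G) :=
        Group.normalizerCondition_of_isNilpotent H (lt_top_iff_ne_top.mpr hH)
      exact Subgroup.IsSubnormal.step H _ Subgroup.le_normalizer (ih _ hlt)
        Subgroup.normal_in_normalizer

theorem claim1 {G : Type*} [Group G] [Finite G] (M : Subgroup G) (hM : M ≠ ⊤) (hprim : ∀ N : Subgroup G, N ≤ M → M ≤ Subgroup.normalizer (N : Set G) → N ≠ ⊥ → Subgroup.normalizer (N : Set G) = M) : ∀ L : Subgroup G, L.IsSubnormal → L ≤ M → L = ⊥ := by
  intro L hL hLM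
  by_contra hLne
  haveI : Nontrivial G := by
    obtain ⟨x, hx1⟩ := (Subgroup.ne_bot_iff_exists_ne_one.mp hLne)
    exact ⟨⟨(x : G), 1, fun h => hx1 (Subtype.ext h)⟩⟩
  set 𝒮 : Set (Subgroup G) := {L' | L'.IsSubnormal ∧ L' ≤ M} with h𝒮
  set N : Subgroup G := sSup 𝒮 with hN
  have hNM : N ≤ M := sSup_le (fun L' hL' => hL'.2)
  have hLN : L ≤ N := le_sSup ⟨hL, hLM⟩
  have hNne : N ≠ ⊥ := fun h => hLne (le_bot_iff.mp (h ▸ hLN))
  have hMN : M ≤ Subgroup.normalizer (N : Set G) := by
    apply le_normalizer_of_cj_le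
    intro m hm
    rw [cj_le_iff]
    apply sSup_le
    intro L' hL'
    rw [← inv_inv m, ← cj_le_iff, inv_inv]
    apply le_sSup
    refine ⟨hL'.1.map (MulAut.conj m).surjective, ?_⟩
    have := cj_mono m hL'.2
    rwa [mem_normalizer_iff_cj.mp (Subgroup.le_normalizer hm)] at this
  have hNN : Subgroup.normalizer (N : Set G) = M := hprim N hNM hMN hNne
  obtain ⟨K, hKn, hKne, hKmin⟩ := exists_minimal_normal (G := G)
  have hKN : K ≤ Subgroup.normalizer (N : Set G) := by
    apply le_normalizer_of_cj_le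
    intro k hk
    rw [cj_le_iff]
    apply sSup_le
    intro L' hL'
    rw [← inv_inv k, ← cj_le_iff, inv_inv]
    have h1 := minimal_normal_le_normalizer_of_subnormal hL'.1 hKn hKne hKmin
    rw [mem_normalizer_iff_cj.mp (h1 hk)]
    exact le_sSup hL'
  have hKM : K ≤ M := hNN ▸ hKN
  have h2 : Subgroup.normalizer (K : Set G) = ⊤ := Subgroup.normalizer_eq_top_iff.mpr hKn
  have h3 := hprim K hKM (by rw [h2]; exact le_top) hKne
  rw [h2] at h3
  exact hM h3.symm

/-- Call a proper subgroup M of G primitive when M = N_G(N) for every non-trivial normal subgroup N of M. If M is a primitive subgroup of the finite group G, then no non-trivial subnormal subgroup of G is contained in M; in particular M ∩ F(G) = 1. -/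
theorem result {G : Type*} [Group G] [Finite G] (M : Subgroup G) (hM : M ≠ ⊤) (hprim : ∀ N : Subgroup G, N ≤ M → M ≤ Subgroup.normalizer (N : Set G) → N ≠ ⊥ → Subgroup.normalizer (N : Set G) = M) : (∀ L : Subgroup G, L.IsSubnormal → L ≤ M → L = ⊥) ∧ M ⊓ Cfsg.fittingSubgroup G = ⊥ := by
  have h1 := claim1 M hM hprim
  refine ⟨h1, ?_⟩
  apply h1 _ _ inf_le_left
  haveI : Group.IsNilpotent (Cfsg.fittingSubgroup G) :=
    Cfsg.Agent.Lib.Helper22.fittingSubgroup_isNilpotent
  have hF : (Cfsg.fittingSubgroup G).IsSubnormal :=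
    (Cfsg.Agent.Lib.Helper22.fittingSubgroup_normal G).isSubnormal
  exact Subgroup.IsSubnormal.trans inf_le_right (subnormal_of_nilpotent _) hF

end Cfsg.Agent.S3748
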