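import Cfsg.Statements.S3749
import Cfsg.Agent.Lib.Helper62.Conj
import Cfsg.Agent.Lib.Helper24.SylowInv

set_option autoImplicit false
open Cfsg

namespace Cfsg.Agent.S3749

variable {G : Type*} [Group G]

theorem card_mul_relIndex_eq {K L : Subgroup G} (h : K ≤ L) :
    Nat.card K * K.relIndex L = Nat.card L := by
  have := Subgroup.relIndex_mul_relIndex (⊥ : Subgroup G) K L bot_le h
  rwa [Subgroup.relIndex_bot_left, Subgroup.relIndex_bot_left] at this

/-- `|A ⊔ K| = |K| * |A|` if `A` normalizes `K` and `A ⊓ K = ⊥` -/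
theorem card_sup_of_disjoint (A K : Subgroup G) (h : A ≤ Subgroup.normalizer (K : Set G))
    (h0 : A ⊓ K = ⊥) : Nat.card (A ⊔ K : Subgroup G) = Nat.card K * Nat.card A := by
  rw [← card_mul_relIndex_eq (le_sup_right : K ≤ A ⊔ K),
    Cfsg.Agent.Lib.Helper24.relIndex_sup_eq_card A K h h0]

/-- the data extracted from the hypotheses: `P = O_p(M)` with `N_G(P) = M`. -/
theorem key_P [Finite G] (M : Subgroup G) (hprim : ∀ N : Subgroup G, N ≤ M → M ≤ Subgroup.normalizer (N : Set G) → N ≠ ⊥ → Subgroup.normalizer (N : Set G) = M) {p : ℕ} [Fact p.Prime] (hOp : Cfsg.pCore p ↥M ≠ ⊥) :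
    ∃ P : Subgroup G, P ≤ M ∧ P ≠ ⊥ ∧ IsPGroup p P ∧ Subgroup.normalizer (P : Set G) = M := by
  refine ⟨(Cfsg.pCore p ↥M).map M.subtype, Subgroup.map_subtype_le _, ?_, ?_, ?_⟩
  · intro h
    exact hOp ((Subgroup.map_eq_bot_iff_of_injective _ (Subgroup.subtype_injective M)).mp h)
  · have : IsPGroup p (Cfsg.pCore p ↥M) :=
      Sylow.sSup_of_normal _ (fun _ h => h.2) (fun _ h => h.1)
    exact this.map _
  · apply hprim _ (Subgroup.map_subtype_le _)
    · intro m hm
      rw [Subgroup.mem_set_normalizer_iff]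
      intro x
      have hn : (Cfsg.pCore p ↥M).Normal := inferInstance
      constructor
      · rintro ⟨y, hy, rfl⟩
        refine ⟨⟨m, hm⟩ * y * ⟨m, hm⟩⁻¹, hn.conj_mem y hy ⟨m, hm⟩, ?_⟩
        simp
      · rintro ⟨y, hy, hyx⟩
        refine ⟨⟨m, hm⟩⁻¹ * y * ⟨m, hm⟩, ?_, ?_⟩
        · have := hn.conj_mem y hy ⟨m, hm⟩⁻¹
          simpa using this
        · have h1 : (y : G) = m * x * m⁻¹ := hyx
          simp only [Subgroup.subtype_apply, Subgroup.coe_mul, Subgroup.coe_inv, h1]
          group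
    · intro h
      exact hOp ((Subgroup.map_eq_bot_iff_of_injective _ (Subgroup.subtype_injective M)).mp h)

/-- part 1 -/
theorem part1 [Finite G] (M P N : Subgroup G) {p : ℕ} [Fact p.Prime] (hPM : P ≤ M) (hPp : IsPGroup p P)
    (hNP : Subgroup.normalizer (P : Set G) = M) [N.Normal] (hMN : M ⊓ N = ⊥) :
    ¬ p ∣ Nat.card N := by
  intro hdvd
  have hp : p.Prime := Fact.out
  have hPN : P ⊓ N = ⊥ := le_bot_iff.mp (hMN ▸ inf_le_inf_right N hPM)
  have hPnN : P ≤ Subgroup.normalizer (N : Set G) := by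
    rw [Subgroup.normalizer_eq_top_iff.mpr inferInstance]; exact le_top
  set L : Subgroup G := P ⊔ N with hL
  have hcardL : Nat.card L = Nat.card N * Nat.card P := card_sup_of_disjoint P N hPnN hPN
  -- a Sylow p-subgroup of L containing P
  have hPL : P ≤ L := le_sup_left
  obtain ⟨S, hS⟩ := (hPp.comap_subtype (K := L)).exists_le_sylow
  set S' : Subgroup G := (S : Subgroup L).map L.subtype with hS'
  have hPS' : P ≤ S' := by
    intro x hx
    exact ⟨⟨x, hPL hx⟩, hS hx, rfl⟩
  have hS'p : IsPGroup p S' := S.isPGroup'.map _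
  have hS'L : S' ≤ L := Subgroup.map_subtype_le _
  have hne : P ≠ S' := by
    intro heq
    have h1 : Nat.card S' = p ^ (Nat.card L).factorization p := by
      rw [hS', Subgroup.card_map_of_injective (Subgroup.subtype_injective L), S.card_eq_multiplicity]
    obtain ⟨a, ha⟩ := (IsPGroup.iff_card (p := p)).mp hPp
    rw [← heq, ha, hcardL, ha] at h1
    have h2 : (Nat.card N * p ^ a).factorization p = (Nat.card N).factorization p + a := by
      rw [Nat.factorization_mul Nat.card_pos.ne' (pow_ne_zero _ hp.ne_zero)]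
      simp [hp.factorization_self]
    rw [h2] at h1
    have h3 : 0 < (Nat.card N).factorization p := hp.factorization_pos_of_dvd Nat.card_pos.ne' hdvd
    have h4 := Nat.pow_right_injective hp.two_le h1
    omega
  have hlt : P < S' := lt_of_le_of_ne hPS' hne
  have hgrow := Cfsg.Agent.Lib.Helper33.normalizer_growth hS'p hlt
  rw [hNP] at hgrow
  -- but S' ⊓ M ≤ P
  have hle : S' ⊓ M ≤ P := by
    intro x hx
    obtain ⟨hxS, hxM⟩ := hx
    have hxL : x ∈ P ⊔ N := hS'L hxS
    obtain ⟨a, ha, n, hn, rfl⟩ := Subgroup.mem_sup_of_normal_right.mp hxL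
    have hnM : n ∈ M := by
      have : n = a⁻¹ * (a * n) := by group
      rw [this]
      exact M.mul_mem (M.inv_mem (hPM ha)) hxM
    have : n ∈ M ⊓ N := ⟨hnM, hn⟩
    rw [hMN, Subgroup.mem_bot] at this
    rw [this, mul_one]; exact ha
  exact (not_le_of_gt hgrow) hle


open Cfsg.Agent.Lib.Helper62 in
/-- uniqueness of `P`-invariant Sylow subgroups when `C_N(P) = 1` -/
theorem sylow_unique [Finite G] (M P N : Subgroup G) {p : ℕ} [Fact p.Prime] (hPM : P ≤ M)
    (hPp : IsPGroup p P) (hNP : Subgroup.normalizer (P : Set G) = M) [N.Normal]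
    (hMN : M ⊓ N = ⊥) (hpN : ¬ p ∣ Nat.card N) {q : ℕ} [Fact q.Prime] (Q₁ Q₂ : Sylow q N)
    (h₁ : P ≤ Subgroup.normalizer (((Q₁ : Subgroup N).map N.subtype : Subgroup G) : Set G))
    (h₂ : P ≤ Subgroup.normalizer (((Q₂ : Subgroup N).map N.subtype : Subgroup G) : Set G)) :
    Q₁ = Q₂ := by
  have hp : p.Prime := Fact.out
  have hPnN : P ≤ Subgroup.normalizer (N : Set G) := by
    rw [Subgroup.normalizer_eq_top_iff.mpr inferInstance]; exact le_top
  have hcop : (Nat.card P).Coprime (Nat.card N) := by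
    obtain ⟨a, ha⟩ := (IsPGroup.iff_card (p := p)).mp hPp
    rw [ha]
    exact Nat.Coprime.pow_left a ((Nat.Prime.coprime_iff_not_dvd hp).mpr hpN)
  have hsolv : Group.IsSolvable P := by
    have := hPp.isNilpotent
    infer_instance
  obtain ⟨c, hc, hcj⟩ := Cfsg.Agent.Lib.Helper24.invariant_sylow_conj P N hPnN hcop (Or.inl hsolv)
    Q₁ Q₂ h₁ h₂
  have hc1 : c = 1 := by
    have h3 : c ∈ M ⊓ N := by
      refine ⟨?_, hc.1⟩
      rw [← hNP]
      have hcc : c ∈ Subgroup.centralizer (P : Set G) := hc.2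
      show c ∈ Subgroup.normalizer (P : Set G)
      rw [Subgroup.mem_set_normalizer_iff]
      intro x
      rw [Subgroup.mem_centralizer_iff] at hcc
      constructor
      · intro hx
        have : c * x * c⁻¹ = x := by rw [← hcc x hx]; group
        rw [this]; exact hx
      · intro hx
        have h5 : c * x * c⁻¹ ∈ (P : Set G) := hx
        have h6 := hcc _ h5
        have : x = c * x * c⁻¹ := by
          have h7 : c * x * c⁻¹ * c = c * (c * x * c⁻¹) := h6
          have h8 : c * x = c * (c * x * c⁻¹) := by rw [← h7]; group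
          exact mul_left_cancel h8
        rw [this]; exact hx
    rw [hMN, Subgroup.mem_bot] at h3
    exact h3
  rw [hc1, Cfsg.Agent.Lib.Helper33.cj_def] at hcj
  have h4 : cj (1 : G) ((Q₁ : Subgroup N).map N.subtype) = (Q₁ : Subgroup N).map N.subtype := cj_one _
  change cj (1 : G) ((Q₁ : Subgroup N).map N.subtype) = _ at hcj
  rw [h4] at hcj
  apply Sylow.ext
  exact Subgroup.map_injective (Subgroup.subtype_injective N) hcj

open Cfsg.Agent.Lib.Helper62 in
/-- part 2 -/
theorem part2 [Finite G] (M P N : Subgroup G) {p : ℕ} [Fact p.Prime] (hPM : P ≤ M)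
    (hPp : IsPGroup p P) (hNP : Subgroup.normalizer (P : Set G) = M) [N.Normal]
    (hMN : M ⊓ N = ⊥) (hpN : ¬ p ∣ Nat.card N) (q : ℕ) [Fact q.Prime] :
    ∃! Q : Sylow q ↥N, M ≤ Subgroup.normalizer ((Q : Subgroup ↥N).map N.subtype : Set G) := by
  have hp : p.Prime := Fact.out
  have hPnN : P ≤ Subgroup.normalizer (N : Set G) := by
    rw [Subgroup.normalizer_eq_top_iff.mpr inferInstance]; exact le_top
  have hcop : (Nat.card P).Coprime (Nat.card N) := by
    obtain ⟨a, ha⟩ := (IsPGroup.iff_card (p := p)).mp hPp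
    rw [ha]
    exact Nat.Coprime.pow_left a ((Nat.Prime.coprime_iff_not_dvd hp).mpr hpN)
  have hsolv : Group.IsSolvable P := by
    have := hPp.isNilpotent
    infer_instance
  obtain ⟨Q₀, hQ₀⟩ := Cfsg.Agent.Lib.Helper24.exists_invariant_sylow (p := q) P N hPnN hcop
    (Or.inl hsolv)
  refine ⟨Q₀, ?_, ?_⟩
  · -- M-invariance
    show M ≤ Subgroup.normalizer ((Q₀ : Subgroup ↥N).map N.subtype : Set G)
    intro m hm
    rw [mem_normalizer_iff_cj]
    obtain ⟨hf1, hf2, hf3⟩ := Cfsg.Agent.Lib.Helper24.sylow_map_facts N Q₀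
    set V : Subgroup G := cj m ((Q₀ : Subgroup N).map N.subtype) with hV
    have hmN : cj m N = N := mem_normalizer_iff_cj.mp
      (by rw [Subgroup.normalizer_eq_top_iff.mpr inferInstance]; trivial)
    have hVN : V ≤ N := by
      have := cj_mono m hf1
      rwa [hmN] at this
    have hVq : IsPGroup q V := by
      rw [hV]
      exact hf2.map _
    have hVi : ¬ q ∣ V.relIndex N := by
      have := Cfsg.Agent.Lib.Helper33.relIndex_cj m ((Q₀ : Subgroup N).map N.subtype) N
      rw [Cfsg.Agent.Lib.Helper33.cj_def, Cfsg.Agent.Lib.Helper33.cj_def] at this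
      change (cj m ((Q₀ : Subgroup N).map N.subtype)).relIndex (cj m N) = _ at this
      rw [hmN] at this
      rw [hV, this]
      exact hf3
    obtain ⟨Q', hQ'⟩ := Cfsg.Agent.Lib.Helper24.exists_sylow_map_eq N V hVN hVq hVi
    have hQ'P : P ≤ Subgroup.normalizer (((Q' : Subgroup N).map N.subtype : Subgroup G) : Set G) := by
      rw [hQ']
      exact le_normalizer_cj (hNP ▸ hm) hQ₀
    have := sylow_unique M P N hPM hPp hNP hMN hpN Q' Q₀ hQ'P hQ₀
    rw [this] at hQ'
    exact hQ'.symm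
  · intro Q hQ
    exact sylow_unique M P N hPM hPp hNP hMN hpN Q Q₀ (hPM.trans hQ) hQ₀

/-- part 3 -/
theorem part3 [Finite G] (M N : Subgroup G) [N.Normal] (hMN : M ⊓ N = ⊥)
    (h2 : ∀ q : ℕ, [Fact q.Prime] → ∃! Q : Sylow q ↥N, M ≤ Subgroup.normalizer ((Q : Subgroup ↥N).map N.subtype : Set G))
    (hex : ∃ q r : ℕ, q.Prime ∧ r.Prime ∧ q ≠ r ∧ q ∣ Nat.card N ∧ r ∣ Nat.card N) :
    ¬ IsCoatom M := by
  intro hco
  obtain ⟨q, r, hq, hr, hqr, hqN, hrN⟩ := hex
  -- for a prime dividing |N| we get |G| = q^a * |M| with a ≥ 1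
  have key : ∀ s : ℕ, s.Prime → s ∣ Nat.card N → ∃ a : ℕ, 0 < a ∧ Nat.card G = s ^ a * Nat.card M := by
    intro s hs hsN
    haveI : Fact s.Prime := ⟨hs⟩
    obtain ⟨Q, hQ, -⟩ := h2 s
    set A : Subgroup G := (Q : Subgroup N).map N.subtype with hA
    have hAN : A ≤ N := Subgroup.map_subtype_le _
    have hcardA : Nat.card A = s ^ (Nat.card N).factorization s := by
      rw [hA, Subgroup.card_map_of_injective (Subgroup.subtype_injective N), Q.card_eq_multiplicity]
    have hpos : 0 < (Nat.card N).factorization s := hs.factorization_pos_of_dvd Nat.card_pos.ne' hsN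
    have hMA : M ⊓ A = ⊥ := le_bot_iff.mp (hMN ▸ inf_le_inf_left M hAN)
    have hcard := card_sup_of_disjoint M A hQ hMA
    have hlt : M < M ⊔ A := by
      refine lt_of_le_of_ne le_sup_left ?_
      intro heq
      have hAM : A ≤ M := by rw [heq]; exact le_sup_right
      have : A ≤ M ⊓ A := le_inf hAM le_rfl
      rw [hMA, le_bot_iff] at this
      rw [this, Subgroup.card_bot] at hcardA
      have : 1 < s ^ (Nat.card N).factorization s := Nat.one_lt_pow hpos.ne' hs.one_lt
      omega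
    have htop := hco.2 _ hlt
    rw [htop, Subgroup.card_top, hcardA] at hcard
    exact ⟨_, hpos, hcard⟩
  obtain ⟨a, ha, hGa⟩ := key q hq hqN
  obtain ⟨b, hb, hGb⟩ := key r hr hrN
  have hMpos : 0 < Nat.card M := Nat.card_pos
  have heq : q ^ a = r ^ b := by
    rw [hGa] at hGb
    exact Nat.eq_of_mul_eq_mul_right hMpos hGb
  have h1 : q ∣ r ^ b := by
    rw [← heq]; exact dvd_pow_self q ha.ne'
  have h2' : q ∣ r := hq.dvd_of_dvd_pow h1
  exact hqr ((Nat.prime_dvd_prime_iff_eq hq hr).mp h2')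

/-- Call a proper subgroup M of G primitive when M = N_G(N) for every non-trivial normal subgroup N of M. Let M be a primitive subgroup of the finite group G, p a prime with O_p(M) ≠ 1, and N a normal subgroup of G with M ∩ N = 1. Then p does not divide the order of N; for every prime q there is exactly one Sylow q-subgroup of N normalized by M; and if the order of N has at least two prime divisors then M is not a maximal subgroup of G. -/
theorem result {G : Type*} [Group G] [Finite G] (M : Subgroup G) (hM : M ≠ ⊤) (hprim : ∀ N : Subgroup G, N ≤ M → M ≤ Subgroup.normalizer (N : Set G) → N ≠ ⊥ → Subgroup.normalizer (N : Set G) = M) {p : ℕ} [Fact p.Prime] (hOp : Cfsg.pCore p ↥M ≠ ⊥) (N : Subgroup G) [N.Normal] (hMN : M ⊓ N = ⊥) : ¬ p ∣ Nat.card N ∧ (∀ q : ℕ, [Fact q.Prime] → ∃! Q : Sylow q ↥N, M ≤ Subgroup.normalizer ((Q : Subgroup ↥N).map N.subtype : Set G)) ∧ ((∃ q r : ℕ, q.Prime ∧ r.Prime ∧ q ≠ r ∧ q ∣ Nat.card N ∧ r ∣ Nat.card N) → ¬ IsCoatom M) := by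
  obtain ⟨P, hPM, hPne, hPp, hNP⟩ := key_P M hprim hOp
  have h1 := part1 M P N hPM hPp hNP hMN
  have h2 : ∀ q : ℕ, [Fact q.Prime] → ∃! Q : Sylow q ↥N, M ≤ Subgroup.normalizer ((Q : Subgroup ↥N).map N.subtype : Set G) :=
    fun q _ => part2 M P N hPM hPp hNP hMN h1 q
  exact ⟨h1, h2, part3 M N hMN h2⟩

end Cfsg.Agent.S3749
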