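import Cfsg.Statements.S3750
import Cfsg.Agent.S3748
import Cfsg.Agent.Lib.Helper22.FStar
import Cfsg.Agent.Lib.Helper10.Nilpotent
import Cfsg.Agent.Lib.Helper21.Layer

set_option autoImplicit false
open Cfsg

namespace Cfsg.Agent.S3750

open Cfsg.Agent.Lib.Helper62

/-- Call a proper subgroup M of G primitive when M = N_G(N) for every non-trivial normal subgroup N of M. Let M be a primitive subgroup of the finite group G and N a normal subgroup of G with M ∩ F*(N) ≠ 1. Then F(G) = 1 and F*(N) = F*(G) = E(G); in particular every minimal normal subgroup of G is contained in N. -/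
theorem result {G : Type*} [Group G] [Finite G] (M : Subgroup G) (hM : M ≠ ⊤) (hprim : ∀ N : Subgroup G, N ≤ M → M ≤ Subgroup.normalizer (N : Set G) → N ≠ ⊥ → Subgroup.normalizer (N : Set G) = M) (N : Subgroup G) [N.Normal] (hMF : M ⊓ (Cfsg.generalizedFittingSubgroup ↥N).map N.subtype ≠ ⊥) : Cfsg.fittingSubgroup G = ⊥ ∧ (Cfsg.generalizedFittingSubgroup ↥N).map N.subtype = Cfsg.generalizedFittingSubgroup G ∧ Cfsg.generalizedFittingSubgroup G = Cfsg.layer G ∧ ∀ K : Subgroup G, K.Normal → K ≠ ⊥ → (∀ K' : Subgroup G, K'.Normal → K' ≤ K → K' = ⊥ ∨ K' = K) → K ≤ N := by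

  classical
  set FN : Subgroup G := (Cfsg.generalizedFittingSubgroup ↥N).map N.subtype with hFN
  set EN : Subgroup G := (Cfsg.layer ↥N).map N.subtype with hEN
  set FNil : Subgroup G := (Cfsg.fittingSubgroup ↥N).map N.subtype with hFNil
  have hFNsup : FN = EN ⊔ FNil := by
    rw [hFN, hEN, hFNil]
    unfold Cfsg.generalizedFittingSubgroup
    rw [Subgroup.map_sup]
  have hFNN : FN ≤ N := Subgroup.map_subtype_le _
  have hENlayer : EN ≤ Cfsg.layer G :=
    Cfsg.Agent.Lib.Helper22.layer_map_subtype_le (inferInstance : N.Normal).isSubnormal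
  have hFNilF : FNil ≤ Cfsg.fittingSubgroup G :=
    Cfsg.Agent.Lib.Helper22.fitting_map_subtype_le_of_normal N
  have hFNnormal : FN.Normal := ConjAct.normal_of_characteristic_of_normal
  set L : Subgroup G := M ⊓ FN with hL
  have hLM : L ≤ M := inf_le_left
  have hML : M ≤ Subgroup.normalizer (L : Set G) := by
    apply le_normalizer_inf Subgroup.le_normalizer
    rw [Subgroup.normalizer_eq_top_iff.mpr hFNnormal]
    exact le_top
  have hNL : Subgroup.normalizer (L : Set G) = M := hprim L hLM hML hMF
  have hCL : Subgroup.centralizer (L : Set G) ≤ M := by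
    rw [← hNL]
    exact Subgroup.centralizer_le_normalizer _
  have hCN : Subgroup.centralizer (N : Set G) ≤ M :=
    (Subgroup.centralizer_le (inf_le_right.trans hFNN)).trans hCL
  obtain ⟨hclaim, hMF0⟩ := Cfsg.Agent.S3748.result M hM hprim
  -- (B) F(G) = ⊥
  have hF : Cfsg.fittingSubgroup G = ⊥ := by
    by_contra hFne
    have hnil : Group.IsNilpotent (Cfsg.fittingSubgroup G) :=
      Cfsg.Agent.Lib.Helper22.fittingSubgroup_isNilpotent
    set F := Cfsg.fittingSubgroup G with hFdef
    set ZF : Subgroup G := (Subgroup.center ↥F).map F.subtype with hZF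
    have hZFF : ZF ≤ F := Subgroup.map_subtype_le _
    have hZFmem : ∀ z : G, z ∈ ZF ↔ z ∈ F ∧ ∀ k ∈ F, k * z = z * k :=
      fun z => Cfsg.Agent.Lib.Helper21.mem_map_center_iff
    have hFcent : F ≤ Subgroup.centralizer (ZF : Set G) := by
      intro f hf
      rw [Subgroup.mem_centralizer_iff]
      intro z hz
      exact (((hZFmem z).mp hz).2 f hf).symm
    have hlayercent : Cfsg.layer G ≤ Subgroup.centralizer (ZF : Set G) :=
      (Cfsg.Agent.Lib.Helper22.layer_le_centralizer_fitting G).trans (Subgroup.centralizer_le hZFF)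
    have h1 : FN ≤ Subgroup.centralizer (ZF : Set G) := by
      rw [hFNsup]
      exact sup_le (hENlayer.trans hlayercent) (hFNilF.trans hFcent)
    have h2 : ZF ≤ Subgroup.centralizer (L : Set G) := by
      rw [Subgroup.le_centralizer_iff]
      exact inf_le_right.trans h1
    have h3 : ZF ≤ M ⊓ F := le_inf (h2.trans hCL) hZFF
    rw [hMF0, le_bot_iff] at h3
    have h4 : Subgroup.center ↥F = ⊥ :=
      (Subgroup.map_eq_bot_iff_of_injective _ (Subgroup.subtype_injective F)).mp h3
    have hFtop : (⊤ : Subgroup ↥F) ≠ ⊥ := by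
      intro h
      apply hFne
      rw [eq_bot_iff]
      intro x hx
      have : (⟨x, hx⟩ : ↥F) ∈ (⊤ : Subgroup ↥F) := trivial
      rw [h, Subgroup.mem_bot] at this
      rw [Subgroup.mem_bot]
      exact congrArg Subtype.val this
    have h5 := Cfsg.Agent.Lib.Helper10.normal_inf_center_ne_bot (⊤ : Subgroup ↥F) hFtop
    rw [top_inf_eq] at h5
    exact h5 h4
  -- (C)
  have hFstar : Cfsg.generalizedFittingSubgroup G = Cfsg.layer G := by
    unfold Cfsg.generalizedFittingSubgroup
    rw [hF, sup_bot_eq]
  have hcompN : ∀ K : Subgroup G, Cfsg.IsComponent K → K ≤ N := by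
    intro K hK
    rcases Cfsg.Agent.Lib.Helper21.component_le_or_commutes_normal hK (inferInstance : N.Normal) with h | h
    · exact h
    · exfalso
      rw [Subgroup.commutator_eq_bot_iff_le_centralizer, Subgroup.le_centralizer_iff] at h
      exact Cfsg.Agent.Lib.Helper22.component_ne_bot hK (hclaim K hK.1 (h.trans hCN))
  have hlayerEN : Cfsg.layer G ≤ EN := by
    apply sSup_le
    intro K hK
    have hKN := hcompN K hK
    have h1 := Cfsg.Agent.Lib.Helper21.component_subgroupOf hK hKN
    have h2 : K.subgroupOf N ≤ Cfsg.layer ↥N := Cfsg.Agent.Lib.Helper22.component_le_layer h1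
    have h3 := Subgroup.map_mono (f := N.subtype) h2
    rwa [Subgroup.map_subgroupOf_eq_of_le hKN] at h3
  have hFNeq : FN = Cfsg.layer G := by
    rw [hFNsup]
    apply le_antisymm
    · apply sup_le hENlayer
      exact (hFNilF.trans (hF ▸ le_rfl)).trans bot_le
    · exact hlayerEN.trans le_sup_left
  refine ⟨hF, ?_, hFstar, ?_⟩
  · rw [hFstar]; exact hFNeq
  · intro K hKn hK0 hKmin
    have hKNn : (K ⊓ N).Normal := Subgroup.normal_inf_normal K N
    rcases hKmin (K ⊓ N) hKNn inf_le_left with h | h
    · exfalso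
      have hKnorm : K ≤ Subgroup.normalizer (N : Set G) := by
        rw [Subgroup.normalizer_eq_top_iff.mpr inferInstance]; exact le_top
      have hNnorm : N ≤ Subgroup.normalizer (K : Set G) := by
        rw [Subgroup.normalizer_eq_top_iff.mpr hKn]; exact le_top
      have hcomm := commute_of_inf_eq_bot hKnorm hNnorm h
      have hKC : K ≤ Subgroup.centralizer (N : Set G) := by
        intro k hk
        rw [Subgroup.mem_centralizer_iff]
        intro n hn
        exact (hcomm k hk n hn).symm
      exact hK0 (hclaim K hKn.isSubnormal (hKC.trans hCN))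
    · exact inf_eq_left.mp h

end Cfsg.Agent.S3750
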