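import Cfsg.Statements.S3751
import Cfsg.Agent.Lib.Helper45.VIter
import Cfsg.Agent.Lib.Helper22.CharP
import Cfsg.Agent.Lib.Helper62.Conj

set_option autoImplicit false
open Cfsg

namespace Cfsg.Agent.S3751

open Cfsg.Agent.Lib.Helper62 Cfsg.Agent.Lib.Helper45

section aux
variable {G : Type*} [Group G]

/-- `p`-local subgroups. -/
def PL (p : ℕ) (M : Subgroup G) : Prop :=
  ∃ T : Subgroup G, IsPGroup p T ∧ T ≠ ⊥ ∧ M = Subgroup.normalizer (T : Set G)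

/-- maximal `p`-local subgroups. -/
def MaxL (p : ℕ) (M : Subgroup G) : Prop :=
  PL p M ∧ ∀ L : Subgroup G, PL p L → M ≤ L → L = M

/-- `T` is a maximal `p`-subgroup of `M`. -/
def SylIn (p : ℕ) (T M : Subgroup G) : Prop :=
  ∀ P : Subgroup G, IsPGroup p P → T ≤ P → P ≤ M → P = T

theorem cj_normalizer (g : G) (T : Subgroup G) :
    cj g (Subgroup.normalizer (T : Set G)) = Subgroup.normalizer ((cj g T : Subgroup G) : Set G) := by
  ext y
  rw [mem_cj, mem_normalizer_iff_cj, mem_normalizer_iff_cj]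
  constructor
  · intro h
    have : cj (g * (g⁻¹ * y * g)) T = cj g T := by rw [cj_mul, h]
    rw [← cj_mul]
    convert this using 2
    group
  · intro h
    have : cj (g⁻¹ * y * g) T = cj g⁻¹ (cj y (cj g T)) := by
      rw [← cj_mul, ← cj_mul]
    rw [this, h, cj_inv_cj]

theorem isPGroup_cj {p : ℕ} (g : G) {T : Subgroup G} (hT : IsPGroup p T) : IsPGroup p (cj g T) :=
  hT.map _

theorem PL.conj {p : ℕ} {M : Subgroup G} (h : PL p M) (g : G) : PL p (cj g M) := by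
  obtain ⟨T, hT, hT1, rfl⟩ := h
  exact ⟨Lib.Helper62.cj g T, isPGroup_cj g hT, fun h => hT1 (cj_eq_bot_iff.mp h), cj_normalizer g T⟩

theorem MaxL.conj {p : ℕ} {M : Subgroup G} (h : MaxL p M) (g : G) : MaxL p (cj g M) := by
  refine ⟨h.1.conj g, fun L hL hML => ?_⟩
  have h1 : M ≤ Lib.Helper62.cj g⁻¹ L := cj_le_iff.mp hML
  have h2 := h.2 _ (hL.conj g⁻¹) h1
  rw [← h2, cj_cj_inv]

theorem le_pCoreOf {p : ℕ} {K M : Subgroup G} (hK : IsPGroup p K) (hKM : K ≤ M)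
    (hn : M ≤ Subgroup.normalizer (K : Set G)) : K ≤ pCoreOf p M := by
  intro x hx
  have := Cfsg.Agent.Lib.Helper22.subgroupOf_le_pCore M K hK hn
  have hx' : (⟨x, hKM hx⟩ : ↥M) ∈ K.subgroupOf M := Subgroup.mem_subgroupOf.mpr hx
  exact ⟨⟨x, hKM hx⟩, this hx', rfl⟩

theorem MaxL.core {p : ℕ} [Fact p.Prime] {M : Subgroup G} (h : MaxL p M) :
    pCoreOf p M ≠ ⊥ ∧ Subgroup.normalizer (pCoreOf p M : Set G) = M := by
  obtain ⟨⟨T, hT, hT1, hM⟩, hmax⟩ := h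
  have hTM : T ≤ M := hM ▸ Subgroup.le_normalizer
  have hTQ : T ≤ pCoreOf p M := le_pCoreOf hT hTM (hM ▸ le_rfl)
  have hne : pCoreOf p M ≠ ⊥ := fun h0 => hT1 (le_bot_iff.mp (h0 ▸ hTQ))
  exact ⟨hne, hmax _ ⟨_, isPGroup_pCoreOf p M, hne, rfl⟩ (le_normalizer_pCoreOf p M)⟩

theorem MaxL.mem_of_cj_eq {p : ℕ} [Fact p.Prime] {M : Subgroup G} (h : MaxL p M) {g : G}
    (hg : cj g M = M) : g ∈ M := by
  have h1 := h.core.2
  have h2 : Lib.Helper62.cj g (pCoreOf p M) = pCoreOf p M := by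
    have := pCoreOf_map (p := p) (MulAut.conj g) M
    have e : (Subgroup.map (MulAut.conj g).toMonoidHom M) = M := hg
    rw [e] at this
    exact this.symm
  rw [← h1]
  exact mem_normalizer_iff_cj.mpr h2

theorem exists_maxL [Finite G] {p : ℕ} {L : Subgroup G} (hL : PL p L) : ∃ M, MaxL p M ∧ L ≤ M := by
  obtain ⟨M, hLM, hM⟩ := (Set.toFinite {M : Subgroup G | PL p M}).exists_le_maximal hL
  refine ⟨M, ⟨hM.prop, fun N hN hMN => le_antisymm (hM.le_of_ge hN hMN) hMN⟩, hLM⟩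

end aux

section main
variable {G : Type*} [Group G] [Finite G] {p : ℕ} [Fact p.Prime]
set_option linter.unusedSectionVars false

theorem MaxL.charp (hloc : Cfsg.IsOfLocalCharacteristic p G) {M : Subgroup G} (h : MaxL p M) :
    Subgroup.centralizer (Cfsg.pCore p ↥M : Set ↥M) ≤ Cfsg.pCore p ↥M := by
  obtain ⟨⟨T, hT, hT1, rfl⟩, -⟩ := h
  exact hloc.2 T hT hT1

theorem normalizer_eq_of_normal (hloc : Cfsg.IsOfLocalCharacteristic p G) {M A : Subgroup G}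
    (h : MaxL p M) (hA1 : A ≠ ⊥) (hAM : A ≤ M) (hn : M ≤ Subgroup.normalizer (A : Set G)) :
    Subgroup.normalizer (A : Set G) = M := by
  have hc : CharPIn p M := charPIn_of_centralizer_le p M (h.charp hloc)
  have hnorm : Subgroup.normalizer (A : Set G) ≤ Subgroup.normalizer (pCoreOf p A : Set G) := by
    intro g hg
    rw [mem_normalizer_iff_cj] at hg ⊢
    have := pCoreOf_map (p := p) (MulAut.conj g) A
    have e : Subgroup.map (MulAut.conj g).toMonoidHom A = A := hg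
    rw [e] at this
    exact this.symm
  by_cases h0 : pCoreOf p A = ⊥
  · exfalso
    have hQn := le_normalizer_pCoreOf p M
    have h1 : A ⊓ pCoreOf p M ≤ pCoreOf p A := by
      apply le_pCoreOf ((isPGroup_pCoreOf p M).to_le inf_le_right) inf_le_left
      exact le_normalizer_inf (hAM.trans hn) (hAM.trans hQn)
    rw [h0] at h1
    have h2 : A ≤ M ⊓ Subgroup.centralizer (pCoreOf p M : Set G) := by
      refine le_inf hAM ?_
      intro a ha
      rw [Subgroup.mem_centralizer_iff]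
      intro q hq
      have hc1 : a * q * a⁻¹ * q⁻¹ ∈ A ⊓ pCoreOf p M := by
        constructor
        · have hqn : q ∈ Subgroup.normalizer (A : Set G) := hn (pCoreOf_le p M hq)
          have h3 : q * a⁻¹ * q⁻¹ ∈ A :=
            (Subgroup.mem_normalizer_iff.mp hqn a⁻¹).mp (A.inv_mem ha)
          have h4 := A.mul_mem ha h3
          have e : a * q * a⁻¹ * q⁻¹ = a * (q * a⁻¹ * q⁻¹) := by group
          rw [e]; exact h4
        · have han : a ∈ Subgroup.normalizer (pCoreOf p M : Set G) := hQn (hAM ha)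
          have h3 : a * q * a⁻¹ ∈ pCoreOf p M := (Subgroup.mem_normalizer_iff.mp han q).mp hq
          exact (pCoreOf p M).mul_mem h3 ((pCoreOf p M).inv_mem hq)
      have h5 := h1 hc1
      rw [Subgroup.mem_bot] at h5
      have e : q * a = (a * q * a⁻¹ * q⁻¹)⁻¹ * (a * q) := by group
      rw [e, h5]; simp
    have h3 : A ≤ pCoreOf p M := h2.trans hc
    have h4 : A ≤ ⊥ := (le_inf le_rfl h3).trans h1
    exact hA1 (le_bot_iff.mp h4)
  · have hPL : PL p (Subgroup.normalizer (pCoreOf p A : Set G)) :=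
      ⟨_, isPGroup_pCoreOf p A, h0, rfl⟩
    have h6 := h.2 _ hPL (hn.trans hnorm)
    exact le_antisymm (h6 ▸ hnorm) hn

theorem pCoreOf_le_of_sylIn {T M : Subgroup G} (hT : IsPGroup p T) (hTM : T ≤ M)
    (hs : SylIn p T M) : pCoreOf p M ≤ T := by
  obtain ⟨S, hS⟩ := (hT.comap_subtype (K := M)).exists_le_sylow
  have h1 : (S : Subgroup M).map M.subtype = T := by
    apply hs
    · exact S.2.map _
    · intro x hx
      exact ⟨⟨x, hTM hx⟩, hS (Subgroup.mem_subgroupOf.mpr hx), rfl⟩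
    · rintro _ ⟨y, -, rfl⟩
      exact y.2
  rw [← h1]
  exact pCoreOf_le_sylow S

theorem exists_normalizing_of_lt {T P : Subgroup G} (hP : IsPGroup p P) (hTP : T < P) :
    ∃ x ∈ P, x ∉ T ∧ x ∈ Subgroup.normalizer (T : Set G) := by
  have : Group.IsNilpotent P := hP.isNilpotent
  have hnc := Group.normalizerCondition_of_isNilpotent (G := P)
  have hlt : T.subgroupOf P < ⊤ := by
    rw [lt_top_iff_ne_top]
    intro h
    rw [Subgroup.subgroupOf_eq_top] at h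
    exact (not_le_of_gt hTP) h
  obtain ⟨y, hyN, hyT⟩ := SetLike.exists_of_lt (hnc _ hlt)
  refine ⟨y.1, y.2, fun h => hyT (Subgroup.mem_subgroupOf.mpr h), ?_⟩
  rw [Subgroup.mem_normalizer_iff]
  intro t
  constructor
  · intro ht
    have := (Subgroup.mem_normalizer_iff.mp hyN ⟨t, hTP.le ht⟩).mp (Subgroup.mem_subgroupOf.mpr ht)
    exact Subgroup.mem_subgroupOf.mp this
  · intro ht
    have htP : t ∈ P := by
      have := P.mul_mem (P.mul_mem (P.inv_mem y.2) (hTP.le ht)) y.2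
      have e : t = (y.1)⁻¹ * (y.1 * t * (y.1)⁻¹) * y.1 := by group
      rw [e]; exact this
    have := (Subgroup.mem_normalizer_iff.mp hyN ⟨t, htP⟩).mpr (Subgroup.mem_subgroupOf.mpr ht)
    exact Subgroup.mem_subgroupOf.mp this

/-- The shape of the first alternative. -/
def Concl (p : ℕ) (G : Type*) [Group G] : Prop :=
  ∃ M₁ M₂ : Subgroup G, M₁ ≠ M₂ ∧ (∀ A : Subgroup G, A ≠ ⊥ → A ≤ M₁ ⊓ M₂ → (M₁ ≤ Subgroup.normalizer (A : Set G) → M₂ ⊓ Subgroup.normalizer (A : Set G) = M₁ ⊓ M₂) ∧ (M₂ ≤ Subgroup.normalizer (A : Set G) → M₁ ⊓ Subgroup.normalizer (A : Set G) = M₁ ⊓ M₂)) ∧ Subgroup.centralizer (Cfsg.pCore p ↥M₁ : Set ↥M₁) ≤ Cfsg.pCore p ↥M₁ ∧ Subgroup.centralizer (Cfsg.pCore p ↥M₂ : Set ↥M₂) ≤ Cfsg.pCore p ↥M₂ ∧ (Cfsg.pCore p ↥M₁).map M₁.subtype ⊔ (Cfsg.pCore p ↥M₂).map M₂.subtype ≤ M₁ ⊓ M₂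

theorem good_of_sylIn_both (hloc : Cfsg.IsOfLocalCharacteristic p G) {M₁ M₂ T : Subgroup G}
    (h₁ : MaxL p M₁) (h₂ : MaxL p M₂) (hne : M₁ ≠ M₂) (hT : IsPGroup p T) (hT₁ : T ≤ M₁)
    (hT₂ : T ≤ M₂) (hs₁ : SylIn p T M₁) (hs₂ : SylIn p T M₂) : Concl p G := by
  refine ⟨M₁, M₂, hne, ?_, h₁.charp hloc, h₂.charp hloc, ?_⟩
  · intro A hA1 hA
    constructor
    · intro hn
      rw [normalizer_eq_of_normal hloc h₁ hA1 (hA.trans inf_le_left) hn, inf_comm]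
    · intro hn
      rw [normalizer_eq_of_normal hloc h₂ hA1 (hA.trans inf_le_right) hn]
  · show pCoreOf p M₁ ⊔ pCoreOf p M₂ ≤ M₁ ⊓ M₂
    exact sup_le ((pCoreOf_le_of_sylIn hT hT₁ hs₁).trans (le_inf hT₁ hT₂))
      ((pCoreOf_le_of_sylIn hT hT₂ hs₂).trans (le_inf hT₁ hT₂))

theorem card_lt_of_lt' {A B : Subgroup G} (h : A < B) : Nat.card A < Nat.card B := by
  rcases lt_or_ge (Nat.card A) (Nat.card B) with h1 | h1
  · exact h1
  · exact absurd (Subgroup.eq_of_le_of_card_ge h.le h1) h.ne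

/-- one step: if `T` is not Sylow in `M₁`. -/
theorem step (hloc : Cfsg.IsOfLocalCharacteristic p G) {M₁ M₂ T : Subgroup G}
    (h₁ : MaxL p M₁) (h₂ : MaxL p M₂) (hne : M₁ ≠ M₂) (hT : IsPGroup p T) (hT1 : T ≠ ⊥)
    (hT₁ : T ≤ M₁) (hT₂ : T ≤ M₂)
    (hmax : ∀ P : Subgroup G, IsPGroup p P → P ≠ ⊥ →
      (∃ L₁ L₂ : Subgroup G, MaxL p L₁ ∧ MaxL p L₂ ∧ L₁ ≠ L₂ ∧ P ≤ L₁ ⊓ L₂) →
      Nat.card P ≤ Nat.card T)
    (ns : ¬ SylIn p T M₁) : Concl p G := by
  -- Claim A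
  have claimA : ∀ P : Subgroup G, IsPGroup p P → T < P → ∀ L₁ L₂ : Subgroup G, MaxL p L₁ →
      MaxL p L₂ → P ≤ L₁ → P ≤ L₂ → L₁ = L₂ := by
    intro P hP hTP L₁ L₂ hL₁ hL₂ hP₁ hP₂
    by_contra hne'
    have hP1 : P ≠ ⊥ := by
      rintro rfl
      exact hT1 (le_bot_iff.mp hTP.le)
    have := hmax P hP hP1 ⟨L₁, L₂, hL₁, hL₂, hne', le_inf hP₁ hP₂⟩
    exact absurd (card_lt_of_lt' hTP) (not_lt.mpr this)
  -- Claim B
  have claimB : ∀ M : Subgroup G, MaxL p M → T ≤ M → ¬ SylIn p T M →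
      Subgroup.normalizer (T : Set G) ≤ M ∧ ∃ x ∈ M, x ∉ T ∧ x ∈ Subgroup.normalizer (T : Set G) ∧
        IsPGroup p ↥(T ⊔ Subgroup.zpowers x) := by
    intro M hM hTM hns
    unfold SylIn at hns
    push Not at hns
    obtain ⟨P, hP, hTP, hPM, hPT⟩ := hns
    have hlt : T < P := lt_of_le_of_ne hTP (Ne.symm hPT)
    obtain ⟨x, hxP, hxT, hxN⟩ := exists_normalizing_of_lt hP hlt
    have hP'le : T ⊔ Subgroup.zpowers x ≤ P := sup_le hTP (by simpa using hxP)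
    have hP' : IsPGroup p ↥(T ⊔ Subgroup.zpowers x) := hP.to_le hP'le
    have hltP' : T < T ⊔ Subgroup.zpowers x := by
      refine lt_of_le_of_ne le_sup_left ?_
      intro e
      apply hxT
      rw [e]
      exact (le_sup_right : Subgroup.zpowers x ≤ _) (Subgroup.mem_zpowers x)
    obtain ⟨L, hL, hNL⟩ := exists_maxL (p := p) ⟨T, hT, hT1, rfl⟩
    have hP'N : T ⊔ Subgroup.zpowers x ≤ Subgroup.normalizer (T : Set G) :=
      sup_le Subgroup.le_normalizer (by simpa using hxN)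
    have hLM : L = M := claimA _ hP' hltP' L M hL hM (hP'N.trans hNL) (hP'le.trans hPM)
    exact ⟨hLM ▸ hNL, x, hPM hxP, hxT, hxN, hP'⟩
  obtain ⟨hN₁, x, hxM₁, hxT, hxN, hP'⟩ := claimB M₁ h₁ hT₁ ns
  have hltP' : T < T ⊔ Subgroup.zpowers x := by
    refine lt_of_le_of_ne le_sup_left ?_
    intro e
    apply hxT
    rw [e]
    exact (le_sup_right : Subgroup.zpowers x ≤ _) (Subgroup.mem_zpowers x)
  have hP'N : T ⊔ Subgroup.zpowers x ≤ Subgroup.normalizer (T : Set G) :=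
    sup_le Subgroup.le_normalizer (by simpa using hxN)
  by_cases s₂ : SylIn p T M₂
  · have hxM₂ : x ∉ M₂ := by
      intro hx
      have : T ⊔ Subgroup.zpowers x = T :=
        s₂ _ hP' le_sup_left (sup_le hT₂ (by simpa using hx))
      exact hltP'.ne this.symm
    have hcjT : Lib.Helper62.cj x T = T := mem_normalizer_iff_cj.mp hxN
    have hM₂' : MaxL p (Lib.Helper62.cj x M₂) := h₂.conj x
    have hne' : M₂ ≠ Lib.Helper62.cj x M₂ := fun e => hxM₂ (h₂.mem_of_cj_eq e.symm)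
    have hT₂' : T ≤ Lib.Helper62.cj x M₂ := by
      rw [← hcjT]
      exact cj_mono x hT₂
    have hs₂' : SylIn p T (Lib.Helper62.cj x M₂) := by
      intro P hP hTP hPM
      have h1 : Lib.Helper62.cj x⁻¹ P = T := by
        apply s₂ _ (isPGroup_cj x⁻¹ hP)
        · have : Lib.Helper62.cj x⁻¹ T = T := by
            conv_lhs => rw [← hcjT]
            exact cj_inv_cj x T
          rw [← this]
          exact cj_mono x⁻¹ hTP
        · have := cj_mono x⁻¹ hPM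
          rwa [cj_inv_cj] at this
      have h2 : P = Lib.Helper62.cj x (Lib.Helper62.cj x⁻¹ P) := (cj_cj_inv x P).symm
      rw [h2, h1, hcjT]
    exact good_of_sylIn_both hloc h₂ hM₂' hne' hT hT₂ hT₂' s₂ hs₂'
  · exfalso
    obtain ⟨hN₂, -⟩ := claimB M₂ h₂ hT₂ s₂
    have hP1 : T ⊔ Subgroup.zpowers x ≠ ⊥ := by
      intro e
      rw [e] at hltP'
      exact not_lt_bot hltP'
    have := hmax _ hP' hP1 ⟨M₁, M₂, h₁, h₂, hne, le_inf (hP'N.trans hN₁) (hP'N.trans hN₂)⟩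
    exact absurd (card_lt_of_lt' hltP') (not_lt.mpr this)

end main

/-- Two distinct subgroups M₁, M₂ of G form a primitive pair when, for {i, j} = {1, 2}, every non-trivial normal subgroup A of M_i contained in M₁ ∩ M₂ satisfies N_{M_j}(A) = M₁ ∩ M₂; the pair has characteristic p when moreover C_{M_i}(O_p(M_i)) ≤ O_p(M_i) for both i and O_p(M₁)O_p(M₂) ≤ M₁ ∩ M₂. Let G be a finite group, p a prime dividing its order, with O_p(G) = 1 and every p-local subgroup of characteristic p. Then either G has a primitive pair of characteristic p, or every maximal p-local subgroup M of G is strongly p-embedded in G: M is a proper subgroup, p divides its order, and for every g ∉ M the order of M ∩ gMg⁻¹ is prime to p. -/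
theorem result {G : Type*} [Group G] [Finite G] {p : ℕ} [Fact p.Prime] (hloc : Cfsg.IsOfLocalCharacteristic p G) (hOp : Cfsg.pCore p G = ⊥) : (∃ M₁ M₂ : Subgroup G, M₁ ≠ M₂ ∧ (∀ A : Subgroup G, A ≠ ⊥ → A ≤ M₁ ⊓ M₂ → (M₁ ≤ Subgroup.normalizer (A : Set G) → M₂ ⊓ Subgroup.normalizer (A : Set G) = M₁ ⊓ M₂) ∧ (M₂ ≤ Subgroup.normalizer (A : Set G) → M₁ ⊓ Subgroup.normalizer (A : Set G) = M₁ ⊓ M₂)) ∧ Subgroup.centralizer (Cfsg.pCore p ↥M₁ : Set ↥M₁) ≤ Cfsg.pCore p ↥M₁ ∧ Subgroup.centralizer (Cfsg.pCore p ↥M₂ : Set ↥M₂) ≤ Cfsg.pCore p ↥M₂ ∧ (Cfsg.pCore p ↥M₁).map M₁.subtype ⊔ (Cfsg.pCore p ↥M₂).map M₂.subtype ≤ M₁ ⊓ M₂) ∨ (∀ M : Subgroup G, (∃ T : Subgroup G, IsPGroup p T ∧ T ≠ ⊥ ∧ M = Subgroup.normalizer (T : Set G)) → (∀ L : Subgroup G, (∃ T : Subgroup G, IsPGroup p T ∧ T ≠ ⊥ ∧ L = Subgroup.normalizer (T : Set G)) → M ≤ L → L = M) → M ≠ ⊤ ∧ p ∣ Nat.card M ∧ ∀ g : G, g ∉ M → ¬ p ∣ Nat.card ↥(M ⊓ M.map (MulAut.conj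 g).toMonoidHom)) := by
  by_cases h : ∃ M₁ M₂ : Subgroup G, MaxL p M₁ ∧ MaxL p M₂ ∧ M₁ ≠ M₂ ∧ p ∣ Nat.card ↥(M₁ ⊓ M₂)
  · left
    let 𝒯 : Set (Subgroup G) := {T | IsPGroup p T ∧ T ≠ ⊥ ∧
      ∃ M₁ M₂ : Subgroup G, MaxL p M₁ ∧ MaxL p M₂ ∧ M₁ ≠ M₂ ∧ T ≤ M₁ ⊓ M₂}
    have hne : 𝒯.Nonempty := by
      obtain ⟨M₁, M₂, h₁, h₂, hne, hdvd⟩ := h
      obtain ⟨x, hx⟩ := exists_prime_orderOf_dvd_card' p hdvd
      refine ⟨Subgroup.zpowers (x : G), ?_, ?_, M₁, M₂, h₁, h₂, hne, ?_⟩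
      · apply IsPGroup.of_card (n := 1)
        rw [Nat.card_zpowers, Subgroup.orderOf_coe, hx, pow_one]
      · intro e
        rw [Subgroup.zpowers_eq_bot] at e
        have : x = 1 := Subtype.ext e
        rw [this, orderOf_one] at hx
        exact (Fact.out : p.Prime).one_lt.ne hx
      · rw [Subgroup.zpowers_le]
        exact x.2
    obtain ⟨T, hT𝒯, hTmax⟩ := Set.exists_max_image 𝒯 (fun T => Nat.card T) (Set.toFinite 𝒯) hne
    obtain ⟨hTp, hT1, M₁, M₂, h₁, h₂, hne12, hTle⟩ := hT𝒯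
    have hmax : ∀ P : Subgroup G, IsPGroup p P → P ≠ ⊥ →
        (∃ L₁ L₂ : Subgroup G, MaxL p L₁ ∧ MaxL p L₂ ∧ L₁ ≠ L₂ ∧ P ≤ L₁ ⊓ L₂) →
        Nat.card P ≤ Nat.card T := fun P hP hP1 hex => hTmax P ⟨hP, hP1, hex⟩
    have hT₁ : T ≤ M₁ := hTle.trans inf_le_left
    have hT₂ : T ≤ M₂ := hTle.trans inf_le_right
    by_cases s₁ : SylIn p T M₁
    · by_cases s₂ : SylIn p T M₂
      · exact good_of_sylIn_both hloc h₁ h₂ hne12 hTp hT₁ hT₂ s₁ s₂
      · exact step hloc h₂ h₁ hne12.symm hTp hT1 hT₂ hT₁ hmax s₂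
    · exact step hloc h₁ h₂ hne12 hTp hT1 hT₁ hT₂ hmax s₁
  · right
    intro M hPL hmaxM
    have hM : MaxL p M := ⟨hPL, hmaxM⟩
    obtain ⟨T, hT, hT1, hMT⟩ := hPL
    have hTM : T ≤ M := hMT ▸ Subgroup.le_normalizer
    refine ⟨?_, ?_, ?_⟩
    · intro htop
      have hTn : T.Normal := by
        rw [← Subgroup.normalizer_eq_top_iff, ← hMT, htop]
      have := Cfsg.Agent.Lib.Helper22.le_pCore' hTn hT
      rw [hOp] at this
      exact hT1 (le_bot_iff.mp this)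
    · have h1 : p ∣ Nat.card T := by
        rcases hT.card_eq_or_dvd with h2 | h2
        · exact absurd (Subgroup.card_eq_one.mp h2) hT1
        · exact h2
      exact h1.trans (Subgroup.card_dvd_of_le hTM)
    · intro g hg hdvd
      apply h
      refine ⟨M, Lib.Helper62.cj g M, hM, hM.conj g, ?_, hdvd⟩
      intro e
      exact hg (hM.mem_of_cj_eq e.symm)

end Cfsg.Agent.S3751
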