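import Cfsg.Statements.S3752
import Cfsg.Agent.Lib.Helper62.SnIn
import Cfsg.Agent.Lib.Helper62.MinNormal
import Cfsg.Agent.Lib.Helper21.Layer
import Cfsg.Agent.Lib.Helper22.CharP
import Cfsg.Agent.Lib.Helper30.PPrimeCore

set_option autoImplicit false
open Cfsg

namespace Cfsg.Agent.S3752

open Cfsg.Agent.Lib.Helper62 Cfsg.Agent.Lib.Helper45
open scoped commutatorElement

set_option linter.unusedSectionVars false

section part1
variable {G : Type*} [Group G] [Finite G]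

/-- ambient `F*(M)`. -/
abbrev FS (M : Subgroup G) : Subgroup G := (Cfsg.generalizedFittingSubgroup ↥M).map M.subtype
/-- ambient `E(M)`. -/
abbrev EE (M : Subgroup G) : Subgroup G := (Cfsg.layer ↥M).map M.subtype
/-- ambient `F(M)`. -/
abbrev FF (M : Subgroup G) : Subgroup G := (Cfsg.fittingSubgroup ↥M).map M.subtype

theorem le_normalizer_FS (M : Subgroup G) : M ≤ Subgroup.normalizer (FS M : Set G) :=
  haveI := Cfsg.Agent.Lib.Helper22.generalizedFittingSubgroup_normal ↥M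
  le_normalizer_map_subtype_of_normal _

theorem le_normalizer_EE (M : Subgroup G) : M ≤ Subgroup.normalizer (EE M : Set G) :=
  haveI := Cfsg.Agent.Lib.Helper22.layer_normal ↥M
  le_normalizer_map_subtype_of_normal _

theorem inf_centralizer_FS_le (M : Subgroup G) :
    M ⊓ Subgroup.centralizer (FS M : Set G) ≤ FS M := by
  rintro x ⟨hxM, hxC⟩
  have h1 : (⟨x, hxM⟩ : ↥M) ∈ Subgroup.centralizer
      (Cfsg.generalizedFittingSubgroup ↥M : Set ↥M) := by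
    rw [Subgroup.mem_centralizer_iff]
    intro y hy
    apply Subtype.ext
    have := Subgroup.mem_centralizer_iff.mp hxC (y : G) ⟨y, hy, rfl⟩
    simpa using this
  exact ⟨⟨x, hxM⟩, Cfsg.Agent.Lib.Helper22.centralizer_generalizedFitting_le ↥M h1, rfl⟩

theorem comp_le (M₁ M₂ : Subgroup G) (h₁ : FS M₁ ≤ M₂) (h₂ : FS M₂ ≤ M₁)
    (K : Subgroup ↥M₁) (hK : Cfsg.IsComponent K) : K.map M₁.subtype ≤ EE M₂ := by
  set K' : Subgroup G := K.map M₁.subtype with hK'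
  set H : Subgroup G := M₁ ⊓ M₂ with hH
  have hK'FS : K' ≤ FS M₁ := Subgroup.map_mono
    ((Cfsg.Agent.Lib.Helper22.component_le_layer hK).trans
      (Cfsg.Agent.Lib.Helper22.layer_le_generalizedFitting _))
  have hK'H : K' ≤ H := le_inf (Subgroup.map_subtype_le K) (hK'FS.trans h₁)
  have hsn1 : SnIn K' M₁ := snIn_of_map_subtype hK.1
  have hsnH : SnIn K' H := hsn1.restrict hK'H inf_le_left
  have hq : Cfsg.IsQuasisimple ↥K' :=
    Cfsg.Agent.Lib.Helper21.quasisimple_of_mulEquiv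
      (K.equivMapOfInjective M₁.subtype (Subgroup.subtype_injective M₁)) hK.2
  have hcompH : Cfsg.IsComponent (K'.subgroupOf H) :=
    ⟨hsnH.2, Cfsg.Agent.Lib.Helper21.quasisimple_of_mulEquiv
      (Subgroup.subgroupOfEquivOfLe hK'H).symm hq⟩
  set F2 : Subgroup G := FS M₂ with hF2
  have hF2M2 : F2 ≤ M₂ := Subgroup.map_subtype_le _
  have hF2H : F2 ≤ H := le_inf h₂ hF2M2
  have hF2n : M₂ ≤ Subgroup.normalizer (F2 : Set G) := le_normalizer_FS M₂
  have hN : (F2.subgroupOf H).Normal :=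
    Subgroup.normal_subgroupOf_of_le_normalizer (inf_le_right.trans hF2n)
  rcases Cfsg.Agent.Lib.Helper21.component_le_or_commutes_normal hcompH hN with h | h
  · have hK'F2 : K' ≤ F2 := by
      intro k hk
      have : (⟨k, hK'H hk⟩ : ↥H) ∈ K'.subgroupOf H := Subgroup.mem_subgroupOf.mpr hk
      exact Subgroup.mem_subgroupOf.mp (h this)
    have hs2 : SnIn K' M₂ :=
      (hsnH.restrict hK'F2 hF2H).trans (snIn_of_le_normalizer hF2M2 hF2n)
    have hcomp2 : Cfsg.IsComponent (K'.subgroupOf M₂) :=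
      ⟨hs2.2, Cfsg.Agent.Lib.Helper21.quasisimple_of_mulEquiv
        (Subgroup.subgroupOfEquivOfLe hs2.1).symm hq⟩
    have := Subgroup.map_mono (f := M₂.subtype)
      (Cfsg.Agent.Lib.Helper22.component_le_layer hcomp2)
    rwa [Subgroup.map_subgroupOf_eq_of_le hs2.1] at this
  · exfalso
    have hcomm : ∀ f ∈ F2, ∀ k ∈ K', f * k = k * f := by
      intro f hf k hk
      have h3 : (⁅(⟨f, hF2H hf⟩ : ↥H), (⟨k, hK'H hk⟩ : ↥H)⁆ : ↥H) ∈
          ⁅F2.subgroupOf H, K'.subgroupOf H⁆ :=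
        Subgroup.commutator_mem_commutator (Subgroup.mem_subgroupOf.mpr hf)
          (Subgroup.mem_subgroupOf.mpr hk)
      rw [h, Subgroup.mem_bot] at h3
      have h4 := congrArg (Subtype.val) h3
      simp only [commutatorElement_def, Subgroup.coe_mul, Subgroup.coe_inv, Subgroup.coe_one] at h4
      calc f * k = (f * k * f⁻¹ * k⁻¹) * (k * f) := by group
        _ = k * f := by rw [h4, one_mul]
    have hK'F2 : K' ≤ F2 := by
      intro k hk
      apply inf_centralizer_FS_le M₂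
      refine Subgroup.mem_inf.mpr ⟨(hK'H hk).2, ?_⟩
      rw [Subgroup.mem_centralizer_iff]
      intro f hf
      exact hcomm f hf k hk
    have hsolv : Group.IsSolvable ↥K' := by
      apply Group.isSolvable_of_comm
      intro a b
      apply Subtype.ext
      exact hcomm a.1 (hK'F2 a.2) b.1 b.2
    exact Cfsg.Agent.Lib.Helper21.quasisimple_not_solvable hq hsolv

theorem EE_le (M₁ M₂ : Subgroup G) (h₁ : FS M₁ ≤ M₂) (h₂ : FS M₂ ≤ M₁) : EE M₁ ≤ EE M₂ := by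
  rw [Subgroup.map_le_iff_le_comap]
  apply sSup_le
  intro K hK
  rw [← Subgroup.map_le_iff_le_comap]
  exact comp_le M₁ M₂ h₁ h₂ K hK

end part1

section part2
variable {G : Type*} [Group G] [Finite G]

/-- elimination of the `p'`-part of a commutator -/
theorem ppart_elim {P Q : Subgroup G} (hPQ : ∀ a ∈ P, ∀ b ∈ Q, a * b = b * a)
    (hdisj : P ⊓ Q = ⊥) {x k a b : G} (hxP : ∀ a ∈ P, x⁻¹ * a * x ∈ P) (hxb : x * b = b * x)
    (ha : a ∈ P) (hb : b ∈ Q) (h : x⁻¹ * k * x = k * a * b) (n : ℕ) (hn : x ^ n = 1)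
    (hbn : (orderOf b).Coprime n) : b = 1 := by
  have key : ∀ i : ℕ, ∃ ai ∈ P, (x⁻¹) ^ i * k * x ^ i = k * ai * b ^ i := by
    intro i
    induction i with
    | zero => exact ⟨1, P.one_mem, by simp⟩
    | succ i ih =>
      obtain ⟨ai, hai, hi⟩ := ih
      refine ⟨a * (x⁻¹ * ai * x), P.mul_mem ha (hxP ai hai), ?_⟩
      have hxbi : x⁻¹ * b ^ i * x = b ^ i := by
        have hc : Commute x (b ^ i) := Commute.pow_right hxb i
        calc x⁻¹ * b ^ i * x = x⁻¹ * (b ^ i * x) := by group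
          _ = x⁻¹ * (x * b ^ i) := by rw [hc.eq]
          _ = b ^ i := by group
      have hcomm : b * (x⁻¹ * ai * x) = (x⁻¹ * ai * x) * b := (hPQ _ (hxP ai hai) b hb).symm
      calc (x⁻¹) ^ (i + 1) * k * x ^ (i + 1) = x⁻¹ * ((x⁻¹) ^ i * k * x ^ i) * x := by
            rw [pow_succ', pow_succ]; simp only [mul_assoc]
        _ = x⁻¹ * (k * ai * b ^ i) * x := by rw [hi]
        _ = (x⁻¹ * k * x) * (x⁻¹ * ai * x) * (x⁻¹ * b ^ i * x) := by group
        _ = (k * a * b) * (x⁻¹ * ai * x) * b ^ i := by rw [h, hxbi]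
        _ = k * a * (b * (x⁻¹ * ai * x)) * b ^ i := by simp only [mul_assoc]
        _ = k * a * ((x⁻¹ * ai * x) * b) * b ^ i := by rw [hcomm]
        _ = k * (a * (x⁻¹ * ai * x)) * b ^ (i + 1) := by rw [pow_succ']; simp only [mul_assoc]
  obtain ⟨an, han, hn'⟩ := key n
  rw [inv_pow, hn, inv_one, one_mul, mul_one] at hn'
  have h1 : an * b ^ n = 1 := by
    have : k * (an * b ^ n) = k * 1 := by rw [mul_one, ← mul_assoc]; exact hn'.symm
    exact mul_left_cancel this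
  have h2 : b ^ n ∈ P ⊓ Q := by
    refine ⟨?_, Q.pow_mem hb n⟩
    have : b ^ n = an⁻¹ := eq_inv_of_mul_eq_one_right h1
    rw [this]
    exact P.inv_mem han
  rw [hdisj, Subgroup.mem_bot] at h2
  have h3 : orderOf b ∣ n := orderOf_dvd_of_pow_eq_one h2
  have h4 : orderOf b = 1 := Nat.Coprime.eq_one_of_dvd hbn h3
  exact orderOf_eq_one_iff.mp h4

theorem pCoreOf_le_FF (r : ℕ) [Fact r.Prime] (M : Subgroup G) : pCoreOf r M ≤ FF M :=
  Subgroup.map_mono (Cfsg.Agent.Lib.Helper22.pCore_le_fitting r)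

theorem FF_eq_iSup (M : Subgroup G) : FF M = ⨆ r : Nat.Primes, pCoreOf (r : ℕ) M := by
  unfold FF
  rw [Cfsg.Agent.Lib.Helper22.fittingSubgroup_eq_iSup_pCore, Subgroup.map_iSup]
  rfl

theorem comm_of_coprime {p q : ℕ} [Fact p.Prime] [Fact q.Prime] (hpq : p ≠ q) {A B : Subgroup G}
    (hA : IsPGroup p A) (hB : IsPGroup q B) (hAB : A ≤ Subgroup.normalizer (B : Set G))
    (hBA : B ≤ Subgroup.normalizer (A : Set G)) : ∀ a ∈ A, ∀ b ∈ B, a * b = b * a :=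
  commute_of_inf_eq_bot hAB hBA (disjoint_iff.mp (IsPGroup.disjoint_of_ne p q hpq A B hA hB))

/-- The hypotheses of the main step. -/
structure Setup (M₁ M₂ : Subgroup G) : Prop where
  hF1 : FF M₁ ≤ M₂
  hF2 : FF M₂ ≤ M₁
  hc1 : M₁ ⊓ Subgroup.centralizer (FF M₁ : Set G) ≤ FF M₁
  hc2 : M₂ ⊓ Subgroup.centralizer (FF M₂ : Set G) ≤ FF M₂
  hP1 : ∀ A : Subgroup G, A ≠ ⊥ → A ≤ M₁ ⊓ M₂ → M₂ ≤ Subgroup.normalizer (A : Set G) →
    M₁ ⊓ Subgroup.normalizer (A : Set G) = M₁ ⊓ M₂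
  hP2 : ∀ A : Subgroup G, A ≠ ⊥ → A ≤ M₁ ⊓ M₂ → M₁ ≤ Subgroup.normalizer (A : Set G) →
    M₂ ⊓ Subgroup.normalizer (A : Set G) = M₁ ⊓ M₂

theorem Setup.symm {M₁ M₂ : Subgroup G} (S : Setup M₁ M₂) : Setup M₂ M₁ where
  hF1 := S.hF2
  hF2 := S.hF1
  hc1 := S.hc2
  hc2 := S.hc1
  hP1 := fun A h1 h2 h3 => by
    rw [inf_comm M₂ M₁]
    exact S.hP2 A h1 (by rwa [inf_comm]) h3
  hP2 := fun A h1 h2 h3 => by
    rw [inf_comm M₂ M₁]
    exact S.hP1 A h1 (by rwa [inf_comm]) h3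

theorem orderOf_coprime_of_mem {p : ℕ} [Fact p.Prime] {M : Subgroup G} {r : ℕ} [Fact r.Prime]
    (hr : r ≠ p) : pCoreOf r M ≤ (Cfsg.pPrimeCore p ↥M).map M.subtype :=
  Subgroup.map_mono (Cfsg.Agent.Lib.Helper22.pCore_le_pPrimeCore hr)

theorem coprime_of_mem_pPrimeCore {p : ℕ} {M : Subgroup G} {b : G}
    (hb : b ∈ (Cfsg.pPrimeCore p ↥M).map M.subtype) : (orderOf b).Coprime p := by
  obtain ⟨y, hy, rfl⟩ := hb
  have h1 : orderOf (M.subtype y) = orderOf y := orderOf_injective _ (Subgroup.subtype_injective M) y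
  rw [h1]
  have h2 : orderOf (⟨y, hy⟩ : ↥(Cfsg.pPrimeCore p ↥M)) = orderOf y := Subgroup.orderOf_mk y hy
  rw [← h2]
  exact Nat.Coprime.coprime_dvd_left (orderOf_dvd_natCard _)
    (Cfsg.Agent.Lib.Helper30.pPrimeCore_card_coprime p)

theorem eq_one_of_pgroup_of_coprime {p : ℕ} [hp : Fact p.Prime] {P : Subgroup G}
    (hP : IsPGroup p P) {a : G} (ha : a ∈ P) {n : ℕ} (hn : a ^ n = 1) (hnp : n.Coprime p) :
    a = 1 := by
  obtain ⟨j, hj⟩ := (IsPGroup.iff_orderOf.mp hP) ⟨a, ha⟩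
  rw [Subgroup.orderOf_mk] at hj
  have h1 : orderOf a ∣ n := orderOf_dvd_of_pow_eq_one hn
  have h2 : (orderOf a).Coprime n := by
    rw [hj]
    exact (Nat.Coprime.pow_left j hnp.symm)
  have h3 : orderOf a = 1 := Nat.Coprime.eq_one_of_dvd h2 h1
  exact orderOf_eq_one_iff.mp h3

theorem claimB {M₁ M₂ : Subgroup G} (S : Setup M₁ M₂) {p q : ℕ} [hp : Fact p.Prime]
    [hq : Fact q.Prime] (hpq : p ≠ q) (hS2 : pCoreOf q M₂ ≠ ⊥) :
    pCoreOf p M₂ ≤ pCoreOf p M₁ := by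
  set P1 := pCoreOf p M₁ with hP1
  set P2 := pCoreOf p M₂ with hP2
  set S2 := pCoreOf q M₂ with hS2def
  have hP1p : IsPGroup p P1 := isPGroup_pCoreOf p M₁
  have hP2p : IsPGroup p P2 := isPGroup_pCoreOf p M₂
  have hS2q : IsPGroup q S2 := isPGroup_pCoreOf q M₂
  have hP1n : M₁ ≤ Subgroup.normalizer (P1 : Set G) := le_normalizer_pCoreOf p M₁
  have hP2n : M₂ ≤ Subgroup.normalizer (P2 : Set G) := le_normalizer_pCoreOf p M₂
  have hS2n : M₂ ≤ Subgroup.normalizer (S2 : Set G) := le_normalizer_pCoreOf q M₂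
  have hP1M2 : P1 ≤ M₂ := (pCoreOf_le_FF p M₁).trans S.hF1
  have hP2M1 : P2 ≤ M₁ := (pCoreOf_le_FF p M₂).trans S.hF2
  have hP2M2 : P2 ≤ M₂ := pCoreOf_le p M₂
  have hS2M1 : S2 ≤ M₁ := (pCoreOf_le_FF q M₂).trans S.hF2
  have hS2M2 : S2 ≤ M₂ := pCoreOf_le q M₂
  have hP1conj : ∀ m ∈ M₁, ∀ a ∈ P1, m * a * m⁻¹ ∈ P1 := fun m hm a ha =>
    (Subgroup.mem_normalizer_iff.mp (hP1n hm) a).mp ha
  have hP1conj' : ∀ m ∈ M₁, ∀ a ∈ P1, m⁻¹ * a * m ∈ P1 := fun m hm a ha => by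
    have := hP1conj m⁻¹ (M₁.inv_mem hm) a ha
    rwa [inv_inv] at this
  set K1 : Subgroup G := M₁ ⊓ Subgroup.centralizer (P1 : Set G) with hK1
  have hK1conj : ∀ m ∈ M₁, ∀ k ∈ K1, m⁻¹ * k * m ∈ K1 := by
    intro m hm k hk
    refine Subgroup.mem_inf.mpr ⟨M₁.mul_mem (M₁.mul_mem (M₁.inv_mem hm) hk.1) hm, ?_⟩
    rw [Subgroup.mem_centralizer_iff]
    intro a ha
    have hc := Subgroup.mem_centralizer_iff.mp hk.2 _ (hP1conj m hm a ha)
    calc a * (m⁻¹ * k * m) = m⁻¹ * ((m * a * m⁻¹) * k) * m := by group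
      _ = m⁻¹ * (k * (m * a * m⁻¹)) * m := by rw [hc]
      _ = m⁻¹ * k * m * a := by group
  let J : Subgroup G :=
    { carrier := {x | x ∈ M₁ ∧ ∀ k ∈ K1, k⁻¹ * x⁻¹ * k * x ∈ P1}
      one_mem' := ⟨M₁.one_mem, fun k _ => by simp [P1.one_mem]⟩
      mul_mem' := by
        rintro x y ⟨hx, hx'⟩ ⟨hy, hy'⟩
        refine ⟨M₁.mul_mem hx hy, fun k hk => ?_⟩
        have e : k⁻¹ * (x * y)⁻¹ * k * (x * y) =
            (k⁻¹ * y⁻¹ * k * y) * (y⁻¹ * (k⁻¹ * x⁻¹ * k * x) * y) := by group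
        rw [e]
        exact P1.mul_mem (hy' k hk) (hP1conj' y hy _ (hx' k hk))
      inv_mem' := by
        rintro x ⟨hx, hx'⟩
        refine ⟨M₁.inv_mem hx, fun k hk => ?_⟩
        have e : k⁻¹ * (x⁻¹)⁻¹ * k * x⁻¹ = x * (k⁻¹ * x⁻¹ * k * x)⁻¹ * x⁻¹ := by group
        rw [e]
        exact hP1conj x hx _ (P1.inv_mem (hx' k hk)) }
  have hJmem : ∀ x, x ∈ J ↔ x ∈ M₁ ∧ ∀ k ∈ K1, k⁻¹ * x⁻¹ * k * x ∈ P1 := fun x => Iff.rfl
  have hJM1 : J ≤ M₁ := fun x hx => ((hJmem x).mp hx).1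
  have hJn : M₁ ≤ Subgroup.normalizer (J : Set G) := by
    apply le_normalizer_of_cj_le
    intro m hm y hy
    rw [mem_cj] at hy
    obtain ⟨h1, h2⟩ := (hJmem _).mp hy
    rw [hJmem]
    constructor
    · have := M₁.mul_mem (M₁.mul_mem hm h1) (M₁.inv_mem hm)
      have e : y = m * (m⁻¹ * y * m) * m⁻¹ := by group
      rw [e]; exact this
    · intro k hk
      have h3 := h2 _ (hK1conj m hm k hk)
      have e : k⁻¹ * y⁻¹ * k * y =
          m * ((m⁻¹ * k * m)⁻¹ * (m⁻¹ * y * m)⁻¹ * (m⁻¹ * k * m) * (m⁻¹ * y * m)) * m⁻¹ := by group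
      rw [e]
      exact hP1conj m hm _ h3
  -- S2 ≤ K1
  have hcommPS : ∀ a ∈ P1, ∀ s ∈ S2, a * s = s * a :=
    comm_of_coprime hpq hP1p hS2q (hP1M2.trans hS2n) (hS2M1.trans hP1n)
  have hS2K1 : S2 ≤ K1 := by
    intro s hs
    refine Subgroup.mem_inf.mpr ⟨hS2M1 hs, ?_⟩
    rw [Subgroup.mem_centralizer_iff]
    intro a ha
    exact hcommPS a ha s hs
  -- J centralizes S2
  have hJS2 : J ≤ Subgroup.centralizer (S2 : Set G) := by
    intro x hx
    obtain ⟨hxM, hx'⟩ := (hJmem x).mp hx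
    rw [Subgroup.mem_centralizer_iff]
    intro s hs
    have ha : s⁻¹ * x⁻¹ * s * x ∈ P1 := hx' s (hS2K1 hs)
    set a := s⁻¹ * x⁻¹ * s * x with hadef
    have hsa : Commute s a := (hcommPS a ha s hs).symm
    have h1 : x⁻¹ * s * x = s * a := by rw [hadef]; group
    have h2 : (x⁻¹ * s * x) ^ (orderOf s) = 1 := by
      have : x⁻¹ * s * x = x⁻¹ * s * (x⁻¹)⁻¹ := by rw [inv_inv]
      rw [this, conj_pow, pow_orderOf_eq_one]
      group
    rw [h1, hsa.mul_pow, pow_orderOf_eq_one, one_mul] at h2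
    obtain ⟨i, hi⟩ := (IsPGroup.iff_orderOf.mp hS2q) ⟨s, hs⟩
    rw [Subgroup.orderOf_mk] at hi
    have hcop : (orderOf s).Coprime p := by
      rw [hi]
      exact Nat.Coprime.pow_left i ((Nat.coprime_primes hq.out hp.out).mpr (Ne.symm hpq))
    have ha1 : a = 1 := eq_one_of_pgroup_of_coprime hP1p ha h2 hcop
    rw [ha1, mul_one] at h1
    calc s * x = x * (x⁻¹ * s * x) := by group
      _ = x * s := by rw [h1]
  have hJH : J ≤ M₁ ⊓ M₂ := by
    rw [← S.hP1 S2 hS2 (le_inf hS2M1 hS2M2) hS2n]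
    exact le_inf hJM1 (hJS2.trans (Subgroup.centralizer_le_normalizer _))
  -- P2 ≤ J
  have hP2J : P2 ≤ J := by
    intro x hx
    have hxM1 : x ∈ M₁ := hP2M1 hx
    rw [hJmem]
    refine ⟨hxM1, fun k hk => ?_⟩
    set c := k⁻¹ * x⁻¹ * k * x with hcdef
    have hcK1 : c ∈ K1 := by
      have e : c = k⁻¹ * (x⁻¹ * k * x) := by rw [hcdef]; group
      rw [e]
      exact K1.mul_mem (K1.inv_mem hk) (hK1conj x hxM1 k hk)
    -- x commutes with the other cores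
    have hxR : ∀ r : ℕ, [Fact r.Prime] → r ≠ p → ∀ t ∈ pCoreOf r M₁, x * t = t * x := by
      intro r _ hr t ht
      exact comm_of_coprime (Ne.symm hr) hP2p (isPGroup_pCoreOf r M₁)
        (hP2M1.trans (le_normalizer_pCoreOf r M₁))
        (((pCoreOf_le_FF r M₁).trans S.hF1).trans hP2n) x hx t ht
    have hcR : ∀ r : ℕ, [Fact r.Prime] → r ≠ p → ∀ t ∈ pCoreOf r M₁, c * t = t * c := by
      intro r _ hr t ht
      have ht' : k * t * k⁻¹ ∈ pCoreOf r M₁ :=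
        (Subgroup.mem_normalizer_iff.mp (le_normalizer_pCoreOf r M₁ hk.1) t).mp ht
      have h1 := hxR r hr t ht
      have h2 := hxR r hr _ ht'
      have h3 : x⁻¹ * (k * t * k⁻¹) = (k * t * k⁻¹) * x⁻¹ := by
        calc x⁻¹ * (k * t * k⁻¹) = x⁻¹ * ((k * t * k⁻¹) * x) * x⁻¹ := by group
          _ = x⁻¹ * (x * (k * t * k⁻¹)) * x⁻¹ := by rw [h2]
          _ = (k * t * k⁻¹) * x⁻¹ := by group
      calc c * t = k⁻¹ * x⁻¹ * k * (x * t) := by rw [hcdef]; group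
        _ = k⁻¹ * x⁻¹ * k * (t * x) := by rw [h1]
        _ = k⁻¹ * (x⁻¹ * (k * t * k⁻¹)) * k * x := by group
        _ = k⁻¹ * ((k * t * k⁻¹) * x⁻¹) * k * x := by rw [h3]
        _ = t * c := by rw [hcdef]; group
    have hcF : c ∈ FF M₁ := by
      apply S.hc1
      refine Subgroup.mem_inf.mpr ⟨hcK1.1, ?_⟩
      have hle : FF M₁ ≤ Subgroup.centralizer ({c} : Set G) := by
        rw [FF_eq_iSup]
        apply iSup_le
        intro r
        have : Fact (r : ℕ).Prime := ⟨r.2⟩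
        intro t ht
        rw [Subgroup.mem_centralizer_iff]
        intro h hh
        rw [Set.mem_singleton_iff] at hh
        subst hh
        by_cases hr : (r : ℕ) = p
        · have ht1 : t ∈ P1 := by
            have : pCoreOf (r : ℕ) M₁ = pCoreOf p M₁ := by rw [hr]
            rw [hP1, ← this]; exact ht
          exact (Subgroup.mem_centralizer_iff.mp hcK1.2 t ht1).symm
        · exact hcR r hr t ht
      rw [Subgroup.mem_centralizer_iff]
      intro f hf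
      have := Subgroup.mem_centralizer_iff.mp (hle hf) c rfl
      exact this.symm
    -- decompose
    let pp : Nat.Primes := ⟨p, hp.out⟩
    set Q1 : Subgroup G := ⨆ (r : Nat.Primes) (_ : r ≠ pp), pCoreOf (r : ℕ) M₁ with hQ1
    have hsplit : FF M₁ = P1 ⊔ Q1 := by
      rw [FF_eq_iSup]
      exact iSup_split_single (fun r : Nat.Primes => pCoreOf (r : ℕ) M₁) pp
    have hQ1le : Q1 ≤ (Cfsg.pPrimeCore p ↥M₁).map M₁.subtype := by
      apply iSup_le; intro r; apply iSup_le; intro hr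
      have : Fact (r : ℕ).Prime := ⟨r.2⟩
      exact orderOf_coprime_of_mem (fun h => hr (Subtype.ext h))
    have hQ1cent : ∀ a ∈ P1, ∀ b ∈ Q1, a * b = b * a := by
      have hle : Q1 ≤ Subgroup.centralizer (P1 : Set G) := by
        apply iSup_le; intro r; apply iSup_le; intro hr
        have : Fact (r : ℕ).Prime := ⟨r.2⟩
        intro t ht
        rw [Subgroup.mem_centralizer_iff]
        intro a ha
        exact comm_of_coprime (fun h => hr (Subtype.ext h.symm)) hP1p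
          (isPGroup_pCoreOf (r : ℕ) M₁)
          ((pCoreOf_le p M₁).trans (le_normalizer_pCoreOf (r : ℕ) M₁))
          ((pCoreOf_le (r : ℕ) M₁).trans hP1n) a ha t ht
      intro a ha b hb
      exact Subgroup.mem_centralizer_iff.mp (hle hb) a ha
    have hxQ1 : ∀ b ∈ Q1, x * b = b * x := by
      have hle : Q1 ≤ Subgroup.centralizer ({x} : Set G) := by
        apply iSup_le; intro r; apply iSup_le; intro hr
        have : Fact (r : ℕ).Prime := ⟨r.2⟩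
        intro t ht
        rw [Subgroup.mem_centralizer_iff]
        intro h hh
        rw [Set.mem_singleton_iff] at hh
        subst hh
        exact hxR (r : ℕ) (fun h => hr (Subtype.ext h)) t ht
      intro b hb
      exact Subgroup.mem_centralizer_iff.mp (hle hb) x rfl
    have hdisj : P1 ⊓ Q1 = ⊥ := by
      rw [eq_bot_iff]
      rintro z ⟨hz1, hz2⟩
      rw [Subgroup.mem_bot]
      have hcop := coprime_of_mem_pPrimeCore (hQ1le hz2)
      exact eq_one_of_pgroup_of_coprime hP1p hz1 (pow_orderOf_eq_one z) hcop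
    rw [hsplit] at hcF
    obtain ⟨a, ha, b, hb, hcab⟩ := mem_sup_of_commute hQ1cent hcF
    have hkx : x⁻¹ * k * x = k * a * b := by
      have : x⁻¹ * k * x = k * c := by rw [hcdef]; group
      rw [this, hcab, mul_assoc]
    obtain ⟨m, hm⟩ := (IsPGroup.iff_orderOf.mp hP2p) ⟨x, hx⟩
    rw [Subgroup.orderOf_mk] at hm
    have hbcop : (orderOf b).Coprime (orderOf x) := by
      rw [hm]
      exact Nat.Coprime.pow_right m (coprime_of_mem_pPrimeCore (hQ1le hb))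
    have hb1 : b = 1 := ppart_elim hQ1cent hdisj (hP1conj' x hxM1) (hxQ1 b hb) ha hb hkx
      (orderOf x) (pow_orderOf_eq_one x) hbcop
    rw [hcab, hb1, mul_one]
    exact ha
  have h1 : SnIn P2 J := snIn_of_le_normalizer hP2J ((hJH.trans inf_le_right).trans hP2n)
  have h2 : SnIn J M₁ := snIn_of_le_normalizer hJM1 hJn
  exact (h1.trans h2).le_pCoreOf hP2p

theorem Setup.no_common_normal {M₁ M₂ : Subgroup G} (S : Setup M₁ M₂) (hne : M₁ ≠ M₂)
    (A : Subgroup G) (hA : A ≠ ⊥) (hAH : A ≤ M₁ ⊓ M₂)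
    (hn1 : M₁ ≤ Subgroup.normalizer (A : Set G)) (hn2 : M₂ ≤ Subgroup.normalizer (A : Set G)) :
    False := by
  have e1 := S.hP2 A hA hAH hn1
  have e2 := S.hP1 A hA hAH hn2
  rw [inf_eq_left.mpr hn2] at e1
  rw [inf_eq_left.mpr hn1] at e2
  exact hne (e2.trans e1.symm)

theorem Setup.eq_bot_of_FF_eq_bot {M₁ M₂ : Subgroup G} (S : Setup M₁ M₂) (h0 : FF M₁ = ⊥) :
    M₁ = ⊥ := by
  rw [eq_bot_iff]
  intro x hx
  have h1 : x ∈ M₁ ⊓ Subgroup.centralizer (FF M₁ : Set G) := by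
    refine Subgroup.mem_inf.mpr ⟨hx, ?_⟩
    rw [Subgroup.mem_centralizer_iff]
    intro f hf
    rw [h0] at hf
    have : f = 1 := Subgroup.mem_bot.mp hf
    rw [this, one_mul, mul_one]
  have := S.hc1 h1
  rwa [h0] at this

theorem Setup.FF_ne_bot {M₁ M₂ : Subgroup G} (S : Setup M₁ M₂) (hne : M₁ ≠ M₂) : FF M₁ ≠ ⊥ := by
  intro h0
  have hM1 := S.eq_bot_of_FF_eq_bot h0
  have h2 : FF M₂ = ⊥ := by
    have := S.hF2
    rw [hM1] at this
    exact le_bot_iff.mp this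
  have hM2 := S.symm.eq_bot_of_FF_eq_bot h2
  exact hne (hM1.trans hM2.symm)

theorem Setup.exists_prime {M₁ M₂ : Subgroup G} (S : Setup M₁ M₂) (hne : M₁ ≠ M₂) :
    ∃ r : Nat.Primes, pCoreOf (r : ℕ) M₁ ≠ ⊥ := by
  by_contra hcon
  push Not at hcon
  apply S.FF_ne_bot hne
  rw [FF_eq_iSup]
  exact iSup_eq_bot.mpr hcon

theorem Setup.unique_prime {M₁ M₂ : Subgroup G} (S : Setup M₁ M₂) (hne : M₁ ≠ M₂)
    {p q : ℕ} [hp : Fact p.Prime] [hq : Fact q.Prime] (hP2 : pCoreOf p M₂ ≠ ⊥)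
    (hS2 : pCoreOf q M₂ ≠ ⊥) : p = q := by
  by_contra hpq
  have h1 : pCoreOf p M₂ ≤ pCoreOf p M₁ := claimB S hpq hS2
  have h2 : pCoreOf q M₂ ≤ pCoreOf q M₁ := claimB S (Ne.symm hpq) hP2
  have hS1 : pCoreOf q M₁ ≠ ⊥ := fun h0 => hS2 (le_bot_iff.mp (h0 ▸ h2))
  have h3 : pCoreOf p M₁ ≤ pCoreOf p M₂ := claimB S.symm hpq hS1
  have heq : pCoreOf p M₁ = pCoreOf p M₂ := le_antisymm h3 h1
  apply S.no_common_normal hne (pCoreOf p M₂) hP2
  · exact le_inf (heq ▸ pCoreOf_le p M₁) (pCoreOf_le p M₂)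
  · rw [← heq]; exact le_normalizer_pCoreOf p M₁
  · exact le_normalizer_pCoreOf p M₂

theorem FF_eq_of_unique {M : Subgroup G} {p : ℕ} [hp : Fact p.Prime]
    (h : ∀ r : Nat.Primes, (r : ℕ) ≠ p → pCoreOf (r : ℕ) M = ⊥) : FF M = pCoreOf p M := by
  rw [FF_eq_iSup]
  apply le_antisymm
  · apply iSup_le
    intro r
    by_cases hr : (r : ℕ) = p
    · rw [hr]
    · rw [h r hr]; exact bot_le
  · exact le_iSup_of_le (⟨p, hp.out⟩ : Nat.Primes) le_rfl

end part2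

/-- Bender's Theorem on primitive pairs. Two distinct subgroups M₁, M₂ of G form a primitive pair when, for {i, j} = {1, 2}, every non-trivial normal subgroup A of M_i contained in M₁ ∩ M₂ satisfies N_{M_j}(A) = M₁ ∩ M₂; the pair has characteristic p when moreover C_{M_i}(O_p(M_i)) ≤ O_p(M_i) for both i and O_p(M₁)O_p(M₂) ≤ M₁ ∩ M₂. If (M₁, M₂) is a primitive pair of the finite group G with F*(M₁) ≤ M₂ and F*(M₂) ≤ M₁, then for some prime p the pair has characteristic p. -/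
theorem result {G : Type*} [Group G] [Finite G] (M₁ M₂ : Subgroup G) (hne : M₁ ≠ M₂) (hP : ∀ A : Subgroup G, A ≠ ⊥ → A ≤ M₁ ⊓ M₂ → (M₁ ≤ Subgroup.normalizer (A : Set G) → M₂ ⊓ Subgroup.normalizer (A : Set G) = M₁ ⊓ M₂) ∧ (M₂ ≤ Subgroup.normalizer (A : Set G) → M₁ ⊓ Subgroup.normalizer (A : Set G) = M₁ ⊓ M₂)) (h₁ : (Cfsg.generalizedFittingSubgroup ↥M₁).map M₁.subtype ≤ M₂) (h₂ : (Cfsg.generalizedFittingSubgroup ↥M₂).map M₂.subtype ≤ M₁) : ∃ p : ℕ, p.Prime ∧ Subgroup.centralizer (Cfsg.pCore p ↥M₁ : Set ↥M₁) ≤ Cfsg.pCore p ↥M₁ ∧ Subgroup.centralizer (Cfsg.pCore p ↥M₂ : Set ↥M₂) ≤ Cfsg.pCore p ↥M₂ ∧ (Cfsg.pCore p ↥M₁).map M₁.subtype ⊔ (Cfsg.pCore p ↥M₂).map M₂.subtype ≤ M₁ ⊓ M₂ := by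
  classical
  -- Step 1: the layers coincide, hence are trivial
  have hEE : EE M₁ = EE M₂ := le_antisymm (EE_le M₁ M₂ h₁ h₂) (EE_le M₂ M₁ h₂ h₁)
  have hE1 : EE M₁ = ⊥ := by
    by_contra hne1
    have hle : EE M₁ ≤ M₁ ⊓ M₂ :=
      le_inf (Subgroup.map_subtype_le _) (hEE ▸ Subgroup.map_subtype_le _)
    have hn1 : M₁ ≤ Subgroup.normalizer (EE M₁ : Set G) := le_normalizer_EE M₁
    have hn2 : M₂ ≤ Subgroup.normalizer (EE M₁ : Set G) := by
      rw [hEE]; exact le_normalizer_EE M₂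
    have e1 := (hP _ hne1 hle).1 hn1
    have e2 := (hP _ hne1 hle).2 hn2
    rw [inf_eq_left.mpr hn2] at e1
    rw [inf_eq_left.mpr hn1] at e2
    exact hne (e2.trans e1.symm)
  have hE2 : EE M₂ = ⊥ := hEE ▸ hE1
  have hL1 : Cfsg.layer ↥M₁ = ⊥ :=
    (Subgroup.map_eq_bot_iff_of_injective _ (Subgroup.subtype_injective M₁)).mp hE1
  have hL2 : Cfsg.layer ↥M₂ = ⊥ :=
    (Subgroup.map_eq_bot_iff_of_injective _ (Subgroup.subtype_injective M₂)).mp hE2
  have hFS1 : FS M₁ = FF M₁ := by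
    unfold FS FF Cfsg.generalizedFittingSubgroup
    rw [hL1, bot_sup_eq]
  have hFS2 : FS M₂ = FF M₂ := by
    unfold FS FF Cfsg.generalizedFittingSubgroup
    rw [hL2, bot_sup_eq]
  have S : Setup M₁ M₂ :=
    { hF1 := hFS1 ▸ h₁
      hF2 := hFS2 ▸ h₂
      hc1 := hFS1 ▸ inf_centralizer_FS_le M₁
      hc2 := hFS2 ▸ inf_centralizer_FS_le M₂
      hP1 := fun A h1 h2 h3 => (hP A h1 h2).2 h3
      hP2 := fun A h1 h2 h3 => (hP A h1 h2).1 h3 }
  obtain ⟨p1, hp1⟩ := S.exists_prime hne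
  obtain ⟨p2, hp2⟩ := S.symm.exists_prime hne.symm
  have : Fact (p1 : ℕ).Prime := ⟨p1.2⟩
  have : Fact (p2 : ℕ).Prime := ⟨p2.2⟩
  have hu2 : ∀ r : Nat.Primes, (r : ℕ) ≠ (p2 : ℕ) → pCoreOf (r : ℕ) M₂ = ⊥ := by
    intro r hr
    by_contra h0
    have : Fact (r : ℕ).Prime := ⟨r.2⟩
    exact hr (S.unique_prime hne h0 hp2)
  have hu1 : ∀ r : Nat.Primes, (r : ℕ) ≠ (p1 : ℕ) → pCoreOf (r : ℕ) M₁ = ⊥ := by
    intro r hr
    by_contra h0
    have : Fact (r : ℕ).Prime := ⟨r.2⟩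
    exact hr (S.symm.unique_prime hne.symm h0 hp1)
  have hFF1 : FF M₁ = pCoreOf (p1 : ℕ) M₁ := FF_eq_of_unique hu1
  have hFF2 : FF M₂ = pCoreOf (p2 : ℕ) M₂ := FF_eq_of_unique hu2
  have hpp : (p1 : ℕ) = (p2 : ℕ) := by
    by_contra hpp
    have hcomm := comm_of_coprime hpp (isPGroup_pCoreOf (p1 : ℕ) M₁)
      (isPGroup_pCoreOf (p2 : ℕ) M₂)
      (((pCoreOf_le_FF (p1 : ℕ) M₁).trans S.hF1).trans (le_normalizer_pCoreOf (p2 : ℕ) M₂))
      (((pCoreOf_le_FF (p2 : ℕ) M₂).trans S.hF2).trans (le_normalizer_pCoreOf (p1 : ℕ) M₁))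
    have hle : pCoreOf (p1 : ℕ) M₁ ≤ pCoreOf (p2 : ℕ) M₂ := by
      intro x hx
      rw [← hFF2]
      apply S.hc2
      refine Subgroup.mem_inf.mpr ⟨S.hF1 (pCoreOf_le_FF (p1 : ℕ) M₁ hx), ?_⟩
      rw [Subgroup.mem_centralizer_iff]
      intro f hf
      rw [hFF2] at hf
      exact (hcomm x hx f hf).symm
    have hd := IsPGroup.disjoint_of_ne (p1 : ℕ) (p2 : ℕ) hpp _ _
      (isPGroup_pCoreOf (p1 : ℕ) M₁) (isPGroup_pCoreOf (p2 : ℕ) M₂)
    have : pCoreOf (p1 : ℕ) M₁ ≤ ⊥ := by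
      rw [← disjoint_iff.mp hd]
      exact le_inf le_rfl hle
    exact hp1 (le_bot_iff.mp this)
  refine ⟨(p1 : ℕ), p1.2, ?_, ?_, ?_⟩
  · apply (Cfsg.Agent.Lib.Helper22.generalizedFitting_eq_pCore_iff (p1 : ℕ)).mp
    apply Cfsg.Agent.Lib.Helper22.generalizedFitting_eq_pCore_of (p1 : ℕ) hL1
    intro q hq hqp
    have := hu1 ⟨q, hq⟩ hqp
    exact (Subgroup.map_eq_bot_iff_of_injective _ (Subgroup.subtype_injective M₁)).mp this
  · apply (Cfsg.Agent.Lib.Helper22.generalizedFitting_eq_pCore_iff (p1 : ℕ)).mp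
    apply Cfsg.Agent.Lib.Helper22.generalizedFitting_eq_pCore_of (p1 : ℕ) hL2
    intro q hq hqp
    have := hu2 ⟨q, hq⟩ (hpp ▸ hqp)
    exact (Subgroup.map_eq_bot_iff_of_injective _ (Subgroup.subtype_injective M₂)).mp this
  · show pCoreOf (p1 : ℕ) M₁ ⊔ pCoreOf (p1 : ℕ) M₂ ≤ M₁ ⊓ M₂
    apply sup_le
    · exact le_inf (pCoreOf_le _ M₁) ((pCoreOf_le_FF (p1 : ℕ) M₁).trans S.hF1)
    · exact le_inf ((pCoreOf_le_FF (p1 : ℕ) M₂).trans S.hF2) (pCoreOf_le _ M₂)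

end Cfsg.Agent.S3752
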