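import Cfsg.Statements.S3754
import Cfsg.Agent.S3734
import Cfsg.Agent.Lib.Helper62.DualHH
import Cfsg.Agent.Lib.Helper62.Conj
import Cfsg.Agent.Lib.Helper62.AbelianGen
import Cfsg.Agent.Lib.Helper62.MinNormal
import Cfsg.Agent.Lib.Helper24.Omega1
import Cfsg.Agent.Lib.Helper24.HHOne
import Cfsg.Agent.Lib.Helper47.Sylow
import Cfsg.Agent.Lib.Helper47.PCoreOf
import Cfsg.Agent.Lib.Helper10.Card

set_option autoImplicit false
set_option linter.style.haveILetI false
set_option linter.unusedSectionVars false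
open Cfsg

namespace Cfsg.Agent.S3754

open Subgroup
open Cfsg.Agent.Lib.Helper62
open scoped commutatorElement

section generic
variable {X : Type*} [Group X] [Finite X]

/-- coprime generation: a nontrivial abelian `p`-group acting faithfully on a `p'`-group `K`
has a cocyclic subgroup `B` such that a generator `a` of `A` over `B` acts nontrivially on `C_K(B)`. -/
theorem exists_cocyclic_noncentral {p : ℕ} [Fact p.Prime]
    (A K : Subgroup X) (hAab : IsMulCommutative A) (hAp : IsPGroup p A) (hA1 : A ≠ ⊥)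
    (hKn : A ≤ normalizer (K : Set X)) (hKcop : (Nat.card K).Coprime p)
    (hcon : centralizer (K : Set X) ≤ K) :
    ∃ B : Subgroup X, B ≤ A ∧ ∃ a ∈ A, B ⊔ zpowers a = A ∧
      ∃ k ∈ K ⊓ centralizer (B : Set X), a * k ≠ k * a := by
  have hcop : (Nat.card A).Coprime (Nat.card K) := by
    obtain ⟨m, hm⟩ := hAp.exists_card_eq
    rw [hm]
    exact (Nat.Coprime.pow_left m hKcop.symm)
  obtain ⟨hgen, -⟩ := Cfsg.Agent.S3734.result A K hAab hKn hcop
  have hnc : ¬ A ≤ centralizer (K : Set X) := by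
    intro h
    have hAKle : A ≤ K := h.trans hcon
    apply hA1
    have hdvd : Nat.card A ∣ Nat.card K := Subgroup.card_dvd_of_le hAKle
    have : Nat.card A = 1 := Nat.Coprime.eq_one_of_dvd hcop hdvd
    exact Subgroup.card_eq_one.mp this
  have hex : ∃ B : Subgroup X, (B ≤ A ∧ ∃ a ∈ A, B ⊔ zpowers a = A) ∧
      ¬ (K ⊓ centralizer (B : Set X) ≤ centralizer (A : Set X)) := by
    by_contra hcon'
    push Not at hcon'
    apply hnc
    rw [le_centralizer_iff]
    have hle : (⨆ B ∈ {B : Subgroup X | B ≤ A ∧ ∃ a ∈ A, B ⊔ Subgroup.zpowers a = A},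
        K ⊓ Subgroup.centralizer (B : Set X)) ≤ centralizer (A : Set X) := by
      apply iSup₂_le
      intro B hB
      exact hcon' B hB
    rw [hgen] at hle
    exact hle
  obtain ⟨B, ⟨hBA, a, haA, hBa⟩, hnot⟩ := hex
  refine ⟨B, hBA, a, haA, hBa, ?_⟩
  obtain ⟨k, hk, hknot⟩ := SetLike.not_le_iff_exists.mp hnot
  refine ⟨k, hk, ?_⟩
  have hkB : k ∈ centralizer (B : Set X) := (mem_inf.mp hk).2
  intro h
  apply hknot
  have hle : A ≤ centralizer ({k} : Set X) := by
    rw [← hBa]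
    apply sup_le
    · intro b hb
      rw [mem_centralizer_iff]
      intro z hz
      rw [Set.mem_singleton_iff] at hz
      subst hz
      rw [mem_centralizer_iff] at hkB
      exact (hkB b hb).symm
    · rw [zpowers_le, mem_centralizer_iff]
      intro z hz
      rw [Set.mem_singleton_iff] at hz
      subst hz
      exact h.symm
  rw [mem_centralizer_iff]
  intro x hx
  have := hle hx
  rw [mem_centralizer_iff] at this
  exact (this k rfl).symm

/-- `X` normalizing `H` and `K` normalizes `⁅H, K⁆`. -/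
theorem le_normalizer_commutator' {Y H K : Subgroup X} (hH : Y ≤ normalizer (H : Set X))
    (hK : Y ≤ normalizer (K : Set X)) : Y ≤ normalizer ((⁅H, K⁆ : Subgroup X) : Set X) := by
  rw [le_normalizer_iff_cj]
  intro y hy
  show (⁅H, K⁆).map (MulAut.conj y).toMonoidHom = ⁅H, K⁆
  rw [Subgroup.map_commutator]
  have h1 : H.map (MulAut.conj y).toMonoidHom = H := le_normalizer_iff_cj.mp hH y hy
  have h2 : K.map (MulAut.conj y).toMonoidHom = K := le_normalizer_iff_cj.mp hK y hy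
  rw [h1, h2]

end generic

section main
variable {G : Type*} [Group G] [Finite G] {p : ℕ} [Fact p.Prime]

/-- the quotient map `G → G / O_p(G)` -/
abbrev qm (p : ℕ) (G : Type*) [Group G] : G →* G ⧸ pCore p G := QuotientGroup.mk' (pCore p G)

theorem qm_surj : Function.Surjective (qm p G) := QuotientGroup.mk'_surjective _

theorem qm_eq_one_iff {g : G} : qm p G g = 1 ↔ g ∈ pCore p G :=
  QuotientGroup.eq_one_iff g

/-- `O_p(G / O_p(G)) = 1`. -/
theorem pCore_quot_eq_bot : pCore p (G ⧸ pCore p G) = ⊥ := by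
  set Q := pCore p (G ⧸ pCore p G) with hQ
  haveI : Q.Normal := inferInstance
  have hQp : IsPGroup p Q := Cfsg.Agent.Lib.Helper55.pCore_isPGroup p
  have hOp : IsPGroup p (pCore p G) := Cfsg.Agent.Lib.Helper55.pCore_isPGroup p
  have hcard := Cfsg.Agent.Lib.Helper30.card_comap_mk' (pCore p G) Q
  have hN : (Q.comap (qm p G)).Normal := inferInstance
  have hNp : IsPGroup p (Q.comap (qm p G)) := by
    obtain ⟨k, hk⟩ := IsPGroup.iff_card.mp hQp
    obtain ⟨j, hj⟩ := IsPGroup.iff_card.mp hOp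
    apply IsPGroup.of_card (n := j + k)
    rw [hcard, hk, hj, pow_add]
  have hle : Q.comap (qm p G) ≤ pCore p G := le_sSup ⟨hN, hNp⟩
  rw [eq_bot_iff]
  intro q hq
  obtain ⟨g, rfl⟩ := qm_surj (p := p) q
  have : g ∈ pCore p G := hle hq
  rw [Subgroup.mem_bot]
  exact qm_eq_one_iff.mpr this

/-- the context -/
structure Ctx (p : ℕ) [Fact p.Prime] (A : Subgroup G) (Bb : Subgroup (G ⧸ pCore p G)) (a : G) :
    Prop where
  haA : a ∈ A
  hAp : IsPGroup p A
  hab : ∀ u ∈ A.map (qm p G), ∀ v ∈ A.map (qm p G), u * v = v * u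
  hexp : ∀ u ∈ A.map (qm p G), u ^ p = 1
  hBA : Bb ≤ A.map (qm p G)
  hgen : Bb ⊔ zpowers (qm p G a) = A.map (qm p G)
  hne : Bb ≠ A.map (qm p G)

/-- the candidates -/
def Cand (p : ℕ) [Fact p.Prime] (Bb : Subgroup (G ⧸ pCore p G)) (a x : G) : Prop :=
  qm p G x ∈ pPrimeCore p (G ⧸ pCore p G) ∧ qm p G x ∈ centralizer (Bb : Set (G ⧸ pCore p G)) ∧
    qm p G a * qm p G x ≠ qm p G x * qm p G a

variable {A : Subgroup G} {Bb : Subgroup (G ⧸ pCore p G)} {a : G}

theorem map_cj (x : G) (A : Subgroup G) :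
    (cj x A).map (qm p G) = cj (qm p G x) (A.map (qm p G)) := by
  ext z
  constructor
  · rintro ⟨_, ⟨u, hu, rfl⟩, rfl⟩
    refine ⟨qm p G u, ⟨u, hu, rfl⟩, ?_⟩
    simp
  · rintro ⟨_, ⟨u, hu, rfl⟩, rfl⟩
    refine ⟨x * u * x⁻¹, ⟨u, hu, rfl⟩, ?_⟩
    simp

theorem F1 {x : G} (hx : Cand p Bb a x) :
    (A ⊔ cj x A).map (qm p G) ≤ pPrimeCore p (G ⧸ pCore p G) ⊔ A.map (qm p G) := by
  rw [Subgroup.map_sup]
  apply sup_le le_sup_right
  rw [map_cj]
  rintro _ ⟨u, hu, rfl⟩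
  haveI : (pPrimeCore p (G ⧸ pCore p G)).Normal := inferInstance
  have h1 : qm p G x * (u * (qm p G x)⁻¹ * u⁻¹) ∈ pPrimeCore p (G ⧸ pCore p G) :=
    Subgroup.mul_mem _ hx.1 (Subgroup.Normal.conj_mem inferInstance _ (Subgroup.inv_mem _ hx.1) u)
  have e : (MulAut.conj (qm p G x)).toMonoidHom u = qm p G x * (u * (qm p G x)⁻¹ * u⁻¹) * u := by
    simp [mul_assoc]
  rw [e]
  exact Subgroup.mul_mem _ (le_sup_left (a := pPrimeCore p (G ⧸ pCore p G)) h1)
    (le_sup_right (b := A.map (qm p G)) hu)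

theorem F2 (h : Ctx p A Bb a) {x : G} (hx : Cand p Bb a x) :
    (A ⊔ cj x A).map (qm p G) ≤ centralizer (Bb : Set (G ⧸ pCore p G)) := by
  have hA : A.map (qm p G) ≤ centralizer (Bb : Set (G ⧸ pCore p G)) := by
    intro u hu
    rw [mem_centralizer_iff]
    intro b hb
    exact h.hab b (h.hBA hb) u hu
  rw [Subgroup.map_sup]
  apply sup_le hA
  rw [map_cj]
  rintro _ ⟨u, hu, rfl⟩
  have hxc := hx.2.1
  exact Subgroup.mul_mem _ (Subgroup.mul_mem _ hxc (hA hu)) (Subgroup.inv_mem _ hxc)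

theorem F3 (h : Ctx p A Bb a) {x : G} (hx : Cand p Bb a x) :
    a⁻¹ * (x * a * x⁻¹) ∈ A ⊔ cj x A ∧ Cand p Bb a (a⁻¹ * (x * a * x⁻¹)) := by
  have hmem : a⁻¹ * (x * a * x⁻¹) ∈ A ⊔ cj x A :=
    Subgroup.mul_mem _ (le_sup_left (a := A) (A.inv_mem h.haA))
      (le_sup_right (b := cj x A) ⟨a, h.haA, rfl⟩)
  refine ⟨hmem, ?_, ?_, ?_⟩
  · haveI : (pPrimeCore p (G ⧸ pCore p G)).Normal := inferInstance
    have e : qm p G (a⁻¹ * (x * a * x⁻¹)) =
        ((qm p G a)⁻¹ * qm p G x * ((qm p G a)⁻¹)⁻¹) * (qm p G x)⁻¹ := by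
      simp [mul_assoc]
    rw [e]
    exact Subgroup.mul_mem _ (Subgroup.Normal.conj_mem inferInstance _ hx.1 _)
      (Subgroup.inv_mem _ hx.1)
  · exact F2 h hx ⟨_, hmem, rfl⟩
  · -- `ā` does not commute with `u`
    intro hcomm
    set ab := qm p G a with hab
    set xb := qm p G x with hxb
    set u := qm p G (a⁻¹ * (x * a * x⁻¹)) with hu
    have hu' : u = ab⁻¹ * (xb * ab * xb⁻¹) := by simp [hu, hab, hxb]
    have habA : ab ∈ A.map (qm p G) := ⟨a, h.haA, rfl⟩
    have hap : ab ^ p = 1 := h.hexp ab habA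
    -- `ab` commutes with `ab' = xb ab xb⁻¹`
    have hc1 : Commute ab (xb * ab * xb⁻¹) := by
      have : xb * ab * xb⁻¹ = ab * u := by rw [hu']; group
      rw [this]
      exact (Commute.refl ab).mul_right hcomm
    have hup : u ^ p = 1 := by
      rw [hu', (hc1.inv_left).mul_pow, inv_pow, hap, inv_one, one_mul]
      have : (xb * ab * xb⁻¹) ^ p = xb * ab ^ p * xb⁻¹ := conj_pow
      rw [this, hap]; simp
    have huK : u ∈ pPrimeCore p (G ⧸ pCore p G) := by
      haveI : (pPrimeCore p (G ⧸ pCore p G)).Normal := inferInstance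
      rw [hu']
      have e : ab⁻¹ * (xb * ab * xb⁻¹) = (ab⁻¹ * xb * (ab⁻¹)⁻¹) * xb⁻¹ := by group
      rw [e]
      exact Subgroup.mul_mem _ (Subgroup.Normal.conj_mem inferInstance _ hx.1 _)
        (Subgroup.inv_mem _ hx.1)
    have hKc : (Nat.card (pPrimeCore p (G ⧸ pCore p G))).Coprime p :=
      Cfsg.Agent.Lib.Helper30.pPrimeCore_card_coprime p
    have hun : u ^ Nat.card (pPrimeCore p (G ⧸ pCore p G)) = 1 := by
      have := pow_card_eq_one' (G := pPrimeCore p (G ⧸ pCore p G)) (x := ⟨u, huK⟩)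
      exact congrArg Subtype.val this
    have hu1 : u = 1 :=
      Cfsg.Agent.Lib.Helper47.eq_one_of_pow_coprime (j := 1) hKc hun (by simpa using hup)
    apply hx.2.2
    have : xb * ab * xb⁻¹ = ab := by
      have := hu'
      rw [hu1] at this
      have h2 : ab * 1 = ab * (ab⁻¹ * (xb * ab * xb⁻¹)) := by rw [← this]
      rw [mul_one, mul_inv_cancel_left] at h2
      exact h2.symm
    calc ab * xb = (xb * ab * xb⁻¹) * xb := by rw [this]
      _ = xb * ab := by group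

theorem card_sup_zpowers_le_p {X : Type*} [Group X] [Finite X] (B : Subgroup X) (a : X) {p : ℕ}
    (hp : 0 < p) (ha : a ^ p = 1) (hc : ∀ x ∈ B, x * a = a * x) :
    Nat.card ↥(B ⊔ zpowers a) ≤ Nat.card B * p := by
  have hle : B ≤ normalizer ((zpowers a : Subgroup X) : Set X) := by
    refine le_trans ?_ (centralizer_le_normalizer _)
    rw [le_centralizer_iff, zpowers_le, mem_centralizer_iff]
    intro h hh
    exact hc h hh
  have h := Cfsg.Agent.Lib.Helper10.card_sup_mul_card_inf hle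
  have hpos : 0 < Nat.card ↥(B ⊓ zpowers a) := Nat.card_pos
  have hz : Nat.card (zpowers a) ≤ p := by
    rw [Nat.card_zpowers]
    exact Nat.le_of_dvd hp (orderOf_dvd_of_pow_eq_one ha)
  calc Nat.card ↥(B ⊔ zpowers a) ≤ Nat.card ↥(B ⊔ zpowers a) * Nat.card ↥(B ⊓ zpowers a) :=
        Nat.le_mul_of_pos_right _ hpos
    _ = Nat.card B * Nat.card (zpowers a) := h
    _ ≤ Nat.card B * p := Nat.mul_le_mul_left _ hz

theorem F4 (h : Ctx p A Bb a) {x : G} (hx : Cand p Bb a x) :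
    (pResidual p ↥(A ⊔ cj x A)).map (A ⊔ cj x A).subtype ≤
      (pPrimeCore p (G ⧸ pCore p G)).comap (qm p G) := by
  set L := A ⊔ cj x A with hL
  unfold pResidual
  rw [MonoidHom.map_closure, closure_le]
  rintro _ ⟨g, hg, rfl⟩
  have hg' : Nat.Coprime (orderOf g) p := hg
  show qm p G (g : G) ∈ pPrimeCore p _
  have hgL : qm p G (g : G) ∈ L.map (qm p G) := ⟨g, g.2, rfl⟩
  have hz : zpowers (qm p G (g : G)) ≤ pPrimeCore p (G ⧸ pCore p G) ⊔ A.map (qm p G) :=
    (zpowers_le).mpr (F1 hx hgL)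
  have hzc : (Nat.card (zpowers (qm p G (g : G)))).Coprime p := by
    rw [Nat.card_zpowers]
    have : orderOf (qm p G (g : G)) ∣ orderOf g := by
      have := orderOf_map_dvd (qm p G) (g : G)
      rwa [Subgroup.orderOf_coe] at this
    exact Nat.Coprime.coprime_dvd_left this hg'
  have hAbp : IsPGroup p (A.map (qm p G)) := h.hAp.map _
  haveI : (pPrimeCore p (G ⧸ pCore p G)).Normal := inferInstance
  exact Cfsg.Agent.Lib.Helper24.pPrime_le_of_le_sup_pGroup (pPrimeCore p (G ⧸ pCore p G))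
    (A.map (qm p G)) hAbp (zpowers _) hzc hz (mem_zpowers _)

theorem F5a (h : Ctx p A Bb a) : (A ⊓ Bb.comap (qm p G)).relIndex A = p := by
  have hp : p.Prime := Fact.out
  have e1 : (A ⊓ Bb.comap (qm p G)).relIndex A = Bb.relIndex (A.map (qm p G)) := by
    rw [Subgroup.inf_relIndex_left]
    exact Subgroup.relIndex_comap _ _ _
  rw [e1]
  set Ab := A.map (qm p G) with hAb
  set n := Bb.relIndex Ab with hn
  have hcard : Nat.card Bb * n = Nat.card Ab := Cfsg.Agent.Lib.Helper30.card_mul_relIndex_eq h.hBA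
  have hab : qm p G a ∈ Ab := ⟨a, h.haA, rfl⟩
  have hle : Nat.card Ab ≤ Nat.card Bb * p := by
    have := card_sup_zpowers_le_p Bb (qm p G a) hp.pos (h.hexp _ hab)
      (fun x hx => h.hab x (h.hBA hx) _ hab)
    rw [h.hgen] at this
    exact this
  have hn1 : n ≠ 1 := by
    intro h1
    exact h.hne (le_antisymm h.hBA (Subgroup.relIndex_eq_one.mp h1))
  have hBpos : 0 < Nat.card Bb := Nat.card_pos
  have hnp : n ≤ p := by
    have : Nat.card Bb * n ≤ Nat.card Bb * p := hcard ▸ hle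
    exact Nat.le_of_mul_le_mul_left this hBpos
  have hAbp : IsPGroup p Ab := h.hAp.map _
  obtain ⟨k, hk⟩ := IsPGroup.iff_card.mp hAbp
  have hdvd : n ∣ p ^ k := hk ▸ Subgroup.relIndex_dvd_card Bb Ab
  obtain ⟨e, -, he⟩ := (Nat.dvd_prime_pow hp).mp hdvd
  rcases Nat.eq_zero_or_pos e with h0 | hpos
  · rw [h0, pow_zero] at he; exact absurd he hn1
  · have : p ≤ n := by
      rw [he]
      calc p = p ^ 1 := (pow_one p).symm
        _ ≤ p ^ e := Nat.pow_le_pow_right hp.pos hpos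
    exact le_antisymm hnp this

theorem F5b (h : Ctx p A Bb a) {x : G} (hx : Cand p Bb a x) :
    A ⊓ Bb.comap (qm p G) ≤ pCoreOf p (A ⊔ cj x A) := by
  set L := A ⊔ cj x A with hL
  set T := L ⊓ Bb.comap (qm p G) with hT
  have hTL : T ≤ L := inf_le_left
  have hLn : L ≤ normalizer ((Bb.comap (qm p G) : Subgroup G) : Set G) := by
    refine le_trans ?_ (Subgroup.le_normalizer_comap (qm p G))
    intro l hl
    rw [Subgroup.mem_comap]
    exact (centralizer_le_normalizer _) (F2 h hx ⟨l, hl, rfl⟩)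
  have hLT : L ≤ normalizer (T : Set G) := le_normalizer_inf le_normalizer hLn
  have hOp : IsPGroup p (pCore p G) := Cfsg.Agent.Lib.Helper55.pCore_isPGroup p
  have hTp : IsPGroup p T := by
    intro z
    have hz : qm p G (z : G) ∈ Bb := (mem_inf.mp z.2).2
    have h1 : (qm p G (z : G)) ^ p = 1 := h.hexp _ (h.hBA hz)
    have h2 : (z : G) ^ p ∈ pCore p G := by
      rw [← qm_eq_one_iff, map_pow]; exact h1
    obtain ⟨k, hk⟩ := hOp ⟨(z : G) ^ p, h2⟩
    refine ⟨k + 1, ?_⟩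
    apply Subtype.ext
    have := congrArg Subtype.val hk
    simp only [Subgroup.coe_pow, Subgroup.coe_one] at this ⊢
    rw [pow_succ', pow_mul]
    exact this
  have := Cfsg.Agent.Lib.Helper47.le_pCoreOf hTL hLT hTp
  exact le_trans (inf_le_inf_right _ le_sup_left) this

theorem F5c (h : Ctx p A Bb a) {x : G} (hx : Cand p Bb a x) :
    ¬ A ≤ pCoreOf p (A ⊔ cj x A) := by
  intro hle
  set L := A ⊔ cj x A with hL
  obtain ⟨hyL, hy⟩ := F3 h hx
  set y := a⁻¹ * (x * a * x⁻¹) with hydef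
  set Kb := pPrimeCore p (G ⧸ pCore p G) with hKb
  haveI : Kb.Normal := inferInstance
  set W := L.map (qm p G) ⊓ Kb with hW
  set P := (pCoreOf p L).map (qm p G) with hP
  have hPL : P ≤ L.map (qm p G) := Subgroup.map_mono (Cfsg.Agent.Lib.Helper47.pCoreOf_le p L)
  have hLW : L.map (qm p G) ≤ normalizer (W : Set (G ⧸ pCore p G)) := by
    apply le_normalizer_inf le_normalizer
    rw [Subgroup.normalizer_eq_top]
    exact le_top
  have hLP : L.map (qm p G) ≤ normalizer (P : Set (G ⧸ pCore p G)) := by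
    refine le_trans ?_ (Subgroup.le_normalizer_map (qm p G))
    exact Subgroup.map_mono (Cfsg.Agent.Lib.Helper47.le_normalizer_pCoreOf p L)
  have hPp : IsPGroup p P := (Cfsg.Agent.Lib.Helper47.pCoreOf_isPGroup p L).map _
  have hKc : (Nat.card Kb).Coprime p := Cfsg.Agent.Lib.Helper30.pPrimeCore_card_coprime p
  have hPW : P ⊓ W = ⊥ := by
    rw [eq_bot_iff]
    intro z hz
    obtain ⟨hzP, hzW⟩ := mem_inf.mp hz
    obtain ⟨k, hk⟩ := hPp ⟨z, hzP⟩
    have hk' : z ^ p ^ k = 1 := by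
      have := congrArg Subtype.val hk
      simpa using this
    have hzK : z ∈ Kb := (mem_inf.mp hzW).2
    have hzn : z ^ Nat.card Kb = 1 := by
      have := pow_card_eq_one' (G := Kb) (x := ⟨z, hzK⟩)
      exact congrArg Subtype.val this
    rw [Subgroup.mem_bot]
    exact Cfsg.Agent.Lib.Helper47.eq_one_of_pow_coprime hKc hzn hk'
  have hcomm := commute_of_inf_eq_bot (hPL.trans hLW) ((inf_le_left : W ≤ _).trans hLP) hPW
  have habP : qm p G a ∈ P := ⟨a, hle h.haA, rfl⟩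
  have huW : qm p G y ∈ W := mem_inf.mpr ⟨⟨y, hyL, rfl⟩, hy.1⟩
  exact hy.2.2 (hcomm _ habP _ huW)

theorem F5 (h : Ctx p A Bb a) {x : G} (hx : Cand p Bb a x) :
    (A ⊓ pCoreOf p (A ⊔ cj x A)).relIndex A = p ∧
      ⁅A ⊓ pCoreOf p (A ⊔ cj x A), A ⊔ cj x A⁆ ≤ pCore p G := by
  have hp : p.Prime := Fact.out
  set L := A ⊔ cj x A with hL
  set B := A ⊓ Bb.comap (qm p G) with hB
  have hBle : B ≤ A ⊓ pCoreOf p L := le_inf inf_le_left (F5b h hx)
  have hmul := Subgroup.relIndex_mul_relIndex B (A ⊓ pCoreOf p L) A hBle inf_le_left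
  rw [F5a h] at hmul
  have hne1 : (A ⊓ pCoreOf p L).relIndex A ≠ 1 := by
    intro h1
    exact F5c h hx ((Subgroup.relIndex_eq_one.mp h1).trans inf_le_right)
  have hdvd : (A ⊓ pCoreOf p L).relIndex A ∣ p := Dvd.intro_left _ hmul
  have hidx : (A ⊓ pCoreOf p L).relIndex A = p := by
    rcases (Nat.dvd_prime hp).mp hdvd with h1 | h1
    · exact absurd h1 hne1
    · exact h1
  refine ⟨hidx, ?_⟩
  have hone : B.relIndex (A ⊓ pCoreOf p L) = 1 := by
    rw [hidx] at hmul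
    have : B.relIndex (A ⊓ pCoreOf p L) * p = 1 * p := by rw [hmul, one_mul]
    exact Nat.eq_of_mul_eq_mul_right hp.pos this
  have hle : A ⊓ pCoreOf p L ≤ B := Subgroup.relIndex_eq_one.mp hone
  rw [Subgroup.commutator_le]
  intro g hg l hl
  have hgB : qm p G g ∈ Bb := (mem_inf.mp (hle hg)).2
  have hlc : qm p G l ∈ centralizer (Bb : Set (G ⧸ pCore p G)) := F2 h hx ⟨l, hl, rfl⟩
  rw [← qm_eq_one_iff, map_commutatorElement, commutatorElement_eq_one_iff_mul_comm]
  rw [mem_centralizer_iff] at hlc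
  exact hlc _ hgB

theorem F6 (hAp : IsPGroup p A) {x : G}
    (hxR : x ∈ (pResidual p ↥(A ⊔ cj x A)).map (A ⊔ cj x A).subtype) :
    ⁅(pResidual p ↥(A ⊔ cj x A)).map (A ⊔ cj x A).subtype, A⁆ =
      (pResidual p ↥(A ⊔ cj x A)).map (A ⊔ cj x A).subtype := by
  set L := A ⊔ cj x A with hL
  set R := (pResidual p ↥L).map L.subtype with hR
  haveI hRn' : (pResidual p ↥L).Normal := Cfsg.Agent.Lib.Helper47.pResidual_normal p ↥L
  have hRL : R ≤ L := map_subtype_le _
  have hLR : L ≤ normalizer (R : Set G) :=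
    Cfsg.Agent.Lib.Helper47.le_normalizer_map_subtype_of_normal L _
  have hAL : A ≤ L := le_sup_left
  set D := ⁅R, A⁆ with hD
  have hDR : D ≤ R := by
    rw [hD, Subgroup.commutator_le]
    intro r hr u hu
    have h1 : u * r⁻¹ * u⁻¹ ∈ R := conj_mem_of_le_normalizer hLR (hAL hu) (R.inv_mem hr)
    have : ⁅r, u⁆ = r * (u * r⁻¹ * u⁻¹) := by rw [commutatorElement_def]; group
    rw [this]
    exact R.mul_mem hr h1
  apply le_antisymm hDR
  have hLE : L ≤ D ⊔ A := by
    apply sup_le le_sup_right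
    rintro _ ⟨u, hu, rfl⟩
    have e : (MulAut.conj x).toMonoidHom u = ⁅x, u⁆ * u := by
      simp [commutatorElement_def]
    rw [e]
    exact Subgroup.mul_mem _
      (le_sup_left (a := D) (Subgroup.commutator_mem_commutator hxR hu))
      (le_sup_right (b := A) hu)
  have hAD : A ≤ normalizer (D : Set G) :=
    le_normalizer_commutator' (hAL.trans hLR) le_normalizer
  have hDn : L ≤ normalizer (D : Set G) := hLE.trans (sup_le le_normalizer hAD)
  have hDL : D ≤ L := hDR.trans hRL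
  haveI : (D.subgroupOf L).Normal := Subgroup.normal_subgroupOf_of_le_normalizer hDn
  have hT : IsPGroup p (A.subgroupOf L) := hAp.comap_subtype
  have hsup : A.subgroupOf L ⊔ D.subgroupOf L = ⊤ := by
    rw [← Subgroup.subgroupOf_sup hAL hDL, Subgroup.subgroupOf_eq_top, sup_comm]
    exact hLE
  have hle := Cfsg.Agent.Lib.Helper47.pResidual_le_of_sup_eq_top (A.subgroupOf L)
    (D.subgroupOf L) hT hsup
  have := Subgroup.map_mono (f := L.subtype) hle
  rw [Subgroup.subgroupOf_map_subtype] at this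
  exact this.trans inf_le_left

theorem exists_good (h : Ctx p A Bb a) (hex : ∃ x, Cand p Bb a x) :
    ∃ x, Cand p Bb a x ∧ x ∈ (pResidual p ↥(A ⊔ cj x A)).map (A ⊔ cj x A).subtype := by
  classical
  have hp : p.Prime := Fact.out
  have hS : ∃ n, ∃ x, Cand p Bb a x ∧ Nat.card ↥(A ⊔ cj x A) = n := by
    obtain ⟨x, hx⟩ := hex
    exact ⟨_, x, hx, rfl⟩
  obtain ⟨x, hx, hxn⟩ := Nat.find_spec hS
  have hmin : ∀ x', Cand p Bb a x' → Nat.card ↥(A ⊔ cj x A) ≤ Nat.card ↥(A ⊔ cj x' A) := by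
    intro x' hx'
    rw [hxn]
    exact Nat.find_min' hS ⟨x', hx', rfl⟩
  set L := A ⊔ cj x A with hL
  have hkey : ∀ y, y ∈ L → Cand p Bb a y → A ⊔ cj y A = L := by
    intro y hyL hy
    have hle : A ⊔ cj y A ≤ L := by
      apply sup_le le_sup_left
      rintro _ ⟨u, hu, rfl⟩
      exact L.mul_mem (L.mul_mem hyL (le_sup_left (a := A) hu)) (L.inv_mem hyL)
    exact Subgroup.eq_of_le_of_card_ge hle (hmin y hy)
  obtain ⟨hyL, hy⟩ := F3 h hx
  set y := a⁻¹ * (x * a * x⁻¹) with hydef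
  set ub := qm p G y with hub
  set Kb := pPrimeCore p (G ⧸ pCore p G) with hKb
  have hKc : (Nat.card Kb).Coprime p := Cfsg.Agent.Lib.Helper30.pPrimeCore_card_coprime p
  have hubK : ub ∈ Kb := hy.1
  have hn1 : (orderOf ub).Coprime p := by
    have : orderOf ub ∣ Nat.card Kb := by
      have := orderOf_dvd_natCard (⟨ub, hubK⟩ : Kb)
      rwa [Subgroup.orderOf_mk] at this
    exact Nat.Coprime.coprime_dvd_left this hKc
  have hub1 : ub ≠ 1 := by
    intro h1
    apply hy.2.2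
    have h1' : qm p G y = 1 := h1
    rw [h1']; simp
  have hord : 1 < orderOf ub := by
    have h0 : 0 < orderOf ub := orderOf_pos ub
    have h1 : orderOf ub ≠ 1 := fun h => hub1 (orderOf_eq_one_iff.mp h)
    omega
  obtain ⟨j, s, hs, hys⟩ := Nat.exists_eq_pow_mul_and_not_dvd (orderOf_pos y).ne' p hp.ne_one
  have hcop : (p ^ j).Coprime (orderOf ub) := Nat.Coprime.pow_left j hn1.symm
  obtain ⟨m, -, hm⟩ := Nat.exists_mul_mod_eq_one_of_coprime hcop hord
  set y' := y ^ (p ^ j * m) with hy'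
  have hqy' : qm p G y' = ub := by
    rw [hy', map_pow, ← pow_mod_orderOf, hm, pow_one]
  have hy'L : y' ∈ L := L.pow_mem hyL _
  have hCand' : Cand p Bb a y' := by
    unfold Cand
    rw [hqy']
    exact hy
  have hord' : (orderOf y').Coprime p := by
    have h1 : y' ^ s = 1 := by
      rw [hy', ← pow_mul]
      have : p ^ j * m * s = orderOf y * m := by rw [hys]; ring
      rw [this, pow_mul, pow_orderOf_eq_one, one_pow]
    have h2 : orderOf y' ∣ s := orderOf_dvd_of_pow_eq_one h1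
    have h3 : s.Coprime p := ((Nat.Prime.coprime_iff_not_dvd hp).mpr hs).symm
    exact Nat.Coprime.coprime_dvd_left h2 h3
  have hLL := hkey y' hy'L hCand'
  refine ⟨y', hCand', ?_⟩
  have hgen : ∀ L' : Subgroup G, L' = L → y' ∈ (pResidual p ↥L').map L'.subtype := by
    rintro _ rfl
    refine ⟨⟨y', hy'L⟩, Subgroup.subset_closure ?_, rfl⟩
    show Nat.Coprime (orderOf (⟨y', hy'L⟩ : L)) p
    rw [Subgroup.orderOf_mk]; exact hord'
  exact hgen _ hLL

end main

/-- Let M be a finite p-soluble group and A a p-subgroup of M with Φ(A) ≤ O_p(M) but A ≰ O_p(M). Then there is x ∈ O_{p,p'}(M) such that L = ⟨A, xAx⁻¹⟩ satisfies: x ∈ O^p(L) and O^p(L) ≤ O_{p,p'}(M); [O^p(L), A] = O^p(L); A ∩ O_p(L) has index p in A; and [A ∩ O_p(L), L] ≤ O_p(M). Here O^p(L) is the subgroup generated by the p'-elements of L and O_{p,p'}(M) the preimage of O_{p'}(M/O_p(M)). -/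
theorem result {M : Type*} [Group M] [Finite M] {p : ℕ} [Fact p.Prime] (hM : Cfsg.IsPSolvable p M) (A : Subgroup M) (hA : IsPGroup p A) (hΦ : (frattini ↥A).map A.subtype ≤ Cfsg.pCore p M) (hnot : ¬ A ≤ Cfsg.pCore p M) : ∃ x ∈ (Cfsg.pPrimeCore p (M ⧸ Cfsg.pCore p M)).comap (QuotientGroup.mk' (Cfsg.pCore p M)), x ∈ (Cfsg.pResidual p ↥(A ⊔ A.map (MulAut.conj x).toMonoidHom)).map (A ⊔ A.map (MulAut.conj x).toMonoidHom).subtype ∧ (Cfsg.pResidual p ↥(A ⊔ A.map (MulAut.conj x).toMonoidHom)).map (A ⊔ A.map (MulAut.conj x).toMonoidHom).subtype ≤ (Cfsg.pPrimeCore p (M ⧸ Cfsg.pCore p M)).comap (QuotientGroup.mk' (Cfsg.pCore p M)) ∧ ⁅(Cfsg.pResidual p ↥(A ⊔ A.map (MulAut.conj x).toMonoidHom)).map (A ⊔ A.map (MulAut.conj x).toMonoidHom).subtype, A⁆ = (Cfsg.pResidual p ↥(A ⊔ A.map (MulAut.conj x).toMonoidHom)).map (A ⊔ A.map (MulAut.conj x).toMonoidHom).subtype ∧ (A ⊓ (Cfsg.pCore p ↥(A ⊔ A.map (MulAut.conj x).toMonoidHom)).map (A ⊔ A.map (MulAut.conj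 x).toMonoidHom).subtype).relIndex A = p ∧ ⁅A ⊓ (Cfsg.pCore p ↥(A ⊔ A.map (MulAut.conj x).toMonoidHom)).map (A ⊔ A.map (MulAut.conj x).toMonoidHom).subtype, A ⊔ A.map (MulAut.conj x).toMonoidHom⁆ ≤ Cfsg.pCore p M := by
  classical
  have hp : p.Prime := Fact.out
  set O := pCore p M with hO
  set Ab := A.map (qm p M) with hAb
  set Kb := pPrimeCore p (M ⧸ pCore p M) with hKb
  haveI : Kb.Normal := inferInstance
  -- `Ā` is elementary abelian
  have hcomm : ∀ u ∈ A, ∀ v ∈ A, ⁅u, v⁆ ∈ O := by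
    intro u hu v hv
    have h1 : ⁅(⟨u, hu⟩ : A), ⟨v, hv⟩⁆ ∈ commutator A := by
      rw [commutator_def]
      exact Subgroup.commutator_mem_commutator (Subgroup.mem_top _) (Subgroup.mem_top _)
    have h2 := Cfsg.Agent.Lib.Helper24.commutator_le_frattini_of_isPGroup hA h1
    have h3 : ((⁅(⟨u, hu⟩ : A), ⟨v, hv⟩⁆ : A) : M) ∈ (frattini ↥A).map A.subtype := ⟨_, h2, rfl⟩
    have h4 := hΦ h3
    simpa [commutatorElement_def] using h4
  have hpow : ∀ u ∈ A, u ^ p ∈ O := by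
    intro u hu
    have h2 := Cfsg.Agent.Lib.Helper24.pow_mem_frattini_of_isPGroup hA (⟨u, hu⟩ : A)
    have h3 : (((⟨u, hu⟩ : A) ^ p : A) : M) ∈ (frattini ↥A).map A.subtype := ⟨_, h2, rfl⟩
    have h4 := hΦ h3
    simpa using h4
  have hab : ∀ u ∈ Ab, ∀ v ∈ Ab, u * v = v * u := by
    rintro _ ⟨u, hu, rfl⟩ _ ⟨v, hv, rfl⟩
    have := hcomm u hu v hv
    rw [← qm_eq_one_iff, map_commutatorElement, commutatorElement_eq_one_iff_mul_comm] at this
    exact this
  have hexp : ∀ u ∈ Ab, u ^ p = 1 := by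
    rintro _ ⟨u, hu, rfl⟩
    have := hpow u hu
    rw [← qm_eq_one_iff, map_pow] at this
    exact this
  have hAbab : IsMulCommutative Ab :=
    ⟨⟨fun x y => Subtype.ext (hab x x.2 y y.2)⟩⟩
  have hAbp : IsPGroup p Ab := hA.map _
  have hAb1 : Ab ≠ ⊥ := by
    intro h
    apply hnot
    intro u hu
    have : qm p M u ∈ Ab := ⟨u, hu, rfl⟩
    rw [h, Subgroup.mem_bot] at this
    exact qm_eq_one_iff.mp this
  have hKn : Ab ≤ normalizer (Kb : Set (M ⧸ pCore p M)) := by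
    rw [Subgroup.normalizer_eq_top]; exact le_top
  have hKcop : (Nat.card Kb).Coprime p := Cfsg.Agent.Lib.Helper30.pPrimeCore_card_coprime p
  have hcon : centralizer (Kb : Set (M ⧸ pCore p M)) ≤ Kb :=
    centralizer_pPrimeCore_le_of_isPSolvable
      (Cfsg.Agent.Lib.Helper76.isPSolvable_quotient (pCore p M) hM) pCore_quot_eq_bot
  obtain ⟨Bb, hBA, ab, habA, hgen, k, hk, hak⟩ :=
    exists_cocyclic_noncentral Ab Kb hAbab hAbp hAb1 hKn hKcop hcon
  obtain ⟨a, haA, rfl⟩ := habA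
  obtain ⟨x₀, rfl⟩ := qm_surj (p := p) k
  have hne : Bb ≠ Ab := by
    rintro rfl
    apply hak
    have := (mem_inf.mp hk).2
    rw [mem_centralizer_iff] at this
    exact this _ ⟨a, haA, rfl⟩
  have hctx : Ctx p A Bb a := ⟨haA, hA, hab, hexp, hBA, hgen, hne⟩
  have hcand : Cand p Bb a x₀ := ⟨(mem_inf.mp hk).1, (mem_inf.mp hk).2, hak⟩
  obtain ⟨x, hx, hxR⟩ := exists_good hctx ⟨x₀, hcand⟩
  obtain ⟨h4, h5⟩ := F5 hctx hx
  exact ⟨x, hx.1, hxR, F4 hctx hx, F6 hA hxR, h4, h5⟩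

end Cfsg.Agent.S3754
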