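import Cfsg.Statements.S3755
import Cfsg.Agent.S3734
import Cfsg.Agent.Lib.Helper24.PxQ
import Cfsg.Agent.Lib.Helper66.OCGroup
import Cfsg.Agent.Lib.Helper10.Card
import Cfsg.Agent.Lib.Helper62.Conj
import Cfsg.Agent.Lib.Helper62.AbelianGen
import Cfsg.Agent.Lib.Helper62.SnIn
import Cfsg.Agent.Lib.Helper30.PPrimeCore

set_option autoImplicit false
set_option linter.style.haveILetI false
set_option linter.unusedSectionVars false
open Cfsg

namespace Cfsg.Agent.S3755

open Subgroup
open Cfsg.Agent.Lib.Helper62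

section aux
variable {X : Type*} [Group X]

/-- odd order: commuting with the square gives commuting. -/
lemma commute_of_commute_sq {y w : X} {n : ℕ} (hn : Odd n) (hy : y ^ n = 1)
    (h : Commute (y ^ 2) w) : Commute y w := by
  obtain ⟨m, rfl⟩ := hn
  have e : y = (y ^ 2) ^ (m + 1) := by
    rw [← pow_mul]
    have : 2 * (m + 1) = (2 * m + 1) + 1 := by ring
    rw [this, pow_succ, hy, one_mul]
  rw [e]
  exact h.pow_left _

lemma commute_pow_of_coset {y w c : X} {n k : ℕ} (hn : Odd n) (hy : y ^ n = 1)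
    (hc : Commute y c) (hc2 : c ^ 2 = 1) (h : y ^ k * w = w * c * y ^ k) :
    Commute (y ^ k) w := by
  have key : ∀ m : ℕ, y ^ (k * m) * w = w * c ^ m * y ^ (k * m) := by
    intro m
    induction m with
    | zero => simp
    | succ m ih =>
      have hc' : Commute (y ^ k) (c ^ m) := (hc.pow_left k).pow_right m
      have e1 : k * (m + 1) = k + k * m := by ring
      calc y ^ (k * (m + 1)) * w = y ^ k * (y ^ (k * m) * w) := by
            rw [e1, pow_add, mul_assoc]
        _ = (y ^ k * w) * c ^ m * y ^ (k * m) := by rw [ih]; simp only [mul_assoc]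
        _ = w * c * (y ^ k * c ^ m) * y ^ (k * m) := by rw [h]; simp only [mul_assoc]
        _ = w * c * (c ^ m * y ^ k) * y ^ (k * m) := by rw [hc'.eq]
        _ = w * c ^ (m + 1) * y ^ (k * (m + 1)) := by
            rw [e1, pow_add y k (k * m), pow_succ' c m]; simp only [mul_assoc]
  have h1 := key n
  have hyn : y ^ (k * n) = 1 := by rw [mul_comm, pow_mul, hy, one_pow]
  rw [hyn, one_mul, mul_one] at h1
  have hcn : c ^ n = 1 := by
    have := mul_left_cancel (a := w) (b := 1) (c := c ^ n) (by rw [mul_one]; exact h1)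
    exact this.symm
  obtain ⟨m, rfl⟩ := hn
  have hc1 : c = 1 := by
    rw [pow_succ, pow_mul, hc2, one_pow, one_mul] at hcn
    exact hcn
  rw [hc1, mul_one] at h
  exact h

lemma cube_commute [Finite X] {W : Subgroup X} {y : X} {n : ℕ} (hn : Odd n) (hy : y ^ n = 1)
    (hW2 : ∀ u ∈ W, u ^ 2 = 1) (hyW : ∀ u ∈ W, y * u * y⁻¹ ∈ W)
    (hidx : (W ⊓ centralizer ({y} : Set X)).relIndex W ≤ 4) :
    ∀ w ∈ W, Commute (y ^ 3) w := by
  intro w hw
  set C := W ⊓ centralizer ({y} : Set X) with hC
  have hpowW : ∀ i : ℕ, y ^ i * w * (y ^ i)⁻¹ ∈ W := by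
    intro i
    induction i with
    | zero => simpa using hw
    | succ i ih =>
      have := hyW _ ih
      have e : y ^ (i + 1) * w * (y ^ (i + 1))⁻¹ = y * (y ^ i * w * (y ^ i)⁻¹) * y⁻¹ := by
        rw [pow_succ']; group
      rw [e]; exact this
  let g : ℕ → W ⧸ C.subgroupOf W :=
    fun i => QuotientGroup.mk ⟨y ^ i * w * (y ^ i)⁻¹, hpowW i⟩
  -- the key claim
  have claim : ∀ i k : ℕ, g i = g (i + k) → Commute (y ^ k) w := by
    intro i k hg
    have h1 : (⟨y ^ i * w * (y ^ i)⁻¹, hpowW i⟩ : W)⁻¹ * ⟨y ^ (i + k) * w * (y ^ (i + k))⁻¹, hpowW (i + k)⟩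
        ∈ C.subgroupOf W := QuotientGroup.eq.mp hg
    rw [mem_subgroupOf] at h1
    simp only [Subgroup.coe_mul, Subgroup.coe_inv] at h1
    set d := (y ^ i * w * (y ^ i)⁻¹)⁻¹ * (y ^ (i + k) * w * (y ^ (i + k))⁻¹) with hd
    have hdy : Commute y d := by
      have := (mem_inf.mp h1).2
      rw [mem_centralizer_iff] at this
      exact (this y rfl)
    set c := w⁻¹ * y ^ k * w * (y ^ k)⁻¹ with hc
    have hdc : d = y ^ i * c * (y ^ i)⁻¹ := by
      rw [hd, hc, pow_add]; group
    have hcd : c = d := by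
      have h2 : Commute (y ^ i) d := hdy.pow_left i
      have : c = (y ^ i)⁻¹ * d * y ^ i := by rw [hdc]; group
      rw [this, mul_assoc, ← h2.eq, inv_mul_cancel_left]
    have hcy : Commute y c := hcd ▸ hdy
    have hc2 : c ^ 2 = 1 := hW2 c (hcd ▸ h1.1)
    apply commute_pow_of_coset hn hy hcy hc2
    rw [hc]; group
  have hcard : Nat.card (W ⧸ C.subgroupOf W) = C.relIndex W := rfl
  have hninj : ¬ Function.Injective (fun i : Fin 5 => g i) := fun hinj => by
    have := Nat.card_le_card_of_injective _ hinj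
    rw [Nat.card_fin] at this; omega
  rw [Function.Injective] at hninj
  push Not at hninj
  obtain ⟨i, j, hfij, hij⟩ := hninj
  have fin : ∀ i j : ℕ, i < j → j < 5 → g i = g j → Commute (y ^ 3) w := by
    intro i j hlt hj5 hg
    obtain ⟨k, rfl⟩ := Nat.exists_eq_add_of_lt hlt
    have hk := claim i (k + 1) (by rw [← add_assoc]; exact hg)
    have hk4 : k ≤ 3 := by omega
    have hyw : Commute (y ^ 3) w := by
      interval_cases k
      · simpa using hk.pow_left 3
      · exact (commute_of_commute_sq hn hy hk).pow_left 3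
      · exact hk
      · have h2 : Commute ((y ^ 2) ^ 2) w := by rw [← pow_mul]; exact hk
        have hy2 : (y ^ 2) ^ n = 1 := by rw [← pow_mul, mul_comm, pow_mul, hy, one_pow]
        exact (commute_of_commute_sq hn hy (commute_of_commute_sq hn hy2 h2)).pow_left 3
    exact hyw
  rcases lt_or_gt_of_ne (fun h => hij (Fin.ext h) : (i : ℕ) ≠ j) with h | h
  · exact fin i j h j.2 hfij
  · exact fin j i h i.2 hfij.symm

end aux

section core
variable {X : Type*} [Group X] [Finite X]

lemma isPGroup_of_elemAb {A : Subgroup X} (hA : IsElementaryAbelian 2 A) : IsPGroup 2 A := by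
  intro x
  refine ⟨1, ?_⟩
  have := hA.2 x x.2
  apply Subtype.ext
  simpa using this

lemma card_sup_zpowers_le_two (B : Subgroup X) (a : X) (ha : a ^ 2 = 1)
    (hc : ∀ x ∈ B, x * a = a * x) :
    Nat.card ↥(B ⊔ zpowers a) ≤ Nat.card B * 2 := by
  have hle : B ≤ normalizer ((zpowers a : Subgroup X) : Set X) := by
    refine le_trans ?_ (centralizer_le_normalizer _)
    rw [le_centralizer_iff, zpowers_le, mem_centralizer_iff]
    intro h hh
    exact hc h hh
  have h := Cfsg.Agent.Lib.Helper10.card_sup_mul_card_inf hle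
  have hpos : 0 < Nat.card ↥(B ⊓ zpowers a) := Nat.card_pos
  have hz : Nat.card (zpowers a) ≤ 2 := by
    rw [Nat.card_zpowers]
    exact Nat.le_of_dvd (by norm_num) (orderOf_dvd_of_pow_eq_one ha)
  calc Nat.card ↥(B ⊔ zpowers a) ≤ Nat.card ↥(B ⊔ zpowers a) * Nat.card ↥(B ⊓ zpowers a) :=
        Nat.le_mul_of_pos_right _ hpos
    _ = Nat.card B * Nat.card (zpowers a) := h
    _ ≤ Nat.card B * 2 := Nat.mul_le_mul_left _ hz

theorem core (M V K : Subgroup X) (hV : IsElementaryAbelian 2 V)
    (hMV : M ≤ normalizer (V : Set X)) (hfaith : M ⊓ centralizer (V : Set X) = ⊥)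
    (hKM : K ≤ M) (hKn : M ≤ normalizer (K : Set X)) (hKodd : (Nat.card K).Coprime 2)
    (hcon : M ⊓ centralizer (K : Set X) ≤ K) :
    ∀ (n : ℕ) (A : Subgroup X), Nat.card A = n → A ≤ M → IsElementaryAbelian 2 A →
      (V ⊓ centralizer (A : Set X)).relIndex V < Nat.card A ^ 2 →
      ∃ a y : X, a ∈ M ∧ y ∈ M ∧ a ^ 2 = 1 ∧ y ≠ 1 ∧ y ^ 3 = 1 ∧ a * y * a⁻¹ = y⁻¹ := by
  intro n
  induction n using Nat.strong_induction_on with
  | _ n ih =>
  intro A hAn hAM hA hsmall
  have hAK : A ≤ normalizer (K : Set X) := hAM.trans hKn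
  have hA2 : IsPGroup 2 A := isPGroup_of_elemAb hA
  have hV2 : IsPGroup 2 V := isPGroup_of_elemAb hV
  have hcop : (Nat.card A).Coprime (Nat.card K) := by
    obtain ⟨m, hm⟩ := hA2.exists_card_eq
    rw [hm]
    exact (Nat.Coprime.pow_left m hKodd.symm)
  obtain ⟨hgen, -⟩ := Cfsg.Agent.S3734.result A K hA.1 hAK hcop
  have hKoddn : Odd (Nat.card K) := by
    rw [← Nat.not_even_iff_odd, even_iff_two_dvd]
    intro h2
    have := Nat.Coprime.eq_one_of_dvd hKodd.symm h2
    omega
  -- A ≠ ⊥
  have hA1 : A ≠ ⊥ := by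
    rintro rfl
    have h1 : (V ⊓ centralizer (((⊥ : Subgroup X) : Subgroup X) : Set X)) = V := by
      apply inf_eq_left.mpr
      intro v _
      rw [mem_centralizer_iff]
      intro z hz
      have : z = 1 := by simpa using hz
      subst this; simp
    rw [h1] at hsmall
    simp at hsmall
  -- A does not centralize K
  have hnc : ¬ A ≤ centralizer (K : Set X) := by
    intro h
    have hAKle : A ≤ K := fun x hx => hcon ⟨hAM hx, h hx⟩
    apply hA1
    have hdvd : Nat.card A ∣ Nat.card K := Subgroup.card_dvd_of_le hAKle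
    have : Nat.card A = 1 := Nat.Coprime.eq_one_of_dvd hcop hdvd
    exact Subgroup.card_eq_one.mp this
  have hex : ∃ B : Subgroup X, (B ≤ A ∧ ∃ a ∈ A, B ⊔ zpowers a = A) ∧
      ¬ (K ⊓ centralizer (B : Set X) ≤ centralizer (A : Set X)) := by
    by_contra hcon'
    push Not at hcon'
    apply hnc
    rw [le_centralizer_iff]
    have hle : (⨆ B ∈ {B : Subgroup X | B ≤ A ∧ ∃ a ∈ A, B ⊔ Subgroup.zpowers a = A},
        K ⊓ Subgroup.centralizer (B : Set X)) ≤ centralizer (A : Set X) := by
      apply iSup₂_le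
      intro B hB
      exact hcon' B hB
    rw [hgen] at hle
    exact hle
  obtain ⟨B, ⟨hBA, a, haA, hBa⟩, hnot⟩ := hex
  have ha2 : a ^ 2 = 1 := hA.2 a haA
  have hainv : a⁻¹ = a := by
    rw [inv_eq_iff_mul_eq_one, ← pow_two]; exact ha2
  have haM : a ∈ M := hAM haA
  have hAcomm : ∀ x ∈ A, ∀ z ∈ A, x * z = z * x := by
    intro x hx z hz
    have := hA.1.is_comm.comm (⟨x, hx⟩ : A) ⟨z, hz⟩
    exact congrArg Subtype.val this
  have haB : a ∈ centralizer (B : Set X) := by
    rw [mem_centralizer_iff]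
    intro b hb
    exact hAcomm b (hBA hb) a haA
  obtain ⟨k, hk, hknot⟩ := SetLike.not_le_iff_exists.mp hnot
  have hkK : k ∈ K := (mem_inf.mp hk).1
  have hkB : k ∈ centralizer (B : Set X) := (mem_inf.mp hk).2
  have hak : a * k ≠ k * a := by
    intro h
    apply hknot
    have hle : A ≤ centralizer ({k} : Set X) := by
      rw [← hBa]
      apply sup_le
      · intro b hb
        rw [mem_centralizer_iff]
        intro z hz
        rw [Set.mem_singleton_iff] at hz
        subst hz
        rw [mem_centralizer_iff] at hkB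
        exact (hkB b hb).symm
      · rw [zpowers_le, mem_centralizer_iff]
        intro z hz
        rw [Set.mem_singleton_iff] at hz
        subst hz
        exact h.symm
    rw [mem_centralizer_iff]
    intro x hx
    have := hle hx
    rw [mem_centralizer_iff] at this
    exact (this k rfl).symm
  have hakK : a * k * a⁻¹ ∈ K := conj_mem_of_le_normalizer hKn haM hkK
  set y := k⁻¹ * (a * k * a⁻¹) with hy
  have hyK : y ∈ K := K.mul_mem (K.inv_mem hkK) hakK
  have hyM : y ∈ M := hKM hyK
  have hyB : y ∈ centralizer (B : Set X) :=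
    (centralizer (B : Set X)).mul_mem ((centralizer (B : Set X)).inv_mem hkB)
      ((centralizer (B : Set X)).mul_mem ((centralizer (B : Set X)).mul_mem haB hkB)
        ((centralizer (B : Set X)).inv_mem haB))
  have hy1 : y ≠ 1 := by
    intro h
    apply hak
    rw [hy, inv_mul_eq_one] at h
    calc a * k = (a * k * a⁻¹) * a := by group
      _ = k * a := by rw [← h]
  have hay : a * y * a⁻¹ = y⁻¹ := by
    rw [hy, hainv]
    have e : (k⁻¹ * (a * k * a))⁻¹ = a⁻¹ * k⁻¹ * a⁻¹ * k := by group
    rw [e, hainv]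
    have : a * (k⁻¹ * (a * k * a)) * a = a * k⁻¹ * a * k * (a * a) := by group
    rw [this, ← pow_two, ha2, mul_one]
  have hyn : y ^ Nat.card K = 1 := by
    have := pow_card_eq_one' (G := K) (x := ⟨y, hyK⟩)
    exact congrArg Subtype.val this
  -- case split
  by_cases hBsmall : (V ⊓ centralizer (B : Set X)).relIndex V < Nat.card B ^ 2
  · have hBne : B ≠ A := by
      rintro rfl
      exact hnot inf_le_right
    have hlt : Nat.card B < n := by
      rw [← hAn]
      exact Set.Finite.card_lt_card (Set.toFinite (A : Set X))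
        (SetLike.coe_ssubset_coe.mpr (lt_of_le_of_ne hBA hBne))
    have hB : IsElementaryAbelian 2 B := by
      refine ⟨⟨⟨fun x z => ?_⟩⟩, fun b hb => hA.2 b (hBA hb)⟩
      apply Subtype.ext
      exact hAcomm x (hBA x.2) z (hBA z.2)
    exact ih (Nat.card B) hlt B rfl (hBA.trans hAM) hB hBsmall
  · push Not at hBsmall
    set W := V ⊓ centralizer (B : Set X) with hW
    set U := V ⊓ centralizer (A : Set X) with hU
    have hUW : U ≤ W := inf_le_inf_left _ (centralizer_le hBA)
    have hWV : W ≤ V := inf_le_left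
    have hmul := relIndex_mul_relIndex U W V hUW hWV
    have hAB : Nat.card A ≤ Nat.card B * 2 := by
      have := card_sup_zpowers_le_two B a ha2 (fun x hx => hAcomm x (hBA hx) a haA)
      rw [hBa] at this
      exact this
    have hrel : ∀ H L : Subgroup X, H.relIndex L ≠ 0 := fun H L => Subgroup.index_ne_zero_of_finite
    have hWpos : 0 < W.relIndex V := Nat.pos_of_ne_zero (hrel W V)
    have hUW4 : U.relIndex W < 4 := by
      by_contra h
      push Not at h
      have h1 : Nat.card A ^ 2 ≤ 4 * Nat.card B ^ 2 := by nlinarith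
      have h2 : 4 * W.relIndex V ≤ U.relIndex W * W.relIndex V := Nat.mul_le_mul_right _ h
      have h3 : 4 * Nat.card B ^ 2 ≤ 4 * W.relIndex V := Nat.mul_le_mul_left _ hBsmall
      omega
    have hW2 : IsPGroup 2 W := hV2.to_le hWV
    have hUW2 : U.relIndex W ≤ 2 := by
      obtain ⟨m, hm⟩ := hW2.exists_card_eq
      have hd : U.relIndex W ∣ 2 ^ m := hm ▸ relIndex_dvd_card U W
      obtain ⟨e, -, he⟩ := (Nat.dvd_prime_pow Nat.prime_two).mp hd
      rw [he] at hUW4 ⊢
      have : e < 2 := by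
        by_contra hge
        push Not at hge
        have : 2 ^ 2 ≤ 2 ^ e := Nat.pow_le_pow_right (by norm_num) hge
        omega
      interval_cases e <;> norm_num
    -- normalization of W by a and y
    have hnormW : ∀ x ∈ M, x ∈ centralizer (B : Set X) → ∀ u ∈ W, x * u * x⁻¹ ∈ W := by
      intro x hxM hxB u hu
      refine mem_inf.mpr ⟨conj_mem_of_le_normalizer hMV hxM (mem_inf.mp hu).1, ?_⟩
      exact (centralizer (B : Set X)).mul_mem ((centralizer (B : Set X)).mul_mem hxB (mem_inf.mp hu).2)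
        ((centralizer (B : Set X)).inv_mem hxB)
    set U₁ := W ⊓ centralizer ({a} : Set X) with hU₁
    have hUU₁ : U ≤ U₁ := by
      intro u hu
      refine mem_inf.mpr ⟨hUW hu, ?_⟩
      rw [mem_centralizer_iff]
      intro z hz
      rw [Set.mem_singleton_iff] at hz
      subst hz
      have := (mem_inf.mp hu).2
      rw [mem_centralizer_iff] at this
      exact this z haA
    have hU₁2 : U₁.relIndex W ≤ 2 :=
      (relIndex_le_of_le_left hUU₁ (hrel _ _)).trans hUW2
    set U₂ := cj y U₁ with hU₂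
    have hcjW : cj y W = W := by
      apply le_antisymm
      · intro z hz
        rw [mem_cj] at hz
        have := hnormW y hyM hyB _ hz
        have e : y * (y⁻¹ * z * y) * y⁻¹ = z := by group
        rwa [e] at this
      · intro z hz
        rw [mem_cj]
        have := hnormW y⁻¹ (M.inv_mem hyM) ((centralizer (B : Set X)).inv_mem hyB) z hz
        simpa using this
    have hU₂2 : U₂.relIndex W ≤ 2 := by
      have : U₂.relIndex W = U₁.relIndex W := by
        conv_lhs => rw [← hcjW]
        exact relIndex_map_map_of_injective U₁ W (MulAut.conj y).injective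
      rw [this]; exact hU₁2
    have hinfle : U₁ ⊓ U₂ ≤ W ⊓ centralizer ({y} : Set X) := by
      intro x hx
      obtain ⟨hx1, hx2⟩ := mem_inf.mp hx
      refine mem_inf.mpr ⟨(mem_inf.mp hx1).1, ?_⟩
      have hxa : Commute a x := by
        have := (mem_inf.mp hx1).2
        rw [mem_centralizer_iff] at this
        exact this a rfl
      rw [hU₂, mem_cj] at hx2
      have hxa' : Commute a (y⁻¹ * x * y) := by
        have := (mem_inf.mp hx2).2
        rw [mem_centralizer_iff] at this
        exact this a rfl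
      -- x commutes with y a y⁻¹
      have h1 : Commute (y * a * y⁻¹) x := by
        have := hxa'.eq
        unfold Commute SemiconjBy
        calc y * a * y⁻¹ * x = y * (a * (y⁻¹ * x * y)) * y⁻¹ := by group
          _ = y * ((y⁻¹ * x * y) * a) * y⁻¹ := by rw [this]
          _ = x * (y * a * y⁻¹) := by group
      have h2 : Commute (y * a * y⁻¹ * a⁻¹) x := h1.mul_left hxa.inv_left
      have e : y * a * y⁻¹ * a⁻¹ = y ^ 2 := by
        have : a * y⁻¹ * a⁻¹ = y := by
          have := congrArg (·⁻¹) hay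
          simp only [mul_inv_rev, inv_inv] at this
          rw [← mul_assoc] at this
          exact this
        rw [pow_two, mul_assoc, mul_assoc, ← mul_assoc a, this]
      rw [e] at h2
      have h3 := commute_of_commute_sq hKoddn hyn h2
      rw [mem_centralizer_iff]
      intro z hz
      rw [Set.mem_singleton_iff] at hz
      subst hz
      exact h3.eq
    have hidx : (W ⊓ centralizer ({y} : Set X)).relIndex W ≤ 4 := by
      calc (W ⊓ centralizer ({y} : Set X)).relIndex W ≤ (U₁ ⊓ U₂).relIndex W :=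
            relIndex_le_of_le_left hinfle (hrel _ _)
        _ ≤ U₁.relIndex W * U₂.relIndex W := relIndex_inf_le
        _ ≤ 2 * 2 := Nat.mul_le_mul hU₁2 hU₂2
    have hcube := cube_commute hKoddn hyn (fun u hu => hV.2 u (hWV hu))
      (hnormW y hyM hyB) hidx
    -- Thompson P × Q
    have hy3K : y ^ 3 ∈ K := K.pow_mem hyK 3
    have hQcop : (Nat.card (zpowers (y ^ 3))).Coprime 2 :=
      Nat.Coprime.coprime_dvd_left (Subgroup.card_dvd_of_le ((zpowers_le).mpr hy3K)) hKodd
    have hB2 : IsPGroup 2 B := hA2.to_le hBA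
    have hPQ : B ≤ centralizer ((zpowers (y ^ 3) : Subgroup X) : Set X) := by
      rw [le_centralizer_iff, zpowers_le]
      exact (centralizer (B : Set X)).pow_mem hyB 3
    have hPU : B ≤ normalizer (V : Set X) := (hBA.trans hAM).trans hMV
    have hQU : zpowers (y ^ 3) ≤ normalizer (V : Set X) := by
      rw [zpowers_le]
      exact hMV (M.pow_mem hyM 3)
    have hC : V ⊓ centralizer (B : Set X) ≤ centralizer ((zpowers (y ^ 3) : Subgroup X) : Set X) := by
      rw [le_centralizer_iff, zpowers_le, mem_centralizer_iff]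
      intro w hw
      exact ((hcube w hw).eq).symm
    have hfin := Cfsg.Agent.Lib.Helper24.thompson_PxQ B (zpowers (y ^ 3)) V hB2 hQcop hV2 hPQ hPU hQU hC
    have hy3 : y ^ 3 = 1 := by
      have h1 : y ^ 3 ∈ M ⊓ centralizer (V : Set X) :=
        mem_inf.mpr ⟨M.pow_mem hyM 3, hfin (mem_zpowers _)⟩
      rw [hfaith] at h1
      exact mem_bot.mp h1
    exact ⟨a, y, haM, hyM, ha2, hy1, hy3, hay⟩

end core

section fin

lemma involves_S3 {G : Type*} [Group G] [Finite G] (a y : G) (ha2 : a ^ 2 = 1) (hy1 : y ≠ 1)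
    (hy3 : y ^ 3 = 1) (hay : a * y * a⁻¹ = y⁻¹) : Cfsg.Involves (Equiv.Perm (Fin 3)) G := by
  have hyy : y⁻¹ ≠ y := by
    intro h
    have h2 : y ^ 2 = 1 := by
      rw [pow_two]; nth_rewrite 1 [← h]; exact inv_mul_cancel y
    apply hy1
    calc y = y ^ 3 * (y ^ 2)⁻¹ := by group
      _ = 1 := by rw [hy3, h2]; simp
  have ha1 : a ≠ 1 := by
    rintro rfl
    simp at hay
    exact hyy hay.symm
  haveI : Fact (Nat.Prime 2) := ⟨Nat.prime_two⟩
  haveI : Fact (Nat.Prime 3) := ⟨Nat.prime_three⟩
  have hoa : orderOf a = 2 := orderOf_eq_prime ha2 ha1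
  have hoy : orderOf y = 3 := orderOf_eq_prime hy3 hy1
  set H := zpowers a ⊔ zpowers y with hH
  have hnorm : zpowers a ≤ normalizer ((zpowers y : Subgroup G) : Set G) := by
    rw [zpowers_le, mem_normalizer_iff_cj]
    show (zpowers y).map (MulAut.conj a).toMonoidHom = zpowers y
    rw [MonoidHom.map_zpowers]
    show zpowers (a * y * a⁻¹) = zpowers y
    rw [hay, zpowers_inv]
  have hcard := Cfsg.Agent.Lib.Helper10.card_sup_mul_card_inf hnorm
  have hca : Nat.card (zpowers a) = 2 := by rw [Nat.card_zpowers, hoa]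
  have hcy : Nat.card (zpowers y) = 3 := by rw [Nat.card_zpowers, hoy]
  have hinf : zpowers a ⊓ zpowers y = ⊥ :=
    (Subgroup.disjoint_of_coprime_natCard (by rw [hca, hcy]; norm_num)).eq_bot
  have hH6 : Nat.card H = 6 := by
    rw [hinf, hca, hcy] at hcard
    simpa using hcard
  have haH : a ∈ H := (le_sup_left : zpowers a ≤ H) (mem_zpowers a)
  have hyH : y ∈ H := (le_sup_right : zpowers y ≤ H) (mem_zpowers y)
  have hna : ¬ ∀ u v : H, u * v = v * u := by
    intro h
    have := congrArg Subtype.val (h ⟨a, haH⟩ ⟨y, hyH⟩)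
    simp only [Subgroup.coe_mul] at this
    apply hyy
    rw [← hay, this]; group
  obtain ⟨e⟩ := Cfsg.Agent.Lib.Helper66.OC.equiv_perm_of_card_six hH6 hna
  have hbot : (⊥ : Subgroup G).subgroupOf H = ⊥ := Subgroup.bot_subgroupOf H
  haveI : ((⊥ : Subgroup G).subgroupOf H).Normal := by rw [hbot]; infer_instance
  refine ⟨H, ⊥, inferInstance, ⟨?_⟩⟩
  exact ((QuotientGroup.quotientMulEquivOfEq hbot).trans QuotientGroup.quotientBot).trans e

end fin

/-- Let M and V be subgroups of a finite group with V an elementary abelian 2-group, M normalizing V and acting faithfully on it (M ∩ C(V) = 1), and C_M(O_{2'}(M)) ≤ O_{2'}(M). If some elementary abelian 2-subgroup A of M satisfies |V : C_V(A)| < |A|², then M has a section isomorphic to the symmetric group of degree 3. -/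
theorem result {X : Type*} [Group X] [Finite X] (M V : Subgroup X) (hV : Cfsg.IsElementaryAbelian 2 V) (hMV : M ≤ Subgroup.normalizer (V : Set X)) (hfaith : M ⊓ Subgroup.centralizer (V : Set X) = ⊥) (hcon : Subgroup.centralizer (Cfsg.pPrimeCore 2 ↥M : Set ↥M) ≤ Cfsg.pPrimeCore 2 ↥M) (A : Subgroup X) (hAM : A ≤ M) (hA : Cfsg.IsElementaryAbelian 2 A) (hsmall : (V ⊓ Subgroup.centralizer (A : Set X)).relIndex V < Nat.card A ^ 2) : Cfsg.Involves (Equiv.Perm (Fin 3)) ↥M := by
  classical
  set K : Subgroup X := (Cfsg.pPrimeCore 2 ↥M).map M.subtype with hK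
  have hKM : K ≤ M := map_subtype_le _
  haveI : (Cfsg.pPrimeCore 2 ↥M).Normal := inferInstance
  have hKn : M ≤ normalizer (K : Set X) := le_normalizer_map_subtype_of_normal _
  have hKodd : (Nat.card K).Coprime 2 := by
    have : Nat.card K = Nat.card (Cfsg.pPrimeCore 2 ↥M) := by
      rw [hK]
      exact Nat.card_congr
        ((Cfsg.pPrimeCore 2 ↥M).equivMapOfInjective _ M.subtype_injective).symm.toEquiv
    rw [this]; exact Cfsg.Agent.Lib.Helper30.pPrimeCore_card_coprime 2
  have hcon' : M ⊓ centralizer (K : Set X) ≤ K := by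
    intro x hx
    obtain ⟨hxM, hxc⟩ := mem_inf.mp hx
    have : (⟨x, hxM⟩ : M) ∈ centralizer (Cfsg.pPrimeCore 2 ↥M : Set ↥M) := by
      rw [mem_centralizer_iff]
      intro z hz
      apply Subtype.ext
      rw [mem_centralizer_iff] at hxc
      exact hxc z.1 ⟨z, hz, rfl⟩
    exact ⟨⟨x, hxM⟩, hcon this, rfl⟩
  obtain ⟨a, y, haM, hyM, ha2, hy1, hy3, hay⟩ :=
    core M V K hV hMV hfaith hKM hKn hKodd hcon' _ A rfl hAM hA hsmall
  have ha2' : (⟨a, haM⟩ : M) ^ 2 = 1 := Subtype.ext (by simpa using ha2)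
  have hy3' : (⟨y, hyM⟩ : M) ^ 3 = 1 := Subtype.ext (by simpa using hy3)
  have hy1' : (⟨y, hyM⟩ : M) ≠ 1 := fun h => hy1 (congrArg Subtype.val h)
  have hay' : (⟨a, haM⟩ : M) * ⟨y, hyM⟩ * (⟨a, haM⟩ : M)⁻¹ = (⟨y, hyM⟩ : M)⁻¹ :=
    Subtype.ext (by simpa using hay)
  exact involves_S3 _ _ ha2' hy1' hy3' hay'

end Cfsg.Agent.S3755
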