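import Cfsg.Statements.S3760

set_option autoImplicit false
open Cfsg

namespace Cfsg.Agent.S3760

theorem mem_map_conj {G : Type*} [Group G] (K : Subgroup G) (g y : G) :
    y ∈ K.map (MulAut.conj g).toMonoidHom ↔ g⁻¹ * y * g ∈ K := by
  constructor
  · rintro ⟨k, hk, rfl⟩
    simp only [MulEquiv.toMonoidHom_eq_coe, MonoidHom.coe_coe, MulAut.conj_apply]
    have : g⁻¹ * (g * k * g⁻¹) * g = k := by group
    rw [this]; exact hk
  · intro h
    refine ⟨g⁻¹ * y * g, h, ?_⟩
    simp only [MulEquiv.toMonoidHom_eq_coe, MonoidHom.coe_coe, MulAut.conj_apply]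
    group

/-- Let the group G act transitively on a set X, let x ∈ X with stabilizer H = G_x, and let K ≤ H. Then N_G(K) acts transitively on the set of fixed points of K if and only if every G-conjugate of K contained in H is already an H-conjugate of K. -/
theorem result {G : Type*} [Group G] {X : Type*} [MulAction G X] (htrans : ∀ a b : X, ∃ g : G, g • a = b) (x : X) (K : Subgroup G) (hK : K ≤ MulAction.stabilizer G x) : (∀ a b : X, (∀ k ∈ K, k • a = a) → (∀ k ∈ K, k • b = b) → ∃ g ∈ Subgroup.normalizer (K : Set G), g • a = b) ↔ ∀ g : G, K.map (MulAut.conj g).toMonoidHom ≤ MulAction.stabilizer G x → ∃ h ∈ MulAction.stabilizer G x, K.map (MulAut.conj g).toMonoidHom = K.map (MulAut.conj h).toMonoidHom := by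
  constructor
  · intro hN g hg
    -- g⁻¹ • x is fixed by K
    have hfix1 : ∀ k ∈ K, k • (g⁻¹ • x) = g⁻¹ • x := by
      intro k hk
      have h1 : g * k * g⁻¹ ∈ K.map (MulAut.conj g).toMonoidHom := by
        rw [mem_map_conj]
        have : g⁻¹ * (g * k * g⁻¹) * g = k := by group
        rw [this]; exact hk
      have h2 := hg h1
      rw [MulAction.mem_stabilizer_iff] at h2
      calc k • (g⁻¹ • x) = g⁻¹ • ((g * k * g⁻¹) • x) := by
            simp only [smul_smul]; congr 1; group
        _ = g⁻¹ • x := by rw [h2]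
    have hfix2 : ∀ k ∈ K, k • x = x := fun k hk => MulAction.mem_stabilizer_iff.mp (hK hk)
    obtain ⟨n, hn, hnx⟩ := hN (g⁻¹ • x) x hfix1 hfix2
    refine ⟨g * n⁻¹, ?_, ?_⟩
    · rw [MulAction.mem_stabilizer_iff]
      have h3 : (g * n⁻¹) • (n • g⁻¹ • x) = x := by
        simp only [smul_smul]
        have e : g * n⁻¹ * (n * g⁻¹) = 1 := by group
        rw [e, one_smul]
      rw [hnx] at h3
      exact h3
    · ext y
      rw [mem_map_conj, mem_map_conj]
      have hn' := (Subgroup.mem_set_normalizer_iff.mp hn) (g⁻¹ * y * g)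
      have e : (g * n⁻¹)⁻¹ * y * (g * n⁻¹) = n * (g⁻¹ * y * g) * n⁻¹ := by group
      rw [e]
      exact hn'
  · intro hF a b ha hb
    -- key: any fixed point a is n • x for some n in the normalizer
    have key : ∀ a : X, (∀ k ∈ K, k • a = a) → ∃ n ∈ Subgroup.normalizer (K : Set G), n • x = a := by
      intro a ha
      obtain ⟨ga, hga⟩ := htrans x a
      have hle : K.map (MulAut.conj ga⁻¹).toMonoidHom ≤ MulAction.stabilizer G x := by
        intro y hy
        rw [mem_map_conj] at hy
        rw [MulAction.mem_stabilizer_iff]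
        have h1 := ha _ hy
        rw [← hga] at h1
        simp only [inv_inv, smul_smul] at h1
        have h2 : ga⁻¹ • ((ga * y * ga⁻¹ * ga) • x) = ga⁻¹ • (ga • x) := by rw [h1]
        simp only [smul_smul] at h2
        have e1 : ga⁻¹ * (ga * y * ga⁻¹ * ga) = y := by group
        have e2 : ga⁻¹ * ga = 1 := by group
        rw [e1, e2, one_smul] at h2
        exact h2
      obtain ⟨h, hh, heq⟩ := hF ga⁻¹ hle
      refine ⟨ga * h, ?_, ?_⟩
      · rw [Subgroup.mem_set_normalizer_iff]
        intro k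
        have hk := SetLike.ext_iff.mp heq (h * k * h⁻¹)
        rw [mem_map_conj, mem_map_conj] at hk
        have e1 : h⁻¹ * (h * k * h⁻¹) * h = k := by group
        have e2 : ga⁻¹⁻¹ * (h * k * h⁻¹) * ga⁻¹ = ga * h * k * (ga * h)⁻¹ := by group
        rw [e1, e2] at hk
        exact hk.symm
      · rw [mul_smul, MulAction.mem_stabilizer_iff.mp hh, hga]
    obtain ⟨na, hna, hnax⟩ := key a ha
    obtain ⟨nb, hnb, hnbx⟩ := key b hb
    refine ⟨nb * na⁻¹, Subgroup.mul_mem _ hnb (Subgroup.inv_mem _ hna), ?_⟩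
    rw [← hnax, ← hnbx]
    simp only [smul_smul]
    congr 1; group

end Cfsg.Agent.S3760
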