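import Cfsg.Statements.S3764
-- import your own Cfsg.Agent.* helpers here
import Cfsg.Agent.Lib.Helper24.HHAut
import Cfsg.Agent.Lib.Helper24.HHGrp

set_option autoImplicit false
set_option linter.style.haveILetI false
open Cfsg

namespace Cfsg.Agent.S3764

open scoped commutatorElement
open Cfsg.Agent.Lib.Helper24

/-- Let p, q, r be distinct primes and let X, Q, V be subgroups of a finite group with X of order r, Q an extraspecial q-group normalized by X with C_Q(X) = Z(Q), and V an elementary abelian p-group normalized by X and Q on which XQ acts faithfully ((X ⊔ Q) ∩ C(V) = 1). If C_V(X) = 1, then q = 2, r = 2^n + 1 for some n, and Q has order 2^(2n+1). -/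
theorem result {G : Type*} [Group G] [Finite G] {p q r : ℕ} (hp : p.Prime) (hq : q.Prime) (hr : r.Prime) (hpq : p ≠ q) (hpr : p ≠ r) (hqr : q ≠ r) (X Q V : Subgroup G) (hX : Nat.card X = r) (hQ : Cfsg.IsExtraspecial q ↥Q) (hXQ : X ≤ Subgroup.normalizer (Q : Set G)) (hCQ : Q ⊓ Subgroup.centralizer (X : Set G) = (Subgroup.center ↥Q).map Q.subtype) (hV : Cfsg.IsElementaryAbelian p V) (hXV : X ≤ Subgroup.normalizer (V : Set G)) (hQV : Q ≤ Subgroup.normalizer (V : Set G)) (hfaith : (X ⊔ Q) ⊓ Subgroup.centralizer (V : Set G) = ⊥) (hCV : V ⊓ Subgroup.centralizer (X : Set G) = ⊥) : q = 2 ∧ ∃ n : ℕ, r = 2 ^ n + 1 ∧ Nat.card Q = 2 ^ (2 * n + 1) := by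
  classical
  haveI : Fact p.Prime := ⟨hp⟩
  haveI : Fact q.Prime := ⟨hq⟩
  obtain ⟨⟨hQp, hfrat, hcomm⟩, hcen⟩ := hQ
  obtain ⟨x, hxX, hx1, hxr, hgen⟩ := HH.exists_generator_of_prime_card X hr hX
  have hcentX : ∀ g : G, g * x = x * g → g ∈ Subgroup.centralizer (X : Set G) :=
    HH.mem_centralizer_of_generator X x hgen
  haveI hVc : IsMulCommutative ↥V := hV.1
  letI : CommGroup ↥V := { (inferInstance : Group ↥V) with mul_comm := fun a b => mul_comm' a b }
  have hA : ∀ a : ↥V, a ^ p = 1 := by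
    intro a
    apply Subtype.ext
    have := hV.2 a a.2
    simpa using this
  let xN : ↥(Subgroup.normalizer (V : Set G)) := ⟨x, hXV hxX⟩
  let xQ : ↥(Subgroup.normalizer (Q : Set G)) := ⟨x, hXQ hxX⟩
  let xa : MulAut ↥V := V.normalizerMonoidHom xN
  let α : MulAut ↥Q := Q.normalizerMonoidHom xQ
  let ψ : ↥Q →* MulAut ↥V := V.normalizerMonoidHom.comp (Subgroup.inclusion hQV)
  have hαapp : ∀ g : ↥Q, ((α g : ↥Q) : G) = x * g * x⁻¹ := fun g => rfl
  have hxaapp : ∀ v : ↥V, ((xa v : ↥V) : G) = x * v * x⁻¹ := fun v => rfl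
  have hψ : Function.Injective ψ := by
    rw [injective_iff_map_eq_one]
    intro g hg
    have h1 : Subgroup.inclusion hQV g ∈ V.normalizerMonoidHom.ker := hg
    rw [Subgroup.normalizerMonoidHom_ker, Subgroup.mem_subgroupOf] at h1
    have h2 : (g : G) ∈ (X ⊔ Q) ⊓ Subgroup.centralizer (V : Set G) :=
      ⟨Subgroup.mem_sup_right g.2, h1⟩
    rw [hfaith, Subgroup.mem_bot] at h2
    exact Subtype.ext h2
  have hpQ : ¬ p ∣ Nat.card ↥Q := by
    obtain ⟨e, he⟩ := IsPGroup.iff_card.mp hQp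
    rw [he]
    intro h
    exact hpq ((Nat.prime_dvd_prime_iff_eq hp hq).mp (hp.dvd_of_dvd_pow h))
  have hxNr : xN ^ r = 1 := by
    apply Subtype.ext
    simpa [xN] using hxr
  have hxQr : xQ ^ r = 1 := by
    apply Subtype.ext
    simpa [xQ] using hxr
  have hxar : xa ^ r = 1 := by
    show (V.normalizerMonoidHom xN) ^ r = 1
    rw [← map_pow, hxNr, map_one]
  have hαr : α ^ r = 1 := by
    show (Q.normalizerMonoidHom xQ) ^ r = 1
    rw [← map_pow, hxQr, map_one]
  have hxψ : ∀ g, xa * ψ g = ψ (α g) * xa := by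
    intro g
    show V.normalizerMonoidHom xN * V.normalizerMonoidHom (Subgroup.inclusion hQV g)
      = V.normalizerMonoidHom (Subgroup.inclusion hQV (α g)) * V.normalizerMonoidHom xN
    rw [← map_mul, ← map_mul]
    congr 1
    apply Subtype.ext
    show x * (g : G) = ((α g : ↥Q) : G) * x
    rw [hαapp]
    group
  have hfix : ∀ v : ↥V, xa v = v → v = 1 := by
    intro v hv
    have h1 : x * (v : G) * x⁻¹ = v := by rw [← hxaapp, hv]
    have h2 : (v : G) * x = x * v := by
      calc (v : G) * x = (x * v * x⁻¹) * x := by rw [h1]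
        _ = x * v := by group
    have h3 : (v : G) ∈ V ⊓ Subgroup.centralizer (X : Set G) := ⟨v.2, hcentX _ h2⟩
    rw [hCV, Subgroup.mem_bot] at h3
    exact Subtype.ext h3
  have H1 : ∀ g t : ↥Q, ⁅g, t⁆ ∈ Subgroup.center ↥Q := by
    intro g t
    rw [← hcomm, commutator_def]
    exact Subgroup.commutator_mem_commutator (Subgroup.mem_top g) (Subgroup.mem_top t)
  have H2 : ∀ z ∈ Subgroup.center ↥Q, α z = z := by
    intro z hz
    have h1 : (z : G) ∈ (Subgroup.center ↥Q).map Q.subtype := ⟨z, hz, rfl⟩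
    rw [← hCQ] at h1
    have h2 := (Subgroup.mem_centralizer_iff.mp h1.2) x hxX
    apply Subtype.ext
    rw [hαapp, h2]
    group
  have H5 : ∃ g t : ↥Q, ⁅g, t⁆ ≠ 1 := by
    by_contra hall
    simp only [not_exists, not_not] at hall
    have h1 : commutator ↥Q ≤ ⊥ := by
      rw [commutator_def, Subgroup.commutator_le]
      intro g _ t _
      rw [hall g t]
      exact one_mem _
    have h2 : Subgroup.center ↥Q = ⊥ := by rw [← hcomm]; exact le_bot_iff.mp h1
    rw [h2, Subgroup.card_bot] at hcen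
    exact hq.one_lt.ne hcen
  have H3 : ∀ M : Subgroup ↥Q, M ≤ Subgroup.center ↥Q → (∃ g t : ↥Q, ⁅g, t⁆ ∉ M) →
      ∀ t : ↥Q, (∀ g : ↥Q, ⁅g, t⁆ ∈ M) → t ∈ Subgroup.center ↥Q := by
    rintro M hM ⟨g, t, hgt⟩ t' ht'
    have hMcard : Nat.card M ∣ q := by rw [← hcen]; exact Subgroup.card_dvd_of_le hM
    rcases (Nat.dvd_prime hq).mp hMcard with h1 | h1
    · have hMbot : M = ⊥ := Subgroup.card_eq_one.mp h1
      rw [Subgroup.mem_center_iff]
      intro g'
      have := ht' g'
      rw [hMbot, Subgroup.mem_bot, commutatorElement_eq_one_iff_mul_comm] at this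
      exact this
    · exfalso
      have : M = Subgroup.center ↥Q := Subgroup.eq_of_le_of_card_ge hM (by rw [h1, hcen])
      exact hgt (this ▸ H1 g t)
  have hqr' : Nat.Coprime q r := (Nat.coprime_primes hq hr).mpr hqr
  have H4 : ∀ g : ↥Q, (α g)⁻¹ * g ∈ Subgroup.center ↥Q → g ∈ Subgroup.center ↥Q := by
    intro g hg
    set z : ↥Q := (α g)⁻¹ * g with hz
    have hαg : α g = g * z⁻¹ := by rw [hz]; group
    have hαz : α z = z := H2 z hg
    have hpow : ∀ i : ℕ, (α ^ i) g = g * (z⁻¹) ^ i := by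
      intro i
      induction i with
      | zero => simp
      | succ i ih =>
        rw [pow_succ', MulAut.mul_apply, ih, map_mul, map_pow, map_inv, hαz, hαg, pow_succ',
          mul_assoc]
    have hzr : (z⁻¹) ^ r = 1 := by
      have := hpow r
      rw [hαr, MulAut.one_apply] at this
      have h' : g * 1 = g * (z⁻¹) ^ r := by rw [mul_one]; exact this
      exact (mul_left_cancel h').symm
    have hzr' : z ^ r = 1 := by rwa [inv_pow, inv_eq_one] at hzr
    have hzq : z ^ q = 1 := by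
      have : (⟨z, hg⟩ : Subgroup.center ↥Q) ^ q = 1 := by rw [← hcen]; exact pow_card_eq_one'
      have := congrArg Subtype.val this
      simpa using this
    have hz1 : z = 1 := by
      have h1 := orderOf_dvd_of_pow_eq_one hzr'
      have h2 := orderOf_dvd_of_pow_eq_one hzq
      have h3 : orderOf z ∣ Nat.gcd q r := Nat.dvd_gcd h2 h1
      rw [hqr'] at h3
      exact orderOf_eq_one_iff.mp (Nat.dvd_one.mp h3)
    rw [hz1, inv_one, mul_one] at hαg
    have h1 : x * (g : G) * x⁻¹ = g := by rw [← hαapp, hαg]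
    have h2 : (g : G) * x = x * g := by
      calc (g : G) * x = (x * g * x⁻¹) * x := by rw [h1]
        _ = x * g := by group
    have h3 : (g : G) ∈ Q ⊓ Subgroup.centralizer (X : Set G) := ⟨g.2, hcentX _ h2⟩
    rw [hCQ] at h3
    obtain ⟨z', hz', hz'g⟩ := h3
    have : z' = g := Subtype.ext hz'g
    rw [← this]
    exact hz'
  obtain ⟨k, d, hk1, hk2, hd⟩ := HH.hh_aut (A := ↥V) hA ψ hψ xa α r hr hpr hpQ hxar hxψ hfix
    H1 H2 H3 H4 H5
  have hcm := Subgroup.card_mul_index (Subgroup.center ↥Q)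
  obtain ⟨e, he⟩ := IsPGroup.iff_card.mp hQp
  rw [hcen, he] at hcm
  set N := (Subgroup.center ↥Q).index with hN
  have he0 : e ≠ 0 := by
    rintro rfl
    rw [pow_zero] at hcm
    have := Nat.eq_one_of_mul_eq_one_right hcm
    exact hq.one_lt.ne' this
  obtain ⟨e', rfl⟩ := Nat.exists_eq_succ_of_ne_zero he0
  have hNq : N = q ^ e' := by
    rw [pow_succ'] at hcm
    exact Nat.eq_of_mul_eq_mul_left hq.pos hcm
  have hN1 : N ≠ 1 := by
    intro h1
    have htop : Subgroup.center ↥Q = ⊤ := Subgroup.index_eq_one.mp h1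
    obtain ⟨g, t, hgt⟩ := H5
    apply hgt
    rw [commutatorElement_eq_one_iff_mul_comm]
    have : t ∈ Subgroup.center ↥Q := by rw [htop]; trivial
    exact Subgroup.mem_center_iff.mp this g
  obtain ⟨hq2, n, hrn, hNn⟩ := HH.hh_arith hq hr hNq hN1 hk1 hk2 hd
  refine ⟨hq2, n, hrn, ?_⟩
  rw [he, pow_succ', ← hNq, hNn, hq2, pow_succ']

end Cfsg.Agent.S3764
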