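import Cfsg.Statements.S3765
-- import your own Cfsg.Agent.* helpers here
import Cfsg.Agent.Lib.Helper24.HHTransfer
import Cfsg.Agent.Lib.Helper24.HHGrp

set_option autoImplicit false
set_option linter.style.haveILetI false
open Cfsg

namespace Cfsg.Agent.S3765

open Cfsg.Agent.Lib.Helper24

/-- Let p, q, r be distinct primes and let X, Q, V be subgroups of a finite group with X of order r normalizing the q-group Q and acting faithfully on it (X ∩ C(Q) = 1), and V a nontrivial elementary abelian p-group normalized by X and Q on which XQ acts faithfully. If q = 2 and r has the form 2^n + 1, assume in addition that Q is abelian. Then C_V(X) ≠ 1. -/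
theorem result {G : Type*} [Group G] [Finite G] {p q r : ℕ} (hp : p.Prime) (hq : q.Prime) (hr : r.Prime) (hpq : p ≠ q) (hpr : p ≠ r) (hqr : q ≠ r) (X Q V : Subgroup G) (hX : Nat.card X = r) (hQ : IsPGroup q Q) (hXQ : X ≤ Subgroup.normalizer (Q : Set G)) (hXfaith : X ⊓ Subgroup.centralizer (Q : Set G) = ⊥) (hV : Cfsg.IsElementaryAbelian p V) (hV1 : V ≠ ⊥) (hXV : X ≤ Subgroup.normalizer (V : Set G)) (hQV : Q ≤ Subgroup.normalizer (V : Set G)) (hfaith : (X ⊔ Q) ⊓ Subgroup.centralizer (V : Set G) = ⊥) (hexc : q = 2 → (∃ n : ℕ, r = 2 ^ n + 1) → IsMulCommutative Q) : V ⊓ Subgroup.centralizer (X : Set G) ≠ ⊥ := by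
  intro hCV
  obtain ⟨x, hxX, hx1, hxr, hgen⟩ := HH.exists_generator_of_prime_card X hr hX
  have hcentX := HH.mem_centralizer_of_generator X x hgen
  have hfix : ∀ v ∈ V, x * v = v * x → v = 1 := by
    intro v hv h
    have h1 : v ∈ V ⊓ Subgroup.centralizer (X : Set G) := ⟨hv, hcentX v h.symm⟩
    rw [hCV, Subgroup.mem_bot] at h1
    exact h1
  have hexc' : q = 2 → (∃ m : ℕ, r = 2 ^ m + 1) → ∀ a ∈ Q, ∀ b ∈ Q, a * b = b * a := by
    intro h2 hm a ha b hb
    haveI := hexc h2 hm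
    have := mul_comm' (⟨a, ha⟩ : Q) ⟨b, hb⟩
    exact congrArg Subtype.val this
  have hT := HH.hh_transfer hp hq hr hpq hpr hqr V Q hV.1 hV.2 x (hXV hxX) (hXQ hxX) hxr hfix hQ
    hQV hexc'
  have hxQ : x ∈ X ⊓ Subgroup.centralizer (Q : Set G) := by
    refine ⟨hxX, ?_⟩
    show x ∈ Subgroup.centralizer (Q : Set G)
    rw [Subgroup.mem_centralizer_iff]
    intro g hg
    have h1 := hT g hg
    have h2 : g * x * g⁻¹ * x⁻¹ ∈ X ⊔ Q :=
      mul_mem (mul_mem (mul_mem (Subgroup.mem_sup_right hg) (Subgroup.mem_sup_left hxX))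
        (inv_mem (Subgroup.mem_sup_right hg))) (inv_mem (Subgroup.mem_sup_left hxX))
    have h3 : g * x * g⁻¹ * x⁻¹ ∈ (X ⊔ Q) ⊓ Subgroup.centralizer (V : Set G) := ⟨h2, h1⟩
    rw [hfaith, Subgroup.mem_bot] at h3
    calc g * x = (g * x * g⁻¹ * x⁻¹) * x * g := by group
      _ = x * g := by rw [h3, one_mul]
  rw [hXfaith, Subgroup.mem_bot] at hxQ
  exact hx1 hxQ

end Cfsg.Agent.S3765
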