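import Cfsg.Statements.S3766
import Cfsg.Agent.Lib.Helper1.ChiefFitting2

set_option autoImplicit false
open Cfsg

namespace Cfsg.Agent.S3766

open Subgroup Cfsg.Agent.Lib.Helper1 Cfsg.Agent.Lib.Helper22
open scoped commutatorElement

universe u

section aux
variable {G : Type u} [Group G] (N : Subgroup G)

theorem fit_le : (Cfsg.fittingSubgroup ↥N).map N.subtype ≤ N := Subgroup.map_subtype_le _

theorem fit_normal [hN : N.Normal] : ((Cfsg.fittingSubgroup ↥N).map N.subtype).Normal :=
  ConjAct.normal_of_characteristic_of_normal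

theorem fit_nilpotent [Finite G] : Group.IsNilpotent ((Cfsg.fittingSubgroup ↥N).map N.subtype) := by
  have h1 : Group.IsNilpotent (Cfsg.fittingSubgroup ↥N) := fittingSubgroup_isNilpotent
  exact Group.nilpotent_of_mulEquiv
    (Subgroup.equivMapOfInjective (Cfsg.fittingSubgroup ↥N) N.subtype N.subtype_injective)

theorem le_fit (K : Subgroup G) [hK : K.Normal] (hKN : K ≤ N) (hKnil : Group.IsNilpotent K) :
    K ≤ (Cfsg.fittingSubgroup ↥N).map N.subtype := by
  have h1 : (K.subgroupOf N).Normal := inferInstance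
  have h2 : Group.IsNilpotent (K.subgroupOf N) :=
    Group.nilpotent_of_mulEquiv (Subgroup.subgroupOfEquivOfLe hKN).symm
  have h3 : K.subgroupOf N ≤ Cfsg.fittingSubgroup ↥N := le_fittingSubgroup h1 h2
  have h4 := Subgroup.map_mono (f := N.subtype) h3
  rwa [Subgroup.map_subgroupOf_eq_of_le hKN] at h4

end aux

theorem partA {G : Type u} [Group G] [Finite G] (N : Subgroup G) [N.Normal] (g : G)
    (hg : g ∈ (Cfsg.fittingSubgroup ↥N).map N.subtype) :
    g ∈ N ∧ ∀ U V : Subgroup G, IsChief U V → ∀ u ∈ U, u * g * u⁻¹ * g⁻¹ ∈ V := by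
  refine ⟨fit_le N hg, ?_⟩
  intro U V h u hu
  have := fit_normal N
  have h1 := commutator_le_of_isChief _ (fit_nilpotent N) U V h
  have h2 := h1 (Subgroup.commutator_mem_commutator hu hg)
  rwa [commutatorElement_def] at h2

theorem partB {G : Type u} [Group G] [Finite G] (hG : Group.IsSolvable G) (N : Subgroup G)
    [hN : N.Normal] (g : G) (hgN : g ∈ N)
    (hg : ∀ U V : Subgroup G, IsChief U V → U ≤ (Cfsg.fittingSubgroup ↥N).map N.subtype →
      ∀ u ∈ U, u * g * u⁻¹ * g⁻¹ ∈ V) :
    g ∈ (Cfsg.fittingSubgroup ↥N).map N.subtype := by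
  classical
  set F := (Cfsg.fittingSubgroup ↥N).map N.subtype with hF
  have hFn : F.Normal := fit_normal N
  have hFnil : Group.IsNilpotent F := fit_nilpotent N
  have hFN : F ≤ N := fit_le N
  -- the subgroup `K₂`
  let ι := {p : Subgroup G × Subgroup G // IsChief p.1 p.2 ∧ p.1 ≤ F}
  let cm : ι → Subgroup G := fun p => @centMod _ _ p.1.1 p.1.2 p.2.1.2.1
  set K₂ : Subgroup G := N ⊓ ⨅ p : ι, cm p with hK₂
  have hcmn : ∀ p : ι, (cm p).Normal := fun p =>
    @centMod_normal _ _ p.1.1 p.1.2 p.2.1.1 p.2.1.2.1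
  have hiInfn : (⨅ p : ι, cm p).Normal := Subgroup.normal_iInf_normal hcmn
  have hK₂n : K₂.Normal := Subgroup.normal_inf_normal _ _
  have hK₂N : K₂ ≤ N := inf_le_left
  have hgK₂ : g ∈ K₂ := by
    refine ⟨hgN, Subgroup.mem_iInf.mpr ?_⟩
    intro p
    have := p.2.1.2.1
    show g ∈ centMod p.1.1 p.1.2
    rw [mem_centMod]
    exact hg p.1.1 p.1.2 p.2.1 p.2.2
  have hK₂cent : ∀ U V : Subgroup G, IsChief U V → U ≤ F → ∀ M : Subgroup G, M ≤ K₂ →
      ⁅U, M⁆ ≤ V := by
    intro U V h hUF M hM
    have := h.2.1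
    apply commutator_le_of_le_centMod
    intro m hm
    have h1 : m ∈ ⨅ p : ι, cm p := (hM hm).2
    rw [Subgroup.mem_iInf] at h1
    exact h1 ⟨(U, V), h, hUF⟩
  have hFK₂ : F ≤ K₂ := by
    refine le_inf hFN ?_
    rw [le_iInf_iff]
    intro p
    have := p.2.1.2.1
    show F ≤ centMod p.1.1 p.1.2
    apply le_centMod_of_commutator_le
    exact commutator_le_of_isChief F hFnil p.1.1 p.1.2 p.2.1
  suffices hsuff : K₂ ≤ F from hsuff hgK₂
  -- derived-type series of `K₂`
  let E : ℕ → Subgroup G := fun j => Nat.rec K₂ (fun _ X => ⁅X, X⁆) j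
  have hE0 : E 0 = K₂ := rfl
  have hEs : ∀ j, E (j + 1) = ⁅E j, E j⁆ := fun j => rfl
  have hEn : ∀ j, (E j).Normal := by
    intro j
    induction j with
    | zero => exact hK₂n
    | succ j ih => rw [hEs]; exact @Subgroup.commutator_normal _ _ (E j) (E j) ih ih
  have hEK : ∀ j, E j ≤ K₂ := by
    intro j
    induction j with
    | zero => exact le_rfl
    | succ j ih =>
      rw [hEs]
      have := hEn j
      exact (@Subgroup.commutator_le_left _ _ (E j) (E j) this).trans ih
  have hEd : ∀ j, E j ≤ derivedSeries G j := by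
    intro j
    induction j with
    | zero => rw [derivedSeries_zero]; exact le_top
    | succ j ih => rw [hEs, derivedSeries_succ]; exact Subgroup.commutator_mono ih ih
  obtain ⟨n, hn⟩ := hG.solvable
  have hEnF : E n ≤ F := by
    have := hEd n
    rw [hn] at this
    exact this.trans bot_le
  have step : ∀ i, E (i + 1) ≤ F → E i ≤ F := by
    intro i hEi1
    rw [hEs] at hEi1
    set M := F ⊔ E i with hM
    have hEin := hEn i
    have hMn : M.Normal := @Subgroup.sup_normal _ _ F (E i) hFn hEin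
    have hMK : M ≤ K₂ := sup_le hFK₂ (hEK i)
    have hMM : ⁅M, M⁆ ≤ F := by
      set π := QuotientGroup.mk' F with hπ
      have h1 : M.map π = (E i).map π := by
        rw [hM, Subgroup.map_sup, hπ, QuotientGroup.map_mk'_self, bot_sup_eq]
      have h2 : (⁅M, M⁆).map π = ⊥ := by
        rw [Subgroup.map_commutator, h1, ← Subgroup.map_commutator, Subgroup.map_eq_bot_iff, hπ,
          QuotientGroup.ker_mk']
        exact hEi1
      rw [Subgroup.map_eq_bot_iff, hπ, QuotientGroup.ker_mk'] at h2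
      exact h2
    have hMnil : Group.IsNilpotent M :=
      @isNilpotent_of_centralizes_chief G _ _ M F hMn hMM (fun U V h hUF => hK₂cent U V h hUF M hMK)
    have hMF : M ≤ F := @le_fit G _ N M hMn (hMK.trans hK₂N) hMnil
    exact le_sup_right.trans hMF
  have descend : ∀ j, E j ≤ F → E 0 ≤ F := by
    intro j
    induction j with
    | zero => exact id
    | succ j ih => exact fun h => ih (step j h)
  exact descend n hEnF

/-- Let G be a finite solvable group and N a normal subgroup of G. Call a pair V < U of normal subgroups of G a chief factor of G when no normal subgroup of G lies strictly between them; an element g centralizes the chief factor U/V when u g u⁻¹ g⁻¹ ∈ V for all u ∈ U. Then an element of G lies in the Fitting subgroup F(N) if and only if it lies in N and centralizes every chief factor of G; and also if and only if it lies in N and centralizes every chief factor U/V of G with U ≤ F(N). -/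
theorem result {G : Type*} [Group G] [Finite G] (hG : Group.IsSolvable G) (N : Subgroup G) [N.Normal] (g : G) : (g ∈ (Cfsg.fittingSubgroup ↥N).map N.subtype ↔ g ∈ N ∧ ∀ U V : Subgroup G, (U.Normal ∧ V.Normal ∧ V < U ∧ ∀ W : Subgroup G, W.Normal → V ≤ W → W ≤ U → W = V ∨ W = U) → ∀ u ∈ U, u * g * u⁻¹ * g⁻¹ ∈ V) ∧ (g ∈ (Cfsg.fittingSubgroup ↥N).map N.subtype ↔ g ∈ N ∧ ∀ U V : Subgroup G, (U.Normal ∧ V.Normal ∧ V < U ∧ ∀ W : Subgroup G, W.Normal → V ≤ W → W ≤ U → W = V ∨ W = U) → U ≤ (Cfsg.fittingSubgroup ↥N).map N.subtype → ∀ u ∈ U, u * g * u⁻¹ * g⁻¹ ∈ V) := by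
  refine ⟨⟨fun h => partA N g h, fun h => ?_⟩, ⟨fun h => ?_, fun h => ?_⟩⟩
  · exact partB hG N g h.1 (fun U V hc _ => h.2 U V hc)
  · obtain ⟨h1, h2⟩ := partA N g h
    exact ⟨h1, fun U V hc _ => h2 U V hc⟩
  · exact partB hG N g h.1 h.2

end Cfsg.Agent.S3766
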