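import Cfsg.Statements.S3767
import Cfsg.Agent.Lib.Helper63.ExtraCyc

set_option autoImplicit false
open Cfsg

namespace Cfsg.Agent.S3767

/-- `commutator = center` transports along a group isomorphism. -/
theorem commutator_eq_center_of_equiv {A B : Type*} [Group A] [Group B] (e : A ≃* B)
    (h : commutator B = Subgroup.center B) : commutator A = Subgroup.center A := by
  have h1 : (commutator A).map e.toMonoidHom = commutator B := by
    rw [commutator_def, commutator_def, Subgroup.map_commutator,
      Subgroup.map_top_of_surjective _ e.surjective]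
  have h2 : (Subgroup.center A).map e.toMonoidHom = Subgroup.center B := by
    ext b
    constructor
    · rintro ⟨a, ha, rfl⟩
      apply Subgroup.mem_center_iff.mpr
      intro g
      obtain ⟨g', rfl⟩ := e.surjective g
      show e g' * e a = e a * e g'
      rw [← map_mul, ← map_mul, Subgroup.mem_center_iff.mp ha g']
    · intro hb
      refine ⟨e.symm b, ?_, e.apply_symm_apply b⟩
      apply Subgroup.mem_center_iff.mpr
      intro g
      apply e.injective
      rw [map_mul, map_mul, e.apply_symm_apply]
      exact Subgroup.mem_center_iff.mp hb (e g)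
  have hinj : Function.Injective e.toMonoidHom := e.injective
  apply Subgroup.map_injective hinj
  rw [h1, h2, h]

/-- Let P be an extraspecial p-group of order p^(2n+1) and H a cyclic group of order h prime to p acting on P (inside a common finite group: H normalizes P) so that C_P(x) = Z(P) for every non-identity x ∈ H. Then h divides p^n + 1 or h divides p^n − 1. -/
theorem result {G : Type*} [Group G] [Finite G] {p : ℕ} [Fact p.Prime] (P H : Subgroup G) (hP : Cfsg.IsExtraspecial p ↥P) (n : ℕ) (hn : Nat.card P = p ^ (2 * n + 1)) (hH : IsCyclic H) (hcop : (Nat.card H).Coprime p) (hHP : H ≤ Subgroup.normalizer (P : Set G)) (hfix : ∀ x ∈ H, x ≠ 1 → P ⊓ Subgroup.centralizer {x} = (Subgroup.center ↥P).map P.subtype) : Nat.card H ∣ p ^ n + 1 ∨ Nat.card H ∣ p ^ n - 1 := by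
  classical
  obtain ⟨⟨hPp, -, hPcomm⟩, hPZ⟩ := hP
  set L : Subgroup G := P ⊔ H with hL
  have hPL : P ≤ L := le_sup_left
  have hHL : H ≤ L := le_sup_right
  have : Fintype L := Fintype.ofFinite _
  have hLnorm : L ≤ Subgroup.normalizer (P : Set G) := sup_le Subgroup.le_normalizer hHP
  have hNn : (P.subgroupOf L).Normal := Subgroup.normal_subgroupOf_of_le_normalizer hLnorm
  let e : P.subgroupOf L ≃* P := Subgroup.subgroupOfEquivOfLe hPL
  let eK : H.subgroupOf L ≃* H := Subgroup.subgroupOfEquivOfLe hHL
  have hcardK : Nat.card (H.subgroupOf L) = Nat.card H := Nat.card_congr eK.toEquiv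
  have hcyc : IsCyclic H := hH
  have hHcomm : ∀ a ∈ H, ∀ b ∈ H, a * b = b * a := by
    intro a ha b hb
    have := mul_comm' (⟨a, ha⟩ : H) ⟨b, hb⟩
    exact congrArg Subtype.val this
  -- membership in the centre of `P`
  have hcenP : ∀ z : G, z ∈ (Subgroup.center ↥P).map P.subtype ↔
      z ∈ P ∧ ∀ g' ∈ P, g' * z = z * g' := by
    intro z
    constructor
    · rintro ⟨w, hw, rfl⟩
      refine ⟨w.2, fun g' hg' => ?_⟩
      have := Subgroup.mem_center_iff.mp hw ⟨g', hg'⟩
      exact congrArg Subtype.val this
    · rintro ⟨hzP, hz⟩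
      refine ⟨⟨z, hzP⟩, ?_, rfl⟩
      apply Subgroup.mem_center_iff.mpr
      intro g
      exact Subtype.ext (hz g g.2)
  rw [← hcardK]
  apply Cfsg.Agent.Lib.Helper63.ExtraCyc.card_dvd_of_extraspecial_action (p := p) (n := n)
    (P.subgroupOf L) (H.subgroupOf L)
  · exact hPp.comap_subtype
  · exact commutator_eq_center_of_equiv e hPcomm
  · rw [← hPZ]
    exact Nat.card_congr (Subgroup.centerCongr e).toEquiv
  · rw [← hn]
    exact Nat.card_congr e.toEquiv
  · intro a ha b hb
    apply Subtype.ext
    exact hHcomm _ (Subgroup.mem_subgroupOf.mp ha) _ (Subgroup.mem_subgroupOf.mp hb)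
  · rw [hcardK]; exact hcop
  · rw [← Subgroup.subgroupOf_sup hPL hHL, ← hL, Subgroup.subgroupOf_self]
  · intro x hx hx1 g hg hgx g' hg'
    have hxH : (x : G) ∈ H := Subgroup.mem_subgroupOf.mp hx
    have hx1' : (x : G) ≠ 1 := fun h => hx1 (Subtype.ext h)
    have hgP : (g : G) ∈ P := Subgroup.mem_subgroupOf.mp hg
    have hg'P : (g' : G) ∈ P := Subgroup.mem_subgroupOf.mp hg'
    have hgx' : (g : G) * (x : G) = (x : G) * (g : G) := congrArg Subtype.val hgx
    have h1 : (g : G) ∈ P ⊓ Subgroup.centralizer {(x : G)} :=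
      ⟨hgP, Subgroup.mem_centralizer_singleton_iff.mpr hgx'⟩
    rw [hfix _ hxH hx1'] at h1
    apply Subtype.ext
    exact ((hcenP _).mp h1).2 _ hg'P
  · intro x hx z hz hzc
    by_cases hx1 : x = 1
    · rw [hx1, one_mul, mul_one]
    · have hxH : (x : G) ∈ H := Subgroup.mem_subgroupOf.mp hx
      have hx1' : (x : G) ≠ 1 := fun h => hx1 (Subtype.ext h)
      have hzP : (z : G) ∈ P := Subgroup.mem_subgroupOf.mp hz
      have h1 : (z : G) ∈ (Subgroup.center ↥P).map P.subtype := by
        apply (hcenP _).mpr
        refine ⟨hzP, fun g' hg' => ?_⟩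
        have := hzc ⟨g', hPL hg'⟩ (Subgroup.mem_subgroupOf.mpr hg')
        exact congrArg Subtype.val this
      rw [← hfix _ hxH hx1'] at h1
      have h2 := Subgroup.mem_centralizer_singleton_iff.mp h1.2
      apply Subtype.ext
      exact h2.symm

end Cfsg.Agent.S3767
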