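import Cfsg.Statements.S3768
import Cfsg.Agent.Lib.Helper35.FrobeniusCount
import Cfsg.Agent.Lib.Helper64.SylowMax

set_option autoImplicit false
open Cfsg

namespace Cfsg.Agent.S3768

open Cfsg.Agent.Lib.Helper35
open scoped Pointwise

variable {G : Type*} [Group G]

/-- For `r ∈ R`, `r ≠ 1`, and `N` normal with `N ⊓ R = ⊥`, every `r * y` with `y ∈ N` is an
`N`-conjugate of `r`. -/
lemma exists_conj_of_fpf [Finite G] (R : Subgroup G) (hR : Cfsg.IsFrobeniusComplement R)
    (N : Subgroup G) [hN : N.Normal] (hNR : N ⊓ R = ⊥) (r : G) (hr : r ∈ R) (hr1 : r ≠ 1)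
    (y : G) (hy : y ∈ N) : ∃ u ∈ N, r * y = u * r * u⁻¹ := by
  let f : N → N := fun u => ⟨r⁻¹ * u * r * (u : G)⁻¹, by
    refine N.mul_mem ?_ (N.inv_mem u.2)
    have := hN.conj_mem u u.2 r⁻¹
    simpa [mul_assoc] using this⟩
  have hinj : Function.Injective f := by
    intro u v huv
    have h1 : r⁻¹ * u * r * (u : G)⁻¹ = r⁻¹ * v * r * (v : G)⁻¹ := congrArg Subtype.val huv
    have h2 : ((v : G)⁻¹ * u) * r = r * ((v : G)⁻¹ * u) := by
      have h3 : (u : G) * r * (u : G)⁻¹ = v * r * (v : G)⁻¹ := by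
        have := congrArg (fun t => r * t) h1
        simpa [mul_assoc] using this
      calc ((v : G)⁻¹ * u) * r = (v : G)⁻¹ * ((u : G) * r * (u : G)⁻¹) * u := by group
        _ = (v : G)⁻¹ * ((v : G) * r * (v : G)⁻¹) * u := by rw [h3]
        _ = r * ((v : G)⁻¹ * u) := by group
    have h4 : (v : G)⁻¹ * u ∈ R := mem_of_commute hR hr1 hr h2
    have h5 : (v : G)⁻¹ * u ∈ N ⊓ R := ⟨N.mul_mem (N.inv_mem v.2) u.2, h4⟩
    rw [hNR, Subgroup.mem_bot] at h5
    apply Subtype.ext
    exact (inv_mul_eq_one.mp h5).symm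
  obtain ⟨u, hu⟩ := (Finite.injective_iff_surjective.mp hinj) ⟨y, hy⟩
  refine ⟨u, u.2, ?_⟩
  have h1 : r⁻¹ * u * r * (u : G)⁻¹ = y := congrArg Subtype.val hu
  rw [← h1]; group

/-- elements of a normal subgroup meeting `R` trivially lie in the kernel -/
lemma subset_kernel (R : Subgroup G) (N : Subgroup G) [hN : N.Normal] (hNR : N ⊓ R = ⊥) :
    (N : Set G) ⊆ Cfsg.frobeniusKernel R := by
  intro x hx
  by_cases hx1 : x = 1
  · exact Or.inl hx1
  · right
    intro g hg
    rw [mem_conj_smul] at hg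
    have h1 : g⁻¹ * x * g ∈ N := by
      have := hN.conj_mem x hx g⁻¹
      simpa using this
    have h2 : g⁻¹ * x * g ∈ N ⊓ R := ⟨h1, hg⟩
    rw [hNR, Subgroup.mem_bot] at h2
    apply hx1
    calc x = g * (g⁻¹ * x * g) * g⁻¹ := by group
      _ = 1 := by rw [h2]; group

lemma not_sup_eq_top [Finite G] (R : Subgroup G)
    (hR : Cfsg.IsFrobeniusComplement R) (N : Subgroup G) [hN : N.Normal]
    (hKN : ¬ Cfsg.frobeniusKernel R ⊆ N) (hNR : N ⊓ R = ⊥) : N ⊔ R ≠ ⊤ := by
  intro htop
  apply hKN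
  have hcompl : Subgroup.IsComplement' N R := by
    apply Subgroup.isComplement'_of_disjoint_and_mul_eq_univ (disjoint_iff.mpr hNR)
    rw [← Subgroup.normal_mul, htop]; rfl
  have hidx : R.index = Nat.card N := hcompl.index_eq_card
  have hsub := subset_kernel R N hNR
  have hcard : Nat.card (Cfsg.frobeniusKernel R) = R.index := card_frobeniusKernel hR
  have heq : (N : Set G) = Cfsg.frobeniusKernel R := by
    apply Set.eq_of_subset_of_ncard_le hsub _ (Set.toFinite _)
    rw [← Nat.card_coe_set_eq, ← Nat.card_coe_set_eq, hcard, hidx]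
    rfl
  rw [← heq]

/-- the nonidentity elements of `N` lying in conjugates of `R` -/
lemma card_inter_conjUnion [Finite G] (R : Subgroup G) (hR : Cfsg.IsFrobeniusComplement R)
    (N : Subgroup G) [hN : N.Normal] :
    Nat.card {x : G // x ∈ N ∧ x ∈ conjUnion R} = R.index * (Nat.card ↥(N ⊓ R) - 1) := by
  classical
  let ι : {h : ↥(N ⊓ R) // h ≠ 1} → {h : R // h ≠ 1} := fun h =>
    ⟨⟨(h.1 : G), h.1.2.2⟩, fun hh => h.2 (Subtype.ext (congrArg (Subtype.val : R → G) hh))⟩
  have hιN : ∀ h, ((ι h).1 : G) ∈ N := fun h => h.1.2.1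
  let ψ : (G ⧸ R) × {h : ↥(N ⊓ R) // h ≠ 1} → {x : G // x ∈ N ∧ x ∈ conjUnion R} := fun p =>
    ⟨conjParam R (p.1, ι p.2), by
      constructor
      · exact hN.conj_mem _ (hιN p.2) _
      · rw [← range_conjParam]; exact ⟨_, rfl⟩⟩
  have hψ : Function.Bijective ψ := by
    constructor
    · intro p₁ p₂ h
      have h1 : conjParam R (p₁.1, ι p₁.2) = conjParam R (p₂.1, ι p₂.2) := congrArg Subtype.val h
      have h2 := conjParam_injective hR h1
      obtain ⟨h3, h4⟩ := Prod.mk.inj h2
      have h5 : p₁.2 = p₂.2 := by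
        apply Subtype.ext
        apply Subtype.ext
        exact congrArg (fun t : {h : R // h ≠ 1} => ((t.1 : R) : G)) h4
      exact Prod.ext h3 h5
    · rintro ⟨x, hxN, hxU⟩
      rw [← range_conjParam] at hxU
      obtain ⟨⟨q, h⟩, hqh⟩ := hxU
      have hhN : ((h.1 : R) : G) ∈ N := by
        have e : ((h.1 : R) : G) = q.out⁻¹ * x * q.out⁻¹⁻¹ := by
          rw [← hqh]; simp only [conjParam]; group
        rw [e]
        exact hN.conj_mem x hxN _
      refine ⟨(q, ⟨⟨(h.1 : G), hhN, h.1.2⟩, fun hh => h.2 (Subtype.ext (congrArg (Subtype.val : ↥(N ⊓ R) → G) hh))⟩), ?_⟩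
      apply Subtype.ext
      exact hqh
  rw [← Nat.card_congr (Equiv.ofBijective ψ hψ), Nat.card_prod, ← Subgroup.index_eq_card]
  congr 1
  have := Fintype.ofFinite ↥(N ⊓ R)
  rw [Nat.card_eq_fintype_card, Nat.card_eq_fintype_card, Fintype.card_subtype_compl,
    Fintype.card_subtype_eq]

/-- Step A: a normal subgroup not containing the kernel meets the complement trivially. -/
lemma inf_eq_bot_of_not_kernel_subset [Finite G] (R : Subgroup G)
    (hR : Cfsg.IsFrobeniusComplement R) (N : Subgroup G) [hN : N.Normal]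
    (hKN : ¬ Cfsg.frobeniusKernel R ⊆ N) : N ⊓ R = ⊥ := by
  by_contra hne
  apply hKN
  -- notation
  set K := Cfsg.frobeniusKernel R with hK
  set m := Nat.card ↥(N ⊓ R) with hm
  set n := R.index with hn
  set d := R.relIndex N with hd
  have hm2 : 2 ≤ m := by
    have h1 : Nontrivial ↥(N ⊓ R) := (Subgroup.nontrivial_iff_ne_bot _).mpr hne
    exact Finite.one_lt_card
  have hcardN : d * m = Nat.card N := by
    have := Cfsg.Agent.Lib.Helper64.card_eq_card_inf_mul_relIndex R N
    rw [inf_comm] at this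
    rw [this, mul_comm]
  have hdvd : d ∣ n := Cfsg.Agent.Lib.Helper64.relIndex_dvd_index_of_normal_right R N
  have hcardK : K.ncard = n := by
    rw [← Nat.card_coe_set_eq]; exact card_frobeniusKernel hR
  have hU : ((N : Set G) ∩ conjUnion R).ncard = n * (m - 1) := by
    rw [← card_inter_conjUnion R hR N, ← Nat.card_coe_set_eq]
    rfl
  have hsplit : ((N : Set G) ∩ conjUnion R).ncard + ((N : Set G) ∩ K).ncard = Nat.card N := by
    have h1 := Set.ncard_inter_add_ncard_sdiff_eq_ncard (N : Set G) (conjUnion R) (Set.toFinite _)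
    have h2 : (N : Set G) \ conjUnion R = (N : Set G) ∩ K := by
      rw [hK, frobeniusKernel_eq_compl]; rfl
    rw [h2] at h1
    rw [h1, ← Nat.card_coe_set_eq]; rfl
  have hone : 1 ≤ ((N : Set G) ∩ K).ncard := by
    rw [Nat.succ_le_iff, Set.ncard_pos (Set.toFinite _)]
    exact ⟨1, N.one_mem, Or.inl rfl⟩
  have hnpos : 0 < n := Nat.pos_of_ne_zero (Subgroup.index_ne_zero_of_finite)
  have hkey : n ≤ ((N : Set G) ∩ K).ncard := by
    obtain ⟨e, he⟩ := hdvd
    obtain ⟨m', hm'⟩ : ∃ m', m = m' + 2 := ⟨m - 2, by omega⟩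
    rw [hU] at hsplit
    rw [← hcardN] at hsplit
    have hm1 : m - 1 = m' + 1 := by omega
    rw [hm1, hm'] at hsplit
    rcases e with _ | _ | e
    · omega
    · rw [he] at hsplit ⊢
      nlinarith
    · exfalso
      rw [he] at hsplit
      nlinarith
  have heq : (N : Set G) ∩ K = K := by
    apply Set.eq_of_subset_of_ncard_le Set.inter_subset_right _ (Set.toFinite _)
    rw [hcardK]; exact hkey
  rw [← heq]
  exact Set.inter_subset_left

/-- Let G be a finite Frobenius group with Frobenius complement R and Frobenius kernel K (the identity together with the elements in no conjugate of R), and let N be a normal subgroup of G not containing K. Then G/N is a Frobenius group with Frobenius complement RN/N whose Frobenius kernel is the image of K. -/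
theorem result {G : Type*} [Group G] [Finite G] (R : Subgroup G) (hR : Cfsg.IsFrobeniusComplement R) (N : Subgroup G) [N.Normal] (hKN : ¬ Cfsg.frobeniusKernel R ⊆ N) : Cfsg.IsFrobeniusComplement (R.map (QuotientGroup.mk' N)) ∧ Cfsg.frobeniusKernel (R.map (QuotientGroup.mk' N)) = QuotientGroup.mk' N '' Cfsg.frobeniusKernel R := by
  have hN : N.Normal := inferInstance
  have hNR : N ⊓ R = ⊥ := inf_eq_bot_of_not_kernel_subset R hR N hKN
  -- key: if `mk (g⁻¹ x g) ∈ R̄` with `x ∉ N` then `x` is in a conjugate `conj (g u) • R`, `u ∈ N`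
  have key : ∀ g x : G, x ∉ N → (QuotientGroup.mk' N g)⁻¹ * QuotientGroup.mk' N x * QuotientGroup.mk' N g
      ∈ R.map (QuotientGroup.mk' N) → ∃ u ∈ N, ∃ s ∈ R, x = (g * u) * s * (g * u)⁻¹ := by
    intro g x hxN hmem
    obtain ⟨s, hs, hsx⟩ := Subgroup.mem_map.mp hmem
    have h1 : QuotientGroup.mk' N s = QuotientGroup.mk' N (g⁻¹ * x * g) := by
      rw [hsx]; simp
    have h2 : (g⁻¹ * x * g)⁻¹ * s ∈ N := by
      have := QuotientGroup.eq.mp h1.symm
      exact this
    have hconjN : g⁻¹ * x * g ∉ N := by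
      intro h
      apply hxN
      have := hN.conj_mem _ h g
      simpa [mul_assoc] using this
    have hs1 : s ≠ 1 := by
      rintro rfl
      apply hconjN
      have := N.inv_mem h2
      simpa using this
    -- g⁻¹ x g = s * y with y ∈ N
    have h3 : g⁻¹ * x * g = s * ((g⁻¹ * x * g)⁻¹ * s)⁻¹ := by group
    obtain ⟨u, hu, hsu⟩ := exists_conj_of_fpf R hR N hNR s hs hs1 _ (N.inv_mem h2)
    refine ⟨u, hu, s, hs, ?_⟩
    rw [hsu] at h3
    calc x = g * (g⁻¹ * x * g) * g⁻¹ := by group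
      _ = g * (u * s * u⁻¹) * g⁻¹ := by rw [h3]
      _ = (g * u) * s * (g * u)⁻¹ := by group
  have hmkN : ∀ u ∈ N, QuotientGroup.mk' N u = 1 := fun u hu =>
    (QuotientGroup.eq_one_iff u).mpr hu
  refine ⟨⟨?_, ?_, ?_⟩, ?_⟩
  · -- R̄ ≠ ⊥
    intro h
    apply hR.1
    rw [eq_bot_iff]
    intro r hr
    have h1 : QuotientGroup.mk' N r ∈ R.map (QuotientGroup.mk' N) := Subgroup.mem_map_of_mem _ hr
    rw [h, Subgroup.mem_bot] at h1
    have h2 : r ∈ N := (QuotientGroup.eq_one_iff r).mp h1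
    have h3 : r ∈ N ⊓ R := ⟨h2, hr⟩
    rwa [hNR] at h3
  · -- R̄ ≠ ⊤
    intro h
    apply not_sup_eq_top R hR N hKN hNR
    rw [eq_top_iff]
    intro g _
    have h1 : QuotientGroup.mk' N g ∈ R.map (QuotientGroup.mk' N) := by rw [h]; trivial
    obtain ⟨r, hr, hrg⟩ := Subgroup.mem_map.mp h1
    have h2 : r⁻¹ * g ∈ N := QuotientGroup.eq.mp hrg
    have h3 : g = (r * (r⁻¹ * g) * r⁻¹) * r := by group
    rw [h3]
    exact Subgroup.mul_mem _ (Subgroup.mem_sup_left (hN.conj_mem _ h2 r)) (Subgroup.mem_sup_right hr)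
  · -- TI
    intro gbar hgbar
    obtain ⟨g, rfl⟩ := QuotientGroup.mk'_surjective N gbar
    rw [eq_bot_iff]
    intro xbar hx
    rw [Subgroup.mem_bot]
    have hx1 : xbar ∈ R.map (QuotientGroup.mk' N) := hx.1
    have hx2 : xbar ∈ MulAut.conj (QuotientGroup.mk' N g) • R.map (QuotientGroup.mk' N) := hx.2
    obtain ⟨r, hr, rfl⟩ := Subgroup.mem_map.mp hx1
    by_contra hne
    have hrN : r ∉ N := fun h => hne (hmkN r h)
    rw [mem_conj_smul] at hx2
    obtain ⟨u, hu, s, hs, hrs⟩ := key g r hrN hx2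
    have hr1 : r ≠ 1 := fun h => hrN (h ▸ N.one_mem)
    have hgu : g * u ∈ R := by
      refine mem_of_mem_inf_conj hR hr1 hr ?_
      rw [hrs]
      exact conj_mem_conj_smul hs
    apply hgbar
    have : QuotientGroup.mk' N g = QuotientGroup.mk' N (g * u) := by
      rw [map_mul, hmkN u hu, mul_one]
    rw [this]
    exact Subgroup.mem_map_of_mem _ hgu
  · -- kernel
    ext xbar
    constructor
    · intro hx
      obtain ⟨x, rfl⟩ := QuotientGroup.mk'_surjective N xbar
      rcases hx with hx | hx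
      · exact ⟨1, Or.inl rfl, by rw [map_one, hx]⟩
      · refine ⟨x, Or.inr ?_, rfl⟩
        intro g hg
        apply hx (QuotientGroup.mk' N g)
        rw [mem_conj_smul] at hg ⊢
        have := Subgroup.mem_map_of_mem (QuotientGroup.mk' N) hg
        simpa using this
    · rintro ⟨x, hx, rfl⟩
      by_cases hxN : x ∈ N
      · exact Or.inl (hmkN x hxN)
      · right
        intro gbar hg
        obtain ⟨g, rfl⟩ := QuotientGroup.mk'_surjective N gbar
        rw [mem_conj_smul] at hg
        obtain ⟨u, hu, s, hs, hxs⟩ := key g x hxN hg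
        have hx1 : x ≠ 1 := fun h => hxN (h ▸ N.one_mem)
        rcases hx with hx | hx
        · exact hx1 hx
        · apply hx (g * u)
          rw [hxs]
          exact conj_mem_conj_smul hs

end Cfsg.Agent.S3768
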