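import Cfsg.Statements.S3769
-- import your own Cfsg.Agent.* helpers here
import Cfsg.Agent.Lib.Helper24.HHOdd
import Cfsg.Agent.Lib.Helper24.HHGrp
import Cfsg.Agent.Lib.Helper24.Glauberman

set_option autoImplicit false
set_option linter.style.haveILetI false
open Cfsg

namespace Cfsg.Agent.S3769

open Cfsg.Agent.Lib.Helper24

/-- Let G and V be subgroups of a finite group with G solvable of odd order normalizing V, V an elementary abelian ℓ-group for a prime ℓ not dividing the order of G, and suppose G has a normal Hall subgroup K with a complement R of prime order. If C_V(R) = 1, then [R, K] centralizes V. -/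
theorem result {X : Type*} [Group X] [Finite X] (G : Subgroup X) (hsolv : Group.IsSolvable G) (hodd : Odd (Nat.card G)) (V : Subgroup X) {ℓ : ℕ} (hℓ : ℓ.Prime) (hV : Cfsg.IsElementaryAbelian ℓ V) (hℓG : ¬ ℓ ∣ Nat.card G) (hGV : G ≤ Subgroup.normalizer (V : Set X)) (K R : Subgroup X) (hKG : K ≤ G) (hKn : G ≤ Subgroup.normalizer (K : Set X)) (hHall : (Nat.card K).Coprime (K.relIndex G)) (hRG : R ≤ G) (hR : (Nat.card R).Prime) (hKR : K ⊓ R = ⊥) (hKRG : K ⊔ R = G) (hCV : V ⊓ Subgroup.centralizer (R : Set X) = ⊥) : ⁅R, K⁆ ≤ Subgroup.centralizer (V : Set X) := by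
  obtain ⟨x, hxR, hx1, hxr, hgen⟩ := HH.exists_generator_of_prime_card R hR rfl
  have hRzp : R ≤ Subgroup.zpowers x := by
    intro y hy
    obtain ⟨n, rfl⟩ := hgen y hy
    exact pow_mem (Subgroup.mem_zpowers x) n
  have hRK : R ≤ Subgroup.normalizer (K : Set X) := hRG.trans hKn
  have hidx : K.relIndex G = Nat.card R := by
    have := relIndex_sup_eq_card R K hRK (by rw [inf_comm]; exact hKR)
    rwa [sup_comm, hKRG] at this
  have hcop : (Nat.card K).Coprime (Nat.card R) := hidx ▸ hHall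
  have hcentR := HH.mem_centralizer_of_generator R x hgen
  have hfix : ∀ v ∈ V, x * v = v * x → v = 1 := by
    intro v hv h
    have h1 : v ∈ V ⊓ Subgroup.centralizer (R : Set X) := ⟨hv, hcentR v h.symm⟩
    rw [hCV, Subgroup.mem_bot] at h1
    exact h1
  have hKdvd : Nat.card K ∣ Nat.card G := Subgroup.card_dvd_of_le hKG
  have hRdvd : Nat.card R ∣ Nat.card G := Subgroup.card_dvd_of_le hRG
  have hKodd : Odd (Nat.card K) := hodd.of_dvd_nat hKdvd
  have hKℓ : ¬ ℓ ∣ Nat.card K := fun h => hℓG (h.trans hKdvd)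
  have hKr : ¬ Nat.card R ∣ Nat.card K := by
    intro h
    have h1 : Nat.card R ∣ Nat.gcd (Nat.card K) (Nat.card R) := Nat.dvd_gcd h dvd_rfl
    rw [hcop] at h1
    exact hR.one_lt.ne' (Nat.dvd_one.mp h1)
  have hℓr : ℓ ≠ Nat.card R := by
    rintro rfl
    exact hℓG hRdvd
  have := HH.hh_transfer_odd hℓ hR hℓr V K hV.1 hV.2 x (hGV (hRG hxR)) (hRK hxR) hxr hfix
    (hKG.trans hGV) hKodd hKℓ hKr
  exact (Subgroup.commutator_mono hRzp le_rfl).trans this

end Cfsg.Agent.S3769
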