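import Cfsg.Statements.S3770
import Cfsg.Agent.S0035
import Cfsg.Agent.Lib.Helper56.FrobApply

set_option autoImplicit false
open Cfsg

namespace Cfsg.Agent.S3770

open Cfsg.Agent.Lib.Helper56.FrobApply
open Pointwise

/-- Let G and V be subgroups of a finite group with G a Frobenius group with complement R of prime order and kernel K, G normalizing V, and V an elementary abelian ℓ-group for a prime ℓ not dividing the order of G. If C_V(R) has order ℓ, then the derived subgroup of K centralizes V. -/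
theorem result {X : Type*} [Group X] [Finite X] (G : Subgroup X) (V : Subgroup X) {ℓ : ℕ} (hℓ : ℓ.Prime) (hV : Cfsg.IsElementaryAbelian ℓ V) (hℓG : ¬ ℓ ∣ Nat.card G) (hGV : G ≤ Subgroup.normalizer (V : Set X)) (R : Subgroup ↥G) (hR : Cfsg.IsFrobeniusComplement R) (hRp : (Nat.card R).Prime) (hCV : Nat.card ↥(V ⊓ Subgroup.centralizer ((R.map G.subtype : Subgroup X) : Set X)) = ℓ) : ⁅Subgroup.closure (Subtype.val '' Cfsg.frobeniusKernel R), Subgroup.closure (Subtype.val '' Cfsg.frobeniusKernel R)⁆ ≤ Subgroup.centralizer (V : Set X) := by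
  obtain ⟨N, hNk, hNn, hNc⟩ := Cfsg.Agent.S0035.result R hR
  obtain ⟨hRbot, hRtop, hfrob⟩ := hR
  set U : Subgroup X := N.map G.subtype with hU
  set E : Subgroup X := R.map G.subtype with hE
  have hcl : Subgroup.closure (Subtype.val '' Cfsg.frobeniusKernel R) = U := by
    rw [← hNk]
    have : (Subtype.val '' (N : Set G) : Set X) = ((N.map G.subtype : Subgroup X) : Set X) := by
      rw [Subgroup.coe_map, Subgroup.coe_subtype]
    rw [this, Subgroup.closure_eq]
  rw [hcl]
  have hinj : Function.Injective G.subtype := Subgroup.subtype_injective G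
  have hE1 : E ≠ ⊥ := by
    intro h
    exact hRbot ((Subgroup.map_eq_bot_iff_of_injective R hinj).mp h)
  have hdisj : N ⊓ R = ⊥ := hNc.disjoint.eq_bot
  have hUn : ∀ e ∈ E, ∀ u ∈ U, e * u * e⁻¹ ∈ U := by
    intro e he u hu
    obtain ⟨r, hr, rfl⟩ := he
    obtain ⟨n, hn, rfl⟩ := hu
    refine ⟨r * n * r⁻¹, hNn.conj_mem n hn r, ?_⟩
    simp
  have hfpf : ∀ e ∈ E, e ≠ 1 → ∀ u ∈ U, e * u = u * e → u = 1 := by
    intro e he he1 u hu heu
    obtain ⟨r, hr, rfl⟩ := he
    obtain ⟨n, hn, rfl⟩ := hu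
    have heu' : r * n = n * r := by
      apply hinj
      simpa using heu
    have hr1 : r ≠ 1 := by
      intro h; apply he1; rw [h]; simp
    by_cases hnR : n ∈ R
    · have : n ∈ N ⊓ R := ⟨hn, hnR⟩
      rw [hdisj] at this
      rw [Subgroup.mem_bot.mp this]; simp
    · exfalso
      have h2 : r ∈ R ⊓ (MulAut.conj n • R) := by
        refine ⟨hr, ?_⟩
        show r ∈ MulAut.conj n • R
        rw [Subgroup.mem_pointwise_smul_iff_inv_smul_mem]
        show (MulAut.conj n)⁻¹ r ∈ R
        rw [← map_inv, MulAut.conj_apply]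
        have : n⁻¹ * r * (n⁻¹)⁻¹ = r := by
          rw [inv_inv, mul_assoc, heu', inv_mul_cancel_left]
        rw [this]; exact hr
      rw [hfrob _ hnR] at h2
      exact hr1 (Subgroup.mem_bot.mp h2)
  have hUG : U ≤ G := by
    intro x hx
    obtain ⟨n, _, rfl⟩ := hx
    exact n.2
  have hEG : E ≤ G := by
    intro x hx
    obtain ⟨n, _, rfl⟩ := hx
    exact n.2
  have hUEG : U ⊔ E ≤ G := sup_le hUG hEG
  have hHn : ∀ x ∈ U ⊔ E, ∀ h ∈ V, x * h * x⁻¹ ∈ V := by
    intro x hx h hh
    exact (Subgroup.mem_normalizer_iff.mp (hGV (hUEG hx)) h).mp hh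
  obtain ⟨hVc, hVexp⟩ := hV
  have hsolv : Group.IsSolvable V := by
    haveI := hVc
    exact Group.isSolvable_of_comm (fun a b => mul_comm' a b)
  have hVp : IsPGroup ℓ V := by
    intro v
    refine ⟨1, ?_⟩
    rw [pow_one]
    apply Subtype.ext
    simpa using hVexp v v.2
  haveI : Fact ℓ.Prime := ⟨hℓ⟩
  obtain ⟨k, hk⟩ := IsPGroup.iff_card.mp hVp
  have hcop : Nat.Coprime (Nat.card V) (Nat.card ↥(U ⊔ E)) := by
    rw [hk]
    apply Nat.Coprime.pow_left
    rw [Nat.Prime.coprime_iff_not_dvd hℓ]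
    intro hd
    exact hℓG (hd.trans (Subgroup.card_dvd_of_le hUEG))
  have hcyc : IsCyclic ↥(V ⊓ Subgroup.centralizer (E : Set X)) :=
    isCyclic_of_prime_card hCV
  exact frobenius_comm U E V hE1 hUn hfpf hHn hsolv hcop hcyc

end Cfsg.Agent.S3770
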