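import Cfsg.Statements.S3772
import Cfsg.Agent.Lib.Helper55.FrattiniTwo
-- import your own Cfsg.Agent.* helpers here

set_option autoImplicit false
open Cfsg

namespace Cfsg.Agent.S3772

open Cfsg.Agent.Lib.Helper55 in
/-- Let G be a finite 2-group whose Frattini subgroup Φ(G) has order 2, with |G : Φ(G)| = 2^d, and let j be the number of elements x of G with x² = 1. Then j = 2^d, or j = 2^d + 2^(d−r) or j = 2^d − 2^(d−r) for some positive integer r with 2r ≤ d. Moreover if d = 2r and j is 2^d + 2^r or 2^d − 2^r, then G is extraspecial. -/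
theorem result {G : Type*} [Group G] [Finite G] (hG : IsPGroup 2 G) (hΦ : Nat.card (frattini G) = 2) (d : ℕ) (hd : (frattini G).index = 2 ^ d) : (Nat.card {x : G // x ^ 2 = 1} = 2 ^ d ∨ ∃ r : ℕ, 1 ≤ r ∧ 2 * r ≤ d ∧ (Nat.card {x : G // x ^ 2 = 1} = 2 ^ d + 2 ^ (d - r) ∨ Nat.card {x : G // x ^ 2 = 1} + 2 ^ (d - r) = 2 ^ d)) ∧ (∀ r : ℕ, d = 2 * r → (Nat.card {x : G // x ^ 2 = 1} = 2 ^ d + 2 ^ r ∨ Nat.card {x : G // x ^ 2 = 1} + 2 ^ r = 2 ^ d) → Cfsg.IsExtraspecial 2 G) := by
  haveI : Fact (Nat.Prime 2) := ⟨Nat.prime_two⟩
  have hcore := frattini_two_count hG hΦ d hd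
  constructor
  · rcases hcore with h | ⟨ζ, k', hζ, hζ1, hζd, hpar, hj⟩
    · exact Or.inl h
    · right
      refine ⟨d - k', by omega, by omega, ?_⟩
      have : d - (d - k') = k' := by omega
      rw [this]
      exact hj
  · intro r hdr hjr
    have hpos : 0 < 2 ^ r := by positivity
    rcases hcore with h | ⟨ζ, k', hζ, hζ1, hζd, hpar, hj⟩
    · exfalso
      rcases hjr with h' | h' <;> omega
    · have hposk : 0 < 2 ^ k' := by positivity
      have hkr : 2 ^ k' = 2 ^ r := by
        rcases hj with h1 | h1 <;> rcases hjr with h2 | h2 <;> omega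
      have hk : k' = r := Nat.pow_right_injective (le_refl 2) hkr
      have hζone : ζ = 1 := by omega
      have hZ2 : Nat.card (Subgroup.center G) = 2 := by rw [hζ, hζone]; norm_num
      have hΦle : frattini G ≤ Subgroup.center G := frattini_le_center_of_card_two hΦ
      have hΦeq : frattini G = Subgroup.center G := by
        apply Subgroup.eq_of_le_of_card_ge hΦle
        rw [hΦ, hZ2]
      have hcle : commutator G ≤ Subgroup.center G := by
        rw [← hΦeq]
        exact Cfsg.Agent.Lib.Helper2.commutator_le_frattini hG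
      have hcne : commutator G ≠ ⊥ := by
        intro hbot
        have htop : Subgroup.center G = ⊤ := by
          rw [commutator_def] at hbot
          exact top_le_iff.mp (Subgroup.commutator_top_right_eq_bot_iff_le_center.mp hbot)
        have hcardG : Nat.card G = 2 ^ (d + 1) := by
          have := Subgroup.card_mul_index (frattini G)
          rw [hΦ, hd] at this
          rw [← this]; ring
        have : Nat.card (Subgroup.center G) = Nat.card G := by
          rw [htop]; exact Subgroup.card_top
        rw [hZ2, hcardG] at this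
        have h2 : 2 ^ 1 = 2 ^ (d + 1) := by simpa using this
        have := Nat.pow_right_injective (le_refl 2) h2
        omega
      have hccard : Nat.card (commutator G) = 2 := by
        have hdvd := Subgroup.card_dvd_of_le hcle
        rw [hZ2] at hdvd
        rcases (Nat.dvd_prime Nat.prime_two).mp hdvd with h1 | h2
        · exfalso
          exact hcne (Subgroup.card_eq_one.mp h1)
        · exact h2
      have hceq : commutator G = Subgroup.center G := by
        apply Subgroup.eq_of_le_of_card_ge hcle
        rw [hccard, hZ2]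
      exact ⟨⟨hG, hΦeq, hceq⟩, hZ2⟩

end Cfsg.Agent.S3772
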