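import Mathlib
import Cfsg.Statements.S3774
import Cfsg.Agent.Lib.Helper29.PGroupNormal

set_option autoImplicit false
open Cfsg

namespace Cfsg.Agent.S3774

open Cfsg.Agent.Lib.Helper29 in
theorem result {G : Type*} [Group G] [Finite G] [Nontrivial G] (hG : IsPGroup 2 G) (htrans : ∀ x y : G, x ≠ 1 → x ^ 2 = 1 → y ≠ 1 → y ^ 2 = 1 → ∃ a : MulAut G, a x = y) : (∀ x : G, x ^ 2 = 1 → x ∈ Subgroup.center G) ∧ ∃ m : ℕ, Nat.card G = Nat.card {z : G // z ^ 2 = 1} ^ m := by
  classical
  have hf2 : Fact (Nat.Prime 2) := ⟨Nat.prime_two⟩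
  have : Fintype G := Fintype.ofFinite G
  -- a central involution
  obtain ⟨z, hzZ, hz1, hz2⟩ : ∃ z : G, z ∈ Subgroup.center G ∧ z ≠ 1 ∧ z ^ 2 = 1 := by
    have hnt : Nontrivial (Subgroup.center G) := hG.center_nontrivial
    obtain ⟨c, hc⟩ := exists_ne (1 : Subgroup.center G)
    have hc1 : (c : G) ≠ 1 := fun h => hc (Subtype.ext h)
    obtain ⟨j, hj⟩ := exists_pow_orderOf_eq_prime Nat.prime_two (IsPGroup.iff_orderOf.mp hG (c : G)) hc1
    refine ⟨(c : G) ^ j, Subgroup.pow_mem _ c.2 j, ?_, ?_⟩
    · intro h; rw [h, orderOf_one] at hj; norm_num at hj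
    · rw [← hj]; exact pow_orderOf_eq_one _
  -- part 1
  have hcentral : ∀ x : G, x ^ 2 = 1 → x ∈ Subgroup.center G := by
    intro x hx
    by_cases hx1 : x = 1
    · rw [hx1]; exact Subgroup.one_mem _
    obtain ⟨a, ha⟩ := htrans z x hz1 hz2 hx1 hx
    rw [Subgroup.mem_center_iff]
    intro g
    have h1 := (Subgroup.mem_center_iff.mp hzZ) (a.symm g)
    have h2 := congrArg a h1
    rw [map_mul, map_mul, MulEquiv.apply_symm_apply, ha] at h2
    exact h2
  refine ⟨hcentral, ?_⟩
  -- the subgroup V of elements of order dividing 2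
  let V : Subgroup G :=
    { carrier := {x | x ^ 2 = 1}
      one_mem' := one_pow 2
      mul_mem' := by
        intro a b ha hb
        have hcomm : Commute a b := ((Subgroup.mem_center_iff.mp (hcentral b hb)) a)
        change (a * b) ^ 2 = 1
        rw [hcomm.mul_pow, ha, hb, one_mul]
      inv_mem' := by
        intro a ha
        change a⁻¹ ^ 2 = 1
        rw [inv_pow, ha, inv_one] }
  have hVmem : ∀ x : G, x ∈ V ↔ x ^ 2 = 1 := fun x => Iff.rfl
  have hcardV : Nat.card {z : G // z ^ 2 = 1} = Nat.card V := rfl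
  obtain ⟨k, hk⟩ := IsPGroup.iff_card.mp (hG.to_subgroup V)
  obtain ⟨n, hn⟩ := IsPGroup.iff_card.mp hG
  -- the bottom involution
  let bot : G → G := fun g => g ^ (orderOf g / 2)
  have hbot_aut : ∀ (a : MulAut G) (g : G), bot (a g) = a (bot g) := by
    intro a g
    change (a g) ^ (orderOf (a g) / 2) = a (g ^ (orderOf g / 2))
    rw [MulEquiv.orderOf_eq, map_pow]
  have hbot_ord : ∀ g : G, g ≠ 1 → bot g ≠ 1 ∧ bot g ^ 2 = 1 := by
    intro g hg
    obtain ⟨j, hj⟩ := IsPGroup.iff_orderOf.mp hG g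
    have hj0 : j ≠ 0 := by
      intro h0
      rw [h0, pow_zero, orderOf_eq_one_iff] at hj
      exact hg hj
    obtain ⟨j', rfl⟩ : ∃ j', j = j' + 1 := ⟨j - 1, by omega⟩
    have hhalf : orderOf g / 2 = 2 ^ j' := by
      rw [hj, pow_succ, Nat.mul_div_cancel _ (by norm_num)]
    have hord : orderOf (bot g) = 2 := by
      change orderOf (g ^ (orderOf g / 2)) = 2
      rw [hhalf, orderOf_pow_of_dvd (by positivity) (by rw [hj]; exact pow_dvd_pow 2 (by omega)), hj,
        pow_succ, Nat.mul_div_cancel_left _ (by positivity)]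
    constructor
    · intro h; rw [h, orderOf_one] at hord; norm_num at hord
    · rw [← hord]; exact pow_orderOf_eq_one _
  -- counting
  let S : Finset G := Finset.univ.filter (fun g => g ≠ 1)
  let T : Finset G := Finset.univ.filter (fun v => v ≠ 1 ∧ v ^ 2 = 1)
  have hST : ∀ g ∈ S, bot g ∈ T := by
    intro g hg
    simp only [S, Finset.mem_filter, Finset.mem_univ, true_and] at hg
    simp only [T, Finset.mem_filter, Finset.mem_univ, true_and]
    exact hbot_ord g hg
  have hcount := Finset.card_eq_sum_card_fiberwise hST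
  have hfib : ∀ v ∈ T, (S.filter (fun g => bot g = v)).card = (S.filter (fun g => bot g = z)).card := by
    intro v hv
    simp only [T, Finset.mem_filter, Finset.mem_univ, true_and] at hv
    obtain ⟨a, ha⟩ := htrans z v hz1 hz2 hv.1 hv.2
    have : S.filter (fun g => bot g = v) = (S.filter (fun g => bot g = z)).map a.toEquiv.toEmbedding := by
      ext g
      simp only [S, Finset.mem_filter, Finset.mem_univ, true_and, Finset.mem_map,
        Equiv.coe_toEmbedding]
      constructor
      · rintro ⟨hg1, hgv⟩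
        refine ⟨a.symm g, ⟨?_, ?_⟩, MulEquiv.apply_symm_apply a g⟩
        · intro h
          apply hg1
          have := congrArg a h
          rwa [MulEquiv.apply_symm_apply, map_one] at this
        · have h1 := hbot_aut a (a.symm g)
          rw [MulEquiv.apply_symm_apply, hgv, ← ha] at h1
          exact (a.injective h1).symm
      · rintro ⟨g', ⟨hg'1, hg'z⟩, rfl⟩
        have e : a.toEquiv g' = a g' := rfl
        rw [e]
        refine ⟨?_, ?_⟩
        · intro h
          apply hg'1
          have := congrArg a.symm h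
          rwa [MulEquiv.symm_apply_apply, map_one] at this
        · rw [hbot_aut, hg'z, ha]
    rw [this, Finset.card_map]
  rw [Finset.sum_const_nat hfib] at hcount
  have hScard : S.card = Nat.card G - 1 := by
    simp only [S]
    rw [Finset.filter_ne' Finset.univ (1 : G), Finset.card_erase_of_mem (Finset.mem_univ _),
      Finset.card_univ, Nat.card_eq_fintype_card]
  have hTcard : T.card = Nat.card V - 1 := by
    have h1 : T = (Finset.univ.filter (fun v : G => v ^ 2 = 1)).erase 1 := by
      ext v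
      simp only [T, Finset.mem_filter, Finset.mem_univ, true_and, Finset.mem_erase]
    rw [h1, Finset.card_erase_of_mem (by simp)]
    congr 1
    rw [Nat.card_eq_fintype_card, Fintype.card_subtype]
    congr 1
  rw [hScard, hTcard, hn, hk] at hcount
  have hdvd : 2 ^ k - 1 ∣ 2 ^ n - 1 := ⟨_, hcount⟩
  have hgcd := Nat.pow_sub_one_gcd_pow_sub_one 2 k n
  rw [Nat.gcd_eq_left hdvd] at hgcd
  have hk1 : 1 ≤ 2 ^ k := Nat.one_le_two_pow
  have hg1 : 1 ≤ 2 ^ (Nat.gcd k n) := Nat.one_le_two_pow
  have h2 : 2 ^ k = 2 ^ (Nat.gcd k n) := by omega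
  have h3 : k = Nat.gcd k n := Nat.pow_right_injective (le_refl 2) h2
  have hkn : k ∣ n := by rw [h3]; exact Nat.gcd_dvd_right k n
  obtain ⟨m, hm⟩ := hkn
  refine ⟨m, ?_⟩
  rw [hcardV, hk, hn, hm, pow_mul]

end Cfsg.Agent.S3774
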