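import Cfsg.Statements.S3775
import Cfsg.Agent.S4381

set_option autoImplicit false
open Cfsg

namespace Cfsg.Agent.S3775

variable {A : Type*} [CommGroup A]

/-- `Ω_i(A)` for the prime `p` -/
def Om (A : Type*) [CommGroup A] (p i : ℕ) : Subgroup A := (powMonoidHom (p ^ i) : A →* A).ker

theorem mem_Om {p i : ℕ} {a : A} : a ∈ Om A p i ↔ a ^ p ^ i = 1 := MonoidHom.mem_ker

theorem Om_mono {p i j : ℕ} (h : i ≤ j) : Om A p i ≤ Om A p j := by
  intro a ha
  rw [mem_Om] at *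
  obtain ⟨k, rfl⟩ := Nat.exists_eq_add_of_le h
  rw [pow_add, pow_mul, ha, one_pow]

/-- invariance under `X` -/
def Inv (X : Subgroup (MulAut A)) (B : Subgroup A) : Prop := ∀ x ∈ X, ∀ b ∈ B, x b ∈ B

theorem inv_iff (X : Subgroup (MulAut A)) (B : Subgroup A) :
    (∀ x ∈ X, B.map x.toMonoidHom = B) ↔ Inv X B := by
  constructor
  · intro h x hx b hb
    rw [← h x hx]
    exact ⟨b, hb, rfl⟩
  · intro h x hx
    apply le_antisymm
    · rintro _ ⟨b, hb, rfl⟩
      exact h x hx b hb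
    · intro b hb
      refine ⟨x⁻¹ b, h x⁻¹ (X.inv_mem hx) b hb, ?_⟩
      show x (x⁻¹ b) = b
      simp

theorem inv_Om (X : Subgroup (MulAut A)) (p i : ℕ) : Inv X (Om A p i) := by
  intro x _ b hb
  rw [mem_Om] at *
  rw [← map_pow, hb, map_one]

theorem inv_inf {X : Subgroup (MulAut A)} {B C : Subgroup A} (hB : Inv X B) (hC : Inv X C) :
    Inv X (B ⊓ C) := fun x hx b hb => ⟨hB x hx b hb.1, hC x hx b hb.2⟩

theorem inv_sup {X : Subgroup (MulAut A)} {B C : Subgroup A} (hB : Inv X B) (hC : Inv X C) :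
    Inv X (B ⊔ C) := by
  intro x hx b hb
  obtain ⟨u, hu, v, hv, rfl⟩ := Subgroup.mem_sup.mp hb
  rw [map_mul]
  exact Subgroup.mul_mem_sup (hB x hx u hu) (hC x hx v hv)

theorem inv_map_pow {X : Subgroup (MulAut A)} {B : Subgroup A} (hB : Inv X B) (k : ℕ) :
    Inv X (B.map (powMonoidHom k : A →* A)) := by
  rintro x hx _ ⟨b, hb, rfl⟩
  refine ⟨x b, hB x hx b hb, ?_⟩
  simp only [powMonoidHom_apply, map_pow]

theorem inv_comap_pow {X : Subgroup (MulAut A)} {B : Subgroup A} (hB : Inv X B) (k : ℕ) :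
    Inv X (B.comap (powMonoidHom k : A →* A)) := by
  intro x hx b hb
  rw [Subgroup.mem_comap, powMonoidHom_apply] at *
  rw [← map_pow]
  exact hB x hx _ hb

theorem map_pow_le (B : Subgroup A) (k : ℕ) : B.map (powMonoidHom k : A →* A) ≤ B := by
  rintro _ ⟨b, hb, rfl⟩
  exact B.pow_mem hb k

section pgroup

variable [Finite A] {p : ℕ} [hp : Fact p.Prime]

theorem exists_pow_card (hA : IsPGroup p A) : ∃ N : ℕ, ∀ a : A, a ^ p ^ N = 1 := by
  obtain ⟨N, hN⟩ := (IsPGroup.iff_card (p := p)).mp hA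
  exact ⟨N, fun a => by rw [← hN]; exact pow_card_eq_one'⟩

theorem map_pow_iterate (C : Subgroup A) (h : C.map (powMonoidHom p : A →* A) = C) (k : ℕ) :
    C.map (powMonoidHom (p ^ k) : A →* A) = C := by
  induction k with
  | zero =>
    ext a
    simp
  | succ k ih =>
    have : (powMonoidHom (p ^ (k + 1)) : A →* A) = (powMonoidHom p).comp (powMonoidHom (p ^ k)) := by
      ext a
      simp [pow_succ, pow_mul]
    rw [this, ← Subgroup.map_map, ih, h]

theorem map_pow_lt (hA : IsPGroup p A) {C : Subgroup A} (hC : C ≠ ⊥) :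
    C.map (powMonoidHom p : A →* A) < C := by
  refine lt_of_le_of_ne (map_pow_le C p) ?_
  intro h
  obtain ⟨N, hN⟩ := exists_pow_card hA
  have h1 := map_pow_iterate C h N
  apply hC
  rw [← h1, eq_bot_iff]
  rintro _ ⟨c, _, rfl⟩
  rw [Subgroup.mem_bot, powMonoidHom_apply, hN]

/-- a nontrivial subgroup contains an element of order `p` -/
theorem exists_order_p (hA : IsPGroup p A) {B : Subgroup A} (hB : B ≠ ⊥) :
    ∃ c ∈ B, c ≠ 1 ∧ c ^ p = 1 := by
  classical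
  obtain ⟨b, hb, hb1⟩ := B.bot_or_exists_ne_one.resolve_left hB
  have hex : ∃ k : ℕ, b ^ p ^ k = 1 := hA b
  set k := Nat.find hex with hk
  have hk1 : b ^ p ^ k = 1 := Nat.find_spec hex
  have hk0 : k ≠ 0 := by
    intro h0
    rw [h0, pow_zero, pow_one] at hk1
    exact hb1 hk1
  obtain ⟨m, hm⟩ := Nat.exists_eq_succ_of_ne_zero hk0
  refine ⟨b ^ p ^ m, B.pow_mem hb _, ?_, ?_⟩
  · intro h
    have : k ≤ m := Nat.find_min' hex h
    omega
  · have e : p ^ m * p = p ^ k := by rw [hm, pow_succ]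
    rw [← pow_mul, e]
    exact hk1

/-- if `X` is irreducible on `Ω₁`, all invariant subgroups are `Ω_i` (relative version) -/
theorem all_Om_of_irred (hA : IsPGroup p A) (X : Subgroup (MulAut A)) :
    ∀ n : ℕ, ∀ C : Subgroup A, Nat.card C = n → Inv X C →
      (∀ B : Subgroup A, B ≤ C → Inv X B → (∀ b ∈ B, b ^ p = 1) → B = ⊥ ∨ B = C ⊓ Om A p 1) →
      ∀ B : Subgroup A, B ≤ C → Inv X B → ∃ i : ℕ, B = C ⊓ Om A p i := by
  intro n
  induction n using Nat.strong_induction_on with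
  | _ n ih =>
  intro C hcard hC hirr B hBC hB
  by_cases hB0 : B = ⊥
  · refine ⟨0, ?_⟩
    rw [hB0, eq_comm, eq_bot_iff]
    intro a ha
    have : a ∈ Om A p 0 := ha.2
    rw [mem_Om, pow_zero, pow_one] at this
    rw [Subgroup.mem_bot]; exact this
  have hC0 : C ≠ ⊥ := fun h => hB0 (le_bot_iff.mp (h ▸ hBC))
  -- Ω₁(B)
  have h1 : B ⊓ Om A p 1 = C ⊓ Om A p 1 := by
    rcases hirr (B ⊓ Om A p 1) (inf_le_left.trans hBC) (inv_inf hB (inv_Om X p 1))
      (fun b hb => by have : b ∈ Om A p 1 := hb.2; rwa [mem_Om, pow_one] at this) with h | h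
    · exfalso
      obtain ⟨c, hc, hc1, hcp⟩ := exists_order_p hA hB0
      have : c ∈ B ⊓ Om A p 1 := ⟨hc, by show c ∈ Om A p 1; rw [mem_Om, pow_one]; exact hcp⟩
      rw [h, Subgroup.mem_bot] at this
      exact hc1 this
    · exact h
  have hΩB : C ⊓ Om A p 1 ≤ B := h1 ▸ inf_le_left
  -- pass to C^p
  set C' : Subgroup A := C.map (powMonoidHom p : A →* A) with hC'
  have hC'lt : C' < C := map_pow_lt hA hC0
  have hC'inv : Inv X C' := inv_map_pow hC p
  have hcard' : Nat.card C' < n := by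
    rw [← hcard]
    exact Set.Finite.card_lt_card (Set.toFinite (C : Set A)) (SetLike.coe_ssubset_coe.mpr hC'lt)
  have hirr' : ∀ B' : Subgroup A, B' ≤ C' → Inv X B' → (∀ b ∈ B', b ^ p = 1) →
      B' = ⊥ ∨ B' = C' ⊓ Om A p 1 := by
    intro B' hB'C' hB' hexp
    rcases hirr B' (hB'C'.trans hC'lt.le) hB' hexp with h | h
    · left; exact h
    · right
      apply le_antisymm
      · exact le_inf hB'C' (h ▸ inf_le_right)
      · rw [h]
        exact inf_le_inf_right _ hC'lt.le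
  set B' : Subgroup A := B.map (powMonoidHom p : A →* A) with hB'
  have hB'C' : B' ≤ C' := Subgroup.map_mono hBC
  obtain ⟨j, hj⟩ := ih _ hcard' C' rfl hC'inv hirr' B' hB'C' (inv_map_pow hB p)
  refine ⟨j + 1, ?_⟩
  apply le_antisymm
  · intro b hb
    refine ⟨hBC hb, ?_⟩
    have hb' : b ^ p ∈ B' := ⟨b, hb, rfl⟩
    rw [hj] at hb'
    have : b ^ p ∈ Om A p j := hb'.2
    show b ∈ Om A p (j + 1)
    rw [mem_Om] at this ⊢
    rw [pow_succ', pow_mul]
    exact this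
  · rintro c ⟨hcC, hcΩ⟩
    have hcΩ' : c ∈ Om A p (j + 1) := hcΩ
    rw [mem_Om] at hcΩ'
    have hc' : c ^ p ∈ C' ⊓ Om A p j := by
      refine ⟨⟨c, hcC, rfl⟩, ?_⟩
      show c ^ p ∈ Om A p j
      rw [mem_Om, ← pow_mul, ← pow_succ']
      exact hcΩ'
    rw [← hj] at hc'
    obtain ⟨b, hb, hbc⟩ := hc'
    rw [powMonoidHom_apply] at hbc
    have h2 : c * b⁻¹ ∈ C ⊓ Om A p 1 := by
      refine ⟨C.mul_mem hcC (C.inv_mem (hBC hb)), ?_⟩
      show c * b⁻¹ ∈ Om A p 1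
      rw [mem_Om, pow_one, mul_pow, inv_pow, hbc, mul_inv_cancel]
    have h3 := B.mul_mem (hΩB h2) hb
    simpa using h3

end pgroup


section compl

variable [Finite A] {p : ℕ} [hp : Fact p.Prime]

/-- a "pure" subgroup of maximal exponent has a complement -/
theorem exists_compl_of_pure {m : ℕ} (hexp : ∀ a : A, a ^ p ^ (m + 1) = 1) (C : Subgroup A)
    (hβ : ∀ c ∈ C, c ^ p ^ m = 1 → ∃ d ∈ C, c = d ^ p) :
    ∃ D : Subgroup A, C ⊓ D = ⊥ ∧ C ⊔ D = ⊤ := by
  classical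
  have hpp : p.Prime := hp.out
  let S : Set (Subgroup A) := {D | C ⊓ D = ⊥}
  have hS : S.Nonempty := ⟨⊥, inf_bot_eq C⟩
  obtain ⟨D, hDS, hmax⟩ := (Set.toFinite S).exists_maximal hS
  have hCD : C ⊓ D = ⊥ := hDS
  refine ⟨D, hCD, ?_⟩
  by_contra hne
  set T : Subgroup A := C ⊔ D with hT
  obtain ⟨x, hx⟩ : ∃ x : A, x ∉ T := by
    by_contra h
    push Not at h
    exact hne (eq_top_iff.mpr fun a _ => h a)
  -- choose y ∉ T with y ^ p ∈ T
  obtain ⟨y, hyT, hypT⟩ : ∃ y : A, y ∉ T ∧ y ^ p ∈ T := by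
    have hex : ∃ k : ℕ, x ^ p ^ k ∈ T := ⟨m + 1, by rw [hexp]; exact T.one_mem⟩
    set k := Nat.find hex with hk
    have hk1 : x ^ p ^ k ∈ T := Nat.find_spec hex
    have hk0 : k ≠ 0 := by
      intro h0
      rw [h0, pow_zero, pow_one] at hk1
      exact hx hk1
    obtain ⟨j, hj⟩ := Nat.exists_eq_succ_of_ne_zero hk0
    refine ⟨x ^ p ^ j, ?_, ?_⟩
    · intro h
      have : k ≤ j := Nat.find_min' hex h
      omega
    · have e : p ^ j * p = p ^ k := by rw [hj, pow_succ]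
      rw [← pow_mul, e]
      exact hk1
  obtain ⟨c, hc, d, hd, hcd⟩ := Subgroup.mem_sup.mp hypT
  have h1 : c ^ p ^ m = 1 := by
    have h2 : (c * d) ^ p ^ m = 1 := by
      rw [hcd, ← pow_mul, ← pow_succ', hexp]
    rw [mul_pow] at h2
    have h3 : c ^ p ^ m ∈ C ⊓ D := by
      refine ⟨C.pow_mem hc _, ?_⟩
      have : c ^ p ^ m = (d ^ p ^ m)⁻¹ := eq_inv_of_mul_eq_one_left h2
      rw [this]
      exact D.inv_mem (D.pow_mem hd _)
    rw [hCD, Subgroup.mem_bot] at h3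
    exact h3
  obtain ⟨c₁, hc₁, hcc₁⟩ := hβ c hc h1
  set z : A := y * c₁⁻¹ with hz
  have hzT : z ∉ T := by
    intro h
    apply hyT
    have : y = z * c₁ := by rw [hz]; group
    rw [this]
    exact T.mul_mem h (le_sup_left (a := C) (b := D) hc₁)
  have hzp : z ^ p = d := by
    rw [hz, mul_pow, inv_pow, ← hcc₁, ← hcd, mul_comm c d, mul_inv_cancel_right]
  have hzD : z ∉ D := fun h => hzT (le_sup_right (a := C) (b := D) h)
  have hlt : D < D ⊔ Subgroup.zpowers z := by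
    refine lt_of_le_of_ne le_sup_left ?_
    intro h
    apply hzD
    rw [h]
    exact le_sup_right (a := D) (Subgroup.mem_zpowers z)
  have hnot : C ⊓ (D ⊔ Subgroup.zpowers z) ≠ ⊥ := by
    intro h
    have := hmax (show (D ⊔ Subgroup.zpowers z) ∈ S from h) hlt.le
    exact (not_le_of_gt hlt) this
  obtain ⟨c', hc'mem, hc'1⟩ := (C ⊓ (D ⊔ Subgroup.zpowers z)).bot_or_exists_ne_one.resolve_left hnot
  obtain ⟨hc'C, hc'D⟩ := hc'mem
  obtain ⟨d', hd', w, hw, hdw⟩ := Subgroup.mem_sup.mp hc'D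
  obtain ⟨k, rfl⟩ := Subgroup.mem_zpowers_iff.mp hw
  by_cases hpk : (p : ℤ) ∣ k
  · obtain ⟨l, rfl⟩ := hpk
    apply hc'1
    have h4 : z ^ ((p : ℤ) * l) ∈ D := by
      rw [zpow_mul, zpow_natCast, hzp]
      exact D.zpow_mem hd l
    have h5 : c' ∈ C ⊓ D := ⟨hc'C, by rw [← hdw]; exact D.mul_mem hd' h4⟩
    rw [hCD, Subgroup.mem_bot] at h5
    exact h5
  · have hcop : IsCoprime k (p : ℤ) := by
      have hprime : Prime (p : ℤ) := Nat.prime_iff_prime_int.mp hpp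
      exact (hprime.coprime_iff_not_dvd.mpr hpk).symm
    obtain ⟨u, v, huv⟩ := hcop
    apply hzT
    have hzk : z ^ k ∈ T := by
      have : z ^ k = d'⁻¹ * c' := by rw [← hdw]; group
      rw [this]
      exact T.mul_mem (T.inv_mem (le_sup_right (a := C) (b := D) hd')) (le_sup_left (a := C) (b := D) hc'C)
    have hzpT : z ^ (p : ℤ) ∈ T := by
      rw [zpow_natCast, hzp]
      exact le_sup_right (a := C) (b := D) hd
    have : z = (z ^ k) ^ u * (z ^ (p : ℤ)) ^ v := by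
      rw [← zpow_mul, ← zpow_mul, ← zpow_add, mul_comm k u, mul_comm (p : ℤ) v, huv, zpow_one]
    rw [this]
    exact T.mul_mem (T.zpow_mem hzk u) (T.zpow_mem hzpT v)

end compl


section beta

variable [Finite A] {p : ℕ} [hp : Fact p.Prime]

instance finite_mulAut : Finite (MulAut A) :=
  Finite.of_injective (fun f : MulAut A => (f : A → A)) DFunLike.coe_injective

theorem coprime_card_of_dvd (hA : IsPGroup p A) {k n : ℕ} (hk : k.Coprime p) (hn : n ∣ Nat.card A) :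
    k.Coprime n := by
  obtain ⟨N, hN⟩ := (IsPGroup.iff_card (p := p)).mp hA
  rw [hN] at hn
  exact Nat.Coprime.coprime_dvd_right hn (Nat.Coprime.pow_right N hk)

/-- the key property of a minimal invariant `C` with prescribed image under `p ^ m`-th powers -/
theorem beta_of_minimal (hA : IsPGroup p A) (X : Subgroup (MulAut A)) (hX : (Nat.card X).Coprime p)
    {m : ℕ} (hexp : ∀ a : A, a ^ p ^ (m + 1) = 1) (C : Subgroup A) (hC : Inv X C)
    (hmin : ∀ Y : Subgroup A, Inv X Y → Y ≤ C →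
      Y.map (powMonoidHom (p ^ m) : A →* A) = C.map (powMonoidHom (p ^ m) : A →* A) → C ≤ Y) :
    ∀ c ∈ C, c ^ p ^ m = 1 → ∃ d ∈ C, c = d ^ p := by
  classical
  set Cp : Subgroup A := C.map (powMonoidHom p : A →* A) with hCp
  have hCpC : Cp ≤ C := map_pow_le C p
  have hCpinv : Inv X Cp := inv_map_pow hC p
  set K : Subgroup C := Cp.subgroupOf C with hK
  let f : X → (C →* C) := fun x =>
    (((x : MulAut A).toMonoidHom).comp C.subtype).codRestrict C (fun c => hC x.1 x.2 c.1 c.2)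
  have hfval : ∀ (x : X) (c : C), ((f x c : C) : A) = (x : MulAut A) (c : A) := fun x c => rfl
  have hf : ∀ x : X, K ≤ K.comap (f x) := by
    intro x c hc
    rw [Subgroup.mem_comap, hK, Subgroup.mem_subgroupOf, hfval]
    rw [hK, Subgroup.mem_subgroupOf] at hc
    exact hCpinv x.1 x.2 _ hc
  let ψ : X → ((C ⧸ K) →* (C ⧸ K)) := fun x => QuotientGroup.map K K (f x) (hf x)
  have hψmk : ∀ (x : X) (c : C), ψ x (QuotientGroup.mk c) = QuotientGroup.mk (f x c) := fun x c => rfl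
  have hψ1 : ∀ v, ψ 1 v = v := by
    intro v
    induction v using QuotientGroup.induction_on with
    | H c =>
      rw [hψmk]
      congr 1
  have hψmul : ∀ a b v, ψ (a * b) v = ψ a (ψ b v) := by
    intro a b v
    induction v using QuotientGroup.induction_on with
    | H c =>
      rw [hψmk, hψmk, hψmk]
      congr 1
  have hexpQ : ∀ v : C ⧸ K, v ^ p = 1 := by
    intro v
    induction v using QuotientGroup.induction_on with
    | H c =>
      rw [← QuotientGroup.mk_pow, QuotientGroup.eq_one_iff, hK, Subgroup.mem_subgroupOf]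
      exact ⟨c.1, c.2, rfl⟩
  have hcopQ : (Nat.card X).Coprime (Nat.card (C ⧸ K)) := by
    apply coprime_card_of_dvd hA hX
    exact (Subgroup.card_quotient_dvd_card K).trans (Subgroup.card_subgroup_dvd_card C)
  set φ : A →* A := powMonoidHom (p ^ m) with hφ
  set N : Subgroup A := C ⊓ φ.ker with hN
  have hNinv : Inv X N := by
    apply inv_inf hC
    intro x _ b hb
    rw [MonoidHom.mem_ker] at *
    rw [hφ, powMonoidHom_apply, ← map_pow]
    rw [hφ, powMonoidHom_apply] at hb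
    rw [hb, map_one]
  set Nbar : Subgroup (C ⧸ K) := (N.subgroupOf C).map (QuotientGroup.mk' K) with hNbar
  have hNbarinv : ∀ x : X, ∀ u ∈ Nbar, ψ x u ∈ Nbar := by
    rintro x _ ⟨c, hc, rfl⟩
    refine ⟨f x c, ?_, rfl⟩
    rw [SetLike.mem_coe, Subgroup.mem_subgroupOf] at hc ⊢
    rw [hfval]
    exact hNinv x.1 x.2 _ hc
  obtain ⟨W', hW'inv, hW'1, hW'2⟩ :=
    Cfsg.Agent.S4381.exists_inv_compl p hexpQ ψ hψ1 hψmul hcopQ Nbar hNbarinv
  set Y : Subgroup A := (W'.comap (QuotientGroup.mk' K)).map C.subtype with hY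
  have hYmem : ∀ a : A, a ∈ Y ↔ ∃ h : a ∈ C, (QuotientGroup.mk ⟨a, h⟩ : C ⧸ K) ∈ W' := by
    intro a
    constructor
    · rintro ⟨⟨y, hy⟩, hy', rfl⟩
      exact ⟨hy, hy'⟩
    · rintro ⟨h, h'⟩
      exact ⟨⟨a, h⟩, h', rfl⟩
  have hYC : Y ≤ C := Subgroup.map_subtype_le _
  have hYinv : Inv X Y := by
    intro x hx a ha
    rw [hYmem] at ha ⊢
    obtain ⟨haC, ha'⟩ := ha
    refine ⟨hC x hx a haC, ?_⟩
    have := hW'inv ⟨x, hx⟩ _ ha'
    rw [hψmk] at this
    exact this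
  have hφp : ∀ e : A, φ (e ^ p) = 1 := by
    intro e
    rw [hφ, powMonoidHom_apply, ← pow_mul, ← pow_succ', hexp]
  have hYmap : Y.map φ = C.map φ := by
    apply le_antisymm (Subgroup.map_mono hYC)
    rintro _ ⟨c, hc, rfl⟩
    have hmem : (QuotientGroup.mk ⟨c, hc⟩ : C ⧸ K) ∈ Nbar ⊔ W' := by rw [hW'2]; trivial
    obtain ⟨nb, hnb, wb, hwb, hnw⟩ := Subgroup.mem_sup.mp hmem
    obtain ⟨n, hn, rfl⟩ := hnb
    obtain ⟨c', rfl⟩ := QuotientGroup.mk_surjective wb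
    rw [SetLike.mem_coe, Subgroup.mem_subgroupOf] at hn
    have h1 : (QuotientGroup.mk (n * c') : C ⧸ K) = QuotientGroup.mk ⟨c, hc⟩ := hnw
    have h2 := (QuotientGroup.eq).mp h1
    rw [hK, Subgroup.mem_subgroupOf] at h2
    obtain ⟨e, _, he⟩ := h2
    rw [powMonoidHom_apply] at he
    -- c = n * c' * e^p
    have h3 : c = (n : A) * (c' : A) * e ^ p := by
      rw [he]
      simp only [Subgroup.coe_mul, Subgroup.coe_inv, mul_inv_rev]
      group
    refine ⟨(c' : A), ?_, ?_⟩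
    · rw [SetLike.mem_coe, hYmem]
      exact ⟨c'.2, hwb⟩
    · rw [h3, map_mul, map_mul, hφp, mul_one]
      have : φ (n : A) = 1 := hn.2
      rw [this, one_mul]
  have hCY : C ≤ Y := hmin Y hYinv hYC hYmap
  intro c hc hcm
  have h1 : (QuotientGroup.mk ⟨c, hc⟩ : C ⧸ K) ∈ Nbar := by
    refine ⟨⟨c, hc⟩, ?_, rfl⟩
    rw [SetLike.mem_coe, Subgroup.mem_subgroupOf]
    exact ⟨hc, by show c ∈ φ.ker; rw [MonoidHom.mem_ker, hφ, powMonoidHom_apply]; exact hcm⟩
  obtain ⟨_, h2⟩ := (hYmem c).mp (hCY hc)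
  have h3 : (QuotientGroup.mk ⟨c, hc⟩ : C ⧸ K) ∈ Nbar ⊓ W' := ⟨h1, h2⟩
  rw [hW'1, Subgroup.mem_bot, QuotientGroup.eq_one_iff, hK, Subgroup.mem_subgroupOf] at h3
  obtain ⟨d, hd, hdc⟩ := h3
  exact ⟨d, hd, hdc.symm⟩

end beta


section main

variable [Finite A] {p : ℕ} [hp : Fact p.Prime]

/-- indecomposable ⇒ irreducible on `Ω₁` -/
theorem irred_of_indecomp (hA : IsPGroup p A) (X : Subgroup (MulAut A))
    (hX : (Nat.card X).Coprime p)
    (hind : ∀ B C : Subgroup A, Inv X B → Inv X C → B ⊓ C = ⊥ → B ⊔ C = ⊤ → B = ⊥ ∨ C = ⊥) :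
    ∀ B : Subgroup A, Inv X B → (∀ b ∈ B, b ^ p = 1) → B = ⊥ ∨ B = Om A p 1 := by
  classical
  intro B hBinv hBexp
  by_cases htriv : (⊤ : Subgroup A) = ⊥
  · left
    exact le_bot_iff.mp (htriv ▸ le_top)
  have hex : ∃ N : ℕ, ∀ a : A, a ^ p ^ N = 1 := exists_pow_card hA
  set n := Nat.find hex with hn
  have hn1 : ∀ a : A, a ^ p ^ n = 1 := Nat.find_spec hex
  have hn0 : n ≠ 0 := by
    intro h0
    apply htriv
    rw [eq_bot_iff]
    intro a _
    have := hn1 a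
    rw [h0, pow_zero, pow_one] at this
    rw [Subgroup.mem_bot]; exact this
  obtain ⟨m, hm⟩ := Nat.exists_eq_succ_of_ne_zero hn0
  have hexp : ∀ a : A, a ^ p ^ (m + 1) = 1 := by
    intro a
    have := hn1 a
    rwa [hm] at this
  have hnot : ¬ ∀ a : A, a ^ p ^ m = 1 := by
    intro h
    have : n ≤ m := Nat.find_min' hex h
    omega
  set φ : A →* A := powMonoidHom (p ^ m) with hφ
  set W : Subgroup A := φ.range with hW
  have hW0 : W ≠ ⊥ := by
    intro h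
    apply hnot
    intro a
    have : φ a ∈ W := ⟨a, rfl⟩
    rw [h, Subgroup.mem_bot] at this
    exact this
  have hWΩ : W ≤ Om A p 1 := by
    rintro _ ⟨a, rfl⟩
    rw [mem_Om, pow_one, hφ, powMonoidHom_apply, ← pow_mul, ← pow_succ]
    exact hexp a
  have hWinv : Inv X W := by
    rintro x _ _ ⟨a, rfl⟩
    refine ⟨x a, ?_⟩
    simp only [hφ, powMonoidHom_apply, map_pow]
  let S : Set (Subgroup A) := {U | U ≠ ⊥ ∧ Inv X U ∧ U ≤ W}
  have hS : S.Nonempty := ⟨W, hW0, hWinv, le_rfl⟩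
  obtain ⟨U, ⟨hU0, hUinv, hUW⟩, hUmin⟩ := (Set.toFinite S).exists_minimal hS
  let T : Set (Subgroup A) := {C | Inv X C ∧ C.map φ = U}
  have hT : T.Nonempty := ⟨U.comap φ, by
    have := inv_comap_pow hUinv (p ^ m)
    exact this, Subgroup.map_comap_eq_self hUW⟩
  obtain ⟨C, ⟨hCinv, hCmap⟩, hCmin⟩ := (Set.toFinite T).exists_minimal hT
  have hβ := beta_of_minimal hA X hX hexp C hCinv
    (fun Y hY hYC hmap => hCmin ⟨hY, hmap.trans hCmap⟩ hYC)
  -- (α)
  have hP : ∀ k j : ℕ, k + j = m + 1 → ∀ c ∈ C, c ^ p ^ j = 1 → ∃ d ∈ C, c = d ^ p ^ k := by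
    intro k
    induction k with
    | zero =>
      intro j _ c hc _
      exact ⟨c, hc, by simp⟩
    | succ k ih =>
      intro j hkj c hc hcj
      have hcj' : c ^ p ^ (j + 1) = 1 := by rw [pow_succ, pow_mul, hcj, one_pow]
      obtain ⟨d, hd, hcd⟩ := ih (j + 1) (by omega) c hc hcj'
      have hmkj : m = k + j := by omega
      have hdm : d ^ p ^ m = 1 := by
        rw [hmkj, pow_add, pow_mul, ← hcd]
        exact hcj
      obtain ⟨e, he, hde⟩ := hβ d hd hdm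
      refine ⟨e, he, ?_⟩
      rw [hcd, hde, ← pow_mul, ← pow_succ']
  have hα : C ⊓ Om A p 1 ≤ U := by
    rintro c ⟨hc, hc1⟩
    have hc1' : c ∈ Om A p 1 := hc1
    rw [mem_Om] at hc1'
    obtain ⟨d, hd, hcd⟩ := hP m 1 rfl c hc hc1'
    rw [← hCmap]
    exact ⟨d, hd, hcd.symm⟩
  -- (γ)
  obtain ⟨D, hCD, hCD'⟩ := exists_compl_of_pure hexp C hβ
  -- (δ)
  haveI : Fintype X := Fintype.ofFinite X
  have hcop : (Fintype.card X).Coprime (Nat.card A) := by
    rw [← Nat.card_eq_fintype_card]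
    exact coprime_card_of_dvd hA hX dvd_rfl
  obtain ⟨D', hD'inv, hD'1, hD'2⟩ := Cfsg.Agent.S0660.maschke
    (fun x : X => ((x : MulAut A).toMonoidHom : A →* A)) (fun v => rfl) (fun a b v => rfl) hcop C D
    (fun a u hu => hCinv a.1 a.2 u hu) hCD hCD'
  have hD'inv' : Inv X D' := fun x hx b hb => hD'inv ⟨x, hx⟩ b hb
  have hC0 : C ≠ ⊥ := by
    intro h
    apply hU0
    rw [← hCmap, h, Subgroup.map_bot]
  have hCtop : C = ⊤ := by
    rcases hind C D' hCinv hD'inv' hD'1 hD'2 with h | h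
    · exact absurd h hC0
    · rw [h, sup_bot_eq] at hD'2
      exact hD'2
  have hΩU : Om A p 1 = U := by
    apply le_antisymm
    · have := hα
      rwa [hCtop, top_inf_eq] at this
    · exact hUW.trans hWΩ
  have hBΩ : B ≤ Om A p 1 := by
    intro b hb
    rw [mem_Om, pow_one]
    exact hBexp b hb
  by_cases hB0 : B = ⊥
  · left; exact hB0
  · right
    rw [hΩU]
    have hBU : B ≤ U := hΩU ▸ hBΩ
    exact le_antisymm hBU (hUmin ⟨hB0, hBinv, hBU.trans hUW⟩ hBU)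

end main

/-- Let A be a finite abelian p-group and X a group of automorphisms of A of order prime to p. Call a subgroup of A invariant when every element of X maps it onto itself. Then the following are equivalent: (i) A is not the direct product of two nontrivial invariant subgroups; (ii) every invariant subgroup of A is one of the subgroups Ω_i(A) = {a : a^(p^i) = 1}; (iii) the subgroup Ω₁(A) of elements of order dividing p has no invariant subgroups other than 1 and itself. -/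
theorem result {A : Type*} [CommGroup A] [Finite A] {p : ℕ} [Fact p.Prime] (hA : IsPGroup p A) (X : Subgroup (MulAut A)) (hX : (Nat.card X).Coprime p) : ((¬ ∃ B C : Subgroup A, B ≠ ⊥ ∧ C ≠ ⊥ ∧ (∀ x ∈ X, B.map x.toMonoidHom = B) ∧ (∀ x ∈ X, C.map x.toMonoidHom = C) ∧ B ⊓ C = ⊥ ∧ B ⊔ C = ⊤) ↔ (∀ B : Subgroup A, (∀ x ∈ X, B.map x.toMonoidHom = B) → ∃ i : ℕ, ∀ a : A, a ∈ B ↔ a ^ p ^ i = 1)) ∧ ((∀ B : Subgroup A, (∀ x ∈ X, B.map x.toMonoidHom = B) → ∃ i : ℕ, ∀ a : A, a ∈ B ↔ a ^ p ^ i = 1) ↔ (∀ B : Subgroup A, (∀ x ∈ X, B.map x.toMonoidHom = B) → (∀ b ∈ B, b ^ p = 1) → B = ⊥ ∨ ∀ a : A, a ∈ B ↔ a ^ p = 1)) := by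
  have h13 : (¬ ∃ B C : Subgroup A, B ≠ ⊥ ∧ C ≠ ⊥ ∧ (∀ x ∈ X, B.map x.toMonoidHom = B) ∧ (∀ x ∈ X, C.map x.toMonoidHom = C) ∧ B ⊓ C = ⊥ ∧ B ⊔ C = ⊤) →
      (∀ B : Subgroup A, (∀ x ∈ X, B.map x.toMonoidHom = B) → (∀ b ∈ B, b ^ p = 1) → B = ⊥ ∨ ∀ a : A, a ∈ B ↔ a ^ p = 1) := by
    intro h1 B hB hBexp
    have hind : ∀ B C : Subgroup A, Inv X B → Inv X C → B ⊓ C = ⊥ → B ⊔ C = ⊤ → B = ⊥ ∨ C = ⊥ := by
      intro B C hB hC h h'
      by_contra hne
      push Not at hne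
      exact h1 ⟨B, C, hne.1, hne.2, (inv_iff X B).mpr hB, (inv_iff X C).mpr hC, h, h'⟩
    rcases irred_of_indecomp hA X hX hind B ((inv_iff X B).mp hB) hBexp with h | h
    · left; exact h
    · right
      intro a
      rw [h, mem_Om, pow_one]
  have h32 : (∀ B : Subgroup A, (∀ x ∈ X, B.map x.toMonoidHom = B) → (∀ b ∈ B, b ^ p = 1) → B = ⊥ ∨ ∀ a : A, a ∈ B ↔ a ^ p = 1) →
      (∀ B : Subgroup A, (∀ x ∈ X, B.map x.toMonoidHom = B) → ∃ i : ℕ, ∀ a : A, a ∈ B ↔ a ^ p ^ i = 1) := by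
    intro h3 B hB
    have hirr : ∀ B : Subgroup A, B ≤ ⊤ → Inv X B → (∀ b ∈ B, b ^ p = 1) → B = ⊥ ∨ B = ⊤ ⊓ Om A p 1 := by
      intro B _ hB hBexp
      rcases h3 B ((inv_iff X B).mpr hB) hBexp with h | h
      · left; exact h
      · right
        ext a
        rw [top_inf_eq, mem_Om, pow_one]
        exact h a
    obtain ⟨i, hi⟩ := all_Om_of_irred hA X _ ⊤ rfl (fun _ _ _ _ => trivial) hirr B le_top
      ((inv_iff X B).mp hB)
    refine ⟨i, fun a => ?_⟩
    rw [hi, top_inf_eq, mem_Om]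
  have h23 : (∀ B : Subgroup A, (∀ x ∈ X, B.map x.toMonoidHom = B) → ∃ i : ℕ, ∀ a : A, a ∈ B ↔ a ^ p ^ i = 1) →
      (∀ B : Subgroup A, (∀ x ∈ X, B.map x.toMonoidHom = B) → (∀ b ∈ B, b ^ p = 1) → B = ⊥ ∨ ∀ a : A, a ∈ B ↔ a ^ p = 1) := by
    intro h2 B hB hBexp
    obtain ⟨i, hi⟩ := h2 B hB
    rcases Nat.eq_zero_or_pos i with h0 | hpos
    · left
      rw [eq_bot_iff]
      intro a ha
      have := (hi a).mp ha
      rw [h0, pow_zero, pow_one] at this
      rw [Subgroup.mem_bot]; exact this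
    · right
      intro a
      constructor
      · exact hBexp a
      · intro ha
        rw [hi]
        obtain ⟨k, rfl⟩ := Nat.exists_eq_succ_of_ne_zero hpos.ne'
        rw [pow_succ', pow_mul, ha, one_pow]
  have h21 : (∀ B : Subgroup A, (∀ x ∈ X, B.map x.toMonoidHom = B) → ∃ i : ℕ, ∀ a : A, a ∈ B ↔ a ^ p ^ i = 1) →
      (¬ ∃ B C : Subgroup A, B ≠ ⊥ ∧ C ≠ ⊥ ∧ (∀ x ∈ X, B.map x.toMonoidHom = B) ∧ (∀ x ∈ X, C.map x.toMonoidHom = C) ∧ B ⊓ C = ⊥ ∧ B ⊔ C = ⊤) := by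
    rintro h2 ⟨B, C, hB0, hC0, hB, hC, hBC, -⟩
    obtain ⟨i, hi⟩ := h2 B hB
    obtain ⟨j, hj⟩ := h2 C hC
    have hmono : ∀ (i j : ℕ), i ≤ j → ∀ a : A, a ^ p ^ i = 1 → a ^ p ^ j = 1 := by
      intro i j hij a ha
      obtain ⟨k, rfl⟩ := Nat.exists_eq_add_of_le hij
      rw [pow_add, pow_mul, ha, one_pow]
    rcases le_total i j with hij | hij
    · apply hB0
      have hle : B ≤ C := fun a ha => (hj a).mpr (hmono i j hij a ((hi a).mp ha))
      rw [← hBC]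
      exact (le_inf le_rfl hle).antisymm inf_le_left
    · apply hC0
      have hle : C ≤ B := fun a ha => (hi a).mpr (hmono j i hij a ((hj a).mp ha))
      rw [← hBC]
      exact (le_inf hle le_rfl).antisymm inf_le_right
  exact ⟨⟨fun h1 => h32 (h13 h1), h21⟩, ⟨h23, h32⟩⟩

end Cfsg.Agent.S3775
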