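import Cfsg.Statements.S3778

set_option autoImplicit false
open Cfsg

namespace Cfsg.Agent.S3778

open scoped commutatorElement

section aux

variable {G : Type*} [Group G]

/-- `{x | [N₁, x] ≤ N₂}` for `N₂` normal -/
def commCent (N₁ N₂ : Subgroup G) [hN : N₂.Normal] : Subgroup G where
  carrier := {x | ∀ g ∈ N₁, ⁅g, x⁆ ∈ N₂}
  one_mem' := by
    intro g _
    rw [commutatorElement_one_right]; exact N₂.one_mem
  mul_mem' := by
    intro x y hx hy g hg
    have e : ⁅g, x * y⁆ = ⁅g, x⁆ * (x * ⁅g, y⁆ * x⁻¹) := by
      simp only [commutatorElement_def]; group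
    rw [e]; exact N₂.mul_mem (hx g hg) (hN.conj_mem _ (hy g hg) x)
  inv_mem' := by
    intro x hx g hg
    have e : ⁅g, x⁻¹⁆ = x⁻¹ * (⁅g, x⁆)⁻¹ * x⁻¹⁻¹ := by
      simp only [commutatorElement_def]; group
    rw [e]; exact hN.conj_mem _ (N₂.inv_mem (hx g hg)) x⁻¹

theorem mem_commCent {N₁ N₂ : Subgroup G} [N₂.Normal] {x : G} :
    x ∈ commCent N₁ N₂ ↔ ∀ g ∈ N₁, ⁅g, x⁆ ∈ N₂ := Iff.rfl

/-- in a finite `p`-group, a proper inclusion of subgroups multiplies the order by at least `p` -/
theorem card_mul_le_of_lt [Finite G] {p : ℕ} [hp : Fact p.Prime] (hG : IsPGroup p G)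
    {A B : Subgroup G} (h : A < B) : Nat.card A * p ≤ Nat.card B := by
  obtain ⟨a, ha⟩ := IsPGroup.iff_card.mp (hG.to_subgroup A)
  obtain ⟨b, hb⟩ := IsPGroup.iff_card.mp (hG.to_subgroup B)
  have hdvd : Nat.card A ∣ Nat.card B := Subgroup.card_dvd_of_le h.le
  rw [ha, hb] at hdvd ⊢
  have hab : a ≤ b := (Nat.pow_dvd_pow_iff_le_right hp.out.one_lt).mp hdvd
  have hne : a ≠ b := by
    intro hab'
    have hcard : Nat.card B ≤ Nat.card A := by rw [ha, hb, hab']
    exact h.ne (Subgroup.eq_of_le_of_card_ge h.le hcard)
  have hlt : a + 1 ≤ b := Nat.lt_of_le_of_ne hab hne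
  calc p ^ a * p = p ^ (a + 1) := (pow_succ p a).symm
    _ ≤ p ^ b := Nat.pow_le_pow_right hp.out.pos hlt

end aux

/-- If G is a finite p-group in which every conjugacy class has at most p^b elements (every element has centralizer of index at most p^b), then G is abelian when b = 0, and when b ≥ 1 its nilpotency class c satisfies (c − 1)(p − 1) < bp, that is c < bp/(p − 1) + 1, and hence c ≤ 2b. -/
theorem result {G : Type*} [Group G] [Finite G] {p : ℕ} [Fact p.Prime] (hG : IsPGroup p G) (b : ℕ) (hb : ∀ x : G, (Subgroup.centralizer ({x} : Set G)).index ≤ p ^ b) : ∃ c : ℕ, (⊤ : Subgroup G).lowerCentralSeries c = ⊥ ∧ (b ≠ 0 → (c - 1) * (p - 1) < b * p ∧ c ≤ 2 * b) ∧ (b = 0 → c ≤ 1) := by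
  classical
  have hp : p.Prime := Fact.out
  have hnil : Group.IsNilpotent G := hG.isNilpotent
  have hex := Subgroup.nilpotent_iff_lowerCentralSeries.mp hnil
  set L : ℕ → Subgroup G := fun n => (⊤ : Subgroup G).lowerCentralSeries n with hL
  have hLn : ∀ n, (L n).Normal := fun n => inferInstance
  have hLsucc : ∀ n, L (n + 1) = ⁅L n, (⊤ : Subgroup G)⁆ := fun n => rfl
  have hLanti : Antitone L := Subgroup.lowerCentralSeries_antitone _
  set c := Nat.find hex with hc
  have hc0 : L c = ⊥ := Nat.find_spec hex
  have hmin : ∀ j < c, L j ≠ ⊥ := fun j hj => Nat.find_min hex hj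
  refine ⟨c, hc0, ?_, ?_⟩
  swap
  · -- `b = 0`: abelian
    intro hb0
    apply Nat.find_min' hex
    show L 1 = ⊥
    rw [hLsucc 0, eq_bot_iff, Subgroup.commutator_le]
    intro g _ x _
    have h1 := hb x
    rw [hb0, pow_zero] at h1
    have h2 : (Subgroup.centralizer ({x} : Set G)).index = 1 := by
      have : (Subgroup.centralizer ({x} : Set G)).index ≠ 0 := Subgroup.index_ne_zero_of_finite
      omega
    have h3 : g ∈ Subgroup.centralizer ({x} : Set G) := by
      rw [Subgroup.index_eq_one.mp h2]; exact Subgroup.mem_top g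
    have h4 : x * g = g * x := (Subgroup.mem_centralizer_iff.mp h3) x rfl
    rw [Subgroup.mem_bot, commutatorElement_def, ← h4]
    group
  intro hb0
  -- main inequality
  have hmain : (c - 1) * (p - 1) < b * p := by
    rcases Nat.lt_or_ge c 2 with hc2 | hc2
    · have : c - 1 = 0 := by omega
      rw [this, zero_mul]
      exact Nat.mul_pos (Nat.pos_of_ne_zero hb0) hp.pos
    -- the subgroups `C j`
    let C : ℕ → Subgroup G := fun j => commCent (L j) (L (j + 2))
    -- stabilisation
    have hstab : ∀ n, L n = L (n + 1) → ∀ k, L (n + k) = L n := by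
      intro n hn k
      induction k with
      | zero => rfl
      | succ k ih =>
        have : L (n + (k + 1)) = ⁅L (n + k), (⊤ : Subgroup G)⁆ := hLsucc (n + k)
        rw [this, ih, ← hLsucc n, ← hn]
    have hCne : ∀ j, j + 1 < c → C j ≠ ⊤ := by
      intro j hj htop
      have h1 : L (j + 1) ≤ L (j + 2) := by
        rw [hLsucc j, Subgroup.commutator_le]
        intro g hg x _
        have hx : x ∈ C j := by rw [htop]; exact Subgroup.mem_top x
        exact hx g hg
      have h2 : L (j + 1) = L (j + 1 + 1) := le_antisymm h1 (hLanti (Nat.le_succ _))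
      have h3 := hstab (j + 1) h2 (c - (j + 1))
      have h4 : j + 1 + (c - (j + 1)) = c := by omega
      rw [h4, hc0] at h3
      exact hmin (j + 1) hj h3.symm
    have hCcard : ∀ j, j + 1 < c → Nat.card (C j) * p ≤ Nat.card G := by
      intro j hj
      have hlt : C j < ⊤ := lt_top_iff_ne_top.mpr (hCne j hj)
      have := card_mul_le_of_lt hG hlt
      rwa [Subgroup.card_top] at this
    -- count
    let cnt : G → ℕ := fun x => ∑ j ∈ Finset.range (c - 1), if x ∈ C j then 0 else 1
    -- (D): `p ^ cnt x ≤ index of the centralizer`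
    have hD : ∀ x : G, cnt x ≤ b := by
      intro x
      set Cx := Subgroup.centralizer ({x} : Set G) with hCx
      let K : ℕ → Subgroup G := fun j => Cx ⊔ L j
      let g : ℕ → ℕ := fun j => ∑ i ∈ Finset.range j, if x ∈ C i then 0 else 1
      have hKanti : ∀ j, K (j + 1) ≤ K j := fun j => sup_le_sup_left (hLanti (Nat.le_succ j)) _
      have hstrict : ∀ j, x ∉ C j → K (j + 1) < K j := by
        intro j hx
        refine lt_of_le_of_ne (hKanti j) ?_
        intro heq
        apply hx
        intro y hy
        have hy1 : y ∈ K (j + 1) := by rw [heq]; exact (le_sup_right : L j ≤ K j) hy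
        have hy2 : y ∈ ((Cx ⊔ L (j + 1) : Subgroup G) : Set G) := hy1
        rw [Subgroup.mul_normal] at hy2
        obtain ⟨c₀, hc₀, h, hh, rfl⟩ := Set.mem_mul.mp hy2
        have hcx : x * c₀ = c₀ * x := (Subgroup.mem_centralizer_iff.mp hc₀) x rfl
        have hcx' : c₀⁻¹ * x⁻¹ = x⁻¹ * c₀⁻¹ := by
          rw [← mul_inv_rev, ← mul_inv_rev, hcx]
        have e : ⁅c₀ * h, x⁆ = c₀ * ⁅h, x⁆ * c₀⁻¹ := by
          simp only [commutatorElement_def]
          calc c₀ * h * x * (c₀ * h)⁻¹ * x⁻¹ = c₀ * h * x * h⁻¹ * (c₀⁻¹ * x⁻¹) := by group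
            _ = c₀ * h * x * h⁻¹ * (x⁻¹ * c₀⁻¹) := by rw [hcx']
            _ = c₀ * (h * x * h⁻¹ * x⁻¹) * c₀⁻¹ := by group
        rw [e]
        apply (hLn (j + 2)).conj_mem
        have : L (j + 2) = ⁅L (j + 1), (⊤ : Subgroup G)⁆ := hLsucc (j + 1)
        rw [this]
        exact Subgroup.commutator_mem_commutator hh (Subgroup.mem_top x)
      have hind : ∀ j, Nat.card (K j) * p ^ g j ≤ Nat.card G := by
        intro j
        induction j with
        | zero =>
          show Nat.card (K 0) * p ^ (∑ i ∈ Finset.range 0, if x ∈ C i then 0 else 1) ≤ _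
          rw [Finset.range_zero, Finset.sum_empty, pow_zero, mul_one]
          exact Subgroup.card_le_card_group _
        | succ j ih =>
          have hg : g (j + 1) = g j + (if x ∈ C j then 0 else 1) := Finset.sum_range_succ _ j
          rw [hg]
          by_cases hx : x ∈ C j
          · rw [if_pos hx, add_zero]
            exact le_trans (Nat.mul_le_mul_right _ (Subgroup.card_le_of_le (hKanti j))) ih
          · rw [if_neg hx, pow_succ]
            have h1 := card_mul_le_of_lt hG (hstrict j hx)
            calc Nat.card (K (j + 1)) * (p ^ g j * p) = (Nat.card (K (j + 1)) * p) * p ^ g j := by ring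
              _ ≤ Nat.card (K j) * p ^ g j := Nat.mul_le_mul_right _ h1
              _ ≤ Nat.card G := ih
      have h1 := hind (c - 1)
      have h2 : Nat.card Cx ≤ Nat.card (K (c - 1)) := Subgroup.card_le_of_le le_sup_left
      have h3 : Nat.card Cx * p ^ cnt x ≤ Nat.card Cx * Cx.index := by
        rw [Subgroup.card_mul_index]
        exact le_trans (Nat.mul_le_mul_right _ h2) h1
      have hpos : 0 < Nat.card Cx := Nat.card_pos
      have h4 : p ^ cnt x ≤ Cx.index := Nat.le_of_mul_le_mul_left h3 hpos
      have h5 : p ^ cnt x ≤ p ^ b := h4.trans (hb x)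
      exact (Nat.pow_le_pow_iff_right hp.one_lt).mp h5
    -- double counting
    by_contra hcon
    rw [not_lt] at hcon
    have hall : ∀ x : G, cnt x * p ≤ (c - 1) * (p - 1) := fun x =>
      le_trans (Nat.mul_le_mul_right _ (hD x)) hcon
    have : Fintype G := Fintype.ofFinite G
    have hone : cnt 1 = 0 := by
      apply Finset.sum_eq_zero
      intro j _
      rw [if_pos (Subgroup.one_mem _)]
    set M := (c - 1) * (p - 1) with hM
    have hMpos : 0 < M := Nat.mul_pos (by omega) (Nat.sub_pos_of_lt hp.one_lt)
    -- upper bound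
    have hupper : ∑ x : G, cnt x * p ≤ (Fintype.card G - 1) * M := by
      have h1 : ∑ x : G, cnt x * p = ∑ x ∈ (Finset.univ.erase (1 : G)), cnt x * p := by
        rw [← Finset.add_sum_erase Finset.univ _ (Finset.mem_univ (1 : G)), hone, zero_mul, zero_add]
      rw [h1]
      have h2 : ∑ x ∈ (Finset.univ.erase (1 : G)), cnt x * p ≤
          ∑ _x ∈ (Finset.univ.erase (1 : G)), M := Finset.sum_le_sum (fun x _ => hall x)
      rw [Finset.sum_const, smul_eq_mul, Finset.card_erase_of_mem (Finset.mem_univ _),
        Finset.card_univ] at h2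
      exact h2
    -- lower bound
    have hlower : Fintype.card G * M ≤ ∑ x : G, cnt x * p := by
      have h1 : ∑ x : G, cnt x * p =
          ∑ j ∈ Finset.range (c - 1), ∑ x : G, (if x ∈ C j then 0 else 1) * p := by
        simp only [cnt, Finset.sum_mul]
        exact Finset.sum_comm
      rw [h1]
      have h2 : ∀ j ∈ Finset.range (c - 1), Fintype.card G * (p - 1) ≤
          ∑ x : G, (if x ∈ C j then 0 else 1) * p := by
        intro j hj
        have hj' : j + 1 < c := by
          have := Finset.mem_range.mp hj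
          omega
        have h3 : ∑ x : G, (if x ∈ C j then 0 else 1) * p =
            (Finset.univ.filter (fun x : G => x ∉ C j)).card * p := by
          rw [← Finset.sum_mul]
          congr 1
          rw [Finset.card_filter]
          apply Finset.sum_congr rfl
          intro x _
          by_cases hx : x ∈ C j <;> simp [hx]
        rw [h3]
        have h4 : (Finset.univ.filter (fun x : G => x ∉ C j)).card +
            (Finset.univ.filter (fun x : G => x ∈ C j)).card = Fintype.card G := by
          rw [add_comm]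
          exact Finset.card_filter_add_card_filter_not _
        have h5 : (Finset.univ.filter (fun x : G => x ∈ C j)).card = Nat.card (C j) := by
          rw [Nat.card_eq_fintype_card, Fintype.card_subtype]
        have h6 := hCcard j hj'
        rw [Nat.card_eq_fintype_card (α := G)] at h6
        have hp1 : p - 1 + 1 = p := Nat.sub_add_cancel hp.pos
        -- card G * (p-1) ≤ (card G - card C) * p
        set a := (Finset.univ.filter (fun x : G => x ∉ C j)).card with ha
        set d := Nat.card (C j) with hd
        rw [h5] at h4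
        have h7 : Fintype.card G * (p - 1) + d * p ≤ a * p + d * p := by
          have : a * p + d * p = Fintype.card G * p := by rw [← add_mul, h4]
          rw [this]
          calc Fintype.card G * (p - 1) + d * p ≤ Fintype.card G * (p - 1) + Fintype.card G :=
                Nat.add_le_add_left h6 _
            _ = Fintype.card G * (p - 1 + 1) := by ring
            _ = Fintype.card G * p := by rw [hp1]
        exact Nat.le_of_add_le_add_right h7
      calc Fintype.card G * M = ∑ _j ∈ Finset.range (c - 1), Fintype.card G * (p - 1) := by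
            rw [Finset.sum_const, Finset.card_range, smul_eq_mul, hM]; ring
        _ ≤ _ := Finset.sum_le_sum h2
    have hcardpos : 0 < Fintype.card G := Fintype.card_pos
    have hfin := hlower.trans hupper
    have : (Fintype.card G - 1) * M < Fintype.card G * M :=
      Nat.mul_lt_mul_of_pos_right (Nat.sub_lt hcardpos Nat.one_pos) hMpos
    omega
  refine ⟨hmain, ?_⟩
  -- `c ≤ 2 b`
  by_contra hcon
  rw [not_le] at hcon
  have h1 : 2 * b ≤ c - 1 := by omega
  have hp2 : 2 ≤ p := hp.two_le
  have h2 : b * p ≤ (c - 1) * (p - 1) := by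
    calc b * p ≤ b * (2 * (p - 1)) := Nat.mul_le_mul_left _ (by omega)
      _ = (2 * b) * (p - 1) := by ring
      _ ≤ (c - 1) * (p - 1) := Nat.mul_le_mul_right _ h1
  omega

end Cfsg.Agent.S3778
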