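import Cfsg.Statements.S3780
import Mathlib.Algebra.CharP.Lemmas
import Mathlib.GroupTheory.PGroup
import Mathlib.Algebra.Group.Subgroup.Finite
import Mathlib.Algebra.Group.Hom.End

set_option autoImplicit false
open Cfsg

namespace Cfsg.Agent.S3780

/-- a finite `p`-group of order `p^e` is generated by at most `e` elements -/
theorem gen_pgroup {Q : Type*} [Group Q] [Finite Q] {p : ℕ} [Fact p.Prime] (hQ : IsPGroup p Q) :
    ∃ S : Finset Q, p ^ S.card ≤ Nat.card Q ∧ Subgroup.closure (S : Set Q) = ⊤ := by
  classical
  have hp : p.Prime := Fact.out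
  suffices h : ∀ m : ℕ, ∀ T : Finset Q,
      Nat.card Q - Nat.card (Subgroup.closure (T : Set Q)) ≤ m →
      p ^ T.card ≤ Nat.card (Subgroup.closure (T : Set Q)) →
      ∃ S : Finset Q, p ^ S.card ≤ Nat.card Q ∧ Subgroup.closure (S : Set Q) = ⊤ by
    exact h _ ∅ le_rfl (by simp)
  intro m
  induction m with
  | zero =>
    intro T hT hc
    have htop : Subgroup.closure (T : Set Q) = ⊤ :=
      Subgroup.eq_top_of_le_card _ (by omega)
    exact ⟨T, by rwa [htop, Subgroup.card_top] at hc, htop⟩
  | succ m ih =>
    intro T hT hc
    by_cases htop : Subgroup.closure (T : Set Q) = ⊤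
    · exact ⟨T, by rwa [htop, Subgroup.card_top] at hc, htop⟩
    · obtain ⟨x, hx⟩ : ∃ x, x ∉ Subgroup.closure (T : Set Q) := by
        by_contra hcon
        apply htop
        rw [eq_top_iff]
        intro x _
        by_contra hx
        exact hcon ⟨x, hx⟩
      have hxT : x ∉ T := fun h => hx (Subgroup.subset_closure h)
      have hle : Subgroup.closure (T : Set Q) ≤ Subgroup.closure ((insert x T : Finset Q) : Set Q) :=
        Subgroup.closure_mono (by simp)
      have hlt : Subgroup.closure (T : Set Q) < Subgroup.closure ((insert x T : Finset Q) : Set Q) := by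
        refine lt_of_le_of_ne hle (fun h => hx ?_)
        rw [h]
        exact Subgroup.subset_closure (by simp)
      obtain ⟨a, ha⟩ := (hQ.to_subgroup (Subgroup.closure (T : Set Q))).exists_card_eq
      obtain ⟨b, hb⟩ :=
        (hQ.to_subgroup (Subgroup.closure ((insert x T : Finset Q) : Set Q))).exists_card_eq
      have hcardlt : Nat.card (Subgroup.closure (T : Set Q)) <
          Nat.card (Subgroup.closure ((insert x T : Finset Q) : Set Q)) := by
        by_contra hcon
        have := Subgroup.eq_of_le_of_card_ge hle (not_lt.mp hcon)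
        exact hlt.ne this
      have hab : a < b := by
        rw [ha, hb] at hcardlt
        exact (Nat.pow_lt_pow_iff_right hp.one_lt).mp hcardlt
      have hbig : p * Nat.card (Subgroup.closure (T : Set Q)) ≤
          Nat.card (Subgroup.closure ((insert x T : Finset Q) : Set Q)) := by
        rw [ha, hb, ← pow_succ']
        exact Nat.pow_le_pow_right hp.pos hab
      apply ih (insert x T)
      · have := Subgroup.card_le_card_group (Subgroup.closure ((insert x T : Finset Q) : Set Q))
        omega
      · rw [Finset.card_insert_of_notMem hxT, pow_succ']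
        exact le_trans (Nat.mul_le_mul_left p hc) hbig

/-- Frattini-type argument for abelian `p`-groups -/
theorem eq_top_of_sup_pow {V : Type*} [CommGroup V] [Finite V] {p : ℕ} [Fact p.Prime]
    (hV : IsPGroup p V) (H : Subgroup V)
    (h : ∀ v : V, ∃ a ∈ H, ∃ w : V, v = a * w ^ p) : H = ⊤ := by
  have key : ∀ k : ℕ, ∀ v : V, ∃ a ∈ H, ∃ w : V, v = a * w ^ (p ^ k) := by
    intro k
    induction k with
    | zero => intro v; exact ⟨1, H.one_mem, v, by simp⟩
    | succ k ih =>
      intro v
      obtain ⟨a, ha, w, rfl⟩ := ih v
      obtain ⟨b, hb, u, rfl⟩ := h w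
      refine ⟨a * b ^ (p ^ k), H.mul_mem ha (H.pow_mem hb _), u, ?_⟩
      rw [mul_pow, ← pow_mul, ← pow_succ', mul_assoc]
  obtain ⟨k, hk⟩ := hV.exists_card_eq
  rw [eq_top_iff]
  intro v _
  obtain ⟨a, ha, w, rfl⟩ := key k v
  rw [← hk, pow_card_eq_one', mul_one]
  exact ha

section additive

variable {A : Type*} [AddCommGroup A] [Finite A]

/-- preimage of a subgroup under an endomorphism -/
def preE (f : AddMonoid.End A) (K : AddSubgroup A) : AddSubgroup A where
  carrier := {x | f x ∈ K}
  add_mem' := by
    intro a b ha hb
    show f (a + b) ∈ K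
    rw [map_add]; exact K.add_mem ha hb
  zero_mem' := by
    show f 0 ∈ K
    rw [map_zero]; exact K.zero_mem
  neg_mem' := by
    intro a ha
    show f (-a) ∈ K
    rw [map_neg]; exact K.neg_mem ha

/-- kernel of an endomorphism -/
def kerE (f : AddMonoid.End A) : AddSubgroup A := preE f ⊥

theorem mem_kerE (f : AddMonoid.End A) (x : A) : x ∈ kerE f ↔ f x = 0 := Iff.rfl

theorem card_preE_le (f : AddMonoid.End A) (K : AddSubgroup A) :
    Nat.card (preE f K) ≤ Nat.card (kerE f) * Nat.card K := by
  let g : preE f K →+ K :=
    { toFun := fun x => ⟨f x.1, x.2⟩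
      map_zero' := Subtype.ext (map_zero f)
      map_add' := fun x y => Subtype.ext (map_add f x.1 y.1) }
  have h1 : Nat.card g.ker * Nat.card g.range = Nat.card (preE f K) := by
    rw [← AddSubgroup.index_ker, AddSubgroup.card_mul_index]
  have h2 : Nat.card g.ker ≤ Nat.card (kerE f) := by
    apply Nat.card_le_card_of_injective
      (fun x : g.ker => (⟨x.1.1, by
        have := x.2
        rw [AddMonoidHom.mem_ker] at this
        exact congrArg Subtype.val this⟩ : kerE f))
    intro x y hxy
    apply Subtype.ext
    apply Subtype.ext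
    exact congrArg (fun z : kerE f => z.1) hxy
  have h3 : Nat.card g.range ≤ Nat.card K := AddSubgroup.card_le_card_addGroup _
  rw [← h1]
  exact Nat.mul_le_mul h2 h3

theorem card_ker_pow_le (f : AddMonoid.End A) (k : ℕ) :
    Nat.card (kerE (f ^ k)) ≤ Nat.card (kerE f) ^ k := by
  induction k with
  | zero =>
    rw [pow_zero, pow_zero]
    have : kerE (1 : AddMonoid.End A) = ⊥ := by
      ext x
      rw [mem_kerE, AddSubgroup.mem_bot]
      rfl
    rw [this]
    simp
  | succ k ih =>
    have : kerE (f ^ (k + 1)) = preE f (kerE (f ^ k)) := by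
      ext x
      rw [mem_kerE, pow_succ]
      rfl
    rw [this, pow_succ, mul_comm]
    exact le_trans (card_preE_le f _) (Nat.mul_le_mul_left _ ih)

theorem card_le_fix_pow {p : ℕ} (hp : p.Prime) (hA : ∀ x : A, p • x = 0)
    (a : AddMonoid.End A) (ha : a ^ p = 1) :
    Nat.card A ≤ Nat.card {x : A // a x = x} ^ p := by
  have hpR : (p : AddMonoid.End A) = 0 := by
    ext x
    rw [AddMonoid.End.natCast_apply, hA]
    rfl
  have hν : (a - 1) ^ p = 0 := by
    obtain ⟨r, hr⟩ := (Commute.one_right (a - 1)).exists_add_pow_prime_eq hp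
    rw [sub_add_cancel, ha, hpR, one_pow, zero_mul, zero_mul, zero_mul, add_zero] at hr
    exact (add_eq_right.mp hr.symm)
  have h1 := card_ker_pow_le (a - 1) p
  rw [hν] at h1
  have h2 : kerE (0 : AddMonoid.End A) = ⊤ := by
    ext x
    rw [mem_kerE]
    simp
  rw [h2, AddSubgroup.card_top] at h1
  have h3 : Nat.card (kerE (a - 1)) = Nat.card {x : A // a x = x} := by
    apply Nat.card_congr
    refine Equiv.subtypeEquivRight (fun x => ?_)
    rw [mem_kerE]
    show a x - x = 0 ↔ a x = x
    exact sub_eq_zero
  rw [h3] at h1
  exact h1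

end additive


/-- Let V be a finite abelian p-group and α an automorphism of V of order p whose fixed-point subgroup has order p^n. Then V can be generated by pn elements: some subset of V with at most pn elements generates V. -/
theorem result {V : Type*} [CommGroup V] [Finite V] {p : ℕ} [Fact p.Prime] (hV : IsPGroup p V) (α : MulAut V) (hα : orderOf α = p) (n : ℕ) (hfix : Nat.card {v : V // α v = v} = p ^ n) : ∃ S : Finset V, S.card ≤ p * n ∧ Subgroup.closure (S : Set V) = ⊤ := by
  classical
  have hp : p.Prime := Fact.out
  have hmemker : ∀ v : V, v ∈ (powMonoidHom p : V →* V).ker ↔ v ^ p = 1 := fun v => by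
    rw [MonoidHom.mem_ker]; rfl
  -- Step A: the bound on `Ω₁`
  have hW : Nat.card (powMonoidHom p : V →* V).ker ≤ (p ^ n) ^ p := by
    let Φ : MulAut V →* AddMonoid.End (Additive (powMonoidHom p : V →* V).ker) :=
      { toFun := fun β =>
          { toFun := fun x => Additive.ofMul ⟨β (Additive.toMul x).1, by
              rw [hmemker, ← map_pow, (hmemker _).mp (Additive.toMul x).2, map_one]⟩
            map_zero' := by
              apply congrArg Additive.ofMul
              apply Subtype.ext
              show β (1 : V) = 1
              exact map_one β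
            map_add' := fun x y => by
              apply congrArg Additive.ofMul
              apply Subtype.ext
              show β ((Additive.toMul x).1 * (Additive.toMul y).1) = _
              exact map_mul β _ _ }
        map_one' := rfl
        map_mul' := fun β γ => rfl }
    have hαp : α ^ p = 1 := by
      have := pow_orderOf_eq_one α
      rwa [hα] at this
    have ha : (Φ α) ^ p = 1 := by rw [← map_pow, hαp, map_one]
    have hA : ∀ x : Additive (powMonoidHom p : V →* V).ker, p • x = 0 := by
      intro x
      show Additive.ofMul ((Additive.toMul x) ^ p) = Additive.ofMul 1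
      congr 1
      apply Subtype.ext
      exact (hmemker _).mp (Additive.toMul x).2
    have h1 := card_le_fix_pow hp hA (Φ α) ha
    have h2 : Nat.card {x : Additive (powMonoidHom p : V →* V).ker // Φ α x = x} ≤ p ^ n := by
      rw [← hfix]
      apply Nat.card_le_card_of_injective
        (fun x : {x : Additive (powMonoidHom p : V →* V).ker // Φ α x = x} =>
          (⟨(Additive.toMul x.1).1, by
            have := x.2
            exact congrArg (fun z : Additive (powMonoidHom p : V →* V).ker =>
              (Additive.toMul z).1) this⟩ : {v : V // α v = v}))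
      intro x y hxy
      apply Subtype.ext
      have h3 : (Additive.toMul x.1).1 = (Additive.toMul y.1).1 :=
        congrArg (fun z : {v : V // α v = v} => z.1) hxy
      exact Additive.toMul.injective (Subtype.ext h3)
    calc Nat.card (powMonoidHom p : V →* V).ker
        = Nat.card (Additive (powMonoidHom p : V →* V).ker) := rfl
      _ ≤ _ := h1
      _ ≤ (p ^ n) ^ p := Nat.pow_le_pow_left h2 p
  -- Step B
  have hQ : Nat.card (V ⧸ (powMonoidHom p : V →* V).range) =
      Nat.card (powMonoidHom p : V →* V).ker := by
    have h1 := Subgroup.card_mul_index (powMonoidHom p : V →* V).ker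
    have h2 := Subgroup.card_mul_index (powMonoidHom p : V →* V).range
    rw [Subgroup.index_ker] at h1
    have h3 : 0 < Nat.card (powMonoidHom p : V →* V).range := Nat.card_pos
    show (powMonoidHom p : V →* V).range.index = _
    apply Nat.eq_of_mul_eq_mul_left h3
    rw [h2, ← h1, mul_comm]
  -- Step C
  obtain ⟨SQ, hSQ1, hSQ2⟩ := gen_pgroup (hV.to_quotient (powMonoidHom p : V →* V).range)
  refine ⟨SQ.image Quotient.out, ?_, ?_⟩
  · have : p ^ SQ.card ≤ p ^ (p * n) := by
      calc p ^ SQ.card ≤ Nat.card (V ⧸ (powMonoidHom p : V →* V).range) := hSQ1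
        _ = Nat.card (powMonoidHom p : V →* V).ker := hQ
        _ ≤ (p ^ n) ^ p := hW
        _ = p ^ (p * n) := by rw [← pow_mul, mul_comm]
    exact le_trans Finset.card_image_le ((Nat.pow_le_pow_iff_right hp.one_lt).mp this)
  · apply eq_top_of_sup_pow hV
    intro v
    have hmap : (Subgroup.closure ((SQ.image Quotient.out : Finset V) : Set V)).map
        (QuotientGroup.mk' (powMonoidHom p : V →* V).range) = ⊤ := by
      rw [MonoidHom.map_closure, ← hSQ2]
      congr 1
      ext q
      simp only [Finset.coe_image, Set.mem_image, Finset.mem_coe, exists_exists_and_eq_and]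
      constructor
      · rintro ⟨a, ha, rfl⟩
        have : QuotientGroup.mk' (powMonoidHom p : V →* V).range (Quotient.out a) = a :=
          Quotient.out_eq a
        rw [this]; exact ha
      · intro hq
        exact ⟨q, hq, Quotient.out_eq q⟩
    have hv : (QuotientGroup.mk' (powMonoidHom p : V →* V).range v) ∈
        (Subgroup.closure ((SQ.image Quotient.out : Finset V) : Set V)).map
        (QuotientGroup.mk' (powMonoidHom p : V →* V).range) := by
      rw [hmap]; exact Subgroup.mem_top _
    obtain ⟨a, ha, hav⟩ := Subgroup.mem_map.mp hv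
    have h4 : a⁻¹ * v ∈ (powMonoidHom p : V →* V).range := QuotientGroup.eq.mp hav
    obtain ⟨w, hw⟩ := h4
    refine ⟨a, ha, w, ?_⟩
    have : w ^ p = a⁻¹ * v := hw
    rw [this, mul_inv_cancel_left]

end Cfsg.Agent.S3780
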