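-- Statement S3781: indices in the lower central series of a normal subgroup N ≤ γ_n(G) of a p-group.
import Cfsg.Statements.S3781
import Cfsg.Agent.Lib.Helper63.LcsIndex

set_option autoImplicit false
open Cfsg

namespace Cfsg.Agent.S3781

open Cfsg.Agent.Lib.Helper63
open Subgroup

section

variable {G : Type*} [Group G]

instance lcs_normal (N : Subgroup G) [hN : N.Normal] (k : ℕ) : (N.lowerCentralSeries k).Normal := by
  induction k with
  | zero => exact hN
  | succ k ih =>
    rw [Subgroup.lowerCentralSeries_succ]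
    exact Subgroup.commutator_normal _ _

/-- if `|M : K| ≤ p ^ m` then `[M, G, …, G] ≤ K` (`m` copies of `G`) -/
theorem iterTop_le_of_relIndex_le [Finite G] {p : ℕ} [hp : Fact p.Prime] (hG : IsPGroup p G)
    (M K : Subgroup G) [M.Normal] [K.Normal] (hKM : K ≤ M) (m : ℕ)
    (hidx : K.relIndex M ≤ p ^ m) : iterTop M m ≤ K := by
  have : Group.IsNilpotent G := hG.isNilpotent
  have key : ∀ j : ℕ, iterTop M j ⊔ K = K ∨
      K.relIndex (iterTop M j ⊔ K) * p ^ j ≤ K.relIndex M := by
    intro j
    induction j with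
    | zero =>
      right
      rw [iterTop_zero, sup_of_le_left hKM, pow_zero, mul_one]
    | succ j ih =>
      rcases ih with h | h
      · left
        apply le_antisymm _ le_sup_right
        refine sup_le ?_ le_rfl
        exact (iterTop_succ_le M j).trans (le_sup_left.trans h.le)
      · by_cases hK : iterTop M (j + 1) ⊔ K = K
        · exact Or.inl hK
        · right
          have hle : iterTop M (j + 1) ⊔ K ≤ iterTop M j ⊔ K :=
            sup_le_sup_right (iterTop_succ_le M j) K
          have hne : ¬ iterTop M j ⊔ K ≤ iterTop M (j + 1) ⊔ K := by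
            intro hcon
            apply hK
            have h1 : iterTop M j ≤ ⁅iterTop M j, (⊤ : Subgroup G)⁆ ⊔ K := le_sup_left.trans hcon
            have h2 : iterTop M j ≤ K := le_of_le_commutator_top_sup _ _ h1
            apply le_antisymm _ le_sup_right
            exact sup_le ((iterTop_succ_le M j).trans h2) le_rfl
          have hmul := Subgroup.relIndex_mul_relIndex K (iterTop M (j + 1) ⊔ K) (iterTop M j ⊔ K)
            le_sup_right hle
          have hp_le : p ≤ (iterTop M (j + 1) ⊔ K).relIndex (iterTop M j ⊔ K) := by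
            have h1 : (iterTop M (j + 1) ⊔ K).relIndex (iterTop M j ⊔ K) ≠ 1 := by
              rw [Ne, Subgroup.relIndex_eq_one]; exact hne
            have h2 : (iterTop M (j + 1) ⊔ K).relIndex (iterTop M j ⊔ K) ∣
                Nat.card ↥(iterTop M j ⊔ K) := Subgroup.relIndex_dvd_card _ _
            obtain ⟨s, hs⟩ := (IsPGroup.iff_card).1 (hG.to_subgroup (iterTop M j ⊔ K))
            rw [hs] at h2
            obtain ⟨t, _, ht⟩ := (Nat.dvd_prime_pow hp.out).1 h2
            rw [ht] at h1 ⊢
            have ht0 : t ≠ 0 := by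
              rintro rfl
              exact h1 (pow_zero p)
            calc p = p ^ 1 := (pow_one p).symm
              _ ≤ p ^ t := Nat.pow_le_pow_right hp.out.pos (Nat.one_le_iff_ne_zero.2 ht0)
          calc K.relIndex (iterTop M (j + 1) ⊔ K) * p ^ (j + 1)
              = (K.relIndex (iterTop M (j + 1) ⊔ K) * p) * p ^ j := by ring
            _ ≤ (K.relIndex (iterTop M (j + 1) ⊔ K) *
                  (iterTop M (j + 1) ⊔ K).relIndex (iterTop M j ⊔ K)) * p ^ j :=
                Nat.mul_le_mul_right _ (Nat.mul_le_mul_left _ hp_le)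
            _ = K.relIndex (iterTop M j ⊔ K) * p ^ j := by rw [hmul]
            _ ≤ K.relIndex M := h
  rcases key m with h | h
  · exact le_sup_left.trans h.le
  · have h1 : K.relIndex (iterTop M m ⊔ K) * p ^ m ≤ p ^ m := h.trans hidx
    have hpos : 0 < p ^ m := pow_pos hp.out.pos m
    have h2 : K.relIndex (iterTop M m ⊔ K) ≤ 1 := by
      by_contra hcon
      have : 2 ≤ K.relIndex (iterTop M m ⊔ K) := by omega
      nlinarith
    have h3 : K.relIndex (iterTop M m ⊔ K) ≠ 0 := by
      unfold Subgroup.relIndex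
      exact Subgroup.index_ne_zero_of_finite
    have h4 : K.relIndex (iterTop M m ⊔ K) = 1 := by omega
    rw [Subgroup.relIndex_eq_one] at h4
    exact le_sup_left.trans h4

end

/-- Let G be a finite p-group and n ≥ 1, and write γ_1(G) = G, γ_{k+1}(G) = [γ_k(G), G], and likewise γ_k(N) for a subgroup N. Let N be a normal subgroup of G contained in γ_n(G). If i > 1 and γ_{i+1}(N) ≠ 1, then |γ_i(N) : γ_{i+1}(N)| ≥ p^n. -/
theorem result {G : Type*} [Group G] [Finite G] {p : ℕ} [Fact p.Prime] (hG : IsPGroup p G) (n : ℕ) (hn : 1 ≤ n) (N : Subgroup G) [N.Normal] (hN : N ≤ (⊤ : Subgroup G).lowerCentralSeries (n - 1)) (i : ℕ) (hi : 1 < i) (hne : N.lowerCentralSeries i ≠ ⊥) : p ^ n ≤ (N.lowerCentralSeries i).relIndex (N.lowerCentralSeries (i - 1)) := by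
  have hp : p.Prime := Fact.out
  have : Group.IsNilpotent G := hG.isNilpotent
  obtain ⟨i', rfl⟩ : ∃ i', i = i' + 1 := ⟨i - 1, by omega⟩
  obtain ⟨n', rfl⟩ : ∃ n', n = n' + 1 := ⟨n - 1, by omega⟩
  simp only [Nat.add_sub_cancel] at hN ⊢
  set M := N.lowerCentralSeries i' with hM
  set K := N.lowerCentralSeries (i' + 1) with hK
  have hKdef : K = ⁅M, N⁆ := Subgroup.lowerCentralSeries_succ N i'
  have hKM : K ≤ M := N.lowerCentralSeries_antitone (Nat.le_succ i')
  by_contra hcon
  rw [not_le] at hcon
  -- the index is a power of p, hence at most p ^ n'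
  have hidx : K.relIndex M ≤ p ^ n' := by
    have h2 : K.relIndex M ∣ Nat.card ↥M := Subgroup.relIndex_dvd_card _ _
    obtain ⟨s, hs⟩ := (IsPGroup.iff_card).1 (hG.to_subgroup M)
    rw [hs] at h2
    obtain ⟨t, _, ht⟩ := (Nat.dvd_prime_pow hp).1 h2
    rw [ht] at hcon ⊢
    have : t < n' + 1 := (Nat.pow_lt_pow_iff_right hp.one_lt).1 hcon
    exact Nat.pow_le_pow_right hp.pos (by omega)
  have h1 : iterTop M n' ≤ K := iterTop_le_of_relIndex_le hG M K hKM n' hidx
  have h2 : K ≤ iterTop M (n' + 1) := by
    rw [hKdef]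
    exact (Subgroup.commutator_mono le_rfl hN).trans (commutator_lcs_le_iterTop n' M)
  have h3 : K ≤ ⁅K, (⊤ : Subgroup G)⁆ ⊔ ⊥ := by
    rw [sup_bot_eq]
    refine h2.trans ?_
    rw [iterTop_succ]
    exact Subgroup.commutator_mono h1 le_rfl
  have h4 : K ≤ ⊥ := le_of_le_commutator_top_sup K ⊥ h3
  exact hne (le_bot_iff.1 h4)

end Cfsg.Agent.S3781
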