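import Cfsg.Statements.S3783
-- import your own Cfsg.Agent.* helpers here
import Cfsg.Agent.Lib.Helper63.HHAbelian
import Cfsg.Agent.S0635

set_option autoImplicit false
open Cfsg

namespace Cfsg.Agent.S3783

open Cfsg.Agent.Lib.Helper63 Cfsg.Agent.Lib.Helper76 Cfsg.Agent.Lib.Helper30
open Cfsg.Agent.Lib.Helper63.HH Cfsg.Agent.S0635

universe u

/-- Elementwise form of "the Sylow `q`-subgroups are abelian for `q ≠ p`". -/
def Hab (p : ℕ) (G : Type*) [Group G] : Prop :=
  ∀ (q : ℕ) [Fact q.Prime], q ≠ p → ∀ Q : Sylow q G,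
    ∀ a ∈ (Q : Subgroup G), ∀ b ∈ (Q : Subgroup G), a * b = b * a

/-- The Sylow `p`-subgroups have exponent dividing `p ^ n`. -/
def Hexp (p n : ℕ) (G : Type*) [Group G] : Prop :=
  ∀ S : Sylow p G, ∀ x ∈ (S : Subgroup G), x ^ p ^ n = 1

theorem hab_of_surjective {G G' : Type*} [Group G] [Finite G] [Group G'] {p : ℕ}
    (f : G →* G') (hf : Function.Surjective f) (h : Hab p G) : Hab p G' := by
  intro q _ hq Q a ha b hb
  obtain ⟨Q₀, rfl⟩ := Sylow.mapSurjective_surjective hf q Q
  rw [Sylow.coe_mapSurjective] at ha hb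
  obtain ⟨a₀, ha₀, rfl⟩ := ha
  obtain ⟨b₀, hb₀, rfl⟩ := hb
  rw [← map_mul, ← map_mul, h q hq Q₀ a₀ ha₀ b₀ hb₀]

theorem hexp_of_surjective {G G' : Type*} [Group G] [Finite G] [Group G'] {p n : ℕ}
    [Fact p.Prime] (f : G →* G') (hf : Function.Surjective f) (h : Hexp p n G) : Hexp p n G' := by
  intro S x hx
  obtain ⟨S₀, rfl⟩ := Sylow.mapSurjective_surjective hf p S
  rw [Sylow.coe_mapSurjective] at hx
  obtain ⟨x₀, hx₀, rfl⟩ := hx
  rw [← map_pow, h S₀ x₀ hx₀, map_one]

theorem main (p : ℕ) [hp : Fact p.Prime] (n : ℕ) : ∀ (G : Type u) [Group G] [Finite G],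
    IsPSolvable p G → Hab p G → Hexp p n G → PLengthLE p n G := by
  induction n with
  | zero =>
    intro G _ _ hsol _ hexp
    obtain ⟨S⟩ : Nonempty (Sylow p G) := inferInstance
    have hcop : (Nat.card G).Coprime p := by
      have hSbot : (S : Subgroup G) = ⊥ := by
        rw [Subgroup.eq_bot_iff_forall]
        intro x hx
        have := hexp S x hx
        simpa using this
      have h1 : Nat.card (S : Subgroup G) = 1 := by rw [hSbot]; exact Subgroup.card_bot
      have h2 := Subgroup.card_mul_index (S : Subgroup G)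
      rw [h1, one_mul] at h2
      rw [← h2, Nat.coprime_comm, Nat.Prime.coprime_iff_not_dvd Fact.out]
      exact S.not_dvd_index
    rw [pLengthLE_iff]
    refine ⟨fun i => if i = 0 then ⊥ else ⊤, ⟨by simp, ?_, ?_, ?_⟩, by simp⟩
    · intro i
      by_cases hi : i = 0
      · simp only [hi, if_true]; infer_instance
      · simp only [hi, if_false]; infer_instance
    · intro i _ x _
      by_cases hi : i = 0
      · refine ⟨Nat.card G, hcop, ?_⟩
        simp only [hi, if_true]
        rw [Subgroup.mem_bot]; exact pow_card_eq_one'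
      · refine ⟨1, Nat.coprime_one_left p, ?_⟩
        simp only [hi, if_false]; trivial
    · intro i hi x _
      have hi0 : i ≠ 0 := by
        rintro rfl; exact hi (by decide)
      refine ⟨0, ?_⟩
      simp only [hi0, if_false]; trivial
  | succ n ih =>
    intro G _ _ hsol hab hexp
    have hU2n : (pPrimePCore p G).Normal := Cfsg.Agent.Lib.Helper32.pPrimePCore_normal p G
    have hπ : Function.Surjective (QuotientGroup.mk' (pPrimePCore p G)) :=
      QuotientGroup.mk'_surjective _
    have hπ₁ : Function.Surjective (QuotientGroup.mk' (pPrimeCore p G)) :=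
      QuotientGroup.mk'_surjective _
    have hsol' : IsPSolvable p (G ⧸ pPrimePCore p G) := isPSolvable_quotient _ hsol
    have hab' : Hab p (G ⧸ pPrimePCore p G) := hab_of_surjective _ hπ hab
    -- the key step in `G / O_{p'}(G)`
    have hsol₁ : IsPSolvable p (G ⧸ pPrimeCore p G) := isPSolvable_quotient _ hsol
    have hab₁ : Hab p (G ⧸ pPrimeCore p G) := hab_of_surjective _ hπ₁ hab
    have hexp₁ : Hexp p (n + 1) (G ⧸ pPrimeCore p G) := hexp_of_surjective _ hπ₁ hexp
    have hO₁ : pPrimeCore p (G ⧸ pPrimeCore p G) = ⊥ := pPrimeCore_quotient_eq_bot p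
    have hexp' : Hexp p n (G ⧸ pPrimePCore p G) := by
      intro S x hx
      obtain ⟨S₀, rfl⟩ := Sylow.mapSurjective_surjective hπ p S
      rw [Sylow.coe_mapSurjective] at hx
      obtain ⟨x₀, hx₀, rfl⟩ := hx
      rw [← map_pow, QuotientGroup.mk'_apply, QuotientGroup.eq_one_iff]
      show (QuotientGroup.mk' (pPrimeCore p G)) (x₀ ^ p ^ n) ∈ pCore p (G ⧸ pPrimeCore p G)
      rw [map_pow]
      apply pow_mem_pCore hsol₁ hO₁ hab₁ hexp₁ (S₀.mapSurjective hπ₁)
      rw [Sylow.coe_mapSurjective]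
      exact Subgroup.mem_map_of_mem _ hx₀
    obtain ⟨N', hN', htop⟩ := pLengthLE_iff.1 (ih (G ⧸ pPrimePCore p G) hsol' hab' hexp')
    rw [pLengthLE_iff]
    refine ⟨liftSeries (pPrimeCore p G) (pPrimePCore p G) N', isPSeries_liftSeries N' hN', ?_⟩
    show (N' (2 * n + 1)).comap (QuotientGroup.mk' (pPrimePCore p G)) = ⊤
    rw [htop]; rfl

/-- Let G be a finite p-soluble group in which, for every prime q ≠ p, the Sylow q-subgroups are abelian. If the Sylow p-subgroups of G have exponent dividing p^n, then G has p-length at most n. -/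
theorem result {G : Type*} [Group G] [Finite G] {p : ℕ} [Fact p.Prime] (hG : Cfsg.IsPSolvable p G) (hab : ∀ (q : ℕ) [Fact q.Prime], q ≠ p → ∀ Q : Sylow q G, IsMulCommutative (Q : Subgroup G)) (n : ℕ) (hexp : ∀ (P : Sylow p G), ∀ x ∈ (P : Subgroup G), x ^ p ^ n = 1) : Cfsg.PLengthLE p n G := by
  apply main p n G hG _ hexp
  intro q _ hq Q a ha b hb
  have := (hab q hq Q).is_comm.comm (⟨a, ha⟩ : ↥(Q : Subgroup G)) ⟨b, hb⟩
  exact congrArg Subtype.val this

end Cfsg.Agent.S3783
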