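-- Statement S3785: in a finite solvable group with F(G) of odd order, an element centralising all
-- elements of prime order of F(G) lies in F(G).
import Cfsg.Statements.S3785
import Cfsg.Agent.S0044
import Cfsg.Agent.Lib.Helper22.Fitting
import Cfsg.Agent.Lib.Helper63.CoprimeOmega
import Cfsg.Agent.Lib.Helper63.PrimeParts

set_option autoImplicit false
set_option linter.style.haveILetI false
open Cfsg

namespace Cfsg.Agent.S3785

open Cfsg.Agent.Lib.Helper63 Cfsg.Agent.Lib.Helper22
open Subgroup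

section

variable {G : Type*} [Group G] [Finite G]

/-- `s`-elements of `F(G)` lie in `O_s(G)`. -/
theorem mem_pCore_of_mem_fitting {s : ℕ} [hs : Fact s.Prime] {x : G}
    (hx : x ∈ Cfsg.fittingSubgroup G) {k : ℕ} (hk : x ^ (s ^ k) = 1) : x ∈ Cfsg.pCore s G := by
  apply mem_pCore_of_mem_sup _ hk
  have hle : Cfsg.fittingSubgroup G ≤ Cfsg.pCore s G ⊔ Cfsg.pPrimeCore s G := by
    rw [fittingSubgroup_eq_iSup_pCore]
    apply iSup_le
    intro r
    haveI : Fact (r : ℕ).Prime := ⟨r.2⟩
    by_cases hrs : (r : ℕ) = s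
    · rw [hrs]; exact le_sup_left
    · exact (pCore_le_pPrimeCore hrs).trans le_sup_right
  exact hle hx

theorem pCore_le_fitting (r : ℕ) [Fact r.Prime] : Cfsg.pCore r G ≤ Cfsg.fittingSubgroup G :=
  le_fittingSubgroup (pCore_normal' r G) (pCore_isPGroup' r G).isNilpotent

theorem pCore_two_eq_bot (hodd : Odd (Nat.card (Cfsg.fittingSubgroup G))) :
    Cfsg.pCore 2 G = ⊥ := by
  haveI : Fact (Nat.Prime 2) := ⟨Nat.prime_two⟩
  obtain ⟨k, hk⟩ := (IsPGroup.iff_card).1 (pCore_isPGroup' 2 G)
  have hdvd : Nat.card (Cfsg.pCore 2 G) ∣ Nat.card (Cfsg.fittingSubgroup G) :=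
    Subgroup.card_dvd_of_le (pCore_le_fitting 2)
  have hk0 : k = 0 := by
    by_contra hk0
    have h2 : 2 ∣ Nat.card (Cfsg.pCore 2 G) := by
      rw [hk]; exact dvd_pow_self 2 hk0
    have := (h2.trans hdvd)
    rw [← even_iff_two_dvd] at this
    exact (Nat.not_even_iff_odd.2 hodd) this
  rw [hk0, pow_zero] at hk
  exact Subgroup.card_eq_one.1 hk

/-- the subgroup of elements commuting with all elements of prime order of `F(G)` -/
def omegaCentralizer (G : Type*) [Group G] : Subgroup G where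
  carrier := {h | ∀ x ∈ Cfsg.fittingSubgroup G, (orderOf x).Prime → h * x = x * h}
  mul_mem' := by
    intro a b ha hb x hx hox
    rw [mul_assoc, hb x hx hox, ← mul_assoc, ha x hx hox, mul_assoc]
  one_mem' := by
    intro x _ _
    rw [one_mul, mul_one]
  inv_mem' := by
    intro a ha x hx hox
    have := ha x hx hox
    calc a⁻¹ * x = a⁻¹ * (x * a) * a⁻¹ := by group
      _ = a⁻¹ * (a * x) * a⁻¹ := by rw [this]
      _ = x * a⁻¹ := by group

omit [Finite G] in
theorem mem_omegaCentralizer {h : G} : h ∈ omegaCentralizer G ↔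
    ∀ x ∈ Cfsg.fittingSubgroup G, (orderOf x).Prime → h * x = x * h := Iff.rfl

instance omegaCentralizer_normal : (omegaCentralizer G).Normal := by
  constructor
  intro h hh t x hx hox
  haveI := fittingSubgroup_normal G
  have hx' : t⁻¹ * x * t ∈ Cfsg.fittingSubgroup G := by
    have := (fittingSubgroup_normal G).conj_mem x hx t⁻¹
    simpa using this
  have hox' : (orderOf (t⁻¹ * x * t)).Prime := by
    have : t⁻¹ * x * t = MulAut.conj t⁻¹ x := by simp
    rw [this, MulEquiv.orderOf_eq]
    exact hox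
  have := hh _ hx' hox'
  calc t * h * t⁻¹ * x = t * (h * (t⁻¹ * x * t)) * t⁻¹ := by group
    _ = t * ((t⁻¹ * x * t) * h) * t⁻¹ := by rw [this]
    _ = x * (t * h * t⁻¹) := by group

/-- Theorem T applied to `O_r(G)`. -/
theorem pCore_le_centralizer_zpowers (hodd : Odd (Nat.card (Cfsg.fittingSubgroup G)))
    {h : G} (hh : h ∈ omegaCentralizer G) (r : ℕ) [hr : Fact r.Prime]
    (hcop : (orderOf h).Coprime r) :
    Cfsg.pCore r G ≤ centralizer (zpowers h : Set G) := by
  by_cases hr2 : r = 2
  · subst hr2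
    rw [pCore_two_eq_bot hodd]; exact bot_le
  · haveI := pCore_normal' r G
    apply le_centralizer_of_centralizes_omega hr2 (zpowers h) (Cfsg.pCore r G)
    · rw [Nat.card_zpowers]; exact hcop
    · exact pCore_isPGroup' r G
    · rw [normalizer_eq_top]; exact le_top
    · intro x hx hxr a ha
      by_cases hx1 : x = 1
      · rw [hx1, mul_one, one_mul]
      · have hox : orderOf x = r := orderOf_eq_prime hxr hx1
        have haC : a ∈ omegaCentralizer G := (zpowers_le.2 hh) ha
        exact haC x (pCore_le_fitting r hx) (hox ▸ hr.out)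

theorem mem_centralizer_pCore (hodd : Odd (Nat.card (Cfsg.fittingSubgroup G)))
    {h : G} (hh : h ∈ omegaCentralizer G) (r : ℕ) [hr : Fact r.Prime]
    (hcop : (orderOf h).Coprime r) : h ∈ centralizer (Cfsg.pCore r G : Set G) := by
  have := pCore_le_centralizer_zpowers hodd hh r hcop
  rw [le_centralizer_iff] at this
  exact this (mem_zpowers h)

/-- the auxiliary normal subgroup `K_q` -/
def kq (G : Type*) [Group G] (q : ℕ) : Subgroup G :=
  omegaCentralizer G ⊓ ⨅ r : {r : Nat.Primes // (r : ℕ) ≠ q}, centralizer (Cfsg.pCore (r : ℕ) G : Set G)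

omit [Finite G] in
theorem mem_kq {q : ℕ} {h : G} : h ∈ kq G q ↔ h ∈ omegaCentralizer G ∧
    ∀ r : Nat.Primes, (r : ℕ) ≠ q → h ∈ centralizer (Cfsg.pCore (r : ℕ) G : Set G) := by
  unfold kq
  rw [mem_inf, mem_iInf]
  constructor
  · rintro ⟨h1, h2⟩
    exact ⟨h1, fun r hr => h2 ⟨r, hr⟩⟩
  · rintro ⟨h1, h2⟩
    exact ⟨h1, fun r => h2 r.1 r.2⟩

instance kq_normal (q : ℕ) : (kq G q).Normal := by
  unfold kq
  haveI : (⨅ r : {r : Nat.Primes // (r : ℕ) ≠ q},
      centralizer (Cfsg.pCore (r : ℕ) G : Set G)).Normal := by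
    apply normal_iInf_normal
    intro r
    haveI := pCore_normal' (r : ℕ) G
    infer_instance
  infer_instance

/-- elements of `K_q` commute with the `q'`-elements of `F(G)` -/
theorem kq_comm {q : ℕ} {k : G} (hk : k ∈ kq G q) {y : G} (hy : y ∈ Cfsg.fittingSubgroup G)
    (hcop : (orderOf y).Coprime q) : k * y = y * k := by
  have hmem : y ∈ centralizer ({k} : Set G) := by
    apply mem_of_prime_power_parts
    intro s j i hs ho
    haveI : Fact s.Prime := ⟨hs⟩
    rw [mem_centralizer_iff]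
    intro k' hk'
    rw [Set.mem_singleton_iff] at hk'
    subst hk'
    by_cases hi : i = 0
    · rw [hi, pow_zero, orderOf_eq_one_iff] at ho
      rw [ho, mul_one, one_mul]
    · have hsq : s ≠ q := by
        rintro rfl
        have h1 : s ∣ orderOf (y ^ j) := by rw [ho]; exact dvd_pow_self s hi
        have h2 : s ∣ orderOf y := h1.trans (orderOf_pow_dvd j)
        have h3 : s ∣ Nat.gcd (orderOf y) s := Nat.dvd_gcd h2 dvd_rfl
        rw [hcop] at h3
        exact hs.one_lt.ne' (Nat.dvd_one.1 h3)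
      have hz : y ^ j ∈ Cfsg.pCore s G := by
        apply mem_pCore_of_mem_fitting ((Cfsg.fittingSubgroup G).pow_mem hy j) (k := i)
        rw [← ho]; exact pow_orderOf_eq_one _
      have := (mem_kq.1 hk).2 ⟨s, hs⟩ hsq
      rw [mem_centralizer_iff] at this
      exact (this _ hz).symm
  rw [mem_centralizer_iff] at hmem
  exact hmem k rfl

/-- `q'`-elements of `K_q` lie in `F(G)` -/
theorem mem_fitting_of_mem_kq [Group.IsSolvable G] (hodd : Odd (Nat.card (Cfsg.fittingSubgroup G)))
    {q : ℕ} [hq : Fact q.Prime] {h : G} (hh : h ∈ kq G q) (hcop : (orderOf h).Coprime q) :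
    h ∈ Cfsg.fittingSubgroup G := by
  apply Cfsg.Agent.S0044.result
  have hle : Cfsg.fittingSubgroup G ≤ centralizer (zpowers h : Set G) := by
    rw [fittingSubgroup_eq_iSup_pCore]
    apply iSup_le
    intro r
    haveI : Fact (r : ℕ).Prime := ⟨r.2⟩
    by_cases hrq : (r : ℕ) = q
    · rw [hrq]
      exact pCore_le_centralizer_zpowers hodd (mem_kq.1 hh).1 q hcop
    · rw [le_centralizer_iff, zpowers_le]
      exact (mem_kq.1 hh).2 r hrq
  rw [le_centralizer_iff] at hle
  exact hle (mem_zpowers h)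

theorem kq_isNilpotent [Group.IsSolvable G] (hodd : Odd (Nat.card (Cfsg.fittingSubgroup G)))
    (q : ℕ) [hq : Fact q.Prime] : Group.IsNilpotent ↥(kq G q) := by
  apply Group.of_quotient_center_nilpotent
  have hpg : IsPGroup q (↥(kq G q) ⧸ center ↥(kq G q)) := by
    intro kb
    obtain ⟨k, rfl⟩ := QuotientGroup.mk_surjective kb
    obtain ⟨e, m, hqm, hn⟩ := Nat.exists_eq_pow_mul_and_not_dvd (orderOf_pos (k : G)).ne' q
      hq.out.ne_one
    refine ⟨e, ?_⟩
    rw [← QuotientGroup.mk_pow, QuotientGroup.eq_one_iff]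
    have hqe : 0 < q ^ e := pow_pos hq.out.pos e
    have hord : orderOf ((k : G) ^ (q ^ e)) = m := by
      rw [orderOf_pow' _ hqe.ne', hn, Nat.gcd_mul_right_left, Nat.mul_div_cancel_left _ hqe]
    have hcop : (orderOf ((k : G) ^ (q ^ e))).Coprime q := by
      rw [hord]
      exact ((Nat.Prime.coprime_iff_not_dvd hq.out).2 hqm).symm
    have hmemK : (k : G) ^ (q ^ e) ∈ kq G q := (kq G q).pow_mem k.2 _
    have hF : (k : G) ^ (q ^ e) ∈ Cfsg.fittingSubgroup G :=
      mem_fitting_of_mem_kq hodd hmemK hcop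
    rw [mem_center_iff]
    intro k'
    apply Subtype.ext
    exact kq_comm k'.2 hF hcop
  exact hpg.isNilpotent

theorem kq_le_fitting [Group.IsSolvable G] (hodd : Odd (Nat.card (Cfsg.fittingSubgroup G)))
    (q : ℕ) [hq : Fact q.Prime] : kq G q ≤ Cfsg.fittingSubgroup G :=
  le_fittingSubgroup (kq_normal q) (kq_isNilpotent hodd q)

/-- `q`-elements of the omega-centralizer lie in `F(G)` -/
theorem mem_fitting_of_prime_power [Group.IsSolvable G]
    (hodd : Odd (Nat.card (Cfsg.fittingSubgroup G))) {q : ℕ} [hq : Fact q.Prime] {g : G}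
    (hg : g ∈ omegaCentralizer G) {j : ℕ} (ho : orderOf g = q ^ j) :
    g ∈ Cfsg.fittingSubgroup G := by
  apply kq_le_fitting hodd q
  rw [mem_kq]
  refine ⟨hg, ?_⟩
  intro r hrq
  haveI : Fact (r : ℕ).Prime := ⟨r.2⟩
  apply mem_centralizer_pCore hodd hg
  rw [ho]
  exact Nat.Coprime.pow_left j ((Nat.coprime_primes hq.out r.2).2 (Ne.symm hrq))

end

/-- Let G be a finite solvable group whose Fitting subgroup F(G) has odd order. If an element g of G commutes with every element of prime order of F(G), then g ∈ F(G). -/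
theorem result {G : Type*} [Group G] [Finite G] (hG : Group.IsSolvable G) (hodd : Odd (Nat.card (Cfsg.fittingSubgroup G))) (g : G) (hg : ∀ x ∈ Cfsg.fittingSubgroup G, (orderOf x).Prime → g * x = x * g) : g ∈ Cfsg.fittingSubgroup G := by
  haveI := hG
  apply mem_of_prime_power_parts
  intro s k j hs ho
  haveI : Fact s.Prime := ⟨hs⟩
  exact mem_fitting_of_prime_power hodd ((omegaCentralizer G).pow_mem hg k) ho

end Cfsg.Agent.S3785
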