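import Cfsg.Statements.S3788
import Cfsg.Agent.Lib.Helper62.QuadCyc
import Cfsg.Agent.Lib.Helper51.InvolvesT
import Cfsg.Agent.S2759

set_option autoImplicit false
open Cfsg

namespace Cfsg.Agent.S3788

open Cfsg.Agent.Lib.Helper76 Cfsg.Agent.Lib.Helper55 Cfsg.Agent.Lib.Helper63.Frob
  Cfsg.Agent.Lib.Helper62.QuadCyc

open scoped IsMulCommutative commutatorElement

universe u

theorem main_aux {G : Type u} [Group G] [Finite G] {p : ℕ} [hp : Fact p.Prime]
    (hsol : IsPSolvable p G) (hO : pPrimeCore p G = ⊥) (a : G) (haH : a ∉ pCore p G)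
    (hap : a ^ p ∈ pCore p G) (hpel : ∃ e : ℕ, a ^ (p ^ e) = 1)
    (hquad : ∀ h ∈ pCore p G, ∃ j : ℕ, a * h * a⁻¹ = (a ^ p) ^ j * h) :
    p = 2 ∧ Involves (Equiv.Perm (Fin 4)) G := by
  classical
  have hHn : (pCore p G).Normal := pCore_normal' p
  have hHp : IsPGroup p (pCore p G) := pCore_isPGroup p
  set H := pCore p G with hH
  have hΓsol : IsPSolvable p (G ⧸ H) := isPSolvable_quotient _ hsol
  have hΓO : pCore p (G ⧸ H) = ⊥ := Cfsg.Agent.Lib.Helper78.pCore_quotient_pCore_eq_bot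
  haveI hVcomm : IsMulCommutative (FQ H) := isMulCommutative_FQ _ hHp
  set ρ := frActQ H hHp with hρdef
  set x : G ⧸ H := QuotientGroup.mk a with hx
  set c : H := ⟨a ^ p, hap⟩ with hc
  set u : FQ H := QuotientGroup.mk c with hu
  have hx1 : x ≠ 1 := fun h => haH ((QuotientGroup.eq_one_iff a).1 h)
  have hxp : x ^ p = 1 := by
    rw [hx, ← QuotientGroup.mk_pow]
    exact (QuotientGroup.eq_one_iff _).2 hap
  have hVp : ∀ v : FQ H, v ^ p = 1 := by
    intro v
    obtain ⟨h, rfl⟩ := QuotientGroup.mk_surjective v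
    rw [← QuotientGroup.mk_pow]
    exact (QuotientGroup.eq_one_iff _).2 (Cfsg.Agent.Lib.Helper2.pow_mem_frattini hHp h)
  have hxu : ρ x u = u := by
    rw [hx, hu, frActQ_mk]
    congr 1
    apply Subtype.ext
    rw [MulAut.conjNormal_apply]
    show a * a ^ p * a⁻¹ = a ^ p
    rw [← pow_succ', pow_succ, mul_inv_cancel_right]
  have hq : ∀ v, ∃ j : ℕ, ρ x v = u ^ j * v := by
    intro v
    obtain ⟨⟨h, hh⟩, rfl⟩ := QuotientGroup.mk_surjective v
    obtain ⟨j, hj⟩ := hquad h hh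
    refine ⟨j, ?_⟩
    rw [hx, frActQ_mk, hu, ← QuotientGroup.mk_pow, ← QuotientGroup.mk_mul]
    congr 1
    apply Subtype.ext
    rw [MulAut.conjNormal_apply]
    exact hj
  have hinj : Function.Injective ρ := by
    rw [injective_iff_map_eq_one]
    intro gq hg
    obtain ⟨g, rfl⟩ := QuotientGroup.mk_surjective gq
    rw [QuotientGroup.eq_one_iff]
    apply (hallHigman_125 hsol hO g).1
    intro w hw
    have h := congrArg (fun e : MulAut (FQ H) => e (QuotientGroup.mk (⟨w, hw⟩ : H))) hg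
    simp only [MulAut.one_apply] at h
    rw [frActQ_mk] at h
    have h2 := (QuotientGroup.eq).1 h.symm
    have h3 := (frattini ↥H).normal_of_characteristic.conj_mem _ h2 ⟨w, hw⟩
    refine ⟨_, h3, ?_⟩
    simp [MulAut.conjNormal_apply, mul_assoc]
  rcases eq_or_ne p 2 with hp2 | hp2
  · -- the case `p = 2`
    subst hp2
    refine ⟨rfl, ?_⟩
    obtain ⟨y, hy1, hy3, hxy⟩ := exists_order_three hΓsol hΓO ρ hinj hVp x hx1 hxp u hxu hq
    obtain ⟨g₀, rfl⟩ := QuotientGroup.mk_surjective y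
    obtain ⟨e₀, he₀⟩ := IsPGroup.iff_card.1 hHp
    have hg3 : g₀ ^ 3 ∈ H := by
      rw [← QuotientGroup.eq_one_iff, QuotientGroup.mk_pow]; exact hy3
    have hg3pow : (g₀ ^ 3) ^ (2 ^ e₀) = 1 := by
      have := pow_card_eq_one' (G := H) (x := ⟨g₀ ^ 3, hg3⟩)
      rw [he₀] at this
      exact congrArg Subtype.val this
    set x' := g₀ ^ (4 ^ e₀) with hx'
    have hx'3 : x' ^ 3 = 1 := by
      rw [hx', ← pow_mul]
      have : 4 ^ e₀ * 3 = 3 * 2 ^ e₀ * 2 ^ e₀ := by
        rw [show (4 : ℕ) = 2 * 2 by norm_num, mul_pow]; ring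
      rw [this, pow_mul, pow_mul, hg3pow, one_pow]
    have hx'y : (QuotientGroup.mk x' : G ⧸ H) = QuotientGroup.mk g₀ := by
      rw [hx', QuotientGroup.mk_pow, pow_eq_pow_mod _ hy3, Nat.pow_mod]
      norm_num
    -- the quotient by the Frattini subgroup
    set Φ : Subgroup G := (frattini ↥H).map H.subtype with hΦ
    have hΦn : Φ.Normal := by
      constructor
      rintro _ ⟨f, hf, rfl⟩ g
      refine ⟨MulAut.conjNormal g f, ?_, by simp [MulAut.conjNormal_apply]⟩
      have := frattini_map_eq H (MulAut.conjNormal g)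
      rw [← this]
      exact ⟨f, hf, rfl⟩
    set π := QuotientGroup.mk' Φ with hπ
    have hπs : Function.Surjective π := QuotientGroup.mk'_surjective Φ
    set T := H.map π with hT
    haveI hTn : T.Normal := hHn.map π hπs
    have hT2 : IsPGroup 2 T := hHp.map π
    have hTc : ∀ s ∈ T, ∀ t ∈ T, s * t = t * s := by
      rintro _ ⟨h₁, hh₁, rfl⟩ _ ⟨h₂, hh₂, rfl⟩
      rw [← map_mul, ← map_mul]
      apply (QuotientGroup.eq).2
      refine ⟨⁅(⟨h₂, hh₂⟩ : H)⁻¹, (⟨h₁, hh₁⟩ : H)⁻¹⁆, ?_, ?_⟩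
      · apply Cfsg.Agent.Lib.Helper2.commutator_le_frattini hHp
        rw [commutator_def]
        exact Subgroup.commutator_mem_commutator (Subgroup.mem_top _) (Subgroup.mem_top _)
      · simp [commutatorElement_def, mul_assoc]
    have hπx3 : (π x') ^ 3 = 1 := by rw [← map_pow, hx'3, map_one]
    have hxodd : Odd (orderOf (π x')) := by
      have h1 : orderOf (π x') ∣ 3 := orderOf_dvd_of_pow_eq_one hπx3
      rcases (Nat.dvd_prime Nat.prime_three).1 h1 with h | h <;> rw [h] <;> decide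
    have hy2 : ∃ k : ℕ, (π a) ^ (2 ^ k) = 1 := by
      obtain ⟨e, he⟩ := hpel
      exact ⟨e, by rw [← map_pow, he, map_one]⟩
    have hxT : ∃ t ∈ T, π x' * t * (π x')⁻¹ ≠ t := by
      have : ∃ v : FQ H, ρ (QuotientGroup.mk g₀) v ≠ v := by
        by_contra hno
        push Not at hno
        apply hy1
        apply hinj
        rw [map_one]
        exact MulEquiv.ext hno
      obtain ⟨v, hv⟩ := this
      obtain ⟨⟨h, hh⟩, rfl⟩ := QuotientGroup.mk_surjective v
      refine ⟨π h, ⟨h, hh, rfl⟩, ?_⟩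
      intro hcon
      apply hv
      rw [← hx'y, frActQ_mk]
      apply (QuotientGroup.eq).2
      have h1 : π (x' * h * x'⁻¹) = π h := by
        rw [map_mul, map_mul, map_inv]; exact hcon
      obtain ⟨f, hf, hfe⟩ := (QuotientGroup.eq).1 h1
      have : (MulAut.conjNormal x' (⟨h, hh⟩ : H))⁻¹ * ⟨h, hh⟩ = f := by
        apply Subtype.ext
        have hfe' : (f : G) = (x' * h * x'⁻¹)⁻¹ * h := hfe
        rw [hfe']
        simp [MulAut.conjNormal_apply]
      rw [this]
      exact hf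
    have hx3 : ∀ t ∈ T, (π x') ^ 3 * t * ((π x') ^ 3)⁻¹ = t := by
      intro t _
      rw [hπx3]; group
    have hw₀ : a * x' * a⁻¹ * x' ∈ H := by
      rw [← QuotientGroup.eq_one_iff]
      rw [QuotientGroup.mk_mul, QuotientGroup.mk_mul, QuotientGroup.mk_mul, QuotientGroup.mk_inv,
        hx'y, hxy]
      group
    have hyx : ∀ t ∈ T, (π a * π x' * (π a)⁻¹ * π x') * t * (π a * π x' * (π a)⁻¹ * π x')⁻¹ = t := by
      intro t ht
      have e : π a * π x' * (π a)⁻¹ * π x' = π (a * x' * a⁻¹ * x') := by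
        rw [map_mul, map_mul, map_mul, map_inv]
      rw [e]
      have h1 : π (a * x' * a⁻¹ * x') ∈ T := ⟨_, hw₀, rfl⟩
      rw [hTc _ h1 t ht]
      group
    have hinv := Cfsg.Agent.S2759.involves_S4_of_abelian_normal T hT2 hTc (π x') (π a) hxodd hy2
      hxT hx3 hyx
    exact Cfsg.Agent.Lib.Helper51.involves_of_surjective π hπs hinv
  · -- `p` odd: contradiction
    exfalso
    obtain ⟨z, hzx, hzu⟩ := exists_central_moving hp2 hΓsol hΓO ρ hinj hVp x hx1 hxp u hxu hq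
    apply hzu
    obtain ⟨g, rfl⟩ := QuotientGroup.mk_surjective z
    have hw : g * a * g⁻¹ * a⁻¹ ∈ H := by
      rw [← QuotientGroup.eq_one_iff]
      rw [QuotientGroup.mk_mul, QuotientGroup.mk_mul, QuotientGroup.mk_mul, QuotientGroup.mk_inv,
        QuotientGroup.mk_inv, ← hx, hzx]
      group
    set w := g * a * g⁻¹ * a⁻¹ with hwdef
    have e1 : g * a * g⁻¹ = w * a := by rw [hwdef]; group
    have e2 : g * a ^ p * g⁻¹ = nc w a p * a ^ p := by
      rw [← mul_pow_eq, ← e1, conj_pow]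
    rw [hu, frActQ_mk]
    have e3 : MulAut.conjNormal g c = ⟨nc w a p, nc_mem H hw a p⟩ * c := by
      apply Subtype.ext
      rw [MulAut.conjNormal_apply]
      exact e2
    rw [e3, QuotientGroup.mk_mul, mk_nc H hHp hw a p, nrm_eq_one hp2 ρ x u hxu hq hVp, one_mul]

theorem main {X : Type u} [Group X] [Finite X] {p : ℕ} [hp : Fact p.Prime]
    (hsol : IsPSolvable p X) (hO : pPrimeCore p X = ⊥) (P : Sylow p X) (g : X)
    (hgP : g ∈ (P : Subgroup X))
    (hgn : ∀ h ∈ (P : Subgroup X), ∃ i : ℤ, h * g * h⁻¹ = g ^ i)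
    (h4 : p ≠ 2 ∨ ¬ Involves (Equiv.Perm (Fin 4)) X) : g ∈ pCore p X := by
  classical
  by_contra hg
  have hHn : (pCore p X).Normal := pCore_normal' p
  have hHP : pCore p X ≤ (P : Subgroup X) := Cfsg.Agent.Lib.Helper11.pCore_le_sylow P
  set H := pCore p X with hH
  obtain ⟨e, he⟩ := P.2 ⟨g, hgP⟩
  have he' : g ^ (p ^ e) = 1 := by
    have := congrArg Subtype.val he
    simpa using this
  have hex : ∃ k, g ^ (p ^ k) ∈ H := ⟨e, by rw [he']; exact H.one_mem⟩
  have hk : g ^ (p ^ Nat.find hex) ∈ H := Nat.find_spec hex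
  have hk0 : Nat.find hex ≠ 0 := by
    intro h0
    rw [h0, pow_zero, pow_one] at hk
    exact hg hk
  obtain ⟨k', hk'⟩ := Nat.exists_eq_succ_of_ne_zero hk0
  set a := g ^ (p ^ k') with ha
  have haH : a ∉ H := Nat.find_min hex (by omega : k' < Nat.find hex)
  have hap : a ^ p ∈ H := by
    rw [ha, ← pow_mul, ← pow_succ, ← Nat.succ_eq_add_one, ← hk']
    exact hk
  have hae : a ^ (p ^ e) = 1 := by
    rw [ha, ← pow_mul, mul_comm, pow_mul, he', one_pow]
  have hquad : ∀ h ∈ H, ∃ j : ℕ, a * h * a⁻¹ = (a ^ p) ^ j * h := by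
    intro h hh
    obtain ⟨i, hi⟩ := hgn h (hHP hh)
    have h1 : h * a * h⁻¹ = a ^ i := by
      rw [ha, ← conj_pow, hi, ← zpow_natCast, ← zpow_natCast, ← zpow_mul, ← zpow_mul, mul_comm]
    have h2 : a * h * a⁻¹ * h⁻¹ = a ^ (1 - i) := by
      have h0 : h * a⁻¹ * h⁻¹ = (a ^ i)⁻¹ := by rw [← h1]; group
      calc a * h * a⁻¹ * h⁻¹ = a * (h * a⁻¹ * h⁻¹) := by group
        _ = a * (a ^ i)⁻¹ := by rw [h0]
        _ = a ^ (1 - i) := by rw [zpow_sub, zpow_one]
    have h3 : a ^ (1 - i) ∈ H := by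
      rw [← h2]
      exact H.mul_mem (hHn.conj_mem h hh a) (H.inv_mem hh)
    have h4' : (p : ℤ) ∣ 1 - i := by
      by_contra hnd
      apply haH
      have hcop : IsCoprime (1 - i) ((p : ℤ) ^ e) :=
        IsCoprime.pow_right
          (((Nat.prime_iff_prime_int.1 hp.out).coprime_iff_not_dvd).2 hnd).symm
      obtain ⟨s, t, hst⟩ := hcop
      have hape : a ^ ((p : ℤ) ^ e) = 1 := by
        have : ((p : ℤ) ^ e) = ((p ^ e : ℕ) : ℤ) := by push_cast; rfl
        rw [this, zpow_natCast, hae]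
      have : a = (a ^ (1 - i)) ^ s * (a ^ ((p : ℤ) ^ e)) ^ t := by
        rw [← zpow_mul, ← zpow_mul, ← zpow_add, mul_comm (1 - i) s, mul_comm _ t, hst, zpow_one]
      rw [this, hape, one_zpow, mul_one]
      exact H.zpow_mem h3 s
    obtain ⟨m', hm'⟩ := h4'
    have h5 : a * h * a⁻¹ = (a ^ p) ^ m' * h := by
      have : a * h * a⁻¹ = (a * h * a⁻¹ * h⁻¹) * h := by group
      rw [this, h2, hm', zpow_mul, zpow_natCast]
    refine ⟨(m' % (orderOf (a ^ p) : ℤ)).toNat, ?_⟩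
    rw [h5]
    congr 1
    rw [← zpow_natCast (a ^ p) ((m' % (orderOf (a ^ p) : ℤ)).toNat),
      Int.toNat_of_nonneg (Int.emod_nonneg _ (by exact_mod_cast (orderOf_pos (a ^ p)).ne')),
      zpow_mod_orderOf]
  obtain ⟨hp2, hinv⟩ := main_aux hsol hO a haH hap ⟨e, hae⟩ hquad
  rcases h4 with h | h
  · exact h hp2
  · exact h hinv

/-- Let G be a finite p-soluble group, P a Sylow p-subgroup of G and A a cyclic normal subgroup of P. If p is odd, or if no section of G is isomorphic to the symmetric group of degree 4, then A ≤ O_{p',p}(G). -/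
theorem result {G : Type*} [Group G] [Finite G] {p : ℕ} [Fact p.Prime] (hG : Cfsg.IsPSolvable p G) (P : Sylow p G) (A : Subgroup G) (hAP : A ≤ (P : Subgroup G)) (hAn : (P : Subgroup G) ≤ Subgroup.normalizer (A : Set G)) (hA : IsCyclic A) (h : p ≠ 2 ∨ ¬ Cfsg.Involves (Equiv.Perm (Fin 4)) G) : A ≤ Cfsg.pPrimePCore p G := by
  classical
  have hKn : (pPrimeCore p G).Normal := pPrimeCore_normal' p
  set K := pPrimeCore p G with hK
  set π := QuotientGroup.mk' K with hπdef
  have hπ : Function.Surjective π := QuotientGroup.mk'_surjective K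
  obtain ⟨⟨g₀, hg₀A⟩, hgen⟩ := hA.exists_generator
  have hgenA : ∀ x ∈ A, ∃ i : ℤ, g₀ ^ i = x := by
    intro x hx
    obtain ⟨i, hi⟩ := Subgroup.mem_zpowers_iff.1 (hgen ⟨x, hx⟩)
    exact ⟨i, by simpa using congrArg Subtype.val hi⟩
  have key : π g₀ ∈ pCore p (G ⧸ K) := by
    apply main (isPSolvable_quotient _ hG) (pPrimeCore_quotient_eq_bot p) (P.mapSurjective hπ) (π g₀)
    · rw [Sylow.coe_mapSurjective]
      exact ⟨g₀, hAP hg₀A, rfl⟩
    · intro hb hhb
      rw [Sylow.coe_mapSurjective] at hhb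
      obtain ⟨h', hh', rfl⟩ := hhb
      have hmem : h' * g₀ * h'⁻¹ ∈ A := (Subgroup.mem_normalizer_iff.1 (hAn hh') g₀).1 hg₀A
      obtain ⟨i, hi⟩ := hgenA _ hmem
      refine ⟨i, ?_⟩
      rw [← map_zpow, hi, map_mul, map_mul, map_inv]
    · rcases h with h | h
      · exact Or.inl h
      · exact Or.inr (fun hinv => h (Cfsg.Agent.Lib.Helper51.involves_of_surjective π hπ hinv))
  intro x hx
  obtain ⟨i, rfl⟩ := hgenA x hx
  show g₀ ^ i ∈ pPrimePCore p G
  unfold pPrimePCore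
  rw [Subgroup.mem_comap, map_zpow]
  exact Subgroup.zpow_mem _ key i

end Cfsg.Agent.S3788
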