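import Cfsg.Statements.S3790
import Cfsg.Agent.Lib.Helper63.PLengthRel

set_option autoImplicit false
open Cfsg

namespace Cfsg.Agent.S3790

open Cfsg.Agent.Lib.Helper63

theorem relPLen_prod {G : Type*} [Group G] [Finite G] (p : ℕ) (hp : p.Prime) (l : ℕ → ℕ) :
    ∀ (T : Finset ℕ), (∀ s ∈ T, s.Prime ∧ s ≠ p) → ∀ (A B : Subgroup G), A.Normal → B.Normal → A ≤ B →
      (∀ s : ℕ, s.Prime → s ≠ p → s ∉ T → PPrimeFac s A B) →
      (∀ s ∈ T, RelPLen s (l s) A B) →
      RelPLen p (∏ s ∈ T, (1 + l s)) A B := by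
  classical
  intro T
  induction T using Finset.induction_on with
  | empty =>
    intro _ A B hA hB hAB hpr _
    rw [Finset.prod_empty]
    apply relPLen_of_pFac hA hB hAB
    apply pFac_of_forall_pPrimeFac hp hA
    intro s hs hne
    exact hpr s hs hne (by simp)
  | insert t T' ht ih =>
    intro hT A B hA hB hAB hpr hlen
    have htp : t.Prime ∧ t ≠ p := hT t (Finset.mem_insert_self t T')
    have hT' : ∀ s ∈ T', s.Prime ∧ s ≠ p := fun s hs => hT s (Finset.mem_insert_of_mem hs)
    obtain ⟨V, hV0, hVm, hVn, hVe, hVo, hVB⟩ := hlen t (Finset.mem_insert_self t T')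
    set m := ∏ s ∈ T', (1 + l s) with hm
    have hAV : ∀ i, A ≤ V i := fun i => hV0 ▸ hVm (Nat.zero_le i)
    have hVBle : ∀ i, i ≤ 2 * l t + 1 → V i ≤ B := fun i hi => hVB ▸ hVm hi
    -- the t'-sections
    have hsec : ∀ i, Even i → i + 1 ≤ 2 * l t + 1 → RelPLen p m (V i) (V (i + 1)) := by
      intro i he hi
      apply ih hT' (V i) (V (i+1)) (hVn i) (hVn (i+1)) (hVm (Nat.le_succ i))
      · intro s hs hsp hsT'
        by_cases hst : s = t
        · subst hst; exact hVe i he
        · have : s ∉ insert t T' := by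
            simp only [Finset.mem_insert, not_or]; exact ⟨hst, hsT'⟩
          exact (hpr s hs hsp this).mono (hAV i) (hVBle (i+1) hi)
      · intro s hs
        exact (hlen s (Finset.mem_insert_of_mem hs)).restrict (hVn i) (hVn (i+1)) (hAV i)
          (hVm (Nat.le_succ i)) (hVBle (i+1) hi)
    -- chain them
    have key : ∀ j, j ≤ l t → RelPLen p ((j + 1) * m) A (V (2 * j + 1)) := by
      intro j
      induction j with
      | zero =>
        intro _
        have := hsec 0 (by decide) (by omega)
        rw [hV0] at this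
        simpa using this
      | succ j ihj =>
        intro hj
        have h1 := ihj (by omega)
        have h2 : RelPLen p 0 (V (2 * j + 1)) (V (2 * j + 2)) := by
          apply relPLen_of_pPrimeFac (hVn _) (hVn _) (hVm (Nat.le_succ _))
          apply PFac.toPPrime htp.1 hp htp.2
          exact hVo (2 * j + 1) (by simp)
        have h3 : RelPLen p m (V (2 * j + 2)) (V (2 * j + 2 + 1)) :=
          hsec (2 * j + 2) ⟨j + 1, by ring⟩ (by omega)
        have h4 := (h1.trans h2).trans h3
        have e1 : (j + 1) * m + 0 + m = (j + 1 + 1) * m := by ring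
        have e2 : 2 * (j + 1) + 1 = 2 * j + 2 + 1 := by ring
        rw [e1] at h4
        rw [e2]; exact h4
    have hfin := key (l t) le_rfl
    rw [hVB] at hfin
    rw [Finset.prod_insert ht]
    have e : (1 + l t) * m = (l t + 1) * m := by ring
    rw [e]; exact hfin

theorem result {G : Type*} [Group G] [Finite G] (hG : Group.IsSolvable G) (p : ℕ) [Fact p.Prime] (r : ℕ) (q : Fin r → ℕ) (hq : ∀ i, (q i).Prime ∧ q i ≠ p) (hinj : Function.Injective q) (hcover : ∀ s : ℕ, s.Prime → s ∣ Nat.card G → s ≠ p → ∃ i, q i = s) (l : Fin r → ℕ) (hl : ∀ i, Cfsg.PLengthLE (q i) (l i) G) : Cfsg.PLengthLE p (Finset.univ.prod fun i => 1 + l i) G := by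
  classical
  have hp : p.Prime := Fact.out
  set T : Finset ℕ := Finset.univ.image q with hT
  let l' : ℕ → ℕ := fun s => if h : ∃ i, q i = s then l (Classical.choose h) else 0
  have hl' : ∀ i, l' (q i) = l i := by
    intro i
    have h : ∃ j, q j = q i := ⟨i, rfl⟩
    show (if h : ∃ j, q j = q i then l (Classical.choose h) else 0) = l i
    rw [dif_pos h]
    congr 1
    exact hinj (Classical.choose_spec h)
  have hprod : ∏ s ∈ T, (1 + l' s) = Finset.univ.prod fun i => 1 + l i := by
    rw [hT, Finset.prod_image (fun x _ y _ h => hinj h)]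
    apply Finset.prod_congr rfl
    intro i _
    rw [hl']
  rw [← hprod, ← relPLen_bot_top_iff]
  apply relPLen_prod p hp l' T
  · intro s hs
    rw [hT, Finset.mem_image] at hs
    obtain ⟨i, _, rfl⟩ := hs
    exact hq i
  · infer_instance
  · infer_instance
  · exact bot_le
  · intro s hs hsp hsT x _
    have hnd : ¬ s ∣ Nat.card G := by
      intro hd
      obtain ⟨i, hi⟩ := hcover s hs hd hsp
      apply hsT
      rw [hT, Finset.mem_image]
      exact ⟨i, Finset.mem_univ i, hi⟩
    refine ⟨Nat.card G, ((Nat.Prime.coprime_iff_not_dvd hs).2 hnd).symm, ?_⟩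
    rw [pow_card_eq_one']
    exact Subgroup.one_mem _
  · intro s hs
    rw [hT, Finset.mem_image] at hs
    obtain ⟨i, _, rfl⟩ := hs
    haveI : Fact (q i).Prime := ⟨(hq i).1⟩
    rw [hl', relPLen_bot_top_iff]
    exact hl i

end Cfsg.Agent.S3790
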