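import Cfsg.Statements.S3791
import Cfsg.Agent.Lib.Helper63.DerivedLength

set_option autoImplicit false
open Cfsg

namespace Cfsg.Agent.S3791

open Cfsg.Agent.Lib.Helper63

theorem result {G : Type*} [Group G] [Finite G] (hG : Group.IsSolvable G) (r : ℕ) (q : Fin r → ℕ) (hq : ∀ i, (q i).Prime) (hinj : Function.Injective q) (hcover : ∀ s : ℕ, s.Prime → s ∣ Nat.card G → ∃ i, q i = s) (d l : Fin r → ℕ) (hd : ∀ i, ∀ P : Subgroup G, (haveI := Fact.mk (hq i); ∃ S : Sylow (q i) G, (S : Subgroup G) = P) → derivedSeries ↥P (d i) = ⊥) (hl : ∀ i, Cfsg.PLengthLE (q i) (l i) G) : derivedSeries G (Finset.univ.sum fun i => d i * l i) = ⊥ := by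
  classical
  set T : Finset ℕ := Finset.univ.image q with hT
  let d' : ℕ → ℕ := fun s => if h : ∃ i, q i = s then d (Classical.choose h) else 0
  let l' : ℕ → ℕ := fun s => if h : ∃ i, q i = s then l (Classical.choose h) else 0
  have hd' : ∀ i, d' (q i) = d i := by
    intro i
    have h : ∃ j, q j = q i := ⟨i, rfl⟩
    show (if h : ∃ j, q j = q i then d (Classical.choose h) else 0) = d i
    rw [dif_pos h]
    congr 1
    exact hinj (Classical.choose_spec h)
  have hl' : ∀ i, l' (q i) = l i := by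
    intro i
    have h : ∃ j, q j = q i := ⟨i, rfl⟩
    show (if h : ∃ j, q j = q i then l (Classical.choose h) else 0) = l i
    rw [dif_pos h]
    congr 1
    exact hinj (Classical.choose_spec h)
  have hsum : ∑ s ∈ T, d' s * l' s = Finset.univ.sum fun i => d i * l i := by
    rw [hT, Finset.sum_image (fun x _ y _ h => hinj h)]
    apply Finset.sum_congr rfl
    intro i _
    rw [hd', hl']
  rw [← hsum]
  apply dl_aux (Nat.card G) G le_rfl d' l'
  · intro s hs hsd Q hQ
    obtain ⟨i, rfl⟩ := hcover s hs hsd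
    haveI : Fact (q i).Prime := ⟨hq i⟩
    obtain ⟨S, hQS⟩ := hQ.exists_le_sylow
    have h1 := hd i (S : Subgroup G) ⟨S, rfl⟩
    have h2 : dsub (S : Subgroup G) (d i) = ⊥ := by
      rw [dsub_eq_map_derivedSeries, h1, Subgroup.map_bot]
    rw [hd', eq_bot_iff, ← h2]
    exact dsub_mono hQS _
  · intro s hs hsd
    obtain ⟨i, rfl⟩ := hcover s hs hsd
    rw [hl']
    exact hl i
  · intro s hs hsd
    obtain ⟨i, rfl⟩ := hcover s hs hsd
    rw [hT, Finset.mem_image]
    exact ⟨i, Finset.mem_univ i, rfl⟩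

end Cfsg.Agent.S3791
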