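import Cfsg.Statements.S3798
import Cfsg.Agent.Lib.Helper71.GYMain
import Cfsg.Agent.Lib.Helper54.Exp6

set_option autoImplicit false
open Cfsg

namespace Cfsg.Agent.S3798

/-- The Gaschütz–Yen Theorem: let G be a finite p-soluble group, p an odd prime dividing its order, such that the automorphism group of G permutes the subgroups of G of order p transitively. Then G has p-length at most 1. -/
theorem result {G : Type*} [Group G] [Finite G] {p : ℕ} [Fact p.Prime] (hp : p ≠ 2) (hdvd : p ∣ Nat.card G) (hG : Cfsg.IsPSolvable p G) (htrans : ∀ U V : Subgroup G, Nat.card U = p → Nat.card V = p → ∃ a : MulAut G, U.map a.toMonoidHom = V) : Cfsg.PLengthLE p 1 G := by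
  classical
  have hNn : (pPrimeCore p G).Normal := Cfsg.Agent.Lib.Helper55.pPrimeCore_normal' p
  have hNc : (pPrimeCore p G).Characteristic := Cfsg.Agent.Lib.Helper71.GY.pPrimeCore_char_h71 p G
  have hNcop : (Nat.card (pPrimeCore p G)).Coprime p :=
    Cfsg.Agent.Lib.Helper55.pPrimeCore_card_coprime p
  have htr' := Cfsg.Agent.Lib.Helper71.GY.trans_quotient (pPrimeCore p G) hNcop htrans
  have hsol' : IsPSolvable p (G ⧸ pPrimeCore p G) :=
    Cfsg.Agent.Lib.Helper76.isPSolvable_quotient (pPrimeCore p G) hG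
  have hO' : pPrimeCore p (G ⧸ pPrimeCore p G) = ⊥ :=
    Cfsg.Agent.Lib.Helper55.pPrimeCore_quotient_eq_bot p
  have hidx := Cfsg.Agent.Lib.Helper71.GY.index_pCore_coprime hp hsol' hO' htr'
  apply Cfsg.Agent.Lib.Helper54.pLengthLE_one_of_forall p
  intro g
  refine ⟨(pCore p (G ⧸ pPrimeCore p G)).index, ?_, ?_⟩
  · exact ((Nat.Prime.coprime_iff_not_dvd Fact.out).2 hidx).symm
  · have : (pCore p (G ⧸ pPrimeCore p G)).Normal := Cfsg.Agent.Lib.Helper55.pCore_normal' p
    show QuotientGroup.mk' (pPrimeCore p G) (g ^ (pCore p (G ⧸ pPrimeCore p G)).index) ∈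
      pCore p (G ⧸ pPrimeCore p G)
    rw [map_pow]
    exact Subgroup.pow_index_mem _ _

end Cfsg.Agent.S3798
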