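import Cfsg.Statements.S3800

set_option autoImplicit false
open Cfsg

namespace Cfsg.Agent.S3800

variable {G : Type*} [Group G]

theorem mem_cj {H : Subgroup G} {g y : G} :
    y ∈ H.map (MulAut.conj g).toMonoidHom ↔ g⁻¹ * y * g ∈ H := by
  constructor
  · rintro ⟨h, hh, rfl⟩
    simpa [MulAut.conj_apply, mul_assoc] using hh
  · intro hy
    refine ⟨g⁻¹ * y * g, hy, ?_⟩
    simp [MulAut.conj_apply, mul_assoc]

theorem cent_part [Finite G] {p : ℕ} [Fact p.Prime] (N : Subgroup G) [N.Normal]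
    (hN : (Nat.card N).Coprime p) (P : Subgroup G) (hP : IsPGroup p P) :
    Subgroup.centralizer ((P.map (QuotientGroup.mk' N)) : Set (G ⧸ N)) ≤
      (Subgroup.centralizer (P : Set G)).map (QuotientGroup.mk' N) := by
  classical
  intro xb hxb
  rw [Subgroup.mem_centralizer_iff] at hxb
  let F := ↥((QuotientGroup.mk : G → G ⧸ N) ⁻¹' {xb})
  have hF : ∀ (u : P) (y : F), (u : G) * (y : G) * (u : G)⁻¹ ∈ (QuotientGroup.mk : G → G ⧸ N) ⁻¹' {xb} := by
    intro u y
    have hy : ((y : G) : G ⧸ N) = xb := y.2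
    have hu : ((u : G) : G ⧸ N) ∈ ((P.map (QuotientGroup.mk' N)) : Set (G ⧸ N)) :=
      ⟨u, u.2, rfl⟩
    have h1 := hxb _ hu
    show (((u : G) * (y : G) * (u : G)⁻¹ : G) : G ⧸ N) = xb
    rw [QuotientGroup.mk_mul, QuotientGroup.mk_mul, QuotientGroup.mk_inv, hy, h1]
    group
  letI : MulAction P F :=
    { smul := fun u y => ⟨(u : G) * (y : G) * (u : G)⁻¹, hF u y⟩
      one_smul := by
        intro y
        apply Subtype.ext
        show ((1 : P) : G) * (y : G) * ((1 : P) : G)⁻¹ = y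
        simp
      mul_smul := by
        intro u v y
        apply Subtype.ext
        show ((u * v : P) : G) * (y : G) * ((u * v : P) : G)⁻¹ = (u : G) * ((v : G) * (y : G) * (v : G)⁻¹) * (u : G)⁻¹
        simp only [Subgroup.coe_mul]
        group }
  have hcard : Nat.card F = Nat.card N := by
    show Nat.card ↥((QuotientGroup.mk : G → G ⧸ N) ⁻¹' {xb}) = Nat.card N
    rw [QuotientGroup.card_preimage_mk]
    simp
  have hnd : ¬ p ∣ Nat.card F := by
    rw [hcard]
    intro hd
    have := Nat.Coprime.eq_one_of_dvd hN.symm hd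
    exact (Nat.Prime.one_lt (Fact.out : p.Prime)).ne' this
  obtain ⟨y, hy⟩ := hP.nonempty_fixed_point_of_prime_not_dvd_card F hnd
  refine ⟨(y : G), (?_ : (y : G) ∈ Subgroup.centralizer (P : Set G)), y.2⟩
  rw [Subgroup.mem_centralizer_iff]
  intro u hu
  have h1 := hy ⟨u, hu⟩
  have h2 : u * (y : G) * u⁻¹ = (y : G) := congrArg (fun z : F => (z : G)) h1
  calc u * (y : G) = (u * (y : G) * u⁻¹) * u := by group
    _ = (y : G) * u := by rw [h2]

theorem not_dvd_relIndex [Finite G] {p : ℕ} [hp : Fact p.Prime] (N : Subgroup G) [N.Normal]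
    (hN : (Nat.card N).Coprime p) (P : Subgroup G) (hP : IsPGroup p P) :
    ¬ p ∣ P.relIndex (P ⊔ N) := by
  intro hdvd
  obtain ⟨a, ha⟩ := (IsPGroup.iff_card).1 hP
  have h1 : Nat.card P * P.relIndex (P ⊔ N) = Nat.card ↥(P ⊔ N) := by
    have := Subgroup.relIndex_mul_relIndex (H := (⊥ : Subgroup G)) (K := P) (L := P ⊔ N) bot_le le_sup_left
    rwa [Subgroup.relIndex_bot_left, Subgroup.relIndex_bot_left] at this
  have h2 : Nat.card N * N.relIndex P = Nat.card ↥(P ⊔ N) := by
    have := Subgroup.relIndex_mul_relIndex (H := (⊥ : Subgroup G)) (K := N) (L := P ⊔ N) bot_le le_sup_right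
    rwa [Subgroup.relIndex_bot_left, Subgroup.relIndex_bot_left, Subgroup.relIndex_sup_right] at this
  have h3 : N.relIndex P ∣ p ^ a := ha ▸ Subgroup.relIndex_dvd_card N P
  obtain ⟨b, hb, hb2⟩ := (Nat.dvd_prime_pow hp.out).1 h3
  have h4 : p ^ (a + 1) ∣ Nat.card N * p ^ b := by
    rw [← hb2, h2, ← h1, ha, pow_succ]
    exact Nat.mul_dvd_mul_left _ hdvd
  have h5 : p ^ (a + 1) ∣ p ^ b := by
    refine Nat.Coprime.dvd_of_dvd_mul_left ?_ h4
    exact Nat.Coprime.pow_left _ hN.symm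
  have := (Nat.pow_dvd_pow_iff_le_right hp.out.one_lt).1 h5
  omega

theorem norm_part [Finite G] {p : ℕ} [Fact p.Prime] (N : Subgroup G) [N.Normal]
    (hN : (Nat.card N).Coprime p) (P : Subgroup G) (hP : IsPGroup p P) :
    Subgroup.normalizer ((P.map (QuotientGroup.mk' N)) : Set (G ⧸ N)) ≤
      (Subgroup.normalizer (P : Set G)).map (QuotientGroup.mk' N) := by
  classical
  intro xb hxb
  obtain ⟨x, rfl⟩ := QuotientGroup.mk_surjective xb
  set K : Subgroup G := P ⊔ N with hK
  -- the conjugate of P by x lies in K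
  have hYK : P.map (MulAut.conj x).toMonoidHom ≤ K := by
    intro y hy
    rw [mem_cj] at hy
    have h1 : ((x⁻¹ * y * x : G) : G ⧸ N) ∈ P.map (QuotientGroup.mk' N) := ⟨_, hy, rfl⟩
    have h2 := (Subgroup.mem_normalizer_iff.1 hxb _).1 h1
    obtain ⟨u, hu, hu2⟩ := h2
    have h3 : ((u : G) : G ⧸ N) = (y : G ⧸ N) := by
      have : ((u : G) : G ⧸ N) = (x : G ⧸ N) * ((x⁻¹ * y * x : G) : G ⧸ N) * (x : G ⧸ N)⁻¹ := hu2
      rw [this]
      simp only [QuotientGroup.mk_mul, QuotientGroup.mk_inv]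
      group
    have h4 : u⁻¹ * y ∈ N := QuotientGroup.eq.1 h3
    have : y = u * (u⁻¹ * y) := by group
    rw [this]
    exact Subgroup.mul_mem_sup hu h4
  -- Sylow subgroups of K
  have hPK : P ≤ K := le_sup_left
  have hP' : IsPGroup p (P.subgroupOf K) := hP.comap_subtype
  have hidx : ¬ p ∣ (P.subgroupOf K).index := not_dvd_relIndex N hN P hP
  let PS : Sylow p K := hP'.toSylow hidx
  have hY : IsPGroup p (P.map (MulAut.conj x).toMonoidHom) := hP.map _
  have hY' : IsPGroup p ((P.map (MulAut.conj x).toMonoidHom).subgroupOf K) := hY.comap_subtype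
  obtain ⟨QS, hQS⟩ := hY'.exists_le_sylow
  obtain ⟨k, hk⟩ := MulAction.exists_smul_eq K PS QS
  -- x P x⁻¹ ≤ k P k⁻¹
  have hle : P.map (MulAut.conj x).toMonoidHom ≤ P.map (MulAut.conj (k : G)).toMonoidHom := by
    intro y hy
    have hyK : y ∈ K := hYK hy
    have h1 : (⟨y, hyK⟩ : K) ∈ (QS : Subgroup K) := hQS (by
      rw [Subgroup.mem_subgroupOf]; exact hy)
    rw [← hk] at h1
    have h2 : (⟨y, hyK⟩ : K) ∈ ((k • PS : Sylow p K) : Subgroup K) := h1
    rw [Sylow.coe_subgroup_smul, Subgroup.mem_smul_pointwise_iff_exists] at h2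
    obtain ⟨z, hz, hz2⟩ := h2
    have hz' : (z : G) ∈ P := by
      have : z ∈ P.subgroupOf K := hz
      rwa [Subgroup.mem_subgroupOf] at this
    rw [mem_cj]
    have h3 : (k : G) * (z : G) * (k : G)⁻¹ = y := by
      have := congrArg (fun w : K => (w : G)) hz2
      simpa [MulAut.smul_def, MulAut.conj_apply] using this
    rw [← h3]
    have : (k : G)⁻¹ * ((k : G) * (z : G) * (k : G)⁻¹) * (k : G) = z := by group
    rw [this]; exact hz'
  -- so k⁻¹ x normalizes P
  have hn : (k : G)⁻¹ * x ∈ Subgroup.normalizer (P : Set G) := by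
    have hsub : P.map (MulAut.conj ((k : G)⁻¹ * x)).toMonoidHom ≤ P := by
      intro y hy
      rw [mem_cj] at hy
      have h1 : (k : G) * y * (k : G)⁻¹ ∈ P.map (MulAut.conj x).toMonoidHom := by
        rw [mem_cj]
        convert hy using 1
        group
      have h2 := hle h1
      rw [mem_cj] at h2
      convert h2 using 1
      group
    have hcard : Nat.card (P.map (MulAut.conj ((k : G)⁻¹ * x)).toMonoidHom) = Nat.card P :=
      Subgroup.card_map_of_injective (MulAut.conj ((k : G)⁻¹ * x)).injective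
    have heq : P.map (MulAut.conj ((k : G)⁻¹ * x)).toMonoidHom = P := by
      apply Subgroup.eq_of_le_of_card_ge hsub
      rw [hcard]
    exact Subgroup.mem_normalizer_iff_map_conj_eq.2 heq
  -- decompose k
  have hkK : (k : G) ∈ P ⊔ N := k.2
  rw [← SetLike.mem_coe, Subgroup.mul_normal] at hkK
  obtain ⟨u, hu, n, hn', hkun⟩ := hkK
  refine ⟨u * ((k : G)⁻¹ * x), ?_, ?_⟩
  · exact Subgroup.mul_mem _ (Subgroup.le_normalizer hu) hn
  · show ((u * ((k : G)⁻¹ * x) : G) : G ⧸ N) = (x : G ⧸ N)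
    rw [QuotientGroup.eq]
    have : (u * ((k : G)⁻¹ * x))⁻¹ * x = x⁻¹ * (u * n * u⁻¹) * x⁻¹⁻¹ := by
      rw [← hkun]; group
    rw [this]
    have h1 := Subgroup.Normal.conj_mem (inferInstance : N.Normal) n hn' u
    exact Subgroup.Normal.conj_mem (inferInstance : N.Normal) _ h1 x⁻¹

theorem result {G : Type*} [Group G] [Finite G] {p : ℕ} [Fact p.Prime] (N : Subgroup G) [N.Normal] (hN : (Nat.card N).Coprime p) (P : Subgroup G) (hP : IsPGroup p P) : Subgroup.normalizer ((P.map (QuotientGroup.mk' N)) : Set (G ⧸ N)) = (Subgroup.normalizer (P : Set G)).map (QuotientGroup.mk' N) ∧ Subgroup.centralizer ((P.map (QuotientGroup.mk' N)) : Set (G ⧸ N)) = (Subgroup.centralizer (P : Set G)).map (QuotientGroup.mk' N) := by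
  refine ⟨le_antisymm (norm_part N hN P hP) (Subgroup.le_normalizer_map _), 
    le_antisymm (cent_part N hN P hP) ?_⟩
  have := Subgroup.map_centralizer_le_centralizer_image (P : Set G) (QuotientGroup.mk' N)
  simpa using this

end Cfsg.Agent.S3800
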