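import Cfsg.Statements.S3802
import Cfsg.Agent.Lib.Helper63.Wielandt

set_option autoImplicit false
open Cfsg

namespace Cfsg.Agent.S3802

open Cfsg.Agent.Lib.Helper63

theorem result {G : Type*} [Group G] [Finite G] (M N : Subgroup G) (hM : IsCoatom M) (hN : N.IsSubnormal) (hNM : N ≤ M) :
    N ≤ Subgroup.normalCore M := by
  classical
  set C := Subgroup.normalCore M with hC
  have hCM : C ≤ M := Subgroup.normalCore_le M
  let π := QuotientGroup.mk' C
  have hπs : Function.Surjective π := QuotientGroup.mk'_surjective C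
  have hker : π.ker = C := QuotientGroup.ker_mk' C
  set Mb : Subgroup (G ⧸ C) := M.map π with hMb
  set Nb : Subgroup (G ⧸ C) := N.map π with hNb
  have hcomapM : Mb.comap π = M := by
    rw [hMb, Subgroup.comap_map_eq, hker]
    exact sup_eq_left.2 hCM
  have hNbsn : Nb.IsSubnormal := hN.map hπs
  have hNbMb : Nb ≤ Mb := Subgroup.map_mono hNM
  -- Mb is a coatom
  have hMbtop : Mb ≠ ⊤ := by
    intro h
    apply hM.1
    rw [← hcomapM, h, Subgroup.comap_top]
  have hMbco : ∀ X : Subgroup (G ⧸ C), Mb < X → X = ⊤ := by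
    intro X hX
    have h1 : M < X.comap π := by
      have hlt : Mb.comap π < X.comap π := by
        refine lt_of_le_of_ne (Subgroup.comap_mono hX.le) ?_
        intro h
        have := congrArg (Subgroup.map π) h
        rw [Subgroup.map_comap_eq_self_of_surjective hπs, Subgroup.map_comap_eq_self_of_surjective hπs] at this
        exact hX.ne this
      exact lt_of_eq_of_lt hcomapM.symm hlt
    have h2 := hM.2 _ h1
    have := congrArg (Subgroup.map π) h2
    rwa [Subgroup.map_comap_eq_self_of_surjective hπs, Subgroup.map_top_of_surjective π hπs] at this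
  -- a minimal normal subgroup of the quotient
  have hnt : (⊤ : Subgroup (G ⧸ C)) ≠ ⊥ := by
    intro h
    apply hMbtop
    rw [h]; exact le_bot_iff.1 (h ▸ le_top)
  obtain ⟨A, hA, _⟩ := exists_isMinNormal_le (⊤ : Subgroup (G ⧸ C)) inferInstance hnt
  have hAn : A.Normal := hA.1
  haveI := hAn
  have hAnotle : ¬ A ≤ Mb := by
    intro hle
    have h1 : A.comap π ≤ M := (Subgroup.comap_mono hle).trans (le_of_eq hcomapM)
    have h2 : A.comap π ≤ C := Subgroup.normal_le_normalCore.2 h1
    have h3 : A ≤ ⊥ := by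
      have := Subgroup.map_mono (f := π) h2
      rw [Subgroup.map_comap_eq_self_of_surjective hπs] at this
      have hCb : C.map π = ⊥ := (Subgroup.map_eq_bot_iff _).2 hker.ge
      rwa [hCb] at this
    exact hA.2.1 (le_bot_iff.1 h3)
  have hsup : A ⊔ Mb = ⊤ := by
    apply hMbco
    refine lt_of_le_of_ne le_sup_right ?_
    intro h
    apply hAnotle
    rw [h]; exact le_sup_left
  have hAnorm : A ≤ Subgroup.normalizer (Nb : Set (G ⧸ C)) := wielandt hNbsn hA
  -- all conjugates of Nb lie in Mb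
  have hconj : ∀ q : G ⧸ C, ∀ x ∈ Nb, q * x * q⁻¹ ∈ Mb := by
    intro q x hx
    have hq : q ∈ A ⊔ Mb := by rw [hsup]; trivial
    rw [sup_comm, ← SetLike.mem_coe, Subgroup.mul_normal] at hq
    obtain ⟨m, hm, a, ha, rfl⟩ := hq
    have h1 : a * x * a⁻¹ ∈ Nb := (Subgroup.mem_normalizer_iff.1 (hAnorm ha) x).1 hx
    have h2 : a * x * a⁻¹ ∈ Mb := hNbMb h1
    have : m * a * x * (m * a)⁻¹ = m * (a * x * a⁻¹) * m⁻¹ := by group
    rw [this]
    exact Mb.mul_mem (Mb.mul_mem hm h2) (Mb.inv_mem hm)
  intro x hx g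
  have h1 : π (g * x * g⁻¹) ∈ Mb := by
    have := hconj (π g) (π x) (Subgroup.mem_map_of_mem π hx)
    simpa using this
  have h2 : g * x * g⁻¹ ∈ Mb.comap π := h1
  rwa [hcomapM] at h2

end Cfsg.Agent.S3802
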