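-- Statement S3803: odd-order automorphisms of a 2-group fixing all subgroups of one order.
import Cfsg.Statements.S3803
import Cfsg.Agent.Lib.Helper63.CoprimeOmegaTwo

set_option autoImplicit false
open Cfsg

namespace Cfsg.Agent.S3803

open Cfsg.Agent.Lib.Helper63 Cfsg.Agent.Lib.Helper33
open Subgroup

section

variable {X : Type*} [Group X] [Finite X]

/-- subgroups of prescribed order between `H` and the `2`-group `P` -/
theorem exists_subgroup_card_between {P H : Subgroup X} (hHP : H ≤ P) {h k n : ℕ}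
    (hH : Nat.card H = 2 ^ h) (hPn : Nat.card P = 2 ^ n) (hhk : h ≤ k) (hkn : k ≤ n) :
    ∃ E : Subgroup X, H ≤ E ∧ E ≤ P ∧ Nat.card E = 2 ^ k := by
  have : Fact (Nat.Prime 2) := ⟨Nat.prime_two⟩
  have hdvd : 2 ^ k ∣ Nat.card ↥P := by rw [hPn]; exact pow_dvd_pow 2 hkn
  have hH' : Nat.card ↥(H.subgroupOf P) = 2 ^ h := by
    rw [← hH]
    exact Nat.card_congr (Subgroup.subgroupOfEquivOfLe hHP).toEquiv
  obtain ⟨K, hK, hHK⟩ := Sylow.exists_subgroup_card_pow_prime_le 2 hdvd (H.subgroupOf P) hH' hhk
  refine ⟨K.map P.subtype, ?_, map_subtype_le _, ?_⟩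
  · have := Subgroup.map_mono (f := P.subtype) hHK
    rwa [subgroupOf_map_subtype, inf_of_le_left hHP] at this
  · rw [Subgroup.card_map_of_injective P.subtype_injective, hK]

omit [Finite X] in
theorem mem_normalizer_sup {a : X} {H K : Subgroup X} (hH : a ∈ normalizer (H : Set X))
    (hK : a ∈ normalizer (K : Set X)) : a ∈ normalizer ((H ⊔ K : Subgroup X) : Set X) := by
  rw [← cj_eq_self_iff] at hH hK ⊢
  rw [cj_sup, hH, hK]

end

/-- Let P be a 2-subgroup and A a subgroup of odd order of a finite group, with A normalizing P. Let D ≤ P with 1 < |D| < |P|. If every subgroup of P of order |D|, and also every subgroup of P of order 4 in case |D| = 2, is normalized by A, then A centralizes P. -/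
theorem result {X : Type*} [Group X] [Finite X] (P A D : Subgroup X) (hP : IsPGroup 2 P) (hA : Odd (Nat.card A))
    (hAP : A ≤ Subgroup.normalizer (P : Set X)) (hDP : D ≤ P) (hD1 : 1 < Nat.card D) (hD2 : Nat.card D < Nat.card P)
    (hinv : ∀ E : Subgroup X, E ≤ P → (Nat.card E = Nat.card D ∨ (Nat.card D = 2 ∧ Nat.card E = 4)) → A ≤ Subgroup.normalizer (E : Set X)) :
    A ≤ Subgroup.centralizer (P : Set X) := by
  have : Fact (Nat.Prime 2) := ⟨Nat.prime_two⟩
  have hcop : (Nat.card A).Coprime 2 := Nat.Coprime.symm (Nat.coprime_two_left.2 hA)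
  have hcopa : ∀ a ∈ A, (orderOf a).Coprime 2 := by
    intro a ha
    have h1 : orderOf a ∣ Nat.card A := by
      have := orderOf_dvd_natCard (⟨a, ha⟩ : A)
      rwa [Subgroup.orderOf_mk] at this
    exact Nat.Coprime.coprime_dvd_left h1 hcop
  obtain ⟨n, hn⟩ := (IsPGroup.iff_card).1 hP
  obtain ⟨d, hd⟩ := (IsPGroup.iff_card).1 (hP.to_le hDP)
  have hd1 : 1 ≤ d := by
    by_contra hcon
    have : d = 0 := by omega
    rw [this, pow_zero] at hd
    omega
  have hdn : d < n := by
    rw [hd, hn] at hD2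
    exact (Nat.pow_lt_pow_iff_right (by norm_num)).1 hD2
  rw [le_centralizer_iff]
  apply le_centralizer_of_centralizes_omega_two A P hcop hP hAP
  intro x hx hx4 a ha
  -- the cyclic group generated by x
  have hHP : zpowers x ≤ P := zpowers_le.2 hx
  obtain ⟨h, hh⟩ := (IsPGroup.iff_card).1 (hP.to_le hHP)
  have hh2 : h ≤ 2 := by
    have h1 : orderOf x ∣ 4 := orderOf_dvd_of_pow_eq_one hx4
    rw [← Nat.card_zpowers, hh] at h1
    have h2 : 2 ^ h ≤ 2 ^ 2 := Nat.le_of_dvd (by norm_num) h1
    exact (Nat.pow_le_pow_iff_right (by norm_num)).1 h2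
  -- it suffices to find a subgroup containing x and centralised by a
  suffices hsuff : ∃ E : Subgroup X, x ∈ E ∧ a ∈ centralizer (E : Set X) by
    obtain ⟨E, hxE, haE⟩ := hsuff
    exact (mem_centralizer_iff.1 haE x hxE).symm
  by_cases hhd : h ≤ d
  · -- generic case
    obtain ⟨E₀, hHE₀, hE₀P, hE₀⟩ := exists_subgroup_card_between hHP hh hn hhd hdn.le
    have hxE₀ : x ∈ E₀ := hHE₀ (mem_zpowers x)
    have hAE₀ : A ≤ normalizer (E₀ : Set X) := hinv E₀ hE₀P (Or.inl (by rw [hE₀, hd]))
    by_cases hcyc : IsCyclic ↥E₀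
    · exact ⟨E₀, hxE₀, mem_centralizer_of_cyclic_two_group E₀ (hP.to_le hE₀P) (hAE₀ ha) (hcopa a ha)⟩
    · obtain ⟨E, hE₀E, hEP, hE⟩ := exists_subgroup_card_between hE₀P hE₀ hn (Nat.le_succ d) hdn
      have hEpg : IsPGroup 2 ↥E := hP.to_le hEP
      have hEnc : ¬ IsCyclic ↥E := by
        intro hc
        apply hcyc
        have : IsCyclic ↥(E₀.subgroupOf E) := inferInstance
        exact isCyclic_of_surjective (Subgroup.subgroupOfEquivOfLe hE₀E)
          (Subgroup.subgroupOfEquivOfLe hE₀E).surjective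
      -- every coatom of E is normalised by A
      have hcoat : ∀ M : Subgroup ↥E, IsCoatom M →
          A ≤ normalizer ((M.map E.subtype : Subgroup X) : Set X) := by
        intro M hM
        apply hinv _ ((map_subtype_le M).trans hEP)
        left
        have hMn : M.Normal := Cfsg.Agent.Lib.Helper2.coatom_normal hEpg M hM
        have hidx : M.index = 2 := by
          rw [Subgroup.index_eq_card]
          exact Cfsg.Agent.Lib.Helper2.coatom_card_quotient hEpg M hM
        have hmul : Nat.card M * M.index = Nat.card ↥E := Subgroup.card_mul_index M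
        rw [hidx, hE, pow_succ] at hmul
        rw [Subgroup.card_map_of_injective E.subtype_injective, hd]
        exact Nat.eq_of_mul_eq_mul_right (by norm_num) hmul
      obtain ⟨M₁, M₂, hM₁, hM₂, _, hsup⟩ := exists_two_coatoms_of_not_isCyclic hEnc
      have hAE : A ≤ normalizer (E : Set X) := by
        intro b hb
        have h1 := mem_normalizer_sup (hcoat M₁ hM₁ hb) (hcoat M₂ hM₂ hb)
        have h2 : M₁.map E.subtype ⊔ M₂.map E.subtype = E := by
          rw [← Subgroup.map_sup, hsup, ← MonoidHom.range_eq_map, Subgroup.range_subtype]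
        rwa [h2] at h1
      have hcent := le_centralizer_of_normalizes_coatoms A E hcop hEpg hAE hcoat
      rw [le_centralizer_iff] at hcent
      exact ⟨E, hE₀E hxE₀, hcent ha⟩
  · -- d = 1 and x has order 4
    have hd1' : d = 1 := by omega
    have hh2' : h = 2 := by omega
    have hAH : A ≤ normalizer ((zpowers x : Subgroup X) : Set X) := by
      apply hinv _ hHP
      right
      rw [hd, hd1', hh, hh2']
      norm_num
    exact ⟨zpowers x, mem_zpowers x,
      mem_centralizer_of_cyclic_two_group (zpowers x) (hP.to_le hHP) (hAH ha) (hcopa a ha)⟩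

end Cfsg.Agent.S3803
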