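import Cfsg.Statements.S3804
import Cfsg.Agent.Lib.Helper63.ProdCard

set_option autoImplicit false
open Cfsg

namespace Cfsg.Agent.S3804

open Cfsg.Agent.Lib.Helper63

theorem real_aux (M mJ mI : ℝ) (hM : 0 < M) (hJ : mJ ≤ M) (hI : mI ≤ M) (hI0 : 0 < mI) (hJ0 : 0 < mJ)
    (h : M * M ≤ mJ * mI) : mJ = M ∧ mI = M := by
  constructor
  · by_contra hne
    have hlt : mJ < M := lt_of_le_of_ne hJ hne
    have : mJ * mI < M * M := by nlinarith
    linarith
  · by_contra hne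
    have hlt : mI < M := lt_of_le_of_ne hI hne
    have : mJ * mI < M * M := by nlinarith
    linarith

theorem nat_aux (α : ℝ) (hα : 0 < α) (x y c d : ℕ) (hx : 0 < x) (hc : 0 < c) (hxy : x ≤ y) (hcd : c ≤ d)
    (h : ((x : ℝ)) ^ α * (c : ℝ) = ((y : ℝ)) ^ α * (d : ℝ)) : x = y ∧ c = d := by
  have hx' : (0 : ℝ) < x := by exact_mod_cast hx
  have hc' : (0 : ℝ) < c := by exact_mod_cast hc
  have hxy' : (x : ℝ) ≤ y := by exact_mod_cast hxy
  have hcd' : (c : ℝ) ≤ d := by exact_mod_cast hcd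
  have hxa : 0 < (x : ℝ) ^ α := Real.rpow_pos_of_pos hx' α
  have hle : (x : ℝ) ^ α ≤ (y : ℝ) ^ α := Real.rpow_le_rpow hx'.le hxy' hα.le
  have h1 : x = y := by
    by_contra hne
    have hlt : (x : ℝ) < y := by
      have : x < y := lt_of_le_of_ne hxy hne
      exact_mod_cast this
    have hlt' : (x : ℝ) ^ α < (y : ℝ) ^ α := Real.rpow_lt_rpow hx'.le hlt hα
    have : (x : ℝ) ^ α * (c : ℝ) < (y : ℝ) ^ α * (d : ℝ) := by nlinarith
    linarith
  refine ⟨h1, ?_⟩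
  subst h1
  have : (c : ℝ) = d := mul_left_cancel₀ hxa.ne' h
  exact_mod_cast this

theorem result {X : Type*} [Group X] [Finite X] (G H : Subgroup X) (hGH : G ≤ Subgroup.normalizer (H : Set X)) (α : ℝ) (hα : 0 < α)
    (A B : Subgroup X) (hA : A ≤ G) (hB : B ≤ G) (hA1 : A ≠ ⊥) (hB1 : B ≠ ⊥)
    (hAmax : ∀ A' : Subgroup X, A' ≤ G → A' ≠ ⊥ → (fun A : Subgroup X => ((Nat.card A : ℝ) ^ α) * (Nat.card ↥(H ⊓ Subgroup.centralizer (A : Set X)) : ℝ)) A' ≤ (fun A : Subgroup X => ((Nat.card A : ℝ) ^ α) * (Nat.card ↥(H ⊓ Subgroup.centralizer (A : Set X)) : ℝ)) A)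
    (hBmax : ∀ A' : Subgroup X, A' ≤ G → A' ≠ ⊥ → (fun A : Subgroup X => ((Nat.card A : ℝ) ^ α) * (Nat.card ↥(H ⊓ Subgroup.centralizer (A : Set X)) : ℝ)) A' ≤ (fun A : Subgroup X => ((Nat.card A : ℝ) ^ α) * (Nat.card ↥(H ⊓ Subgroup.centralizer (A : Set X)) : ℝ)) B)
    (hcase : A ⊓ B ≠ ⊥ ∨ (Nat.card H : ℝ) ≤ (fun A : Subgroup X => ((Nat.card A : ℝ) ^ α) * (Nat.card ↥(H ⊓ Subgroup.centralizer (A : Set X)) : ℝ)) A) :
    (∀ a ∈ A, ∀ b ∈ B, ∃ b' ∈ B, ∃ a' ∈ A, a * b = b' * a') ∧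
    (∀ A' : Subgroup X, A' ≤ G → A' ≠ ⊥ → (fun A : Subgroup X => ((Nat.card A : ℝ) ^ α) * (Nat.card ↥(H ⊓ Subgroup.centralizer (A : Set X)) : ℝ)) A' ≤ (fun A : Subgroup X => ((Nat.card A : ℝ) ^ α) * (Nat.card ↥(H ⊓ Subgroup.centralizer (A : Set X)) : ℝ)) (A ⊔ B)) ∧
    (∀ h ∈ H ⊓ Subgroup.centralizer ((A ⊓ B : Subgroup X) : Set X), ∃ u ∈ H ⊓ Subgroup.centralizer (A : Set X), ∃ v ∈ H ⊓ Subgroup.centralizer (B : Set X), h = u * v) ∧
    (A ⊓ B ≠ ⊥ → ∀ A' : Subgroup X, A' ≤ G → A' ≠ ⊥ → (fun A : Subgroup X => ((Nat.card A : ℝ) ^ α) * (Nat.card ↥(H ⊓ Subgroup.centralizer (A : Set X)) : ℝ)) A' ≤ (fun A : Subgroup X => ((Nat.card A : ℝ) ^ α) * (Nat.card ↥(H ⊓ Subgroup.centralizer (A : Set X)) : ℝ)) (A ⊓ B)) := by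
  classical
  beta_reduce at hAmax hBmax hcase ⊢
  set U : Subgroup X := H ⊓ Subgroup.centralizer (A : Set X) with hU
  set V : Subgroup X := H ⊓ Subgroup.centralizer (B : Set X) with hV
  set W : Subgroup X := H ⊓ Subgroup.centralizer ((A ⊓ B : Subgroup X) : Set X) with hW
  set J : Subgroup X := H ⊓ Subgroup.centralizer ((A ⊔ B : Subgroup X) : Set X) with hJ
  have hUW : U ≤ W := inf_le_inf_left _ (Subgroup.centralizer_le (by
    intro x hx; exact (show x ∈ A ⊓ B from hx).1))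
  have hVW : V ≤ W := inf_le_inf_left _ (Subgroup.centralizer_le (by
    intro x hx; exact (show x ∈ A ⊓ B from hx).2))
  have hUV : U ⊓ V = J := by
    apply le_antisymm
    · rintro x ⟨⟨hxH, hxA⟩, ⟨_, hxB⟩⟩
      refine ⟨hxH, ?_⟩
      have hxA' : x ∈ Subgroup.centralizer (A : Set X) := hxA
      have hxB' : x ∈ Subgroup.centralizer (B : Set X) := hxB
      show x ∈ Subgroup.centralizer ((A ⊔ B : Subgroup X) : Set X)
      have h1 : A ≤ Subgroup.centralizer ({x} : Set X) := by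
        intro y hy
        rw [Subgroup.mem_centralizer_iff]
        intro z hz
        rw [Set.mem_singleton_iff] at hz
        subst hz
        exact ((Subgroup.mem_centralizer_iff.1 hxA') y hy).symm
      have h2 : B ≤ Subgroup.centralizer ({x} : Set X) := by
        intro y hy
        rw [Subgroup.mem_centralizer_iff]
        intro z hz
        rw [Set.mem_singleton_iff] at hz
        subst hz
        exact ((Subgroup.mem_centralizer_iff.1 hxB') y hy).symm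
      have h3 : A ⊔ B ≤ Subgroup.centralizer ({x} : Set X) := sup_le h1 h2
      rw [Subgroup.mem_centralizer_iff]
      intro y hy
      have := (Subgroup.mem_centralizer_iff.1 (h3 hy)) x rfl
      exact this.symm
    · apply le_inf
      · exact inf_le_inf_left _ (Subgroup.centralizer_le (by
          intro x hx; exact (le_sup_left : A ≤ A ⊔ B) hx))
      · exact inf_le_inf_left _ (Subgroup.centralizer_le (by
          intro x hx; exact (le_sup_right : B ≤ A ⊔ B) hx))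
  obtain ⟨hle1, heq1⟩ := card_mul_le_of_le A B (A ⊔ B) le_sup_left le_sup_right
  obtain ⟨hle2, heq2⟩ := card_mul_le_of_le U V W hUW hVW
  rw [hUV] at hle2 heq2
  -- abbreviations for the values
  set M : ℝ := ((Nat.card A : ℝ) ^ α) * (Nat.card U : ℝ) with hM
  set MB : ℝ := ((Nat.card B : ℝ) ^ α) * (Nat.card V : ℝ) with hMB
  set mJ : ℝ := ((Nat.card ↥(A ⊔ B) : ℝ) ^ α) * (Nat.card J : ℝ) with hmJ
  set mI : ℝ := ((Nat.card ↥(A ⊓ B) : ℝ) ^ α) * (Nat.card W : ℝ) with hmI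
  have hMeq : MB = M := le_antisymm (hAmax B hB hB1) (hBmax A hA hA1)
  have posc : ∀ K : Subgroup X, (0 : ℝ) < (Nat.card K : ℝ) := fun K => by
    exact_mod_cast (Nat.card_pos : 0 < Nat.card K)
  have posr : ∀ K : Subgroup X, (0 : ℝ) < (Nat.card K : ℝ) ^ α := fun K =>
    Real.rpow_pos_of_pos (posc K) α
  have hMpos : 0 < M := mul_pos (posr A) (posc U)
  have hmJpos : 0 < mJ := mul_pos (posr _) (posc J)
  have hmIpos : 0 < mI := mul_pos (posr _) (posc W)
  have hsupne : A ⊔ B ≠ ⊥ := by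
    intro h
    apply hA1
    rw [eq_bot_iff, ← h]
    exact le_sup_left
  have hmJle : mJ ≤ M := hAmax (A ⊔ B) (sup_le hA hB) hsupne
  have hmIle : mI ≤ M := by
    by_cases hI : A ⊓ B = ⊥
    · rcases hcase with hc | hc
      · exact absurd hI hc
      · have hWH : W = H := by
          rw [hW, hI]
          apply inf_eq_left.2
          intro h _
          rw [Subgroup.mem_centralizer_iff]
          intro y hy
          rw [Subgroup.coe_bot, Set.mem_singleton_iff] at hy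
          subst hy
          simp
        have : mI = (Nat.card H : ℝ) := by
          rw [hmI, hWH, hI]
          simp
        rw [this]; exact hc
    · exact hAmax (A ⊓ B) (le_trans inf_le_left hA) hI
  -- product inequality
  have hprod : M * M ≤ mJ * mI := by
    have e1 : M * MB = ((Nat.card A * Nat.card B : ℕ) : ℝ) ^ α * ((Nat.card U * Nat.card V : ℕ) : ℝ) := by
      rw [hM, hMB]
      push_cast
      rw [Real.mul_rpow (posc A).le (posc B).le]
      ring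
    have e2 : mJ * mI = ((Nat.card ↥(A ⊔ B) * Nat.card ↥(A ⊓ B) : ℕ) : ℝ) ^ α * ((Nat.card W * Nat.card J : ℕ) : ℝ) := by
      rw [hmJ, hmI]
      push_cast
      rw [Real.mul_rpow (posc _).le (posc _).le]
      ring
    rw [← hMeq] at *
    rw [hMeq] at e1
    have hx : ((Nat.card A * Nat.card B : ℕ) : ℝ) ≤ ((Nat.card ↥(A ⊔ B) * Nat.card ↥(A ⊓ B) : ℕ) : ℝ) := by
      exact_mod_cast hle1
    have hy : ((Nat.card U * Nat.card V : ℕ) : ℝ) ≤ ((Nat.card W * Nat.card J : ℕ) : ℝ) := by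
      exact_mod_cast hle2
    have hx0 : (0 : ℝ) ≤ ((Nat.card A * Nat.card B : ℕ) : ℝ) := by positivity
    have hy0 : (0 : ℝ) ≤ ((Nat.card U * Nat.card V : ℕ) : ℝ) := by positivity
    calc MB * MB = MB * MB := rfl
      _ = ((Nat.card A * Nat.card B : ℕ) : ℝ) ^ α * ((Nat.card U * Nat.card V : ℕ) : ℝ) := by
          rw [← e1, hMeq]
      _ ≤ ((Nat.card ↥(A ⊔ B) * Nat.card ↥(A ⊓ B) : ℕ) : ℝ) ^ α * ((Nat.card W * Nat.card J : ℕ) : ℝ) := by
          apply mul_le_mul (Real.rpow_le_rpow hx0 hx hα.le) hy hy0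
          exact Real.rpow_nonneg (le_trans hx0 hx) α
      _ = mJ * mI := e2.symm
  obtain ⟨hJM, hIM⟩ := real_aux M mJ mI hMpos hmJle hmIle hmIpos hmJpos hprod
  -- equality of naturals
  have heqR : ((Nat.card A * Nat.card B : ℕ) : ℝ) ^ α * ((Nat.card U * Nat.card V : ℕ) : ℝ) =
      ((Nat.card ↥(A ⊔ B) * Nat.card ↥(A ⊓ B) : ℕ) : ℝ) ^ α * ((Nat.card W * Nat.card J : ℕ) : ℝ) := by
    have e1 : M * MB = ((Nat.card A * Nat.card B : ℕ) : ℝ) ^ α * ((Nat.card U * Nat.card V : ℕ) : ℝ) := by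
      rw [hM, hMB]
      push_cast
      rw [Real.mul_rpow (posc A).le (posc B).le]
      ring
    have e2 : mJ * mI = ((Nat.card ↥(A ⊔ B) * Nat.card ↥(A ⊓ B) : ℕ) : ℝ) ^ α * ((Nat.card W * Nat.card J : ℕ) : ℝ) := by
      rw [hmJ, hmI]
      push_cast
      rw [Real.mul_rpow (posc _).le (posc _).le]
      ring
    rw [← e1, ← e2, hMeq, hJM, hIM]
  have hnat := nat_aux α hα _ _ _ _ (Nat.mul_pos Nat.card_pos Nat.card_pos)
    (Nat.mul_pos Nat.card_pos Nat.card_pos) hle1 hle2 heqR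
  obtain ⟨hn1, hn2⟩ := hnat
  have hAB := heq1 hn1
  have hUVW := heq2 hn2
  refine ⟨?_, ?_, ?_, ?_⟩
  · intro a ha b hb
    have hmem : (a * b)⁻¹ ∈ A ⊔ B :=
      (A ⊔ B).inv_mem (Subgroup.mul_mem_sup ha hb)
    obtain ⟨a₁, ha₁, b₁, hb₁, he⟩ := hAB _ hmem
    refine ⟨b₁⁻¹, B.inv_mem hb₁, a₁⁻¹, A.inv_mem ha₁, ?_⟩
    have : a * b = (a₁ * b₁)⁻¹ := by rw [← he]; simp
    rw [this]; group
  · intro A' hA' hA'1
    have := hAmax A' hA' hA'1
    calc _ ≤ M := this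
      _ = mJ := hJM.symm
  · intro h hh
    exact hUVW h hh
  · intro _ A' hA' hA'1
    have := hAmax A' hA' hA'1
    calc _ ≤ M := this
      _ = mI := hIM.symm

end Cfsg.Agent.S3804
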