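-- Statement S3807: nonabelian p-group with an abelian subgroup of index p.
import Cfsg.Statements.S3807
import Cfsg.Agent.Lib.Helper63.PGroup
import Cfsg.Agent.Lib.Helper63.AbelianIndexP

set_option autoImplicit false
open Cfsg

namespace Cfsg.Agent.S3807

open Cfsg.Agent.Lib.Helper63
open scoped commutatorElement

/-- Let S be a non-abelian finite p-group with an abelian subgroup A of index p. Then [S : Z(S)] = p·#[S,S], and either [S,S] has order p, S/Z(S) is elementary abelian of order p², and S has exactly p + 1 abelian subgroups of index p; or [S,S] has order at least p² and A is the only abelian subgroup of index p in S. -/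
theorem result {S : Type*} [Group S] [Finite S] (p : ℕ) [Fact p.Prime] (hS : IsPGroup p S) (hna : ¬ IsMulCommutative S)
    (A : Subgroup S) (hA : IsMulCommutative ↥A) (hAi : A.index = p) :
    (Subgroup.center S).index = p * Nat.card (commutator S) ∧
      ((Nat.card (commutator S) = p ∧ Cfsg.IsElementaryAbelian p (⊤ : Subgroup (S ⧸ Subgroup.center S)) ∧
          Nat.card (S ⧸ Subgroup.center S) = p ^ 2 ∧
          Nat.card {B : Subgroup S // IsMulCommutative ↥B ∧ B.index = p} = p + 1) ∨
        (p ^ 2 ≤ Nat.card (commutator S) ∧ ∀ B : Subgroup S, IsMulCommutative ↥B → B.index = p → B = A)) := by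
  have hp : p.Prime := Fact.out
  have hp1 : 1 < p := hp.one_lt
  have hAn : A.Normal := normal_of_index_eq_prime hS A hAi
  obtain ⟨x, hxA⟩ : ∃ x : S, x ∉ A := by
    by_contra hcon
    have htop : A = ⊤ := by
      rw [eq_top_iff]
      intro y _
      by_contra hy
      exact hcon ⟨y, hy⟩
    rw [htop, Subgroup.index_top] at hAi
    omega
  have hidx := index_center_eq hp hna A hA hAi x hxA
  refine ⟨hidx, ?_⟩
  -- the order of the commutator subgroup
  obtain ⟨k, hk⟩ := (IsPGroup.iff_card).1 (hS.to_subgroup (commutator S))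
  have hk0 : k ≠ 0 := by
    intro h0
    rw [h0, pow_zero, Subgroup.card_eq_one] at hk
    apply hna
    refine ⟨⟨fun a b => ?_⟩⟩
    rw [← commutatorElement_eq_one_iff_mul_comm]
    have : ⁅a, b⁆ ∈ commutator S := by
      rw [commutator_def]
      exact Subgroup.commutator_mem_commutator (Subgroup.mem_top _) (Subgroup.mem_top _)
    rw [hk] at this
    exact Subgroup.mem_bot.1 this
  by_cases hk1 : k = 1
  · left
    rw [hk1, pow_one] at hk
    have hZi : (Subgroup.center S).index = p ^ 2 := by rw [hidx, hk]; ring
    have hqcard : Nat.card (S ⧸ Subgroup.center S) = p ^ 2 := by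
      rw [← Subgroup.index_eq_card, hZi]
    refine ⟨hk, ⟨?_, ?_⟩, hqcard, card_abelian_index_prime hp hna hZi⟩
    · have hc : IsMulCommutative (S ⧸ Subgroup.center S) :=
        IsPGroup.isMulCommutative_of_card_eq_prime_sq hqcard
      refine ⟨⟨fun a b => ?_⟩⟩
      apply Subtype.ext
      exact hc.is_comm.comm a.1 b.1
    · intro a _
      have hdvd : orderOf a ∣ p ^ 2 := hqcard ▸ orderOf_dvd_natCard a
      obtain ⟨j, hj2, hj⟩ := (Nat.dvd_prime_pow hp).1 hdvd
      have hj2' : j ≠ 2 := by
        intro h2
        rw [h2, ← hqcard] at hj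
        have hcyc : IsCyclic (S ⧸ Subgroup.center S) := isCyclic_of_orderOf_eq_card a hj
        apply hna
        exact MonoidHom.isMulCommutative_of_isCyclic_of_ker_le_center
          (QuotientGroup.mk' (Subgroup.center S)) (by rw [QuotientGroup.ker_mk'])
      have hj1 : j ≤ 1 := by omega
      have hdvd' : orderOf a ∣ p := by
        rw [hj]
        exact pow_dvd_pow p hj1 |>.trans (by rw [pow_one])
      exact orderOf_dvd_iff_pow_eq_one.1 hdvd'
  · right
    have hk2 : 2 ≤ k := by omega
    have hle : p ^ 2 ≤ Nat.card (commutator S) := by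
      rw [hk]; exact Nat.pow_le_pow_right hp.pos hk2
    refine ⟨hle, ?_⟩
    intro B hB hBi
    by_contra hne
    have h1 := index_center_le_of_two_abelian hp hA hAi hB hBi hne
    rw [hidx] at h1
    have h2 : p * p ^ 2 ≤ p * Nat.card (commutator S) := Nat.mul_le_mul_left _ hle
    have h3 : p * p < p * p ^ 2 := by
      apply Nat.mul_lt_mul_of_pos_left _ hp.pos
      calc p = p ^ 1 := (pow_one p).symm
        _ < p ^ 2 := Nat.pow_lt_pow_right hp1 (by norm_num)
    omega

end Cfsg.Agent.S3807
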