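import Cfsg.Statements.S3808
import Cfsg.Agent.Lib.Helper63.PGroup

set_option autoImplicit false
open Cfsg

namespace Cfsg.Agent.S3808

open Cfsg.Agent.Lib.Helper63

theorem result {S : Type*} [Group S] [Finite S] (p : ℕ) [Fact p.Prime] (hS : IsPGroup p S) (Q : Subgroup S) (hQ : Cfsg.IsExtraspecial p ↥Q) (hQi : Q.index = p) :
    Subgroup.center S = (Subgroup.center ↥Q).map Q.subtype ∨
      (Q ⊔ Subgroup.center S = ⊤ ∧ Nat.card (Subgroup.center S) = p ^ 2) := by
  classical
  have hp : p.Prime := Fact.out
  haveI hQn : Q.Normal := normal_of_index_eq_prime hS Q hQi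
  set ZQ : Subgroup S := (Subgroup.center ↥Q).map Q.subtype with hZQ
  haveI : ZQ.Normal := by rw [hZQ]; infer_instance
  have hcard : Nat.card ZQ = p := by
    rw [hZQ, Subgroup.card_map_of_injective Q.subtype_injective]
    exact hQ.2
  have hle : ZQ ≤ Subgroup.center S := normal_card_prime_le_center hS ZQ hcard
  have hinf : Subgroup.center S ⊓ Q ≤ ZQ := by
    rintro x ⟨hx1, hx2⟩
    have hx1' : x ∈ Subgroup.center S := hx1
    have hx2' : x ∈ Q := hx2
    have hc : (⟨x, hx2'⟩ : Q) ∈ Subgroup.center ↥Q := by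
      rw [Subgroup.mem_center_iff]
      intro g
      apply Subtype.ext
      have := (Subgroup.mem_center_iff.1 hx1') (g : S)
      simpa using this
    exact ⟨⟨x, hx2'⟩, hc, rfl⟩
  have hZQQ : ZQ ≤ Q := by
    rw [hZQ]
    exact Subgroup.map_subtype_le _
  by_cases h : Subgroup.center S ≤ Q
  · left
    exact le_antisymm (fun x hx => hinf ⟨hx, h hx⟩) hle
  · right
    have htop : Q ⊔ Subgroup.center S = ⊤ := by
      have h1 : (Q ⊔ Subgroup.center S).index ∣ Q.index := Subgroup.index_dvd_of_le le_sup_left
      rw [hQi, Nat.dvd_prime hp] at h1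
      rcases h1 with h1 | h1
      · exact Subgroup.index_eq_one.1 h1
      · exfalso
        have h2 := Subgroup.relIndex_mul_index (show Q ≤ Q ⊔ Subgroup.center S from le_sup_left)
        rw [h1, hQi] at h2
        have h3 : Q.relIndex (Q ⊔ Subgroup.center S) = 1 := by
          have hp0 : 0 < p := hp.pos
          exact Nat.eq_of_mul_eq_mul_right hp0 (by rw [h2, one_mul])
        rw [Subgroup.relIndex_eq_one] at h3
        exact h (le_trans le_sup_right h3)
    refine ⟨htop, ?_⟩
    have hZQeq : ZQ = Q ⊓ Subgroup.center S := by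
      apply le_antisymm
      · exact le_inf hZQQ hle
      · rw [inf_comm]; exact hinf
    have h1 := Subgroup.relIndex_mul_relIndex (H := (⊥ : Subgroup S)) (K := ZQ) (L := Subgroup.center S) bot_le hle
    rw [Subgroup.relIndex_bot_left, Subgroup.relIndex_bot_left, hcard] at h1
    have h2 : ZQ.relIndex (Subgroup.center S) = p := by
      rw [hZQeq, Subgroup.inf_relIndex_right, ← Subgroup.relIndex_sup_left, htop,
        Subgroup.relIndex_top_right, hQi]
    rw [← h1, h2, pow_two]

end Cfsg.Agent.S3808
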