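import Cfsg.Statements.S3809
import Cfsg.Agent.Lib.Helper29.ClassTwo

set_option autoImplicit false
open Cfsg
open Cfsg.Agent.Lib.Helper29

namespace Cfsg.Agent.S3809

/-- Let S be a finite p-group with an extraspecial subgroup of index p. Then S has order p^(2+2n) for some n ≥ 1, derived length at most 3, and exponent dividing p³. -/
theorem result {S : Type*} [Group S] [Finite S] (p : ℕ) [Fact p.Prime] (hS : IsPGroup p S) (Q : Subgroup S) (hQ : Cfsg.IsExtraspecial p ↥Q) (hQi : Q.index = p) :
    (∃ n : ℕ, 1 ≤ n ∧ Nat.card S = p ^ (2 + 2 * n)) ∧ derivedSeries S 3 = ⊥ ∧ ∀ x : S, x ^ (p ^ 3) = 1 := by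
  classical
  have hprime : p.Prime := Fact.out
  obtain ⟨n, hn1, hn⟩ := card_extraspecial hQ
  obtain ⟨⟨_, _, hcomm⟩, hc⟩ := hQ
  have hle : commutator ↥Q ≤ Subgroup.center ↥Q := hcomm.le
  have hcardS : Nat.card S = p ^ (2 + 2 * n) := by
    rw [← Subgroup.card_mul_index Q, hn, hQi]
    ring
  -- `Q` is normal
  haveI hQn : Q.Normal := by
    apply Subgroup.normal_of_index_eq_minFac_card
    rw [hQi, hcardS]
    exact (hprime.pow_minFac (by omega)).symm
  have hcardquot : Nat.card (S ⧸ Q) = p := hQi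
  -- commutator S ≤ Q
  have hSQ : commutator S ≤ Q := by
    haveI : IsCyclic (S ⧸ Q) := isCyclic_of_prime_card hcardquot
    letI : CommGroup (S ⧸ Q) := IsCyclic.commGroup
    have := Abelianization.commutator_subset_ker (QuotientGroup.mk' Q)
    rwa [QuotientGroup.ker_mk'] at this
  -- central elements of `Q` have `p`-th power one
  have hzpow : ∀ z : ↥Q, z ∈ Subgroup.center ↥Q → z ^ p = 1 := by
    intro z hz
    have : (⟨z, hz⟩ : ↥(Subgroup.center ↥Q)) ^ p = 1 := by
      rw [← hc]; exact pow_card_eq_one'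
    exact congrArg Subtype.val this
  have hpow_cen : ∀ x : ↥Q, x ^ p ∈ Subgroup.center ↥Q := by
    intro x
    rw [Subgroup.mem_center_iff]
    intro y
    have h1 : cm (x ^ p) y = 1 := by
      rw [cm_pow_left hle x y p]
      exact hzpow _ (cm_mem_center hle x y)
    exact ((cm_eq_one_iff _ _).1 h1).symm
  refine ⟨⟨n, hn1, hcardS⟩, ?_, ?_⟩
  · -- derived length
    have hD1 : derivedSeries S 1 ≤ Q := by rw [derivedSeries_one]; exact hSQ
    have hD2 : derivedSeries S 2 ≤ (Subgroup.center ↥Q).map Q.subtype := by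
      rw [derivedSeries_succ, ← hcomm, Subgroup.map_subtype_commutator]
      exact Subgroup.commutator_mono hD1 hD1
    rw [derivedSeries_succ, eq_bot_iff]
    refine le_trans (Subgroup.commutator_mono hD2 hD2) ?_
    rw [le_bot_iff, Subgroup.commutator_eq_bot_iff_le_centralizer]
    rintro _ ⟨a, ha, rfl⟩
    rw [Subgroup.mem_centralizer_iff]
    rintro _ ⟨b, hb, rfl⟩
    have := Subgroup.mem_center_iff.1 ha b
    exact congrArg Subtype.val this
  · intro x
    have hxQ : x ^ p ∈ Q := by
      rw [← QuotientGroup.eq_one_iff, QuotientGroup.mk_pow, ← hcardquot]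
      exact pow_card_eq_one'
    have h1 := hzpow _ (hpow_cen ⟨x ^ p, hxQ⟩)
    have h2 : ((x ^ p) ^ p) ^ p = 1 := by
      have := congrArg Subtype.val h1
      simpa using this
    rw [show p ^ 3 = p * p * p by ring, pow_mul, pow_mul]
    exact h2

end Cfsg.Agent.S3809
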