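-- Statement S3810: a p-group with an extraspecial subgroup of index p has an abelian subgroup of
-- index p iff it has order p^4.
import Cfsg.Statements.S3810
import Cfsg.Agent.Lib.Helper29.Extraspecial
import Cfsg.Agent.Lib.Helper63.PGroup
import Cfsg.Agent.Lib.Helper63.AbelianTwoIndex
import Cfsg.Agent.Lib.Helper63.OrderP4

set_option autoImplicit false
open Cfsg

namespace Cfsg.Agent.S3810

open Cfsg.Agent.Lib.Helper63 Cfsg.Agent.Lib.Helper29

/-- an abelian subgroup of index `p` in a finite group `P` with `P' ≤ Z(P)` and `|Z(P)| = p`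
has order at most `p ^ 2`. -/
theorem card_le_of_abelian_index_p {P : Type*} [Group P] [Finite P] {p : ℕ} [hp : Fact p.Prime]
    (hcomm : commutator P ≤ Subgroup.center P) (hc : Nat.card (Subgroup.center P) = p)
    (B : Subgroup P) (hB : IsMulCommutative ↥B) (hBi : B.index = p) : Nat.card B ≤ p ^ 2 := by
  have hp1 : 1 < p := hp.out.one_lt
  have hBtop : B ≠ ⊤ := by
    intro h
    rw [h, Subgroup.index_top] at hBi
    omega
  obtain ⟨x, hx⟩ : ∃ x : P, x ∉ B := by
    by_contra hcon
    apply hBtop
    rw [eq_top_iff]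
    intro y _
    by_contra hy
    exact hcon ⟨y, hy⟩
  let ψ : ↥B →* Subgroup.center P := (pairHom hcomm x).comp B.subtype
  have hker : ∀ b : ↥B, b ∈ ψ.ker → (b : P) ∈ Subgroup.center P := by
    intro b hb
    rw [MonoidHom.mem_ker] at hb
    have hbx : (b : P) * x = x * (b : P) := (pairHom_eq_one_iff hcomm x (b : P)).1 hb
    -- the centralizer of b contains B and x
    set D : Subgroup P := Subgroup.centralizer ({(b : P)} : Set P) with hD
    have hBD : B ≤ D := by
      intro y hy
      rw [hD, Subgroup.mem_centralizer_iff]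
      intro z hz
      rw [Set.mem_singleton_iff] at hz
      subst hz
      have := hB.is_comm.comm b ⟨y, hy⟩
      exact congrArg Subtype.val this
    have hxD : x ∈ D := by
      rw [hD, Subgroup.mem_centralizer_iff]
      intro z hz
      rw [Set.mem_singleton_iff] at hz
      subst hz
      exact hbx
    have hDtop : D = ⊤ := by
      have h1 := Subgroup.relIndex_mul_index hBD
      rw [hBi] at h1
      have h2 : D.index ∣ p := Dvd.intro_left _ h1
      rcases (Nat.dvd_prime hp.out).1 h2 with h3 | h3
      · exact Subgroup.index_eq_one.1 h3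
      · exfalso
        rw [h3] at h1
        have h4 : B.relIndex D = 1 := by
          have : B.relIndex D * p = 1 * p := by rw [h1, one_mul]
          exact Nat.eq_of_mul_eq_mul_right (by omega) this
        rw [Subgroup.relIndex_eq_one] at h4
        exact hx (h4 hxD)
    rw [Subgroup.mem_center_iff]
    intro g
    have hg : g ∈ D := hDtop ▸ Subgroup.mem_top g
    rw [hD, Subgroup.mem_centralizer_iff] at hg
    exact (hg _ rfl).symm
  have hkercard : Nat.card ψ.ker ≤ p := by
    rw [← hc]
    refine Nat.card_le_card_of_injective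
      (fun b : ψ.ker => (⟨((b : ↥B) : P), hker b.1 b.2⟩ : Subgroup.center P)) ?_
    intro a b hab
    apply Subtype.ext
    apply Subtype.ext
    exact congrArg (fun z : Subgroup.center P => (z : P)) hab
  have hrangecard : Nat.card ψ.range ≤ p := by
    rw [← hc]
    exact Nat.card_le_card_of_injective (fun z : ψ.range => (z : Subgroup.center P))
      Subtype.val_injective
  have hmul : Nat.card ↥B = Nat.card ψ.range * Nat.card ψ.ker := by
    rw [Subgroup.card_eq_card_quotient_mul_card_subgroup ψ.ker]
    congr 1
    exact Nat.card_congr (QuotientGroup.quotientKerEquivRange ψ).toEquiv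
  rw [hmul, pow_two]
  exact Nat.mul_le_mul hrangecard hkercard

/-- Let S be a finite p-group with an extraspecial subgroup of index p. Then S has an abelian subgroup of index p if and only if S has order p⁴. -/
theorem result {S : Type*} [Group S] [Finite S] (p : ℕ) [Fact p.Prime] (hS : IsPGroup p S) (Q : Subgroup S) (hQ : Cfsg.IsExtraspecial p ↥Q) (hQi : Q.index = p) :
    (∃ A : Subgroup S, IsMulCommutative ↥A ∧ A.index = p) ↔ Nat.card S = p ^ 4 := by
  have hp : p.Prime := Fact.out
  have hp1 : 1 < p := hp.one_lt
  have hQn : Q.Normal := normal_of_index_eq_prime hS Q hQi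
  obtain ⟨n, hn1, hn⟩ := card_extraspecial hQ
  have hcommQ : commutator ↥Q ≤ Subgroup.center ↥Q := hQ.1.2.2.le
  have hcQ : Nat.card (Subgroup.center ↥Q) = p := hQ.2
  have hScard : Nat.card S = p ^ (2 * n + 1) * p := by
    rw [← Subgroup.card_mul_index Q, hn, hQi]
  -- Q is not abelian
  have hQna : ¬ IsMulCommutative ↥Q := by
    intro h
    have h1 : commutator ↥Q = ⊥ := by
      rw [commutator_def, Subgroup.commutator_eq_bot_iff_le_centralizer]
      intro a _
      rw [Subgroup.mem_centralizer_iff]
      intro b _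
      exact h.is_comm.comm b a
    rw [hQ.1.2.2] at h1
    rw [h1, Subgroup.card_bot] at hcQ
    omega
  constructor
  · rintro ⟨A, hA, hAi⟩
    have hBcomm : IsMulCommutative ↥(A.subgroupOf Q) := by
      refine ⟨⟨fun x y => ?_⟩⟩
      have := hA.is_comm.comm (⟨x.1.1, x.2⟩ : A) ⟨y.1.1, y.2⟩
      have h2 : (x.1.1 : S) * y.1.1 = y.1.1 * x.1.1 := congrArg Subtype.val this
      apply Subtype.ext
      apply Subtype.ext
      exact h2
    have hBi : (A.subgroupOf Q).index = p := by
      have hd : A.relIndex Q ∣ p := hAi ▸ relIndex_dvd_index_of_normal_right A Q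
      rcases (Nat.dvd_prime hp).1 hd with h1 | h1
      · exfalso
        apply hQna
        have htop : A.subgroupOf Q = ⊤ := Subgroup.index_eq_one.1 h1
        refine ⟨⟨fun x y => ?_⟩⟩
        have hx : x ∈ A.subgroupOf Q := htop ▸ Subgroup.mem_top x
        have hy : y ∈ A.subgroupOf Q := htop ▸ Subgroup.mem_top y
        have := hBcomm.is_comm.comm ⟨x, hx⟩ ⟨y, hy⟩
        exact congrArg Subtype.val this
      · exact h1
    have hle := card_le_of_abelian_index_p hcommQ hcQ (A.subgroupOf Q) hBcomm hBi
    have hQcard : Nat.card ↥Q = Nat.card ↥(A.subgroupOf Q) * p := by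
      rw [← Subgroup.card_mul_index (A.subgroupOf Q), hBi]
    have h3 : p ^ (2 * n + 1) ≤ p ^ 3 := by
      rw [← hn, hQcard]
      calc Nat.card ↥(A.subgroupOf Q) * p ≤ p ^ 2 * p := Nat.mul_le_mul_right _ hle
        _ = p ^ 3 := by ring
    have h4 : 2 * n + 1 ≤ 3 := (Nat.pow_le_pow_iff_right hp1).1 h3
    have hn1' : n = 1 := by omega
    rw [hScard, hn1']
    ring
  · intro hcard
    apply exists_abelian_index_p_of_card_p4 hcard
    intro htop
    apply hQna
    refine ⟨⟨fun x y => ?_⟩⟩
    apply Subtype.ext
    have hx : (x : S) ∈ Subgroup.center S := htop ▸ Subgroup.mem_top _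
    exact (Subgroup.mem_center_iff.1 hx (y : S)).symm

end Cfsg.Agent.S3810
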