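import Cfsg.Statements.S3811
import Cfsg.Agent.Lib.Helper63.SoftMain

set_option autoImplicit false
open Cfsg

namespace Cfsg.Agent.S3811

open Cfsg.Agent.Lib.Helper63.Soft

open scoped commutatorElement

theorem nz_top {P : Type*} [Group P] (K : Subgroup P) :
    nz ⊤ K = Subgroup.normalizer (K : Set P) := by
  unfold nz
  exact top_inf_eq _

theorem card_normalizer_of_index {P : Type*} [Group P] [Finite P] {p : ℕ} (K : Subgroup P)
    (h : (K.subgroupOf (Subgroup.normalizer (K : Set P))).index = p) :
    Nat.card ↥(Subgroup.normalizer (K : Set P)) = p * Nat.card ↥K := by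
  have h1 := Subgroup.card_mul_index (K.subgroupOf (Subgroup.normalizer (K : Set P)))
  have h2 : Nat.card ↥(K.subgroupOf (Subgroup.normalizer (K : Set P))) = Nat.card ↥K :=
    Nat.card_congr (Subgroup.subgroupOfEquivOfLe Subgroup.le_normalizer).toEquiv
  rw [h2, h] at h1
  rw [← h1, mul_comm]

theorem index_of_card_normalizer {P : Type*} [Group P] [Finite P] {p : ℕ} (K : Subgroup P)
    (h : Nat.card ↥(Subgroup.normalizer (K : Set P)) = p * Nat.card ↥K) :
    (K.subgroupOf (Subgroup.normalizer (K : Set P))).index = p := by
  have h1 := Subgroup.card_mul_index (K.subgroupOf (Subgroup.normalizer (K : Set P)))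
  have h2 : Nat.card ↥(K.subgroupOf (Subgroup.normalizer (K : Set P))) = Nat.card ↥K :=
    Nat.card_congr (Subgroup.subgroupOfEquivOfLe Subgroup.le_normalizer).toEquiv
  rw [h2, h] at h1
  have hpos : 0 < Nat.card ↥K := Nat.card_pos
  have : Nat.card ↥K * (K.subgroupOf (Subgroup.normalizer (K : Set P))).index =
      Nat.card ↥K * p := by rw [h1, mul_comm]
  exact Nat.eq_of_mul_eq_mul_left hpos this

/-- From `|K : Z_i(K)| = p²`, the class of `K` is `i + 1`. -/
theorem class_of_card_uz {P : Type*} [Group P] [Finite P] {p : ℕ} [hp : Fact p.Prime]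
    (K : Subgroup P) [Group.IsNilpotent ↥K] (i : ℕ)
    (h : Nat.card ↥K = p ^ 2 * Nat.card ↥(uz K i)) : Group.nilpotencyClass ↥K = i + 1 := by
  have hp2 := hp.out.two_le
  have hcuz : Nat.card ↥(uz K i) = Nat.card ↥(Subgroup.upperCentralSeries ↥K i) := by
    unfold uz
    exact Subgroup.card_map_of_injective K.subtype_injective
  rw [hcuz] at h
  have hUpos : 0 < Nat.card ↥(Subgroup.upperCentralSeries ↥K i) := Nat.card_pos
  -- lower bound
  have hne : ¬ Group.nilpotencyClass ↥K ≤ i := by
    rw [← Subgroup.upperCentralSeries_eq_top_iff_nilpotencyClass_le]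
    intro htop
    rw [htop, Subgroup.card_top] at h
    have hKpos : 0 < Nat.card ↥K := Nat.card_pos
    have h4 : 2 * 2 ≤ p * p := Nat.mul_le_mul hp2 hp2
    have h5 : 2 * 2 * Nat.card ↥K ≤ p ^ 2 * Nat.card ↥K := by
      rw [pow_two]; exact Nat.mul_le_mul_right _ h4
    omega
  -- upper bound
  have hle : Group.nilpotencyClass ↥K ≤ i + 1 := by
    rw [← Subgroup.upperCentralSeries_eq_top_iff_nilpotencyClass_le, eq_top_iff]
    intro x _
    rw [Subgroup.mem_upperCentralSeries_succ_iff]
    intro y
    have hidx : (Subgroup.upperCentralSeries ↥K i).index = p ^ 2 := by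
      have h1 := Subgroup.index_mul_card (Subgroup.upperCentralSeries ↥K i)
      rw [h] at h1
      exact Nat.eq_of_mul_eq_mul_right hUpos h1
    have hq : Nat.card (↥K ⧸ Subgroup.upperCentralSeries ↥K i) = p ^ 2 := by
      rw [← Subgroup.index_eq_card]; exact hidx
    have hcomm := (IsPGroup.isMulCommutative_of_card_eq_prime_sq hq).is_comm.comm
    have h1 : (QuotientGroup.mk (x * y * x⁻¹ * y⁻¹) : ↥K ⧸ Subgroup.upperCentralSeries ↥K i) =
        1 := by
      rw [QuotientGroup.mk_mul, QuotientGroup.mk_mul, QuotientGroup.mk_mul,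
        hcomm (QuotientGroup.mk x) (QuotientGroup.mk y), QuotientGroup.mk_inv,
        QuotientGroup.mk_inv]
      group
    rw [QuotientGroup.eq_one_iff] at h1
    rw [commutatorElement_def]
    exact h1
  omega

/-- Let P be a finite p-group and E an abelian subgroup of P that contains its centralizer, has index p in its normalizer, and has index at least p² in P. Then the subgroups of P containing E are totally ordered by inclusion, each proper one has index p in its normalizer (so they form the normalizer tower of E, with all steps of index p), and the i-th member of the tower above E has nilpotency class i + 1 whenever it is a proper subgroup of P. -/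
theorem result {P : Type*} [Group P] [Finite P] (p : ℕ) [Fact p.Prime] (hP : IsPGroup p P)
    (E : Subgroup P) (hEab : IsMulCommutative ↥E) (hC : Subgroup.centralizer (E : Set P) ≤ E)
    (hN : (E.subgroupOf (Subgroup.normalizer (E : Set P))).index = p) (hidx : p ^ 2 ≤ E.index) :
    (∀ K L : Subgroup P, E ≤ K → E ≤ L → K ≤ L ∨ L ≤ K) ∧
      (∀ K : Subgroup P, E ≤ K → K ≠ ⊤ → (K.subgroupOf (Subgroup.normalizer (K : Set P))).index = p) ∧
      ∀ (i : ℕ) (K : Subgroup P) [Group.IsNilpotent ↥K], E ≤ K → K ≠ ⊤ → K.index * p ^ i = E.index →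
        Group.nilpotencyClass ↥K = i + 1 := by
  have hp : Fact p.Prime := inferInstance
  have hp2 := hp.out.two_le
  have hppos := hp.out.pos
  have hsoft : SoftIn p (⊤ : Subgroup P) E := by
    refine ⟨le_top, ?_, ?_, ?_⟩
    · intro a ha b hb
      have := hEab.is_comm.comm (⟨a, ha⟩ : ↥E) ⟨b, hb⟩
      exact congrArg Subtype.val this
    · intro x _ hx
      apply hC
      rw [Subgroup.mem_centralizer_iff]
      intro e he
      exact (hx e he).symm
    · rw [nz_top]
      exact card_normalizer_of_index E hN
  have hEpos : 0 < Nat.card ↥E := Nat.card_pos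
  have hcardE := Subgroup.card_mul_index E
  have hsize : p ^ 2 * Nat.card ↥E ≤ Nat.card ↥(⊤ : Subgroup P) := by
    rw [Subgroup.card_top, ← hcardE, mul_comm]
    exact Nat.mul_le_mul_left _ hidx
  obtain ⟨hA, hCC⟩ := soft_main hP hsoft hsize
  refine ⟨?_, ?_, ?_⟩
  · intro K L hEK hEL
    exact chain_of_propA hP hA hEK le_top hEL le_top
  · intro K hEK hKne
    have := hA K hEK le_top hKne
    rw [nz_top] at this
    exact index_of_card_normalizer K this
  · intro i K _ hEK hKne hind
    have hcardK := Subgroup.card_mul_index K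
    have hKipos : 0 < K.index := Nat.pos_of_ne_zero (Subgroup.index_ne_zero_of_finite)
    have hcard : Nat.card ↥K = p ^ i * Nat.card ↥E := by
      have : Nat.card ↥K * K.index = p ^ i * Nat.card ↥E * K.index := by
        rw [hcardK, ← hcardE, ← hind]; ring
      exact Nat.eq_of_mul_eq_mul_right hKipos this
    rcases Nat.eq_zero_or_pos i with hi0 | hipos
    · subst hi0
      rw [pow_zero, one_mul] at hcard
      have hEK' : E = K := eq_of_le_card hEK (le_of_eq hcard)
      have hKab : IsMulCommutative ↥K := hEK' ▸ hEab
      have h1 : Group.nilpotencyClass ↥K ≤ 1 :=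
        Group.IsNilpotent.nilpotencyClass_le_one_iff.2 hKab
      have h0 : Group.nilpotencyClass ↥K ≠ 0 := by
        intro h0
        rw [Group.nilpotencyClass_zero_iff_subsingleton] at h0
        have hKbot : K = ⊥ := by
          rw [Subgroup.eq_bot_iff_forall]
          intro x hx
          have := Subsingleton.elim (⟨x, hx⟩ : ↥K) 1
          exact congrArg Subtype.val this
        have hEbot : E = ⊥ := hEK'.trans hKbot
        have htop : (⊤ : Subgroup P) ≤ E := by
          refine le_trans ?_ hC
          intro x _
          rw [Subgroup.mem_centralizer_iff]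
          intro e he
          rw [hEbot, SetLike.mem_coe, Subgroup.mem_bot] at he
          rw [he]; simp
        have hEtop : E = ⊤ := top_le_iff.1 htop
        rw [hEtop, Subgroup.index_top] at hidx
        have h4 : 2 * 2 ≤ p * p := Nat.mul_le_mul hp2 hp2
        rw [pow_two] at hidx
        omega
      omega
    · have := (hCC i K hipos hEK le_top hKne hcard).1
      exact class_of_card_uz K i this

end Cfsg.Agent.S3811
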