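import Cfsg.Statements.S3815

set_option autoImplicit false
open Cfsg

namespace Cfsg.Agent.S3815

theorem result {G : Type*} [Group G] [Finite G] {p : ℕ} [Fact p.Prime]
    (d : G) (hd : (orderOf d).Coprime p)
    (h : ∀ g : G, (orderOf g).Coprime p → (orderOf (d * g)).Coprime p) :
    d ∈ Cfsg.pPrimeCore p G := by
  classical
  let M : Submonoid G :=
    { carrier := {x | (orderOf x).Coprime p ∧ ∀ g : G, (orderOf g).Coprime p → (orderOf (x * g)).Coprime p}
      one_mem' := by
        refine ⟨by simp, ?_⟩
        intro g hg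
        simpa using hg
      mul_mem' := by
        rintro a b ⟨ha1, ha2⟩ ⟨hb1, hb2⟩
        refine ⟨ha2 b hb1, ?_⟩
        intro g hg
        rw [mul_assoc]
        exact ha2 _ (hb2 g hg) }
  let X : Subgroup G :=
    { M with
      inv_mem' := by
        intro a ha
        have : a⁻¹ = a ^ (orderOf a - 1) := by
          have hpos : 0 < orderOf a := orderOf_pos a
          rw [inv_eq_iff_mul_eq_one, ← pow_succ']
          rw [Nat.sub_add_cancel hpos, pow_orderOf_eq_one]
        rw [this]
        exact M.pow_mem ha _ }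
  have hXmem : ∀ x, x ∈ X ↔ ((orderOf x).Coprime p ∧ ∀ g : G, (orderOf g).Coprime p → (orderOf (x * g)).Coprime p) := by
    intro x; rfl
  have hXn : X.Normal := by
    constructor
    intro n hn g
    rw [hXmem] at hn ⊢
    obtain ⟨hn1, hn2⟩ := hn
    refine ⟨?_, ?_⟩
    · have : orderOf (g * n * g⁻¹) = orderOf n := by
        simpa using orderOf_injective (MulAut.conj g).toMonoidHom (MulAut.conj g).injective n
      rw [this]; exact hn1
    · intro k hk
      have e1 : g * n * g⁻¹ * k = g * (n * (g⁻¹ * k * g)) * g⁻¹ := by group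
      have e2 : orderOf (g * (n * (g⁻¹ * k * g)) * g⁻¹) = orderOf (n * (g⁻¹ * k * g)) := by
        simpa using orderOf_injective (MulAut.conj g).toMonoidHom (MulAut.conj g).injective (n * (g⁻¹ * k * g))
      rw [e1, e2]
      apply hn2
      have : orderOf (g⁻¹ * k * g) = orderOf k := by
        simpa using orderOf_injective (MulAut.conj g⁻¹).toMonoidHom (MulAut.conj g⁻¹).injective k
      rw [this]; exact hk
  have hXc : (Nat.card X).Coprime p := by
    rw [Nat.coprime_comm, Nat.Prime.coprime_iff_not_dvd (Fact.out)]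
    intro hdvd
    obtain ⟨x, hx⟩ := exists_prime_orderOf_dvd_card' (G := X) p hdvd
    have hx2 : orderOf (x : G) = p := by
      rw [← hx]; exact Subgroup.orderOf_coe x
    have := ((hXmem x).1 x.2).1
    rw [hx2] at this
    exact (Nat.Prime.one_lt (Fact.out : p.Prime)).ne' (by simpa using this)
  have hdX : d ∈ X := (hXmem d).2 ⟨hd, h⟩
  exact (le_sSup (show X ∈ {N : Subgroup G | N.Normal ∧ (Nat.card N).Coprime p} from ⟨hXn, hXc⟩)) hdX

end Cfsg.Agent.S3815
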