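import Cfsg.Statements.S3820

set_option autoImplicit false
open Cfsg

namespace Cfsg.Agent.S3820

variable {G : Type*} [Group G]

theorem mem_cj {H : Subgroup G} {g y : G} :
    y ∈ H.map (MulAut.conj g).toMonoidHom ↔ g⁻¹ * y * g ∈ H := by
  constructor
  · rintro ⟨h, hh, rfl⟩
    simpa [MulAut.conj_apply, mul_assoc] using hh
  · intro hy
    refine ⟨g⁻¹ * y * g, hy, ?_⟩
    simp [MulAut.conj_apply, mul_assoc]

theorem cj_mul (H : Subgroup G) (a b : G) :
    H.map (MulAut.conj (a * b)).toMonoidHom =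
      (H.map (MulAut.conj b).toMonoidHom).map (MulAut.conj a).toMonoidHom := by
  ext y
  simp only [mem_cj]
  constructor <;> intro h <;> convert h using 1 <;> group

theorem cj_one (H : Subgroup G) : H.map (MulAut.conj (1 : G)).toMonoidHom = H := by
  ext y
  simp [mem_cj]

theorem cj_mono {H K : Subgroup G} (g : G) (h : H ≤ K) :
    H.map (MulAut.conj g).toMonoidHom ≤ K.map (MulAut.conj g).toMonoidHom :=
  Subgroup.map_mono h

theorem cj_le_of_mem {K : Subgroup G} {g : G} (hg : g ∈ K) :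
    K.map (MulAut.conj g).toMonoidHom ≤ K := by
  intro y hy
  rw [mem_cj] at hy
  have : y = g * (g⁻¹ * y * g) * g⁻¹ := by group
  rw [this]
  exact K.mul_mem (K.mul_mem hg hy) (K.inv_mem hg)

theorem result {G : Type*} [Group G] [Finite G] (S H : Subgroup G) (hSH : S ≤ H)
    (hS : Cfsg.IsPronormal S) :
    Cfsg.IsPronormal H ↔
      ∀ g ∈ Subgroup.normalizer (S : Set G), ∃ w ∈ H ⊔ H.map (MulAut.conj g).toMonoidHom,
        H.map (MulAut.conj g).toMonoidHom = H.map (MulAut.conj w).toMonoidHom := by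
  constructor
  · intro hH g _
    exact hH g
  · intro hN g
    obtain ⟨x, hx, hSx⟩ := hS g
    -- n = x⁻¹ g normalizes S
    have hn : x⁻¹ * g ∈ Subgroup.normalizer (S : Set G) := by
      rw [Subgroup.mem_normalizer_iff_map_conj_eq]
      have := cj_mul S x⁻¹ g
      have h2 : S.map (MulAut.conj (x⁻¹ * g)).toMonoidHom = S := by
        rw [this, hSx, ← cj_mul, inv_mul_cancel, cj_one]
      exact h2
    obtain ⟨w, hw, hHw⟩ := hN _ hn
    set J := H ⊔ H.map (MulAut.conj g).toMonoidHom with hJ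
    have hxJ : x ∈ J := by
      refine (sup_le_sup hSH (cj_mono g hSH)) hx
    have hle : H.map (MulAut.conj (x⁻¹ * g)).toMonoidHom ≤ J := by
      rw [cj_mul]
      refine le_trans (cj_mono x⁻¹ (le_sup_right : _ ≤ J)) ?_
      exact cj_le_of_mem (J.inv_mem hxJ)
    have hwJ : w ∈ J := (sup_le le_sup_left hle) hw
    refine ⟨x * w, J.mul_mem hxJ hwJ, ?_⟩
    rw [cj_mul H x w, ← hHw, ← cj_mul, mul_inv_cancel_left]

end Cfsg.Agent.S3820
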