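import Cfsg.Statements.S3821

set_option autoImplicit false
open Cfsg

namespace Cfsg.Agent.S3821

variable {G : Type*} [Group G]

theorem mem_cj {H : Subgroup G} {g y : G} :
    y ∈ H.map (MulAut.conj g).toMonoidHom ↔ g⁻¹ * y * g ∈ H := by
  constructor
  · rintro ⟨h, hh, rfl⟩
    simpa [MulAut.conj_apply, mul_assoc] using hh
  · intro hy
    refine ⟨g⁻¹ * y * g, hy, ?_⟩
    simp [MulAut.conj_apply, mul_assoc]

theorem cj_mul (H : Subgroup G) (a b : G) :
    H.map (MulAut.conj (a * b)).toMonoidHom =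
      (H.map (MulAut.conj b).toMonoidHom).map (MulAut.conj a).toMonoidHom := by
  ext y
  simp only [mem_cj]
  constructor <;> intro h <;> convert h using 1 <;> group

theorem cj_one (H : Subgroup G) : H.map (MulAut.conj (1 : G)).toMonoidHom = H := by
  ext y
  simp [mem_cj]

theorem cj_le_of_mem {K : Subgroup G} {g : G} (hg : g ∈ K) :
    K.map (MulAut.conj g).toMonoidHom ≤ K := by
  intro y hy
  rw [mem_cj] at hy
  have : y = g * (g⁻¹ * y * g) * g⁻¹ := by group
  rw [this]
  exact K.mul_mem (K.mul_mem hg hy) (K.inv_mem hg)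

theorem cj_le_normal (A : Subgroup G) [A.Normal] {H : Subgroup G} (h : H ≤ A) (g : G) :
    H.map (MulAut.conj g).toMonoidHom ≤ A := by
  intro y hy
  rw [mem_cj] at hy
  have h1 := h hy
  have : y = g * (g⁻¹ * y * g) * g⁻¹ := by group
  rw [this]
  exact Subgroup.Normal.conj_mem inferInstance _ h1 g

theorem map_subtype_cj (A : Subgroup G) (K : Subgroup A) (a : A) :
    (K.map (MulAut.conj a).toMonoidHom).map A.subtype =
      (K.map A.subtype).map (MulAut.conj (a : G)).toMonoidHom := by
  rw [Subgroup.map_map, Subgroup.map_map]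
  congr 1

theorem mem_normalizer_iff_cj {H : Subgroup G} {g : G} :
    g ∈ Subgroup.normalizer (H : Set G) ↔ H.map (MulAut.conj g).toMonoidHom = H :=
  Subgroup.mem_normalizer_iff_map_conj_eq

theorem pron_sub_iff (A H : Subgroup G) (hHA : H ≤ A) :
    IsPronormal (H.subgroupOf A) ↔
      ∀ a ∈ A, ∃ x ∈ H ⊔ H.map (MulAut.conj a).toMonoidHom,
        H.map (MulAut.conj a).toMonoidHom = H.map (MulAut.conj x).toMonoidHom := by
  have hmap : (H.subgroupOf A).map A.subtype = H := Subgroup.map_subgroupOf_eq_of_le hHA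
  constructor
  · intro hp a ha
    obtain ⟨x, hx, hxe⟩ := hp ⟨a, ha⟩
    refine ⟨(x : G), ?_, ?_⟩
    · have := Subgroup.mem_map_of_mem A.subtype hx
      rw [Subgroup.map_sup, map_subtype_cj, hmap] at this
      exact this
    · have := congrArg (Subgroup.map A.subtype) hxe
      rw [map_subtype_cj, map_subtype_cj, hmap] at this
      exact this
  · intro hp a
    obtain ⟨x, hx, hxe⟩ := hp a a.2
    have hle : H ⊔ H.map (MulAut.conj (a : G)).toMonoidHom ≤ A := by
      refine sup_le hHA ?_
      exact le_trans (Subgroup.map_mono hHA) (cj_le_of_mem a.2)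
    have hxA : x ∈ A := hle hx
    refine ⟨⟨x, hxA⟩, ?_, ?_⟩
    · have h1 : ((⟨x, hxA⟩ : A) : G) ∈ ((H.subgroupOf A) ⊔
          (H.subgroupOf A).map (MulAut.conj a).toMonoidHom).map A.subtype := by
        rw [Subgroup.map_sup, map_subtype_cj, hmap]
        exact hx
      obtain ⟨y, hy, hyx⟩ := h1
      have : y = ⟨x, hxA⟩ := Subtype.ext hyx
      rw [← this]; exact hy
    · apply Subgroup.map_injective A.subtype_injective
      rw [map_subtype_cj, map_subtype_cj, hmap]
      exact hxe

theorem result {G : Type*} [Group G] [Finite G] (A H : Subgroup G) [A.Normal] (hHA : H ≤ A) :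
    Cfsg.IsPronormal H ↔ (Cfsg.IsPronormal (H.subgroupOf A) ∧ A ⊔ Subgroup.normalizer (H : Set G) = ⊤) := by
  rw [pron_sub_iff A H hHA]
  constructor
  · intro hp
    refine ⟨fun a _ => hp a, ?_⟩
    rw [eq_top_iff]
    intro g _
    obtain ⟨x, hx, hxe⟩ := hp g
    have hle : H ⊔ H.map (MulAut.conj g).toMonoidHom ≤ A :=
      sup_le hHA (cj_le_normal A hHA g)
    have hxA : x ∈ A := hle hx
    have hn : x⁻¹ * g ∈ Subgroup.normalizer (H : Set G) := by
      rw [mem_normalizer_iff_cj, cj_mul, hxe, ← cj_mul, inv_mul_cancel, cj_one]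
    have : g = x * (x⁻¹ * g) := by group
    rw [this]
    exact Subgroup.mul_mem_sup hxA hn
  · rintro ⟨hp, htop⟩ g
    have hg : g ∈ A ⊔ Subgroup.normalizer (H : Set G) := by rw [htop]; trivial
    rw [← SetLike.mem_coe, Subgroup.normal_mul] at hg
    obtain ⟨a, ha, n, hn, rfl⟩ := hg
    have hn' : H.map (MulAut.conj n).toMonoidHom = H := mem_normalizer_iff_cj.1 hn
    have e : H.map (MulAut.conj (a * n)).toMonoidHom = H.map (MulAut.conj a).toMonoidHom := by
      rw [cj_mul, hn']
    rw [e]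
    exact hp a ha

end Cfsg.Agent.S3821
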