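-- Statement S3824: a finite group with an abelian subgroup of 2-power index is solvable.
-- Reduction (minimal counterexample) to Burnside's class-size theorem, statement S0143.
import Cfsg.Statements.S3824
import Cfsg.Agent.S0143
import Cfsg.Agent.Lib.Helper63.AbelianTwoIndex

set_option autoImplicit false
open Cfsg

namespace Cfsg.Agent.S3824

/-- Every finite group having an abelian subgroup whose index is a power of 2 is solvable. -/
theorem result {G : Type*} [Group G] [Finite G]
    (A : Subgroup G) (hA : IsMulCommutative A) (hidx : ∃ k : ℕ, A.index = 2 ^ k) : Group.IsSolvable G :=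
  Cfsg.Agent.Lib.Helper63.solvable_of_abelian_two_power_index
    (fun _ _ _ _ p k hp g hg hclass => Cfsg.Agent.S0143.result p k hp g hg hclass) A hA hidx

end Cfsg.Agent.S3824
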