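import Cfsg.Statements.S3825

set_option autoImplicit false
open Cfsg

namespace Cfsg.Agent.S3825

/-- A finite group with a fixed-point-free involutory endomorphism is abelian of odd order. -/
theorem fpf_invol {Q : Type*} [Group Q] [Finite Q] (τ : Q →* Q) (h2 : ∀ x, τ (τ x) = x)
    (hf : ∀ x, τ x = x → x = 1) :
    (∀ a b : Q, a * b = b * a) ∧ ¬ 2 ∣ Nat.card Q := by
  classical
  have hinj : Function.Injective (fun x : Q => x⁻¹ * τ x) := by
    intro x z hxz
    have hxz' : x⁻¹ * τ x = z⁻¹ * τ z := hxz
    have h1 : τ (z * x⁻¹) = z * x⁻¹ := by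
      rw [map_mul, map_inv]
      have : τ x = x * (z⁻¹ * τ z) := by rw [← hxz']; group
      rw [this]; group
    have h3 := hf _ h1
    have : z = x := by
      have := mul_inv_eq_one.1 h3
      exact this
    exact this.symm
  have hsurj : Function.Surjective (fun x : Q => x⁻¹ * τ x) := Finite.surjective_of_injective hinj
  have hinv : ∀ z : Q, τ z = z⁻¹ := by
    intro z
    obtain ⟨x, rfl⟩ := hsurj z
    show τ (x⁻¹ * τ x) = (x⁻¹ * τ x)⁻¹
    rw [map_mul, map_inv, h2]; group
  refine ⟨?_, ?_⟩
  · intro a b
    have h := hinv (a * b)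
    rw [map_mul, hinv a, hinv b] at h
    have : (a * b)⁻¹ = b⁻¹ * a⁻¹ := mul_inv_rev a b
    rw [this] at h
    have h' : (a⁻¹ * b⁻¹)⁻¹ = (b⁻¹ * a⁻¹)⁻¹ := by rw [h]
    simpa using h'.symm
  · intro hdvd
    obtain ⟨x, hx⟩ := exists_prime_orderOf_dvd_card' (G := Q) 2 hdvd
    have hx2 : x ^ 2 = 1 := by rw [← hx]; exact pow_orderOf_eq_one x
    have : τ x = x := by
      rw [hinv x]
      rw [inv_eq_iff_mul_eq_one, ← pow_two]; exact hx2
    have hx1 := hf x this
    rw [hx1, orderOf_one] at hx
    exact absurd hx (by norm_num)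

theorem result {H : Type*} [Group H] [Finite H] (U : Subgroup H) (w : H) (hw : orderOf w = 2)
    (hwU : w ∈ Subgroup.normalizer (U : Set H)) (y : H) (hy : y ≠ 1) (hyU : y ∈ U)
    (hfix : ∀ u ∈ U, w * u * w⁻¹ = u ↔ (u = 1 ∨ u = y))
    (V : Subgroup H) (hVU : V ≤ U) (hVn : (V.subgroupOf U).Normal) (hVw : ∀ v ∈ V, w * v * w⁻¹ ∈ V)
    (hVe : Cfsg.IsElementaryAbelian 2 V) (hVc : ¬ IsCyclic ↥V) (hyV : y ∈ V) :
    ¬ 2 ∣ V.relIndex U ∧ Nat.card ↥V = 4 ∧ ⁅U, U⁆ ≤ V := by
  classical
  -- basic facts about w
  have hw2 : w * w = 1 := by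
    have := pow_orderOf_eq_one w
    rw [hw, pow_two] at this; exact this
  have hwinv : w⁻¹ = w := inv_eq_of_mul_eq_one_left hw2
  -- conjugation
  set c : H → H := fun x => w * x * w⁻¹ with hc
  have hcc : ∀ x, c (c x) = x := by
    intro x
    show w * (w * x * w⁻¹) * w⁻¹ = x
    rw [hwinv]
    calc w * (w * x * w) * w = (w * w) * x * (w * w) := by group
      _ = x := by rw [hw2]; group
  have hcmul : ∀ a b, c (a * b) = c a * c b := by
    intro a b
    show w * (a * b) * w⁻¹ = (w * a * w⁻¹) * (w * b * w⁻¹)
    group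
  have hcU : ∀ u ∈ U, c u ∈ U := by
    intro u hu
    exact (Subgroup.mem_normalizer_iff.1 hwU u).1 hu
  -- facts about V
  haveI : IsMulCommutative ↥V := hVe.1
  have hVcomm : ∀ a ∈ V, ∀ b ∈ V, a * b = b * a := fun a ha b hb => setLike_mul_comm ha hb
  have hVsq : ∀ v ∈ V, v * v = 1 := by
    intro v hv
    have := hVe.2 v hv
    rwa [pow_two] at this
  have hVinv : ∀ v ∈ V, v⁻¹ = v := fun v hv => inv_eq_of_mul_eq_one_left (hVsq v hv)
  have hfixV : ∀ v ∈ V, c v = v → v = 1 ∨ v = y := fun v hv h => (hfix v (hVU hv)).1 h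
  have hphi : ∀ v ∈ V, v * c v = 1 ∨ v * c v = y := by
    intro v hv
    apply hfixV _ (V.mul_mem hv (hVw v hv))
    rw [hcmul, hcc]
    exact hVcomm _ (hVw v hv) _ hv
  have hker : ∀ v ∈ V, v * c v = 1 → v = 1 ∨ v = y := by
    intro v hv h
    apply hfixV v hv
    have : c v = v⁻¹ := (inv_eq_of_mul_eq_one_right h).symm
    rw [this, hVinv v hv]
  -- an element outside {1, y}
  obtain ⟨a, haV, ha1, hay⟩ : ∃ a ∈ V, a ≠ 1 ∧ a ≠ y := by
    by_contra hcon
    apply hVc
    refine ⟨⟨⟨y, hyV⟩, ?_⟩⟩
    intro x
    have hx : (x : H) = 1 ∨ (x : H) = y := by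
      by_contra hx
      apply hcon
      refine ⟨x, x.2, ?_, ?_⟩
      · intro h; exact hx (Or.inl h)
      · intro h; exact hx (Or.inr h)
    rcases hx with hx | hx
    · exact ⟨0, by apply Subtype.ext; simp [hx]⟩
    · exact ⟨1, by apply Subtype.ext; simp [hx]⟩
  have hca : c a = a * y := by
    rcases hphi a haV with h | h
    · rcases hker a haV h with h' | h'
      · exact absurd h' ha1
      · exact absurd h' hay
    · have : c a = a⁻¹ * y := by rw [← h]; group
      rw [this, hVinv a haV]
  have hcy : c y = y := (hfix y hyU).2 (Or.inr rfl)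
  have hVsub : ∀ v ∈ V, v = 1 ∨ v = y ∨ v = a ∨ v = a * y := by
    intro v hv
    rcases hphi v hv with h | h
    · rcases hker v hv h with h' | h'
      · exact Or.inl h'
      · exact Or.inr (Or.inl h')
    · have hcv : c v = v * y := by
        have : c v = v⁻¹ * y := by rw [← h]; group
        rw [this, hVinv v hv]
      have hva : c (v * a) = v * a := by
        rw [hcmul, hcv, hca]
        calc v * y * (a * y) = v * (y * a) * y := by group
          _ = v * (a * y) * y := by rw [hVcomm y hyV a haV]
          _ = v * a * (y * y) := by group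
          _ = v * a := by rw [hVsq y hyV, mul_one]
      rcases hfixV _ (V.mul_mem hv haV) hva with h' | h'
      · right; right; left
        have : v = a⁻¹ := eq_inv_of_mul_eq_one_left h'
        rw [this, hVinv a haV]
      · right; right; right
        have : v = y * a⁻¹ := by rw [← h']; group
        rw [this, hVinv a haV, hVcomm y hyV a haV]
  have hayV : a * y ∈ V := V.mul_mem haV hyV
  have hset : (V : Set H) = {1, y, a, a * y} := by
    ext v
    simp only [SetLike.mem_coe, Set.mem_insert_iff, Set.mem_singleton_iff]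
    constructor
    · exact hVsub v
    · rintro (h | h | h | h) <;> rw [h]
      · exact V.one_mem
      · exact hyV
      · exact haV
      · exact hayV
  have hcard : Nat.card ↥V = 4 := by
    have h1 : Nat.card ↥V = (V : Set H).ncard := rfl
    rw [h1, hset]
    have e1 : a ≠ a * y := by
      intro h; apply hy
      have : a * 1 = a * y := by rw [mul_one]; exact h
      exact (mul_left_cancel this).symm
    have e2 : y ∉ ({a, a * y} : Set H) := by
      simp only [Set.mem_insert_iff, Set.mem_singleton_iff, not_or]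
      refine ⟨fun h => hay h.symm, ?_⟩
      intro h; apply ha1
      have : 1 * y = a * y := by rw [one_mul]; exact h
      exact (mul_right_cancel this).symm
    have e3 : (1 : H) ∉ ({y, a, a * y} : Set H) := by
      simp only [Set.mem_insert_iff, Set.mem_singleton_iff, not_or]
      refine ⟨fun h => hy h.symm, fun h => ha1 h.symm, ?_⟩
      intro h; apply hay
      have : a = y⁻¹ := eq_inv_of_mul_eq_one_left h.symm
      rw [this, hVinv y hyV]
    rw [Set.ncard_insert_of_notMem e3, Set.ncard_insert_of_notMem e2, Set.ncard_pair e1]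
  -- the quotient
  haveI := hVn
  let σ : ↥U →* ↥U :=
    { toFun := fun u => ⟨c u, hcU u u.2⟩
      map_one' := by
        apply Subtype.ext
        show w * (1 : H) * w⁻¹ = 1
        group
      map_mul' := by
        intro u v
        apply Subtype.ext
        exact hcmul u v }
  have hσV : V.subgroupOf U ≤ (V.subgroupOf U).comap σ := by
    intro u hu
    rw [Subgroup.mem_comap, Subgroup.mem_subgroupOf]
    rw [Subgroup.mem_subgroupOf] at hu
    exact hVw _ hu
  let τ := QuotientGroup.map (V.subgroupOf U) (V.subgroupOf U) σ hσV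
  have hτ2 : ∀ q, τ (τ q) = q := by
    intro q
    induction q using QuotientGroup.induction_on with
    | H u =>
      show τ (τ (QuotientGroup.mk u)) = QuotientGroup.mk u
      rw [QuotientGroup.map_mk, QuotientGroup.map_mk]
      congr 1
      apply Subtype.ext
      exact hcc u
  have hτf : ∀ q, τ q = q → q = 1 := by
    intro q
    induction q using QuotientGroup.induction_on with
    | H u =>
      intro h
      have h' : (QuotientGroup.mk (σ u) : ↥U ⧸ V.subgroupOf U) = QuotientGroup.mk u := h
      rw [QuotientGroup.eq] at h'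
      rw [Subgroup.mem_subgroupOf] at h'
      -- v := (c u)⁻¹ * u ∈ V
      have hv : (c (u : H))⁻¹ * (u : H) ∈ V := h'
      set v := (c (u : H))⁻¹ * (u : H) with hvdef
      have hu_eq : (u : H) = c (u : H) * v := by rw [hvdef]; group
      -- apply c
      have h3 : c (u : H) = (u : H) * c v := by
        have := congrArg c hu_eq
        rw [hcmul, hcc] at this
        exact this
      have h4 : v * c v = 1 := by
        have : (u : H) = (u : H) * c v * v := by
          calc (u : H) = c (u : H) * v := hu_eq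
            _ = (u : H) * c v * v := by rw [h3]
        have h5 : c v * v = 1 := by
          have : (u : H) * 1 = (u : H) * (c v * v) := by rw [mul_one, ← mul_assoc]; exact this
          exact (mul_left_cancel this).symm
        rw [hVcomm v hv (c v) (hVw v hv)]; exact h5
      have huV : (u : H) ∈ V := by
        rcases hker v hv h4 with hv1 | hvy
        · -- c u = u
          have hcu : c (u : H) = u := by rw [h3, hv1]; show (u : H) * (w * 1 * w⁻¹) = u; group
          rcases (hfix u u.2).1 hcu with h6 | h6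
          · rw [h6]; exact V.one_mem
          · rw [h6]; exact hyV
        · have hcu : c (u : H) = (u : H) * y := by rw [h3, hvy, hcy]
          have hua : c ((u : H) * a) = (u : H) * a := by
            rw [hcmul, hcu, hca]
            calc (u : H) * y * (a * y) = (u : H) * (y * a) * y := by group
              _ = (u : H) * (a * y) * y := by rw [hVcomm y hyV a haV]
              _ = (u : H) * a * (y * y) := by group
              _ = (u : H) * a := by rw [hVsq y hyV, mul_one]
          rcases (hfix _ (U.mul_mem u.2 (hVU haV))).1 hua with h6 | h6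
          · have : (u : H) = a⁻¹ := eq_inv_of_mul_eq_one_left h6
            rw [this]; exact V.inv_mem haV
          · have : (u : H) = y * a⁻¹ := by rw [← h6]; group
            rw [this]; exact V.mul_mem hyV (V.inv_mem haV)
      show (QuotientGroup.mk u : ↥U ⧸ V.subgroupOf U) = 1
      rw [QuotientGroup.eq_one_iff, Subgroup.mem_subgroupOf]
      exact huV
  obtain ⟨hcomm, hodd⟩ := fpf_invol τ hτ2 hτf
  refine ⟨?_, hcard, ?_⟩
  · have : V.relIndex U = Nat.card (↥U ⧸ V.subgroupOf U) := rfl
    rw [this]; exact hodd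
  · rw [Subgroup.commutator_le]
    intro g₁ hg₁ g₂ hg₂
    have h := hcomm (QuotientGroup.mk (⟨g₁, hg₁⟩ : ↥U)) (QuotientGroup.mk (⟨g₂, hg₂⟩ : ↥U))
    set u₁ : ↥U := ⟨g₁, hg₁⟩ with hu₁
    set u₂ : ↥U := ⟨g₂, hg₂⟩ with hu₂
    have h1 : (QuotientGroup.mk (u₁ * u₂ * u₁⁻¹ * u₂⁻¹) : ↥U ⧸ V.subgroupOf U) = 1 := by
      simp only [QuotientGroup.mk_mul, QuotientGroup.mk_inv]
      rw [h]; group
    rw [QuotientGroup.eq_one_iff, Subgroup.mem_subgroupOf] at h1
    rw [commutatorElement_def]
    exact h1

end Cfsg.Agent.S3825
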