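import Cfsg.Statements.S3835
import Cfsg.Agent.S2231
import Cfsg.Agent.Lib.Helper63.PermPSub

set_option autoImplicit false
open Cfsg

namespace Cfsg.Agent.S3835

open Cfsg.Agent.S2231 Cfsg.Agent.Lib.Helper63

/-- matrices in `SL₃` whose last row is `(0,0,1)` -/
def affSub (p : ℕ) : Subgroup (Matrix.SpecialLinearGroup (Fin 3) (ZMod p)) where
  carrier := {M | Matrix.vecMul (Pi.single 2 1) M.1 = Pi.single 2 1}
  mul_mem' {a b} ha hb := by
    show Matrix.vecMul (Pi.single 2 1) (a * b).1 = Pi.single 2 1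
    rw [Matrix.SpecialLinearGroup.coe_mul, ← Matrix.vecMul_vecMul, ha, hb]
  one_mem' := by
    show Matrix.vecMul (Pi.single 2 1) (1 : Matrix.SpecialLinearGroup (Fin 3) (ZMod p)).1
      = Pi.single 2 1
    rw [Matrix.SpecialLinearGroup.coe_one, Matrix.vecMul_one]
  inv_mem' {a} ha := by
    show Matrix.vecMul (Pi.single 2 1) (a⁻¹).1 = Pi.single 2 1
    have h1 : a.1 * (a⁻¹).1 = 1 := by
      rw [← Matrix.SpecialLinearGroup.coe_mul, mul_inv_cancel, Matrix.SpecialLinearGroup.coe_one]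
    calc Matrix.vecMul (Pi.single 2 1) (a⁻¹).1
        = Matrix.vecMul (Matrix.vecMul (Pi.single 2 1) a.1) (a⁻¹).1 := by rw [ha]
      _ = Pi.single 2 1 := by rw [Matrix.vecMul_vecMul, h1, Matrix.vecMul_one]

theorem mem_affSub_iff {p : ℕ} (M : Matrix.SpecialLinearGroup (Fin 3) (ZMod p)) :
    M ∈ affSub p ↔ M.1 2 0 = 0 ∧ M.1 2 1 = 0 ∧ M.1 2 2 = 1 := by
  show Matrix.vecMul (Pi.single 2 1) M.1 = Pi.single 2 1 ↔ _
  constructor
  · intro h
    have h0 := congrFun h 0
    have h1 := congrFun h 1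
    have h2 := congrFun h 2
    simp [Matrix.vecMul, dotProduct, Fin.sum_univ_three] at h0 h1 h2
    exact ⟨h0, h1, h2⟩
  · rintro ⟨h0, h1, h2⟩
    funext j
    fin_cases j <;> simp [Matrix.vecMul, dotProduct, Fin.sum_univ_three, *]

theorem qd_le_affSub (p : ℕ) : Cfsg.qd p ≤ affSub p := by
  apply (Subgroup.closure_le _).2
  intro M hM
  exact (mem_affSub_iff M).2 hM

/-- the affine plane -/
def AffPlane (p : ℕ) : Type := {w : Fin 3 → ZMod p // w 2 = 1}

theorem mulVec_last {p : ℕ} (M : affSub p) (w : Fin 3 → ZMod p) :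
    (M.1.1.mulVec w) 2 = w 2 := by
  have h := M.2
  have : (Pi.single 2 1 : Fin 3 → ZMod p) ⬝ᵥ (M.1.1.mulVec w) = (Pi.single 2 1 : Fin 3 → ZMod p) ⬝ᵥ w := by
    rw [Matrix.dotProduct_mulVec]
    congr 1
  simpa using this

instance (p : ℕ) : MulAction (affSub p) (AffPlane p) where
  smul M w := ⟨M.1.1.mulVec w.1, (mulVec_last M w.1).trans w.2⟩
  one_smul w := by
    apply Subtype.ext
    show (1 : affSub p).1.1.mulVec w.1 = w.1
    simp
  mul_smul M N w := by
    apply Subtype.ext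
    show (M * N).1.1.mulVec w.1 = M.1.1.mulVec (N.1.1.mulVec w.1)
    rw [Matrix.mulVec_mulVec]
    simp

theorem smul_val {p : ℕ} (M : affSub p) (w : AffPlane p) : (M • w).1 = M.1.1.mulVec w.1 := rfl

theorem eq_one_of_smul {p : ℕ} (M : affSub p) (h : ∀ w : AffPlane p, M • w = w) : M = 1 := by
  have h0 : M.1.1.mulVec ![0, 0, 1] = ![0, 0, 1] := congrArg Subtype.val (h ⟨![0, 0, 1], rfl⟩)
  have h1 : M.1.1.mulVec ![1, 0, 1] = ![1, 0, 1] := congrArg Subtype.val (h ⟨![1, 0, 1], rfl⟩)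
  have h2 : M.1.1.mulVec ![0, 1, 1] = ![0, 1, 1] := congrArg Subtype.val (h ⟨![0, 1, 1], rfl⟩)
  apply Subtype.ext
  apply Subtype.ext
  show M.1.1 = (1 : Matrix.SpecialLinearGroup (Fin 3) (ZMod p)).1
  rw [Matrix.SpecialLinearGroup.coe_one]
  have a0 := congrFun h0 0
  have a1 := congrFun h0 1
  have a2 := congrFun h0 2
  have b0 := congrFun h1 0
  have b1 := congrFun h1 1
  have b2 := congrFun h1 2
  have c0 := congrFun h2 0
  have c1 := congrFun h2 1
  have c2 := congrFun h2 2
  simp [Matrix.mulVec, dotProduct, Fin.sum_univ_three] at a0 a1 a2 b0 b1 b2 c0 c1 c2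
  ext i j
  fin_cases i <;> fin_cases j <;> simp [*] at * <;> simp [*]


theorem transvection_mem {p : ℕ} {i j : Fin 3} (hij : i ≠ j) (hi : i ≠ 2) (c : ZMod p) :
    Matrix.SpecialLinearGroup.transvection hij c ∈ affSub p := by
  rw [mem_affSub_iff]
  simp only [Matrix.SpecialLinearGroup.transvection, Matrix.transvection]
  fin_cases i <;> fin_cases j <;> simp_all [Matrix.single]

/-- transvections as elements of `affSub` -/
def tv {p : ℕ} {i j : Fin 3} (hij : i ≠ j) (hi : i ≠ 2) (c : ZMod p) : affSub p :=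
  ⟨Matrix.SpecialLinearGroup.transvection hij c, transvection_mem hij hi c⟩

theorem tv_add {p : ℕ} {i j : Fin 3} (hij : i ≠ j) (hi : i ≠ 2) (c d : ZMod p) :
    tv hij hi c * tv hij hi d = tv hij hi (c + d) := by
  apply Subtype.ext
  apply Subtype.ext
  show Matrix.transvection i j c * Matrix.transvection i j d = Matrix.transvection i j (c + d)
  exact Matrix.transvection_mul_transvection_same i j hij c d

theorem hom_tv {p : ℕ} [Fact p.Prime] (hp : p ≠ 2) (ε : affSub p →* ℤˣ) {i j : Fin 3}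
    (hij : i ≠ j) (hi : i ≠ 2) (c : ZMod p) : ε (tv hij hi c) = 1 := by
  have h2 : (2 : ZMod p) ≠ 0 := by
    intro h
    have h' : ((2 : ℕ) : ZMod p) = 0 := by exact_mod_cast h
    rw [ZMod.natCast_eq_zero_iff] at h'
    have := (Nat.prime_dvd_prime_iff_eq (Fact.out : p.Prime) Nat.prime_two).1 h'
    exact hp this
  have hc : c = c / 2 + c / 2 := by field_simp; ring
  rw [hc, ← tv_add, map_mul, Int.units_mul_self]


theorem decomp_matrix {K : Type*} [Field K] (A : Matrix (Fin 3) (Fin 3) K)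
    (h20 : A 2 0 = 0) (h21 : A 2 1 = 0) (h22 : A 2 2 = 1)
    (hdet : A 0 0 * A 1 1 - A 0 1 * A 1 0 = 1) (hc : A 1 0 ≠ 0) :
    A = Matrix.transvection 0 2 (A 0 2) * Matrix.transvection 1 2 (A 1 2) *
      Matrix.transvection 0 1 ((A 0 0 - 1) / A 1 0) * Matrix.transvection 1 0 (A 1 0) *
      Matrix.transvection 0 1 ((A 1 1 - 1) / A 1 0) := by
  ext i j
  fin_cases i <;> fin_cases j <;>
    simp [Matrix.transvection, Matrix.mul_apply, Fin.sum_univ_three, Matrix.single, h20, h21, h22]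
  · field_simp
    ring
  · field_simp
    linear_combination (-1 : K) * hdet
  · field_simp
    ring


theorem det_eq {p : ℕ} (M : affSub p) :
    M.1.1 0 0 * M.1.1 1 1 - M.1.1 0 1 * M.1.1 1 0 = 1 := by
  obtain ⟨h20, h21, h22⟩ := (mem_affSub_iff M.1).1 M.2
  have hdet := M.1.2
  rw [Matrix.det_fin_three, h20, h21, h22] at hdet
  linear_combination hdet

theorem decomp {p : ℕ} [Fact p.Prime] (M : affSub p) (hc : M.1.1 1 0 ≠ 0) :
    M = tv (i := 0) (j := 2) (by decide) (by decide) (M.1.1 0 2) *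
        tv (i := 1) (j := 2) (by decide) (by decide) (M.1.1 1 2) *
        tv (i := 0) (j := 1) (by decide) (by decide) ((M.1.1 0 0 - 1) / M.1.1 1 0) *
        tv (i := 1) (j := 0) (by decide) (by decide) (M.1.1 1 0) *
        tv (i := 0) (j := 1) (by decide) (by decide) ((M.1.1 1 1 - 1) / M.1.1 1 0) := by
  obtain ⟨h20, h21, h22⟩ := (mem_affSub_iff M.1).1 M.2
  apply Subtype.ext
  apply Subtype.ext
  exact decomp_matrix M.1.1 h20 h21 h22 (det_eq M) hc

theorem hom_eq_one_of_ne {p : ℕ} [Fact p.Prime] (hp : p ≠ 2) (ε : affSub p →* ℤˣ) (M : affSub p)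
    (hc : M.1.1 1 0 ≠ 0) : ε M = 1 := by
  rw [decomp M hc]
  simp only [map_mul, hom_tv hp, mul_one]

theorem hom_eq_one {p : ℕ} [Fact p.Prime] (hp : p ≠ 2) (ε : affSub p →* ℤˣ) (M : affSub p) :
    ε M = 1 := by
  by_cases hc : M.1.1 1 0 = 0
  · have hdet := det_eq M
    rw [hc, mul_zero, sub_zero] at hdet
    have h00 : M.1.1 0 0 ≠ 0 := by
      intro h
      rw [h, zero_mul] at hdet
      exact zero_ne_one hdet
    have hM' : ((tv (i := 1) (j := 0) (by decide) (by decide) (1 : ZMod p)) * M).1.1 1 0 ≠ 0 := by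
      have : ((tv (i := 1) (j := 0) (by decide) (by decide) (1 : ZMod p)) * M).1.1 1 0
          = M.1.1 0 0 + M.1.1 1 0 := by
        show ((Matrix.transvection 1 0 (1 : ZMod p) * M.1.1 : Matrix (Fin 3) (Fin 3) (ZMod p))) 1 0 = _
        simp [Matrix.transvection, Matrix.mul_apply, Fin.sum_univ_three, Matrix.single]
      rw [this, hc, add_zero]
      exact h00
    have := hom_eq_one_of_ne hp ε _ hM'
    rw [map_mul, hom_tv hp, one_mul] at this
    exact this
  · exact hom_eq_one_of_ne hp ε M hc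


/-- the affine plane is in bijection with `(ZMod p)²` -/
def affPlaneEquiv (p : ℕ) : AffPlane p ≃ ZMod p × ZMod p where
  toFun w := (w.1 0, w.1 1)
  invFun x := ⟨![x.1, x.2, 1], rfl⟩
  left_inv w := by
    apply Subtype.ext
    funext i
    fin_cases i
    · rfl
    · rfl
    · exact w.2.symm
  right_inv x := rfl

theorem card_affPlane (p : ℕ) [Fact p.Prime] : Nat.card (AffPlane p) = p ^ 2 := by
  rw [Nat.card_congr (affPlaneEquiv p), Nat.card_prod, Nat.card_zmod, sq]

instance (p : ℕ) [Fact p.Prime] : Finite (AffPlane p) :=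
  Nat.finite_of_card_ne_zero
    (by rw [card_affPlane]; exact pow_ne_zero _ (Fact.out : p.Prime).ne_zero)

theorem exists_embedding {p : ℕ} [Fact p.Prime] (hp : p ≠ 2) (n : ℕ) (hn : p ^ 2 ≤ n) :
    ∃ f : ↥(Cfsg.qd p) →* alternatingGroup (Fin n), Function.Injective f := by
  classical
  have : Fintype (AffPlane p) := Fintype.ofFinite _
  have hcard : Fintype.card (AffPlane p) ≤ Fintype.card (Fin n) := by
    rw [← Nat.card_eq_fintype_card, card_affPlane, Fintype.card_fin]; exact hn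
  obtain ⟨ι⟩ := Function.Embedding.nonempty_of_card_le hcard
  let f0 : AffPlane p ≃ {x // x ∈ Set.range ι} := Equiv.ofInjective ι ι.injective
  let φ : affSub p →* Equiv.Perm (AffPlane p) := MulAction.toPermHom _ _
  have hφ : Function.Injective φ := by
    rw [injective_iff_map_eq_one]
    intro M hM
    apply eq_one_of_smul
    intro w
    exact congrArg (fun σ : Equiv.Perm (AffPlane p) => σ w) hM
  let ψ : affSub p →* Equiv.Perm (Fin n) := (Equiv.Perm.extendDomainHom f0).comp φ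
  have hψ : Function.Injective ψ := (Equiv.Perm.extendDomainHom_injective f0).comp hφ
  have hsign : ∀ M, ψ M ∈ alternatingGroup (Fin n) := by
    intro M
    rw [Equiv.Perm.mem_alternatingGroup]
    exact hom_eq_one hp (Equiv.Perm.sign.comp ψ) M
  let ψ' : affSub p →* alternatingGroup (Fin n) := ψ.codRestrict _ hsign
  have hψ' : Function.Injective ψ' := by
    intro a b hab
    apply hψ
    exact congrArg Subtype.val hab
  exact ⟨ψ'.comp (Subgroup.inclusion (qd_le_affSub p)),
    hψ'.comp (Subgroup.inclusion_injective _)⟩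

theorem not_involves_of_lt {p : ℕ} [Fact p.Prime] (n : ℕ) (hn : n < p ^ 2) :
    ¬ Cfsg.Involves ↥(Cfsg.qd p) ↥(alternatingGroup (Fin n)) := by
  intro hinv
  obtain ⟨K₀, R, hN, ⟨e⟩⟩ := hinv
  have h1 : PSubComm p (Equiv.Perm (Fin n)) :=
    fun H hH x hx y hy => perm_pSubgroup_comm hn H hH x y hx hy
  have h2 : PSubComm p (alternatingGroup (Fin n)) := pSubComm_subgroup _ h1
  have h3 : PSubComm p ↥K₀ := pSubComm_subgroup K₀ h2
  have h4 : PSubComm p ↥(Cfsg.qd p) :=
    pSubComm_of_surjective (e.toMonoidHom.comp (QuotientGroup.mk' (R.subgroupOf K₀)))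
      (e.surjective.comp (QuotientGroup.mk'_surjective _)) h3
  exact not_pSubComm_qd p h4

/-- Let p be an odd prime and n a natural number. The alternating group of degree n has a subgroup isomorphic to Qd(p) (the natural semidirect product of an elementary abelian group of order p² by SL₂(p)) if and only if n ≥ p²; and if n < p² then Qd(p) is not even involved in it. -/
theorem result {p : ℕ} [Fact p.Prime] (hp : p ≠ 2) (n : ℕ) : ((∃ H : Subgroup (alternatingGroup (Fin n)), Nonempty (↥H ≃* ↥(Cfsg.qd p))) ↔ p ^ 2 ≤ n) ∧ (n < p ^ 2 → ¬ Cfsg.Involves ↥(Cfsg.qd p) ↥(alternatingGroup (Fin n))) := by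
  refine ⟨⟨?_, ?_⟩, not_involves_of_lt n⟩
  · rintro ⟨H, ⟨e⟩⟩
    by_contra hlt
    have hlt' : n < p ^ 2 := not_le.mp hlt
    have h1 : PSubComm p (Equiv.Perm (Fin n)) :=
      fun H hH x hx y hy => perm_pSubgroup_comm hlt' H hH x y hx hy
    have h2 : PSubComm p (alternatingGroup (Fin n)) := pSubComm_subgroup _ h1
    have h3 : PSubComm p ↥H := pSubComm_subgroup H h2
    have h4 : PSubComm p ↥(Cfsg.qd p) :=
      pSubComm_of_surjective e.toMonoidHom e.surjective h3
    exact not_pSubComm_qd p h4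
  · intro hn
    obtain ⟨f, hf⟩ := exists_embedding hp n hn
    exact ⟨f.range, ⟨(MonoidHom.ofInjective hf).symm⟩⟩

end Cfsg.Agent.S3835
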