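import Cfsg.Statements.S3836

set_option autoImplicit false
open Cfsg

namespace Cfsg.Agent.S3836

theorem pCore_isPGroup (p : ℕ) (K : Type*) [Group K] : IsPGroup p (Cfsg.pCore p K) := by
  unfold Cfsg.pCore
  exact Sylow.sSup_of_normal _ (fun _ h => h.2) (fun _ h => h.1)

theorem le_pCore {p : ℕ} {K : Type*} [Group K] (N : Subgroup K) (hN : N.Normal) (hp : IsPGroup p N) :
    N ≤ Cfsg.pCore p K :=
  le_sSup (show N ∈ {N : Subgroup K | N.Normal ∧ IsPGroup p N} from ⟨hN, hp⟩)

theorem result {G : Type*} [Group G] [Finite G] {p : ℕ} [Fact p.Prime] (hst : Cfsg.IsNormalizerPStable p G) (H : Subgroup G) : Cfsg.IsNormalizerPStable p ↥H := by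
  intro P hP g hg hcomm
  -- transport to G
  set P' : Subgroup G := P.map H.subtype with hP'def
  have hP' : IsPGroup p P' := hP.map _
  have hg' : (g : G) ∈ Subgroup.normalizer (P' : Set G) := by
    have := Subgroup.le_normalizer_map (H := P) H.subtype (Subgroup.mem_map_of_mem H.subtype hg)
    exact this
  have hcomm' : ⁅⁅P', Subgroup.zpowers (g : G)⁆, Subgroup.zpowers (g : G)⁆ = ⊥ := by
    have hz : Subgroup.zpowers (g : G) = (Subgroup.zpowers g).map H.subtype := by
      rw [MonoidHom.map_zpowers]; rfl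
    rw [hz, hP'def, ← Subgroup.map_commutator, ← Subgroup.map_commutator, hcomm, Subgroup.map_bot]
  have key := hst P' hP' (g : G) hg' hcomm'
  -- the homomorphism of normalizers
  let f0 : ↥(Subgroup.normalizer (P : Set ↥H)) →* G :=
    H.subtype.comp (Subgroup.normalizer (P : Set ↥H)).subtype
  have hf0 : ∀ x, f0 x ∈ Subgroup.normalizer (P' : Set G) := by
    intro x
    exact Subgroup.le_normalizer_map (H := P) H.subtype (Subgroup.mem_map_of_mem H.subtype x.2)
  let f : ↥(Subgroup.normalizer (P : Set ↥H)) →* ↥(Subgroup.normalizer (P' : Set G)) :=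
    f0.codRestrict _ hf0
  have hfval : ∀ x, ((f x : ↥(Subgroup.normalizer (P' : Set G))) : G) = ((x : ↥H) : G) := fun x => rfl
  set CH := (Subgroup.centralizer (P : Set ↥H)).subgroupOf (Subgroup.normalizer (P : Set ↥H)) with hCH
  set CG := (Subgroup.centralizer (P' : Set G)).subgroupOf (Subgroup.normalizer (P' : Set G)) with hCG
  have hcomap : CG.comap f = CH := by
    ext x
    rw [Subgroup.mem_comap, hCG, hCH, Subgroup.mem_subgroupOf, Subgroup.mem_subgroupOf,
      Subgroup.mem_centralizer_iff, Subgroup.mem_centralizer_iff, hfval]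
    constructor
    · intro h y hy
      have := h (y : G) (Subgroup.mem_map_of_mem H.subtype hy)
      apply Subtype.ext
      simpa using this
    · rintro h _ ⟨y, hy, rfl⟩
      have := h y hy
      have := congrArg (fun z : ↥H => (z : G)) this
      simpa using this
  let φ := QuotientGroup.map CH CG f (le_of_eq hcomap.symm)
  have hinj : Function.Injective φ := by
    rw [← MonoidHom.ker_eq_bot_iff, QuotientGroup.ker_map, hcomap]
    simp
  have hφg : φ (QuotientGroup.mk (⟨g, hg⟩ : ↥(Subgroup.normalizer (P : Set ↥H)))) =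
      QuotientGroup.mk (⟨(g : G), hg'⟩ : ↥(Subgroup.normalizer (P' : Set G))) := rfl
  set K := (Cfsg.pCore p (↥(Subgroup.normalizer (P' : Set G)) ⧸ CG)).comap φ with hK
  have hKn : K.Normal := by
    haveI : (Cfsg.pCore p (↥(Subgroup.normalizer (P' : Set G)) ⧸ CG)).Normal := Cfsg.pCore_normal _ _
    exact Subgroup.Normal.comap inferInstance φ
  have hKp : IsPGroup p K := (pCore_isPGroup p _).comap_of_injective φ hinj
  have hmem : QuotientGroup.mk (⟨g, hg⟩ : ↥(Subgroup.normalizer (P : Set ↥H))) ∈ K := by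
    rw [hK, Subgroup.mem_comap, hφg]
    exact key
  exact le_pCore K hKn hKp hmem

end Cfsg.Agent.S3836
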