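import Cfsg.Statements.S3838
import Cfsg.Agent.Lib.Helper69.FrattiniSection

set_option autoImplicit false
open Cfsg

namespace Cfsg.Agent.S3838

open Cfsg.Agent.Lib.Helper69
open scoped commutatorElement

/-- Let G be a finite group with Sylow p-subgroup P such that N_G(P) has a normal p-complement. Then N_G(Q) has a normal p-complement for every subgroup Q with [P, P] ≤ Q ≤ Φ(P). -/
theorem result {G : Type*} [Group G] [Finite G] {p : ℕ} [Fact p.Prime] (P : Sylow p G) (hN : Cfsg.HasNormalPComplement p ↥(Subgroup.normalizer ((P : Subgroup G) : Set G))) (Q : Subgroup G) (h1 : (commutator ↥(P : Subgroup G)).map (P : Subgroup G).subtype ≤ Q) (h2 : Q ≤ (frattini ↥(P : Subgroup G)).map (P : Subgroup G).subtype) : Cfsg.HasNormalPComplement p ↥(Subgroup.normalizer (Q : Set G)) := by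
  classical
  -- basic facts in G
  have hQP : Q ≤ (P : Subgroup G) := by
    intro q hq
    obtain ⟨f, -, rfl⟩ := h2 hq
    exact f.2
  have hcomm : ∀ x ∈ (P : Subgroup G), ∀ y ∈ (P : Subgroup G), x * y * x⁻¹ * y⁻¹ ∈ Q := by
    intro x hx y hy
    apply h1
    refine ⟨⁅(⟨x, hx⟩ : (P : Subgroup G)), ⟨y, hy⟩⁆, ?_, ?_⟩
    · rw [commutator_def]
      exact Subgroup.commutator_mem_commutator (Subgroup.mem_top _) (Subgroup.mem_top _)
    · simp [commutatorElement_def]
  set H : Subgroup G := Subgroup.normalizer (Q : Set G) with hH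
  have hPH : (P : Subgroup G) ≤ H := by
    intro x hx
    rw [hH, Subgroup.mem_normalizer_iff]
    intro q
    constructor
    · intro hq
      have h3 := hcomm x hx q (hQP hq)
      have : x * q * x⁻¹ = (x * q * x⁻¹ * q⁻¹) * q := by group
      rw [this]; exact mul_mem h3 hq
    · intro hq
      have h3 := hcomm x⁻¹ (inv_mem hx) (x * q * x⁻¹) (hQP hq)
      have : q = (x⁻¹ * (x * q * x⁻¹) * x⁻¹⁻¹ * (x * q * x⁻¹)⁻¹) * (x * q * x⁻¹) := by group
      rw [this]; exact mul_mem h3 hq
  -- objects in X = ↥H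
  let PX : Sylow p ↥H := P.subtype hPH
  have hPX : (PX : Subgroup ↥H) = (P : Subgroup G).subgroupOf H := rfl
  set QX : Subgroup ↥H := Q.subgroupOf H with hQX
  have hQXn : QX.Normal := Subgroup.normal_in_normalizer
  have hQPX : QX ≤ (PX : Subgroup ↥H) := by
    intro z hz
    rw [hPX, Subgroup.mem_subgroupOf]
    exact hQP (Subgroup.mem_subgroupOf.mp hz)
  have h1' : ∀ x ∈ (PX : Subgroup ↥H), ∀ y ∈ (PX : Subgroup ↥H), x * y * x⁻¹ * y⁻¹ ∈ QX := by
    intro x hx y hy
    rw [hPX, Subgroup.mem_subgroupOf] at hx hy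
    rw [hQX, Subgroup.mem_subgroupOf]
    simpa using hcomm x hx y hy
  have h2' : QX ≤ (frattini ↥(PX : Subgroup ↥H)).map (PX : Subgroup ↥H).subtype := by
    intro n hn
    rw [hQX, Subgroup.mem_subgroupOf] at hn
    obtain ⟨f, hf, hfn⟩ := h2 hn
    let e : ↥(P : Subgroup G) ≃* ↥((P : Subgroup G).subgroupOf H) :=
      (Subgroup.subgroupOfEquivOfLe hPH).symm
    have he : e f ∈ frattini ↥((P : Subgroup G).subgroupOf H) :=
      frattini_le_comap_frattini_of_surjective (φ := e.toMonoidHom) e.surjective hf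
    refine ⟨e f, he, ?_⟩
    apply Subtype.ext
    have : ((e f : ↥((P : Subgroup G).subgroupOf H)) : ↥H) = ⟨(f : G), hPH f.2⟩ := by
      apply Subtype.ext
      rfl
    rw [Subgroup.coe_subtype, this]
    exact hfn
  -- the normalizer condition
  set N : Subgroup G := Subgroup.normalizer ((P : Subgroup G) : Set G) with hNdef
  obtain ⟨S, K, hKn, hKS⟩ := hN
  let PN : Sylow p ↥N := P.subtype Subgroup.le_normalizer
  have hPNn : (PN : Subgroup ↥N).Normal := by
    change ((P : Subgroup G).subgroupOf N).Normal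
    exact Subgroup.normal_in_normalizer
  have hSPN : S = PN := by
    have := Sylow.unique_of_normal PN hPNn
    exact Subsingleton.elim _ _
  have hS : (S : Subgroup ↥N) = (P : Subgroup G).subgroupOf N := by rw [hSPN]; rfl
  rw [hS] at hKS
  have hPNn' : ((P : Subgroup G).subgroupOf N).Normal := hPNn
  have hNC' : ∀ n ∈ Subgroup.normalizer ((PX : Subgroup ↥H) : Set ↥H),
      ∃ k ∈ Subgroup.centralizer ((PX : Subgroup ↥H) : Set ↥H), ∃ u ∈ (PX : Subgroup ↥H), n = k * u := by
    intro n hn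
    rw [hPX, ← Subgroup.subgroupOf_normalizer_eq hPH, Subgroup.mem_subgroupOf] at hn
    obtain ⟨⟨k, s⟩, hks⟩ := hKS.2 ⟨(n : G), hn⟩
    have hks' : ((k : ↥N) : G) * ((s : ↥N) : G) = (n : G) := by
      have := congrArg Subtype.val hks
      simpa using this
    have hsP : ((s : ↥N) : G) ∈ (P : Subgroup G) := Subgroup.mem_subgroupOf.mp s.2
    have hkH : ((k : ↥N) : G) ∈ H := by
      have : ((k : ↥N) : G) = (n : G) * ((s : ↥N) : G)⁻¹ := by rw [← hks']; group
      rw [this]; exact mul_mem n.2 (inv_mem (hPH hsP))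
    refine ⟨⟨((k : ↥N) : G), hkH⟩, ?_, ⟨((s : ↥N) : G), hPH hsP⟩, ?_, ?_⟩
    · rw [Subgroup.mem_centralizer_iff]
      intro z hz
      rw [SetLike.mem_coe, hPX, Subgroup.mem_subgroupOf] at hz
      have hzN : (z : G) ∈ N := Subgroup.le_normalizer hz
      have hc := Subgroup.commute_of_normal_of_disjoint K ((P : Subgroup G).subgroupOf N) hKn hPNn'
        hKS.disjoint (k : ↥N) ⟨(z : G), hzN⟩ k.2 (Subgroup.mem_subgroupOf.mpr hz)
      apply Subtype.ext
      have := congrArg Subtype.val hc.eq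
      simpa using this.symm
    · rw [hPX, Subgroup.mem_subgroupOf]; exact hsP
    · apply Subtype.ext
      simpa using hks'.symm
  obtain ⟨K₁, hK₁n, hK₁c⟩ :=
    hasNormalPComplement_of_frattini_section PX QX hQPX h1' h2' hNC'
  exact ⟨PX, K₁, hK₁n, hK₁c⟩

end Cfsg.Agent.S3838
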