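-- Statement S3857: Gruenberg–Kegel theorem for solvable groups.
import Cfsg.Statements.S3857
import Cfsg.Agent.Lib.Helper78.TwoFrob5

set_option autoImplicit false
set_option linter.style.haveILetI false
open Cfsg

namespace Cfsg.Agent.S3857

open Cfsg.Agent.Lib.Helper78.TwoFrob

/-- A finite solvable group whose prime graph (prime divisors of the order, two distinct primes joined when there is an element of order their product) is disconnected is a Frobenius group or a 2-Frobenius group (it has normal subgroups H < K with K a Frobenius group with kernel H and G/H a Frobenius group with kernel K/H). -/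
theorem result {G : Type*} [Group G] [Finite G] (hsol : Group.IsSolvable G)
    (hdisc : (∃ A : Set ℕ, (∃ a ∈ A, a.Prime ∧ a ∣ Nat.card G) ∧ (∃ b ∉ A, b.Prime ∧ b ∣ Nat.card G) ∧
      ∀ a ∈ A, ∀ b ∉ A, a.Prime → b.Prime → a ∣ Nat.card G → b ∣ Nat.card G → ¬ ∃ g : G, orderOf g = a * b)) :
    (∃ C : Subgroup G, Cfsg.IsFrobeniusComplement C) ∨
    (∃ (H K : Subgroup G) (_ : H.Normal), K.Normal ∧ H < K ∧
      (∃ C : Subgroup ↥K, Cfsg.IsFrobeniusComplement C ∧ Cfsg.frobeniusKernel C = (H.subgroupOf K : Set ↥K)) ∧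
      (∃ C : Subgroup (G ⧸ H), Cfsg.IsFrobeniusComplement C ∧ Cfsg.frobeniusKernel C = (K.map (QuotientGroup.mk' H) : Set (G ⧸ H)))) := by
  classical
  obtain ⟨A, ⟨a₀, ha₀A, ha₀, ha₀G⟩, ⟨b₀, hb₀A, hb₀, hb₀G⟩, hnoA⟩ := hdisc
  -- no edges, without the divisibility side conditions
  have hno : ∀ a b : ℕ, a.Prime → b.Prime → a ∈ A → b ∉ A → ¬ ∃ g : G, orderOf g = a * b := by
    intro a b ha hb haA hbA hg
    obtain ⟨g, hg⟩ := hg
    have h1 : a * b ∣ Nat.card G := hg ▸ orderOf_dvd_natCard g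
    exact hnoA a haA b hbA ha hb ((dvd_mul_right a b).trans h1) ((dvd_mul_left b a).trans h1)
      ⟨g, hg⟩
  have hno' : ∀ a b : ℕ, a.Prime → b.Prime → a ∈ Aᶜ → b ∉ Aᶜ → ¬ ∃ g : G, orderOf g = a * b := by
    intro a b ha hb haA hbA hg
    obtain ⟨g, hg⟩ := hg
    have hbA' : b ∈ A := by
      by_contra h
      exact hbA h
    exact hno b a hb ha hbA' haA ⟨g, by rw [hg, mul_comm]⟩
  have hFnil : Group.IsNilpotent (Cfsg.fittingSubgroup G) :=
    Cfsg.Agent.Lib.Helper22.fittingSubgroup_isNilpotent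
  -- all primes of F(G) lie on one side
  by_cases hside : ∃ a : ℕ, a ∈ A ∧ a.Prime ∧ a ∣ Nat.card (Cfsg.fittingSubgroup G)
  · obtain ⟨a, haA, ha, haF⟩ := hside
    apply gk_core hsol A hno _ ⟨b₀, hb₀A, hb₀, hb₀G⟩
    intro p hp hpF
    by_contra hpA
    haveI : Fact a.Prime := ⟨ha⟩
    haveI : Fact p.Prime := ⟨hp⟩
    have hap : a ≠ p := by
      rintro rfl
      exact hpA haA
    obtain ⟨x, hx⟩ := exists_prime_orderOf_dvd_card' (G := Cfsg.fittingSubgroup G) a haF
    obtain ⟨z, hz⟩ := exists_prime_orderOf_dvd_card' (G := Cfsg.fittingSubgroup G) p hpF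
    have hxz : (x : G) * z = z * x :=
      Cfsg.Agent.Lib.Helper78.commute_of_mem_nilpotent _ hFnil hap x.2 z.2 (k := 1) (l := 1)
        (by rw [Subgroup.orderOf_coe, hx, pow_one]) (by rw [Subgroup.orderOf_coe, hz, pow_one])
    have hc : Commute (x : G) (z : G) := hxz
    apply hno a p ha hp haA hpA
    refine ⟨(x : G) * z, ?_⟩
    rw [hc.orderOf_mul_eq_mul_orderOf_of_coprime (by
      rw [Subgroup.orderOf_coe, Subgroup.orderOf_coe, hx, hz]
      exact (Nat.coprime_primes ha hp).mpr hap),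
      Subgroup.orderOf_coe, Subgroup.orderOf_coe, hx, hz]
  · push Not at hside
    apply gk_core hsol Aᶜ hno' _ ⟨a₀, fun h => h ha₀A, ha₀, ha₀G⟩
    intro p hp hpF hpA
    exact hside p hpA hp hpF

end Cfsg.Agent.S3857
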