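import Cfsg.Statements.S3858
import Cfsg.Agent.Lib.Helper64.SylowMax
import Cfsg.Agent.Lib.Helper64.SylowConj

set_option autoImplicit false
open Cfsg

namespace Cfsg.Agent.S3858

open Cfsg.Agent.Lib.Helper64

theorem result {G : Type*} [Group G] [Finite G] (T : Subgroup G) [T.Normal] (hT : IsSimpleGroup T) (hna : ¬ IsMulCommutative T)
    (hC : Subgroup.centralizer (T : Set G) = ⊥) {r : ℕ} [Fact r.Prime] (R : Sylow r G) (hR0 : (R : Subgroup G) ⊓ T ≠ ⊥) :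
    (∃! M : Subgroup G, IsCoatom M ∧ (R : Subgroup G) ≤ M) ↔
      ((∃ M : Subgroup G, IsCoatom M ∧ ¬ r ∣ M.index) ∧
        ∀ M₁ M₂ : Subgroup G, IsCoatom M₁ → ¬ r ∣ M₁.index → IsCoatom M₂ → ¬ r ∣ M₂.index → ∃ g : G, M₂ = M₁.map (MulAut.conj g).toMonoidHom) := by
  have hidx : ∀ M : Subgroup G, (R : Subgroup G) ≤ M → ¬ r ∣ M.index :=
    fun M hRM h => R.not_dvd_index (h.trans (Subgroup.index_dvd_of_le hRM))
  constructor
  · rintro ⟨M, ⟨hMco, hRM⟩, hMuniq⟩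
    refine ⟨⟨M, hMco, hidx M hRM⟩, ?_⟩
    intro M₁ M₂ h1 h1' h2 h2'
    obtain ⟨g₁, hg₁⟩ := exists_le_map_conj_of_not_dvd_index R.isPGroup' M₁ h1'
    obtain ⟨g₂, hg₂⟩ := exists_le_map_conj_of_not_dvd_index R.isPGroup' M₂ h2'
    have e1 := hMuniq _ ⟨isCoatom_map_conj h1 g₁, hg₁⟩
    have e2 := hMuniq _ ⟨isCoatom_map_conj h2 g₂, hg₂⟩
    refine ⟨g₂⁻¹ * g₁, ?_⟩
    rw [← map_conj_map_conj, e1, ← e2, map_conj_map_conj, inv_mul_cancel,
      map_conj_of_mem M₂.one_mem]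
  · rintro ⟨⟨M₀, hM₀, hM₀'⟩, hconj⟩
    obtain ⟨g₀, hg₀⟩ := exists_le_map_conj_of_not_dvd_index R.isPGroup' M₀ hM₀'
    have hMco : IsCoatom (M₀.map (MulAut.conj g₀).toMonoidHom) := isCoatom_map_conj hM₀ g₀
    generalize M₀.map (MulAut.conj g₀).toMonoidHom = M at hg₀ hMco
    have hNtop : Subgroup.normalizer ((R : Subgroup G) : Set G) ≠ ⊤ := by
      rw [Ne, Subgroup.normalizer_eq_top_iff]
      intro hn
      exact not_normal_inf_of_simple T hT hna (R : Subgroup G) R.isPGroup' hR0 inferInstance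
    have key : ∀ M' : Subgroup G, IsCoatom M' → (R : Subgroup G) ≤ M' →
        ∀ M'' : Subgroup G, IsCoatom M'' → (R : Subgroup G) ≤ M'' →
        ∃ n ∈ Subgroup.normalizer ((R : Subgroup G) : Set G),
          M'' = M'.map (MulAut.conj n).toMonoidHom := by
      intro M' h' hR' M'' h'' hR''
      obtain ⟨g, hg⟩ := hconj M' M'' h' (hidx M' hR') h'' (hidx M'' hR'')
      rw [hg] at hR'' ⊢
      exact map_conj_eq_map_conj_normalizer R M' g hR' hR''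
    have hNM : Subgroup.normalizer ((R : Subgroup G) : Set G) ≤ M := by
      obtain h | ⟨M₃, hM₃, hN₃⟩ := IsCoatomic.eq_top_or_exists_le_coatom
        (Subgroup.normalizer ((R : Subgroup G) : Set G))
      · exact absurd h hNtop
      · have hR₃ : (R : Subgroup G) ≤ M₃ := Subgroup.le_normalizer.trans hN₃
        obtain ⟨n, hn, hn'⟩ := key M₃ hM₃ hR₃ M hMco hg₀
        rw [map_conj_of_mem (hN₃ hn)] at hn'
        rw [hn']; exact hN₃
    refine ⟨M, ⟨hMco, hg₀⟩, ?_⟩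
    rintro M₂ ⟨h2, hR2⟩
    obtain ⟨n, hn, hn'⟩ := key M hMco hg₀ M₂ h2 hR2
    rw [map_conj_of_mem (hNM hn)] at hn'
    exact hn'

end Cfsg.Agent.S3858
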