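import Cfsg.Statements.S3859
import Cfsg.Agent.Lib.Helper64.SylowMax

set_option autoImplicit false
open Cfsg

namespace Cfsg.Agent.S3859

open Cfsg.Agent.Lib.Helper64

theorem result {G : Type*} [Group G] [Finite G] (T : Subgroup G) [T.Normal] (hT : IsSimpleGroup T) (hna : ¬ IsMulCommutative T)
    (hC : Subgroup.centralizer (T : Set G) = ⊥) {r : ℕ} [Fact r.Prime] (R : Sylow r G) (hR0 : (R : Subgroup G) ⊓ T ≠ ⊥)
    (huniq : ∃! M : Subgroup G, IsCoatom M ∧ (R : Subgroup G) ≤ M) : IsPGroup r (G ⧸ T) := by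
  obtain ⟨M, ⟨hMco, hRM⟩, hMuniq⟩ := huniq
  obtain ⟨P, hP⟩ := exists_sylow_inf_normal R T
  have hfrat := Sylow.normalizer_sup_eq_top P
  rw [hP] at hfrat
  have hRN : (R : Subgroup G) ≤ Subgroup.normalizer (((R : Subgroup G) ⊓ T : Subgroup G) : Set G) := by
    rw [Subgroup.le_normalizer_iff]
    intro h hh k hk
    exact ⟨(R : Subgroup G).mul_mem ((R : Subgroup G).mul_mem hh hk.1) ((R : Subgroup G).inv_mem hh),
      ‹T.Normal›.conj_mem k hk.2 h⟩
  have hNtop : Subgroup.normalizer (((R : Subgroup G) ⊓ T : Subgroup G) : Set G) ≠ ⊤ := by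
    rw [Ne, Subgroup.normalizer_eq_top_iff]
    exact not_normal_inf_of_simple T hT hna (R : Subgroup G) R.isPGroup' hR0
  have hNM : Subgroup.normalizer (((R : Subgroup G) ⊓ T : Subgroup G) : Set G) ≤ M := by
    obtain h | ⟨M', hM', hNM'⟩ := IsCoatomic.eq_top_or_exists_le_coatom
      (Subgroup.normalizer (((R : Subgroup G) ⊓ T : Subgroup G) : Set G))
    · exact absurd h hNtop
    · have := hMuniq M' ⟨hM', hRN.trans hNM'⟩
      rw [← this]; exact hNM'
  have hRT : (R : Subgroup G) ⊔ T = ⊤ := by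
    by_contra hne
    obtain h | ⟨M', hM', hle⟩ := IsCoatomic.eq_top_or_exists_le_coatom ((R : Subgroup G) ⊔ T)
    · exact hne h
    · have hM'M := hMuniq M' ⟨hM', le_sup_left.trans hle⟩
      subst hM'M
      have : (⊤ : Subgroup G) ≤ M' := by
        rw [← hfrat]; exact sup_le hNM (le_sup_right.trans hle)
      exact hM'.1 (top_le_iff.mp this)
  have hmap : (R : Subgroup G).map (QuotientGroup.mk' T) = ⊤ := by
    have h1 : ((R : Subgroup G) ⊔ T).map (QuotientGroup.mk' T) = ⊤ := by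
      rw [hRT, ← MonoidHom.range_eq_map, MonoidHom.range_eq_top]
      exact QuotientGroup.mk'_surjective T
    rw [Subgroup.map_sup, QuotientGroup.map_mk'_self, sup_bot_eq] at h1
    exact h1
  have hp := R.isPGroup'.map (QuotientGroup.mk' T)
  rw [hmap] at hp
  intro q
  obtain ⟨k, hk⟩ := hp ⟨q, Subgroup.mem_top q⟩
  exact ⟨k, congrArg Subtype.val hk⟩

end Cfsg.Agent.S3859
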