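import Mathlib
import Cfsg.Statements.S3861
import Cfsg.Agent.Lib.Helper64.Real
import Cfsg.Agent.Lib.Helper64.RealLift
import Cfsg.Agent.Lib.Helper64.TI

set_option autoImplicit false
open Cfsg

namespace Cfsg.Agent.S3861

open Cfsg.Agent.Lib.Helper64

universe u

theorem inv_eq_self_of_orderOf_two {G : Type*} [Group G] {s : G} (hs : orderOf s = 2) : s⁻¹ = s := by
  have h := pow_orderOf_eq_one s
  rw [hs, pow_two] at h
  exact inv_eq_of_mul_eq_one_left h

theorem exists_involution_mem {G : Type*} [Group G] [Finite G] (P : Sylow 2 G)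
    (hP : (P : Subgroup G) ≠ ⊥) : ∃ s ∈ (P : Subgroup G), orderOf s = 2 := by
  have : Fact (Nat.Prime 2) := ⟨Nat.prime_two⟩
  rcases P.isPGroup'.card_eq_or_dvd with h | h
  · exact absurd (Subgroup.eq_bot_of_card_eq _ h) hP
  · obtain ⟨x, hx⟩ := exists_prime_orderOf_dvd_card' 2 h
    exact ⟨x.1, x.2, (Subgroup.orderOf_coe x).trans hx⟩

/-- In a group with TI Sylow 2-subgroups, an involution commuting with a nontrivial element of a
Sylow 2-subgroup lies in it. -/
theorem mem_sylow_of_commute {G : Type*} [Group G] [Finite G]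
    (hTI : ∀ P Q : Sylow 2 G, P ≠ Q → (P : Subgroup G) ⊓ Q = ⊥)
    (P : Sylow 2 G) {s z : G} (hsP : s ∈ (P : Subgroup G)) (hs1 : s ≠ 1) (hz : orderOf z = 2)
    (hsz : Commute s z) : z ∈ (P : Subgroup G) := by
  have : Fact (Nat.Prime 2) := ⟨Nat.prime_two⟩
  have h1 : IsPGroup 2 (Subgroup.zpowers s) :=
    P.isPGroup'.to_le (Subgroup.zpowers_le.mpr hsP)
  have h2 : IsPGroup 2 (Subgroup.zpowers z) := by
    apply IsPGroup.of_card (n := 1)
    rw [Nat.card_zpowers, hz, pow_one]
  have h3 : Subgroup.zpowers s ≤ Subgroup.normalizer ((Subgroup.zpowers z : Subgroup G) : Set G) := by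
    refine le_trans ?_ (Subgroup.centralizer_le_normalizer _)
    rw [Subgroup.zpowers_le, Subgroup.mem_centralizer_iff]
    intro h hh
    obtain ⟨k, rfl⟩ := Subgroup.mem_zpowers_iff.mp hh
    exact ((hsz.zpow_right k).eq).symm
  have h4 := IsPGroup.to_sup_of_normal_right' h1 h2 h3
  obtain ⟨P₁, hP₁⟩ := h4.exists_le_sylow
  have hsP₁ : s ∈ (P₁ : Subgroup G) := hP₁ (Subgroup.mem_sup_left (Subgroup.mem_zpowers s))
  have hzP₁ : z ∈ (P₁ : Subgroup G) := hP₁ (Subgroup.mem_sup_right (Subgroup.mem_zpowers z))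
  have hPP : P₁ = P := by
    by_contra hne
    have := hTI P₁ P hne
    have hmem : s ∈ (P₁ : Subgroup G) ⊓ P := ⟨hsP₁, hsP⟩
    rw [this, Subgroup.mem_bot] at hmem
    exact hs1 hmem
  rw [← hPP]; exact hzP₁

theorem forward_aux : ∀ (n : ℕ) (G : Type u) [Group G] [Finite G], Nat.card G = n →
    (∀ x : G, x ≠ 1 → Odd (orderOf x) → ¬ IsConj x x⁻¹) →
    ∀ P : Sylow 2 G, (P : Subgroup G).Normal := by
  intro n
  induction n using Nat.strong_induction_on with
  | _ n ih =>
    intro G _ _ hcard hyp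
    have : Fact (Nat.Prime 2) := ⟨Nat.prime_two⟩
    have hsub : ∀ H : Subgroup G, H ≠ ⊤ → ∀ S : Sylow 2 H, (S : Subgroup H).Normal := by
      intro H hH S
      refine ih (Nat.card H) ?_ H rfl ?_ S
      · rw [← hcard]
        refine lt_of_le_of_ne H.card_le_card_group ?_
        intro h
        exact hH (H.card_eq_iff_eq_top.mp h)
      · intro x hx1 hxodd hxreal
        apply hyp (x : G) (by simpa using hx1) (by rwa [Subgroup.orderOf_coe])
        obtain ⟨c, hc⟩ := isConj_iff.mp hxreal
        exact isConj_iff.mpr ⟨c, by simpa using congrArg Subtype.val hc⟩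
    by_cases hA : ∃ D : Subgroup G, IsPGroup 2 D ∧ D.Normal ∧ D ≠ ⊥
    · obtain ⟨D, hD2, hDn, hDne⟩ := hA
      have := hDn
      have hquot : ∀ Pb : Sylow 2 (G ⧸ D), (Pb : Subgroup (G ⧸ D)).Normal := by
        refine ih (Nat.card (G ⧸ D)) ?_ (G ⧸ D) rfl ?_
        · rw [← hcard, ← Subgroup.index_eq_card, ← Subgroup.card_mul_index D]
          have h1 : 1 < Nat.card D := D.one_lt_card_iff_ne_bot.mpr hDne
          have h2 : 0 < D.index := Nat.pos_of_ne_zero Subgroup.index_ne_zero_of_finite
          exact lt_mul_of_one_lt_left h2 h1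
        · intro xb hx1 hodd hreal
          obtain ⟨y, hy1, hyodd, hyreal⟩ := exists_real_of_quotient D hD2 xb hx1 hodd hreal
          exact hyp y hy1 hyodd hyreal
      intro P
      have hDP : D ≤ P := hD2.le_sylow_of_normal P
      have hn := hquot (P.mapSurjective (QuotientGroup.mk'_surjective D))
      have hcomap : ((P : Subgroup G).map (QuotientGroup.mk' D)).comap (QuotientGroup.mk' D) = P := by
        rw [Subgroup.comap_map_eq, QuotientGroup.ker_mk', sup_eq_left.mpr hDP]
      rw [← hcomap]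
      exact Subgroup.Normal.comap hn _
    · push Not at hA
      have hO : ∀ D : Subgroup G, IsPGroup 2 D → D.Normal → D = ⊥ := hA
      have hTI := sylow_inf_eq_bot_of_minimal hsub hO
      intro P
      by_contra hPn
      obtain ⟨g, hg⟩ : ∃ g : G, g • P ≠ P := by
        by_contra hcon
        push Not at hcon
        apply hPn
        rw [← Subgroup.normalizer_eq_top_iff, eq_top_iff]
        intro g _
        exact Sylow.smul_eq_iff_mem_normalizer.mp (hcon g)
      have hPbot : (P : Subgroup G) ≠ ⊥ := by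
        intro h
        apply hPn
        rw [h]; infer_instance
      have hQbot : ((g • P : Sylow 2 G) : Subgroup G) ≠ ⊥ := by
        intro h
        apply hg
        have hle : ((g • P : Sylow 2 G) : Subgroup G) ≤ P := by rw [h]; exact bot_le
        exact (Sylow.ext ((g • P).is_maximal' P.isPGroup' hle)).symm
      obtain ⟨s, hsP, hs⟩ := exists_involution_mem P hPbot
      obtain ⟨t, htQ, ht⟩ := exists_involution_mem (g • P) hQbot
      have hbot := hTI (g • P) P hg
      have hs1 : s ≠ 1 := by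
        rintro rfl; rw [orderOf_one] at hs; omega
      have ht1 : t ≠ 1 := by
        rintro rfl; rw [orderOf_one] at ht; omega
      have hsinv := inv_eq_self_of_orderOf_two hs
      have htinv := inv_eq_self_of_orderOf_two ht
      have hss : s * s = 1 := by
        have := mul_inv_cancel s
        rwa [hsinv] at this
      have htt : t * t = 1 := by
        have := mul_inv_cancel t
        rwa [htinv] at this
      have huinv : (s * t)⁻¹ = t * s := by rw [mul_inv_rev, hsinv, htinv]
      have hsu : s * (s * t) * s⁻¹ = (s * t)⁻¹ := by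
        rw [huinv, hsinv, ← mul_assoc, hss, one_mul]
      have htu : t * (s * t) * t⁻¹ = (s * t)⁻¹ := by
        rw [huinv, htinv, mul_assoc, mul_assoc, htt, mul_one]
      have hsupow : ∀ k : ℕ, s * (s * t) ^ k * s⁻¹ = ((s * t) ^ k)⁻¹ := by
        intro k; rw [← conj_pow, hsu, inv_pow]
      have htupow : ∀ k : ℕ, t * (s * t) ^ k * t⁻¹ = ((s * t) ^ k)⁻¹ := by
        intro k; rw [← conj_pow, htu, inv_pow]
      have hn0 : orderOf (s * t) ≠ 0 := (orderOf_pos _).ne'
      obtain ⟨a, m, hm, hnm⟩ := Nat.exists_eq_two_pow_mul_odd hn0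
      have hw : orderOf ((s * t) ^ 2 ^ a) = m := by
        rw [orderOf_pow' _ (pow_ne_zero a two_ne_zero), hnm, Nat.gcd_eq_right (Dvd.intro _ rfl)]
        exact Nat.mul_div_cancel_left _ (pow_pos two_pos a)
      have hw1 : (s * t) ^ 2 ^ a = 1 := by
        by_contra hne
        exact hyp _ hne (hw ▸ hm) (isConj_iff.mpr ⟨s, hsupow _⟩)
      have hm1 : m = 1 := by
        rw [← hw, hw1, orderOf_one]
      rw [hm1, mul_one] at hnm
      rcases Nat.eq_zero_or_pos a with ha | ha
      · rw [ha, pow_zero, orderOf_eq_one_iff] at hnm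
        have hts : t = s := by
          have h1 : t = s⁻¹ := (inv_eq_of_mul_eq_one_right hnm).symm
          rw [h1, hsinv]
        have hmem : s ∈ ((g • P : Sylow 2 G) : Subgroup G) ⊓ P := ⟨hts ▸ htQ, hsP⟩
        rw [hbot, Subgroup.mem_bot] at hmem
        exact hs1 hmem
      · obtain ⟨b, rfl⟩ : ∃ b, a = b + 1 := ⟨a - 1, by omega⟩
        have hz : orderOf ((s * t) ^ 2 ^ b) = 2 := by
          rw [orderOf_pow' _ (pow_ne_zero b two_ne_zero), hnm,
            Nat.gcd_eq_right (pow_dvd_pow 2 (Nat.le_succ b)), pow_succ]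
          exact Nat.mul_div_cancel_left _ (pow_pos two_pos b)
        have hzinv := inv_eq_self_of_orderOf_two hz
        have hsz : Commute s ((s * t) ^ 2 ^ b) := by
          have h1 := hsupow (2 ^ b)
          rw [hzinv] at h1
          show s * (s * t) ^ 2 ^ b = (s * t) ^ 2 ^ b * s
          calc s * (s * t) ^ 2 ^ b = s * (s * t) ^ 2 ^ b * s⁻¹ * s := by group
            _ = (s * t) ^ 2 ^ b * s := by rw [h1]
        have htz : Commute t ((s * t) ^ 2 ^ b) := by
          have h1 := htupow (2 ^ b)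
          rw [hzinv] at h1
          show t * (s * t) ^ 2 ^ b = (s * t) ^ 2 ^ b * t
          calc t * (s * t) ^ 2 ^ b = t * (s * t) ^ 2 ^ b * t⁻¹ * t := by group
            _ = (s * t) ^ 2 ^ b * t := by rw [h1]
        have hzP := mem_sylow_of_commute hTI P hsP hs1 hz hsz
        have hzQ := mem_sylow_of_commute hTI (g • P) htQ ht1 hz htz
        have hmem : (s * t) ^ 2 ^ b ∈ ((g • P : Sylow 2 G) : Subgroup G) ⊓ P := ⟨hzQ, hzP⟩
        rw [hbot, Subgroup.mem_bot] at hmem
        rw [hmem, orderOf_one] at hz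
        omega

theorem result {G : Type*} [Group G] [Finite G] (P : Sylow 2 G) : (∀ x : G, x ≠ 1 → Odd (orderOf x) → ¬ IsConj x x⁻¹) ↔ (P : Subgroup G).Normal := by
  have : Fact (Nat.Prime 2) := ⟨Nat.prime_two⟩
  constructor
  · intro hyp
    exact forward_aux (Nat.card G) G rfl hyp P
  · intro hPn x hx1 hxodd hxreal
    obtain ⟨t, ⟨j, hj⟩, ht⟩ := exists_two_element_inverting hxreal
    have hidx : Odd (P : Subgroup G).index := by
      rw [← Nat.not_even_iff_odd, even_iff_two_dvd]
      exact P.not_dvd_index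
    have htP : t ∈ (P : Subgroup G) := by
      apply mem_of_coprime_orderOf_index
      rw [hj]
      exact (Nat.coprime_two_left.mpr hidx).pow_left j
    have hx2 : x⁻¹ * x⁻¹ ∈ (P : Subgroup G) := by
      have h1 : x⁻¹ * x⁻¹ = t * (x * t⁻¹ * x⁻¹) := by
        rw [← ht]; group
      rw [h1]
      exact Subgroup.mul_mem _ htP (hPn.conj_mem _ (Subgroup.inv_mem _ htP) x)
    have hx2' : x ^ 2 ∈ (P : Subgroup G) := by
      have : x ^ 2 = (x⁻¹ * x⁻¹)⁻¹ := by group
      rw [this]
      exact Subgroup.inv_mem _ hx2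
    obtain ⟨k, hk⟩ := (IsPGroup.iff_orderOf.mp P.isPGroup') ⟨x ^ 2, hx2'⟩
    rw [Subgroup.orderOf_mk] at hk
    have hdvd : orderOf x ∣ 2 ^ (k + 1) := by
      apply orderOf_dvd_of_pow_eq_one
      rw [pow_succ', pow_mul, ← hk]
      exact pow_orderOf_eq_one _
    have hcop : (orderOf x).Coprime (2 ^ (k + 1)) :=
      (Nat.coprime_two_right.mpr hxodd).pow_right _
    have h1 : orderOf x = 1 := hcop.eq_one_of_dvd hdvd
    exact hx1 (orderOf_eq_one_iff.mp h1)

end Cfsg.Agent.S3861
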