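import Cfsg.Statements.S3862
import Cfsg.Agent.S0132
import Cfsg.Agent.Lib.Helper2.PGroup
import Cfsg.Agent.Lib.Helper24.Omega1

set_option autoImplicit false
open Cfsg

namespace Cfsg.Agent.S3862

open Cfsg.Agent.Lib.Helper2

universe u

/-- If all proper subgroups have a normal `p`-complement, a `p'`-element normalizing a `p`-subgroup
`R` with `R ⊔ ⟨g⟩` proper centralizes `R`. -/
theorem cent_of_proper {G : Type*} [Group G] [Finite G] {p : ℕ} [Fact p.Prime]
    (h2 : ∀ H : Subgroup G, H ≠ ⊤ → Cfsg.HasNormalPComplement p H)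
    (R : Subgroup G) (hR : IsPGroup p R) (g : G) (hgN : g ∈ Subgroup.normalizer (R : Set G))
    (hgc : (orderOf g).Coprime p) (hK : R ⊔ Subgroup.zpowers g ≠ ⊤) :
    g ∈ Subgroup.centralizer (R : Set G) := by
  have hF := (Cfsg.Agent.S0072.hasNormalPComplement_iff_frobCond p).mp (h2 _ hK)
  have hgK : g ∈ R ⊔ Subgroup.zpowers g :=
    (le_sup_right : Subgroup.zpowers g ≤ _) (Subgroup.mem_zpowers g)
  have hQK : R ≤ R ⊔ Subgroup.zpowers g := le_sup_left
  have hnorm : (⟨g, hgK⟩ : ↥(R ⊔ Subgroup.zpowers g)) ∈
      Subgroup.normalizer ((R.subgroupOf (R ⊔ Subgroup.zpowers g) : Subgroup _) : Set _) := by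
    rw [Subgroup.mem_normalizer_iff]
    intro x
    simp only [Subgroup.mem_subgroupOf, Subgroup.coe_mul, Subgroup.coe_inv]
    exact (Subgroup.mem_normalizer_iff.mp hgN) x
  have hord : (orderOf (⟨g, hgK⟩ : ↥(R ⊔ Subgroup.zpowers g))).Coprime p := by
    rw [Subgroup.orderOf_mk]; exact hgc
  have hcent := hF (R.subgroupOf _) hR.comap_subtype ⟨g, hgK⟩ hnorm hord
  rw [Subgroup.mem_centralizer_iff]
  intro x hx
  have := (Subgroup.mem_centralizer_iff.mp hcent) ⟨x, hQK hx⟩
    (by rw [SetLike.mem_coe, Subgroup.mem_subgroupOf]; exact hx)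
  exact congrArg Subtype.val this

theorem aux (n : ℕ) : ∀ (G : Type u) [Group G] [Finite G], Nat.card G = n →
    (∀ x : G, (∃ j : ℕ, orderOf x = 2 ^ j) → IsConj x x⁻¹ → x ∈ Subgroup.center G) →
    Cfsg.HasNormalPComplement 2 G := by
  induction n using Nat.strong_induction_on with
  | _ n ih =>
    intro G _ _ hn h
    by_contra hnot
    have : Fact (Nat.Prime 2) := ⟨Nat.prime_two⟩
    have h2 : ∀ H : Subgroup G, H ≠ ⊤ → Cfsg.HasNormalPComplement 2 H := by
      intro H hH
      have hlt : Nat.card H < n := by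
        rw [← hn]
        rcases lt_or_eq_of_le (Subgroup.card_le_card_group H) with h2 | h2
        · exact h2
        · exact absurd ((Subgroup.card_eq_iff_eq_top H).mp h2) hH
      refine ih _ hlt H rfl ?_
      intro x hx hconj
      have hxG : (x : G) ∈ Subgroup.center G := by
        apply h
        · obtain ⟨j, hj⟩ := hx
          exact ⟨j, by rw [Subgroup.orderOf_coe]; exact hj⟩
        · obtain ⟨c, hc⟩ := isConj_iff.mp hconj
          exact isConj_iff.mpr ⟨(c : G), by
            have := congrArg Subtype.val hc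
            simpa using this⟩
      rw [Subgroup.mem_center_iff] at hxG ⊢
      intro y
      exact Subtype.ext (hxG y)
    obtain ⟨Q, g, hQ, hgN, hgc, hgC, htop⟩ := Cfsg.Agent.S0132.exists_pair hnot h2
    have hQn : Q.Normal := by
      have : Subgroup.normalizer (Q : Set G) = ⊤ := by
        apply top_unique
        rw [← htop]
        exact sup_le Subgroup.le_normalizer ((Subgroup.zpowers_le).mpr hgN)
      exact Subgroup.normalizer_eq_top_iff.mp this
    -- Q is nontrivial
    have hQnt : Nontrivial Q := by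
      rw [Subgroup.nontrivial_iff_ne_bot]
      intro hbot
      apply hgC
      rw [Subgroup.mem_centralizer_iff]
      intro x hx
      rw [SetLike.mem_coe, hbot, Subgroup.mem_bot] at hx
      rw [hx]; simp
    -- the Frattini subgroup of Q inside G
    set F : Subgroup G := (frattini Q).map Q.subtype with hFdef
    have hFn : F.Normal := ConjAct.normal_of_characteristic_of_normal
    have hFQ : F ≤ Q := Subgroup.map_subtype_le _
    have hFp : IsPGroup 2 F := hQ.to_le hFQ
    have helt2 : ∀ z : G, z ∈ Q → ∃ k : ℕ, orderOf z = 2 ^ k := by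
      intro z hz
      obtain ⟨k, hk⟩ := (IsPGroup.iff_orderOf.mp hQ) ⟨z, hz⟩
      exact ⟨k, by rw [← hk, Subgroup.orderOf_mk]⟩
    have hodd_triv : ∀ z : G, z ∈ Q → orderOf z ∣ orderOf g → z = 1 := by
      intro z hz hdvd
      obtain ⟨k, hk⟩ := helt2 z hz
      have hcop : (orderOf z).Coprime (orderOf z) := by
        have h1 : (orderOf z).Coprime 2 := Nat.Coprime.coprime_dvd_left hdvd hgc
        rw [hk] at h1 ⊢
        exact (Nat.Coprime.pow_right k h1)
      exact orderOf_eq_one_iff.mp ((Nat.coprime_self _).mp hcop)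
    have hKne : F ⊔ Subgroup.zpowers g ≠ ⊤ := by
      intro hK
      have hle : Q ≤ F := by
        intro q hq
        have hqK : q ∈ ((F ⊔ Subgroup.zpowers g : Subgroup G) : Set G) := by
          rw [hK]; trivial
        rw [Subgroup.normal_mul] at hqK
        obtain ⟨f, hf, z, hz, hfz⟩ := Set.mem_mul.mp hqK
        have hzQ : z ∈ Q := by
          have : z = f⁻¹ * q := by rw [← hfz]; group
          rw [this]
          exact Q.mul_mem (Q.inv_mem (hFQ hf)) hq
        have hz1 : z = 1 := hodd_triv z hzQ (orderOf_dvd_of_mem_zpowers hz)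
        rw [hz1, mul_one] at hfz
        rw [← hfz]; exact hf
      have hlt : frattini Q < ⊤ := Cfsg.Agent.Lib.Helper24.frattini_lt_top
      apply hlt.ne
      rw [eq_top_iff]
      intro x _
      obtain ⟨y, hy, hyx⟩ := Subgroup.mem_map.mp (hle x.2)
      have : y = x := Subtype.ext hyx
      rw [← this]; exact hy
    have hgNF : g ∈ Subgroup.normalizer (F : Set G) := by
      rw [Subgroup.normalizer_eq_top_iff.mpr hFn]; trivial
    have hgCF := cent_of_proper h2 F hFp g hgNF hgc hKne
    -- now the key computation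
    apply hgC
    rw [Subgroup.mem_centralizer_iff]
    intro u hu
    rw [SetLike.mem_coe] at hu
    set w : G := g * u * g⁻¹ with hw
    have hwQ : w ∈ Q := hQn.conj_mem u hu g
    have hu2 : u ^ 2 ∈ F := by
      have := pow_mem_frattini (P := Q) hQ ⟨u, hu⟩
      exact Subgroup.mem_map.mpr ⟨_, this, by simp⟩
    have hcomm : (u * u) * g = g * (u * u) := by
      have := (Subgroup.mem_centralizer_iff.mp hgCF) _ hu2
      rwa [pow_two] at this
    have hw2 : w * w = u * u := by
      have : w * w = g * (u * u) * g⁻¹ := by simp only [hw]; group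
      rw [this, ← hcomm]; group
    set v : G := u⁻¹ * w with hv
    have hvQ : v ∈ Q := Q.mul_mem (Q.inv_mem hu) hwQ
    have hvc : v ∈ Subgroup.center G := by
      apply h v (helt2 v hvQ)
      rw [isConj_iff]
      refine ⟨u, ?_⟩
      have e1 : u * v * u⁻¹ = w * u⁻¹ := by rw [hv]; group
      have e2 : v⁻¹ = w⁻¹ * u := by rw [hv]; group
      rw [e1, e2]
      have : w⁻¹ * u = w⁻¹ * (u * u) * u⁻¹ := by group
      rw [this, ← hw2]; group
    have hgu : g * u * g⁻¹ = u * v := by simp only [hv, hw]; group
    have hpow : ∀ m : ℕ, g ^ m * u * (g ^ m)⁻¹ = u * v ^ m := by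
      intro m
      induction m with
      | zero => simp
      | succ m ihm =>
        have hvm : v ^ m ∈ Subgroup.center G := Subgroup.pow_mem _ hvc m
        have hcv : g * v ^ m = v ^ m * g := ((Subgroup.mem_center_iff.mp hvm) g)
        calc g ^ (m + 1) * u * (g ^ (m + 1))⁻¹
            = g * (g ^ m * u * (g ^ m)⁻¹) * g⁻¹ := by rw [pow_succ']; group
          _ = g * (u * v ^ m) * g⁻¹ := by rw [ihm]
          _ = (g * u * g⁻¹) * (g * v ^ m * g⁻¹) := by group
          _ = (u * v) * (v ^ m) := by rw [hgu, hcv]; group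
          _ = u * v ^ (m + 1) := by rw [pow_succ']; group
    have hfin := hpow (orderOf g)
    rw [pow_orderOf_eq_one] at hfin
    simp only [one_mul, inv_one, mul_one] at hfin
    have hv1 : v ^ orderOf g = 1 := by
      have := congrArg (fun t => u⁻¹ * t) hfin
      simpa using this.symm
    have hv_one : v = 1 := hodd_triv v hvQ (orderOf_dvd_of_pow_eq_one hv1)
    rw [hv_one, mul_one] at hgu
    calc u * g = (g * u * g⁻¹) * g := by rw [hgu]
      _ = g * u := by group

/-- If every 2-element of the finite group G that is conjugate to its inverse lies in the centre of G, then G has a normal 2-complement. -/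
theorem result {G : Type*} [Group G] [Finite G] (h : ∀ x : G, (∃ j : ℕ, orderOf x = 2 ^ j) → IsConj x x⁻¹ → x ∈ Subgroup.center G) : Cfsg.HasNormalPComplement 2 G :=
  aux _ G rfl h

end Cfsg.Agent.S3862
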