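import Cfsg.Statements.S3863
import Cfsg.Agent.Lib.Helper64.Real

set_option autoImplicit false
open Cfsg

namespace Cfsg.Agent.S3863

open Cfsg.Agent.Lib.Helper64

theorem card_class {G : Type*} [Group G] [Finite G] (x : G) :
    Nat.card {y : G // IsConj x y} = (Subgroup.centralizer ({x} : Set G)).index := by
  have h1 : (Subgroup.centralizer ({x} : Set G)).index
      = (MulAction.stabilizer (ConjAct G) x).index := by
    rw [Subgroup.centralizer_eq_comap_stabilizer]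
    exact Subgroup.index_comap_of_surjective (MulAction.stabilizer (ConjAct G) x)
      (f := (ConjAct.toConjAct (G := G)).toMonoidHom) (ConjAct.toConjAct (G := G)).surjective
  rw [h1, MulAction.index_stabilizer, ← Nat.card_coe_set_eq]
  apply Nat.card_congr
  apply Equiv.subtypeEquivRight
  intro y
  rw [ConjAct.mem_orbit_conjAct]
  exact ⟨IsConj.symm, IsConj.symm⟩

theorem sq_eq_one_of_odd_class {G : Type*} [Group G] [Finite G] (x : G) (hx : IsConj x x⁻¹)
    (hodd : Odd (Subgroup.centralizer ({x} : Set G)).index) : x ^ 2 = 1 := by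
  classical
  letI : Fintype {y : G // IsConj x y} := Fintype.ofFinite _
  have hcard : Fintype.card {y : G // IsConj x y} = (Subgroup.centralizer ({x} : Set G)).index := by
    rw [← Nat.card_eq_fintype_card, card_class]
  have hinv : ∀ y : G, IsConj x y → IsConj x y⁻¹ := by
    intro y hy
    obtain ⟨g, hg⟩ := isConj_iff.mp hy
    refine hx.trans (isConj_iff.mpr ⟨g, ?_⟩)
    rw [← hg]; group
  let σ : Equiv.Perm {y : G // IsConj x y} :=
    ⟨fun y => ⟨y.1⁻¹, hinv y.1 y.2⟩, fun y => ⟨y.1⁻¹, hinv y.1 y.2⟩,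
      fun y => Subtype.ext (inv_inv y.1), fun y => Subtype.ext (inv_inv y.1)⟩
  have hσ : σ ^ 2 ^ 1 = 1 := by
    ext y
    simp [σ, pow_two]
  have : Fact (Nat.Prime 2) := ⟨Nat.prime_two⟩
  obtain ⟨a, ha⟩ := Equiv.Perm.exists_fixed_point_of_prime (p := 2) (n := 1)
    (by rw [hcard]; exact hodd.not_two_dvd_nat) hσ
  have ha' : (a.1)⁻¹ = a.1 := congrArg Subtype.val ha
  obtain ⟨g, hg⟩ := isConj_iff.mp a.2
  have h1 : a.1 ^ 2 = 1 := by
    rw [pow_two]
    nth_rewrite 1 [← ha']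
    exact inv_mul_cancel _
  rw [← hg] at h1
  have h2 : g * x ^ 2 * g⁻¹ = 1 := by
    rw [← h1, conj_pow]
  have h3 : x ^ 2 = g⁻¹ * (g * x ^ 2 * g⁻¹) * g := by group
  rw [h3, h2]; group

theorem result {G : Type*} [Group G] [Finite G] (x : G) (hx : IsConj x x⁻¹) : (∃ t : G, (∃ j : ℕ, orderOf t = 2 ^ j) ∧ t * x * t⁻¹ = x⁻¹) ∧ (Odd (Subgroup.centralizer ({x} : Set G)).index → x ^ 2 = 1) ∧ ∀ (N : Subgroup G) [N.Normal], Odd N.index → ∃ hxN : x ∈ N, IsConj (⟨x, hxN⟩ : N) (⟨x, hxN⟩ : N)⁻¹ := by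
  refine ⟨exists_two_element_inverting hx, sq_eq_one_of_odd_class x hx, ?_⟩
  intro N _ hodd
  obtain ⟨t, ⟨j, hj⟩, ht⟩ := exists_two_element_inverting hx
  have htN : t ∈ N := by
    apply mem_of_coprime_orderOf_index
    rw [hj]
    exact (Nat.coprime_two_left.mpr hodd).pow_left j
  have hx2 : x⁻¹ * x⁻¹ ∈ N := by
    have h1 : x⁻¹ * x⁻¹ = t * (x * t⁻¹ * x⁻¹) := by
      rw [← ht]; group
    rw [h1]
    exact N.mul_mem htN (‹N.Normal›.conj_mem _ (N.inv_mem htN) x)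
  have hx2' : x ^ 2 ∈ N := by
    have : x ^ 2 = (x⁻¹ * x⁻¹)⁻¹ := by group
    rw [this]
    exact N.inv_mem hx2
  have hxN : x ∈ N := by
    obtain ⟨k, hk⟩ := hodd
    have h1 : x ^ N.index ∈ N := N.pow_index_mem x
    have h2 : x = x ^ N.index * ((x ^ 2) ^ k)⁻¹ := by
      rw [hk, ← pow_mul, pow_succ]; group
    rw [h2]
    exact N.mul_mem h1 (N.inv_mem (N.pow_mem hx2' k))
  refine ⟨hxN, isConj_iff.mpr ⟨⟨t, htN⟩, ?_⟩⟩
  apply Subtype.ext
  simpa using ht

end Cfsg.Agent.S3863
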