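import Cfsg.Statements.S3864
import Cfsg.Agent.Lib.Helper4.DihedralSylow

set_option autoImplicit false
open Cfsg

namespace Cfsg.Agent.S3864

open DihedralGroup Cfsg.Agent.Lib.Helper4 Cfsg.Agent.Lib.Helper4.DF Cfsg.Agent.Lib.Helper4.DS

/-- Let G be a finite group whose Sylow 2-subgroups are dihedral of order 2 ^ n with n ≥ 3, and count the conjugacy classes of involutions of G. Then exactly one of the following holds: there is one class of involutions and no normal subgroup of index 2; there are two classes of involutions, a normal subgroup of index 2 and none of index 4; there are three classes of involutions and G has a normal 2-complement. -/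
theorem result {G : Type*} [Group G] [Finite G] (P : Sylow 2 G) (n : ℕ) (hn : 3 ≤ n) (hdih : Nonempty (↥(P : Subgroup G) ≃* DihedralGroup (2 ^ (n - 1)))) : (Nat.card {C : ConjClasses G // ∃ g : G, ConjClasses.mk g = C ∧ orderOf g = 2} = 1 ∧ ∀ N : Subgroup G, N.Normal → N.index ≠ 2) ∨ (Nat.card {C : ConjClasses G // ∃ g : G, ConjClasses.mk g = C ∧ orderOf g = 2} = 2 ∧ (∃ N : Subgroup G, N.Normal ∧ N.index = 2) ∧ ∀ N : Subgroup G, N.Normal → N.index ≠ 4) ∨ (Nat.card {C : ConjClasses G // ∃ g : G, ConjClasses.mk g = C ∧ orderOf g = 2} = 3 ∧ Cfsg.HasNormalPComplement 2 G) := by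
  classical
  have : Fact (Nat.Prime 2) := ⟨Nat.prime_two⟩
  obtain ⟨e⟩ := hdih
  set m := 2 ^ (n - 1) with hmdef
  obtain ⟨k, hk⟩ : ∃ k, n - 1 = k + 2 := ⟨n - 3, by omega⟩
  have h4 : 4 ∣ m := by
    rw [hmdef, hk, pow_add]; exact Dvd.intro_left _ rfl
  have hm : Even m := by
    obtain ⟨c, hc⟩ := h4
    exact ⟨2 * c, by omega⟩
  have hm2 : 2 ≤ m := by
    obtain ⟨c, hc⟩ := h4
    have : 0 < m := by rw [hmdef]; positivity
    omega
  let ι : DihedralGroup m →* G := (P : Subgroup G).subtype.comp e.symm.toMonoidHom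
  have hι : Function.Injective ι := by
    intro a b hab
    exact e.symm.injective (Subtype.val_injective hab)
  have hP : (P : Subgroup G) = ι.range := by
    rw [MonoidHom.range_comp, MonoidHom.range_eq_top_of_surjective _ e.symm.surjective,
      ← MonoidHom.range_eq_map, Subgroup.range_subtype]
  have hcard := card_invol_classes ι P hP hι hm hm2
  have hab : (r 1 * sr 0 : DihedralGroup m) = sr (-1) := by rw [r_mul_sr, zero_sub]
  by_cases hF1 : IsConj (ι (zc m)) (ι (sr 0))
  · by_cases hF2 : IsConj (ι (zc m)) (ι (r 1 * sr 0))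
    · -- all fused
      left
      have h1 : ConjClasses.mk (ι (sr 0)) = ConjClasses.mk (ι (zc m)) :=
        (ConjClasses.mk_eq_mk_iff_isConj.mpr hF1).symm
      have h2 : ConjClasses.mk (ι (r 1 * sr 0)) = ConjClasses.mk (ι (zc m)) :=
        (ConjClasses.mk_eq_mk_iff_isConj.mpr hF2).symm
      refine ⟨?_, ?_⟩
      · rw [hcard, h1, h2]
        simp
      · apply no_index_two_of_all_conj ι P hP hι hm hm2
        have hz : ∀ t : G, orderOf t = 2 → IsConj t (ι (zc m)) := by
          intro t ht
          rcases invol_rep ι P hP hι hm2 t ht with h | h | h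
          · exact h
          · exact h.trans hF1.symm
          · exact h.trans hF2.symm
        intro s t hs ht
        exact (hz s hs).trans (hz t ht).symm
    · -- z ~ b, z ≁ ab
      right; left
      have h1 : ConjClasses.mk (ι (sr 0)) = ConjClasses.mk (ι (zc m)) :=
        (ConjClasses.mk_eq_mk_iff_isConj.mpr hF1).symm
      have h2 : ConjClasses.mk (ι (zc m)) ≠ ConjClasses.mk (ι (r 1 * sr 0)) :=
        fun h => hF2 (ConjClasses.mk_eq_mk_iff_isConj.mp h)
      refine ⟨?_, ?_, ?_⟩
      · rw [hcard, h1]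
        simp only [Set.insert_eq_of_mem, Set.mem_insert_iff, true_or]
        exact Set.ncard_pair h2
      · apply exists_index_two ι P hP hι hm2 (-1)
        rw [← hab]; exact hF2
      · exact no_index_four ι P hP hm2 h4 0 hF1
  · by_cases hF2 : IsConj (ι (zc m)) (ι (r 1 * sr 0))
    · right; left
      have h2 : ConjClasses.mk (ι (r 1 * sr 0)) = ConjClasses.mk (ι (zc m)) :=
        (ConjClasses.mk_eq_mk_iff_isConj.mpr hF2).symm
      have h1 : ConjClasses.mk (ι (zc m)) ≠ ConjClasses.mk (ι (sr 0)) :=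
        fun h => hF1 (ConjClasses.mk_eq_mk_iff_isConj.mp h)
      refine ⟨?_, ?_, ?_⟩
      · rw [hcard, h2]
        rw [Set.pair_comm (ConjClasses.mk (ι (sr 0))), Set.insert_eq_of_mem (by simp)]
        exact Set.ncard_pair h1
      · exact exists_index_two ι P hP hι hm2 0 hF1
      · apply no_index_four ι P hP hm2 h4 (-1)
        rw [← hab]; exact hF2
    · -- no fusion: normal 2-complement
      right; right
      have hfrob := frobenius_cond ι P hP hι hm hm2 hF1 hF2
      obtain ⟨N, hN, hc⟩ := (Cfsg.Agent.S0071.result P).mpr hfrob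
      have hF12 : ¬ IsConj (ι (sr 0)) (ι (r 1 * sr 0)) := by
        intro h
        obtain ⟨g, hg⟩ := isConj_iff.mp h
        have hb : ι (sr 0) ∈ (P : Subgroup G) := hP ▸ ⟨_, rfl⟩
        have hab' : ι (r 1 * sr 0) ∈ (P : Subgroup G) := hP ▸ ⟨_, rfl⟩
        obtain ⟨s, hs, hs'⟩ := conj_in_sylow_of_complement hN hc _ _ hb hab' g hg
        rw [hP] at hs
        obtain ⟨d, rfl⟩ := hs
        rw [← map_inv, ← map_mul, ← map_mul] at hs'
        exact not_conj_sr_zero hm d (hι hs')
      refine ⟨?_, ⟨P, N, hN, hc⟩⟩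
      rw [hcard, Set.ncard_eq_three]
      refine ⟨_, _, _, ?_, ?_, ?_, rfl⟩
      · exact fun h => hF1 (ConjClasses.mk_eq_mk_iff_isConj.mp h)
      · exact fun h => hF2 (ConjClasses.mk_eq_mk_iff_isConj.mp h)
      · exact fun h => hF12 (ConjClasses.mk_eq_mk_iff_isConj.mp h)

end Cfsg.Agent.S3864
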