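import Mathlib
import Cfsg.Statements.S3866

set_option autoImplicit false
open Cfsg

namespace Cfsg.Agent.S3866

theorem result {G : Type*} [Group G] [Finite G] (A : Subgroup G) [A.Normal] (hA : IsMulCommutative A) (x : G) (hgen : A ⊔ Subgroup.zpowers x = ⊤) : (∀ a ∈ A, x * a * x⁻¹ * a⁻¹ ∈ commutator G) ∧ (∀ c ∈ commutator G, ∃ a ∈ A, x * a * x⁻¹ * a⁻¹ = c) ∧ (∀ a ∈ A, ∀ b ∈ A, x * (a * b) * x⁻¹ * (a * b)⁻¹ = (x * a * x⁻¹ * a⁻¹) * (x * b * x⁻¹ * b⁻¹)) ∧ Nat.card (commutator G) * Nat.card ↥(A ⊓ Subgroup.centralizer ({x} : Set G)) = Nat.card A := by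
  classical
  have hcomm : ∀ a ∈ A, ∀ b ∈ A, a * b = b * a := by
    intro a ha b hb
    have := hA.is_comm.comm (⟨a, ha⟩ : A) ⟨b, hb⟩
    exact congrArg Subtype.val this
  have hxA : ∀ a ∈ A, x * a * x⁻¹ ∈ A := fun a ha => ‹A.Normal›.conj_mem a ha x
  have hxA' : ∀ a ∈ A, x⁻¹ * a * x ∈ A := fun a ha => by
    have := ‹A.Normal›.conj_mem a ha x⁻¹
    rwa [inv_inv] at this
  have hcA : ∀ a ∈ A, x * a * x⁻¹ * a⁻¹ ∈ A := fun a ha => A.mul_mem (hxA a ha) (A.inv_mem ha)
  have hhom : ∀ a ∈ A, ∀ b ∈ A, x * (a * b) * x⁻¹ * (a * b)⁻¹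
      = (x * a * x⁻¹ * a⁻¹) * (x * b * x⁻¹ * b⁻¹) := by
    intro a ha b hb
    have h1 := hcomm _ (hcA b hb) _ (A.inv_mem ha)
    calc x * (a * b) * x⁻¹ * (a * b)⁻¹ = x * a * x⁻¹ * ((x * b * x⁻¹ * b⁻¹) * a⁻¹) := by group
      _ = x * a * x⁻¹ * (a⁻¹ * (x * b * x⁻¹ * b⁻¹)) := by rw [h1]
      _ = _ := by group
  let φ : A →* A :=
    { toFun := fun a => ⟨x * a * x⁻¹ * a⁻¹, hcA a a.2⟩
      map_one' := by apply Subtype.ext; simp
      map_mul' := fun a b => by
        apply Subtype.ext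
        simpa using hhom a a.2 b b.2 }
  have hφ : ∀ a : A, ((φ a : A) : G) = x * a * x⁻¹ * (a : G)⁻¹ := fun a => rfl
  let I : Subgroup G := φ.range.map A.subtype
  have hI : ∀ g, g ∈ I ↔ ∃ a ∈ A, x * a * x⁻¹ * a⁻¹ = g := by
    intro g
    constructor
    · rintro ⟨y, ⟨a, rfl⟩, rfl⟩
      exact ⟨a, a.2, rfl⟩
    · rintro ⟨a, ha, rfl⟩
      exact ⟨φ ⟨a, ha⟩, ⟨⟨a, ha⟩, rfl⟩, rfl⟩
  have hIA : I ≤ A := by
    intro g hg
    obtain ⟨a, ha, rfl⟩ := (hI g).mp hg
    exact hcA a ha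
  have hxI : ∀ n, n ∈ I → x * n * x⁻¹ ∈ I := by
    intro n hn
    obtain ⟨a, ha, rfl⟩ := (hI n).mp hn
    refine (hI _).mpr ⟨x * a * x⁻¹, hxA a ha, ?_⟩
    group
  have hxI' : ∀ n, n ∈ I → x⁻¹ * n * x ∈ I := by
    intro n hn
    obtain ⟨a, ha, rfl⟩ := (hI n).mp hn
    refine (hI _).mpr ⟨x⁻¹ * a * x, hxA' a ha, ?_⟩
    group
  have hInormal : I.Normal := by
    rw [← Subgroup.normalizer_eq_top_iff, eq_top_iff, ← hgen, sup_le_iff]
    constructor
    · intro a ha
      rw [Subgroup.mem_normalizer_iff]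
      intro n
      constructor
      · intro hn
        have : a * n * a⁻¹ = n := by
          rw [hcomm a ha n (hIA hn)]; group
        rwa [this]
      · intro hn
        have hnA : n ∈ A := by
          have h1 := hIA hn
          have h2 : n = a⁻¹ * (a * n * a⁻¹) * a := by group
          rw [h2]
          exact A.mul_mem (A.mul_mem (A.inv_mem ha) h1) ha
        have : a * n * a⁻¹ = n := by
          rw [hcomm a ha n hnA]; group
        rwa [this] at hn
    · rw [Subgroup.zpowers_le]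
      rw [Subgroup.mem_normalizer_iff]
      intro n
      constructor
      · exact hxI n
      · intro hn
        have := hxI' _ hn
        have h2 : x⁻¹ * (x * n * x⁻¹) * x = n := by group
        rwa [h2] at this
  have hge : I ≤ commutator G := by
    intro g hg
    obtain ⟨a, ha, rfl⟩ := (hI g).mp hg
    rw [commutator_def]
    exact Subgroup.commutator_mem_commutator (Subgroup.mem_top x) (Subgroup.mem_top a)
  have hle : commutator G ≤ I := by
    rw [commutator_def, Subgroup.commutator_le]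
    intro g _ h _
    -- the quotient by I is commutative
    let π := QuotientGroup.mk' I
    let S : Set (G ⧸ I) := π '' ((A : Set G) ∪ {x})
    have hS : Subgroup.closure S = ⊤ := by
      have h1 : Subgroup.closure ((A : Set G) ∪ {x}) = ⊤ := by
        rw [Subgroup.closure_union, Subgroup.closure_eq, ← Subgroup.zpowers_eq_closure, hgen]
      show Subgroup.closure (π '' ((A : Set G) ∪ {x})) = ⊤
      rw [← MonoidHom.map_closure, h1, ← MonoidHom.range_eq_map, MonoidHom.range_eq_top]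
      exact QuotientGroup.mk'_surjective I
    have hSc : ∀ u ∈ S, ∀ v ∈ S, u * v = v * u := by
      have hxa : ∀ a ∈ A, π x * π a = π a * π x := by
        intro a ha
        rw [← map_mul, ← map_mul]
        apply (QuotientGroup.eq).mpr
        have : (x * a)⁻¹ * (a * x) = x⁻¹ * (x * (a⁻¹ * x⁻¹ * a * x) * x⁻¹) * x := by group
        have h3 : x * a⁻¹ * x⁻¹ * a⁻¹⁻¹ ∈ I := (hI _).mpr ⟨a⁻¹, A.inv_mem ha, rfl⟩
        have h4 : (x * a)⁻¹ * (a * x) = x⁻¹ * (x * a⁻¹ * x⁻¹ * a⁻¹⁻¹) * x := by group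
        rw [h4]
        exact hxI' _ h3
      rintro u ⟨a, ha, rfl⟩ v ⟨b, hb, rfl⟩
      rcases ha with ha | ha <;> rcases hb with hb | hb
      · rw [← map_mul, ← map_mul, hcomm a ha b hb]
      · rw [Set.mem_singleton_iff] at hb; subst hb
        exact (hxa a ha).symm
      · rw [Set.mem_singleton_iff] at ha; subst ha
        exact hxa b hb
      · rw [Set.mem_singleton_iff] at ha hb; subst ha; subst hb; rfl
    have hQ := Subgroup.isMulCommutative_closure hSc
    rw [hS] at hQ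
    have hgh : π g * π h = π h * π g := by
      have := hQ.is_comm.comm (⟨π g, Subgroup.mem_top _⟩ : (⊤ : Subgroup (G ⧸ I))) ⟨π h, Subgroup.mem_top _⟩
      exact congrArg Subtype.val this
    have : π (g * h * g⁻¹ * h⁻¹) = 1 := by
      rw [map_mul, map_mul, map_mul, map_inv, map_inv, hgh]
      group
    rw [commutatorElement_def]
    exact (QuotientGroup.eq_one_iff _).mp this
  have hEq : commutator G = I := le_antisymm hle hge
  refine ⟨fun a ha => hge ((hI _).mpr ⟨a, ha, rfl⟩), fun c hc => (hI c).mp (hle hc), hhom, ?_⟩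
  rw [hEq]
  have h1 : Nat.card I = Nat.card φ.range :=
    Subgroup.card_map_of_injective A.subtype_injective
  have h2 : Nat.card ↥(A ⊓ Subgroup.centralizer ({x} : Set G)) = Nat.card φ.ker := by
    apply Nat.card_congr
    refine ⟨fun a => ⟨⟨a.1, a.2.1⟩, ?_⟩, fun a => ⟨a.1.1, a.1.2, ?_⟩, fun a => rfl, fun a => rfl⟩
    · rw [MonoidHom.mem_ker]
      apply Subtype.ext
      have h : a.1 ∈ Subgroup.centralizer ({x} : Set G) := a.2.2
      rw [Subgroup.mem_centralizer_iff] at h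
      have h' := h x (Set.mem_singleton x)
      show x * a.1 * x⁻¹ * (a.1)⁻¹ = 1
      rw [h']; group
    · have h := a.2
      rw [MonoidHom.mem_ker] at h
      have h' : x * a.1.1 * x⁻¹ * (a.1.1)⁻¹ = 1 := congrArg Subtype.val h
      show a.1.1 ∈ Subgroup.centralizer ({x} : Set G)
      rw [Subgroup.mem_centralizer_iff]
      intro y hy
      rw [Set.mem_singleton_iff] at hy; subst hy
      have : y * a.1.1 = (y * a.1.1 * y⁻¹ * (a.1.1)⁻¹) * a.1.1 * y := by group
      rw [this, h', one_mul]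
  rw [h1, h2, ← Subgroup.index_ker, mul_comm]
  exact Subgroup.card_mul_index φ.ker

end Cfsg.Agent.S3866
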