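import Mathlib
import Cfsg.Statements.S3867
import Cfsg.Agent.Lib.Helper64.SylowMax
import Cfsg.Agent.Lib.Helper64.SylowCount

set_option autoImplicit false
open Cfsg

namespace Cfsg.Agent.S3867

open Cfsg.Agent.Lib.Helper64

theorem conj_mem_of_mul_mem_normalizer {G : Type*} [Group G] [Finite G] {p : ℕ} [Fact p.Prime]
    (P : Sylow p G) (M N : Subgroup G) [M.Normal] [N.Normal] (hMN : M ⊓ N = ⊥) {m n : G}
    (hm : m ∈ M) (hn : n ∈ N)
    (hz : m * n ∈ Subgroup.normalizer ((P : Subgroup G) : Set G)) {g : G}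
    (hg : g ∈ (P : Subgroup G)) : m * g * m⁻¹ ∈ (P : Subgroup G) := by
  have hdisj : Disjoint M N := disjoint_iff.mpr hMN
  have hcomm : ∀ a ∈ M, ∀ b ∈ N, a * b = b * a := fun a ha b hb =>
    (Subgroup.commute_of_normal_of_disjoint M N inferInstance inferInstance hdisj a b ha hb).eq
  obtain ⟨SM, hSM⟩ := exists_sylow_inf_normal P M
  set X : Subgroup G := (((P : Subgroup G) ⊓ (M ⊔ N)) ⊔ N) ⊓ M with hX
  have hXp : IsPGroup p X := by
    rintro ⟨x, hx1, hxM⟩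
    obtain ⟨q, hq, y, hy, hqy⟩ := Subgroup.mem_sup_of_normal_right.mp hx1
    obtain ⟨k, hk⟩ := P.isPGroup' ⟨q, hq.1⟩
    have hk' : q ^ p ^ k = 1 := congrArg Subtype.val hk
    refine ⟨k, Subtype.ext ?_⟩
    show x ^ p ^ k = 1
    have hq' : q = x * y⁻¹ := by rw [← hqy]; group
    have hc : Commute x y⁻¹ := hcomm x hxM y⁻¹ (N.inv_mem hy)
    rw [hq', hc.mul_pow] at hk'
    have h1 : x ^ p ^ k = ((y⁻¹) ^ p ^ k)⁻¹ := eq_inv_of_mul_eq_one_left hk'
    have h2 : x ^ p ^ k ∈ M ⊓ N :=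
      ⟨M.pow_mem hxM _, h1 ▸ N.inv_mem (N.pow_mem (N.inv_mem hy) _)⟩
    rw [hMN, Subgroup.mem_bot] at h2
    exact h2
  have hQX : (P : Subgroup G) ⊓ M ≤ X := fun x hx =>
    ⟨Subgroup.mem_sup_left ⟨hx.1, Subgroup.mem_sup_left hx.2⟩, hx.2⟩
  have hXeq : X ≤ (P : Subgroup G) ⊓ M := by
    have h1 : IsPGroup p (X.subgroupOf M) := hXp.comap_subtype
    have h2 : (SM : Subgroup M) ≤ X.subgroupOf M := by
      intro s hs
      rw [Subgroup.mem_subgroupOf]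
      apply hQX
      rw [← hSM]; exact ⟨s, hs, rfl⟩
    have h3 := SM.is_maximal' h1 h2
    intro x hx
    rw [← hSM, ← h3]
    exact ⟨⟨x, hx.2⟩, Subgroup.mem_subgroupOf.mpr hx, rfl⟩
  have hzg : (m * n) * g * (m * n)⁻¹ ∈ (P : Subgroup G) :=
    (Subgroup.mem_normalizer_iff.mp hz g).mp hg
  have hyN : n * g * n⁻¹ * g⁻¹ ∈ N := by
    have : n * g * n⁻¹ * g⁻¹ = n * (g * n⁻¹ * g⁻¹) := by group
    rw [this]
    exact N.mul_mem hn (‹N.Normal›.conj_mem _ (N.inv_mem hn) g)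
  have hxM : m * g * m⁻¹ * g⁻¹ ∈ M := by
    have : m * g * m⁻¹ * g⁻¹ = m * (g * m⁻¹ * g⁻¹) := by group
    rw [this]
    exact M.mul_mem hm (‹M.Normal›.conj_mem _ (M.inv_mem hm) g)
  have hc : (m * n) * g * (m * n)⁻¹ * g⁻¹ = (m * g * m⁻¹ * g⁻¹) * (n * g * n⁻¹ * g⁻¹) := by
    have e1 := hcomm m hm _ hyN
    calc (m * n) * g * (m * n)⁻¹ * g⁻¹
        = (m * (n * g * n⁻¹ * g⁻¹)) * g * m⁻¹ * g⁻¹ := by group
      _ = ((n * g * n⁻¹ * g⁻¹) * m) * g * m⁻¹ * g⁻¹ := by rw [e1]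
      _ = (n * g * n⁻¹ * g⁻¹) * (m * g * m⁻¹ * g⁻¹) := by group
      _ = (m * g * m⁻¹ * g⁻¹) * (n * g * n⁻¹ * g⁻¹) := (hcomm _ hxM _ hyN).symm
  have hcP : (m * g * m⁻¹ * g⁻¹) * (n * g * n⁻¹ * g⁻¹) ∈ (P : Subgroup G) := by
    rw [← hc]
    exact Subgroup.mul_mem _ hzg (Subgroup.inv_mem _ hg)
  have hxX : m * g * m⁻¹ * g⁻¹ ∈ X := by
    refine ⟨?_, hxM⟩
    have e : m * g * m⁻¹ * g⁻¹
        = ((m * g * m⁻¹ * g⁻¹) * (n * g * n⁻¹ * g⁻¹)) * (n * g * n⁻¹ * g⁻¹)⁻¹ := by group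
    rw [e]
    exact Subgroup.mul_mem_sup ⟨hcP, Subgroup.mul_mem_sup hxM hyN⟩ (N.inv_mem hyN)
  have hxP : m * g * m⁻¹ * g⁻¹ ∈ (P : Subgroup G) := (hXeq hxX).1
  have : m * g * m⁻¹ = (m * g * m⁻¹ * g⁻¹) * g := by group
  rw [this]
  exact Subgroup.mul_mem _ hxP hg

theorem mem_normalizer_of_mul_mem {G : Type*} [Group G] [Finite G] {p : ℕ} [Fact p.Prime]
    (P : Sylow p G) (M N : Subgroup G) [M.Normal] [N.Normal] (hMN : M ⊓ N = ⊥) {m n : G}
    (hm : m ∈ M) (hn : n ∈ N)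
    (hz : m * n ∈ Subgroup.normalizer ((P : Subgroup G) : Set G)) :
    m ∈ Subgroup.normalizer ((P : Subgroup G) : Set G) := by
  have hdisj : Disjoint M N := disjoint_iff.mpr hMN
  have hcomm : m * n = n * m :=
    (Subgroup.commute_of_normal_of_disjoint M N inferInstance inferInstance hdisj m n hm hn).eq
  rw [Subgroup.mem_normalizer_iff]
  intro g
  constructor
  · intro hg
    exact conj_mem_of_mul_mem_normalizer P M N hMN hm hn hz hg
  · intro hg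
    have hz' : m⁻¹ * n⁻¹ ∈ Subgroup.normalizer ((P : Subgroup G) : Set G) := by
      have : m⁻¹ * n⁻¹ = (m * n)⁻¹ := by rw [hcomm]; group
      rw [this]
      exact Subgroup.inv_mem _ hz
    have := conj_mem_of_mul_mem_normalizer P M N hMN (M.inv_mem hm) (N.inv_mem hn) hz' hg
    convert this using 1; group

theorem result {G : Type*} [Group G] [Finite G] (p : ℕ) [Fact p.Prime] (M N : Subgroup G) [M.Normal] [N.Normal] (hM : M ≠ ⊥) (hN : N ≠ ⊥) (hMN : M ⊓ N = ⊥) : Nat.card (Sylow p G) * Nat.card (Sylow p (G ⧸ (M ⊔ N))) = Nat.card (Sylow p (G ⧸ M)) * Nat.card (Sylow p (G ⧸ N)) := by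
  classical
  let P : Sylow p G := default
  have hdisj : Disjoint M N := disjoint_iff.mpr hMN
  have hcomm : ∀ a ∈ M, ∀ b ∈ N, a * b = b * a := fun a ha b hb =>
    (Subgroup.commute_of_normal_of_disjoint M N inferInstance inferInstance hdisj a b ha hb).eq
  rw [Sylow.card_eq_index_normalizer P, card_sylow_quotient P (M ⊔ N), card_sylow_quotient P M,
    card_sylow_quotient P N]
  set H := Subgroup.normalizer ((P : Subgroup G) : Set G) with hH
  have hNM : N ⊓ M = ⊥ := by rw [inf_comm]; exact hMN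
  have c1 : Nat.card ↥(M ⊔ N) = Nat.card M * Nat.card N := by
    apply card_eq_mul_of_factor M N (M ⊔ N) hMN
    · intro a ha b hb; exact Subgroup.mul_mem_sup ha hb
    · intro c hc; exact Subgroup.mem_sup_of_normal_right.mp hc
  have c2 : Nat.card ↥(H ⊓ (M ⊔ N)) = Nat.card ↥(H ⊓ M) * Nat.card ↥(H ⊓ N) := by
    apply card_eq_mul_of_factor (H ⊓ M) (H ⊓ N) (H ⊓ (M ⊔ N))
    · rw [eq_bot_iff, ← hMN]
      exact inf_le_inf inf_le_right inf_le_right
    · intro a ha b hb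
      exact ⟨H.mul_mem ha.1 hb.1, Subgroup.mul_mem_sup ha.2 hb.2⟩
    · intro c hc
      obtain ⟨m, hm, n, hn, rfl⟩ := Subgroup.mem_sup_of_normal_right.mp hc.2
      have h1 := mem_normalizer_of_mul_mem P M N hMN hm hn hc.1
      have h2 : n * m ∈ Subgroup.normalizer ((P : Subgroup G) : Set G) := by
        rw [← hcomm m hm n hn]; exact hc.1
      have h3 := mem_normalizer_of_mul_mem P N M hNM hn hm h2
      exact ⟨m, ⟨h1, hm⟩, n, ⟨h3, hn⟩, rfl⟩
  have e1 := card_sup_mul_card_inf H M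
  have e2 := card_sup_mul_card_inf H N
  have e3 := card_sup_mul_card_inf H (M ⊔ N)
  rw [c1, c2] at e3
  have i0 := Subgroup.card_mul_index H
  have i1 := Subgroup.card_mul_index (H ⊔ M)
  have i2 := Subgroup.card_mul_index (H ⊔ N)
  have i3 := Subgroup.card_mul_index (H ⊔ (M ⊔ N))
  have pv1 : 0 < Nat.card ↥(H ⊓ M) := Nat.card_pos
  have pv2 : 0 < Nat.card ↥(H ⊓ N) := Nat.card_pos
  have pa : 0 < Nat.card H := Nat.card_pos
  have pu3 : 0 < Nat.card ↥(H ⊔ (M ⊔ N)) := Nat.card_pos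
  generalize Nat.card ↥(H ⊓ M) = v1 at *
  generalize Nat.card ↥(H ⊓ N) = v2 at *
  generalize Nat.card ↥(H ⊔ M) = u1 at *
  generalize Nat.card ↥(H ⊔ N) = u2 at *
  generalize Nat.card ↥(H ⊔ (M ⊔ N)) = u3 at *
  generalize Nat.card ↥H = a at *
  generalize Nat.card ↥M = cm at *
  generalize Nat.card ↥N = cn at *
  generalize Nat.card G = G0 at *
  generalize H.index = j0 at *
  generalize (H ⊔ M).index = j1 at *
  generalize (H ⊔ N).index = j2 at *
  generalize (H ⊔ (M ⊔ N)).index = j3 at *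
  have k1 : u1 * u2 = u3 * a := by
    have : (u1 * u2) * (v1 * v2) = (u3 * a) * (v1 * v2) := by
      calc (u1 * u2) * (v1 * v2) = (u1 * v1) * (u2 * v2) := by ring
        _ = (cm * a) * (cn * a) := by rw [e1, e2]
        _ = (u3 * (v1 * v2)) * a := by rw [e3]; ring
        _ = (u3 * a) * (v1 * v2) := by ring
    exact Nat.eq_of_mul_eq_mul_right (Nat.mul_pos pv1 pv2) this
  have k2 : (j0 * j3) * (u3 * a) = (j1 * j2) * (u3 * a) := by
    calc (j0 * j3) * (u3 * a) = (a * j0) * (u3 * j3) := by ring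
      _ = G0 * G0 := by rw [i0, i3]
      _ = (u1 * j1) * (u2 * j2) := by rw [i1, i2]
      _ = (j1 * j2) * (u1 * u2) := by ring
      _ = (j1 * j2) * (u3 * a) := by rw [k1]
  exact Nat.eq_of_mul_eq_mul_right (Nat.mul_pos pu3 pa) k2

end Cfsg.Agent.S3867
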