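import Mathlib
import Cfsg.Statements.S3868
import Cfsg.Agent.Lib.Helper64.MinNonPClosed

set_option autoImplicit false
open Cfsg

namespace Cfsg.Agent.S3868

open Cfsg.Agent.Lib.Helper64

theorem result {G : Type*} [Group G] [Finite G] {p : ℕ} [Fact p.Prime]
    (hnc : ¬ Cfsg.IsPClosed p G) (hsub : ∀ H : Subgroup G, H ≠ ⊤ → Cfsg.IsPClosed p ↥H)
    (hquo : ∀ (N : Subgroup G) [N.Normal], N ≠ ⊥ → Cfsg.IsPClosed p (G ⧸ N)) (hns : ¬ IsSimpleGroup G) :
    ∃ q : ℕ, q.Prime ∧ q ≠ p ∧ Nat.card G = p * q ^ orderOf (q : ZMod p) ∧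
      ∃ A : Subgroup G, A.Normal ∧ Nat.card ↥A = q ^ orderOf (q : ZMod p) ∧ Cfsg.IsElementaryAbelian q A ∧
        ∀ B : Subgroup G, B.Normal → B ≤ A → B = ⊥ ∨ B = A := by
  classical
  have hp : p.Prime := Fact.out
  have hnc' : ∃ P : Sylow p G, ¬ (P : Subgroup G).Normal := by
    by_contra h
    push Not at h
    exact hnc h
  obtain ⟨P, hP⟩ := hnc'
  have hsub' : ∀ H : Subgroup G, H ≠ ⊤ → ∀ S : Sylow p H, (S : Subgroup H).Normal :=
    fun H hH S => hsub H hH S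
  have hquo' : ∀ (N : Subgroup G) [N.Normal], N ≠ ⊥ →
      ∀ S : Sylow p (G ⧸ N), (S : Subgroup (G ⧸ N)).Normal := fun N _ hN S => hquo N hN S
  have hP1 : (P : Subgroup G) ≠ ⊥ := by
    intro h; apply hP; rw [h]; infer_instance
  have hGnt : Nontrivial G := by
    by_contra h
    rw [not_nontrivial_iff_subsingleton] at h
    exact hP1 (Subsingleton.elim _ _)
  obtain ⟨N₀, hN₀n, hN₀0, hN₀top⟩ : ∃ N : Subgroup G, N.Normal ∧ N ≠ ⊥ ∧ N ≠ ⊤ := by
    by_contra h
    push Not at h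
    apply hns
    refine ⟨fun H hH => ?_⟩
    by_cases h0 : H = ⊥
    · left; exact h0
    · right; exact h H hH h0
  obtain ⟨A, hAN, hAn, hA0, hAmin⟩ := exists_minimal_normal N₀ hN₀n hN₀0
  have hAtop : A ≠ ⊤ := fun h => hN₀top (top_le_iff.mp (h ▸ hAN))
  haveI := hAn
  obtain ⟨hPA, hpA, hPiA, hC, hcardP⟩ := minNonPClosed_step1 hsub' hquo' P hP A hA0 hAtop hAmin
  obtain ⟨q, hq, hqp, hAq⟩ := minNonPClosed_step2 hsub' P hP1 A hAmin hpA hC
  haveI : Fact q.Prime := ⟨hq⟩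
  obtain ⟨hcomm, hAqe⟩ := elemAbelian_of_minimal_normal_pgroup A hA0 hAmin hAq
  have hcardG : Nat.card G = Nat.card A * p := by
    have := card_sup_mul_card_inf (P : Subgroup G) A
    rw [hPA, hPiA, Subgroup.card_bot, mul_one, Subgroup.card_top, hcardP] at this
    exact this
  have hidx : A.index = p := by
    have := Subgroup.card_mul_index A
    rw [hcardG] at this
    exact Nat.eq_of_mul_eq_mul_left Nat.card_pos this
  obtain ⟨x, hx1⟩ := (Subgroup.ne_bot_iff_exists_ne_one).mp hP1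
  have hxP : (x : G) ∈ (P : Subgroup G) := x.2
  have hx1' : (x : G) ≠ 1 := fun h => hx1 (Subtype.ext h)
  have hxA : (x : G) ∉ A := by
    intro h
    have : (x : G) ∈ (P : Subgroup G) ⊓ A := ⟨hxP, h⟩
    rw [hPiA, Subgroup.mem_bot] at this
    exact hx1' this
  have hxp : (x : G) ^ p = 1 := by
    have h1 : orderOf (x : G) ∣ Nat.card (P : Subgroup G) := Subgroup.orderOf_dvd_natCard _ hxP
    rw [hcardP] at h1
    exact orderOf_dvd_iff_pow_eq_one.mp h1
  have hnt : ∃ a ∈ A, (x : G) * a * (x : G)⁻¹ ≠ a := by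
    by_contra hcon
    push Not at hcon
    have : (x : G) ∈ (P : Subgroup G) ⊓ Subgroup.centralizer (A : Set G) := by
      refine ⟨hxP, ?_⟩
      show (x : G) ∈ Subgroup.centralizer (A : Set G)
      rw [Subgroup.mem_centralizer_iff]
      intro a ha
      have := hcon a ha
      calc a * (x : G) = ((x : G) * a * (x : G)⁻¹) * (x : G) := by rw [this]
        _ = (x : G) * a := by group
    rw [hC, Subgroup.mem_bot] at this
    exact hx1' this
  have hirr : ∀ B : Subgroup G, B ≤ A → (∀ b ∈ B, (x : G) * b * (x : G)⁻¹ ∈ B) → B = ⊥ ∨ B = A := by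
    intro B hBA hB
    exact hAmin B (normal_of_invariant_of_prime_index hp A hidx hcomm hBA hxA hB) hBA
  have hcardA := card_eq_pow_orderOf_of_irreducible_conj A (Ne.symm hqp) hcomm hAqe (x : G)
    (fun a ha => hAn.conj_mem a ha _) hxp hnt hirr
  refine ⟨q, hq, hqp, ?_, A, hAn, hcardA,
    ⟨⟨⟨fun a b => Subtype.ext (hcomm a a.2 b b.2)⟩⟩, hAqe⟩, hAmin⟩
  rw [hcardG, hcardA, mul_comm]

end Cfsg.Agent.S3868
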