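import Mathlib
import Cfsg.Statements.S3869
import Cfsg.Agent.Lib.Helper64.Real
import Cfsg.Agent.Lib.Helper64.SylowCount
import Cfsg.Agent.Lib.Helper64.PrimeIndex
import Cfsg.Agent.Lib.Helper64.IrredCyclicGroup

set_option autoImplicit false
open Cfsg

namespace Cfsg.Agent.S3869

open Cfsg.Agent.Lib.Helper64

theorem result {G : Type*} [Group G] [Finite G] {p q : ℕ} [Fact p.Prime] (hq : q.Prime) (hpq : q ≠ p)
    (hna : ¬ IsMulCommutative G) (A : Subgroup G) [A.Normal] (hA : Cfsg.IsElementaryAbelian q A) (hidx : A.index = p)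
    (hmin : ∀ B : Subgroup G, B.Normal → B ≤ A → B = ⊥ ∨ B = A) :
    Nat.card ↥A = q ^ orderOf (q : ZMod p) ∧ ¬ Cfsg.IsPClosed p G ∧ (∀ H : Subgroup G, H ≠ ⊤ → Cfsg.IsPClosed p ↥H) ∧
      ∀ (N : Subgroup G) [N.Normal], N ≠ ⊥ → Cfsg.IsPClosed p (G ⧸ N) := by
  classical
  have hp : p.Prime := Fact.out
  have : Fact q.Prime := ⟨hq⟩
  have hAcomm : ∀ a ∈ A, ∀ b ∈ A, a * b = b * a := by
    intro a ha b hb
    have := hA.1.is_comm.comm (⟨a, ha⟩ : A) ⟨b, hb⟩
    exact congrArg Subtype.val this
  have hAq : ∀ a ∈ A, a ^ q = 1 := hA.2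
  have hAqgrp : IsPGroup q A := by
    intro a
    exact ⟨1, by rw [pow_one]; exact Subtype.ext (hAq a a.2)⟩
  obtain ⟨k, hk⟩ := IsPGroup.iff_card.mp hAqgrp
  have hcardG : Nat.card G = q ^ k * p := by
    rw [← Subgroup.card_mul_index A, hk, hidx]
  have hpA : ¬ p ∣ Nat.card A := by
    rw [hk]
    intro h
    exact hpq ((Nat.prime_dvd_prime_iff_eq hp hq).mp (hp.dvd_of_dvd_pow h)).symm
  -- elements of order p are outside A
  have hnotA : ∀ y : G, orderOf y = p → y ∉ A := by
    intro y hy hyA
    apply hpA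
    rw [← hy]
    exact Subgroup.orderOf_dvd_natCard A hyA
  have hpG : p ∣ Nat.card G := by rw [hcardG]; exact Dvd.intro_left _ rfl
  obtain ⟨x, hx⟩ := exists_prime_orderOf_dvd_card' p hpG
  have hxA : x ∉ A := hnotA x hx
  have hgen := sup_zpowers_eq_top_of_prime_index hp A hidx hxA
  have hxconj : ∀ a ∈ A, x * a * x⁻¹ ∈ A := fun a ha => ‹A.Normal›.conj_mem a ha x
  -- nontrivial action
  have hnt : ∃ a ∈ A, x * a * x⁻¹ ≠ a := by
    by_contra hcon
    push Not at hcon
    apply hna
    have hS : ∀ u ∈ ((A : Set G) ∪ {x}), ∀ v ∈ ((A : Set G) ∪ {x}), u * v = v * u := by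
      have hxa : ∀ a ∈ A, x * a = a * x := by
        intro a ha
        have := hcon a ha
        calc x * a = x * a * x⁻¹ * x := by group
          _ = a * x := by rw [this]
      rintro u (hu | hu) v (hv | hv)
      · exact hAcomm u hu v hv
      · rw [Set.mem_singleton_iff] at hv; subst hv; exact (hxa u hu).symm
      · rw [Set.mem_singleton_iff] at hu; subst hu; exact hxa v hv
      · rw [Set.mem_singleton_iff] at hu hv; subst hu; subst hv; rfl
    have hQ := Subgroup.isMulCommutative_closure hS
    have hcl : Subgroup.closure ((A : Set G) ∪ {x}) = ⊤ := by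
      rw [Subgroup.closure_union, Subgroup.closure_eq, ← Subgroup.zpowers_eq_closure, hgen]
    rw [hcl] at hQ
    refine ⟨⟨fun a b => ?_⟩⟩
    have := hQ.is_comm.comm (⟨a, Subgroup.mem_top a⟩ : (⊤ : Subgroup G)) ⟨b, Subgroup.mem_top b⟩
    exact congrArg Subtype.val this
  -- irreducibility
  have hirr : ∀ B : Subgroup G, B ≤ A → (∀ b ∈ B, x * b * x⁻¹ ∈ B) → B = ⊥ ∨ B = A := by
    intro B hBA hB
    exact hmin B (normal_of_invariant_of_prime_index hp A hidx hAcomm hBA hxA hB) hBA
  have hxp : x ^ p = 1 := by rw [← hx]; exact pow_orderOf_eq_one x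
  have hcardA := card_eq_pow_orderOf_of_irreducible_conj A (Ne.symm hpq) hAcomm hAq x hxconj hxp
    hnt hirr
  -- no Sylow p-subgroup is normal
  have hnotnormal : ∀ P : Sylow p G, ¬ (P : Subgroup G).Normal := by
    intro P hPn
    obtain ⟨a, ha, hne⟩ := hnt
    apply hne
    have hxP : x ∈ (P : Subgroup G) := by
      apply mem_of_coprime_orderOf_index
      rw [hx]
      exact (Nat.Prime.coprime_iff_not_dvd hp).mpr P.not_dvd_index
    have hmem : x * a * x⁻¹ * a⁻¹ ∈ (P : Subgroup G) ⊓ A := by
      constructor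
      · have : x * a * x⁻¹ * a⁻¹ = x * (a * x⁻¹ * a⁻¹) := by group
        rw [this]
        exact Subgroup.mul_mem _ hxP (hPn.conj_mem _ (Subgroup.inv_mem _ hxP) a)
      · exact A.mul_mem (hxconj a ha) (A.inv_mem ha)
    have hdisj := IsPGroup.disjoint_of_ne p q (Ne.symm hpq) _ _ P.isPGroup' hAqgrp
    rw [disjoint_iff.mp hdisj, Subgroup.mem_bot] at hmem
    exact mul_inv_eq_one.mp hmem
  refine ⟨hcardA, fun hcl => hnotnormal default (hcl default), ?_, ?_⟩
  · -- proper subgroups
    intro H hH S
    by_cases hpH : p ∣ Nat.card H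
    · obtain ⟨y, hy⟩ := exists_prime_orderOf_dvd_card' p hpH
      have hy' : orderOf (y : G) = p := by rw [Subgroup.orderOf_coe]; exact hy
      have hyA : (y : G) ∉ A := hnotA _ hy'
      have hgeny := sup_zpowers_eq_top_of_prime_index hp A hidx hyA
      have hBn : (H ⊓ A).Normal := by
        apply normal_of_invariant_of_prime_index hp A hidx hAcomm inf_le_right hyA
        intro b hb
        exact ⟨H.mul_mem (H.mul_mem y.2 hb.1) (H.inv_mem y.2), ‹A.Normal›.conj_mem b hb.2 _⟩
      have hB : H ⊓ A = ⊥ := by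
        rcases hmin _ hBn inf_le_right with h | h
        · exact h
        · exfalso
          apply hH
          rw [eq_top_iff, ← hgeny]
          apply sup_le
          · rw [← h]; exact inf_le_left
          · rw [Subgroup.zpowers_le]; exact y.2
      have hHA : H ⊔ A = ⊤ := by
        rw [eq_top_iff, ← hgeny]
        apply sup_le le_sup_right
        rw [Subgroup.zpowers_le]
        exact Subgroup.mem_sup_left y.2
      have hc := card_sup_mul_card_inf H A
      rw [hB, hHA, Subgroup.card_bot, mul_one, Subgroup.card_top, hcardG, hk] at hc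
      have hcardH : Nat.card H = p := by
        have hpos : 0 < q ^ k := pow_pos hq.pos k
        exact (Nat.eq_of_mul_eq_mul_left hpos hc).symm
      have hHp : IsPGroup p (⊤ : Subgroup H) := by
        apply IsPGroup.of_card (n := 1)
        rw [Subgroup.card_top, hcardH, pow_one]
      have : (⊤ : Subgroup H) = S := S.is_maximal' hHp le_top
      rw [← this]
      infer_instance
    · have hS : (S : Subgroup H) = ⊥ := by
        by_contra hne
        apply hpH
        have h1 : p ∣ Nat.card (S : Subgroup H) := by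
          rcases S.isPGroup'.card_eq_or_dvd with h | h
          · exact absurd (Subgroup.eq_bot_of_card_eq _ h) hne
          · exact h
        exact h1.trans (Subgroup.card_subgroup_dvd_card _)
      rw [hS]
      infer_instance
  · -- proper quotients
    intro N _ hN S
    have hBn : (N ⊓ A).Normal := inferInstance
    rcases hmin _ hBn inf_le_right with h | h
    · exfalso
      have hc := card_sup_mul_card_inf N A
      rw [h, Subgroup.card_bot, mul_one] at hc
      have hdvd : Nat.card ↥(N ⊔ A) ∣ Nat.card G := Subgroup.card_subgroup_dvd_card _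
      rw [hc, hcardG, hk] at hdvd
      have hNp : Nat.card N ∣ p := by
        have hpos : 0 < q ^ k := pow_pos hq.pos k
        exact Nat.dvd_of_mul_dvd_mul_left hpos hdvd
      have hN1 : Nat.card N ≠ 1 := fun h1 => hN (Subgroup.eq_bot_of_card_eq _ h1)
      have hNcard : Nat.card N = p := ((Nat.dvd_prime hp).mp hNp).resolve_left hN1
      have hNpg : IsPGroup p N := IsPGroup.of_card (n := 1) (by rw [hNcard, pow_one])
      have hNidx : ¬ p ∣ N.index := by
        have h1 := Subgroup.card_mul_index N
        rw [hNcard, hcardG, mul_comm] at h1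
        have h2 : N.index = q ^ k := Nat.eq_of_mul_eq_mul_right hp.pos h1
        rw [h2]
        intro h3
        exact hpq ((Nat.prime_dvd_prime_iff_eq hp hq).mp (hp.dvd_of_dvd_pow h3)).symm
      exact hnotnormal (hNpg.toSylow hNidx) (by rw [IsPGroup.toSylow_coe]; infer_instance)
    · have hAN : A ≤ N := by rw [← h]; exact inf_le_left
      have hdvd : N.index ∣ p := by rw [← hidx]; exact Subgroup.index_dvd_of_le hAN
      have hQp : IsPGroup p (⊤ : Subgroup (G ⧸ N)) := by
        rcases (Nat.dvd_prime hp).mp hdvd with h1 | h1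
        · apply IsPGroup.of_card (n := 0)
          rw [Subgroup.card_top, ← Subgroup.index_eq_card, h1, pow_zero]
        · apply IsPGroup.of_card (n := 1)
          rw [Subgroup.card_top, ← Subgroup.index_eq_card, h1, pow_one]
      have : (⊤ : Subgroup (G ⧸ N)) = S := S.is_maximal' hQp le_top
      rw [← this]
      infer_instance

end Cfsg.Agent.S3869
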