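import Cfsg.Statements.S3870
import Cfsg.Agent.Lib.Helper64.TI
import Cfsg.Agent.Lib.Helper64.SylowConj

set_option autoImplicit false
open Cfsg

namespace Cfsg.Agent.S3870

open Cfsg.Agent.Lib.Helper64

theorem result {G : Type*} [Group G] [Finite G] [IsSimpleGroup G] {p : ℕ} [Fact p.Prime]
    (hnc : ¬ Cfsg.IsPClosed p G) (hsub : ∀ H : Subgroup G, H ≠ ⊤ → Cfsg.IsPClosed p ↥H) :
    (∀ P Q : Sylow p G, P ≠ Q → (P : Subgroup G) ⊓ (Q : Subgroup G) = ⊥) ∧
      ∀ (P : Sylow p G) (R : Subgroup G), R ≤ P → R ≠ ⊥ →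
        Subgroup.normalizer (R : Set G) ≤ Subgroup.normalizer ((P : Subgroup G) : Set G) := by
  have hsub' : ∀ H : Subgroup G, H ≠ ⊤ → ∀ S : Sylow p H, (S : Subgroup H).Normal :=
    fun H hH S => hsub H hH S
  have hO : ∀ D : Subgroup G, IsPGroup p D → D.Normal → D = ⊥ := by
    intro D hD hDn
    rcases hDn.eq_bot_or_eq_top with h | h
    · exact h
    · exfalso
      apply hnc
      intro P
      have htop : IsPGroup p (⊤ : Subgroup G) := h ▸ hD
      have : (⊤ : Subgroup G) = P := P.is_maximal' htop le_top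
      rw [← this]
      infer_instance
  have hTI := sylow_inf_eq_bot_of_minimal hsub' hO
  refine ⟨hTI, ?_⟩
  intro P R hRP hRbot
  have hRp : IsPGroup p R := P.isPGroup'.to_le hRP
  have hN : Subgroup.normalizer (R : Set G) ≠ ⊤ := by
    rw [Ne, Subgroup.normalizer_eq_top_iff]
    intro hn
    exact hRbot (hO R hRp hn)
  let S : Sylow p (Subgroup.normalizer (R : Set G)) := default
  have hSn := hsub' _ hN S
  obtain ⟨P', hP'⟩ := (S.isPGroup'.map (Subgroup.normalizer (R : Set G)).subtype).exists_le_sylow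
  have hRS : R ≤ (S : Subgroup (Subgroup.normalizer (R : Set G))).map
      (Subgroup.normalizer (R : Set G)).subtype :=
    le_map_sylow_of_normal S hSn hRp Subgroup.le_normalizer
  have hPP' : P' = P := by
    by_contra hne
    have := hTI P' P hne
    exact hRbot (le_bot_iff.mp (this ▸ le_inf (hRS.trans hP') hRP))
  intro g hg
  by_contra hgP
  have hne : g • P ≠ P := fun h => hgP (Sylow.smul_eq_iff_mem_normalizer.mp h)
  have hbot := hTI (g • P) P hne
  obtain ⟨r, hr1⟩ := (Subgroup.ne_bot_iff_exists_ne_one).mp hRbot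
  have hrR' : (r : G) ∈ R := r.2
  obtain ⟨s, hsS, hsr⟩ := hRS hrR'
  have hconj : (⟨g, hg⟩ : Subgroup.normalizer (R : Set G))⁻¹ * s * (⟨g, hg⟩ : Subgroup.normalizer (R : Set G))⁻¹⁻¹
      ∈ (S : Subgroup (Subgroup.normalizer (R : Set G))) := hSn.conj_mem s hsS _
  have h1 : g⁻¹ * (r : G) * g ∈ (P' : Subgroup G) := by
    apply hP'
    refine ⟨_, hconj, ?_⟩
    simp only [inv_inv, Subgroup.subtype_apply, Subgroup.coe_mul, Subgroup.coe_inv]
    rw [← hsr]; rfl
  rw [hPP'] at h1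
  have h2 : (r : G) ∈ ((g • P : Sylow p G) : Subgroup G) ⊓ P := ⟨mem_sylow_smul.mpr h1, hRP hrR'⟩
  rw [hbot, Subgroup.mem_bot] at h2
  exact hr1 (Subtype.ext h2)

end Cfsg.Agent.S3870
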