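import Cfsg.Statements.S4209
import Cfsg.Agent.Lib.Helper70.PolySeq

set_option autoImplicit false
open Cfsg

namespace Cfsg.Agent.S4209

open Cfsg.Agent.Lib.Helper70 Subgroup

/-- A finite `p`-group of nilpotency class less than `p` (the term of index `p - 1` of the lower central series of the whole group, indexed from `0`, is trivial) is a regular `p`-group. -/
theorem result {G : Type*} [Group G] [Finite G] {p : ℕ} [Fact p.Prime] (hG : IsPGroup p G) (hcl : (⊤ : Subgroup G).lowerCentralSeries (p - 1) = ⊥) : Cfsg.IsRegularPGroup p G := by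
  refine ⟨hG, fun a b n => ?_⟩
  set H : Subgroup G := Subgroup.closure ({a, b} : Set G) with hH
  have haH : a ∈ H := Subgroup.subset_closure (by simp)
  have hbH : b ∈ H := Subgroup.subset_closure (by simp)
  have hclH : (⊤ : Subgroup H).lowerCentralSeries (p - 1) = ⊥ := by
    have h1 := Subgroup.top_subtype_lowerCentralSeries H (p - 1)
    have h2 : H.lowerCentralSeries (p - 1) ≤ (⊤ : Subgroup G).lowerCentralSeries (p - 1) :=
      Subgroup.lowerCentralSeries_mono (p - 1) le_top
    rw [hcl, le_bot_iff] at h2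
    rw [h2] at h1
    exact (Subgroup.map_eq_bot_iff_of_injective _ H.subtype_injective).mp h1
  have key := ps_hall_petrescu (Fact.out : p.Prime) hclH (⟨a, haH⟩ : H) ⟨b, hbH⟩ n
  set c' : H := ((⟨a, haH⟩ * ⟨b, hbH⟩ : H) ^ (p ^ n))⁻¹ * (⟨a, haH⟩ : H) ^ (p ^ n) *
    (⟨b, hbH⟩ : H) ^ (p ^ n) with hc'
  have hmem : ((c' : H) : G) ∈ powerClosure p n ⁅H, H⁆ := by
    have h1 : ((c' : H) : G) ∈ (Subgroup.closure
        {z : H | ∃ w ∈ commutator H, z = w ^ (p ^ n)}).map H.subtype :=
      Subgroup.mem_map_of_mem _ key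
    rw [MonoidHom.map_closure] at h1
    refine Subgroup.closure_mono ?_ h1
    rintro _ ⟨z, ⟨w, hw, rfl⟩, rfl⟩
    refine ⟨(w : G), ?_, by simp⟩
    rw [← Subgroup.map_subtype_commutator]
    exact Subgroup.mem_map_of_mem _ hw
  refine ⟨((c' : H) : G)⁻¹, inv_mem hmem, ?_⟩
  have hval : ((c' : H) : G) = ((a * b) ^ (p ^ n))⁻¹ * a ^ (p ^ n) * b ^ (p ^ n) := by
    rw [hc']; simp
  rw [hval]
  group

end Cfsg.Agent.S4209
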