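import Cfsg.Statements.S3872
import Cfsg.Agent.S4209
import Cfsg.Agent.Lib.Helper70.RegularP
import Cfsg.Agent.Lib.Helper48.NonCyclic

set_option autoImplicit false
open Cfsg

namespace Cfsg.Agent.S3872

/-- a subgroup of the centre is normal -/
theorem normal_of_le_center' {G : Type*} [Group G] {N : Subgroup G} (h : N ≤ Subgroup.center G) : N.Normal := by
  constructor
  intro n hn g
  have := h hn
  rw [Subgroup.mem_center_iff] at this
  rw [this g, mul_inv_cancel_right]
  exact hn

theorem lcs_stable' {G : Type*} [Group G] {i : ℕ}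
    (h : (⊤ : Subgroup G).lowerCentralSeries (i + 1) = (⊤ : Subgroup G).lowerCentralSeries i) :
    ∀ j, (⊤ : Subgroup G).lowerCentralSeries (i + j) = (⊤ : Subgroup G).lowerCentralSeries i := by
  intro j
  induction j with
  | zero => rfl
  | succ j ih =>
    rw [← add_assoc, Subgroup.lowerCentralSeries_succ, ih, ← Subgroup.lowerCentralSeries_succ, h]

/-- in a nilpotent group the lower central series strictly decreases until it reaches `⊥` -/
theorem lcs_succ_lt {G : Type*} [Group G] [Group.IsNilpotent G] {i : ℕ}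
    (h : (⊤ : Subgroup G).lowerCentralSeries i ≠ ⊥) :
    (⊤ : Subgroup G).lowerCentralSeries (i + 1) < (⊤ : Subgroup G).lowerCentralSeries i := by
  refine lt_of_le_of_ne (Subgroup.lowerCentralSeries_antitone _ (Nat.le_succ i)) ?_
  intro heq
  obtain ⟨n, hn⟩ := Subgroup.nilpotent_iff_lowerCentralSeries.mp (inferInstance : Group.IsNilpotent G)
  have h1 := lcs_stable' heq n
  have h2 : (⊤ : Subgroup G).lowerCentralSeries (i + n) ≤ (⊤ : Subgroup G).lowerCentralSeries n :=
    Subgroup.lowerCentralSeries_antitone _ (by omega)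
  rw [hn, le_bot_iff] at h2
  exact h (h1 ▸ h2)

theorem card_mul_le_of_lt' {G : Type*} [Group G] [Finite G] {p : ℕ} [hp : Fact p.Prime] (hG : IsPGroup p G)
    {H K : Subgroup G} (h : H < K) : p * Nat.card H ≤ Nat.card K := by
  have h1 : Nat.card H * H.relIndex K = Nat.card K := by
    have := Subgroup.card_mul_index (H.subgroupOf K)
    rw [Nat.card_congr (Subgroup.subgroupOfEquivOfLe h.le).toEquiv] at this
    exact this
  obtain ⟨m, hm⟩ := (hG.to_subgroup K).index (H.subgroupOf K)
  have hm' : H.relIndex K = p ^ m := hm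
  have hm0 : m ≠ 0 := by
    rintro rfl
    rw [pow_zero, Subgroup.relIndex_eq_one] at hm'
    exact h.not_ge hm'
  rw [← h1, hm', mul_comm]
  apply Nat.mul_le_mul_left
  calc p = p ^ 1 := (pow_one p).symm
    _ ≤ p ^ m := Nat.pow_le_pow_right hp.out.pos (by omega)

theorem pow_le_card_lcs' {G : Type*} [Group G] [Finite G] {p : ℕ} [hp : Fact p.Prime] (hG : IsPGroup p G)
    {k : ℕ} (hk : (⊤ : Subgroup G).lowerCentralSeries k ≠ ⊥) :
    ∀ d, d ≤ k → p ^ (d + 1) ≤ Nat.card ((⊤ : Subgroup G).lowerCentralSeries (k - d)) := by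
  have : Group.IsNilpotent G := hG.isNilpotent
  intro d
  induction d with
  | zero =>
    intro _
    rw [Nat.sub_zero, zero_add, pow_one]
    obtain ⟨m, hm⟩ := (hG.to_subgroup ((⊤ : Subgroup G).lowerCentralSeries k)).exists_card_eq
    rw [hm]
    have hm0 : m ≠ 0 := by
      rintro rfl
      rw [pow_zero] at hm
      exact hk (Subgroup.card_eq_one.mp hm)
    calc p = p ^ 1 := (pow_one p).symm
      _ ≤ p ^ m := Nat.pow_le_pow_right hp.out.pos (by omega)
  | succ d ih =>
    intro hd
    have h1 := ih (by omega)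
    have hne : (⊤ : Subgroup G).lowerCentralSeries (k - (d + 1)) ≠ ⊥ := by
      intro h0
      have : (⊤ : Subgroup G).lowerCentralSeries k ≤ (⊤ : Subgroup G).lowerCentralSeries (k - (d + 1)) :=
        Subgroup.lowerCentralSeries_antitone _ (by omega)
      rw [h0, le_bot_iff] at this
      exact hk this
    have h2 := lcs_succ_lt hne
    rw [show k - (d + 1) + 1 = k - d by omega] at h2
    have h3 := card_mul_le_of_lt' hG h2
    calc p ^ (d + 1 + 1) = p * p ^ (d + 1) := by ring
      _ ≤ p * Nat.card ((⊤ : Subgroup G).lowerCentralSeries (k - d)) := Nat.mul_le_mul_left _ h1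
      _ ≤ _ := h3

/-- Say that a finite group is p-exponent closed when its elements of order dividing p form a subgroup. Let G be a finite p-group that is not p-exponent closed, but all of whose proper subgroups and proper quotients are. Then G is generated by two elements, has nilpotency class at least p, has exponent p², has cyclic center, and has order at least p^(p+1). -/
theorem result {G : Type*} [Group G] [Finite G] {p : ℕ} [Fact p.Prime] (hG : IsPGroup p G)
    (hnc : ¬ (∃ H : Subgroup G, (H : Set G) = {g : G | g ^ p = 1})) (hsub : ∀ K : Subgroup G, K ≠ ⊤ → (∃ H : Subgroup ↥K, (H : Set ↥K) = {g : ↥K | g ^ p = 1}))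
    (hquo : ∀ (N : Subgroup G) [N.Normal], N ≠ ⊥ → (∃ H : Subgroup (G ⧸ N), (H : Set (G ⧸ N)) = {g : (G ⧸ N) | g ^ p = 1})) :
    (∃ x y : G, Subgroup.closure ({x, y} : Set G) = ⊤) ∧ (⊤ : Subgroup G).lowerCentralSeries (p - 1) ≠ ⊥ ∧
      Monoid.exponent G = p ^ 2 ∧ IsCyclic ↥(Subgroup.center G) ∧ p ^ (p + 1) ≤ Nat.card G := by
  classical
  have hp : p.Prime := Fact.out
  -- Step 0: two elements of order dividing `p` whose product is not
  obtain ⟨x, y, hx, hy, hxy⟩ : ∃ x y : G, x ^ p = 1 ∧ y ^ p = 1 ∧ (x * y) ^ p ≠ 1 := by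
    by_contra hcon
    push Not at hcon
    apply hnc
    exact ⟨{ carrier := {g : G | g ^ p = 1}
             mul_mem' := fun {a b} ha hb => hcon a b ha hb
             one_mem' := one_pow p
             inv_mem' := fun {a} ha => by
               show a⁻¹ ^ p = 1
               rw [inv_pow, (ha : a ^ p = 1), inv_one] }, rfl⟩
  -- Step 1: `G = ⟨x, y⟩`
  have hgen : Subgroup.closure ({x, y} : Set G) = ⊤ := by
    by_contra hK
    obtain ⟨H, hH⟩ := hsub _ hK
    have hxK : x ∈ Subgroup.closure ({x, y} : Set G) := Subgroup.subset_closure (by simp)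
    have hyK : y ∈ Subgroup.closure ({x, y} : Set G) := Subgroup.subset_closure (by simp)
    have hxH : (⟨x, hxK⟩ : Subgroup.closure ({x, y} : Set G)) ∈ H := by
      rw [← SetLike.mem_coe, hH]
      show (⟨x, hxK⟩ : Subgroup.closure ({x, y} : Set G)) ^ p = 1
      ext; simpa using hx
    have hyH : (⟨y, hyK⟩ : Subgroup.closure ({x, y} : Set G)) ∈ H := by
      rw [← SetLike.mem_coe, hH]
      show (⟨y, hyK⟩ : Subgroup.closure ({x, y} : Set G)) ^ p = 1
      ext; simpa using hy
    have hm := H.mul_mem hxH hyH
    rw [← SetLike.mem_coe, hH] at hm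
    have hm' : ((⟨x, hxK⟩ : Subgroup.closure ({x, y} : Set G)) * ⟨y, hyK⟩) ^ p = 1 := hm
    apply hxy
    have := congrArg Subtype.val hm'
    simpa using this
  -- Step 2: class at least `p`
  have hclass : (⊤ : Subgroup G).lowerCentralSeries (p - 1) ≠ ⊥ := by
    intro hcl
    have hreg := Cfsg.Agent.S4209.result hG hcl
    have h1 := (Cfsg.Agent.Lib.Helper70.main_aux p (Nat.card G) G rfl hreg x⁻¹ y 1).mp
      (by rw [pow_one, inv_pow, hx, hy, inv_one])
    rw [inv_inv, pow_one] at h1
    exact hxy h1
  -- key: `g ^ p ∈ N` for every nontrivial normal subgroup `N`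
  have hpowN : ∀ (N : Subgroup G) [N.Normal], N ≠ ⊥ → ∀ g : G, g ^ p ∈ N := by
    intro N _ hN g
    obtain ⟨H, hH⟩ := hquo N hN
    have hxH : (x : G ⧸ N) ∈ H := by
      rw [← SetLike.mem_coe, hH]
      show (x : G ⧸ N) ^ p = 1
      rw [← QuotientGroup.mk_pow, hx]; rfl
    have hyH : (y : G ⧸ N) ∈ H := by
      rw [← SetLike.mem_coe, hH]
      show (y : G ⧸ N) ^ p = 1
      rw [← QuotientGroup.mk_pow, hy]; rfl
    have hHtop : H = ⊤ := by
      rw [eq_top_iff]
      have h1 : (⊤ : Subgroup G).map (QuotientGroup.mk' N) = ⊤ := by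
        rw [← MonoidHom.range_eq_map]
        exact MonoidHom.range_eq_top.mpr (QuotientGroup.mk'_surjective N)
      rw [← h1, ← hgen, MonoidHom.map_closure, Subgroup.closure_le]
      rintro _ ⟨z, hz, rfl⟩
      rcases hz with rfl | hz
      · exact hxH
      · rw [Set.mem_singleton_iff] at hz
        subst hz
        exact hyH
    have hg : (g : G ⧸ N) ∈ H := by rw [hHtop]; exact Subgroup.mem_top _
    rw [← SetLike.mem_coe, hH] at hg
    have hg' : (g : G ⧸ N) ^ p = 1 := hg
    rw [← QuotientGroup.mk_pow] at hg'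
    exact (QuotientGroup.eq_one_iff _).mp hg'
  have hnt : Nontrivial G := by
    by_contra hcon
    rw [not_nontrivial_iff_subsingleton] at hcon
    exact hxy (Subsingleton.elim _ _)
  -- a central subgroup of order `p`
  haveI : Nontrivial (Subgroup.center G) := hG.center_nontrivial
  have hZp : IsPGroup p (Subgroup.center G) := hG.to_subgroup _
  obtain ⟨z, hz⟩ : ∃ z : Subgroup.center G, orderOf z = p := by
    obtain ⟨m, hm⟩ := hZp.exists_card_eq
    have hm0 : m ≠ 0 := by
      rintro rfl
      rw [pow_zero] at hm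
      have := (Nat.card_eq_one_iff_unique.mp hm).1
      exact not_subsingleton (Subgroup.center G) this
    haveI : Fintype (Subgroup.center G) := Fintype.ofFinite _
    apply exists_prime_orderOf_dvd_card p
    rw [← Nat.card_eq_fintype_card, hm]
    exact dvd_pow_self p hm0
  have hzG : orderOf (z : G) = p := by rw [Subgroup.orderOf_coe]; exact hz
  have hw1 : (x * y) ^ p ≠ 1 := hxy
  -- Step 3: exponent
  have hexp : Monoid.exponent G = p ^ 2 := by
    set N : Subgroup G := Subgroup.zpowers (z : G) with hNdef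
    have hNle : N ≤ Subgroup.center G := by
      rw [hNdef, Subgroup.zpowers_le]; exact z.2
    haveI : N.Normal := normal_of_le_center' hNle
    have hNcard : Nat.card N = p := by rw [hNdef, Nat.card_zpowers, hzG]
    have hNne : N ≠ ⊥ := by
      intro h0
      rw [h0, Subgroup.card_bot] at hNcard
      exact hp.one_lt.ne hNcard
    have hpp : ∀ g : G, g ^ (p ^ 2) = 1 := by
      intro g
      have h1 := hpowN N hNne g
      have h2 : (⟨g ^ p, h1⟩ : N) ^ Nat.card N = 1 := pow_card_eq_one'
      rw [hNcard] at h2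
      have h3 := congrArg Subtype.val h2
      rw [pow_two, pow_mul]
      simpa using h3
    have hd := Monoid.exponent_dvd_of_forall_pow_eq_one hpp
    obtain ⟨j, hj, hje⟩ := (Nat.dvd_prime_pow hp).mp hd
    have hne : ∀ i, i ≤ 1 → Monoid.exponent G ≠ p ^ i := by
      intro i hi he
      apply hxy
      have h1 : Monoid.exponent G ∣ p := by
        rw [he]
        calc p ^ i ∣ p ^ 1 := pow_dvd_pow p hi
          _ = p := pow_one p
      obtain ⟨t, ht⟩ := h1
      rw [ht, pow_mul, Monoid.pow_exponent_eq_one, one_pow]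
    interval_cases j
    · exact absurd hje (hne 0 (by omega))
    · exact absurd hje (hne 1 le_rfl)
    · exact hje
  -- Step 4: cyclic centre
  have hcyc : IsCyclic (Subgroup.center G) := by
    by_contra hncyc
    obtain ⟨r, hr, a, b, har, hbr, hb1, hab⟩ :=
      Cfsg.Agent.Lib.Helper48.exists_rank_two_of_not_isCyclic (A := Subgroup.center G)
        (fun u v => by
          ext
          have := v.2
          rw [Subgroup.mem_center_iff] at this
          simpa using (this u.1)) hncyc
    -- `r = p`
    have hrp : r = p := by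
      obtain ⟨k, hk⟩ := (IsPGroup.iff_orderOf.mp hZp) b
      have h1 : orderOf b ∣ r := orderOf_dvd_of_pow_eq_one hbr
      have h2 : orderOf b = r := by
        rcases (Nat.dvd_prime hr).mp h1 with h | h
        · exact absurd (orderOf_eq_one_iff.mp h) hb1
        · exact h
      rw [h2] at hk
      have : r ∣ p ^ k := by rw [← hk]
      exact (Nat.prime_dvd_prime_iff_eq hr hp).mp (hr.dvd_of_dvd_pow this)
    subst hrp
    have ha1 : a ≠ 1 := by
      rintro rfl
      exact hab (Subgroup.one_mem _)
    have hoa : orderOf (a : G) = r := by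
      rw [Subgroup.orderOf_coe]
      exact orderOf_eq_prime har ha1
    have hob : orderOf (b : G) = r := by
      rw [Subgroup.orderOf_coe]
      exact orderOf_eq_prime hbr hb1
    set N1 : Subgroup G := Subgroup.zpowers (b : G) with hN1
    set N2 : Subgroup G := Subgroup.zpowers (a : G) with hN2
    have hN1le : N1 ≤ Subgroup.center G := by rw [hN1, Subgroup.zpowers_le]; exact b.2
    have hN2le : N2 ≤ Subgroup.center G := by rw [hN2, Subgroup.zpowers_le]; exact a.2
    haveI : N1.Normal := normal_of_le_center' hN1le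
    haveI : N2.Normal := normal_of_le_center' hN2le
    have hN1card : Nat.card N1 = r := by rw [hN1, Nat.card_zpowers, hob]
    have hN2card : Nat.card N2 = r := by rw [hN2, Nat.card_zpowers, hoa]
    have hN1ne : N1 ≠ ⊥ := by
      intro h0
      rw [h0, Subgroup.card_bot] at hN1card
      exact hp.one_lt.ne hN1card
    have hN2ne : N2 ≠ ⊥ := by
      intro h0
      rw [h0, Subgroup.card_bot] at hN2card
      exact hp.one_lt.ne hN2card
    have hwN1 := hpowN N1 hN1ne (x * y)
    have hwN2 := hpowN N2 hN2ne (x * y)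
    -- `a ∈ ⟨w⟩ ≤ N1`
    have htop : Subgroup.zpowers (⟨(x * y) ^ r, hwN2⟩ : N2) = ⊤ :=
      zpowers_eq_top_of_prime_card hN2card (by
        intro h0
        exact hxy (congrArg Subtype.val h0))
    have haN2 : (a : G) ∈ N2 := by rw [hN2]; exact Subgroup.mem_zpowers _
    have hmem : (⟨(a : G), haN2⟩ : N2) ∈ Subgroup.zpowers (⟨(x * y) ^ r, hwN2⟩ : N2) := by
      rw [htop]; exact Subgroup.mem_top _
    obtain ⟨k, hk⟩ := Subgroup.mem_zpowers_iff.mp hmem
    have hk' : ((x * y) ^ r) ^ k = (a : G) := by
      have := congrArg Subtype.val hk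
      simpa using this
    have haN1 : (a : G) ∈ N1 := by
      rw [← hk']
      exact Subgroup.zpow_mem _ hwN1 k
    rw [hN1, Subgroup.mem_zpowers_iff] at haN1
    obtain ⟨l, hl⟩ := haN1
    apply hab
    rw [Subgroup.mem_zpowers_iff]
    refine ⟨l, ?_⟩
    ext
    simpa using hl
  -- Step 5: order
  have hord : p ^ (p + 1) ≤ Nat.card G := by
    have hp1 : 1 ≤ p - 1 := by have := hp.two_le; omega
    have h1 := pow_le_card_lcs' hG hclass (p - 1 - 1) (by omega)
    rw [show p - 1 - (p - 1 - 1) = 1 by omega, show p - 1 - 1 + 1 = p - 1 by omega] at h1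
    -- `|G : G'| ≥ p²`
    have hcomm1 : (⊤ : Subgroup G).lowerCentralSeries 1 = commutator G := Subgroup.top_lowerCentralSeries_one
    have hne1 : (⊤ : Subgroup G).lowerCentralSeries 1 ≠ ⊥ := by
      intro h0
      have : (⊤ : Subgroup G).lowerCentralSeries (p - 1) ≤ (⊤ : Subgroup G).lowerCentralSeries 1 :=
        Subgroup.lowerCentralSeries_antitone _ hp1
      rw [h0, le_bot_iff] at this
      exact hclass this
    obtain ⟨m, hm⟩ := hG.index (commutator G)
    have hm2 : 2 ≤ m := by
      by_contra hlt
      push Not at hlt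
      -- `G / G'` cyclic
      have hcq : IsCyclic (G ⧸ commutator G) := by
        have hc : Nat.card (G ⧸ commutator G) = p ^ m := by
          rw [← Subgroup.index_eq_card]; exact hm
        have hm01 : m = 0 ∨ m = 1 := by omega
        rcases hm01 with rfl | rfl
        · rw [pow_zero] at hc
          haveI := (Nat.card_eq_one_iff_unique.mp hc).1
          infer_instance
        · rw [pow_one] at hc
          exact isCyclic_of_prime_card hc
      obtain ⟨gq, hgq⟩ := hcq.exists_generator
      obtain ⟨g, rfl⟩ := QuotientGroup.mk_surjective gq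
      have hsup : Subgroup.closure ({g} : Set G) ⊔ commutator G = ⊤ := by
        rw [eq_top_iff]
        intro h _
        obtain ⟨k, hk⟩ := Subgroup.mem_zpowers_iff.mp (hgq (h : G ⧸ commutator G))
        have h2 : ((g ^ k)⁻¹ * h : G) ∈ commutator G := by
          rw [← QuotientGroup.eq_one_iff, QuotientGroup.mk_mul, QuotientGroup.mk_inv, QuotientGroup.mk_zpow, hk]
          simp
        have h3 : h = g ^ k * ((g ^ k)⁻¹ * h) := by group
        rw [h3]
        exact Subgroup.mul_mem_sup (Subgroup.zpow_mem _ (Subgroup.subset_closure (Set.mem_singleton g)) k) h2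
      have hab := Cfsg.Agent.Lib.Helper70.comm_of_closure_sup_commutator hG g hsup
      apply hne1
      rw [hcomm1, commutator_def, eq_bot_iff, Subgroup.commutator_le]
      intro u _ v _
      rw [Subgroup.mem_bot, commutatorElement_eq_one_iff_mul_comm]
      exact hab u v
    have h2 := Subgroup.card_mul_index (commutator G)
    rw [hcomm1] at h1
    calc p ^ (p + 1) = p ^ (p - 1) * p ^ 2 := by
          rw [← pow_add]; congr 1; omega
      _ ≤ Nat.card (commutator G) * p ^ m :=
          Nat.mul_le_mul h1 (Nat.pow_le_pow_right hp.pos hm2)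
      _ = Nat.card G := by rw [← hm, h2]
  exact ⟨⟨x, y, hgen⟩, hclass, hexp, hcyc, hord⟩

end Cfsg.Agent.S3872
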