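import Mathlib
import Cfsg.Statements.S3873
import Cfsg.Agent.S3868

set_option autoImplicit false
open Cfsg

namespace Cfsg.Agent.S3873

open Cfsg.Agent.Lib.Helper64

theorem result {G : Type*} [Group G] [Finite G] {p : ℕ} [Fact p.Prime]
    (hnc : ¬ (∃ H : Subgroup G, (H : Set G) = {g : G | g ^ p = 1})) (hsub : ∀ K : Subgroup G, K ≠ ⊤ → (∃ H : Subgroup ↥K, (H : Set ↥K) = {g : ↥K | g ^ p = 1}))
    (hquo : ∀ (N : Subgroup G) [N.Normal], N ≠ ⊥ → (∃ H : Subgroup (G ⧸ N), (H : Set (G ⧸ N)) = {g : (G ⧸ N) | g ^ p = 1}))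
    (hns : ¬ IsSimpleGroup G) (hnp : ¬ IsPGroup p G) :
    ∃ q : ℕ, q.Prime ∧ q ≠ p ∧ Nat.card G = p * q ^ orderOf (q : ZMod p) ∧
      ∃ A : Subgroup G, A.Normal ∧ Nat.card ↥A = q ^ orderOf (q : ZMod p) ∧ Cfsg.IsElementaryAbelian q A ∧
        ∀ B : Subgroup G, B.Normal → B ≤ A → B = ⊥ ∨ B = A := by
  classical
  have hp : p.Prime := Fact.out
  obtain ⟨x, y, hx, hy, hxy⟩ : ∃ x y : G, x ^ p = 1 ∧ y ^ p = 1 ∧ (x * y) ^ p ≠ 1 := by
    by_contra h
    push Not at h
    apply hnc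
    exact ⟨{ carrier := {g | g ^ p = 1}
             mul_mem' := fun {a b} ha hb => h a b ha hb
             one_mem' := one_pow p
             inv_mem' := fun {a} ha => by
               show a⁻¹ ^ p = 1
               rw [inv_pow, show a ^ p = 1 from ha, inv_one] }, rfl⟩
  have hsubmul : ∀ K : Subgroup G, K ≠ ⊤ → ∀ a ∈ K, ∀ b ∈ K, a ^ p = 1 → b ^ p = 1 →
      (a * b) ^ p = 1 := by
    intro K hK a ha b hb hap hbp
    obtain ⟨H, hH⟩ := hsub K hK
    have h1 : (⟨a, ha⟩ : K) ∈ (H : Set K) := by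
      rw [hH]; exact Subtype.ext (by simpa using hap)
    have h2 : (⟨b, hb⟩ : K) ∈ (H : Set K) := by
      rw [hH]; exact Subtype.ext (by simpa using hbp)
    have h3 : ((⟨a, ha⟩ : K) * ⟨b, hb⟩) ∈ (H : Set K) := H.mul_mem h1 h2
    rw [hH] at h3
    have h4 := congrArg Subtype.val (show ((⟨a, ha⟩ : K) * ⟨b, hb⟩) ^ p = 1 from h3)
    simpa using h4
  have hgen : Subgroup.closure ({x, y} : Set G) = ⊤ := by
    by_contra hne
    apply hxy
    exact hsubmul _ hne x (Subgroup.subset_closure (by simp)) y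
      (Subgroup.subset_closure (by simp)) hx hy
  have hquoexp : ∀ (N : Subgroup G) [N.Normal], N ≠ ⊥ → ∀ g : G, g ^ p ∈ N := by
    intro N _ hN g
    obtain ⟨H, hH⟩ := hquo N hN
    have hmem : ∀ z : G, z ^ p = 1 → z ∈ H.comap (QuotientGroup.mk' N) := by
      intro z hz
      rw [Subgroup.mem_comap]
      have : (QuotientGroup.mk' N z) ∈ (H : Set (G ⧸ N)) := by
        rw [hH]
        show (QuotientGroup.mk' N z) ^ p = 1
        rw [← map_pow, hz, map_one]
      exact this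
    have htop : H.comap (QuotientGroup.mk' N) = ⊤ := by
      rw [eq_top_iff, ← hgen, Subgroup.closure_le]
      intro z hz
      rcases hz with rfl | rfl
      · exact hmem _ hx
      · exact hmem _ hy
    have hg : g ∈ H.comap (QuotientGroup.mk' N) := by rw [htop]; trivial
    rw [Subgroup.mem_comap] at hg
    have hg' : (QuotientGroup.mk' N g) ∈ (H : Set (G ⧸ N)) := hg
    rw [hH] at hg'
    have h2 : (QuotientGroup.mk' N g) ^ p = 1 := hg'
    rw [← map_pow] at h2
    exact (QuotientGroup.eq_one_iff _).mp h2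
  have hd : ∀ P : Sylow p G, ¬ (P : Subgroup G).Normal := by
    intro P hPn
    apply hnp
    have hmem : ∀ z : G, z ^ p = 1 → z ∈ (P : Subgroup G) := by
      intro z hz
      have hzp : IsPGroup p (Subgroup.zpowers z) := by
        rintro ⟨g, hg⟩
        refine ⟨1, ?_⟩
        obtain ⟨k, rfl⟩ := Subgroup.mem_zpowers_iff.mp hg
        apply Subtype.ext
        simp only [pow_one, Subgroup.coe_pow, Subgroup.coe_one]
        rw [← zpow_natCast, ← zpow_mul, mul_comm, zpow_mul, zpow_natCast, hz, one_zpow]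
      obtain ⟨Q, hQ⟩ := hzp.exists_le_sylow
      letI := Sylow.unique_of_normal P hPn
      have : Q = P := Subsingleton.elim _ _
      rw [← this]; exact hQ (Subgroup.mem_zpowers z)
    have htop : (P : Subgroup G) = ⊤ := by
      rw [eq_top_iff, ← hgen, Subgroup.closure_le]
      intro z hz
      rcases hz with rfl | rfl
      · exact hmem _ hx
      · exact hmem _ hy
    intro g
    obtain ⟨k, hk⟩ := P.isPGroup' ⟨g, by rw [htop]; trivial⟩
    exact ⟨k, by simpa using congrArg Subtype.val hk⟩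
  have hGnt : Nontrivial G := ⟨⟨x * y, 1, fun h => hxy (by rw [h, one_pow])⟩⟩
  obtain ⟨N₀, hN₀n, hN₀0, hN₀top⟩ : ∃ N : Subgroup G, N.Normal ∧ N ≠ ⊥ ∧ N ≠ ⊤ := by
    by_contra h
    push Not at h
    apply hns
    refine ⟨fun H hH => ?_⟩
    by_cases h0 : H = ⊥
    · left; exact h0
    · right; exact h H hH h0
  obtain ⟨A, hAN, hAn, hA0, hAmin⟩ := exists_minimal_normal N₀ hN₀n hN₀0
  have hAtop : A ≠ ⊤ := fun h => hN₀top (top_le_iff.mp (h ▸ hAN))
  haveI := hAn
  have hAexp : ∀ a ∈ A, a ^ p = 1 → a = 1 := by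
    obtain ⟨Ω, hΩ⟩ := hsub A hAtop
    have hmemΩ : ∀ h : A, h ∈ Ω ↔ h ^ p = 1 := by
      intro h
      have : h ∈ (Ω : Set A) ↔ h ∈ {g : A | g ^ p = 1} := by rw [hΩ]
      exact this
    have hΩn : (Ω.map A.subtype).Normal := by
      refine ⟨?_⟩
      rintro _ ⟨a, ha, rfl⟩ g
      refine ⟨⟨g * a * g⁻¹, hAn.conj_mem a a.2 g⟩, ?_, rfl⟩
      have ha' : a ^ p = 1 := (hmemΩ a).mp ha
      have ha'' : (a : G) ^ p = 1 := by simpa using congrArg Subtype.val ha'
      show _ ∈ Ω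
      rw [hmemΩ]
      apply Subtype.ext
      simp only [Subgroup.coe_pow, Subgroup.coe_one]
      rw [conj_pow, ha'']; group
    rcases hAmin _ hΩn (Subgroup.map_subtype_le _) with h | h
    · intro a ha hap
      have h1 : (⟨a, ha⟩ : A) ∈ Ω := by
        rw [hmemΩ]; exact Subtype.ext (by simpa using hap)
      have h2 : a ∈ Ω.map A.subtype := ⟨⟨a, ha⟩, h1, rfl⟩
      rw [h, Subgroup.mem_bot] at h2
      exact h2
    · exfalso
      apply hnp
      intro g
      refine ⟨2, ?_⟩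
      have hgA : g ^ p ∈ A := hquoexp A hA0 g
      rw [← h] at hgA
      obtain ⟨a, ha, hag⟩ := hgA
      have ha' : a ^ p = 1 := (hmemΩ a).mp ha
      have ha'' : (a : G) ^ p = 1 := by simpa using congrArg Subtype.val ha'
      have hag' : (a : G) = g ^ p := hag
      rw [pow_two, pow_mul, ← hag', ha'']
  have hAexp' : ∀ k : ℕ, ∀ a ∈ A, a ^ (p ^ k) = 1 → a = 1 := by
    intro k
    induction k with
    | zero => intro a _ h; simpa using h
    | succ k ih =>
      intro a ha h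
      apply ih a ha
      apply hAexp _ (A.pow_mem ha _)
      rw [← pow_mul, ← pow_succ]; exact h
  have hpel : ∀ g : G, ∀ k : ℕ, g ^ (p ^ k) = 1 → g ^ p = 1 := by
    intro g k hk
    apply hAexp' k _ (hquoexp A hA0 g)
    rw [← pow_mul, mul_comm, pow_mul, hk, one_pow]
  have hsub' : ∀ H : Subgroup G, H ≠ ⊤ → Cfsg.IsPClosed p ↥H := by
    intro H hH S
    obtain ⟨Ω, hΩ⟩ := hsub H hH
    have hmemΩ : ∀ h : H, h ∈ Ω ↔ h ^ p = 1 := by
      intro h
      have : h ∈ (Ω : Set H) ↔ h ∈ {g : H | g ^ p = 1} := by rw [hΩ]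
      exact this
    have hΩp : IsPGroup p Ω := by
      rintro ⟨h, hh⟩
      refine ⟨1, ?_⟩
      apply Subtype.ext
      rw [pow_one]
      exact (hmemΩ h).mp hh
    have hSΩ : (S : Subgroup H) ≤ Ω := by
      intro s hs
      rw [hmemΩ]
      obtain ⟨k, hk⟩ := S.isPGroup' ⟨s, hs⟩
      have hk' : s ^ (p ^ k) = 1 := by simpa using congrArg Subtype.val hk
      have hk'' : (s : G) ^ (p ^ k) = 1 := by simpa using congrArg Subtype.val hk'
      apply Subtype.ext
      simpa using hpel (s : G) k hk''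
    have hEq : Ω = S := S.is_maximal' hΩp hSΩ
    rw [← hEq]
    refine ⟨?_⟩
    intro n hn g
    rw [hmemΩ] at hn ⊢
    rw [conj_pow, hn]; group
  have hquo' : ∀ (N : Subgroup G) [N.Normal], N ≠ ⊥ → Cfsg.IsPClosed p (G ⧸ N) := by
    intro N _ hN S
    have hGN : IsPGroup p (G ⧸ N) := by
      intro g
      obtain ⟨g, rfl⟩ := QuotientGroup.mk'_surjective N g
      refine ⟨1, ?_⟩
      rw [pow_one, ← map_pow]
      exact (QuotientGroup.eq_one_iff _).mpr (hquoexp N hN g)
    have : (⊤ : Subgroup (G ⧸ N)) = S := S.is_maximal' (hGN.to_subgroup ⊤) le_top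
    rw [← this]; infer_instance
  have hnc' : ¬ Cfsg.IsPClosed p G := fun h => hd default (h default)
  exact Cfsg.Agent.S3868.result hnc' hsub' hquo' hns

end Cfsg.Agent.S3873
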