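import Cfsg.Statements.S3878
import Cfsg.Agent.Lib.Helper12.PrimeDegree
-- import your own Cfsg.Agent.* helpers here

set_option autoImplicit false
set_option linter.unusedSectionVars false
set_option linter.unusedVariables false
set_option linter.style.haveILetI false
open Cfsg

namespace Cfsg.Agent.S3878

section Easy

variable {G : Type*} [Group G] [Finite G]

/-- a finite group none of whose prime divisors ... is trivial -/
theorem card_eq_one_of_no_prime {n : ℕ} (hn : n ≠ 0) (h : ∀ p : ℕ, p.Prime → ¬ p ∣ n) : n = 1 := by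
  by_contra h1
  exact h _ (Nat.minFac_prime h1) (Nat.minFac_dvd n)

theorem hall_of_no_prime (π : Set ℕ) (h : ∀ p : ℕ, p.Prime → p ∉ π) :
    IsPiHall π (⊥ : Subgroup G) := by
  refine ⟨fun p hp hd => ?_, fun p hp hpπ => absurd hpπ (h p hp)⟩
  rw [Subgroup.card_bot] at hd
  exact absurd (Nat.dvd_one.mp hd) hp.one_lt.ne'

theorem hall_of_unique_prime (π : Set ℕ) (p : ℕ) (hp : p.Prime) (hpπ : p ∈ π)
    (h : ∀ q : ℕ, q.Prime → q ∈ π → q = p) :
    ∃ H : Subgroup G, IsPiHall π H := by
  haveI : Fact p.Prime := ⟨hp⟩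
  obtain ⟨P⟩ : Nonempty (Sylow p G) := inferInstance
  refine ⟨P, fun q hq hd => ?_, fun q hq hqπ => ?_⟩
  · obtain ⟨k, hk⟩ := IsPGroup.iff_card.mp P.isPGroup'
    rw [hk] at hd
    have := (Nat.prime_dvd_prime_iff_eq hq hp).mp (hq.dvd_of_dvd_pow hd)
    rw [this]; exact hpπ
  · rw [h q hq hqπ]
    exact P.not_dvd_index

theorem hall_top (π : Set ℕ) (h : ∀ p : ℕ, p.Prime → p ∈ π) :
    IsPiHall π (⊤ : Subgroup G) := by
  refine ⟨fun p hp _ => h p hp, fun p hp _ hd => ?_⟩
  rw [Subgroup.index_top] at hd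
  exact absurd (Nat.dvd_one.mp hd) hp.one_lt.ne'

theorem epi_of_cond (π : Set ℕ)
    (h : (∀ p q : ℕ, p.Prime → q.Prime → p ∈ π → q ∈ π → p = q) ∨ ∀ p : ℕ, p.Prime → p ∈ π) :
    IsEPiGroup π G := by
  rcases h with h | h
  · by_cases hex : ∃ p : ℕ, p.Prime ∧ p ∈ π
    · obtain ⟨p, hp, hpπ⟩ := hex
      exact hall_of_unique_prime π p hp hpπ (fun q hq hqπ => h q p hq hp hqπ hpπ)
    · push Not at hex
      exact ⟨⊥, hall_of_no_prime π hex⟩
  · exact ⟨⊤, hall_top π h⟩

theorem conj_self (H : Subgroup G) : H = H.map (MulAut.conj (1 : G)).toMonoidHom := by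
  ext x
  simp

theorem dpi_of_cond (π : Set ℕ)
    (h : (∀ p q : ℕ, p.Prime → q.Prime → p ∈ π → q ∈ π → p = q) ∨ ∀ p : ℕ, p.Prime → p ∈ π) :
    IsDPiGroup π G := by
  intro H K hH hK
  rcases h with h | h
  · by_cases hex : ∃ p : ℕ, p.Prime ∧ p ∈ π
    · obtain ⟨p, hp, hpπ⟩ := hex
      haveI : Fact p.Prime := ⟨hp⟩
      have key : ∀ M : Subgroup G, IsPiSubgroup π M → IsPGroup p M := by
        intro M hM
        have hc : Nat.card M ≠ 0 := Nat.card_pos.ne'
        have : ∀ q : ℕ, q.Prime → q ∣ Nat.card M → q = p :=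
          fun q hq hd => h q p hq hp (hM q hq hd) hpπ
        obtain ⟨k, hk⟩ : ∃ k, Nat.card M = p ^ k := by
          exact ⟨_, Nat.eq_prime_pow_of_unique_prime_dvd hc (fun {q} hq hd => this q hq hd)⟩
        exact IsPGroup.of_card hk
      have key2 : ∀ P : Sylow p G, IsPiSubgroup π (P : Subgroup G) := by
        intro P q hq hd
        obtain ⟨k, hk⟩ := IsPGroup.iff_card.mp P.isPGroup'
        rw [hk] at hd
        have := (Nat.prime_dvd_prime_iff_eq hq hp).mp (hq.dvd_of_dvd_pow hd)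
        rw [this]; exact hpπ
      have syl : ∀ M : Subgroup G, Maximal (IsPiSubgroup π) M → ∃ P : Sylow p G, (P : Subgroup G) = M := by
        intro M hM
        obtain ⟨P, hP⟩ := (key M hM.1).exists_le_sylow
        exact ⟨P, le_antisymm (hM.2 (key2 P) hP) hP⟩
      obtain ⟨P, rfl⟩ := syl H hH
      obtain ⟨Q, rfl⟩ := syl K hK
      obtain ⟨g, hg⟩ := MulAction.exists_smul_eq G P Q
      refine ⟨g, ?_⟩
      rw [← hg]
      rfl
    · push Not at hex
      have key : ∀ M : Subgroup G, IsPiSubgroup π M → M = ⊥ := by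
        intro M hM
        have : Nat.card M = 1 := card_eq_one_of_no_prime Nat.card_pos.ne'
          (fun p hp hd => hex p hp (hM p hp hd))
        exact Subgroup.card_eq_one.mp this
      rw [key H hH.1, key K hK.1]
      exact ⟨1, conj_self _⟩
  · have key : ∀ M : Subgroup G, Maximal (IsPiSubgroup π) M → M = ⊤ := by
      intro M hM
      exact top_le_iff.mp (hM.2 (fun p hp _ => h p hp) le_top)
    rw [key H hH, key K hK]
    exact ⟨1, conj_self _⟩

/-- `D_π` implies `E_π` -/
theorem epi_of_dpi (π : Set ℕ) (h : IsDPiGroup π G) : IsEPiGroup π G := by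
  classical
  have hbot : IsPiSubgroup π (⊥ : Subgroup G) := by
    intro p hp hd
    rw [Subgroup.card_bot] at hd
    exact absurd (Nat.dvd_one.mp hd) hp.one_lt.ne'
  have hfin : Set.Finite {M : Subgroup G | IsPiSubgroup π M} := Set.toFinite _
  have exmax : ∀ A : Subgroup G, IsPiSubgroup π A →
      ∃ M, A ≤ M ∧ Maximal (IsPiSubgroup π) M := by
    intro A hA
    obtain ⟨M, hAM, hM⟩ := hfin.toFinset.exists_le_maximal (a := A) (by simpa using hA)
    refine ⟨M, hAM, ?_⟩
    simpa using hM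
  obtain ⟨M, -, hM⟩ := exmax ⊥ hbot
  refine ⟨M, hM.1, fun p hp hpπ hd => ?_⟩
  haveI : Fact p.Prime := ⟨hp⟩
  obtain ⟨P⟩ : Nonempty (Sylow p G) := inferInstance
  have hP : IsPiSubgroup π (P : Subgroup G) := by
    intro q hq hd
    obtain ⟨k, hk⟩ := IsPGroup.iff_card.mp P.isPGroup'
    rw [hk] at hd
    have := (Nat.prime_dvd_prime_iff_eq hq hp).mp (hq.dvd_of_dvd_pow hd)
    rw [this]; exact hpπ
  obtain ⟨M', hPM', hM'⟩ := exmax P hP
  obtain ⟨g, hg⟩ := h M M' hM hM'
  have hidx : M'.index = M.index := by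
    rw [hg]
    exact Subgroup.index_map_equiv M (MulAut.conj g)
  have : M'.index ∣ (P : Subgroup G).index := Subgroup.index_dvd_of_le hPM'
  rw [hidx] at this
  exact P.not_dvd_index (dvd_trans hd this)

end Easy

open Cfsg.Agent.Lib.Helper12.PrimeDegree


/-- in a Hall subgroup for `π ∋ s`, `s` divides the order once it divides the group order -/
theorem dvd_card_of_hall {G : Type*} [Group G] [Finite G] (π : Set ℕ) (H : Subgroup G)
    (hH : IsPiHall π H) (s : ℕ) (hs : s.Prime) (hsπ : s ∈ π) (k : ℕ) (hd : s ^ k ∣ Nat.card G) :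
    s ^ k ∣ Nat.card H := by
  have h1 := Subgroup.card_mul_index H
  rw [← h1] at hd
  have hcop : Nat.Coprime (s ^ k) H.index :=
    Nat.Coprime.pow_left k ((Nat.Prime.coprime_iff_not_dvd hs).mpr (hH.2 s hs hsπ))
  exact hcop.dvd_of_dvd_mul_right hd

theorem no_hall_sym (π : Set ℕ) (s r : ℕ) (hs : s.Prime) (hr : r.Prime) (h2 : 2 ∈ π)
    (hsπ : s ∈ π) (hrπ : r ∉ π) (hrs : r < s) :
    ¬ IsEPiGroup π (Equiv.Perm (Fin s)) := by
  classical
  rintro ⟨H, hH⟩
  haveI : Fact s.Prime := ⟨hs⟩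
  have hs2 : 2 ≤ s := hs.two_le
  haveI : NeZero s := ⟨by omega⟩
  have hcard : Nat.card (Equiv.Perm (Fin s)) = s.factorial := by
    rw [Nat.card_perm, Nat.card_eq_fintype_card, Fintype.card_fin]
  -- `s` divides `|H|`
  have hsH : s ∣ Nat.card H := by
    have := dvd_card_of_hall π H hH s hs hsπ 1 (by rw [pow_one, hcard]; exact Nat.dvd_factorial hs.pos le_rfl)
    simpa using this
  -- a swap in `H`
  obtain ⟨a, b, hab⟩ : ∃ a b : Fin s, a ≠ b := ⟨⟨0, by omega⟩, ⟨1, by omega⟩, by simp [Fin.ext_iff]⟩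
  set τ : Equiv.Perm (Fin s) := Equiv.swap a b with hτ
  have hτ2 : IsPGroup 2 (Subgroup.zpowers τ) := by
    apply IsPGroup.of_card (n := 1)
    rw [Nat.card_zpowers, pow_one]
    exact Equiv.Perm.IsSwap.orderOf ⟨a, b, hab, rfl⟩
  have hodd : ¬ 2 ∣ Nat.card (Equiv.Perm (Fin s) ⧸ H) := by
    have := hH.2 2 Nat.prime_two h2
    rwa [Subgroup.index] at this
  obtain ⟨x, hx⟩ := hτ2.nonempty_fixed_point_of_prime_not_dvd_card (Equiv.Perm (Fin s) ⧸ H) hodd
  obtain ⟨g, rfl⟩ := QuotientGroup.mk_surjective x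
  have hfix : (⟨τ, Subgroup.mem_zpowers τ⟩ : Subgroup.zpowers τ) • (g : Equiv.Perm (Fin s) ⧸ H) = g :=
    hx ⟨τ, Subgroup.mem_zpowers τ⟩
  have hmem : g⁻¹ * τ * g ∈ H := by
    have h1 : ((τ * g : Equiv.Perm (Fin s)) : Equiv.Perm (Fin s) ⧸ H) = g := hfix
    rw [QuotientGroup.eq] at h1
    have h2 : g⁻¹ * τ * g = ((τ * g)⁻¹ * g)⁻¹ := by group
    rw [h2]
    exact H.inv_mem h1
  have hswap : Equiv.Perm.IsSwap (g⁻¹ * τ * g) := by
    refine ⟨g⁻¹ a, g⁻¹ b, fun h => hab (g⁻¹.injective h), ?_⟩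
    have := Equiv.swap_apply_apply g⁻¹ a b
    rw [inv_inv] at this
    exact this.symm
  have htop : H = ⊤ := by
    apply Equiv.Perm.subgroup_eq_top_of_swap_mem (τ := g⁻¹ * τ * g) _ _ hmem hswap
    · rw [Fintype.card_fin]; exact hs
    · rw [Fintype.card_fin, ← Nat.card_eq_fintype_card]; exact hsH
  -- contradiction: `r ∣ |H|`
  have hrH : r ∣ Nat.card H := by
    rw [htop, Subgroup.card_top, hcard]
    exact Nat.dvd_factorial hr.pos hrs.le
  exact hrπ (hH.1 r hr hrH)



theorem no_hall_alt (π : Set ℕ) (r : ℕ) (hr : r.Prime) (hr5 : 5 ≤ r) (hrπ : r ∉ π)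
    (hlt : ∀ s : ℕ, s.Prime → s < r → s ∈ π) :
    ¬ IsEPiGroup π (alternatingGroup (Fin (r + 1))) := by
  classical
  rintro ⟨H, hH⟩
  haveI : Nontrivial (Fin (r + 1)) := Fin.nontrivial_iff_two_le.mpr (by omega)
  have hcard2 : 2 * Nat.card (alternatingGroup (Fin (r + 1))) = (r + 1).factorial := by
    rw [two_mul_nat_card_alternatingGroup, Nat.card_perm, Nat.card_eq_fintype_card,
      Fintype.card_fin]
  have hrodd : r % 2 = 1 := by
    rcases hr.eq_two_or_odd with h | h <;> omega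
  have hidx := Subgroup.card_mul_index H
  have hi_dvd : H.index ∣ (r + 1) * (r * (r - 1).factorial) := by
    rw [Nat.mul_factorial_pred hr.pos.ne', ← Nat.factorial_succ, ← hcard2, ← hidx]
    exact Dvd.dvd.mul_left (Dvd.intro_left _ rfl) 2
  have hcop : ∀ m : ℕ, (∀ s : ℕ, s.Prime → s ∣ m → s < r) → Nat.Coprime H.index m :=
    fun m hm => Nat.coprime_of_dvd
      (fun k hk hki hkm => hH.2 k hk (hlt k hk (hm k hk hkm)) hki)
  have hc1 : Nat.Coprime H.index (r + 1) := by
    apply hcop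
    intro s hs hsd
    have h2 : 2 ∣ r + 1 := by omega
    have hle : s ≤ r + 1 := Nat.le_of_dvd (by omega) hsd
    have hne1 : s ≠ r + 1 := by
      rintro rfl
      have := (Nat.prime_dvd_prime_iff_eq Nat.prime_two hs).mp h2
      omega
    have hne2 : s ≠ r := by
      rintro rfl
      have : s ∣ 1 := (Nat.dvd_add_right (dvd_refl s)).mp hsd
      exact hs.one_lt.ne' (Nat.dvd_one.mp this)
    omega
  have hc2 : Nat.Coprime H.index (r - 1).factorial := by
    apply hcop
    intro s hs hsd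
    have := (Nat.Prime.dvd_factorial hs).mp hsd
    omega
  have h1 : H.index ∣ r * (r - 1).factorial := hc1.dvd_of_dvd_mul_left hi_dvd
  have h2 : H.index ∣ r := hc2.dvd_of_dvd_mul_right h1
  have hrG : r ∣ Nat.card (alternatingGroup (Fin (r + 1))) := by
    have h3 : r ∣ 2 * Nat.card (alternatingGroup (Fin (r + 1))) := by
      rw [hcard2]; exact Nat.dvd_factorial hr.pos (by omega)
    have hc : Nat.Coprime r 2 := by
      rw [Nat.coprime_comm, Nat.Prime.coprime_iff_not_dvd Nat.prime_two]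
      omega
    exact hc.dvd_of_dvd_mul_left h3
  rcases (Nat.dvd_prime hr).mp h2 with h | h
  · -- index 1
    have htop : H = ⊤ := Subgroup.index_eq_one.mp h
    have : r ∣ Nat.card H := by rw [htop, Subgroup.card_top]; exact hrG
    exact hrπ (hH.1 r hr this)
  · -- index r
    haveI : IsSimpleGroup (alternatingGroup (Fin (r + 1))) :=
      alternatingGroup.isSimpleGroup (by rw [Nat.card_eq_fintype_card, Fintype.card_fin]; omega)
    have hker := Subgroup.normalCore_eq_ker H
    rcases (H.normalCore_normal).eq_bot_or_eq_top with hb | ht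
    · have hinj : Function.Injective
          (MulAction.toPermHom (alternatingGroup (Fin (r + 1))) (alternatingGroup (Fin (r + 1)) ⧸ H)) := by
        rw [← MonoidHom.ker_eq_bot_iff, ← hker, hb]
      have hle := Nat.card_le_card_of_injective _ hinj
      rw [Nat.card_perm, ← Subgroup.index_eq_card, h] at hle
      have h4 : (r + 1) * r.factorial ≤ 2 * r.factorial := by
        rw [← Nat.factorial_succ, ← hcard2]
        exact Nat.mul_le_mul_left 2 hle
      have := Nat.le_of_mul_le_mul_right h4 (Nat.factorial_pos r)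
      omega
    · have : H = ⊤ := top_le_iff.mp (ht ▸ H.normalCore_le)
      rw [this, Subgroup.index_top] at h
      omega





/-- a group acting on `Fin s` in which only the identity fixes two points has order dividing
`s * (s - 1)` -/
theorem card_dvd_of_two_point_free {s : ℕ} (H : Subgroup (Equiv.Perm (Fin s)))
    (hfree : ∀ g ∈ H, ∀ x y : Fin s, x ≠ y → g x = x → g y = y → g = 1) :
    Nat.card H ∣ s * (s - 1) := by
  classical
  have hstab : ∀ x : Fin 2 ↪ Fin s, MulAction.stabilizer H x = ⊥ := by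
    intro x
    rw [eq_bot_iff]
    intro g hg
    rw [MulAction.mem_stabilizer_iff] at hg
    have h0 : (g : Equiv.Perm (Fin s)) (x 0) = x 0 := by
      have := congrArg (fun f : Fin 2 ↪ Fin s => f 0) hg
      exact this
    have h1 : (g : Equiv.Perm (Fin s)) (x 1) = x 1 := by
      have := congrArg (fun f : Fin 2 ↪ Fin s => f 1) hg
      exact this
    have hne : x 0 ≠ x 1 := fun h => by
      have := x.injective h
      simp at this
    have := hfree g g.2 (x 0) (x 1) hne h0 h1
    rw [Subgroup.mem_bot]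
    exact Subtype.ext this
  have e := MulAction.selfEquivOrbitsQuotientProd hstab
  have hc := Nat.card_congr e
  rw [Nat.card_prod, Nat.card_eq_fintype_card (α := Fin 2 ↪ Fin s), Fintype.card_embedding_eq,
    Fintype.card_fin, Fintype.card_fin] at hc
  have h2 : s.descFactorial 2 = s * (s - 1) := by
    simp [Nat.descFactorial]
    ring
  rw [← h2, hc]
  exact Dvd.intro_left _ rfl

theorem no_hall_sym_odd (π : Set ℕ) (s t : ℕ) (hs : s.Prime) (ht : t.Prime) (h2 : 2 ∉ π)
    (hsπ : s ∈ π) (htπ : t ∈ π) (hts : t < s) :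
    ¬ IsEPiGroup π (Equiv.Perm (Fin s)) := by
  classical
  rintro ⟨H, hH⟩
  haveI : Fact s.Prime := ⟨hs⟩
  have hs_odd : s % 2 = 1 := by
    rcases hs.eq_two_or_odd with h | h
    · exact absurd (h ▸ hsπ) h2
    · exact h
  have ht_odd : t % 2 = 1 := by
    rcases ht.eq_two_or_odd with h | h
    · exact absurd (h ▸ htπ) h2
    · exact h
  have ht2 := ht.two_le
  have hs5 : 5 ≤ s := by omega
  haveI : NeZero s := ⟨by omega⟩
  have hcard : Nat.card (Equiv.Perm (Fin s)) = s.factorial := by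
    rw [Nat.card_perm, Nat.card_eq_fintype_card, Fintype.card_fin]
  have hsH : s ∣ Nat.card H := by
    have := dvd_card_of_hall π H hH s hs hsπ 1
      (by rw [pow_one, hcard]; exact Nat.dvd_factorial hs.pos le_rfl)
    simpa using this
  have hodd : ¬ 2 ∣ Nat.card H := fun h => h2 (hH.1 2 Nat.prime_two h)
  -- transitivity
  obtain ⟨σ, hσ⟩ := exists_prime_orderOf_dvd_card' s hsH
  have hσ1 : orderOf (σ : Equiv.Perm (Fin s)) = Fintype.card (Fin s) := by
    rw [Fintype.card_fin]; exact (Subgroup.orderOf_coe σ).trans hσ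
  have hσ2 : (σ : Equiv.Perm (Fin s)).IsCycle :=
    Equiv.Perm.isCycle_of_prime_order'' (by rw [Fintype.card_fin]; exact hs) hσ1
  have hσ3 : (σ : Equiv.Perm (Fin s)).support = Finset.univ :=
    Finset.eq_univ_of_card _ (hσ2.orderOf.symm.trans hσ1)
  haveI htrans : MulAction.IsPretransitive H (Fin s) := by
    refine ⟨fun x y => ?_⟩
    have hx : (σ : Equiv.Perm (Fin s)) x ≠ x := by
      rw [← Equiv.Perm.mem_support, hσ3]; exact Finset.mem_univ _
    have hy : (σ : Equiv.Perm (Fin s)) y ≠ y := by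
      rw [← Equiv.Perm.mem_support, hσ3]; exact Finset.mem_univ _
    obtain ⟨i, hi⟩ := hσ2.exists_zpow_eq hx hy
    refine ⟨σ ^ i, ?_⟩
    show ((σ ^ i : H) : Equiv.Perm (Fin s)) x = y
    rw [Subgroup.coe_zpow]
    exact hi
  rcases affine_or_two_trans (p := s) (by rw [Fintype.card_fin]) hs5 H with haff | h2t
  · -- affine case
    obtain ⟨e, he⟩ := haff
    have hfree : ∀ g ∈ H, ∀ x y : Fin s, x ≠ y → g x = x → g y = y → g = 1 := by
      intro g hg x y hxy hx hy
      obtain ⟨a, b, hab⟩ := he g hg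
      have h1 := hab x
      have h2' := hab y
      rw [hx] at h1
      rw [hy] at h2'
      have hne : e x - e y ≠ 0 := sub_ne_zero.mpr (fun h => hxy (e.injective h))
      have h3 : (a - 1) * (e x - e y) = 0 := by linear_combination h2' - h1
      have ha : a = 1 := by
        rcases mul_eq_zero.mp h3 with h | h
        · exact sub_eq_zero.mp h
        · exact absurd h hne
      have hb : b = 0 := by
        rw [ha] at h1
        linear_combination -h1
      ext z
      have := hab z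
      rw [ha, hb, one_mul, add_zero] at this
      rw [e.injective this]
      rfl
    have hdvd := card_dvd_of_two_point_free H hfree
    -- t-part
    obtain ⟨m, rfl⟩ : ∃ m, s = m + 2 := ⟨s - 2, by omega⟩
    have htm : t ≤ m := by omega
    set a := (m + 1).factorization t with ha
    have h1 : t ^ (a + 1) ∣ (m + 2).factorial := by
      have e1 : (m + 2).factorial = (m + 2) * ((m + 1) * m.factorial) := by
        rw [Nat.factorial_succ, Nat.factorial_succ]
      rw [e1, pow_succ]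
      exact Dvd.dvd.mul_left (Nat.mul_dvd_mul (Nat.ordProj_dvd _ _) (Nat.dvd_factorial ht.pos htm)) _
    have h3 : t ^ (a + 1) ∣ Nat.card H :=
      dvd_card_of_hall π H hH t ht htπ (a + 1) (by rw [hcard]; exact h1)
    have h4 : t ^ (a + 1) ∣ (m + 2) * (m + 2 - 1) := dvd_trans h3 hdvd
    have hcop : Nat.Coprime (t ^ (a + 1)) (m + 2) := by
      apply Nat.Coprime.pow_left
      rw [Nat.coprime_primes ht hs]
      omega
    have h5 : t ^ (a + 1) ∣ m + 1 := by
      have : m + 2 - 1 = m + 1 := by omega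
      rw [this] at h4
      exact hcop.dvd_of_dvd_mul_left h4
    exact Nat.pow_succ_factorization_not_dvd (by omega) ht h5
  · -- 2-transitive: even order
    obtain ⟨a, b, hab⟩ : ∃ a b : Fin s, a ≠ b := ⟨⟨0, by omega⟩, ⟨1, by omega⟩, by simp [Fin.ext_iff]⟩
    let x : Fin 2 ↪ Fin s := ⟨![a, b], by
      intro i j hij
      fin_cases i <;> fin_cases j <;> simp_all⟩
    have hba : b ≠ a := hab.symm
    let y : Fin 2 ↪ Fin s := ⟨![b, a], by
      intro i j hij
      fin_cases i <;> fin_cases j <;> simp_all⟩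
    obtain ⟨g, hg⟩ := MulAction.exists_smul_eq H x y
    have hga : (g : Equiv.Perm (Fin s)) a = b := by
      have := congrArg (fun f : Fin 2 ↪ Fin s => f 0) hg
      exact this
    have hgb : (g : Equiv.Perm (Fin s)) b = a := by
      have := congrArg (fun f : Fin 2 ↪ Fin s => f 1) hg
      exact this
    have hord : orderOf g ∣ Nat.card H := orderOf_dvd_natCard g
    have hoddg : ¬ 2 ∣ orderOf g := fun h => hodd (dvd_trans h hord)
    obtain ⟨k, hk⟩ : ∃ k, orderOf g = 2 * k + 1 := ⟨orderOf g / 2, by omega⟩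
    have hpow : ∀ n : ℕ, ((g : Equiv.Perm (Fin s)) ^ (2 * n)) a = a := by
      intro n
      induction n with
      | zero => simp
      | succ n ih =>
        rw [show 2 * (n + 1) = 2 * n + 2 by ring, pow_add, Equiv.Perm.mul_apply, pow_two,
          Equiv.Perm.mul_apply, hga, hgb, ih]
    have h1 : ((g : Equiv.Perm (Fin s)) ^ (2 * k + 1)) a = a := by
      rw [← hk, ← Subgroup.coe_pow, pow_orderOf_eq_one]
      rfl
    rw [pow_succ, Equiv.Perm.mul_apply, hga] at h1
    -- g^(2k) b = a, but g^(2k) a = a so b = a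
    have := hpow k
    exact hab ((((g : Equiv.Perm (Fin s)) ^ (2 * k)).injective (this.trans h1.symm)))


theorem exists_no_hall (π : Set ℕ) (p q r : ℕ) (hp : p.Prime) (hq : q.Prime) (hr : r.Prime)
    (hpπ : p ∈ π) (hqπ : q ∈ π) (hpq : p ≠ q) (hrπ : r ∉ π) :
    ∃ (G : Type) (_ : Group G) (_ : Finite G), ¬ IsEPiGroup π G := by
  classical
  have hex : ∃ r : ℕ, r.Prime ∧ r ∉ π := ⟨r, hr, hrπ⟩
  obtain ⟨hr₀, hr₀π⟩ := Nat.find_spec hex
  have hmin : ∀ s : ℕ, s.Prime → s < Nat.find hex → s ∈ π := fun s hs hlt => by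
    by_contra h
    exact Nat.find_min hex hlt ⟨hs, h⟩
  by_cases h2 : 2 ∈ π
  · by_cases hbig : ∃ s : ℕ, s.Prime ∧ s ∈ π ∧ Nat.find hex < s
    · obtain ⟨s, hs, hsπ, hlt⟩ := hbig
      exact ⟨Equiv.Perm (Fin s), inferInstance, inferInstance,
        no_hall_sym π s (Nat.find hex) hs hr₀ h2 hsπ hr₀π hlt⟩
    · push Not at hbig
      obtain ⟨t, ht, htπ, ht2⟩ : ∃ t : ℕ, t.Prime ∧ t ∈ π ∧ t ≠ 2 := by
        by_cases hp2 : p = 2
        · exact ⟨q, hq, hqπ, fun h => hpq (hp2.trans h.symm)⟩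
        · exact ⟨p, hp, hpπ, hp2⟩
      have ht3 : 3 ≤ t := by
        have := ht.two_le
        omega
      have hle := hbig t ht htπ
      have hne : t ≠ Nat.find hex := fun h => hr₀π (h ▸ htπ)
      have hr5 : 5 ≤ Nat.find hex := by
        rcases Nat.lt_or_ge 4 (Nat.find hex) with h | h
        · omega
        · have h4 : Nat.find hex = 4 := by omega
          rw [h4] at hr₀
          norm_num at hr₀
      exact ⟨alternatingGroup (Fin (Nat.find hex + 1)), inferInstance, inferInstance,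
        no_hall_alt π (Nat.find hex) hr₀ hr5 hr₀π hmin⟩
  · rcases lt_or_gt_of_ne hpq with h | h
    · exact ⟨Equiv.Perm (Fin q), inferInstance, inferInstance,
        no_hall_sym_odd π q p hq hp h2 hqπ hpπ h⟩
    · exact ⟨Equiv.Perm (Fin p), inferInstance, inferInstance,
        no_hall_sym_odd π p q hp hq h2 hpπ hqπ h⟩

/-- For a set of primes π the following are equivalent: every finite group has a Hall π-subgroup; in every finite group the maximal π-subgroups are pairwise conjugate; π contains at most one prime or contains every prime. -/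
theorem result (π : Set ℕ) :
    ((∀ (G : Type) [Group G] [Finite G], Cfsg.IsEPiGroup π G) ↔
      ((∀ p q : ℕ, p.Prime → q.Prime → p ∈ π → q ∈ π → p = q) ∨ ∀ p : ℕ, p.Prime → p ∈ π)) ∧
    ((∀ (G : Type) [Group G] [Finite G], Cfsg.IsDPiGroup π G) ↔
      ((∀ p q : ℕ, p.Prime → q.Prime → p ∈ π → q ∈ π → p = q) ∨ ∀ p : ℕ, p.Prime → p ∈ π)) := by
  have key : (∀ (G : Type) [Group G] [Finite G], Cfsg.IsEPiGroup π G) →
      ((∀ p q : ℕ, p.Prime → q.Prime → p ∈ π → q ∈ π → p = q) ∨ ∀ p : ℕ, p.Prime → p ∈ π) := by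
    intro h
    by_contra hc
    push Not at hc
    obtain ⟨⟨p, q, hp, hq, hpπ, hqπ, hpq⟩, ⟨r, hr, hrπ⟩⟩ := hc
    obtain ⟨G, iG, iF, hG⟩ := exists_no_hall π p q r hp hq hr hpπ hqπ hpq hrπ
    exact hG (@h G iG iF)
  exact ⟨⟨key, fun h G _ _ => epi_of_cond π h⟩,
    ⟨fun h => key (fun G _ _ => epi_of_dpi π (h G)), fun h G _ _ => dpi_of_cond π h⟩⟩

end Cfsg.Agent.S3878
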