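import Mathlib
import Cfsg.Statements.S3879
import Cfsg.Agent.Lib.Helper64.MetaCore

set_option autoImplicit false
open Cfsg

namespace Cfsg.Agent.S3879

open Cfsg.Agent.Lib.Helper64

theorem result {G : Type*} [Group G] [Finite G] {p : ℕ} [Fact p.Prime] (hp : p ≠ 2) (hG : IsPGroup p G) (hmc : Cfsg.IsMetacyclic G) : (Subgroup.center G).index = Nat.card ↥(commutator G) ^ 2 := by
  obtain ⟨D⟩ := exists_metaDatum hG hmc
  obtain ⟨n, hn⟩ := (IsPGroup.iff_orderOf.mp hG) D.c
  have h1 := D.card_eq_card_U_mul hp hG hn le_rfl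
  rw [D.U_eq_center hp hG hn] at h1
  have h2 := Subgroup.card_mul_index (Subgroup.center G)
  rw [D.card_commutator, hn, ← pow_mul, mul_comm n 2]
  rw [h1] at h2
  exact Nat.eq_of_mul_eq_mul_left Nat.card_pos h2

end Cfsg.Agent.S3879
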