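import Mathlib
import Cfsg.Statements.S3880
import Cfsg.Agent.Lib.Helper64.MetaAbel

set_option autoImplicit false
open Cfsg

namespace Cfsg.Agent.S3880

open Cfsg.Agent.Lib.Helper64

theorem result {G : Type*} [Group G] [Finite G] {p : ℕ} [Fact p.Prime] (hp : p ≠ 2) (hG : IsPGroup p G) (hmc : Cfsg.IsMetacyclic G) (L : Subgroup G) :
    (IsMulCommutative ↥L ↔ Nat.card ↥L ≤ (commutator G).index) ∧
      (Maximal (fun K : Subgroup G => IsMulCommutative ↥K) L ↔ Nat.card ↥L = (commutator G).index) := by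
  have hpp : p.Prime := Fact.out
  obtain ⟨D⟩ := exists_metaDatum hG hmc
  obtain ⟨n, hn⟩ := (IsPGroup.iff_orderOf.mp hG) D.c
  have ha : ∀ R : Subgroup G, IsMulCommutative ↥R ↔ Nat.card R ≤ (commutator G).index :=
    D.subgroup_comm_iff hp hG hn
  refine ⟨ha L, ?_⟩
  constructor
  · rintro ⟨hLab, hmax⟩
    have hle := (ha L).mp hLab
    by_contra hne
    have hlt : Nat.card L < (commutator G).index := lt_of_le_of_ne hle hne
    obtain ⟨x, hx⟩ := IsPGroup.iff_card.mp (hG.to_subgroup L)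
    obtain ⟨N, hN⟩ := IsPGroup.iff_card.mp hG
    have hdv : (commutator G).index ∣ p ^ N := by
      rw [← hN]; exact Subgroup.index_dvd_card (commutator G)
    obtain ⟨y, -, hy⟩ := (Nat.dvd_prime_pow hpp).mp hdv
    rw [hx, hy] at hlt
    have hxy : x + 1 ≤ y := (Nat.pow_lt_pow_iff_right hpp.one_lt).mp hlt
    have hdvd : p ^ (x + 1) ∣ Nat.card G :=
      (pow_dvd_pow p hxy).trans (by rw [← hy]; exact Subgroup.index_dvd_card _)
    obtain ⟨K, hK, hLK⟩ := Sylow.exists_subgroup_card_pow_succ hdvd hx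
    have hKab : IsMulCommutative ↥K := by
      rw [ha K, hK, hy]
      exact Nat.pow_le_pow_right hpp.pos hxy
    have hKL : K ≤ L := hmax hKab hLK
    have := Subgroup.card_le_of_le hKL
    rw [hK, hx] at this
    have := (Nat.pow_le_pow_iff_right hpp.one_lt).mp this
    omega
  · intro hcard
    refine ⟨(ha L).mpr hcard.le, ?_⟩
    intro K hK hLK
    have h1 : Nat.card K ≤ Nat.card L := by rw [hcard]; exact (ha K).mp hK
    exact (Subgroup.eq_of_le_of_card_ge hLK h1).ge

end Cfsg.Agent.S3880
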