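import Mathlib
import Cfsg.Statements.S3881
import Cfsg.Agent.Lib.Helper64.MetaPow

set_option autoImplicit false
open Cfsg

namespace Cfsg.Agent.S3881

open Cfsg.Agent.Lib.Helper64

theorem result {G : Type*} [Group G] [Finite G] {p : ℕ} [Fact p.Prime] (hp : p ≠ 2) (hG : IsPGroup p G) (hmc : Cfsg.IsMetacyclic G) (n : ℕ) (hn : n ≠ 0) (hGn : Nat.card ↥(commutator G) = p ^ n) (i : ℕ) (hi : 1 ≤ i) (hin : i ≤ n) :
    Nat.card {g : G // (Subgroup.centralizer ({g} : Set G)).index = p ^ i} =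
      Nat.card ↥(Subgroup.center G) * (p ^ (2 * i) - p ^ (2 * i - 2)) := by
  have hpp : p.Prime := Fact.out
  obtain ⟨D⟩ := exists_metaDatum hG hmc
  have hcn : orderOf D.c = p ^ n := by rw [← D.card_commutator]; exact hGn
  have hs1 : n - i ≤ n := Nat.sub_le _ _
  have hs2 : n - i + 1 ≤ n := by omega
  have hset : {g : G | (Subgroup.centralizer ({g} : Set G)).index = p ^ i} =
      (D.U (n - i) : Set G) \ (D.U (n - i + 1) : Set G) := by
    ext g
    simp only [Set.mem_ofPred_eq, Set.mem_sdiff, SetLike.mem_coe]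
    rw [D.mem_U_iff_index hp hG hcn hs1, D.mem_U_iff_index hp hG hcn hs2]
    have e1 : n - (n - i) = i := by omega
    have e2 : n - (n - i + 1) = i - 1 := by omega
    rw [e1, e2]
    obtain ⟨f, hf⟩ : ∃ f, (Subgroup.centralizer ({g} : Set G)).index = p ^ f := by
      obtain ⟨N, hN⟩ := IsPGroup.iff_card.mp hG
      have hd : (Subgroup.centralizer ({g} : Set G)).index ∣ p ^ N := by
        rw [← hN]; exact Subgroup.index_dvd_card _
      obtain ⟨f, _, hf⟩ := (Nat.dvd_prime_pow hpp).mp hd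
      exact ⟨f, hf⟩
    rw [hf, Nat.pow_le_pow_iff_right hpp.one_lt, Nat.pow_le_pow_iff_right hpp.one_lt,
      Nat.pow_right_injective hpp.two_le |>.eq_iff]
    omega
  have hsub : (D.U (n - i + 1) : Set G) ⊆ (D.U (n - i) : Set G) := D.U_anti (Nat.le_succ _)
  have hcard : Nat.card {g : G // (Subgroup.centralizer ({g} : Set G)).index = p ^ i} =
      Nat.card (D.U (n - i)) - Nat.card (D.U (n - i + 1)) := by
    have h1 : Nat.card (D.U (n - i)) = (D.U (n - i) : Set G).ncard := rfl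
    have h2 : Nat.card (D.U (n - i + 1)) = (D.U (n - i + 1) : Set G).ncard := rfl
    rw [h1, h2, ← Set.ncard_sdiff hsub (Set.toFinite _), ← hset]
    rfl
  rw [hcard, D.card_U hp hG hcn hs1, D.card_U hp hG hcn hs2, ← Nat.mul_sub]
  have e1 : n - (n - i) = i := by omega
  have e2 : 2 * (n - (n - i + 1)) = 2 * i - 2 := by omega
  rw [e1, e2]

end Cfsg.Agent.S3881
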