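import Mathlib
import Cfsg.Statements.S3883
import Cfsg.Agent.Lib.Helper64.MetaAbel

set_option autoImplicit false
open Cfsg

namespace Cfsg.Agent.S3883

open Cfsg.Agent.Lib.Helper64

theorem result {G : Type*} [Group G] [Finite G] {p : ℕ} [Fact p.Prime] (hp : p ≠ 2) (hG : IsPGroup p G) (hmc : Cfsg.IsMetacyclic G) (hna : ¬ IsMulCommutative G) (g : G) :
    g ∉ frattini G ↔ IsMulCommutative ↥(Subgroup.centralizer ({g} : Set G)) := by
  have hpp : p.Prime := Fact.out
  obtain ⟨D⟩ := exists_metaDatum hG hmc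
  obtain ⟨n, hn⟩ := (IsPGroup.iff_orderOf.mp hG) D.c
  have hn1 : 1 ≤ n := by
    by_contra h
    have h0 : n = 0 := by omega
    rw [h0, pow_zero, orderOf_eq_one_iff] at hn
    exact hna (D.isMulCommutative_iff.mpr hn)
  obtain ⟨w, hw, -, hcomm, -⟩ := D.subgroup_structure hp hG hn (Subgroup.centralizer ({g} : Set G))
  rw [D.frattini_eq_U hp hG, D.mem_U_iff_index hp hG hn hn1, hcomm, hw,
    Nat.pow_le_pow_iff_right hpp.one_lt]
  omega

end Cfsg.Agent.S3883
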