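import Mathlib
import Cfsg.Statements.S3884
import Cfsg.Agent.Lib.Helper64.MetaSub

set_option autoImplicit false
open Cfsg

namespace Cfsg.Agent.S3884

open Cfsg.Agent.Lib.Helper64 Finset

/-- Natural-number form of `geom_dvd`. -/
theorem geom_dvd_nat {G : Type*} [Group G] {p : ℕ} [Fact p.Prime] (hp2 : p ≠ 2) (D : MetaDatum G p)
    (j z t e : ℕ) : p ^ e ∣ z * ∑ s ∈ range t, (D.r ^ j) ^ s ↔ p ^ e ∣ z * t := by
  have hp : p.Prime := Fact.out
  have h := geom_dvd hp hp2 (D.hr_pow j) (z : ℤ) t e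
  rw [← Int.natCast_dvd_natCast, ← Int.natCast_dvd_natCast]
  push_cast at h ⊢
  exact h

/-- `a ^ (1 + ρ + ... + ρ^(t-1))` and `a ^ t` generate the same subgroup, for `t` a power of `p`
dividing the order of `a`. -/
theorem zpowers_geom_eq {G : Type*} [Group G] [Finite G] {p : ℕ} [Fact p.Prime] (hp2 : p ≠ 2)
    (D : MetaDatum G p) {m : ℕ} (hm : orderOf D.a = p ^ m) (j t : ℕ) (ht : t ∣ p ^ m) :
    Subgroup.zpowers (D.a ^ ∑ s ∈ range t, (D.r ^ j) ^ s) = Subgroup.zpowers (D.a ^ t) := by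
  have hp : p.Prime := Fact.out
  obtain ⟨w, -, rfl⟩ := (Nat.dvd_prime_pow hp).mp ht
  set S := ∑ s ∈ range (p ^ w), (D.r ^ j) ^ s with hS
  have hSe : ∀ e : ℕ, p ^ e ∣ S ↔ p ^ e ∣ p ^ w := by
    intro e
    have := geom_dvd_nat hp2 D j 1 (p ^ w) e
    rwa [one_mul, one_mul] at this
  have htS : p ^ w ∣ S := (hSe w).mpr dvd_rfl
  have hle : Subgroup.zpowers (D.a ^ S) ≤ Subgroup.zpowers (D.a ^ p ^ w) := by
    rw [Subgroup.zpowers_le]
    obtain ⟨q, hq⟩ := htS
    rw [hq, pow_mul]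
    exact Subgroup.pow_mem _ (Subgroup.mem_zpowers _) _
  apply Subgroup.eq_of_le_of_card_ge hle
  rw [Nat.card_zpowers, Nat.card_zpowers, orderOf_pow, orderOf_pow, hm]
  have hg : Nat.gcd (p ^ m) S = Nat.gcd (p ^ m) (p ^ w) := by
    apply Nat.dvd_antisymm
    · obtain ⟨e, -, he⟩ := (Nat.dvd_prime_pow hp).mp (Nat.gcd_dvd_left (p ^ m) S)
      rw [he]
      apply Nat.dvd_gcd
      · rw [← he]; exact Nat.gcd_dvd_left _ _
      · rw [← hSe, ← he]; exact Nat.gcd_dvd_right _ _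
    · exact Nat.dvd_gcd (Nat.gcd_dvd_left _ _) ((Nat.gcd_dvd_right _ _).trans htS)
  rw [hg]

set_option maxHeartbeats 1600000 in
theorem result {G : Type*} [Group G] [Finite G] {p : ℕ} [Fact p.Prime] (hp : p ≠ 2) (hG : IsPGroup p G) (hmc : Cfsg.IsMetacyclic G) : ∃ A B : Subgroup G, IsCyclic ↥A ∧ IsCyclic ↥B ∧ A ⊓ B = ⊥ ∧ Nat.card ↥A * Nat.card ↥B = Nat.card G := by
  classical
  have hpp : p.Prime := Fact.out
  obtain ⟨D⟩ := exists_metaDatum hG hmc
  obtain ⟨m, hm⟩ := (IsPGroup.iff_orderOf.mp hG) D.a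
  obtain ⟨β, hβ⟩ := (IsPGroup.iff_orderOf.mp hG) D.b
  haveI hNn : (Subgroup.zpowers D.a).Normal := by
    have := D.normal_zpowers_a_pow 1
    rwa [pow_one] at this
  have htop : Subgroup.zpowers D.b ⊔ Subgroup.zpowers D.a = ⊤ := by
    have := D.U_zero
    unfold MetaDatum.U at this
    rw [pow_zero, pow_one, pow_one, sup_comm] at this
    exact this
  have hGI : Nat.card G * Nat.card ↥(Subgroup.zpowers D.b ⊓ Subgroup.zpowers D.a) =
      p ^ m * orderOf D.b := by
    have := card_sup_mul_card_inf (Subgroup.zpowers D.b) (Subgroup.zpowers D.a)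
    rw [htop, Subgroup.card_top, Nat.card_zpowers, Nat.card_zpowers, hm] at this
    exact this
  by_cases hI : Subgroup.zpowers D.b ⊓ Subgroup.zpowers D.a = ⊥
  · refine ⟨Subgroup.zpowers D.a, Subgroup.zpowers D.b, inferInstance, inferInstance,
      by rw [inf_comm]; exact hI, ?_⟩
    rw [Nat.card_zpowers, Nat.card_zpowers, hm, ← hGI, hI, Subgroup.card_bot, mul_one]
  obtain ⟨L, hL0, hL⟩ := exists_dvd_iff_pow_mem D.b (Subgroup.zpowers D.a)
  obtain ⟨d, hd0, hd⟩ := exists_dvd_iff_pow_mem D.a (Subgroup.zpowers D.b)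
  have hdm : d ∣ p ^ m := by
    rw [← hd, ← hm, pow_orderOf_eq_one]; exact Subgroup.one_mem _
  have hLβ : L ∣ p ^ β := by
    rw [← hL, ← hβ, pow_orderOf_eq_one]; exact Subgroup.one_mem _
  -- the intersection
  have hIa : Subgroup.zpowers D.b ⊓ Subgroup.zpowers D.a = Subgroup.zpowers (D.a ^ d) := by
    apply le_antisymm
    · rintro g ⟨hgb, hga⟩
      have hgb : g ∈ Subgroup.zpowers D.b := hgb
      have hga : g ∈ Subgroup.zpowers D.a := hga
      rw [← (isOfFinOrder_of_finite _).mem_powers_iff_mem_zpowers, Submonoid.mem_powers_iff] at hga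
      obtain ⟨i, rfl⟩ := hga
      obtain ⟨q, rfl⟩ := (hd i).mp hgb
      rw [pow_mul]
      exact Subgroup.pow_mem _ (Subgroup.mem_zpowers _) _
    · rw [Subgroup.zpowers_le]
      exact ⟨(hd d).mpr dvd_rfl, Subgroup.pow_mem _ (Subgroup.mem_zpowers _) _⟩
  have hIb : Subgroup.zpowers D.b ⊓ Subgroup.zpowers D.a = Subgroup.zpowers (D.b ^ L) := by
    apply le_antisymm
    · rintro g ⟨hgb, hga⟩
      have hgb : g ∈ Subgroup.zpowers D.b := hgb
      have hga : g ∈ Subgroup.zpowers D.a := hga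
      rw [← (isOfFinOrder_of_finite _).mem_powers_iff_mem_zpowers, Submonoid.mem_powers_iff] at hgb
      obtain ⟨i, rfl⟩ := hgb
      obtain ⟨q, rfl⟩ := (hL i).mp hga
      rw [pow_mul]
      exact Subgroup.pow_mem _ (Subgroup.mem_zpowers _) _
    · rw [Subgroup.zpowers_le]
      exact ⟨Subgroup.pow_mem _ (Subgroup.mem_zpowers _) _, (hL L).mpr dvd_rfl⟩
  have hbLinv : (D.b ^ L)⁻¹ ∈ Subgroup.zpowers (D.a ^ d) := by
    rw [← hIa, hIb]; exact Subgroup.inv_mem _ (Subgroup.mem_zpowers _)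
  -- orders
  have hcardG1 : Nat.card G = d * orderOf D.b := by
    have h1 : Nat.card ↥(Subgroup.zpowers D.b ⊓ Subgroup.zpowers D.a) * d = p ^ m := by
      rw [hIa, Nat.card_zpowers, orderOf_pow, hm, Nat.gcd_eq_right hdm, Nat.div_mul_cancel hdm]
    have h2 : Nat.card G * p ^ m = d * orderOf D.b * p ^ m := by
      calc Nat.card G * p ^ m
          = Nat.card G * Nat.card ↥(Subgroup.zpowers D.b ⊓ Subgroup.zpowers D.a) * d := by
            rw [← h1]; ring
        _ = p ^ m * orderOf D.b * d := by rw [hGI]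
        _ = d * orderOf D.b * p ^ m := by ring
    exact Nat.eq_of_mul_eq_mul_right (pow_pos hpp.pos _) h2
  have hcardG2 : Nat.card G = p ^ m * L := by
    have hLb : L ∣ orderOf D.b := by rw [hβ]; exact hLβ
    have h1 : Nat.card ↥(Subgroup.zpowers D.b ⊓ Subgroup.zpowers D.a) * L = orderOf D.b := by
      rw [hIb, Nat.card_zpowers, orderOf_pow, Nat.gcd_eq_right hLb, Nat.div_mul_cancel hLb]
    have hpos : 0 < Nat.card ↥(Subgroup.zpowers D.b ⊓ Subgroup.zpowers D.a) := Nat.card_pos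
    have h2 : Nat.card G * Nat.card ↥(Subgroup.zpowers D.b ⊓ Subgroup.zpowers D.a) =
        p ^ m * L * Nat.card ↥(Subgroup.zpowers D.b ⊓ Subgroup.zpowers D.a) := by
      rw [hGI, ← h1]; ring
    exact Nat.eq_of_mul_eq_mul_right hpos h2
  obtain ⟨w, -, hw⟩ := (Nat.dvd_prime_pow hpp).mp hdm
  obtain ⟨l, -, hl⟩ := (Nat.dvd_prime_pow hpp).mp hLβ
  rcases le_total w l with hwl | hlw
  · -- case d ∣ L
    have hdL : d ∣ L := by rw [hw, hl]; exact pow_dvd_pow p hwl
    obtain ⟨y, hy⟩ := hdL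
    set S := ∑ s ∈ range d, (D.r ^ y) ^ s with hS
    have hgen : (D.b ^ L)⁻¹ ∈ Subgroup.zpowers (D.a ^ S) := by
      rw [zpowers_geom_eq hp D hm y d hdm]; exact hbLinv
    rw [← (isOfFinOrder_of_finite _).mem_powers_iff_mem_zpowers, Submonoid.mem_powers_iff] at hgen
    obtain ⟨x, hx⟩ := hgen
    have ha'd : (D.a ^ x * D.b ^ y) ^ d = 1 := by
      rw [D.pow_formula, ← hS, mul_comm x S, pow_mul, hx, mul_comm y d, ← hy]
      group
    -- p does not divide x
    have hpx : ¬ p ∣ x := by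
      rintro ⟨x', hx'⟩
      apply hI
      rw [hIa]
      apply (Subgroup.zpowers_eq_bot (g := D.a ^ d)).mpr
      -- a^d ∈ zpowers (b^L) ≤ zpowers (a^(p d))
      have h1 : D.a ^ d ∈ Subgroup.zpowers ((D.b ^ L)⁻¹) := by
        rw [Subgroup.zpowers_inv, ← hIb, hIa]; exact Subgroup.mem_zpowers _
      have hdS : d ∣ S := by
        have := (geom_dvd_nat hp D y 1 d w).mpr (by rw [one_mul, hw])
        rwa [one_mul, ← hw] at this
      obtain ⟨q, hq⟩ := hdS
      have h2 : (D.b ^ L)⁻¹ ∈ Subgroup.zpowers (D.a ^ (p * d)) := by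
        rw [← hx, ← pow_mul, hq, hx']
        have : d * q * (p * x') = (p * d) * (q * x') := by ring
        rw [this, pow_mul D.a (p * d) (q * x')]
        exact Subgroup.pow_mem _ (Subgroup.mem_zpowers (D.a ^ (p * d))) _
      have h3 : D.a ^ d ∈ Subgroup.zpowers (D.a ^ (p * d)) :=
        (Subgroup.zpowers_le.mpr h2) h1
      rw [← (isOfFinOrder_of_finite _).mem_powers_iff_mem_zpowers, Submonoid.mem_powers_iff] at h3
      obtain ⟨j, hj⟩ := h3
      rw [← pow_mul, pow_eq_pow_iff_modEq, hm] at hj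
      -- p*d*j ≡ d mod p^m
      have h4 : (p ^ m : ℤ) ∣ (d : ℤ) * (1 - p * j) := by
        have := (Nat.modEq_iff_dvd.mp hj)
        push_cast at this
        have e : (d : ℤ) * (1 - p * j) = (d : ℤ) - p * d * j := by ring
        rw [e]; exact this
      have hcop : IsCoprime ((p : ℤ) ^ m) (1 - (p : ℤ) * j) := by
        apply IsCoprime.pow_left
        exact ⟨j, 1, by ring⟩
      have h5 : (p ^ m : ℤ) ∣ (d : ℤ) := hcop.dvd_of_dvd_mul_right h4
      have h6 : p ^ m ∣ d := by exact_mod_cast h5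
      rw [← hm] at h6
      exact orderOf_dvd_iff_pow_eq_one.mp h6
    have hcopx : Nat.Coprime d x := by
      rw [hw]
      exact Nat.Coprime.pow_left _ ((Nat.Prime.coprime_iff_not_dvd hpp).mpr hpx)
    have hK : ∀ t : ℕ, (D.a ^ x * D.b ^ y) ^ t ∈ Subgroup.zpowers D.b → d ∣ t := by
      intro t ht
      rw [D.pow_formula] at ht
      have h1 : D.a ^ (x * ∑ s ∈ range t, (D.r ^ y) ^ s) ∈ Subgroup.zpowers D.b := by
        have := Subgroup.mul_mem _ ht (Subgroup.inv_mem _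
          (Subgroup.pow_mem _ (Subgroup.mem_zpowers D.b) (y * t)))
        rwa [mul_inv_cancel_right] at this
      have h2 := (hd _).mp h1
      have h3 : d ∣ ∑ s ∈ range t, (D.r ^ y) ^ s := hcopx.dvd_of_dvd_mul_left h2
      rw [hw] at h3 ⊢
      have := (geom_dvd_nat hp D y 1 t w).mp (by rwa [one_mul])
      rwa [one_mul] at this
    have hord : orderOf (D.a ^ x * D.b ^ y) = d := by
      apply Nat.dvd_antisymm (orderOf_dvd_of_pow_eq_one ha'd)
      apply hK
      rw [pow_orderOf_eq_one]; exact Subgroup.one_mem _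
    refine ⟨Subgroup.zpowers (D.a ^ x * D.b ^ y), Subgroup.zpowers D.b, inferInstance,
      inferInstance, ?_, ?_⟩
    · rw [eq_bot_iff]
      rintro g ⟨hg1, hg2⟩
      have hg1 : g ∈ Subgroup.zpowers (D.a ^ x * D.b ^ y) := hg1
      have hg2 : g ∈ Subgroup.zpowers D.b := hg2
      rw [← (isOfFinOrder_of_finite _).mem_powers_iff_mem_zpowers, Submonoid.mem_powers_iff] at hg1
      obtain ⟨t, rfl⟩ := hg1
      obtain ⟨q, rfl⟩ := hK t hg2
      rw [pow_mul, ha'd, one_pow]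
      exact Subgroup.one_mem _
    · rw [Nat.card_zpowers, Nat.card_zpowers, hord, hcardG1]
  · -- case L ∣ d
    have hLd : L ∣ d := by rw [hw, hl]; exact pow_dvd_pow p hlw
    have hLm : L ∣ p ^ m := hLd.trans hdm
    set S := ∑ s ∈ range L, (D.r ^ 1) ^ s with hS
    have hgen : (D.b ^ L)⁻¹ ∈ Subgroup.zpowers (D.a ^ S) := by
      rw [zpowers_geom_eq hp D hm 1 L hLm]
      have hle : Subgroup.zpowers (D.a ^ d) ≤ Subgroup.zpowers (D.a ^ L) := by
        rw [Subgroup.zpowers_le]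
        obtain ⟨q, rfl⟩ := hLd
        rw [pow_mul]
        exact Subgroup.pow_mem _ (Subgroup.mem_zpowers _) _
      exact hle hbLinv
    rw [← (isOfFinOrder_of_finite _).mem_powers_iff_mem_zpowers, Submonoid.mem_powers_iff] at hgen
    obtain ⟨x, hx⟩ := hgen
    have hb'L : (D.a ^ x * D.b ^ 1) ^ L = 1 := by
      rw [D.pow_formula, ← hS, mul_comm x S, pow_mul, hx, one_mul]
      group
    have hK : ∀ t : ℕ, (D.a ^ x * D.b ^ 1) ^ t ∈ Subgroup.zpowers D.a → L ∣ t := by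
      intro t ht
      rw [D.pow_formula, one_mul] at ht
      have h1 : D.b ^ t ∈ Subgroup.zpowers D.a := by
        have := Subgroup.mul_mem _ (Subgroup.inv_mem _
          (Subgroup.pow_mem _ (Subgroup.mem_zpowers D.a) (x * ∑ s ∈ range t, (D.r ^ 1) ^ s))) ht
        rwa [inv_mul_cancel_left] at this
      exact (hL t).mp h1
    have hord : orderOf (D.a ^ x * D.b ^ 1) = L := by
      apply Nat.dvd_antisymm (orderOf_dvd_of_pow_eq_one hb'L)
      apply hK
      rw [pow_orderOf_eq_one]; exact Subgroup.one_mem _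
    refine ⟨Subgroup.zpowers D.a, Subgroup.zpowers (D.a ^ x * D.b ^ 1), inferInstance,
      inferInstance, ?_, ?_⟩
    · rw [eq_bot_iff]
      rintro g ⟨hg1, hg2⟩
      have hg1 : g ∈ Subgroup.zpowers D.a := hg1
      have hg2 : g ∈ Subgroup.zpowers (D.a ^ x * D.b ^ 1) := hg2
      rw [← (isOfFinOrder_of_finite _).mem_powers_iff_mem_zpowers, Submonoid.mem_powers_iff] at hg2
      obtain ⟨t, rfl⟩ := hg2
      obtain ⟨q, rfl⟩ := hK t hg1
      rw [pow_mul, hb'L, one_pow]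
      exact Subgroup.one_mem _
    · rw [Nat.card_zpowers, Nat.card_zpowers, hord, hm, hcardG2]

end Cfsg.Agent.S3884
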