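import Mathlib
import Cfsg.Statements.S3885
import Cfsg.Agent.Lib.Helper64.MetaDC

set_option autoImplicit false
open Cfsg

namespace Cfsg.Agent.S3885

open Cfsg.Agent.Lib.Helper64

theorem result {G : Type*} [Group G] [Finite G] {p : ℕ} [Fact p.Prime] (hp : p ≠ 2) (hG : IsPGroup p G) (hmc : Cfsg.IsMetacyclic G) (K : Subgroup G) (hK : IsMulCommutative ↥K) (hZ : Subgroup.center G ≤ K) :
    K = Subgroup.centralizer (K : Set G) ⊓ Subgroup.centralizer (Subgroup.centralizer (K : Set G) : Set G) := by
  obtain ⟨D⟩ := exists_metaDatum hG hmc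
  have hK1 : K ≤ Subgroup.centralizer (K : Set G) := by
    intro k hk
    rw [Subgroup.mem_centralizer_iff]
    intro k' hk'
    exact congrArg Subtype.val (hK.is_comm.comm ⟨k', hk'⟩ ⟨k, hk⟩)
  have hK2 : K ≤ Subgroup.centralizer (Subgroup.centralizer (K : Set G) : Set G) := by
    intro k hk
    rw [Subgroup.mem_centralizer_iff]
    intro x hx
    exact (Subgroup.mem_centralizer_iff.mp hx k hk).symm
  have hZC : Subgroup.center G ≤ Subgroup.centralizer (K : Set G) :=
    Subgroup.center_le_centralizer _
  have h1 := D.card_mul_card_centralizer_eq hp hG K hZ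
  have h2 := D.card_mul_card_centralizer_eq hp hG _ hZC
  have h3 : Nat.card (Subgroup.centralizer (Subgroup.centralizer (K : Set G) : Set G)) =
      Nat.card K := by
    have : Nat.card (Subgroup.centralizer (K : Set G)) *
        Nat.card (Subgroup.centralizer (Subgroup.centralizer (K : Set G) : Set G)) =
        Nat.card (Subgroup.centralizer (K : Set G)) * Nat.card K := by
      rw [h2, ← h1, mul_comm]
    exact Nat.eq_of_mul_eq_mul_left Nat.card_pos this
  have h4 : K = Subgroup.centralizer (Subgroup.centralizer (K : Set G) : Set G) :=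
    Subgroup.eq_of_le_of_card_ge hK2 h3.le
  apply le_antisymm (le_inf hK1 hK2)
  rw [← h4]
  exact inf_le_right

end Cfsg.Agent.S3885
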