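import Mathlib
import Cfsg.Statements.S3886
import Cfsg.Agent.Lib.Helper64.MetaAbel
import Cfsg.Agent.S3880

set_option autoImplicit false
open Cfsg

namespace Cfsg.Agent.S3886

open Cfsg.Agent.Lib.Helper64

theorem result {G : Type*} [Group G] [Finite G] {p : ℕ} [Fact p.Prime] (hp : p ≠ 2) (hG : IsPGroup p G) (hmc : Cfsg.IsMetacyclic G) : Cfsg.maxCentralProduct G = (commutator G).index ^ 2 ∧
    ∀ R : Subgroup G, Cfsg.IsCentrallyLarge R ↔ (¬ IsMulCommutative ↥R ∨ Maximal (fun K : Subgroup G => IsMulCommutative ↥K) R) := by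
  have hpp : p.Prime := Fact.out
  obtain ⟨D⟩ := exists_metaDatum hG hmc
  obtain ⟨n, hn⟩ := (IsPGroup.iff_orderOf.mp hG) D.c
  have hGc := D.card_eq_pow_mul_index hn
  set idx := (commutator G).index with hidx
  have hidx0 : 0 < idx := Nat.pos_of_ne_zero Subgroup.index_ne_zero_of_finite
  -- the key computation
  have key : ∀ R : Subgroup G, ∃ w : ℕ, R.index = p ^ w ∧
      (IsMulCommutative ↥R ↔ n ≤ w) ∧ (Nat.card R = idx ↔ w = n) ∧
      Nat.card R * Nat.card (Subgroup.center ↥R) ≤ idx ^ 2 ∧
      (Nat.card R * Nat.card (Subgroup.center ↥R) = idx ^ 2 ↔ w ≤ n) := by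
    intro R
    obtain ⟨w, hw, hZ, hcomm, -⟩ := D.subgroup_structure hp hG hn R
    have h1 : Nat.card R * p ^ w = p ^ n * idx := by
      rw [← hGc, ← hw]; exact Subgroup.card_mul_index R
    refine ⟨w, hw, hcomm, ?_, ?_⟩
    · constructor
      · intro h
        rw [h, mul_comm] at h1
        have := Nat.eq_of_mul_eq_mul_right hidx0 h1
        exact Nat.pow_right_injective hpp.two_le this
      · intro h
        rw [h] at h1
        rw [mul_comm] at h1
        exact Nat.eq_of_mul_eq_mul_left (pow_pos hpp.pos _) h1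
    · by_cases hwn : w ≤ n
      · have h2 : p ^ n = p ^ w * p ^ (n - w) := by rw [← pow_add, Nat.add_sub_cancel' hwn]
        have h3 : Nat.card R = p ^ (n - w) * idx := by
          rw [h2, mul_comm (Nat.card R), mul_assoc] at h1
          exact Nat.eq_of_mul_eq_mul_left (pow_pos hpp.pos _) h1
        have h4 : Nat.card R * Nat.card (Subgroup.center ↥R) = idx ^ 2 := by
          have h5 : Nat.card R * Nat.card (Subgroup.center ↥R) * p ^ (2 * (n - w)) =
              idx ^ 2 * p ^ (2 * (n - w)) := by
            calc Nat.card R * Nat.card (Subgroup.center ↥R) * p ^ (2 * (n - w))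
                = Nat.card R * (Nat.card (Subgroup.center ↥R) * p ^ (2 * (n - w))) := by ring
              _ = Nat.card R * Nat.card R := by rw [← hZ]
              _ = idx ^ 2 * p ^ (2 * (n - w)) := by rw [h3, two_mul, pow_add]; ring
          exact Nat.eq_of_mul_eq_mul_right (pow_pos hpp.pos _) h5
        exact ⟨h4.le, fun _ => hwn, fun _ => h4⟩
      · push Not at hwn
        have h0 : n - w = 0 := by omega
        rw [h0, mul_zero, pow_zero, mul_one] at hZ
        have h2 : p ^ w = p ^ n * p ^ (w - n) := by rw [← pow_add, Nat.add_sub_cancel' hwn.le]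
        have h3 : Nat.card R * p ^ (w - n) = idx := by
          rw [h2, ← mul_assoc, mul_comm (Nat.card R), mul_assoc] at h1
          exact Nat.eq_of_mul_eq_mul_left (pow_pos hpp.pos _) h1
        have h4 : Nat.card R < idx := by
          rw [← h3]
          have : 1 < p ^ (w - n) := Nat.one_lt_pow (by omega) hpp.one_lt
          exact lt_mul_of_one_lt_right Nat.card_pos this
        have h5 : Nat.card R * Nat.card (Subgroup.center ↥R) < idx ^ 2 := by
          rw [← hZ, sq]
          exact Nat.mul_lt_mul'' h4 h4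
        exact ⟨h5.le, fun h => absurd h h5.ne, fun h => absurd h (by omega)⟩
  have hmax : Cfsg.maxCentralProduct G = idx ^ 2 := by
    unfold Cfsg.maxCentralProduct
    apply IsGreatest.csSup_eq
    constructor
    · obtain ⟨w, hw, -, -, -, heq⟩ := key ⊤
      refine ⟨⊤, heq.mpr ?_⟩
      rw [Subgroup.index_top] at hw
      have : w = 0 := by
        by_contra h
        have : 1 < p ^ w := Nat.one_lt_pow h hpp.one_lt
        omega
      omega
    · rintro k ⟨R, rfl⟩
      obtain ⟨w, -, -, -, hle, -⟩ := key R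
      exact hle
  refine ⟨hmax, ?_⟩
  intro R
  obtain ⟨w, -, hcomm, hcard, hle, heq⟩ := key R
  unfold Cfsg.IsCentrallyLarge
  rw [hmax, heq, hcomm, (Cfsg.Agent.S3880.result hp hG hmc R).2, hcard]
  omega

end Cfsg.Agent.S3886
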