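import Mathlib
import Cfsg.Statements.S3887
import Cfsg.Agent.Lib.Helper64.MetaDC

set_option autoImplicit false
open Cfsg

namespace Cfsg.Agent.S3887

open Cfsg.Agent.Lib.Helper64

theorem result {G : Type*} [Group G] [Finite G] {p : ℕ} [Fact p.Prime] (hp : p ≠ 2) (hG : IsPGroup p G) (hmc : Cfsg.IsMetacyclic G) (R : Subgroup G) : Cfsg.IsCentralizerLarge R ↔ Subgroup.center G ≤ R := by
  obtain ⟨D⟩ := exists_metaDatum hG hmc
  have hmax : Cfsg.maxCentralizerProduct G = Nat.card G * Nat.card (Subgroup.center G) := by
    unfold Cfsg.maxCentralizerProduct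
    apply IsGreatest.csSup_eq
    constructor
    · exact ⟨Subgroup.center G, by
        rw [D.card_mul_card_centralizer_eq hp hG _ le_rfl]⟩
    · rintro k ⟨R', rfl⟩
      exact D.card_mul_card_centralizer_le hp hG R'
  unfold Cfsg.IsCentralizerLarge
  rw [hmax]
  constructor
  · intro h
    -- compare with R ⊔ Z(G)
    have hC : Subgroup.centralizer (R : Set G) ≤
        Subgroup.centralizer ((R ⊔ Subgroup.center G : Subgroup G) : Set G) := by
      intro x hx
      have hle : R ⊔ Subgroup.center G ≤ Subgroup.centralizer ({x} : Set G) := by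
        rw [sup_le_iff]
        constructor
        · intro y hy
          rw [Subgroup.mem_centralizer_iff]
          intro z hz
          rw [Set.mem_singleton_iff] at hz; subst hz
          exact (Subgroup.mem_centralizer_iff.mp hx y hy).symm
        · intro y hy
          rw [Subgroup.mem_centralizer_iff]
          intro z hz
          exact Subgroup.mem_center_iff.mp hy z
      rw [Subgroup.mem_centralizer_iff]
      intro y hy
      have := hle hy
      rw [Subgroup.mem_centralizer_iff] at this
      exact (this x rfl).symm
    have h1 := D.card_mul_card_centralizer_le hp hG (R ⊔ Subgroup.center G)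
    have h2 : Nat.card ↥(R ⊔ Subgroup.center G) * Nat.card (Subgroup.centralizer (R : Set G)) ≤
        Nat.card R * Nat.card (Subgroup.centralizer (R : Set G)) := by
      calc Nat.card ↥(R ⊔ Subgroup.center G) * Nat.card (Subgroup.centralizer (R : Set G))
          ≤ Nat.card ↥(R ⊔ Subgroup.center G) *
              Nat.card (Subgroup.centralizer ((R ⊔ Subgroup.center G : Subgroup G) : Set G)) :=
            Nat.mul_le_mul_left _ (Subgroup.card_le_of_le hC)
        _ ≤ Nat.card G * Nat.card (Subgroup.center G) := h1
        _ = Nat.card R * Nat.card (Subgroup.centralizer (R : Set G)) := h.symm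
    have h3 : Nat.card ↥(R ⊔ Subgroup.center G) ≤ Nat.card R :=
      Nat.le_of_mul_le_mul_right h2 Nat.card_pos
    have h4 : R = R ⊔ Subgroup.center G := Subgroup.eq_of_le_of_card_ge le_sup_left h3
    rw [h4]; exact le_sup_right
  · intro h
    exact D.card_mul_card_centralizer_eq hp hG R h

end Cfsg.Agent.S3887
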