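import Cfsg.Statements.S3889

set_option autoImplicit false
open Cfsg

namespace Cfsg.Agent.S3889

theorem key {G : Type*} [CommGroup G] [Finite G] (𝓑 : Set (Subgroup G))
    (hcov : ∀ g : G, ∃ B ∈ 𝓑, g ∈ B) (hdisj : ∀ B ∈ 𝓑, ∀ C ∈ 𝓑, B ≠ C → B ⊓ C = ⊥)
    (B : Subgroup G) (hB : B ∈ 𝓑) (x y : G) (hx : x ∈ B) (hy : y ∉ B) :
    orderOf x ∣ orderOf y := by
  obtain ⟨C, hC, hxyC⟩ := hcov (x * y)
  have hCB : B ≠ C := by
    rintro rfl
    exact hy ((Subgroup.mul_mem_cancel_left B hx).mp hxyC)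
  have h1 : (x * y) ^ orderOf y = x ^ orderOf y := by
    rw [mul_pow, pow_orderOf_eq_one, mul_one]
  have h2 : x ^ orderOf y ∈ B ⊓ C := by
    refine ⟨B.pow_mem hx _, ?_⟩
    rw [← h1]
    exact C.pow_mem hxyC _
  rw [hdisj B hB C hC hCB, Subgroup.mem_bot] at h2
  exact orderOf_dvd_of_pow_eq_one h2

theorem key2 {G : Type*} [CommGroup G] [Finite G] (𝓑 : Set (Subgroup G))
    (hcov : ∀ g : G, ∃ B ∈ 𝓑, g ∈ B) (hdisj : ∀ B ∈ 𝓑, ∀ C ∈ 𝓑, B ≠ C → B ⊓ C = ⊥)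
    (B : Subgroup G) (hB : B ∈ 𝓑) (x y : G) (hx : x ∈ B) (hx1 : x ≠ 1) (hy : y ∉ B) :
    orderOf x = orderOf y := by
  apply Nat.dvd_antisymm (key 𝓑 hcov hdisj B hB x y hx hy)
  obtain ⟨D, hD, hyD⟩ := hcov y
  have hDB : D ≠ B := by
    rintro rfl
    exact hy hyD
  have hxD : x ∉ D := by
    intro hxD
    have : x ∈ D ⊓ B := ⟨hxD, hx⟩
    rw [hdisj D hD B hB hDB, Subgroup.mem_bot] at this
    exact hx1 this
  exact key 𝓑 hcov hdisj D hD y x hyD hxD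

theorem result {G : Type*} [CommGroup G] [Finite G] (𝓑 : Set (Subgroup G)) (hprop : ∀ B ∈ 𝓑, B ≠ ⊤)
    (hcov : ∀ g : G, ∃ B ∈ 𝓑, g ∈ B) (hdisj : ∀ B ∈ 𝓑, ∀ C ∈ 𝓑, B ≠ C → B ⊓ C = ⊥) :
    (Monoid.exponent G).Prime := by
  have hout : ∀ B ∈ 𝓑, ∃ y : G, y ∉ B := by
    intro B hB
    by_contra hcon
    push Not at hcon
    exact hprop B hB (by rw [eq_top_iff]; intro z _; exact hcon z)
  have hsame : ∀ x x' : G, x ≠ 1 → x' ≠ 1 → orderOf x = orderOf x' := by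
    intro x x' hx1 hx'1
    obtain ⟨B, hB, hxB⟩ := hcov x
    by_cases hx'B : x' ∈ B
    · obtain ⟨y, hy⟩ := hout B hB
      rw [key2 𝓑 hcov hdisj B hB x y hxB hx1 hy, key2 𝓑 hcov hdisj B hB x' y hx'B hx'1 hy]
    · exact key2 𝓑 hcov hdisj B hB x x' hxB hx1 hx'B
  obtain ⟨B0, hB0, _⟩ := hcov 1
  obtain ⟨y, hy⟩ := hout B0 hB0
  have hy1 : y ≠ 1 := by
    rintro rfl
    exact hy B0.one_mem
  have hn1 : orderOf y ≠ 1 := by
    rwa [Ne, orderOf_eq_one_iff]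
  have hnpos : 0 < orderOf y := orderOf_pos y
  set n := orderOf y with hn
  have hpp : (Nat.minFac n).Prime := Nat.minFac_prime hn1
  have hpd : Nat.minFac n ∣ n := Nat.minFac_dvd n
  have hz : orderOf (y ^ (n / Nat.minFac n)) = Nat.minFac n := by
    rw [orderOf_pow' y (by
      intro h0
      have := Nat.div_mul_cancel hpd
      rw [h0, zero_mul] at this
      omega)]
    rw [← hn, Nat.gcd_eq_right (Nat.div_dvd_of_dvd hpd)]
    exact Nat.div_div_self hpd (by omega)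
  have hz1 : y ^ (n / Nat.minFac n) ≠ 1 := by
    intro h
    rw [h, orderOf_one] at hz
    exact hpp.one_lt.ne hz
  have hnp : n = Nat.minFac n := by
    rw [← hz]
    exact hsame y _ hy1 hz1
  have hnprime : n.Prime := by rw [hnp]; exact hpp
  have hexp : Monoid.exponent G = n := by
    apply Nat.dvd_antisymm
    · apply Monoid.exponent_dvd_of_forall_pow_eq_one
      intro g
      by_cases hg : g = 1
      · rw [hg, one_pow]
      · rw [hn, ← hsame g y hg hy1]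
        exact pow_orderOf_eq_one g
    · rw [hn]
      exact Monoid.order_dvd_exponent y
  rw [hexp]
  exact hnprime

end Cfsg.Agent.S3889
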