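import Cfsg.Statements.S3890
import Cfsg.Agent.Lib.Helper64.NilCover

set_option autoImplicit false
open Cfsg

namespace Cfsg.Agent.S3890

open Cfsg.Agent.Lib.Helper64.NilCover in
/-- A cover of a group is a finite set of proper subgroups whose union is the whole group; it is minimal when no cover has fewer members, and nilpotent when all its members are nilpotent. Let G be a finite group with trivial center admitting a nilpotent minimal cover 𝓐, and let P be an abelian Sylow p-subgroup of G that is not normal. Then either P is elementary abelian of order greater than p, or P is a Sylow p-subgroup of some member A of 𝓐, the normalizer N of P is a maximal subgroup of G, N meets each of its conjugates by elements outside N in a subgroup of order prime to p, and the centralizer of P equals A. -/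
theorem result {G : Type*} [Group G] [Finite G] (hZ : Subgroup.center G = ⊥) (𝓐 : Finset (Subgroup G))
    (h𝓐 : ((∀ A ∈ 𝓐, A ≠ ⊤) ∧ (∀ g : G, ∃ A ∈ 𝓐, g ∈ A)) ∧ (∀ 𝓑 : Finset (Subgroup G), (∀ A ∈ 𝓑, A ≠ ⊤) ∧ (∀ g : G, ∃ A ∈ 𝓑, g ∈ A) → 𝓐.card ≤ 𝓑.card) ∧ (∀ A ∈ 𝓐, Group.IsNilpotent ↥A)) {p : ℕ} [Fact p.Prime] (P : Sylow p G) (hab : IsMulCommutative ↥(P : Subgroup G))
    (hnn : ¬ (P : Subgroup G).Normal) :
    (Cfsg.IsElementaryAbelian p (P : Subgroup G) ∧ p < Nat.card ↥(P : Subgroup G)) ∨
    (∃ A ∈ 𝓐, (P : Subgroup G) ≤ A ∧ ¬ p ∣ ((P : Subgroup G).subgroupOf A).index ∧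
      IsCoatom (Subgroup.normalizer ((P : Subgroup G) : Set G)) ∧
      (∀ g : G, g ∉ Subgroup.normalizer ((P : Subgroup G) : Set G) →
        ¬ p ∣ Nat.card ↥(Subgroup.normalizer ((P : Subgroup G) : Set G) ⊓
          (Subgroup.normalizer ((P : Subgroup G) : Set G)).map (MulAut.conj g).toMonoidHom)) ∧
      Subgroup.centralizer ((P : Subgroup G) : Set G) = A) := by
  have hp : p.Prime := Fact.out
  by_cases hE : Cfsg.IsElementaryAbelian p (P : Subgroup G) ∧ p < Nat.card ↥(P : Subgroup G)
  · exact Or.inl hE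
  right
  have hcov : NilMinCover G 𝓐 := ⟨h𝓐.1.1, h𝓐.1.2, h𝓐.2.1, h𝓐.2.2⟩
  have hab' : ∀ a ∈ (P : Subgroup G), ∀ b ∈ (P : Subgroup G), a * b = b * a := by
    intro a ha b hb
    have := congrArg Subtype.val (hab.is_comm.comm (⟨a, ha⟩ : (P : Subgroup G)) ⟨b, hb⟩)
    simpa using this
  have hgood : GoodSylow P := by
    refine ⟨hab', ?_⟩
    by_cases hel : Cfsg.IsElementaryAbelian p (P : Subgroup G)
    · left
      have hcard : Nat.card ↥(P : Subgroup G) ≤ p := by
        by_contra hlt
        exact hE ⟨hel, by omega⟩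
      have hne : (P : Subgroup G) ≠ ⊥ := sylow_ne_bot_of_not_normal P hnn
      obtain ⟨n, hn⟩ := (IsPGroup.iff_card.mp P.2)
      have hn0 : n ≠ 0 := by
        rintro rfl
        rw [pow_zero] at hn
        exact hne ((Subgroup.card_eq_one).mp hn)
      have hn1 : n = 1 := by
        by_contra hn1
        have h2 : 2 ≤ n := by omega
        have : p ^ 2 ≤ p ^ n := Nat.pow_le_pow_right hp.pos h2
        rw [← hn] at this
        have h3 : p * 2 ≤ p ^ 2 := by
          rw [pow_two]; exact Nat.mul_le_mul_left p hp.two_le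
        have := hp.pos
        omega
      rw [hn1, pow_one] at hn
      exact isCyclic_of_prime_card hn
    · right
      by_contra hcon
      push Not at hcon
      exact hel ⟨hab, hcon⟩
  obtain ⟨h1, h2, -, h4⟩ := hcov.main hZ hgood hnn
  have hPA : (P : Subgroup G) ≤ Subgroup.centralizer ((P : Subgroup G) : Set G) :=
    le_centralizer_self hgood
  refine ⟨_, h1, hPA, ?_, h2, h4, rfl⟩
  intro hdvd
  have h5 : ((P : Subgroup G).subgroupOf (Subgroup.centralizer ((P : Subgroup G) : Set G))).index ∣
      (P : Subgroup G).index := by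
    have := Subgroup.relIndex_mul_index hPA
    exact Dvd.intro _ this
  exact P.not_dvd_index (hdvd.trans h5)

end Cfsg.Agent.S3890
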