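import Cfsg.Statements.S3892
import Cfsg.Agent.Lib.Helper64.NilCoverSym

set_option autoImplicit false
open Cfsg

namespace Cfsg.Agent.S3892

open Cfsg.Agent.Lib.Helper64.NilCoverSym

/-- A cover of a group is a finite set of proper subgroups whose union is the whole group; it is minimal when no cover has fewer members, and nilpotent when all its members are nilpotent. The alternating groups of degree at least 5 and the symmetric groups of degree at least 4 have no nilpotent minimal cover. -/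
theorem result (n : ℕ) :
    (5 ≤ n → ¬ ∃ 𝓐 : Finset (Subgroup ↥(alternatingGroup (Fin n))), ((∀ A ∈ 𝓐, A ≠ ⊤) ∧ (∀ g : ↥(alternatingGroup (Fin n)), ∃ A ∈ 𝓐, g ∈ A)) ∧ (∀ 𝓑 : Finset (Subgroup ↥(alternatingGroup (Fin n))), (∀ A ∈ 𝓑, A ≠ ⊤) ∧ (∀ g : ↥(alternatingGroup (Fin n)), ∃ A ∈ 𝓑, g ∈ A) → 𝓐.card ≤ 𝓑.card) ∧ (∀ A ∈ 𝓐, Group.IsNilpotent ↥A)) ∧
    (4 ≤ n → ¬ ∃ 𝓐 : Finset (Subgroup (Equiv.Perm (Fin n))), ((∀ A ∈ 𝓐, A ≠ ⊤) ∧ (∀ g : (Equiv.Perm (Fin n)), ∃ A ∈ 𝓐, g ∈ A)) ∧ (∀ 𝓑 : Finset (Subgroup (Equiv.Perm (Fin n))), (∀ A ∈ 𝓑, A ≠ ⊤) ∧ (∀ g : (Equiv.Perm (Fin n)), ∃ A ∈ 𝓑, g ∈ A) → 𝓐.card ≤ 𝓑.card) ∧ (∀ A ∈ 𝓐, Group.IsNilpotent ↥A)) := by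
  have hprime : 6 ≤ n → ∃ p, p.Prime ∧ 5 ≤ p ∧ p < n ∧ n < 2 * p := by
    intro hn
    obtain ⟨p, hp, h1, h2⟩ := Nat.exists_prime_lt_and_le_two_mul (n / 2) (by omega)
    refine ⟨p, hp, ?_, ?_, ?_⟩
    · have h4 : 4 ≤ p := by omega
      rcases Nat.lt_or_ge 4 p with h | h
      · omega
      · exfalso
        have h5 : p = 4 := by omega
        subst h5
        exact absurd hp (by decide)
    · by_contra hge
      have hpn : p = 2 * (n / 2) := by omega
      have hd : 2 ∣ p := ⟨n / 2, hpn⟩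
      have := (Nat.prime_dvd_prime_iff_eq Nat.prime_two hp).mp hd
      omega
    · omega
  constructor
  · intro hn
    rcases Nat.lt_or_ge n 6 with h | h
    · have h5 : n = 5 := by omega
      subst h5
      exact alt5
    · obtain ⟨p, hp, hp5, hpn, h2p⟩ := hprime h
      exact alt_general hp hp5 hpn h2p
  · intro hn
    rcases Nat.lt_or_ge n 6 with h | h
    · have h45 : n = 4 ∨ n = 5 := by omega
      rcases h45 with rfl | rfl
      · exact perm4
      · exact perm5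
    · obtain ⟨p, hp, hp5, hpn, h2p⟩ := hprime h
      exact perm_general hp hp5 hpn h2p

end Cfsg.Agent.S3892
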