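import Cfsg.Statements.S3893
import Cfsg.Agent.Lib.Helper6.SzCover
import Cfsg.Agent.Lib.Helper6.SzBridge
import Cfsg.Agent.Lib.Helper60.SzLieBridge

set_option autoImplicit false
open Cfsg

namespace Cfsg.Agent.S3893


open Cfsg.Agent.Lib.Helper6.Sz

lemma no_nilpotent_min_cover_of_equiv {A B : Type*} [Group A] [Group B] (e : A ≃* B)
    (hB : ∀ 𝓐 : Finset (Subgroup B), (∀ g : B, ∃ U ∈ 𝓐, g ∈ U) →
      (∀ U ∈ 𝓐, Group.IsNilpotent U) →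
      ∃ 𝓑 : Finset (Subgroup B), (∀ U ∈ 𝓑, U ≠ ⊤) ∧ (∀ g : B, ∃ U ∈ 𝓑, g ∈ U) ∧
        𝓑.card < 𝓐.card) :
    ¬ ∃ 𝓐 : Finset (Subgroup A), ((∀ U ∈ 𝓐, U ≠ ⊤) ∧ (∀ g : A, ∃ U ∈ 𝓐, g ∈ U)) ∧
      (∀ 𝓑 : Finset (Subgroup A), (∀ U ∈ 𝓑, U ≠ ⊤) ∧ (∀ g : A, ∃ U ∈ 𝓑, g ∈ U) →
        𝓐.card ≤ 𝓑.card) ∧ (∀ U ∈ 𝓐, Group.IsNilpotent U) := by
  classical
  rintro ⟨𝓐, ⟨-, hcov⟩, hmin, hnil⟩
  have hc' : ∀ g : B, ∃ U ∈ 𝓐.image (Subgroup.map e.toMonoidHom), g ∈ U := by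
    intro g
    obtain ⟨U, hU, hgU⟩ := hcov (e.symm g)
    exact ⟨_, Finset.mem_image_of_mem _ hU, ⟨e.symm g, hgU, by simp⟩⟩
  have hn' : ∀ U ∈ 𝓐.image (Subgroup.map e.toMonoidHom), Group.IsNilpotent U := by
    intro V hV
    obtain ⟨U, hU, rfl⟩ := Finset.mem_image.1 hV
    have := hnil U hU
    exact Group.nilpotent_of_surjective (e.toMonoidHom.subgroupMap U)
      (MonoidHom.subgroupMap_surjective e.toMonoidHom U)
  obtain ⟨𝓑', hB1, hB2, hB3⟩ := hB (𝓐.image (Subgroup.map e.toMonoidHom)) hc' hn'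
  have hp : ∀ U ∈ 𝓑'.image (Subgroup.comap e.toMonoidHom), U ≠ ⊤ := by
    intro U hU
    obtain ⟨V, hV, rfl⟩ := Finset.mem_image.1 hU
    intro htop
    apply hB1 V hV
    rw [eq_top_iff]
    intro b _
    have : e.symm b ∈ Subgroup.comap e.toMonoidHom V := by rw [htop]; trivial
    rw [Subgroup.mem_comap] at this
    simpa using this
  have hc'' : ∀ g : A, ∃ U ∈ 𝓑'.image (Subgroup.comap e.toMonoidHom), g ∈ U := by
    intro g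
    obtain ⟨V, hV, hgV⟩ := hB2 (e g)
    exact ⟨_, Finset.mem_image_of_mem _ hV, hgV⟩
  have h1 := hmin (𝓑'.image (Subgroup.comap e.toMonoidHom)) ⟨hp, hc''⟩
  have h2 : (𝓑'.image (Subgroup.comap e.toMonoidHom)).card ≤ 𝓑'.card := Finset.card_image_le
  have h3 : (𝓐.image (Subgroup.map e.toMonoidHom)).card ≤ 𝓐.card := Finset.card_image_le
  omega


/-- A cover of a group is a finite set of proper subgroups whose union is the whole group; it is minimal when no cover has fewer members, and nilpotent when all its members are nilpotent. The Suzuki groups Sz(q), q = 2^(2m+1) with m ≥ 1, have no nilpotent minimal cover. -/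
theorem result {F : Type*} [Field F] [Fintype F] (m : ℕ) (hm : 1 ≤ m) (hF : Fintype.card F = 2 ^ (2 * m + 1)) :
    ¬ ∃ 𝓐 : Finset (Subgroup ↥(Cfsg.Lie.Sz F (2 ^ (m + 1)))), ((∀ A ∈ 𝓐, A ≠ ⊤) ∧ (∀ g : ↥(Cfsg.Lie.Sz F (2 ^ (m + 1))), ∃ A ∈ 𝓐, g ∈ A)) ∧ (∀ 𝓑 : Finset (Subgroup ↥(Cfsg.Lie.Sz F (2 ^ (m + 1)))), (∀ A ∈ 𝓑, A ≠ ⊤) ∧ (∀ g : ↥(Cfsg.Lie.Sz F (2 ^ (m + 1))), ∃ A ∈ 𝓑, g ∈ A) → 𝓐.card ≤ 𝓑.card) ∧ (∀ A ∈ 𝓐, Group.IsNilpotent ↥A) := by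
  have := charP_two hF
  have hk : Nat.card F = 2 ^ (2 * m + 1) := by rw [Nat.card_eq_fintype_card, hF]
  exact no_nilpotent_min_cover_of_equiv (Cfsg.Agent.Lib.Helper60.SzLie.szEquiv hm hF)
    (fun 𝓐 h1 h2 => exists_smaller_cover (sig F m) (sig_sig hF) (sig_nt hm hF) hm hk 𝓐 h1 h2)

end Cfsg.Agent.S3893
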