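import Cfsg.Statements.S3895
import Cfsg.Agent.Lib.Helper64.TwoClassesB

set_option autoImplicit false
open Cfsg

namespace Cfsg.Agent.S3895

open Cfsg.Agent.Lib.Helper64.PiClasses Cfsg.Agent.Lib.Helper64.TwoClasses

/-- Let G be a finite group with Sylow 2-subgroup P, and write k₂(G) for the number of conjugacy classes of G consisting of 2-elements (elements of 2-power order, the identity included). Then k₂(G) > |P|/2 if and only if G has a normal 2-complement and P has more than |P|/2 conjugacy classes. -/
theorem result {G : Type*} [Group G] [Finite G] (P : Sylow 2 G) :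
    Nat.card ↥(P : Subgroup G) < 2 * Nat.card {c : ConjClasses G // ∀ x ∈ c.carrier, ∃ k : ℕ, orderOf x = 2 ^ k} ↔
      Cfsg.HasNormalPComplement 2 G ∧ Nat.card ↥(P : Subgroup G) < 2 * Nat.card (ConjClasses ↥(P : Subgroup G)) := by
  have : Fact (Nat.Prime 2) := ⟨Nat.prime_two⟩
  have hk2 : Nat.card {c : ConjClasses G // ∀ x ∈ c.carrier, ∃ k : ℕ, orderOf x = 2 ^ k} =
      kQ (Is2 (G := G)) := rfl
  constructor
  · intro h
    have hnpc : Cfsg.HasNormalPComplement 2 G := by
      by_contra hno
      have := two_mul_k2_le hno P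
      rw [hk2] at h
      omega
    refine ⟨hnpc, ?_⟩
    have h1 : kQ (Is2 (G := G)) ≤ kQ (fun _ : ↥(P : Subgroup G) => True) := by
      apply kQ_le_of_dom (P : Subgroup G) Is2 (fun _ => True) (fun _ _ _ => trivial)
      intro x hx
      obtain ⟨g, hg⟩ := hx.exists_conj_mem P
      exact ⟨g, hg, trivial⟩
    rw [kQ_true] at h1
    rw [hk2] at h
    omega
  · rintro ⟨⟨P₀, K, hKn, hK⟩, h⟩
    have hK' := isComplement'_of_isComplement' P₀ P hK
    have := card_conjClasses_le_of_complement P K hK'
    omega

end Cfsg.Agent.S3895
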