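import Cfsg.Statements.S3897
import Cfsg.Agent.Lib.Helper64.PiClasses

set_option autoImplicit false
open Cfsg

namespace Cfsg.Agent.S3897

open Cfsg.Agent.Lib.Helper64.PiClasses in
/-- Let p be an odd prime and G a finite group with Sylow p-subgroup P, and write k_p(G) for the number of conjugacy classes of G consisting of p-elements (elements of p-power order, the identity included). Then k_p(G) > (p + 1)|P|/(2p) if and only if G has a normal p-complement and P is abelian. -/
theorem result {G : Type*} [Group G] [Finite G] {p : ℕ} [Fact p.Prime] (hp : p ≠ 2) (P : Sylow p G) :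
    (p + 1) * Nat.card ↥(P : Subgroup G) < 2 * p * Nat.card {c : ConjClasses G // ∀ x ∈ c.carrier, ∃ k : ℕ, orderOf x = p ^ k} ↔
      Cfsg.HasNormalPComplement p G ∧ IsMulCommutative ↥(P : Subgroup G) := by
  have hpp : p.Prime := Fact.out
  have hk : Nat.card {c : ConjClasses G // ∀ x ∈ c.carrier, ∃ k : ℕ, orderOf x = p ^ k} = kpi {p} G := by
    unfold kpi kQ
    apply Nat.card_congr
    apply Equiv.subtypeEquivRight
    intro c
    apply forall_congr'
    intro x
    apply imp_congr Iff.rfl
    exact (isPiElt_singleton_iff hpp x).symm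
  rw [hk, many_iff P]
  constructor
  · rintro ⟨⟨K, hKn, hK⟩, hab⟩
    refine ⟨⟨P, K, hKn, hK⟩, ⟨⟨fun a b => Subtype.ext (hab a a.2 b b.2)⟩⟩⟩
  · rintro ⟨⟨P₀, K, hKn, hK⟩, hab⟩
    refine ⟨⟨K, hKn, ?_⟩, ?_⟩
    · -- transport the complement to `P`
      have h1 : Nat.card ↥K * Nat.card ↥(P₀ : Subgroup G) = Nat.card G := hK.card_mul_card
      have h2 : Nat.card ↥(P : Subgroup G) = Nat.card ↥(P₀ : Subgroup G) := by
        rw [Sylow.card_eq_multiplicity, Sylow.card_eq_multiplicity]
      apply Subgroup.isComplement'_of_coprime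
      · rw [h2]; exact h1
      · have h3 : Nat.card ↥K = (P₀ : Subgroup G).index := hK.index_eq_card.symm
        have h4 : ¬ p ∣ Nat.card ↥K := by rw [h3]; exact P₀.not_dvd_index
        obtain ⟨n, hn⟩ := IsPGroup.iff_card.mp P.2
        rw [hn]
        exact (Nat.Coprime.pow_left n ((Nat.Prime.coprime_iff_not_dvd hpp).mpr h4)).symm
    · intro a ha b hb
      have := congrArg Subtype.val (hab.is_comm.comm (⟨a, ha⟩ : (P : Subgroup G)) ⟨b, hb⟩)
      simpa using this

end Cfsg.Agent.S3897
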