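import Cfsg.Statements.S3899
import Cfsg.Agent.Lib.Helper64.PiClasses

set_option autoImplicit false
open Cfsg

namespace Cfsg.Agent.S3899

open Cfsg.Agent.Lib.Helper64.PiClasses in
/-- Let π be a finite non-empty set of odd primes with smallest member p and G a finite group. Write k_π(G) for the number of conjugacy classes of G consisting of π-elements (elements all of whose order's prime divisors lie in π) and |G|_π for the π-part of the order of G. If k_π(G) > (p + 1)|G|_π/(2p), then G has a normal π-complement (a normal subgroup of order prime to π whose index is a π-number) and an abelian Hall π-subgroup. -/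
theorem result {G : Type*} [Group G] [Finite G] (π : Finset ℕ) (hπ : ∀ r ∈ π, r.Prime) (h2 : 2 ∉ π) (p : ℕ) (hp : p ∈ π)
    (hmin : ∀ r ∈ π, p ≤ r) (hk : (p + 1) * π.prod (fun r => r ^ (Nat.card G).factorization r) < 2 * p * Nat.card {c : ConjClasses G // ∀ x ∈ c.carrier, ∀ r : ℕ, r.Prime → r ∣ orderOf x → r ∈ π}) :
    (∃ N : Subgroup G, N.Normal ∧ (∀ r : ℕ, r.Prime → r ∣ Nat.card ↥N → r ∉ π) ∧ ∀ r : ℕ, r.Prime → r ∣ N.index → r ∈ π) ∧ ∃ H : Subgroup G, Cfsg.IsPiHall (↑π : Set ℕ) H ∧ IsMulCommutative ↥H := by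
  have hk' : (p + 1) * piPart π (Nat.card G) < 2 * p * kpi π G := hk
  have hK : ∀ r ∈ π, ∃ (R : Sylow r G) (K : Subgroup G), K.Normal ∧ K.IsComplement' (R : Subgroup G) ∧
      ∀ a ∈ (R : Subgroup G), ∀ b ∈ (R : Subgroup G), a * b = b * a := by
    intro r hr
    have : Fact r.Prime := ⟨hπ r hr⟩
    obtain ⟨R⟩ : Nonempty (Sylow r G) := inferInstance
    have h1 := many_singleton_of_many π hπ p hk' hr (hmin r hr) R
    obtain ⟨⟨K, hKn, hKc⟩, hab⟩ := (many_iff R).mp h1
    exact ⟨R, K, hKn, hKc, hab⟩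
  obtain ⟨N, hNn, h1, h3, H, hH, hab⟩ := exists_pi_complement π hπ hK
  refine ⟨⟨N, hNn, h1, h3⟩, H, ⟨?_, ?_⟩, ⟨⟨fun a b => Subtype.ext (hab a a.2 b b.2)⟩⟩⟩
  · intro q hq hd
    rw [← hH.symm.index_eq_card] at hd
    exact Finset.mem_coe.mpr (h3 q hq hd)
  · intro q hq hqπ hd
    rw [hH.index_eq_card] at hd
    exact h1 q hq hd (Finset.mem_coe.mp hqπ)

end Cfsg.Agent.S3899
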