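import Cfsg.Statements.S3904
import Cfsg.Agent.Lib.Helper71.MaxCentClass2

set_option autoImplicit false
open Cfsg

namespace Cfsg.Agent.S3904

open Cfsg.Agent.Lib.Helper71.MaxCent

/-- Let G be a non-abelian finite group in which the centralizer of every non-central element is a maximal subgroup. Then G/Z(G) is either an elementary abelian p-group for some prime p, or a minimal non-abelian group (non-abelian with all proper subgroups abelian) of order p^a · q for distinct primes p, q with a normal Sylow p-subgroup. -/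
theorem result {G : Type*} [Group G] [Finite G] (hna : ¬ IsMulCommutative G)
    (h : ∀ x : G, x ∉ Subgroup.center G → IsCoatom (Subgroup.centralizer ({x} : Set G))) :
    (∃ p : ℕ, p.Prime ∧ Cfsg.IsElementaryAbelian p (⊤ : Subgroup (G ⧸ Subgroup.center G))) ∨
    (¬ IsMulCommutative (G ⧸ Subgroup.center G) ∧ (∀ H : Subgroup (G ⧸ Subgroup.center G), H ≠ ⊤ → IsMulCommutative ↥H) ∧
      ∃ p q a : ℕ, p.Prime ∧ q.Prime ∧ p ≠ q ∧ Nat.card (G ⧸ Subgroup.center G) = p ^ a * q ∧
        ∀ P : Subgroup (G ⧸ Subgroup.center G), Nat.card ↥P = p ^ a → P.Normal) := by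
  -- a noncentral element
  obtain ⟨x₀, hx₀⟩ : ∃ x₀ : G, x₀ ∉ Subgroup.center G := by
    by_contra hcon
    push Not at hcon
    apply hna
    rw [isMulCommutative_iff]
    intro a b
    exact Subgroup.mem_center_iff.mp (hcon b) a
  have hq₀ : (QuotientGroup.mk' (Subgroup.center G) x₀) ≠ 1 := by
    intro h0
    apply hx₀
    rw [QuotientGroup.mk'_apply, QuotientGroup.eq_one_iff] at h0
    exact h0
  have hquot := quot_hyp h
  by_cases hZ2 : Subgroup.center (G ⧸ Subgroup.center G) = ⊥
  · right
    haveI : Nontrivial (G ⧸ Subgroup.center G) := ⟨⟨_, 1, hq₀⟩⟩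
    have H1 : ∀ q : G ⧸ Subgroup.center G, q ≠ 1 → IsCoatom (C q) := by
      intro q hq
      exact hquot q (by rw [hZ2, Subgroup.mem_bot]; exact hq)
    obtain ⟨p, q, a, hp, hq, hpq, hcard, hnorm, hsub⟩ := struct_of_forall_isCoatom H1
    refine ⟨?_, ?_, p, q, a, hp, hq, hpq, hcard, hnorm⟩
    · intro hcomm
      rw [isMulCommutative_iff] at hcomm
      have : (QuotientGroup.mk' (Subgroup.center G) x₀) ∈
          Subgroup.center (G ⧸ Subgroup.center G) := by
        rw [Subgroup.mem_center_iff]
        intro g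
        exact hcomm _ _
      rw [hZ2, Subgroup.mem_bot] at this
      exact hq₀ this
    · intro H hH
      rw [isMulCommutative_iff]
      intro a b
      exact Subtype.ext (hsub H hH a a.2 b b.2)
  · left
    have hc2 := class_two h hZ2
    obtain ⟨hcomm, p, hp, hexp⟩ := elementary_abelian_quotient hc2 h hx₀
    refine ⟨p, hp, ?_, fun a _ => hexp a⟩
    rw [isMulCommutative_iff]
    intro a b
    exact Subtype.ext (hcomm a b)

end Cfsg.Agent.S3904
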