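import Cfsg.Statements.S3908
import Cfsg.Agent.S0016

set_option autoImplicit false
open Cfsg

namespace Cfsg.Agent.S3908

variable {G : Type*} [Group G]

/-- two commuting elements of order `p`, the second not a power of the first, generate an
abelian subgroup of order `p²` and exponent `p`. -/
theorem exists_rank_two (p : ℕ) [hp : Fact p.Prime] (z y : G) (hz : orderOf z = p)
    (hy : orderOf y = p) (hzy : z * y = y * z) (hny : y ∉ Subgroup.zpowers z) :
    ∃ E : Subgroup G, IsMulCommutative E ∧ Nat.card E = p ^ 2 ∧ (∀ e ∈ E, e ^ p = 1) ∧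
      z ∈ E ∧ y ∈ E := by
  classical
  have hcomm0 : Commute z y := hzy
  have hcomm : ∀ (a : Subgroup.zpowers z) (b : Subgroup.zpowers y), Commute (a : G) (b : G) := by
    rintro ⟨a, ha⟩ ⟨b, hb⟩
    obtain ⟨i, rfl⟩ := Subgroup.mem_zpowers_iff.mp ha
    obtain ⟨j, rfl⟩ := Subgroup.mem_zpowers_iff.mp hb
    exact (hcomm0.zpow_left i).zpow_right j
  let f : Subgroup.zpowers z × Subgroup.zpowers y →* G :=
    MonoidHom.noncommCoprod (Subgroup.zpowers z).subtype (Subgroup.zpowers y).subtype hcomm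
  have hf : ∀ a b, f (a, b) = (a : G) * (b : G) := fun a b => rfl
  have hcardY : Nat.card (Subgroup.zpowers y) = p := by rw [Nat.card_zpowers, hy]
  have hcardZ : Nat.card (Subgroup.zpowers z) = p := by rw [Nat.card_zpowers, hz]
  have hinf : ∀ w : G, w ∈ Subgroup.zpowers z → w ∈ Subgroup.zpowers y → w = 1 := by
    intro w hwz hwy
    by_contra hw1
    have hfin : Finite (Subgroup.zpowers y) := Nat.finite_of_card_ne_zero (by
      rw [hcardY]; exact hp.out.ne_zero)
    have h1 : (⟨y, Subgroup.mem_zpowers y⟩ : Subgroup.zpowers y) ∈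
        Subgroup.zpowers (⟨w, hwy⟩ : Subgroup.zpowers y) :=
      mem_zpowers_of_prime_card hcardY (fun h => hw1 (congrArg Subtype.val h))
    obtain ⟨n, hn⟩ := Subgroup.mem_zpowers_iff.mp h1
    have h2 : w ^ n = y := congrArg Subtype.val hn
    apply hny
    rw [← h2]
    exact Subgroup.zpow_mem _ hwz n
  have hinj : Function.Injective f := by
    rw [injective_iff_map_eq_one]
    rintro ⟨a, b⟩ hab
    rw [hf] at hab
    have ha : (a : G) = (b : G)⁻¹ := eq_inv_of_mul_eq_one_left hab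
    have ha1 : (a : G) = 1 := hinf _ a.2 (by rw [ha]; exact Subgroup.inv_mem _ b.2)
    have hb1 : (b : G) = 1 := by rw [ha1, one_mul] at hab; exact hab
    exact Prod.ext (Subtype.ext ha1) (Subtype.ext hb1)
  refine ⟨f.range, ?_, ?_, ?_, ?_, ?_⟩
  · refine ⟨⟨?_⟩⟩
    rintro ⟨_, ⟨a, b⟩, rfl⟩ ⟨_, ⟨a', b'⟩, rfl⟩
    apply Subtype.ext
    show f (a, b) * f (a', b') = f (a', b') * f (a, b)
    rw [← map_mul, ← map_mul]
    congr 1
    apply Prod.ext
    · apply Subtype.ext
      obtain ⟨i, hi⟩ := Subgroup.mem_zpowers_iff.mp a.2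
      obtain ⟨j, hj⟩ := Subgroup.mem_zpowers_iff.mp a'.2
      show (a : G) * (a' : G) = (a' : G) * (a : G)
      rw [← hi, ← hj, ← zpow_add, ← zpow_add, add_comm]
    · apply Subtype.ext
      obtain ⟨i, hi⟩ := Subgroup.mem_zpowers_iff.mp b.2
      obtain ⟨j, hj⟩ := Subgroup.mem_zpowers_iff.mp b'.2
      show (b : G) * (b' : G) = (b' : G) * (b : G)
      rw [← hi, ← hj, ← zpow_add, ← zpow_add, add_comm]
  · rw [← Nat.card_congr (MonoidHom.ofInjective hinj).toEquiv, Nat.card_prod, hcardZ, hcardY, sq]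
  · rintro _ ⟨⟨a, b⟩, rfl⟩
    rw [hf, (hcomm a b).mul_pow]
    have ha : (a : G) ^ p = 1 := by
      obtain ⟨i, hi⟩ := Subgroup.mem_zpowers_iff.mp a.2
      rw [← hi, ← zpow_natCast, ← zpow_mul, mul_comm, zpow_mul, zpow_natCast, ← hz,
        pow_orderOf_eq_one, one_zpow]
    have hb : (b : G) ^ p = 1 := by
      obtain ⟨i, hi⟩ := Subgroup.mem_zpowers_iff.mp b.2
      rw [← hi, ← zpow_natCast, ← zpow_mul, mul_comm, zpow_mul, zpow_natCast, ← hy,
        pow_orderOf_eq_one, one_zpow]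
    rw [ha, hb, one_mul]
  · exact ⟨(⟨z, Subgroup.mem_zpowers z⟩, 1), by rw [hf]; simp⟩
  · exact ⟨(1, ⟨y, Subgroup.mem_zpowers y⟩), by rw [hf]; simp⟩

theorem exists_two_of_not_uniq [Finite G] (p : ℕ) [hp : Fact p.Prime] (P : Sylow p G)
    (h : ¬ ∀ H K : Subgroup ↥(P : Subgroup G), Nat.card H = p → Nat.card K = p → H = K) :
    ∃ z y : G, z ∈ (P : Subgroup G) ∧ y ∈ (P : Subgroup G) ∧ orderOf z = p ∧ orderOf y = p ∧
      z * y = y * z ∧ y ∉ Subgroup.zpowers z := by
  classical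
  push Not at h
  obtain ⟨H, K, hH, hK, hne⟩ := h
  have hPp : IsPGroup p ↥(P : Subgroup G) := P.isPGroup'
  have hHnt : Nontrivial H := by
    rw [← Finite.one_lt_card_iff_nontrivial, hH]
    exact hp.out.one_lt
  have hnt : Nontrivial ↥(P : Subgroup G) := by
    obtain ⟨a, b, hab⟩ := hHnt
    exact ⟨⟨a.1, b.1, fun h => hab (Subtype.ext h)⟩⟩
  have hcnt : Nontrivial (Subgroup.center ↥(P : Subgroup G)) := hPp.center_nontrivial
  have hdvd : p ∣ Nat.card (Subgroup.center ↥(P : Subgroup G)) := by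
    rcases (hPp.to_subgroup (Subgroup.center ↥(P : Subgroup G))).card_eq_or_dvd with h1 | h1
    · have := Finite.one_lt_card_iff_nontrivial.mpr hcnt
      omega
    · exact h1
  obtain ⟨c, hc⟩ := exists_prime_orderOf_dvd_card' p hdvd
  set zc : ↥(P : Subgroup G) := c.1 with hzc
  have hzcord : orderOf zc = p := by rw [hzc, Subgroup.orderOf_coe, hc]
  have hzccent : ∀ w : ↥(P : Subgroup G), w * zc = zc * w :=
    fun w => Subgroup.mem_center_iff.mp c.2 w
  set Zs : Subgroup ↥(P : Subgroup G) := Subgroup.zpowers zc with hZs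
  have hZscard : Nat.card Zs = p := by rw [hZs, Nat.card_zpowers, hzcord]
  obtain ⟨Y, hYcard, hYne⟩ : ∃ Y : Subgroup ↥(P : Subgroup G), Nat.card Y = p ∧ Y ≠ Zs := by
    by_cases hHZ : H = Zs
    · exact ⟨K, hK, fun h => hne (hHZ.trans h.symm)⟩
    · exact ⟨H, hH, hHZ⟩
  obtain ⟨yc, hycY, hycZ⟩ : ∃ yc ∈ Y, yc ∉ Zs := by
    by_contra hcon
    push Not at hcon
    exact hYne (Subgroup.eq_of_le_of_card_ge hcon (by rw [hYcard, hZscard]))
  have hyc1 : yc ≠ 1 := fun h => hycZ (h ▸ Subgroup.one_mem _)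
  have hycord : orderOf yc = p := by
    have h1 : orderOf yc ∣ p :=
      (Subgroup.orderOf_dvd_natCard Y hycY).trans (dvd_of_eq hYcard)
    rcases (Nat.dvd_prime hp.out).mp h1 with h2 | h2
    · exact absurd (orderOf_eq_one_iff.mp h2) hyc1
    · exact h2
  refine ⟨(zc : G), (yc : G), zc.2, yc.2, ?_, ?_, ?_, ?_⟩
  · rw [Subgroup.orderOf_coe, hzcord]
  · rw [Subgroup.orderOf_coe, hycord]
  · exact (congrArg Subtype.val (hzccent yc)).symm
  · intro hmem
    obtain ⟨n, hn⟩ := Subgroup.mem_zpowers_iff.mp hmem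
    apply hycZ
    rw [hZs, Subgroup.mem_zpowers_iff]
    exact ⟨n, Subtype.ext (by rw [Subgroup.coe_zpow]; exact hn)⟩

theorem core [Finite G] (hB : ∀ A B : Subgroup G, IsMulCommutative ↥A → IsMulCommutative ↥B →
      Nat.card ↥A = Nat.card ↥B → ∃ g : G, B = A.map (MulAut.conj g).toMonoidHom)
    (p : ℕ) [hp : Fact p.Prime] (P : Sylow p G) :
    (IsCyclic ↥(P : Subgroup G) ∨
      (p = 2 ∧ ∃ n : ℕ, Nonempty (↥(P : Subgroup G) ≃* QuaternionGroup (2 ^ n)))) ∨
    ∀ x ∈ (P : Subgroup G), x ^ p = 1 := by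
  classical
  by_cases huniq : ∀ H K : Subgroup ↥(P : Subgroup G), Nat.card H = p → Nat.card K = p → H = K
  · exact Or.inl (Cfsg.Agent.S0016.result p P.isPGroup' huniq)
  · right
    obtain ⟨z, y, hzP, hyP, hz, hy, hzy, hny⟩ := exists_two_of_not_uniq p P huniq
    obtain ⟨E, hEc, hEcard, hEexp, -, -⟩ := exists_rank_two p z y hz hy hzy hny
    intro x hx
    by_contra hxp
    obtain ⟨k, hk⟩ := (IsPGroup.iff_orderOf.mp P.isPGroup') ⟨x, hx⟩
    have hxord : orderOf x = p ^ k := by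
      rw [← hk]
      exact (Subgroup.orderOf_mk x hx).symm
    have hk2 : 2 ≤ k := by
      by_contra hlt
      apply hxp
      have h1 : orderOf x ∣ p := by
        rw [hxord]
        have : k ≤ 1 := by omega
        calc p ^ k ∣ p ^ 1 := pow_dvd_pow p this
          _ = p := pow_one p
      exact orderOf_dvd_iff_pow_eq_one.mp h1
    obtain ⟨j, rfl⟩ : ∃ j, k = j + 2 := ⟨k - 2, by omega⟩
    set x' : G := x ^ (p ^ j) with hx'
    have hx'ord : orderOf x' = p ^ 2 := by
      rw [hx', orderOf_pow_of_dvd (pow_ne_zero _ hp.out.ne_zero) (by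
        rw [hxord]; exact pow_dvd_pow p (by omega)), hxord, pow_add,
        Nat.mul_div_cancel_left _ (pow_pos hp.out.pos j)]
    have hAcard : Nat.card (Subgroup.zpowers x') = Nat.card E := by
      rw [Nat.card_zpowers, hx'ord, hEcard]
    obtain ⟨g, hg⟩ := hB (Subgroup.zpowers x') E inferInstance hEc hAcard
    have hmem : (MulAut.conj g).toMonoidHom x' ∈ E := by
      rw [hg]
      exact ⟨x', Subgroup.mem_zpowers x', rfl⟩
    have h1 := hEexp _ hmem
    rw [← map_pow] at h1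
    have h2 : x' ^ p = 1 := by
      have : (MulAut.conj g) (x' ^ p) = 1 := h1
      exact (MulEquiv.map_eq_one_iff _).mp this
    have h3 : p ^ 2 ∣ p := by
      rw [← hx'ord]
      exact orderOf_dvd_iff_pow_eq_one.mpr h2
    have h4 : p ^ 2 ≤ p := Nat.le_of_dvd hp.out.pos h3
    have h5 : 2 ≤ p := hp.out.two_le
    nlinarith

/-- Let G be a finite group in which any two abelian subgroups of the same order are conjugate. Then a Sylow 2-subgroup of G is cyclic, elementary abelian or generalized quaternion, and for an odd prime p a Sylow p-subgroup of G is cyclic or has exponent dividing p. -/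
theorem result {G : Type*} [Group G] [Finite G] (hB : ∀ A B : Subgroup G, IsMulCommutative ↥A → IsMulCommutative ↥B → Nat.card ↥A = Nat.card ↥B → ∃ g : G, B = A.map (MulAut.conj g).toMonoidHom) :
    (∀ P : Sylow 2 G, IsCyclic ↥(P : Subgroup G) ∨ Cfsg.IsElementaryAbelian 2 (P : Subgroup G) ∨ ∃ k : ℕ, Nonempty (↥(P : Subgroup G) ≃* QuaternionGroup (2 ^ k))) ∧
    ∀ (p : ℕ) [Fact p.Prime], p ≠ 2 → ∀ P : Sylow p G, IsCyclic ↥(P : Subgroup G) ∨ ∀ x ∈ (P : Subgroup G), x ^ p = 1 := by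
  constructor
  · intro P
    rcases core hB 2 P with (h | ⟨_, h⟩) | h
    · exact Or.inl h
    · exact Or.inr (Or.inr h)
    · refine Or.inr (Or.inl ⟨⟨⟨?_⟩⟩, h⟩)
      rintro ⟨a, ha⟩ ⟨b, hb⟩
      apply Subtype.ext
      show a * b = b * a
      have h1 : (a * b) ^ 2 = 1 := h _ (Subgroup.mul_mem _ ha hb)
      have h2 : a ^ 2 = 1 := h _ ha
      have h3 : b ^ 2 = 1 := h _ hb
      have ha' : a⁻¹ = a := by
        rw [inv_eq_iff_mul_eq_one, ← sq, h2]
      have hb' : b⁻¹ = b := by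
        rw [inv_eq_iff_mul_eq_one, ← sq, h3]
      have hab' : (a * b)⁻¹ = a * b := by
        rw [inv_eq_iff_mul_eq_one, ← sq, h1]
      rw [← hab', mul_inv_rev, ha', hb']
  · intro p _ hp2 P
    rcases core hB p P with (h | ⟨h, _⟩) | h
    · exact Or.inl h
    · exact absurd h hp2
    · exact Or.inr h

end Cfsg.Agent.S3908
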