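import Cfsg.Statements.S3909

set_option autoImplicit false
open Cfsg

namespace Cfsg.Agent.S3909

theorem part1 {G : Type*} [Group G] [Finite G] (hB : ∀ A B : Subgroup G, IsMulCommutative ↥A → IsMulCommutative ↥B → Nat.card ↥A = Nat.card ↥B → ∃ g : G, B = A.map (MulAut.conj g).toMonoidHom) (M : Subgroup G) [hM : M.Normal] :
    ∀ a : G, (∃ m ∈ M, orderOf m = orderOf a) → a ∈ M := by
  rintro a ⟨m, hm, hma⟩
  obtain ⟨g, hg⟩ := hB (Subgroup.zpowers m) (Subgroup.zpowers a) inferInstance inferInstance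
    (by rw [Nat.card_zpowers, Nat.card_zpowers, hma])
  have ha : a ∈ Subgroup.zpowers a := Subgroup.mem_zpowers a
  rw [hg] at ha
  obtain ⟨b, hb, rfl⟩ := ha
  have hbM : b ∈ M := (Subgroup.zpowers_le.mpr hm) hb
  simp only [MulEquiv.coe_toMonoidHom, MulAut.conj_apply]
  exact hM.conj_mem b hbM g

/-- Let G be a finite group in which any two abelian subgroups of the same order are conjugate. Let M be a normal subgroup of G. If M contains an element of the same order as a ∈ G, then a ∈ M; and if M is elementary abelian of order p^t with p prime and t ≥ 2, then M is the unique Sylow p-subgroup of G. -/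
theorem result {G : Type*} [Group G] [Finite G] (hB : ∀ A B : Subgroup G, IsMulCommutative ↥A → IsMulCommutative ↥B → Nat.card ↥A = Nat.card ↥B → ∃ g : G, B = A.map (MulAut.conj g).toMonoidHom) (M : Subgroup G) [M.Normal] :
    (∀ a : G, (∃ m ∈ M, orderOf m = orderOf a) → a ∈ M) ∧
    ∀ (p t : ℕ) [Fact p.Prime], 2 ≤ t → Nat.card ↥M = p ^ t → Cfsg.IsElementaryAbelian p M → ∀ P : Sylow p G, (P : Subgroup G) = M := by
  refine ⟨part1 hB M, ?_⟩
  intro p t hp ht hcard hel P
  have hpp : p.Prime := hp.out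
  have hMp : IsPGroup p M := IsPGroup.of_card hcard
  have hMP : M ≤ (P : Subgroup G) := hMp.le_sylow_of_normal P
  apply le_antisymm _ hMP
  -- M has an element of order p
  have hMnontriv : ∃ m ∈ M, orderOf m = p := by
    have h1 : 1 < Nat.card M := by
      rw [hcard]
      exact Nat.one_lt_pow (by omega) hpp.one_lt
    have : Nontrivial M := (Finite.one_lt_card_iff_nontrivial).mp h1
    obtain ⟨m, hm⟩ := exists_ne (1 : M)
    refine ⟨m.1, m.2, ?_⟩
    have hmp : m.1 ^ p = 1 := hel.2 m.1 m.2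
    have hm1 : m.1 ≠ 1 := fun h => hm (Subtype.ext h)
    exact orderOf_eq_prime hmp hm1
  -- a commutative subgroup of order p^2 inside M
  have hB2 : ∃ B : Subgroup G, B ≤ M ∧ Nat.card B = p ^ 2 ∧ IsMulCommutative B := by
    have hdvd : p ^ 2 ∣ Nat.card M := by rw [hcard]; exact pow_dvd_pow p ht
    obtain ⟨K, hK⟩ := Sylow.exists_subgroup_card_pow_prime p hdvd
    refine ⟨K.map M.subtype, Subgroup.map_subtype_le K, ?_, ?_⟩
    · rw [← hK]
      exact Nat.card_congr (K.equivMapOfInjective M.subtype M.subtype_injective).symm.toEquiv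
    · have := hel.1
      refine ⟨⟨?_⟩⟩
      rintro ⟨x, hx⟩ ⟨y, hy⟩
      have hxM : x ∈ M := Subgroup.map_subtype_le K hx
      have hyM : y ∈ M := Subgroup.map_subtype_le K hy
      apply Subtype.ext
      have := mul_comm' (⟨x, hxM⟩ : M) ⟨y, hyM⟩
      exact congrArg (fun z : M => (z : G)) this
  obtain ⟨B, hBM, hBcard, hBcomm⟩ := hB2
  intro x hx
  -- order of x is a power of p
  have hxord : ∃ k, orderOf x = p ^ k := by
    obtain ⟨k, hk⟩ := P.2 ⟨x, hx⟩
    have hk' : x ^ (p ^ k) = 1 := by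
      have := congrArg Subtype.val hk
      simpa using this
    have := orderOf_dvd_of_pow_eq_one hk'
    obtain ⟨j, _, hj⟩ := (Nat.dvd_prime_pow hpp).mp this
    exact ⟨j, hj⟩
  obtain ⟨k, hk⟩ := hxord
  rcases k with _ | k
  · simp at hk
    rw [hk]; exact M.one_mem
  rcases k with _ | k
  · obtain ⟨m, hm, hmo⟩ := hMnontriv
    exact part1 hB M x ⟨m, hm, by rw [hmo, hk]; simp⟩
  · exfalso
    set y := x ^ (p ^ k) with hy
    have hyord : orderOf y = p ^ 2 := by
      rw [hy, orderOf_pow_of_dvd (pow_ne_zero _ hpp.pos.ne') (by rw [hk]; exact pow_dvd_pow p (by omega)), hk]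
      rw [show k + 1 + 1 = k + 2 by ring, pow_add, Nat.mul_div_cancel_left _ (pow_pos hpp.pos k)]
    obtain ⟨g, hg⟩ := hB B (Subgroup.zpowers y) hBcomm inferInstance (by rw [Nat.card_zpowers, hBcard, hyord])
    have hymem : y ∈ Subgroup.zpowers y := Subgroup.mem_zpowers y
    rw [hg] at hymem
    obtain ⟨b, hb, hby⟩ := hymem
    have hbp : b ^ p = 1 := hel.2 b (hBM hb)
    have hyp : y ^ p = 1 := by
      rw [← hby, ← map_pow, hbp, map_one]
    have := orderOf_dvd_of_pow_eq_one hyp
    rw [hyord] at this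
    have h2 : p ^ 2 ≤ p := Nat.le_of_dvd hpp.pos this
    have h3 : p < p ^ 2 := by
      have := hpp.one_lt
      nlinarith
    omega

end Cfsg.Agent.S3909
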