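import Cfsg.Statements.S3910

set_option autoImplicit false
open Cfsg

namespace Cfsg.Agent.S3910

/-- In a nilpotent group, elements of coprime order commute. -/
theorem commute_of_coprime (G : Type*) [Group G] [Group.IsNilpotent G] :
    ∀ x y : G, Nat.Coprime (orderOf x) (orderOf y) → Commute x y := by
  apply @Group.nilpotent_center_quotient_ind
    (fun G _ _ => ∀ x y : G, Nat.Coprime (orderOf x) (orderOf y) → Commute x y) G _ _
  · intro G _ _ x y _
    exact Subsingleton.elim _ _
  · intro G _ _ ih x y hxy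
    have hx' : orderOf (QuotientGroup.mk' (Subgroup.center G) x) ∣ orderOf x := orderOf_map_dvd _ x
    have hy' : orderOf (QuotientGroup.mk' (Subgroup.center G) y) ∣ orderOf y := orderOf_map_dvd _ y
    have hc := ih _ _ (Nat.Coprime.of_dvd hx' hy' hxy)
    -- z = x y x⁻¹ y⁻¹ is central
    have hz : x * y * x⁻¹ * y⁻¹ ∈ Subgroup.center G := by
      rw [← QuotientGroup.eq_one_iff]
      have h1 : ((x * y * x⁻¹ * y⁻¹ : G) : G ⧸ Subgroup.center G)
          = (QuotientGroup.mk' (Subgroup.center G) x) * (QuotientGroup.mk' (Subgroup.center G) y)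
            * (QuotientGroup.mk' (Subgroup.center G) x)⁻¹ * (QuotientGroup.mk' (Subgroup.center G) y)⁻¹ := by
        simp
      rw [h1, hc.eq]
      group
    set z := x * y * x⁻¹ * y⁻¹ with hzdef
    have hzc : ∀ g : G, g * z = z * g := fun g => (Subgroup.mem_center_iff.mp hz g)
    -- x y x⁻¹ = z y
    have e1 : x * y * x⁻¹ = z * y := by rw [hzdef]; group
    have e2 : ∀ n : ℕ, (z * y) ^ n = z ^ n * y ^ n := by
      intro n
      exact (Commute.mul_pow (show Commute z y from (hzc y).symm) n)
    have h3 : z ^ orderOf y = 1 := by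
      have : (x * y * x⁻¹) ^ orderOf y = 1 := by
        rw [conj_pow, pow_orderOf_eq_one]; group
      rw [e1, e2, pow_orderOf_eq_one, mul_one] at this
      exact this
    -- y x⁻¹ y⁻¹ = x⁻¹ z
    have e3 : y * x⁻¹ * y⁻¹ = x⁻¹ * z := by rw [hzdef]; group
    have e4 : ∀ n : ℕ, (x⁻¹ * z) ^ n = x⁻¹ ^ n * z ^ n := by
      intro n
      exact (Commute.mul_pow (show Commute x⁻¹ z from (hzc x⁻¹)) n)
    have h5 : z ^ orderOf x = 1 := by
      have : (y * x⁻¹ * y⁻¹) ^ orderOf x = 1 := by
        rw [conj_pow, inv_pow, pow_orderOf_eq_one]; group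
      rw [e3, e4, inv_pow, pow_orderOf_eq_one, inv_one, one_mul] at this
      exact this
    have h6 : orderOf z ∣ Nat.gcd (orderOf x) (orderOf y) :=
      Nat.dvd_gcd (orderOf_dvd_of_pow_eq_one h5) (orderOf_dvd_of_pow_eq_one h3)
    rw [Nat.Coprime] at hxy
    rw [hxy, Nat.dvd_one, orderOf_eq_one_iff] at h6
    show x * y = y * x
    have : x * y * x⁻¹ * y⁻¹ = 1 := h6
    calc x * y = (x * y * x⁻¹ * y⁻¹) * (y * x) := by group
      _ = y * x := by rw [this, one_mul]

theorem exists_lcm (G : Type*) [Group G] [Finite G] [Group.IsNilpotent G] (x y : G) :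
    ∃ z : G, orderOf z = Nat.lcm (orderOf x) (orderOf y) := by
  have hx : orderOf x ≠ 0 := (orderOf_pos x).ne'
  have hy : orderOf y ≠ 0 := (orderOf_pos y).ne'
  set a := Nat.factorizationLCMLeft (orderOf x) (orderOf y) with ha
  set b := Nat.factorizationLCMRight (orderOf x) (orderOf y) with hb
  have hax : a ∣ orderOf x := Nat.factorizationLCMLeft_dvd_left _ _
  have hby : b ∣ orderOf y := Nat.factorizationLCMRight_dvd_right _ _
  have hab : Nat.Coprime a b := Nat.coprime_factorizationLCMLeft_factorizationLCMRight _ _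
  have hmul : a * b = Nat.lcm (orderOf x) (orderOf y) :=
    Nat.factorizationLCMLeft_mul_factorizationLCMRight hx hy
  have h1 : orderOf (x ^ (orderOf x / a)) = a := orderOf_pow_orderOf_div hx hax
  have h2 : orderOf (y ^ (orderOf y / b)) = b := orderOf_pow_orderOf_div hy hby
  have hcomm : Commute (x ^ (orderOf x / a)) (y ^ (orderOf y / b)) :=
    commute_of_coprime G _ _ (by rw [h1, h2]; exact hab)
  refine ⟨x ^ (orderOf x / a) * y ^ (orderOf y / b), ?_⟩
  rw [hcomm.orderOf_mul_eq_mul_orderOf_of_coprime (by rw [h1, h2]; exact hab), h1, h2, hmul]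

/-- A finite nilpotent group in which any two abelian subgroups of the same order are conjugate is cyclic. -/
theorem result {G : Type*} [Group G] [Finite G] (hB : ∀ A B : Subgroup G, IsMulCommutative ↥A → IsMulCommutative ↥B → Nat.card ↥A = Nat.card ↥B → ∃ g : G, B = A.map (MulAut.conj g).toMonoidHom) (hnil : Group.IsNilpotent G) : IsCyclic G := by
  -- element of maximal order
  obtain ⟨x, hx⟩ := Finite.exists_max (fun g : G => orderOf g)
  have hdvd : ∀ y : G, orderOf y ∣ orderOf x := by
    intro y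
    obtain ⟨z, hz⟩ := exists_lcm G x y
    have h1 : orderOf z ≤ orderOf x := hx z
    have h2 : orderOf x ∣ orderOf z := by rw [hz]; exact Nat.dvd_lcm_left _ _
    have h3 : orderOf x ≤ orderOf z := Nat.le_of_dvd (orderOf_pos z) h2
    have h4 : orderOf z = orderOf x := le_antisymm h1 h3
    rw [← h4, hz]
    exact Nat.dvd_lcm_right _ _
  have hconj : ∀ y : G, ∃ g : G, ∃ a ∈ Subgroup.zpowers x, y = g * a * g⁻¹ := by
    intro y
    have hx0 : orderOf x ≠ 0 := (orderOf_pos x).ne'
    have hy0 : orderOf y ≠ 0 := (orderOf_pos y).ne'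
    have hcard : Nat.card (Subgroup.zpowers (x ^ (orderOf x / orderOf y))) = Nat.card (Subgroup.zpowers y) := by
      rw [Nat.card_zpowers, Nat.card_zpowers, orderOf_pow_orderOf_div hx0 (hdvd y)]
    obtain ⟨g, hg⟩ := hB _ _ inferInstance inferInstance hcard
    have hy : y ∈ Subgroup.zpowers y := Subgroup.mem_zpowers y
    rw [hg] at hy
    obtain ⟨b, hb, hby⟩ := hy
    refine ⟨g, b, ?_, ?_⟩
    · exact (Subgroup.zpowers_le.mpr (Subgroup.pow_mem _ (Subgroup.mem_zpowers x) _)) hb
    · rw [← hby]; simp [MulAut.conj_apply]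
  have htop : Subgroup.zpowers x = ⊤ := by
    by_contra hne
    obtain ⟨M, hM, hxM⟩ := (eq_top_or_exists_le_coatom (Subgroup.zpowers x)).resolve_left hne
    have hall : ∀ H : Subgroup G, IsCoatom H → H.Normal :=
      ((Group.isNilpotent_of_finite_tfae (G := G)).out 0 2).mp hnil
    have hMn : M.Normal := hall M hM
    apply hM.1
    rw [eq_top_iff]
    intro y _
    obtain ⟨g, a, ha, rfl⟩ := hconj y
    exact hMn.conj_mem a (hxM ha) g
  exact isCyclic_iff_exists_zpowers_eq_top.mpr ⟨x, htop⟩

end Cfsg.Agent.S3910
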