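import Cfsg.Statements.S3917

set_option autoImplicit false
open Cfsg

namespace Cfsg.Agent.S3917

open Finset

/-- If in a finite commutative group `x ^ p = 1` has at most `p` solutions for each prime `p`,
then `x ^ n = 1` has at most `n` solutions for each positive `n`. -/
theorem card_pow_le (G : Type*) [CommGroup G] [Fintype G] [DecidableEq G]
    (h : ∀ p : ℕ, p.Prime → #{a : G | a ^ p = 1} ≤ p) :
    ∀ n : ℕ, 0 < n → #{a : G | a ^ n = 1} ≤ n := by
  intro n
  induction n using Nat.strong_induction_on with
  | _ n ih =>
    intro hn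
    by_cases h1 : n = 1
    · subst h1
      have : (Finset.univ.filter (fun a : G => a ^ 1 = 1)) = {1} := by
        ext a; simp
      rw [this]; simp
    · have hp : (n.minFac).Prime := Nat.minFac_prime h1
      obtain ⟨m, hm⟩ : n.minFac ∣ n := Nat.minFac_dvd n
      set p := n.minFac with hpdef
      have hm0 : 0 < m := by
        rcases Nat.eq_zero_or_pos m with h0 | h0
        · rw [h0, mul_zero] at hm; omega
        · exact h0
      have hmn : m < n := by
        have := hp.one_lt
        nlinarith
      have hfib : ∀ a ∈ (Finset.univ.filter (fun a : G => a ^ n = 1)).image (fun x : G => x ^ p),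
          #{x ∈ (Finset.univ.filter (fun a : G => a ^ n = 1)) | (fun x : G => x ^ p) x = a} ≤ p := by
        intro a ha
        rw [Finset.mem_image] at ha
        obtain ⟨x0, _, hx0⟩ := ha
        refine le_trans ?_ (h p hp)
        apply Finset.card_le_card_of_injOn (fun x => x * x0⁻¹)
        · intro x hx
          simp only [Finset.coe_filter, Finset.mem_filter, Finset.mem_univ, true_and,
            Set.mem_ofPred_eq] at hx ⊢
          rw [mul_pow, inv_pow, hx.2, ← hx0, mul_inv_cancel]
        · intro x _ y _ hxy
          exact mul_right_cancel hxy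
      have h2 := Finset.card_le_mul_card_image (Finset.univ.filter (fun a : G => a ^ n = 1)) p hfib
      have h3 : #((Finset.univ.filter (fun a : G => a ^ n = 1)).image (fun x : G => x ^ p)) ≤ m := by
        refine le_trans (Finset.card_le_card ?_) (ih m hmn hm0)
        intro y hy
        rw [Finset.mem_image] at hy
        obtain ⟨x, hx, rfl⟩ := hy
        simp only [Finset.mem_filter, Finset.mem_univ, true_and] at hx ⊢
        rw [← pow_mul, ← hm, hx]
      calc #{a : G | a ^ n = 1} ≤ p * #((Finset.univ.filter (fun a : G => a ^ n = 1)).image (fun x : G => x ^ p)) := h2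
        _ ≤ p * m := Nat.mul_le_mul_left p h3
        _ = n := hm.symm

/-- A finite commutative group such that `x ^ p = 1` has at most `p` solutions for each prime `p`
is cyclic. -/
theorem isCyclic_of_prime_torsion_le (G : Type*) [CommGroup G] [Finite G]
    (h : ∀ p : ℕ, p.Prime → Nat.card {a : G // a ^ p = 1} ≤ p) : IsCyclic G := by
  classical
  cases nonempty_fintype G
  apply isCyclic_of_card_pow_eq_one_le
  apply card_pow_le
  intro p hp
  have := h p hp
  rwa [Nat.card_eq_fintype_card, Fintype.card_subtype] at this

/-- A cyclic subgroup all of whose elements satisfy `x ^ p = 1` has at most `p` elements. -/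
theorem card_le_of_cyclic {G : Type*} [Group G] [Finite G] (p : ℕ) (hp : 0 < p) (H : Subgroup G)
    (hH : ∀ x ∈ H, x ^ p = 1) (hc : IsCyclic H) : Nat.card H ≤ p := by
  classical
  cases nonempty_fintype H
  have h1 := IsCyclic.card_pow_eq_one_le (α := H) hp
  have h2 : (Finset.univ.filter (fun a : H => a ^ p = 1)) = Finset.univ := by
    ext a
    simp only [Finset.mem_filter, Finset.mem_univ, true_and, iff_true]
    apply Subtype.ext
    simpa using hH a.1 a.2
  rw [h2, Finset.card_univ] at h1
  rwa [Nat.card_eq_fintype_card]

/-- Say that a group has self-centralizing non-cyclic subgroups when every non-cyclic subgroup H satisfies C_G(H) ≤ H. A finite abelian group with self-centralizing non-cyclic subgroups is cyclic or elementary abelian of order p² for a prime p. -/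
theorem result {G : Type*} [CommGroup G] [Finite G] (hX : (∀ H : Subgroup G, ¬ IsCyclic ↥H → Subgroup.centralizer (H : Set G) ≤ H)) :
    IsCyclic G ∨ ∃ p : ℕ, p.Prime ∧ Nat.card G = p ^ 2 ∧ Monoid.exponent G = p := by
  classical
  by_cases hc : IsCyclic G
  · left; exact hc
  right
  have hX' : ∀ H : Subgroup G, ¬ IsCyclic H → H = ⊤ := by
    intro H hH
    have h1 := hX H hH
    rw [eq_top_iff]
    intro x _
    apply h1
    rw [Subgroup.mem_centralizer_iff]
    intro y _
    exact mul_comm _ _
  have hex : ∃ p : ℕ, p.Prime ∧ p < Nat.card {a : G // a ^ p = 1} := by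
    by_contra hcon
    push Not at hcon
    exact hc (isCyclic_of_prime_torsion_le G hcon)
  obtain ⟨p, hp, hlt⟩ := hex
  have : Fact p.Prime := ⟨hp⟩
  set K : Subgroup G := (powMonoidHom p : G →* G).ker with hK
  have hKmem : ∀ x, x ∈ K ↔ x ^ p = 1 := fun x => by
    rw [hK, MonoidHom.mem_ker, powMonoidHom_apply]
  have hKcard : Nat.card K = Nat.card {a : G // a ^ p = 1} := by
    apply Nat.card_congr
    exact Equiv.subtypeEquivRight hKmem
  have hKtop : K = ⊤ := by
    apply hX'
    intro hKc
    have := card_le_of_cyclic p hp.pos K (fun x hx => (hKmem x).mp hx) hKc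
    omega
  have hpow : ∀ x : G, x ^ p = 1 := fun x => (hKmem x).mp (hKtop ▸ Subgroup.mem_top x)
  have hcardG : p < Nat.card G := by
    rw [← Subgroup.card_top (G := G), ← hKtop, hKcard]; exact hlt
  have hnontriv : Nontrivial G := by
    rw [← Finite.one_lt_card_iff_nontrivial]
    exact lt_trans hp.one_lt hcardG
  obtain ⟨x, hx1⟩ := exists_ne (1 : G)
  have hxord : orderOf x = p := orderOf_eq_prime (hpow x) hx1
  -- some y outside zpowers x
  have hy : ∃ y : G, y ∉ Subgroup.zpowers x := by
    by_contra hcon
    push Not at hcon
    have : Subgroup.zpowers x = ⊤ := by rw [eq_top_iff]; intro y _; exact hcon y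
    have h2 : Nat.card (Subgroup.zpowers x) = Nat.card G := by rw [this, Subgroup.card_top]
    rw [Nat.card_zpowers, hxord] at h2
    omega
  obtain ⟨y, hy⟩ := hy
  set H : Subgroup G := Subgroup.zpowers x ⊔ Subgroup.zpowers y with hH
  have hHtop : H = ⊤ := by
    apply hX'
    intro hHc
    have h1 := card_le_of_cyclic p hp.pos H (fun z _ => hpow z) hHc
    have h2 : Subgroup.zpowers x < H := by
      refine lt_of_le_of_ne le_sup_left ?_
      intro heq
      apply hy
      rw [heq]
      exact (le_sup_right : Subgroup.zpowers y ≤ H) (Subgroup.mem_zpowers y)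
    have h3 : Nat.card (Subgroup.zpowers x) < Nat.card H :=
      Set.Finite.card_lt_card (Set.toFinite _) (SetLike.coe_ssubset_coe.mpr h2)
    rw [Nat.card_zpowers, hxord] at h3
    omega
  refine ⟨p, hp, ?_, ?_⟩
  · -- card G = p^2
    have hle : Nat.card G ≤ p ^ 2 := by
      -- surjection from ZMod p × ZMod p
      have hsurj : Function.Surjective (fun ab : Fin p × Fin p => x ^ (ab.1 : ℕ) * y ^ (ab.2 : ℕ)) := by
        intro g
        have hg : g ∈ H := hHtop ▸ Subgroup.mem_top g
        rw [hH, Subgroup.mem_sup] at hg
        obtain ⟨a, ha, b, hb, rfl⟩ := hg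
        have hyord : y ^ p = 1 := hpow y
        obtain ⟨i, rfl⟩ := (Subgroup.mem_zpowers_iff).mp ha
        obtain ⟨j, rfl⟩ := (Subgroup.mem_zpowers_iff).mp hb
        have hp0 : (p : ℤ) ≠ 0 := by exact_mod_cast hp.pos.ne'
        have hppos : (0 : ℤ) < p := by exact_mod_cast hp.pos
        refine ⟨(⟨(i % p).toNat, ?_⟩, ⟨(j % p).toNat, ?_⟩), ?_⟩
        · have := Int.emod_lt_of_pos i hppos
          have h0 := Int.emod_nonneg i hp0
          omega
        · have := Int.emod_lt_of_pos j hppos
          have h0 := Int.emod_nonneg j hp0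
          omega
        · simp only
          have e1 : x ^ (i % p).toNat = x ^ i := by
            rw [← zpow_natCast, Int.toNat_of_nonneg (Int.emod_nonneg i hp0)]
            rw [← hxord, zpow_mod_orderOf]
          have e2 : y ^ (j % p).toNat = y ^ j := by
            rw [← zpow_natCast, Int.toNat_of_nonneg (Int.emod_nonneg j hp0)]
            have : orderOf y ∣ p := orderOf_dvd_of_pow_eq_one hyord
            conv_rhs => rw [← Int.emod_add_mul_ediv j p]
            rw [zpow_add, zpow_mul]
            have : y ^ (p : ℤ) = 1 := by rw [zpow_natCast]; exact hyord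
            rw [this, one_zpow, mul_one]
          rw [e1, e2]
      have := Nat.card_le_card_of_surjective _ hsurj
      simpa [pow_two] using this
    have hdvd : p ∣ Nat.card G := by
      rw [← hxord]; exact orderOf_dvd_natCard x
    -- card G is a power of p
    have hpg : IsPGroup p G := by
      intro g
      exact ⟨1, by rw [pow_one]; exact hpow g⟩
    obtain ⟨k, hk⟩ := hpg.exists_card_eq
    rw [hk] at hle hcardG ⊢
    have hk2 : k ≤ 2 := by
      by_contra hcon
      push Not at hcon
      have : p ^ 3 ≤ p ^ k := Nat.pow_le_pow_right hp.pos hcon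
      have h2 : p ^ 2 < p ^ 3 := Nat.pow_lt_pow_right hp.one_lt (by norm_num)
      omega
    have hk1 : 1 < k := by
      by_contra hcon
      push Not at hcon
      have : p ^ k ≤ p ^ 1 := Nat.pow_le_pow_right hp.pos hcon
      rw [pow_one] at this
      omega
    have : k = 2 := by omega
    rw [this]
  · -- exponent
    have h1 : Monoid.exponent G ∣ p := Monoid.exponent_dvd_of_forall_pow_eq_one hpow
    rcases (Nat.dvd_prime hp).mp h1 with h | h
    · exfalso
      have := Monoid.exp_eq_one_iff.mp h
      exact not_subsingleton G this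
    · exact h

end Cfsg.Agent.S3917
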