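import Mathlib
import Cfsg.Statements.S4143
import Cfsg.Agent.S0112

set_option autoImplicit false
open Cfsg

namespace Cfsg.Agent.S4143

open Cfsg.Agent.Lib.Helper86

/-- the centre of a non-abelian group of order `p³` has order `p` -/
theorem card_center_of_nonabelian_cube {H : Type*} [Group H] [Finite H] (p : ℕ) [Fact p.Prime]
    (hcard : Nat.card H = p ^ 3) (hna : ¬ IsMulCommutative H) :
    Nat.card (Subgroup.center H) = p := by
  have hp : p.Prime := Fact.out
  have hH : IsPGroup p H := IsPGroup.of_card hcard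
  have hnt : Nontrivial H := by
    rw [← Finite.one_lt_card_iff_nontrivial, hcard]
    exact Nat.one_lt_pow (by norm_num) hp.one_lt
  have hdvd : Nat.card (Subgroup.center H) ∣ p ^ 3 := hcard ▸ Subgroup.card_subgroup_dvd_card _
  obtain ⟨a, ha, hca⟩ := (Nat.dvd_prime_pow hp).mp hdvd
  have hidx : Nat.card (H ⧸ Subgroup.center H) * p ^ a = p ^ 3 := by
    have := Subgroup.card_eq_card_quotient_mul_card_subgroup (Subgroup.center H)
    rw [hcard, hca] at this
    exact this.symm
  have hcardQ : Nat.card (H ⧸ Subgroup.center H) = p ^ (3 - a) := by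
    have h1 : Nat.card (H ⧸ Subgroup.center H) * p ^ a = p ^ (3 - a) * p ^ a := by
      rw [hidx, ← pow_add]; congr 1; omega
    exact Nat.eq_of_mul_eq_mul_right (pow_pos hp.pos a) h1
  have hker : (QuotientGroup.mk' (Subgroup.center H)).ker ≤ Subgroup.center H := by
    rw [QuotientGroup.ker_mk']
  have ha0 : a ≠ 0 := by
    intro h0
    have hntc : Nontrivial (Subgroup.center H) := hH.center_nontrivial
    rw [← Finite.one_lt_card_iff_nontrivial, hca, h0, pow_zero] at hntc
    exact lt_irrefl _ hntc
  have ha3 : a ≠ 3 := by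
    intro h3
    apply hna
    have htop : Subgroup.center H = ⊤ := by
      apply Subgroup.eq_top_of_card_eq
      rw [hca, h3, hcard]
    rw [isMulCommutative_iff]
    intro x y
    have hy : y ∈ Subgroup.center H := by rw [htop]; exact Subgroup.mem_top y
    exact (Subgroup.mem_center_iff.mp hy) x
  have ha2 : a ≠ 2 := by
    intro h2
    apply hna
    have hc : Nat.card (H ⧸ Subgroup.center H) = p := by rw [hcardQ, h2]; norm_num
    have hcyc : IsCyclic (H ⧸ Subgroup.center H) := isCyclic_of_prime_card hc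
    exact MonoidHom.isMulCommutative_of_isCyclic_of_ker_le_center
        (QuotientGroup.mk' (Subgroup.center H)) hker
  have ha1 : a = 1 := by omega
  rw [hca, ha1, pow_one]

/-- order of the image in a quotient -/
theorem card_eq_card_map_mul {G : Type*} [Group G] [Finite G] (N : Subgroup G) [N.Normal]
    (H : Subgroup G) (hNH : N ≤ H) :
    Nat.card H = Nat.card (H.map (QuotientGroup.mk' N)) * Nat.card N := by
  have hcomap : (H.map (QuotientGroup.mk' N)).comap (QuotientGroup.mk' N) = H :=
    Subgroup.comap_map_eq_self (by rw [QuotientGroup.ker_mk']; exact hNH)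
  have hi : H.index = (H.map (QuotientGroup.mk' N)).index := by
    conv_lhs => rw [← hcomap]
    exact Subgroup.index_comap_of_surjective _ (QuotientGroup.mk'_surjective N)
  have e1 := Subgroup.card_mul_index H
  have e2 := Subgroup.card_mul_index (H.map (QuotientGroup.mk' N))
  have e3 := Subgroup.card_eq_card_quotient_mul_card_subgroup N
  have hi0 : 0 < H.index := Nat.pos_of_ne_zero Subgroup.index_ne_zero_of_finite
  rw [← hi] at e2
  have : Nat.card H * H.index = (Nat.card (H.map (QuotientGroup.mk' N)) * Nat.card N) * H.index := by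
    rw [e1, e3, ← e2]; ring
  exact Nat.eq_of_mul_eq_mul_right hi0 this

/-- commutation with a fixed element, as a homomorphism to the centre -/
def cmHom {G : Type*} [Group G] (D : Subgroup G) (a : G)
    (h : ∀ x ∈ D, x * a * x⁻¹ * a⁻¹ ∈ Subgroup.center G) : D →* Subgroup.center G :=
  MonoidHom.mk' (fun x => ⟨(x : G) * a * (x : G)⁻¹ * a⁻¹, h x x.2⟩) (by
    intro x y
    apply Subtype.ext
    have hy := h y y.2
    rw [Subgroup.mem_center_iff] at hy
    show ((x * y : D) : G) * a * ((x * y : D) : G)⁻¹ * a⁻¹ =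
      ((x : G) * a * (x : G)⁻¹ * a⁻¹) * ((y : G) * a * (y : G)⁻¹ * a⁻¹)
    have h2 := hy ((x : G) * a * (x : G)⁻¹ * a⁻¹)
    have h3 := hy (x : G)
    calc ((x * y : D) : G) * a * ((x * y : D) : G)⁻¹ * a⁻¹
        = ((x : G) * ((y : G) * a * (y : G)⁻¹ * a⁻¹)) * a * (x : G)⁻¹ * a⁻¹ := by
          rw [Subgroup.coe_mul]; group
      _ = (((y : G) * a * (y : G)⁻¹ * a⁻¹) * (x : G)) * a * (x : G)⁻¹ * a⁻¹ := by rw [h3]
      _ = ((y : G) * a * (y : G)⁻¹ * a⁻¹) * ((x : G) * a * (x : G)⁻¹ * a⁻¹) := by group
      _ = _ := h2.symm)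

theorem cmHom_apply {G : Type*} [Group G] (D : Subgroup G) (a : G)
    (h : ∀ x ∈ D, x * a * x⁻¹ * a⁻¹ ∈ Subgroup.center G) (x : D) :
    ((cmHom D a h x : Subgroup.center G) : G) = (x : G) * a * (x : G)⁻¹ * a⁻¹ := rfl

/-- Let X be a finite p-group of order p^n containing a non-abelian subgroup B of order p³ with C_X(B) ≤ B. Then X has nilpotency class n − 1 (maximal class). -/
theorem result {X : Type*} [Group X] [Finite X] {p : ℕ} [Fact p.Prime] (n : ℕ) (hX : Nat.card X = p ^ n)
    (B : Subgroup X) (hB : Nat.card B = p ^ 3) (hBna : ¬ IsMulCommutative B) (hC : Subgroup.centralizer (B : Set X) ≤ B) :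
    Group.nilpotencyClass X = n - 1 := by
  have hp : p.Prime := Fact.out
  have hXp : IsPGroup p X := IsPGroup.of_card hX
  have hn3 : 3 ≤ n := by
    have hdvd : p ^ 3 ∣ p ^ n := by rw [← hB, ← hX]; exact Subgroup.card_subgroup_dvd_card B
    exact (Nat.pow_dvd_pow_iff_le_right hp.one_lt).mp hdvd
  have hnt : Nontrivial X := by
    rw [← Finite.one_lt_card_iff_nontrivial, hX]
    exact Nat.one_lt_pow (by omega) hp.one_lt
  have hnil : Group.IsNilpotent X := hXp.isNilpotent
  set C := Subgroup.centralizer (B : Set X) with hCdef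
  set Z := Subgroup.center X with hZdef
  have hZC : Z ≤ C := Subgroup.center_le_centralizer _
  have hCeq : C = (Subgroup.center B).map B.subtype := by
    ext x; constructor
    · intro hx
      refine ⟨⟨x, hC hx⟩, ?_, rfl⟩
      rw [SetLike.mem_coe, Subgroup.mem_center_iff]
      intro b
      apply Subtype.ext
      exact (Subgroup.mem_centralizer_iff.mp hx) b b.2
    · rintro ⟨y, hy, rfl⟩
      rw [Subgroup.mem_centralizer_iff]
      intro b hb
      have := Subgroup.mem_center_iff.mp hy ⟨b, hb⟩
      exact congrArg Subtype.val this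
  have hcC : Nat.card C = p := by
    rw [hCeq, Subgroup.card_map_of_injective B.subtype_injective]
    exact card_center_of_nonabelian_cube p hB hBna
  have hZne : Z ≠ ⊥ := by
    have hntc : Nontrivial Z := hXp.center_nontrivial
    intro h
    rw [h] at hntc
    exact not_nontrivial _ hntc
  have hZeqC : Z = C := eq_of_le_of_prime_card hp hZC hZne hcC
  have hcZ : Nat.card Z = p := by rw [hZeqC]; exact hcC
  have hZB : Z ≤ B := hZC.trans hC
  -- the quotient
  set π : X →* X ⧸ Z := QuotientGroup.mk' Z with hπ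
  have hπsurj : Function.Surjective π := QuotientGroup.mk'_surjective Z
  have hπker : π.ker = Z := QuotientGroup.ker_mk' Z
  have hcQ : Nat.card (X ⧸ Z) = p ^ (n - 1) := by
    have h1 := Subgroup.card_eq_card_quotient_mul_card_subgroup Z
    rw [hX, hcZ] at h1
    have h2 : p ^ (n - 1) * p = Nat.card (X ⧸ Z) * p := by
      rw [← h1, ← pow_succ]; congr 1; omega
    exact (Nat.eq_of_mul_eq_mul_right hp.pos h2).symm
  set Bbar : Subgroup (X ⧸ Z) := B.map π with hBbar
  have hcBbar : Nat.card Bbar = p ^ 2 := by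
    have h1 := card_eq_card_map_mul Z B hZB
    rw [hB, hcZ] at h1
    have : Nat.card Bbar * p = p ^ 2 * p := by rw [← h1]; ring
    exact Nat.eq_of_mul_eq_mul_right hp.pos this
  have hBbarcomm : IsMulCommutative Bbar := IsPGroup.isMulCommutative_of_card_eq_prime_sq hcBbar
  have hBbarle : Bbar ≤ Subgroup.centralizer (Bbar : Set (X ⧸ Z)) := by
    intro x hx
    rw [Subgroup.mem_centralizer_iff]
    intro y hy
    have h := isMulCommutative_iff.mp hBbarcomm ⟨y, hy⟩ ⟨x, hx⟩
    exact congrArg Subtype.val h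
  set Dbar : Subgroup (X ⧸ Z) := Subgroup.centralizer (Bbar : Set (X ⧸ Z)) with hDbar
  set D : Subgroup X := Dbar.comap π with hD
  have hBD : B ≤ D := by
    intro b hb
    rw [hD, Subgroup.mem_comap]
    exact hBbarle ⟨b, hb, rfl⟩
  have hZD : Z ≤ D := hZB.trans hBD
  have hcmem : ∀ a ∈ B, ∀ x ∈ D, x * a * x⁻¹ * a⁻¹ ∈ Z := by
    intro a ha x hx
    rw [hD, Subgroup.mem_comap, hDbar, Subgroup.mem_centralizer_iff] at hx
    have h1 := hx (π a) ⟨a, ha, rfl⟩
    rw [← hπker, MonoidHom.mem_ker, map_mul, map_mul, map_mul, map_inv, map_inv, ← h1]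
    group
  -- non-commuting generators
  obtain ⟨b1, b2, hb12⟩ : ∃ b1 b2 : B, b1 * b2 ≠ b2 * b1 := by
    by_contra hcon
    push Not at hcon
    exact hBna (isMulCommutative_iff.mpr hcon)
  have hb12' : (b1 : X) * b2 ≠ b2 * b1 := by
    intro h
    apply hb12
    apply Subtype.ext
    exact h
  set H : Subgroup X := Subgroup.closure {(b1 : X), (b2 : X)} with hH
  have hHB : H ≤ B := by
    rw [hH, Subgroup.closure_le]
    intro x hx
    rcases hx with rfl | rfl
    · exact b1.2
    · exact b2.2
  have hb1H : (b1 : X) ∈ H := Subgroup.subset_closure (by simp)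
  have hb2H : (b2 : X) ∈ H := Subgroup.subset_closure (by simp)
  have hHna : ¬ IsMulCommutative H := by
    intro hcomm
    have h := isMulCommutative_iff.mp hcomm ⟨b1, hb1H⟩ ⟨b2, hb2H⟩
    exact hb12' (congrArg Subtype.val h)
  have hHeq : H = B := by
    have hdvd : Nat.card H ∣ p ^ 3 := hB ▸ Subgroup.card_dvd_of_le hHB
    obtain ⟨h, hh, hch⟩ := (Nat.dvd_prime_pow hp).mp hdvd
    have h0 : h ≠ 0 := by
      intro h0
      rw [h0, pow_zero] at hch
      have : Subsingleton H := (Nat.card_eq_one_iff_unique.mp hch).1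
      apply hHna
      rw [isMulCommutative_iff]
      intro a b
      rw [Subsingleton.elim a 1, Subsingleton.elim b 1]
    have h1 : h ≠ 1 := by
      intro h1
      rw [h1, pow_one] at hch
      have : IsCyclic H := isCyclic_of_prime_card hch
      exact hHna IsCyclic.isMulCommutative
    have h2 : h ≠ 2 := by
      intro h2
      rw [h2] at hch
      exact hHna (IsPGroup.isMulCommutative_of_card_eq_prime_sq hch)
    have h3 : h = 3 := by omega
    exact Subgroup.eq_of_le_of_card_ge hHB (by rw [hB, hch, h3])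
  -- the homomorphism D → Z × Z
  let f1 : D →* Z := cmHom D b1 (hcmem b1 b1.2)
  let f2 : D →* Z := cmHom D b2 (hcmem b2 b2.2)
  let f : D →* Z × Z := f1.prod f2
  have hkerle : f.ker.map D.subtype ≤ Z := by
    rintro _ ⟨x, hx, rfl⟩
    rw [SetLike.mem_coe, MonoidHom.mem_ker, MonoidHom.prod_apply, Prod.mk_eq_one] at hx
    obtain ⟨hx1, hx2⟩ := hx
    have e1 : (x : X) * b1 * (x : X)⁻¹ * (b1 : X)⁻¹ = 1 := by
      rw [← cmHom_apply D b1 (hcmem b1 b1.2) x]
      show ((f1 x : Z) : X) = 1
      rw [hx1]; rfl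
    have e2 : (x : X) * b2 * (x : X)⁻¹ * (b2 : X)⁻¹ = 1 := by
      rw [← cmHom_apply D b2 (hcmem b2 b2.2) x]
      show ((f2 x : Z) : X) = 1
      rw [hx2]; rfl
    have c1 : (x : X) * b1 = b1 * (x : X) := by
      calc (x : X) * b1 = ((x : X) * b1 * (x : X)⁻¹ * (b1 : X)⁻¹) * b1 * (x : X) := by group
        _ = b1 * (x : X) := by rw [e1, one_mul]
    have c2 : (x : X) * b2 = b2 * (x : X) := by
      calc (x : X) * b2 = ((x : X) * b2 * (x : X)⁻¹ * (b2 : X)⁻¹) * b2 * (x : X) := by group
        _ = b2 * (x : X) := by rw [e2, one_mul]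
    show (x : X) ∈ Z
    rw [hZeqC, hCdef, Subgroup.mem_centralizer_iff]
    have hle : B ≤ Subgroup.centralizer {(x : X)} := by
      rw [← hHeq, hH, Subgroup.closure_le]
      intro y hy
      rw [SetLike.mem_coe, Subgroup.mem_centralizer_iff]
      intro w hw
      rw [Set.mem_singleton_iff] at hw
      rw [hw]
      rcases hy with rfl | rfl
      · exact c1
      · exact c2
    intro b hb
    have := hle hb
    rw [Subgroup.mem_centralizer_iff] at this
    exact (this (x : X) rfl).symm
  have hcD : Nat.card D ≤ p ^ 3 := by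
    have h1 : Nat.card D = Nat.card f.ker * Nat.card f.range := by
      rw [← Subgroup.index_ker, Subgroup.card_mul_index]
    have h2 : Nat.card f.ker ≤ p := by
      have : Nat.card f.ker = Nat.card (f.ker.map D.subtype) :=
        (Subgroup.card_map_of_injective D.subtype_injective).symm
      rw [this, ← hcZ]
      exact Subgroup.card_le_of_le hkerle
    have h3 : Nat.card f.range ≤ p ^ 2 := by
      have h4 : Nat.card f.range ≤ Nat.card (Z × Z) := Finite.card_subtype_le _
      rw [Nat.card_prod, hcZ] at h4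
      calc Nat.card f.range ≤ p * p := h4
        _ = p ^ 2 := by ring
    rw [h1]
    calc Nat.card f.ker * Nat.card f.range ≤ p * p ^ 2 := Nat.mul_le_mul h2 h3
      _ = p ^ 3 := by ring
  have hDB : D = B := (Subgroup.eq_of_le_of_card_ge hBD (by rw [hB]; exact hcD)).symm
  have hBself : Subgroup.centralizer (Bbar : Set (X ⧸ Z)) = Bbar := by
    have h1 : D.map π = Dbar := Subgroup.map_comap_eq_self_of_surjective hπsurj Dbar
    rw [← hDbar, ← h1, hDB]
  have hind := Cfsg.Agent.S0112.result (n - 1) hcQ Bbar hcBbar hBself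
  have h1 := Group.nilpotencyClass_eq_quotient_center_plus_one (G := X)
  rw [h1, hind]
  omega

end Cfsg.Agent.S4143
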