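import Mathlib
import Cfsg.Statements.S3918
import Cfsg.Agent.S4143
import Cfsg.Agent.S0126
import Cfsg.Agent.Lib.Helper76.PGroup
import Cfsg.Agent.Lib.Helper32.PGroupCenter
import Cfsg.Agent.Lib.Helper29.CyclicMax

set_option autoImplicit false
open Cfsg

namespace Cfsg.Agent.S3918

open Cfsg.Agent.S4143

theorem card_eq_pow_of_le {G : Type*} [Group G] [Finite G] {p n : ℕ} (hp : p.Prime)
    (hG : Nat.card G = p ^ n) (H : Subgroup G) : ∃ a ≤ n, Nat.card H = p ^ a :=
  (Nat.dvd_prime_pow hp).mp (hG ▸ Subgroup.card_subgroup_dvd_card H)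

/-- groups of order `p^k`, `k ≤ 2`, are commutative -/
theorem comm_of_card_le_sq {H : Type*} [Group H] {p k : ℕ} [Fact p.Prime] (hk : k ≤ 2)
    (hH : Nat.card H = p ^ k) : IsMulCommutative H := by
  have hk' : k = 0 ∨ k = 1 ∨ k = 2 := by omega
  rcases hk' with rfl | rfl | rfl
  · rw [pow_zero] at hH
    have : Subsingleton H := (Nat.card_eq_one_iff_unique.mp hH).1
    rw [isMulCommutative_iff]
    intro a b
    rw [Subsingleton.elim a 1, Subsingleton.elim b 1]
  · rw [pow_one] at hH
    have : IsCyclic H := isCyclic_of_prime_card hH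
    exact IsCyclic.isMulCommutative
  · exact IsPGroup.isMulCommutative_of_card_eq_prime_sq hH

/-- groups of order `p^k`, `k ≤ 1`, are cyclic -/
theorem cyclic_of_card_le_one {H : Type*} [Group H] {p k : ℕ} [Fact p.Prime] (hk : k ≤ 1)
    (hH : Nat.card H = p ^ k) : IsCyclic H := by
  have hk' : k = 0 ∨ k = 1 := by omega
  rcases hk' with rfl | rfl
  · rw [pow_zero] at hH
    have : Subsingleton H := (Nat.card_eq_one_iff_unique.mp hH).1
    exact isCyclic_of_subsingleton
  · rw [pow_one] at hH
    exact isCyclic_of_prime_card hH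

theorem forward {G : Type*} [Group G] [Finite G] {p : ℕ} [Fact p.Prime] (hp : p ≠ 2)
    (hG : IsPGroup p G) (hna : ¬ IsMulCommutative G)
    (hP : ∀ H : Subgroup G, ¬ IsCyclic ↥H → Subgroup.centralizer (H : Set G) ≤ H) :
    Nat.card G = p ^ 3 := by
  have hpp : p.Prime := Fact.out
  have hnc : ¬ IsCyclic G := fun h => hna IsCyclic.isMulCommutative
  obtain ⟨A, hAn, ⟨hAcomm, hAexp⟩, hcA⟩ := Cfsg.Agent.S0126.result hp hG hnc
  have hAnc : ¬ IsCyclic A := by
    intro hc
    obtain ⟨g, hg⟩ := hc.exists_generator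
    have h1 : orderOf g = Nat.card A := orderOf_eq_card_of_forall_mem_zpowers hg
    have h2 : g ^ p = 1 := Subtype.ext (by simpa using hAexp g g.2)
    have h3 : orderOf g ∣ p := orderOf_dvd_of_pow_eq_one h2
    rw [h1, hcA] at h3
    have := Nat.le_of_dvd hpp.pos h3
    nlinarith [hpp.two_le]
  have hCA : Subgroup.centralizer (A : Set G) ≤ A := hP A hAnc
  have hAne : A ≠ ⊥ := by
    intro h
    rw [h, Subgroup.card_bot] at hcA
    have : 1 < p ^ 2 := Nat.one_lt_pow (by norm_num) hpp.one_lt
    omega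
  obtain ⟨z, hzA, hzZ, hz1⟩ := Cfsg.Agent.Lib.Helper32.exists_ne_one_mem_normal_inf_center hG A hAne
  -- an element of A outside the centre
  obtain ⟨a, haA, haZ⟩ : ∃ a ∈ A, a ∉ Subgroup.center G := by
    by_contra hcon
    push Not at hcon
    apply hna
    have htop : A = ⊤ := by
      rw [eq_top_iff]
      intro x _
      apply hCA
      rw [Subgroup.mem_centralizer_iff]
      intro y hy
      exact (Subgroup.mem_center_iff.mp (hcon y hy) x).symm
    rw [isMulCommutative_iff]
    intro x y
    have hy : y ∈ A := by rw [htop]; exact Subgroup.mem_top y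
    exact (Subgroup.mem_center_iff.mp (hcon y hy) x)
  set Z1 : Subgroup G := Subgroup.zpowers z with hZ1
  have hZ1c : Z1 ≤ Subgroup.center G := by
    rw [hZ1, Subgroup.zpowers_le]; exact hzZ
  have hZ1A : Z1 ≤ A := by
    rw [hZ1, Subgroup.zpowers_le]; exact hzA
  have hZ1n : Z1.Normal := Cfsg.Agent.Lib.Helper29.normal_of_le_center' hZ1c
  have hcZ1 : Nat.card Z1 = p := by
    rw [hZ1, Nat.card_zpowers]
    exact orderOf_eq_prime (hAexp z hzA) hz1
  have haZ1 : a ∉ Z1 := fun h => haZ (hZ1c h)
  -- A = Z1 ⊔ ⟨a⟩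
  have hAgen : A = Z1 ⊔ Subgroup.zpowers a := by
    symm
    have hle : Z1 ⊔ Subgroup.zpowers a ≤ A := sup_le hZ1A (by rw [Subgroup.zpowers_le]; exact haA)
    have hdvd : Nat.card (Z1 ⊔ Subgroup.zpowers a : Subgroup G) ∣ p ^ 2 :=
      hcA ▸ Subgroup.card_dvd_of_le hle
    obtain ⟨b, hb, hcb⟩ := (Nat.dvd_prime_pow hpp).mp hdvd
    have hlt : Nat.card Z1 < Nat.card (Z1 ⊔ Subgroup.zpowers a : Subgroup G) := by
      apply lt_of_le_of_ne (Subgroup.card_le_of_le le_sup_left)
      intro heq
      have : Z1 = Z1 ⊔ Subgroup.zpowers a := Subgroup.eq_of_le_of_card_ge le_sup_left (by rw [heq])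
      apply haZ1
      rw [this]
      exact Subgroup.mem_sup_right (Subgroup.mem_zpowers a)
    rw [hcZ1, hcb] at hlt
    have hb2 : b = 2 := by
      have h1 : p ^ 1 < p ^ b := by rw [pow_one]; exact hlt
      have := (Nat.pow_lt_pow_iff_right hpp.one_lt).mp h1
      omega
    exact Subgroup.eq_of_le_of_card_ge hle (by rw [hcA, hcb, hb2])
  -- the image of A in G ⧸ Z1 is central
  set π : G →* G ⧸ Z1 := QuotientGroup.mk' Z1 with hπ
  have hπsurj : Function.Surjective π := QuotientGroup.mk'_surjective Z1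
  have hπker : π.ker = Z1 := QuotientGroup.ker_mk' Z1
  set Abar : Subgroup (G ⧸ Z1) := A.map π with hAbar
  have hAbarn : Abar.Normal := Subgroup.Normal.map hAn π hπsurj
  have hcAbar : Nat.card Abar = p := by
    have h1 := card_eq_card_map_mul Z1 A hZ1A
    rw [hcA, hcZ1] at h1
    have : Nat.card Abar * p = p * p := by rw [← h1]; ring
    exact Nat.eq_of_mul_eq_mul_right hpp.pos this
  have hAbarc : Abar ≤ Subgroup.center (G ⧸ Z1) :=
    Cfsg.Agent.Lib.Helper76.normal_card_prime_le_center (hG.to_quotient Z1) Abar hcAbar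
  have hcm : ∀ x ∈ (⊤ : Subgroup G), x * a * x⁻¹ * a⁻¹ ∈ Subgroup.center G := by
    intro x _
    apply hZ1c
    have h1 : π a ∈ Subgroup.center (G ⧸ Z1) := hAbarc ⟨a, haA, rfl⟩
    have h2 := Subgroup.mem_center_iff.mp h1 (π x)
    rw [← hπker, MonoidHom.mem_ker, map_mul, map_mul, map_mul, map_inv, map_inv, h2]
    group
  have hcmZ1 : ∀ x : G, x * a * x⁻¹ * a⁻¹ ∈ Z1 := by
    intro x
    have h1 : π a ∈ Subgroup.center (G ⧸ Z1) := hAbarc ⟨a, haA, rfl⟩
    have h2 := Subgroup.mem_center_iff.mp h1 (π x)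
    rw [← hπker, MonoidHom.mem_ker, map_mul, map_mul, map_mul, map_inv, map_inv, h2]
    group
  let f : (⊤ : Subgroup G) →* Subgroup.center G := cmHom ⊤ a hcm
  have hkerle : f.ker.map (⊤ : Subgroup G).subtype ≤ A := by
    rintro _ ⟨x, hx, rfl⟩
    rw [SetLike.mem_coe, MonoidHom.mem_ker] at hx
    have e1 : (x : G) * a * (x : G)⁻¹ * a⁻¹ = 1 := by
      rw [← cmHom_apply ⊤ a hcm x]
      show ((f x : Subgroup.center G) : G) = 1
      rw [hx]; rfl
    have c1 : (x : G) * a = a * (x : G) := by
      calc (x : G) * a = ((x : G) * a * (x : G)⁻¹ * a⁻¹) * a * (x : G) := by group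
        _ = a * (x : G) := by rw [e1, one_mul]
    apply hCA
    show (x : G) ∈ Subgroup.centralizer (A : Set G)
    rw [Subgroup.mem_centralizer_iff]
    have hle : A ≤ Subgroup.centralizer {(x : G)} := by
      rw [hAgen]
      apply sup_le
      · intro w hw
        rw [Subgroup.mem_centralizer_iff]
        intro y hy
        rw [Set.mem_singleton_iff] at hy
        rw [hy]
        exact (Subgroup.mem_center_iff.mp (hZ1c hw) (x : G))
      · rw [Subgroup.zpowers_le, Subgroup.mem_centralizer_iff]
        intro y hy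
        rw [Set.mem_singleton_iff] at hy
        rw [hy]
        exact c1
    intro b hb
    have := hle hb
    rw [Subgroup.mem_centralizer_iff] at this
    exact (this (x : G) rfl).symm
  have hrangele : f.range.map (Subgroup.center G).subtype ≤ Z1 := by
    rintro _ ⟨y, ⟨x, rfl⟩, rfl⟩
    exact hcmZ1 (x : G)
  have hcG : Nat.card G ≤ p ^ 3 := by
    have h0 : Nat.card G = Nat.card (⊤ : Subgroup G) := Subgroup.card_top.symm
    have h1 : Nat.card (⊤ : Subgroup G) = Nat.card f.ker * Nat.card f.range := by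
      rw [← Subgroup.index_ker, Subgroup.card_mul_index]
    have h2 : Nat.card f.ker ≤ p ^ 2 := by
      have : Nat.card f.ker = Nat.card (f.ker.map (⊤ : Subgroup G).subtype) :=
        (Subgroup.card_map_of_injective (⊤ : Subgroup G).subtype_injective).symm
      rw [this, ← hcA]
      exact Subgroup.card_le_of_le hkerle
    have h3 : Nat.card f.range ≤ p := by
      have : Nat.card f.range = Nat.card (f.range.map (Subgroup.center G).subtype) :=
        (Subgroup.card_map_of_injective (Subgroup.center G).subtype_injective).symm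
      rw [this, ← hcZ1]
      exact Subgroup.card_le_of_le hrangele
    rw [h0, h1]
    calc Nat.card f.ker * Nat.card f.range ≤ p ^ 2 * p := Nat.mul_le_mul h2 h3
      _ = p ^ 3 := by ring
  obtain ⟨k, hk⟩ := IsPGroup.iff_card.mp hG
  rw [hk] at hcG ⊢
  have hk3 : k ≤ 3 := (Nat.pow_le_pow_iff_right hpp.one_lt).mp hcG
  have hk2 : ¬ k ≤ 2 := fun h => hna (comm_of_card_le_sq h hk)
  have : k = 3 := by omega
  rw [this]

theorem backward {G : Type*} [Group G] [Finite G] {p : ℕ} [Fact p.Prime]
    (hna : ¬ IsMulCommutative G) (hcG : Nat.card G = p ^ 3)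
    (H : Subgroup G) (hH : ¬ IsCyclic ↥H) : Subgroup.centralizer (H : Set G) ≤ H := by
  have hpp : p.Prime := Fact.out
  obtain ⟨k, hk3, hk⟩ := card_eq_pow_of_le hpp hcG H
  have hk1 : ¬ k ≤ 1 := fun h => hH (cyclic_of_card_le_one h hk)
  have hk' : k = 2 ∨ k = 3 := by omega
  rcases hk' with rfl | rfl
  · have hHcomm : IsMulCommutative H := IsPGroup.isMulCommutative_of_card_eq_prime_sq hk
    have hHC : H ≤ Subgroup.centralizer (H : Set G) := by
      intro x hx
      rw [Subgroup.mem_centralizer_iff]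
      intro y hy
      have h := isMulCommutative_iff.mp hHcomm ⟨y, hy⟩ ⟨x, hx⟩
      exact congrArg Subtype.val h
    obtain ⟨c, hc3, hc⟩ := card_eq_pow_of_le hpp hcG (Subgroup.centralizer (H : Set G))
    have hc2 : 2 ≤ c := by
      have := Subgroup.card_le_of_le hHC
      rw [hk, hc] at this
      exact (Nat.pow_le_pow_iff_right hpp.one_lt).mp this
    have hcne : c ≠ 3 := by
      intro h3
      have htop : Subgroup.centralizer (H : Set G) = ⊤ := by
        apply Subgroup.eq_top_of_card_eq
        rw [hc, h3, hcG]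
      have hHZ : H ≤ Subgroup.center G := by
        intro x hx
        rw [Subgroup.mem_center_iff]
        intro g
        have hg : g ∈ Subgroup.centralizer (H : Set G) := by rw [htop]; exact Subgroup.mem_top g
        exact (Subgroup.mem_centralizer_iff.mp hg x hx).symm
      have h1 := Subgroup.card_le_of_le hHZ
      rw [hk, card_center_of_nonabelian_cube p hcG hna] at h1
      have : p ^ 1 < p ^ 2 := Nat.pow_lt_pow_right hpp.one_lt (by norm_num)
      rw [pow_one] at this
      omega
    have hc' : c = 2 := by omega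
    exact (Subgroup.eq_of_le_of_card_ge hHC (by rw [hk, hc, hc'])).ge
  · have : H = ⊤ := Subgroup.eq_top_of_card_eq H (by rw [hk, hcG])
    rw [this]
    exact le_top

/-- Say that a group has self-centralizing non-cyclic subgroups when every non-cyclic subgroup H satisfies C_G(H) ≤ H. For an odd prime p, a finite non-abelian p-group has self-centralizing non-cyclic subgroups if and only if it has order p³. -/
theorem result {G : Type*} [Group G] [Finite G] {p : ℕ} [Fact p.Prime] (hp : p ≠ 2) (hG : IsPGroup p G) (hna : ¬ IsMulCommutative G) :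
    (∀ H : Subgroup G, ¬ IsCyclic ↥H → Subgroup.centralizer (H : Set G) ≤ H) ↔ Nat.card G = p ^ 3 := by
  constructor
  · exact forward hp hG hna
  · intro hc H hH
    exact backward hna hc H hH

end Cfsg.Agent.S3918
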