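import Mathlib
import Cfsg.Statements.S3919
import Cfsg.Agent.S0112
import Cfsg.Agent.S0113
import Cfsg.Agent.S0114
import Cfsg.Agent.S0063
import Cfsg.Agent.Lib.Helper53.UniqInv2

set_option autoImplicit false
open Cfsg

namespace Cfsg.Agent.S3919

open Cfsg.Agent.Lib.Helper53

/-- The subgroup `{1, x, y, xy}` for commuting involutions (after helper5's `fourGroup`). -/
def fourGroup {G : Type*} [Group G] {x y : G} (hx : x * x = 1) (hy : y * y = 1)
    (hxy : x * y = y * x) : Subgroup G where
  carrier := {1, x, y, x * y}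
  one_mem' := by simp
  mul_mem' := by
    have h1 : x * (x * y) = y := by rw [← mul_assoc, hx, one_mul]
    have h2 : y * (x * y) = x := by rw [hxy, ← mul_assoc, hy, one_mul]
    have h3 : x * y * x = y := by rw [hxy, mul_assoc, hx, mul_one]
    have h4 : x * y * y = x := by rw [mul_assoc, hy, mul_one]
    have h5 : x * y * (x * y) = 1 := by rw [← mul_assoc, h3, hy]
    rintro a b (rfl | rfl | rfl | rfl) (rfl | rfl | rfl | rfl) <;>
      simp [hx, hy, h1, h2, h3, h4, h5, ← hxy]
  inv_mem' := by
    have hxi : x⁻¹ = x := inv_eq_of_mul_eq_one_right hx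
    have hyi : y⁻¹ = y := inv_eq_of_mul_eq_one_right hy
    rintro a (rfl | rfl | rfl | rfl) <;> simp [hxi, hyi, ← hxy]

theorem fourGroup_sq {G : Type*} [Group G] {x y : G} (hx : x * x = 1) (hy : y * y = 1)
    (hxy : x * y = y * x) (g : G) (hg : g ∈ fourGroup hx hy hxy) : g * g = 1 := by
  have h3 : x * y * x = y := by rw [hxy, mul_assoc, hx, mul_one]
  have h5 : x * y * (x * y) = 1 := by rw [← mul_assoc, h3, hy]
  rcases hg with rfl | rfl | rfl | rfl <;> simp [hx, hy, h5]

theorem card_fourGroup {G : Type*} [Group G] {x y : G} (hx : x * x = 1) (hy : y * y = 1)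
    (hxy : x * y = y * x) (hx1 : x ≠ 1) (hy1 : y ≠ 1) (hne : x ≠ y) :
    Nat.card (fourGroup hx hy hxy) = 4 := by
  classical
  have hxy1 : x * y ≠ 1 := by
    intro h
    apply hne
    have : x * y = x * x := by rw [h, hx]
    exact (mul_left_cancel this).symm
  have hxyx : x * y ≠ x := by
    intro h
    apply hy1
    have : x * y = x * 1 := by rw [h, mul_one]
    exact mul_left_cancel this
  have hxyy : x * y ≠ y := by
    intro h
    apply hx1
    have : x * y = 1 * y := by rw [h, one_mul]
    exact mul_right_cancel this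
  have : ((fourGroup hx hy hxy : Subgroup G) : Set G) = ↑({1, x, y, x * y} : Finset G) := by
    ext g; simp [fourGroup]
  rw [← SetLike.coe_sort_coe, this, Nat.card_coe_set_eq, Set.ncard_coe_finset]
  rw [Finset.card_insert_of_notMem, Finset.card_insert_of_notMem, Finset.card_insert_of_notMem,
    Finset.card_singleton]
  · simp [hxyy.symm]
  · simp [hne, hxyx.symm]
  · simp [hx1.symm, hy1.symm, hxy1.symm]

/-- unique involution in a cyclic group (after helper78) -/
theorem cyclic_sq_eq_one {A : Type*} [Group A] [Finite A] [IsCyclic A] {z w : A}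
    (hz1 : z ≠ 1) (hz2 : z ^ 2 = 1) (hw2 : w ^ 2 = 1) : w = 1 ∨ w = z := by
  classical
  have := Fintype.ofFinite A
  by_contra hcon
  push Not at hcon
  have hle := IsCyclic.card_pow_eq_one_le (α := A) (n := 2) (by norm_num)
  have hsub : ({1, z, w} : Finset A) ⊆ Finset.univ.filter (fun a : A => a ^ 2 = 1) := by
    intro a ha
    simp only [Finset.mem_insert, Finset.mem_singleton] at ha
    simp only [Finset.mem_filter, Finset.mem_univ, true_and]
    rcases ha with rfl | rfl | rfl
    · exact one_pow 2
    · exact hz2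
    · exact hw2
  have hcard : ({1, z, w} : Finset A).card = 3 := by
    rw [Finset.card_insert_of_notMem, Finset.card_insert_of_notMem, Finset.card_singleton]
    · simp only [Finset.mem_singleton]; exact fun h => hcon.2 h.symm
    · simp only [Finset.mem_insert, Finset.mem_singleton]
      rintro (h | h)
      · exact hz1 h.symm
      · exact hcon.1 h.symm
  have := Finset.card_le_card hsub
  omega

/-- groups of order `2^k`, `k ≤ 2`, are commutative -/
theorem comm_of_card_le_sq {H : Type*} [Group H] {k : ℕ} (hk : k ≤ 2)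
    (hH : Nat.card H = 2 ^ k) : IsMulCommutative H := by
  have hf : Fact (Nat.Prime 2) := ⟨Nat.prime_two⟩
  have hk' : k = 0 ∨ k = 1 ∨ k = 2 := by omega
  rcases hk' with rfl | rfl | rfl
  · rw [pow_zero] at hH
    have : Subsingleton H := (Nat.card_eq_one_iff_unique.mp hH).1
    rw [isMulCommutative_iff]
    intro a b
    rw [Subsingleton.elim a 1, Subsingleton.elim b 1]
  · rw [pow_one] at hH
    have : IsCyclic H := isCyclic_of_prime_card hH
    exact IsCyclic.isMulCommutative
  · exact IsPGroup.isMulCommutative_of_card_eq_prime_sq hH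

/-- groups of order `2^k`, `k ≤ 1`, are cyclic -/
theorem cyclic_of_card_le_one {H : Type*} [Group H] {k : ℕ} (hk : k ≤ 1)
    (hH : Nat.card H = 2 ^ k) : IsCyclic H := by
  have hf : Fact (Nat.Prime 2) := ⟨Nat.prime_two⟩
  have hk' : k = 0 ∨ k = 1 := by omega
  rcases hk' with rfl | rfl
  · rw [pow_zero] at hH
    have : Subsingleton H := (Nat.card_eq_one_iff_unique.mp hH).1
    exact isCyclic_of_subsingleton
  · rw [pow_one] at hH
    exact isCyclic_of_prime_card hH

theorem forward {G : Type*} [Group G] [Finite G] (hna : ¬ IsMulCommutative G) (n : ℕ)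
    (hG : Nat.card G = 2 ^ n)
    (hP : ∀ H : Subgroup G, ¬ IsCyclic ↥H → Subgroup.centralizer (H : Set G) ≤ H) :
    Group.nilpotencyClass G = n - 1 := by
  have hf : Fact (Nat.Prime 2) := ⟨Nat.prime_two⟩
  have hG2 : IsPGroup 2 G := IsPGroup.of_card hG
  by_cases hV : ∃ V : Subgroup G, Nat.card V = 4 ∧ ¬ IsCyclic V
  · obtain ⟨V, hcV, hVnc⟩ := hV
    have hcV' : Nat.card V = 2 ^ 2 := by rw [hcV]; norm_num
    have hVcomm : IsMulCommutative V := IsPGroup.isMulCommutative_of_card_eq_prime_sq hcV'
    have hVC : V ≤ Subgroup.centralizer (V : Set G) := by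
      intro x hx
      rw [Subgroup.mem_centralizer_iff]
      intro y hy
      have h := isMulCommutative_iff.mp hVcomm ⟨y, hy⟩ ⟨x, hx⟩
      exact congrArg Subtype.val h
    have hCV : Subgroup.centralizer (V : Set G) = V := le_antisymm (hP V hVnc) hVC
    exact Cfsg.Agent.S0112.result n hG V hcV' hCV
  · push Not at hV
    have hna' : ∃ x y : G, x * y ≠ y * x := by
      by_contra h
      push Not at h
      exact hna (isMulCommutative_iff.mpr h)
    have hnt : Nontrivial G := by
      obtain ⟨x, y, hxy⟩ := hna'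
      refine ⟨⟨x * y, y * x, hxy⟩⟩
    have hZnt : Nontrivial (Subgroup.center G) := hG2.center_nontrivial
    have h2dvd : 2 ∣ Nat.card (Subgroup.center G) := by
      obtain ⟨k, hk⟩ := IsPGroup.iff_card.mp (hG2.to_subgroup (Subgroup.center G))
      have hk0 : k ≠ 0 := by
        intro h0
        rw [h0, pow_zero] at hk
        have := Finite.one_lt_card_iff_nontrivial.mpr hZnt
        omega
      rw [hk]; exact dvd_pow_self 2 hk0
    obtain ⟨z', hz'⟩ := exists_prime_orderOf_dvd_card' 2 h2dvd
    obtain ⟨z, hzc⟩ := z'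
    have hz : orderOf z = 2 := by
      rw [← hz']; exact (Subgroup.orderOf_mk z hzc).symm
    have hzz : z * z = 1 := ui_z_sq hz
    have hz1 : z ≠ 1 := ui_z_ne_one hz
    -- unique involution
    have hu : ∀ t : G, orderOf t = 2 → t = z := by
      intro t ht
      by_contra hne
      have htt : t * t = 1 := ui_z_sq ht
      have ht1 : t ≠ 1 := ui_z_ne_one ht
      have htz : t * z = z * t := Subgroup.mem_center_iff.mp hzc t
      have hc4 := card_fourGroup htt hzz htz ht1 hz1 hne
      have hcyc := hV (fourGroup htt hzz htz) hc4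
      obtain ⟨g, hg⟩ := hcyc.exists_generator
      have h1 : orderOf g = Nat.card (fourGroup htt hzz htz) :=
        orderOf_eq_card_of_forall_mem_zpowers hg
      have h2 : g ^ 2 = 1 := by
        apply Subtype.ext
        have := fourGroup_sq htt hzz htz g g.2
        simpa [pow_two] using this
      have h3 : orderOf g ∣ 2 := orderOf_dvd_of_pow_eq_one h2
      rw [h1, hc4] at h3
      omega
    obtain ⟨a, hidx⟩ := ui_exists_cyclic_index_two hG2 hz hu hna'
    obtain ⟨b, hb⟩ : ∃ b, b ∉ Subgroup.zpowers a := by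
      by_contra h
      push Not at h
      have : Subgroup.zpowers a = ⊤ := eq_top_iff.mpr (fun x _ => h x)
      rw [this, Subgroup.index_top] at hidx
      omega
    obtain ⟨hbb, hba⟩ := ui_struct hG2 hz hu hna' hidx hb
    have hordb : orderOf b = 2 ^ 2 := by
      apply orderOf_eq_prime_pow (n := 1)
      · rw [pow_one, pow_two, hbb]; exact hz1
      · have : b ^ 2 ^ (1 + 1) = (b * b) * (b * b) := by
          have e4 : 2 ^ (1 + 1) = 2 + 2 := by norm_num
          rw [e4, pow_add, pow_two]
        rw [this, hbb, hzz]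
    have hcA : Nat.card (Subgroup.zpowers b) = 2 ^ 2 := by rw [Nat.card_zpowers, hordb]
    have hCA : Subgroup.centralizer ((Subgroup.zpowers b : Subgroup G) : Set G) = Subgroup.zpowers b := by
      apply le_antisymm
      · intro x hx
        have hxb : x * b = b * x :=
          (Subgroup.mem_centralizer_iff.mp hx b (Subgroup.mem_zpowers b)).symm
        have key : ∀ y ∈ Subgroup.zpowers a, y * b = b * y → y ∈ Subgroup.zpowers b := by
          intro y hy hyb
          obtain ⟨i, rfl⟩ := Subgroup.mem_zpowers_iff.mp hy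
          have h1 : b * a ^ i * b⁻¹ = (a ^ i)⁻¹ := by
            have := map_zpow (MulAut.conj b) a i
            simp only [MulAut.conj_apply] at this
            rw [this, hba, inv_zpow]
          have h2 : b * a ^ i * b⁻¹ = a ^ i := by rw [← hyb, mul_inv_cancel_right]
          have h3 : a ^ i * a ^ i = 1 := by
            have h4 : (a ^ i)⁻¹ = a ^ i := by rw [← h1, h2]
            calc a ^ i * a ^ i = a ^ i * (a ^ i)⁻¹ := by rw [h4]
              _ = 1 := mul_inv_cancel _
          rcases ui_sq_eq_one hu h3 with h | h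
          · rw [h]; exact one_mem _
          · rw [h, ← hbb]; exact mul_mem (Subgroup.mem_zpowers b) (Subgroup.mem_zpowers b)
        by_cases hxa : x ∈ Subgroup.zpowers a
        · exact key x hxa hxb
        · have hy : x * b⁻¹ ∈ Subgroup.zpowers a := by
            rw [Subgroup.mul_mem_iff_of_index_two hidx]
            constructor
            · intro h; exact absurd h hxa
            · intro h; exact absurd ((Subgroup.zpowers a).inv_mem_iff.mp h) hb
          have hyb : (x * b⁻¹) * b = b * (x * b⁻¹) := by
            rw [inv_mul_cancel_right, ← mul_assoc, ← hxb, mul_inv_cancel_right]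
          have h5 := key _ hy hyb
          have h4 : x = (x * b⁻¹) * b := by group
          rw [h4]; exact mul_mem h5 (Subgroup.mem_zpowers b)
      · intro x hx
        rw [Subgroup.mem_centralizer_iff]
        intro y hy
        exact zpowers_comm hy hx
    exact Cfsg.Agent.S0112.result n hG (Subgroup.zpowers b) hcA hCA

theorem backward {G : Type*} [Group G] [Finite G] (hna : ¬ IsMulCommutative G) (n : ℕ)
    (hn : 3 ≤ n) (hG : Nat.card G = 2 ^ n) (hc : Group.nilpotencyClass G = n - 1)
    (H : Subgroup G) (hH : ¬ IsCyclic ↥H) : Subgroup.centralizer (H : Set G) ≤ H := by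
  have hf : Fact (Nat.Prime 2) := ⟨Nat.prime_two⟩
  have hG2 : IsPGroup 2 G := IsPGroup.of_card hG
  obtain ⟨C, hCc, hCi⟩ := Cfsg.Agent.S0113.result n hn hG hc
  obtain ⟨e⟩ := Cfsg.Agent.S0114.result n hn hG hc
  have hcZ : Nat.card (Subgroup.center G) = 2 := by
    have h1 := Subgroup.card_eq_card_quotient_mul_card_subgroup (Subgroup.center G)
    rw [Nat.card_congr e.toEquiv, DihedralGroup.nat_card, hG] at h1
    have h2 : 2 ^ n = 2 * 2 ^ (n - 2) * 2 := by
      have : n = (n - 2) + 1 + 1 := by omega
      conv_lhs => rw [this]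
      ring
    rw [h2] at h1
    have hpos : 0 < 2 * 2 ^ (n - 2) := by positivity
    exact (Nat.eq_of_mul_eq_mul_left hpos h1).symm
  have hCcomm : ∀ x ∈ C, ∀ y ∈ C, x * y = y * x := by
    intro x hx y hy
    have h := isMulCommutative_iff.mp (IsCyclic.isMulCommutative (α := C)) ⟨x, hx⟩ ⟨y, hy⟩
    exact congrArg Subtype.val h
  -- the centre
  obtain ⟨z, hzZ, hz1, hzall⟩ : ∃ z ∈ Subgroup.center G, z ≠ 1 ∧
      ∀ x ∈ Subgroup.center G, x = 1 ∨ x = z := by
    obtain ⟨z, hz, hzu⟩ := (Nat.card_eq_two_iff' (1 : Subgroup.center G)).mp hcZ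
    refine ⟨z, z.2, fun h => hz (Subtype.ext h), fun x hx => ?_⟩
    by_cases hx1 : x = 1
    · exact Or.inl hx1
    · right
      have := hzu ⟨x, hx⟩ (fun h => hx1 (congrArg Subtype.val h))
      exact congrArg Subtype.val this
  have hzz : z ^ 2 = 1 := by
    rcases hzall (z ^ 2) (pow_mem hzZ 2) with h | h
    · exact h
    · exfalso
      apply hz1
      have : z * z = z * 1 := by rw [← pow_two, h, mul_one]
      exact mul_left_cancel this
  have hzcomm : ∀ g : G, Commute g z := fun g => Subgroup.mem_center_iff.mp hzZ g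
  -- z ∈ C
  have hzC : z ∈ C := by
    by_contra hzC
    apply hna
    rw [isMulCommutative_iff]
    have hdec : ∀ g : G, ∃ y ∈ C, g = y ∨ g = y * z := by
      intro g
      by_cases hg : g ∈ C
      · exact ⟨g, hg, Or.inl rfl⟩
      · refine ⟨g * z⁻¹, ?_, Or.inr (by group)⟩
        rw [Subgroup.mul_mem_iff_of_index_two hCi]
        exact ⟨fun h => absurd h hg, fun h => absurd (C.inv_mem_iff.mp h) hzC⟩
    intro g1 g2
    obtain ⟨y1, hy1, h1⟩ := hdec g1
    obtain ⟨y2, hy2, h2⟩ := hdec g2
    have c12 : Commute y1 y2 := hCcomm y1 hy1 y2 hy2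
    have c1z : Commute y1 z := hzcomm y1
    have c2z : Commute y2 z := hzcomm y2
    rcases h1 with rfl | rfl <;> rcases h2 with rfl | rfl
    · exact c12
    · exact c12.mul_right c1z
    · exact c12.mul_left c2z.symm
    · exact (c12.mul_right c1z).mul_left (c2z.symm.mul_right (Commute.refl z))
  -- an element of H outside C
  obtain ⟨h, hhH, hhC⟩ : ∃ h ∈ H, h ∉ C := by
    by_contra hcon
    push Not at hcon
    exact hH (Subgroup.isCyclic_of_le (show H ≤ C from hcon))
  have claim1 : ∀ x ∈ C, x * h = h * x → x = 1 ∨ x = z := by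
    intro x hx hxh
    apply hzall
    rw [Subgroup.mem_center_iff]
    intro g
    by_cases hg : g ∈ C
    · exact hCcomm g hg x hx
    · have hy : g * h⁻¹ ∈ C := by
        rw [Subgroup.mul_mem_iff_of_index_two hCi]
        exact ⟨fun h' => absurd h' hg, fun h' => absurd (C.inv_mem_iff.mp h') hhC⟩
      have e : g = (g * h⁻¹) * h := by group
      rw [e]
      have c1 : Commute (g * h⁻¹) x := hCcomm _ hy x hx
      have c2 : Commute h x := hxh.symm
      exact c1.mul_left c2
  -- z ∈ H
  have hzH : z ∈ H := by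
    obtain ⟨k, hk⟩ := IsPGroup.iff_card.mp (hG2.to_subgroup H)
    have hk2 : 2 ≤ k := by
      by_contra hlt
      exact hH (cyclic_of_card_le_one (by omega) hk)
    have hCn : C.Normal := Subgroup.normal_of_index_eq_two hCi
    have hrel : C.relIndex H ∣ 2 := hCi ▸ Subgroup.relIndex_dvd_index_of_normal C H
    have hmul : Nat.card (C.subgroupOf H) * C.relIndex H = Nat.card H :=
      Subgroup.card_mul_index (C.subgroupOf H)
    obtain ⟨j, hj⟩ := IsPGroup.iff_card.mp ((hG2.to_subgroup H).to_subgroup (C.subgroupOf H))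
    have hj0 : j ≠ 0 := by
      intro h0
      rw [hj, h0, pow_zero, one_mul, hk] at hmul
      have h4 : 2 ^ 2 ≤ 2 ^ k := Nat.pow_le_pow_right (by norm_num) hk2
      have := Nat.le_of_dvd (by norm_num) hrel
      omega
    have h2dvd : 2 ∣ Nat.card (C.subgroupOf H) := by rw [hj]; exact dvd_pow_self 2 hj0
    obtain ⟨w, hw⟩ := exists_prime_orderOf_dvd_card' 2 h2dvd
    have hwC : ((w : H) : G) ∈ C := Subgroup.mem_subgroupOf.mp w.2
    have hw2 : ((w : H) : G) ^ 2 = 1 := by
      have h1 : w ^ 2 = 1 := by rw [← hw]; exact pow_orderOf_eq_one w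
      have h2 := congrArg (fun u : C.subgroupOf H => ((u : H) : G)) h1
      simpa using h2
    have hw1 : ((w : H) : G) ≠ 1 := by
      intro h1
      have : w = 1 := by
        apply Subtype.ext; apply Subtype.ext
        simpa using h1
      rw [this, orderOf_one] at hw
      omega
    have h3 := cyclic_sq_eq_one (A := C) (z := ⟨z, hzC⟩) (w := ⟨((w : H) : G), hwC⟩)
      (fun h => hz1 (congrArg Subtype.val h)) (Subtype.ext (by simpa using hzz))
      (Subtype.ext (by simpa using hw2))
    rcases h3 with h3 | h3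
    · exact absurd (congrArg Subtype.val h3) hw1
    · have : ((w : H) : G) = z := congrArg Subtype.val h3
      rw [← this]
      exact (w : H).2
  intro x hx
  have hxh : x * h = h * x := (Subgroup.mem_centralizer_iff.mp hx h hhH).symm
  by_cases hxC : x ∈ C
  · rcases claim1 x hxC hxh with rfl | rfl
    · exact H.one_mem
    · exact hzH
  · have hy : x * h⁻¹ ∈ C := by
      rw [Subgroup.mul_mem_iff_of_index_two hCi]
      exact ⟨fun h' => absurd h' hxC, fun h' => absurd (C.inv_mem_iff.mp h') hhC⟩
    have hyh : (x * h⁻¹) * h = h * (x * h⁻¹) := by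
      rw [inv_mul_cancel_right, ← mul_assoc, ← hxh, mul_inv_cancel_right]
    have e : x = (x * h⁻¹) * h := by group
    rcases claim1 _ hy hyh with h1 | h1
    · rw [e, h1, one_mul]; exact hhH
    · rw [e, h1]; exact H.mul_mem hzH hhH

/-- Say that a group has self-centralizing non-cyclic subgroups when every non-cyclic subgroup H satisfies C_G(H) ≤ H. A finite non-abelian 2-group G of order 2^n has self-centralizing non-cyclic subgroups if and only if G has nilpotency class n − 1 (that is, G is dihedral, semidihedral or generalized quaternion). -/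
theorem result {G : Type*} [Group G] [Finite G] (hna : ¬ IsMulCommutative G) (n : ℕ) (hG : Nat.card G = 2 ^ n) :
    (∀ H : Subgroup G, ¬ IsCyclic ↥H → Subgroup.centralizer (H : Set G) ≤ H) ↔ (⊤ : Subgroup G).lowerCentralSeries (n - 2) ≠ ⊥ := by
  have hf : Fact (Nat.Prime 2) := ⟨Nat.prime_two⟩
  have hn : 3 ≤ n := by
    by_contra h
    exact hna (comm_of_card_le_sq (by omega) hG)
  have hle := Cfsg.Agent.S0063.aux 2 n (by omega) G hG
  have hG2 : IsPGroup 2 G := IsPGroup.of_card hG
  have hnil : Group.IsNilpotent G := hG2.isNilpotent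
  have hiff : (⊤ : Subgroup G).lowerCentralSeries (n - 2) ≠ ⊥ ↔ Group.nilpotencyClass G = n - 1 := by
    rw [Ne, Subgroup.lowerCentralSeries_eq_bot_iff_nilpotencyClass_le]
    omega
  rw [hiff]
  exact ⟨forward hna n hG, fun hc H hH => backward hna n hn hG hc H hH⟩

end Cfsg.Agent.S3919
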