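import Cfsg.Statements.S3920

set_option autoImplicit false
open Cfsg

namespace Cfsg.Agent.S3920

open DihedralGroup

/-- in `ZMod n` with `n` odd, `2 * x = 0` forces `x = 0` -/
theorem z0 (n : ℕ) [NeZero n] (hodd : Odd n) (x : ZMod n) (h : 2 * x = 0) : x = 0 := by
  have h1 : ((2 * x.val : ℕ) : ZMod n) = 0 := by
    push_cast
    rw [ZMod.natCast_zmod_val]; exact h
  rw [ZMod.natCast_eq_zero_iff] at h1
  have hcop : Nat.Coprime n 2 := (Nat.coprime_two_right).mpr hodd
  have h2 : n ∣ x.val := hcop.dvd_of_dvd_mul_left h1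
  have h3 : x.val < n := ZMod.val_lt x
  have h4 : x.val = 0 := Nat.eq_zero_of_dvd_of_lt h2 h3
  exact (ZMod.val_eq_zero x).mp h4

/-- in `ZMod (2^(e+1))`, `2 * x = 0` forces `x = 0` or `x = 2^e` -/
theorem z1 (e : ℕ) (x : ZMod (2 ^ (e + 1))) (h : 2 * x = 0) : x = 0 ∨ x = ((2 ^ e : ℕ) : ZMod (2 ^ (e + 1))) := by
  have : NeZero (2 ^ (e + 1)) := ⟨by positivity⟩
  have h1 : ((2 * x.val : ℕ) : ZMod (2 ^ (e + 1))) = 0 := by
    push_cast
    rw [ZMod.natCast_zmod_val]; exact h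
  rw [ZMod.natCast_eq_zero_iff] at h1
  have h2 : 2 ^ e ∣ x.val := by
    have e2 : 2 * 2 ^ e = 2 ^ (e + 1) := (pow_succ' 2 e).symm
    have h1' : 2 * 2 ^ e ∣ 2 * x.val := (dvd_of_eq e2).trans h1
    exact Nat.dvd_of_mul_dvd_mul_left (by norm_num) h1'
  obtain ⟨q, hq⟩ := h2
  have h3 : x.val < 2 ^ (e + 1) := ZMod.val_lt x
  have hq2 : q < 2 := by
    have e3 : 2 ^ (e + 1) = 2 ^ e * 2 := pow_succ 2 e
    by_contra hcon
    push Not at hcon
    have : 2 ^ e * 2 ≤ 2 ^ e * q := Nat.mul_le_mul_left _ hcon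
    omega
  have hx : x = ((x.val : ℕ) : ZMod (2 ^ (e + 1))) := (ZMod.natCast_zmod_val x).symm
  interval_cases q
  · left
    rw [hx, hq]; simp
  · right
    rw [hx, hq]; simp

/-- in `ZMod (2^(e+1))`, a nonzero `j` has a multiple equal to `2^e` -/
theorem z2 (e : ℕ) (j : ZMod (2 ^ (e + 1))) (hj : j ≠ 0) :
    ∃ t : ℕ, j * (t : ZMod (2 ^ (e + 1))) = ((2 ^ e : ℕ) : ZMod (2 ^ (e + 1))) := by
  classical
  have hex : ∃ s : ℕ, j * ((2 ^ s : ℕ) : ZMod (2 ^ (e + 1))) = 0 := by
    refine ⟨e + 1, ?_⟩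
    rw [ZMod.natCast_self, mul_zero]
  set s := Nat.find hex with hs
  have hs0 : j * ((2 ^ s : ℕ) : ZMod (2 ^ (e + 1))) = 0 := Nat.find_spec hex
  have hsne : s ≠ 0 := by
    intro h0
    rw [h0] at hs0
    simp at hs0
    exact hj hs0
  obtain ⟨s', hs'⟩ := Nat.exists_eq_succ_of_ne_zero hsne
  have hmin : ¬ (j * ((2 ^ s' : ℕ) : ZMod (2 ^ (e + 1))) = 0) := by
    apply Nat.find_min hex
    rw [← hs, hs']; exact Nat.lt_succ_self _
  refine ⟨2 ^ s', ?_⟩
  have h2 : 2 * (j * ((2 ^ s' : ℕ) : ZMod (2 ^ (e + 1)))) = 0 := by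
    have hs1 : j * ((2 ^ (s' + 1) : ℕ) : ZMod (2 ^ (e + 1))) = 0 := by
      have : s = s' + 1 := hs'
      rw [← this]; exact hs0
    calc 2 * (j * ((2 ^ s' : ℕ) : ZMod (2 ^ (e + 1))))
        = j * ((2 ^ (s' + 1) : ℕ) : ZMod (2 ^ (e + 1))) := by push_cast; ring
      _ = 0 := hs1
  rcases z1 e _ h2 with h | h
  · exact absurd h hmin
  · exact h

/-- the subgroup of `DihedralGroup n` attached to an additive subgroup of `ZMod n` -/
def dsub (n : ℕ) (D : AddSubgroup (ZMod n)) : Subgroup (DihedralGroup n) where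
  carrier := {g | match g with
    | r i => i ∈ D
    | sr i => i ∈ D}
  mul_mem' := by
    rintro (a | a) (b | b) ha hb
    · exact D.add_mem ha hb
    · exact D.sub_mem hb ha
    · exact D.add_mem ha hb
    · exact D.sub_mem hb ha
  one_mem' := D.zero_mem
  inv_mem' := by
    rintro (a | a) ha
    · exact D.neg_mem ha
    · exact ha

theorem r_mem_dsub (n : ℕ) (D : AddSubgroup (ZMod n)) (i : ZMod n) : r i ∈ dsub n D ↔ i ∈ D := Iff.rfl
theorem sr_mem_dsub (n : ℕ) (D : AddSubgroup (ZMod n)) (i : ZMod n) : sr i ∈ dsub n D ↔ i ∈ D := Iff.rfl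

/-- a subgroup consisting of rotations is cyclic -/
theorem cyclic_of_rot (n : ℕ) (H : Subgroup (DihedralGroup n)) (h : ∀ i, sr i ∉ H) : IsCyclic H := by
  let ρ : Multiplicative (ZMod n) →* DihedralGroup n :=
    { toFun := fun i => r (Multiplicative.toAdd i)
      map_one' := rfl
      map_mul' := fun a b => by simp }
  have hle : H ≤ ρ.range := by
    intro g hg
    rcases g with i | i
    · exact ⟨Multiplicative.ofAdd i, rfl⟩
    · exact absurd hg (h i)
  have hmap : (H.comap ρ).map ρ = H := by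
    rw [Subgroup.map_comap_eq, inf_eq_right.mpr hle]
  have hc : IsCyclic (H.comap ρ) := inferInstance
  have hc2 : IsCyclic ((H.comap ρ).map ρ) :=
    isCyclic_of_surjective ((ρ.subgroupMap (H.comap ρ))) (ρ.subgroupMap_surjective (H.comap ρ))
  rw [hmap] at hc2
  exact hc2

theorem forward (n : ℕ) (hn : 3 ≤ n) (hor : Odd n ∨ ∃ k : ℕ, n = 2 ^ k)
    (H : Subgroup (DihedralGroup n)) (hH : ¬ IsCyclic H) :
    Subgroup.centralizer (H : Set (DihedralGroup n)) ≤ H := by
  have : NeZero n := ⟨by omega⟩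
  -- H contains a reflection
  have h1 : ∃ i, sr i ∈ H := by
    by_contra hcon
    push Not at hcon
    exact hH (cyclic_of_rot n H hcon)
  obtain ⟨i, hi⟩ := h1
  -- H contains a nontrivial rotation
  have h2 : ∃ j, j ≠ 0 ∧ r j ∈ H := by
    by_contra hcon
    push Not at hcon
    apply hH
    have hHeq : H = Subgroup.zpowers (sr i) := by
      apply le_antisymm
      · intro x hx
        rcases x with j | i'
        · by_cases hj : j = 0
          · rw [hj]; exact Subgroup.one_mem _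
          · exact absurd hx (hcon j hj)
        · have hmul : sr i * sr i' ∈ H := H.mul_mem hi hx
          rw [sr_mul_sr] at hmul
          by_cases hii : i' - i = 0
          · have : i' = i := sub_eq_zero.mp hii
            rw [this]; exact Subgroup.mem_zpowers _
          · exact absurd hmul (hcon _ hii)
      · exact Subgroup.zpowers_le.mpr hi
    rw [hHeq]
    infer_instance
  obtain ⟨j, hj0, hj⟩ := h2
  intro g hg
  rw [Subgroup.mem_centralizer_iff] at hg
  have hg1 := hg (sr i) hi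
  have hg2 := hg (r j) hj
  rcases g with k | k
  · -- g = r k
    rw [sr_mul_r, r_mul_sr] at hg1
    have hk2 : 2 * k = 0 := by
      have h := DihedralGroup.sr.inj hg1
      have : (i + k) - (i - k) = 0 := sub_eq_zero.mpr h
      ring_nf at this
      rw [mul_comm]; exact this
    rcases hor with hodd | ⟨e, he⟩
    · have := z0 n hodd k hk2
      rw [this]; exact H.one_mem
    · subst he
      rcases e with _ | e
      · simp at hn
      rcases z1 e k hk2 with h | h
      · rw [h]; exact H.one_mem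
      · obtain ⟨t, ht⟩ := z2 e j hj0
        rw [h, ← ht, ← r_pow]
        exact H.pow_mem hj t
  · -- g = sr k
    rw [r_mul_sr, sr_mul_r] at hg2
    rw [sr_mul_sr, sr_mul_sr] at hg1
    have hj2 : 2 * j = 0 := by
      have h := DihedralGroup.sr.inj hg2
      have : (k + j) - (k - j) = 0 := sub_eq_zero.mpr h.symm
      ring_nf at this
      rw [mul_comm]; exact this
    have hki : 2 * (k - i) = 0 := by
      have h := DihedralGroup.r.inj hg1
      have : (k - i) - (i - k) = 0 := sub_eq_zero.mpr h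
      ring_nf at this
      ring_nf
      exact this
    rcases hor with hodd | ⟨e, he⟩
    · exact absurd (z0 n hodd j hj2) hj0
    · subst he
      rcases e with _ | e
      · simp at hn
      have hjh : j = ((2 ^ e : ℕ) : ZMod (2 ^ (e + 1))) := (z1 e j hj2).resolve_left hj0
      rcases z1 e (k - i) hki with h | h
      · have : k = i := sub_eq_zero.mp h
        rw [this]; exact hi
      · have hk : k = i + j := by rw [hjh, ← h]; ring
        rw [hk, ← sr_mul_r]
        exact H.mul_mem hi hj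

theorem backward (n : ℕ) (hn : 3 ≤ n)
    (hX : ∀ H : Subgroup (DihedralGroup n), ¬ IsCyclic ↥H → Subgroup.centralizer (H : Set (DihedralGroup n)) ≤ H) :
    Odd n ∨ ∃ k : ℕ, n = 2 ^ k := by
  have : NeZero n := ⟨by omega⟩
  by_contra hcon
  push Not at hcon
  obtain ⟨hnodd, hnpow⟩ := hcon
  have hn0 : n ≠ 0 := by omega
  obtain ⟨a, m, hm, hnam⟩ := Nat.exists_eq_two_pow_mul_odd hn0
  have ha : a ≠ 0 := by
    intro h0
    rw [h0, pow_zero, one_mul] at hnam
    exact hnodd (hnam ▸ hm)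
  have hm1 : m ≠ 1 := by
    intro h1
    rw [h1, mul_one] at hnam
    exact hnpow a hnam
  have hm3 : 3 ≤ m := by
    obtain ⟨q, hq⟩ := hm
    omega
  obtain ⟨b, rfl⟩ : ∃ b, a = b + 1 := Nat.exists_eq_succ_of_ne_zero ha
  -- n = 2^(b+1) * m, half = 2^b * m
  set D : AddSubgroup (ZMod n) := AddSubgroup.zmultiples ((2 ^ (b + 1) : ℕ) : ZMod n) with hD
  set H := dsub n D with hHdef
  have hdD : ((2 ^ (b + 1) : ℕ) : ZMod n) ∈ D := AddSubgroup.mem_zmultiples _
  -- H is not cyclic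
  have hHnc : ¬ IsCyclic H := by
    intro hc
    have hcomm : ∀ x y : H, x * y = y * x := by
      intro x y
      obtain ⟨g, hg⟩ := hc.exists_generator
      obtain ⟨s, rfl⟩ := Subgroup.mem_zpowers_iff.mp (hg x)
      obtain ⟨t, rfl⟩ := Subgroup.mem_zpowers_iff.mp (hg y)
      rw [← zpow_add, ← zpow_add, add_comm]
    have h1 : sr (0 : ZMod n) ∈ H := (sr_mem_dsub n D 0).mpr D.zero_mem
    have h2 : r ((2 ^ (b + 1) : ℕ) : ZMod n) ∈ H := (r_mem_dsub n D _).mpr hdD
    have h3 := congrArg Subtype.val (hcomm ⟨_, h1⟩ ⟨_, h2⟩)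
    simp only [Subgroup.coe_mul, sr_mul_r, r_mul_sr, zero_add, zero_sub] at h3
    have h4 := DihedralGroup.sr.inj h3
    have h5 : ((2 * 2 ^ (b + 1) : ℕ) : ZMod n) = 0 := by
      have : ((2 ^ (b + 1) : ℕ) : ZMod n) - (-((2 ^ (b + 1) : ℕ) : ZMod n)) = 0 := sub_eq_zero.mpr h4
      calc ((2 * 2 ^ (b + 1) : ℕ) : ZMod n)
          = ((2 ^ (b + 1) : ℕ) : ZMod n) - (-((2 ^ (b + 1) : ℕ) : ZMod n)) := by push_cast; ring
        _ = 0 := this
    rw [ZMod.natCast_eq_zero_iff] at h5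
    have h6 : m ∣ 2 := by
      have : 2 ^ (b + 1) * m ∣ 2 ^ (b + 1) * 2 := by
        rw [mul_comm (2 ^ (b + 1)) 2, ← hnam]; exact h5
      exact Nat.dvd_of_mul_dvd_mul_left (by positivity) this
    have := Nat.le_of_dvd (by norm_num) h6
    omega
  have hcent := hX H hHnc
  -- c = r (n/2)
  set c : ZMod n := ((2 ^ b * m : ℕ) : ZMod n) with hc
  have h2c : 2 * c = 0 := by
    have hnat : 2 * (2 ^ b * m) = n := by rw [hnam, pow_succ]; ring
    calc 2 * c = ((2 * (2 ^ b * m) : ℕ) : ZMod n) := by rw [hc]; push_cast; ring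
      _ = ((n : ℕ) : ZMod n) := by rw [hnat]
      _ = 0 := ZMod.natCast_self n
  have hcc : r c ∈ Subgroup.centralizer (H : Set (DihedralGroup n)) := by
    rw [Subgroup.mem_centralizer_iff]
    rintro (x | x) _
    · simp [add_comm]
    · simp only [sr_mul_r, r_mul_sr]
      congr 1
      have : (x + c) - (x - c) = 0 := by ring_nf; rw [mul_comm]; exact h2c
      exact sub_eq_zero.mp this
  have hcH : r c ∈ H := hcent hcc
  rw [hHdef, r_mem_dsub, hD, AddSubgroup.mem_zmultiples_iff] at hcH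
  obtain ⟨k, hk⟩ := hcH
  -- k • d = c in ZMod n
  have hk' : ((k * ((2 ^ (b + 1) : ℕ) : ℤ) - ((2 ^ b * m : ℕ) : ℤ) : ℤ) : ZMod n) = 0 := by
    rw [zsmul_eq_mul, hc] at hk
    push_cast at hk ⊢
    rw [hk]; ring
  rw [ZMod.intCast_zmod_eq_zero_iff_dvd] at hk'
  have hdn : (((2 ^ (b + 1) : ℕ) : ℤ)) ∣ (n : ℤ) := by
    have : (2 ^ (b + 1) : ℕ) ∣ n := Dvd.intro _ hnam.symm
    exact_mod_cast this
  have h7 := hdn.trans hk'
  have h8 : (((2 ^ (b + 1) : ℕ) : ℤ)) ∣ ((2 ^ b * m : ℕ) : ℤ) := by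
    have h9 : (((2 ^ (b + 1) : ℕ) : ℤ)) ∣ k * ((2 ^ (b + 1) : ℕ) : ℤ) := Dvd.intro_left _ rfl
    exact (Int.dvd_iff_dvd_of_dvd_sub h7).mp h9
  have h10 : 2 ^ (b + 1) ∣ 2 ^ b * m := by exact_mod_cast h8
  rw [pow_succ] at h10
  have h11 : 2 ∣ m := Nat.dvd_of_mul_dvd_mul_left (by positivity) h10
  obtain ⟨q, hq⟩ := hm
  omega

/-- Say that a group has self-centralizing non-cyclic subgroups when every non-cyclic subgroup H satisfies C_G(H) ≤ H. For n ≥ 3, the dihedral group of order 2n has self-centralizing non-cyclic subgroups if and only if n is odd or a power of 2. -/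
theorem result (n : ℕ) (hn : 3 ≤ n) : (∀ H : Subgroup (DihedralGroup n), ¬ IsCyclic ↥H → Subgroup.centralizer (H : Set (DihedralGroup n)) ≤ H) ↔ (Odd n ∨ ∃ k : ℕ, n = 2 ^ k) := by
  exact ⟨backward n hn, fun hor H hH => forward n hn hor H hH⟩

end Cfsg.Agent.S3920
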