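import Cfsg.Statements.S3927
import Cfsg.Agent.Lib.Helper72.EngelGen

set_option autoImplicit false
open Cfsg

namespace Cfsg.Agent.S3927

open Cfsg.Agent.Lib.Helper72

section semi

variable {G : Type*} [Group G] (α : MulAut G)

/-- The map `c ↦ c * (α c)⁻¹`. -/
def gam (c : G) : G := c * (α c)⁻¹

/-- Automorphisms commuting with `α` commute with `gam α`. -/
theorem gam_comm (β : MulAut G) (h : β * α = α * β) (c : G) : β (gam α c) = gam α (β c) := by
  unfold gam
  rw [map_mul, map_inv]
  have : β (α c) = α (β c) := by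
    have := congrArg (fun f : MulAut G => f c) h
    simpa using this
  rw [this]

theorem gam_iterate_comm (β : MulAut G) (h : β * α = α * β) (k : ℕ) (c : G) :
    β ((gam α)^[k] c) = (gam α)^[k] (β c) := by
  induction k generalizing c with
  | zero => rfl
  | succ k ih =>
    rw [Function.iterate_succ_apply, Function.iterate_succ_apply, ih, gam_comm α β h]

theorem closure_range_gam_invariant (β : MulAut G) (h : β * α = α * β) (k : ℕ) (x : G)
    (hx : x ∈ Subgroup.closure (Set.range ((gam α)^[k]))) :
    β x ∈ Subgroup.closure (Set.range ((gam α)^[k])) := by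
  have hmap : (Subgroup.closure (Set.range ((gam α)^[k]))).map β.toMonoidHom ≤
      Subgroup.closure (Set.range ((gam α)^[k])) := by
    rw [MonoidHom.map_closure, Subgroup.closure_le]
    rintro _ ⟨_, ⟨c, rfl⟩, rfl⟩
    apply Subgroup.subset_closure
    refine ⟨β c, ?_⟩
    exact (gam_iterate_comm α β h k c).symm
  exact hmap (Subgroup.mem_map_of_mem _ hx)

end semi

section main

variable {G : Type*} [Group G] (α : MulAut G)

theorem zpowers_comm (z : ↥(Subgroup.zpowers α)) : (z : MulAut G) * α = α * (z : MulAut G) := by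
  obtain ⟨n, hn⟩ := Subgroup.mem_zpowers_iff.mp z.2
  rw [← hn]
  exact ((Commute.refl α).zpow_left n).eq

theorem result_aux [Finite G] (hG : Subgroup.closure (Set.range (gam α)) = ⊤) (j : ℕ) :
    Subgroup.closure (Set.range ((gam α)^[j + 1])) = ⊤ := by
  obtain ⟨Z, hZ⟩ : ∃ Z : Subgroup (MulAut G), Z = Subgroup.zpowers α := ⟨_, rfl⟩
  have hZc : ∀ z : ↥Z, (z : MulAut G) * α = α * (z : MulAut G) := by
    subst hZ
    exact zpowers_comm α
  have hαZ : α ∈ Z := by
    subst hZ
    exact Subgroup.mem_zpowers α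
  have hZpow : ∀ z : ↥Z, ∃ n : ℤ, (⟨α, hαZ⟩ : ↥Z) ^ n = z := by
    intro z
    have hz : (z : MulAut G) ∈ Subgroup.zpowers α := by
      rw [← hZ]
      exact z.2
    obtain ⟨n, hn⟩ := Subgroup.mem_zpowers_iff.mp hz
    refine ⟨n, ?_⟩
    apply Subtype.ext
    rw [Subgroup.coe_zpow]
    exact hn
  obtain ⟨a0, ha0⟩ : ∃ a0 : ↥Z, a0 = ⟨α, hαZ⟩ := ⟨_, rfl⟩
  have ha0α : (a0 : MulAut G) = α := by rw [ha0]
  have : Finite (G ⋊[Z.subtype] ↥Z) := Finite.of_equiv _ SemidirectProduct.equivProd.symm
  obtain ⟨a, ha⟩ : ∃ a : G ⋊[Z.subtype] ↥Z, a = SemidirectProduct.inr a0 := ⟨_, rfl⟩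
  -- conjugation formulas
  have hconj : ∀ x : G, (SemidirectProduct.inl x : G ⋊[Z.subtype] ↥Z) * a *
      (SemidirectProduct.inl x)⁻¹ = SemidirectProduct.inl (gam α x) * a := by
    intro x
    have h1 : a * (SemidirectProduct.inl x⁻¹ : G ⋊[Z.subtype] ↥Z) * a⁻¹ =
        SemidirectProduct.inl (α x⁻¹) := by
      rw [ha, ← map_inv, ← SemidirectProduct.inl_aut]
      simp [ha0α]
    have h2 : (SemidirectProduct.inl x : G ⋊[Z.subtype] ↥Z) * a *
        (SemidirectProduct.inl x)⁻¹ = SemidirectProduct.inl x *
          (a * (SemidirectProduct.inl x⁻¹ : G ⋊[Z.subtype] ↥Z) * a⁻¹) * a := by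
      rw [map_inv]
      group
    rw [h2, h1, ← map_mul]
    unfold gam
    rw [map_inv]
  have hstep : ∀ x : G, conjOn a ((SemidirectProduct.inl x : G ⋊[Z.subtype] ↥Z) * a) =
      SemidirectProduct.inl (gam α x) * a := by
    intro x
    rw [← hconj x]
    unfold conjOn
    group
  have hinr : ∀ z : ↥Z, (SemidirectProduct.inr z : G ⋊[Z.subtype] ↥Z) * a *
      (SemidirectProduct.inr z)⁻¹ = a := by
    intro z
    rw [ha, ← map_inv, ← map_mul, ← map_mul]
    congr 1
    have hc : z * a0 = a0 * z := by
      apply Subtype.ext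
      rw [Subgroup.coe_mul, Subgroup.coe_mul, ha0α]
      exact hZc z
    rw [hc, mul_inv_cancel_right]
  have hgen : ∀ g : G ⋊[Z.subtype] ↥Z, g * a * g⁻¹ = SemidirectProduct.inl (gam α g.left) * a := by
    intro g
    rw [← hconj g.left]
    conv_lhs => rw [← SemidirectProduct.inl_left_mul_inr_right g]
    rw [mul_inv_rev]
    have := hinr g.right
    calc SemidirectProduct.inl g.left * SemidirectProduct.inr g.right * a *
          ((SemidirectProduct.inr g.right)⁻¹ * (SemidirectProduct.inl g.left)⁻¹)
        = SemidirectProduct.inl g.left * (SemidirectProduct.inr g.right * a *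
          (SemidirectProduct.inr g.right)⁻¹) * (SemidirectProduct.inl g.left)⁻¹ := by group
      _ = _ := by rw [this]
  have hF : ∀ (i : ℕ) (g : G ⋊[Z.subtype] ↥Z), (conjOn a)^[i] (g * a * g⁻¹) =
      SemidirectProduct.inl ((gam α)^[i + 1] g.left) * a := by
    intro i
    induction i with
    | zero => intro g; exact hgen g
    | succ i ih =>
      intro g
      rw [Function.iterate_succ_apply', ih, hstep, ← Function.iterate_succ_apply' (gam α)]
  -- the normal closure of `a` is everything
  have hnc : Subgroup.normalClosure {a} = ⊤ := by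
    have haN : a ∈ Subgroup.normalClosure {a} :=
      Subgroup.subset_normalClosure (Set.mem_singleton a)
    have h1 : ∀ x : G, (SemidirectProduct.inl (gam α x) : G ⋊[Z.subtype] ↥Z) ∈
        Subgroup.normalClosure {a} := by
      intro x
      have h2 : (SemidirectProduct.inl (gam α x) : G ⋊[Z.subtype] ↥Z) =
          (SemidirectProduct.inl x * a * (SemidirectProduct.inl x)⁻¹) * a⁻¹ := by
        rw [hconj x, mul_inv_cancel_right]
      rw [h2]
      exact mul_mem (Subgroup.normalClosure_normal.conj_mem a haN _) (inv_mem haN)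
    have h2 : ∀ y : G, (SemidirectProduct.inl y : G ⋊[Z.subtype] ↥Z) ∈
        Subgroup.normalClosure {a} := by
      have hle : Subgroup.closure (Set.range (gam α)) ≤
          (Subgroup.normalClosure {a}).comap (SemidirectProduct.inl : G →* G ⋊[Z.subtype] ↥Z) := by
        rw [Subgroup.closure_le]
        rintro _ ⟨x, rfl⟩
        exact h1 x
      intro y
      have : y ∈ Subgroup.closure (Set.range (gam α)) := by rw [hG]; trivial
      exact hle this
    have h3 : ∀ z : ↥Z, (SemidirectProduct.inr z : G ⋊[Z.subtype] ↥Z) ∈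
        Subgroup.normalClosure {a} := by
      intro z
      obtain ⟨n, hn⟩ := hZpow z
      rw [← hn, ← ha0, map_zpow, ← ha]
      exact zpow_mem haN n
    rw [eq_top_iff]
    intro g _
    rw [← SemidirectProduct.inl_left_mul_inr_right g]
    exact mul_mem (h2 _) (h3 _)
  have hmain := closure_iterConjSet_eq_top _ (G ⋊[Z.subtype] ↥Z) a rfl hnc j
  -- the subgroup of elements whose left component lies in `H`
  have hinv : ∀ (z : ↥Z) (x : G), x ∈ Subgroup.closure (Set.range ((gam α)^[j + 1])) →
      (Z.subtype z) x ∈ Subgroup.closure (Set.range ((gam α)^[j + 1])) := by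
    intro z x hx
    exact closure_range_gam_invariant α (Z.subtype z) (hZc z) (j + 1) x hx
  let Ht : Subgroup (G ⋊[Z.subtype] ↥Z) :=
    { carrier := {x | x.left ∈ Subgroup.closure (Set.range ((gam α)^[j + 1]))}
      mul_mem' := by
        intro x y hx hy
        change (x * y).left ∈ Subgroup.closure (Set.range ((gam α)^[j + 1]))
        rw [SemidirectProduct.mul_left]
        exact mul_mem hx (hinv _ _ hy)
      one_mem' := by
        change (1 : G ⋊[Z.subtype] ↥Z).left ∈ Subgroup.closure (Set.range ((gam α)^[j + 1]))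
        rw [SemidirectProduct.one_left]
        exact one_mem _
      inv_mem' := by
        intro x hx
        change (x⁻¹).left ∈ Subgroup.closure (Set.range ((gam α)^[j + 1]))
        rw [SemidirectProduct.inv_left]
        exact hinv _ _ (inv_mem hx) }
  have hle : (⊤ : Subgroup (G ⋊[Z.subtype] ↥Z)) ≤ Ht := by
    rw [← hmain, Subgroup.closure_le]
    rintro _ ⟨g, rfl⟩
    change ((conjOn a)^[j] (g * a * g⁻¹)).left ∈
      Subgroup.closure (Set.range ((gam α)^[j + 1]))
    rw [hF, ha]
    simp only [SemidirectProduct.mul_left, SemidirectProduct.left_inl,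
      SemidirectProduct.right_inl, map_one, SemidirectProduct.left_inr, mul_one]
    exact Subgroup.subset_closure ⟨_, rfl⟩
  rw [eq_top_iff]
  intro y _
  have : (SemidirectProduct.inl y : G ⋊[Z.subtype] ↥Z) ∈ Ht := hle trivial
  exact this

end main

/-- Let G be a finite group and α an automorphism of G with [G, α] = G, that is, the elements g·α(g)⁻¹ generate G. Then for every k ≥ 1 the iterated commutators [g, α, …, α] with k entries α — the values of the k-th iterate of the map c ↦ c·α(c)⁻¹ — also generate G. -/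
theorem result {G : Type*} [Group G] [Finite G] (α : MulAut G) (hG : Subgroup.closure (Set.range (fun c : G => c * (α c)⁻¹)) = ⊤) (k : ℕ) (hk : 1 ≤ k) :
    Subgroup.closure (Set.range ((fun c : G => c * (α c)⁻¹)^[k])) = ⊤ := by
  obtain ⟨j, rfl⟩ : ∃ j, k = j + 1 := ⟨k - 1, by omega⟩
  change Subgroup.closure (Set.range ((gam α)^[j + 1])) = ⊤
  have hG' : Subgroup.closure (Set.range (gam α)) = ⊤ := hG
  exact result_aux α hG' j

end Cfsg.Agent.S3927
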