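import Cfsg.Statements.S3937
import Cfsg.Agent.Lib.Helper22.Fitting
import Cfsg.Agent.Lib.Helper62.Subnormal
import Cfsg.Agent.Lib.Helper91.WielandtCriterion

set_option autoImplicit false
open Cfsg

namespace Cfsg.Agent.S3937

universe u

open scoped commutatorElement IsMulCommutative

/-- the commutator map `a ↦ [a, g]` -/
def engF {G : Type*} [Group G] (g : G) (a : G) : G := a * g * a⁻¹ * g⁻¹

theorem foldl_eq_iterate {G : Type*} [Group G] (g : G) (n : ℕ) (x : G) :
    (List.replicate n g).foldl (fun a b => a * b * a⁻¹ * b⁻¹) x = (engF g)^[n] x := by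
  induction n generalizing x with
  | zero => rfl
  | succ n ih =>
    rw [List.replicate_succ, List.foldl_cons, ih, Function.iterate_succ_apply]
    rfl

/-- left Engel element -/
def IsEngel {G : Type*} [Group G] (g : G) : Prop := ∀ x : G, ∃ n : ℕ, (engF g)^[n] x = 1

theorem coe_iterate {G : Type*} [Group G] (H : Subgroup G) (g : G) (hg : g ∈ H) (n : ℕ) (x : H) :
    (((engF (⟨g, hg⟩ : H))^[n] x : H) : G) = (engF g)^[n] (x : G) := by
  induction n with
  | zero => rfl
  | succ n ih =>
    rw [Function.iterate_succ_apply', Function.iterate_succ_apply', ← ih]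
    rfl

theorem IsEngel.subgroup {G : Type*} [Group G] {g : G} (h : IsEngel g) (H : Subgroup G)
    (hg : g ∈ H) : IsEngel (⟨g, hg⟩ : H) := by
  intro x
  obtain ⟨n, hn⟩ := h (x : G)
  refine ⟨n, Subtype.ext ?_⟩
  rw [coe_iterate, hn]
  rfl

theorem zpowers_subgroupOf {G : Type*} [Group G] (V : Subgroup G) (g : G) (hg : g ∈ V) :
    (Subgroup.zpowers g).subgroupOf V = Subgroup.zpowers (⟨g, hg⟩ : V) := by
  ext x
  rw [Subgroup.mem_subgroupOf, Subgroup.mem_zpowers_iff, Subgroup.mem_zpowers_iff]
  constructor
  · rintro ⟨k, hk⟩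
    exact ⟨k, Subtype.ext (by rw [Subgroup.coe_zpow]; exact hk)⟩
  · rintro ⟨k, hk⟩
    refine ⟨k, ?_⟩
    rw [← hk, Subgroup.coe_zpow]

theorem card_lt_of_ne_top {G : Type*} [Group G] [Finite G] {K : Subgroup G} (hK : K ≠ ⊤) :
    Nat.card K < Nat.card G := by
  have h1 : Nat.card K * K.index = Nat.card G := K.card_mul_index
  have h2 : K.index ≠ 1 := fun h => hK (Subgroup.index_eq_one.1 h)
  have h3 : K.index ≠ 0 := Subgroup.index_ne_zero_of_finite
  have h4 : 0 < Nat.card K := Nat.card_pos
  have h5 : 2 ≤ K.index := by omega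
  nlinarith

theorem engel_subnormal_aux : ∀ (n : ℕ) (G : Type u) [Group G] [Finite G], Nat.card G = n →
    ∀ g : G, IsEngel g → (Subgroup.zpowers g).IsSubnormal := by
  intro n
  induction n using Nat.strong_induction_on with
  | _ n ih =>
  intro G _ _ hn g hg
  by_contra hA
  have hprop : ∀ V : Subgroup G, Subgroup.zpowers g ≤ V → V ≠ ⊤ →
      ((Subgroup.zpowers g).subgroupOf V).IsSubnormal := by
    intro V hgV hV
    have hgV' : g ∈ V := hgV (Subgroup.mem_zpowers g)
    have hlt : Nat.card V < n := by
      rw [← hn]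
      exact card_lt_of_ne_top hV
    rw [zpowers_subgroupOf V g hgV']
    exact ih (Nat.card V) hlt V rfl ⟨g, hgV'⟩ (hg.subgroup V hgV')
  obtain ⟨M, hAM, hMtop, hMmax⟩ := Cfsg.Agent.Lib.Helper91.zipper_lemma (Subgroup.zpowers g) hprop hA
  have hgM : g ∈ M := hAM (Subgroup.mem_zpowers g)
  -- the normalizer of M is M
  have hnorm : Subgroup.normalizer (M : Set G) ≤ M := by
    apply hMmax _ (hAM.trans Subgroup.le_normalizer)
    intro htop
    have hMn : M.Normal := Subgroup.normalizer_eq_top_iff.mp htop
    exact hA (Subgroup.IsSubnormal.trans hAM (hprop M hAM hMtop) hMn.isSubnormal)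
  -- key
  have key : ∀ c : G, c * g * c⁻¹ ∈ M → c ∈ M := by
    intro c hc
    set V : Subgroup G := M.comap (MulAut.conj c).toMonoidHom with hV
    have hmemV : ∀ y : G, y ∈ V ↔ c * y * c⁻¹ ∈ M := by
      intro y
      rw [hV, Subgroup.mem_comap]
      rfl
    have hgV : Subgroup.zpowers g ≤ V := by
      rw [Subgroup.zpowers_le]
      exact (hmemV g).mpr hc
    have hVtop : V ≠ ⊤ := by
      intro h
      apply hMtop
      rw [eq_top_iff]
      intro y _
      have h1 : c⁻¹ * y * c ∈ V := by rw [h]; exact Subgroup.mem_top _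
      have h2 := (hmemV _).mp h1
      have h3 : c * (c⁻¹ * y * c) * c⁻¹ = y := by group
      rw [h3] at h2
      exact h2
    have hVM : V ≤ M := hMmax V hgV hVtop
    have hcard : Nat.card V = Nat.card M := by
      have h1 : V.map (MulAut.conj c).toMonoidHom = M := by
        rw [hV]
        exact Subgroup.map_comap_eq_self_of_surjective (MulAut.conj c).surjective M
      rw [← h1]
      exact (Subgroup.card_map_of_injective (MulAut.conj c).injective).symm
    have hVeq : V = M := Subgroup.eq_of_le_of_card_ge hVM (by rw [hcard])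
    apply hnorm
    rw [Subgroup.mem_normalizer_iff]
    intro y
    constructor
    · intro hy
      have : y ∈ V := by rw [hVeq]; exact hy
      exact (hmemV y).mp this
    · intro hy
      have : y ∈ V := (hmemV y).mpr hy
      rw [hVeq] at this
      exact this
  have hall : ∀ (k : ℕ) (x : G), (engF g)^[k] x ∈ M → x ∈ M := by
    intro k
    induction k with
    | zero => intro x hx; exact hx
    | succ k ihk =>
      intro x hx
      rw [Function.iterate_succ_apply] at hx
      have h1 : engF g x ∈ M := ihk _ hx
      have h2 : x * g * x⁻¹ ∈ M := by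
        have := Subgroup.mul_mem _ h1 hgM
        unfold engF at this
        rw [inv_mul_cancel_right] at this
        exact this
      exact key x h2
  apply hMtop
  rw [eq_top_iff]
  intro x _
  obtain ⟨k, hk⟩ := hg x
  exact hall k x (by rw [hk]; exact Subgroup.one_mem _)

theorem engel_subnormal {G : Type u} [Group G] [Finite G] (g : G) (hg : IsEngel g) :
    (Subgroup.zpowers g).IsSubnormal :=
  engel_subnormal_aux (Nat.card G) G rfl g hg

/-- Baer's characterization of the Fitting subgroup: in a finite group G, an element g lies in the Fitting subgroup if and only if g is a left Engel element, that is, for every x there is n with [x, g, g, …, g] = 1 (n entries g, [a, b] = aba⁻¹b⁻¹). -/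
theorem result {G : Type*} [Group G] [Finite G] (g : G) :
    g ∈ Cfsg.fittingSubgroup G ↔ ∀ x : G, ∃ n : ℕ, (List.replicate n g).foldl (fun a b => a * b * a⁻¹ * b⁻¹) x = 1 := by
  simp only [foldl_eq_iterate]
  constructor
  · intro hgF x
    have hFn : (Cfsg.fittingSubgroup G).Normal := Cfsg.Agent.Lib.Helper22.fittingSubgroup_normal G
    have hnil : Group.IsNilpotent (Cfsg.fittingSubgroup G) :=
      Cfsg.Agent.Lib.Helper22.fittingSubgroup_isNilpotent
    obtain ⟨m, hm⟩ := (Subgroup.isNilpotent_iff_lowerCentralSeries (Cfsg.fittingSubgroup G)).mp hnil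
    have h1 : engF g x ∈ Cfsg.fittingSubgroup G := by
      unfold engF
      exact Subgroup.mul_mem _ (hFn.conj_mem g hgF x) (Subgroup.inv_mem _ hgF)
    have hstep : ∀ k : ℕ, (engF g)^[k + 1] x ∈ (Cfsg.fittingSubgroup G).lowerCentralSeries k := by
      intro k
      induction k with
      | zero => exact h1
      | succ k ihk =>
        rw [Function.iterate_succ_apply', Subgroup.lowerCentralSeries_succ]
        exact Subgroup.commutator_mem_commutator ihk hgF
    have h2 := hstep m
    rw [hm, Subgroup.mem_bot] at h2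
    exact ⟨m + 1, h2⟩
  · intro h
    have hsub := engel_subnormal g h
    have hnil : Group.IsNilpotent (Subgroup.zpowers g) := CommGroup.isNilpotent
    exact Cfsg.Agent.Lib.Helper62.subnormal_nilpotent_le_fitting hsub hnil (Subgroup.mem_zpowers g)

end Cfsg.Agent.S3937
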