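import Cfsg.Statements.S3939
import Cfsg.Agent.S0067
import Cfsg.Agent.Lib.Helper32.PGroupCenter
import Cfsg.Agent.Lib.Helper35.HallFusion
import Cfsg.Agent.Lib.Helper22.Fitting
import Cfsg.Agent.Lib.Helper62.Subnormal

set_option autoImplicit false
open Cfsg

namespace Cfsg.Agent.S3939

universe u

open scoped commutatorElement

/-- subgroups of nilpotent subgroups are nilpotent -/
theorem isNilpotent_of_le {G : Type*} [Group G] {K H : Subgroup G} (hKH : K ≤ H)
    (hH : Group.IsNilpotent H) : Group.IsNilpotent K :=
  Group.nilpotent_of_mulEquiv (Subgroup.subgroupOfEquivOfLe hKH)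

/-- the property of the statement -/
def NilEl {G : Type*} [Group G] (g : G) : Prop :=
  ∀ x : G, Group.IsNilpotent ↥(Subgroup.closure ({x, g} : Set G))

theorem NilEl.pow {G : Type*} [Group G] {g : G} (h : NilEl g) (m : ℕ) : NilEl (g ^ m) := by
  intro x
  have hle : Subgroup.closure ({x, g ^ m} : Set G) ≤ Subgroup.closure ({x, g} : Set G) := by
    rw [Subgroup.closure_le]
    rintro y (rfl | rfl)
    · exact Subgroup.subset_closure (Set.mem_insert _ _)
    · have hg : g ∈ Subgroup.closure ({x, g} : Set G) :=
        Subgroup.subset_closure (Set.mem_insert_of_mem _ rfl)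
      exact Subgroup.pow_mem (Subgroup.closure ({x, g} : Set G)) hg m
  exact isNilpotent_of_le (K := Subgroup.closure ({x, g ^ m} : Set G))
    (H := Subgroup.closure ({x, g} : Set G)) hle (h x)

theorem NilEl.map {G Q : Type*} [Group G] [Group Q] {g : G} (h : NilEl g) (φ : G →* Q)
    (hφ : Function.Surjective φ) : NilEl (φ g) := by
  intro y
  obtain ⟨x, rfl⟩ := hφ y
  have h1 : Subgroup.closure ({φ x, φ g} : Set Q) = (Subgroup.closure ({x, g} : Set G)).map φ := by
    rw [MonoidHom.map_closure, Set.image_pair]
  rw [h1]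
  have := h x
  exact Group.nilpotent_of_surjective (φ.subgroupMap (Subgroup.closure ({x, g} : Set G)))
    (φ.subgroupMap_surjective _)

/-- hypercentral elements generate nilpotent subgroups with any other element -/
theorem nilEl_of_mem {G : Type*} [Group G] (g : G) (n : ℕ)
    (hg : g ∈ Subgroup.upperCentralSeries G n) : NilEl g := by
  intro x
  set H : Subgroup G := Subgroup.closure ({x, g} : Set G) with hH
  have hA1 : ∀ k : ℕ, (Subgroup.upperCentralSeries G k).subgroupOf H ≤
      Subgroup.upperCentralSeries H k := by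
    intro k
    induction k with
    | zero =>
      rw [Subgroup.upperCentralSeries_zero, Subgroup.upperCentralSeries_zero,
        Subgroup.bot_subgroupOf]
    | succ k ih =>
      intro h hh
      rw [Subgroup.mem_upperCentralSeries_succ_iff]
      intro y
      apply ih
      rw [Subgroup.mem_subgroupOf]
      have := Subgroup.mem_upperCentralSeries_succ_iff.mp (Subgroup.mem_subgroupOf.mp hh) (y : G)
      exact this
  have hxH : x ∈ H := Subgroup.subset_closure (Set.mem_insert _ _)
  have hgH : g ∈ H := Subgroup.subset_closure (Set.mem_insert_of_mem _ rfl)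
  have hg' : (⟨g, hgH⟩ : H) ∈ Subgroup.upperCentralSeries H n :=
    hA1 n (Subgroup.mem_subgroupOf.mpr hg)
  set Z : Subgroup H := Subgroup.upperCentralSeries H n with hZ
  have hZn : Z.Normal := inferInstance
  let mk := QuotientGroup.mk' Z
  -- the quotient is generated by the image of x
  have hcyc : ∀ h : H, mk h ∈ Subgroup.zpowers (mk ⟨x, hxH⟩) := by
    intro h
    have htop : h ∈ Subgroup.closure (((↑) : H → G) ⁻¹' ({x, g} : Set G)) := by
      have h0 : Subgroup.closure (((↑) : Subgroup.closure ({x, g} : Set G) → G) ⁻¹'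
          ({x, g} : Set G)) = ⊤ := Subgroup.closure_closure_coe_preimage
      show h ∈ Subgroup.closure (((↑) : Subgroup.closure ({x, g} : Set G) → G) ⁻¹'
          ({x, g} : Set G))
      rw [h0]
      exact Subgroup.mem_top _
    induction htop using Subgroup.closure_induction with
    | mem y hy =>
      rcases hy with hy | hy
      · have : y = ⟨x, hxH⟩ := Subtype.ext hy
        rw [this]
        exact Subgroup.mem_zpowers _
      · have : y = ⟨g, hgH⟩ := Subtype.ext hy
        rw [this]
        have h1 : mk ⟨g, hgH⟩ = 1 := (QuotientGroup.eq_one_iff _).mpr hg'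
        rw [h1]
        exact Subgroup.one_mem _
    | one => rw [map_one]; exact Subgroup.one_mem _
    | mul a b _ _ ha hb => rw [map_mul]; exact Subgroup.mul_mem _ ha hb
    | inv a _ ha => rw [map_inv]; exact Subgroup.inv_mem _ ha
  have htop : Subgroup.upperCentralSeries H (n + 1) = ⊤ := by
    rw [eq_top_iff]
    intro h _
    rw [Subgroup.mem_upperCentralSeries_succ_iff]
    intro y
    obtain ⟨i, hi⟩ := Subgroup.mem_zpowers_iff.mp (hcyc h)
    obtain ⟨j, hj⟩ := Subgroup.mem_zpowers_iff.mp (hcyc y)
    apply (QuotientGroup.eq_one_iff _).mp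
    show mk ⁅h, y⁆ = 1
    rw [map_commutatorElement, ← hi, ← hj, commutatorElement_eq_one_iff_commute]
    exact (Commute.refl _).zpow_zpow i j
  exact ⟨⟨n + 1, htop⟩⟩

theorem card_quot_lt {G : Type*} [Group G] [Finite G] (N : Subgroup G) [N.Normal] (hN : N ≠ ⊥) :
    Nat.card (G ⧸ N) < Nat.card G := by
  have h1 : Nat.card N * N.index = Nat.card G := N.card_mul_index
  have h2 : 1 < Nat.card N := (Subgroup.one_lt_card_iff_ne_bot N).mpr hN
  have h3 : 0 < N.index := Nat.pos_of_ne_zero Subgroup.index_ne_zero_of_finite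
  rw [← Subgroup.index_eq_card]
  nlinarith

open scoped Pointwise in
/-- the key step: a group with trivial centre has no nontrivial element of the kind -/
theorem eq_one_of_center_eq_bot {G : Type u} [Group G] [Finite G] (hZ : Subgroup.center G = ⊥)
    (g : G) (hg : NilEl g) : g = 1 := by
  classical
  by_contra hg1
  have hord : orderOf g ≠ 1 := fun h => hg1 (orderOf_eq_one_iff.mp h)
  obtain ⟨p, hp, hpd⟩ := Nat.exists_prime_and_dvd hord
  haveI : Fact p.Prime := ⟨hp⟩
  set h : G := g ^ (orderOf g / p) with hh
  have hhord : orderOf h = p := orderOf_pow_orderOf_div (orderOf_pos g).ne' hpd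
  have hh1 : h ≠ 1 := by
    intro h1
    rw [h1, orderOf_one] at hhord
    exact hp.one_lt.ne hhord
  have hhN : NilEl h := hg.pow _
  have hhp : h ^ p = 1 := by rw [← hhord]; exact pow_orderOf_eq_one h
  -- h commutes with p'-elements
  have hcomm : ∀ x : G, (orderOf x).Coprime p → Commute h x := by
    intro x hx
    haveI := hhN x
    have hxH : x ∈ Subgroup.closure ({x, h} : Set G) := Subgroup.subset_closure (Set.mem_insert _ _)
    have hhH : h ∈ Subgroup.closure ({x, h} : Set G) :=
      Subgroup.subset_closure (Set.mem_insert_of_mem _ rfl)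
    have := Cfsg.Agent.Lib.Helper35.commute_of_coprime_of_isNilpotent
      (Subgroup.closure ({x, h} : Set G)) ⟨h, hhH⟩ ⟨x, hxH⟩ p (orderOf x)
      (Subtype.ext hhp) (Subtype.ext (pow_orderOf_eq_one x)) hx.symm
    exact congrArg Subtype.val this
  have hcomm' : ∀ c x : G, (orderOf x).Coprime p → Commute (c * h * c⁻¹) x := by
    intro c x hx
    have h1 : Commute h (c⁻¹ * x * c) := by
      apply hcomm
      have : orderOf (c⁻¹ * x * c) = orderOf x := by
        have := orderOf_injective (MulAut.conj c⁻¹).toMonoidHom (MulAut.conj c⁻¹).injective x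
        rw [← this]
        simp
      rw [this]; exact hx
    have h2 : c * h * c⁻¹ * x = c * (h * (c⁻¹ * x * c)) * c⁻¹ := by group
    have h3 : x * (c * h * c⁻¹) = c * ((c⁻¹ * x * c) * h) * c⁻¹ := by group
    show c * h * c⁻¹ * x = x * (c * h * c⁻¹)
    rw [h2, h3, h1.eq]
  -- h lies in the Fitting subgroup
  have hF : Subgroup.zpowers h ≤ Cfsg.fittingSubgroup G := by
    refine (Cfsg.Agent.S0067.result (Subgroup.zpowers h) ?_).2
    intro c
    have hle : (Subgroup.zpowers h ⊔ MulAut.conj c • Subgroup.zpowers h : Subgroup G) ≤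
        Subgroup.closure ({c, h} : Set G) := by
      have hcH : c ∈ Subgroup.closure ({c, h} : Set G) := Subgroup.subset_closure (Set.mem_insert _ _)
      have hhH : h ∈ Subgroup.closure ({c, h} : Set G) :=
        Subgroup.subset_closure (Set.mem_insert_of_mem _ rfl)
      have hzle : Subgroup.zpowers h ≤ Subgroup.closure ({c, h} : Set G) := by
        rw [Subgroup.zpowers_le]; exact hhH
      apply sup_le hzle
      intro y hy
      rw [Subgroup.mem_pointwise_smul_iff_inv_smul_mem] at hy
      have h1 : (MulAut.conj c)⁻¹ • y = c⁻¹ * y * c := by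
        rw [← map_inv, MulAut.smul_def, MulAut.conj_apply, inv_inv]
      rw [h1] at hy
      have h2 := hzle hy
      have h3 : y = c * (c⁻¹ * y * c) * c⁻¹ := by group
      rw [h3]
      exact Subgroup.mul_mem _ (Subgroup.mul_mem _ hcH h2) (Subgroup.inv_mem _ hcH)
    exact isNilpotent_of_le hle (hhN c)
  have hhF : h ∈ Cfsg.fittingSubgroup G := hF (Subgroup.mem_zpowers h)
  -- h lies in O_p(G)
  have hhP : h ∈ Cfsg.pCore p G := by
    have hle : Cfsg.fittingSubgroup G ≤ Cfsg.pCore p G ⊔ Cfsg.pPrimeCore p G := by
      rw [Cfsg.Agent.Lib.Helper22.fittingSubgroup_eq_iSup_pCore]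
      apply iSup_le
      intro q
      haveI : Fact (q : ℕ).Prime := ⟨q.2⟩
      by_cases hqp : (q : ℕ) = p
      · rw [hqp]; exact le_sup_left
      · exact (Cfsg.Agent.Lib.Helper22.pCore_le_pPrimeCore hqp).trans le_sup_right
    exact Cfsg.Agent.Lib.Helper22.mem_pCore_of_mem_sup (hle hhF) (k := 1) (by rw [pow_one]; exact hhp)
  have hPn : (Cfsg.pCore p G).Normal := Cfsg.Agent.Lib.Helper22.pCore_normal' p G
  have hPp : IsPGroup p (Cfsg.pCore p G) := Cfsg.Agent.Lib.Helper22.pCore_isPGroup' p G
  -- the normal closure of h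
  set W : Subgroup G := Subgroup.normalClosure ({h} : Set G) with hW
  have hWn : W.Normal := Subgroup.normalClosure_normal
  have hWP : W ≤ Cfsg.pCore p G := Subgroup.normalClosure_le_normal (by
    intro y hy; rw [Set.mem_singleton_iff] at hy; rw [hy]; exact hhP)
  have hWp : IsPGroup p W := hPp.to_le hWP
  have hhW : h ∈ W := Subgroup.subset_normalClosure (Set.mem_singleton h)
  have hWne : W ≠ ⊥ := fun hb => hh1 (by rw [hb, Subgroup.mem_bot] at hhW; exact hhW)
  -- W centralises p'-elements
  have hWcomm : ∀ w ∈ W, ∀ x : G, (orderOf x).Coprime p → Commute w x := by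
    intro w hw x hx
    have hle : W ≤ Subgroup.centralizer ({x} : Set G) := by
      rw [hW, Subgroup.normalClosure]
      rw [Subgroup.closure_le]
      intro y hy
      obtain ⟨a, ha, hconj⟩ := Group.mem_conjugatesOfSet_iff.mp hy
      obtain ⟨c, rfl⟩ := isConj_iff.mp hconj
      rw [Set.mem_singleton_iff] at ha
      subst ha
      rw [SetLike.mem_coe, Subgroup.mem_centralizer_iff]
      intro z hz
      rw [Set.mem_singleton_iff] at hz
      subst hz
      exact (hcomm' c z hx).eq.symm
    have := Subgroup.mem_centralizer_iff.mp (hle hw) x (Set.mem_singleton x)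
    exact this.symm
  -- a Sylow p-subgroup containing W
  obtain ⟨S, hWS⟩ := hWp.exists_le_sylow
  have hSp : IsPGroup p S := S.isPGroup'
  have hWSn : (W.subgroupOf S).Normal := hWn.subgroupOf S
  have hWSne : W.subgroupOf S ≠ ⊥ := by
    intro hb
    apply hh1
    have : (⟨h, hWS hhW⟩ : S) ∈ W.subgroupOf S := Subgroup.mem_subgroupOf.mpr hhW
    rw [hb, Subgroup.mem_bot] at this
    exact congrArg Subtype.val this
  obtain ⟨z, hzW, hzc, hz1⟩ :=
    Cfsg.Agent.Lib.Helper32.exists_ne_one_mem_normal_inf_center hSp (W.subgroupOf S) hWSne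
  have hzW' : (z : G) ∈ W := Subgroup.mem_subgroupOf.mp hzW
  have hz1' : (z : G) ≠ 1 := fun h1 => hz1 (Subtype.ext h1)
  -- z is central in G
  have hcent : Subgroup.centralizer ({(z : G)} : Set G) = ⊤ := by
    apply Cfsg.Agent.Lib.Helper62.eq_top_of_forall_sylow_le
    intro q hq
    by_cases hqp : q = p
    · subst hqp
      refine ⟨S, ?_⟩
      intro s hs
      rw [Subgroup.mem_centralizer_iff]
      intro y hy
      rw [Set.mem_singleton_iff] at hy
      subst hy
      have := Subgroup.mem_center_iff.mp hzc ⟨s, hs⟩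
      exact (congrArg Subtype.val this).symm
    · obtain ⟨Q⟩ : Nonempty (Sylow q G) := inferInstance
      refine ⟨Q, ?_⟩
      intro s hs
      rw [Subgroup.mem_centralizer_iff]
      intro y hy
      rw [Set.mem_singleton_iff] at hy
      subst hy
      have hsord : (orderOf s).Coprime p := by
        obtain ⟨k, hk⟩ := (IsPGroup.iff_orderOf.mp Q.isPGroup') ⟨s, hs⟩
        have : orderOf s = q ^ k := by
          rw [← hk]; exact (Subgroup.orderOf_mk s hs).symm
        rw [this]
        exact Nat.Coprime.pow_left k ((Nat.coprime_primes hq.out hp).mpr hqp)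
      exact (hWcomm _ hzW' s hsord).eq
  have hzcenter : (z : G) ∈ Subgroup.center G := by
    rw [Subgroup.mem_center_iff]
    intro y
    have hy : y ∈ Subgroup.centralizer ({(z : G)} : Set G) := by rw [hcent]; exact Subgroup.mem_top _
    exact (Subgroup.mem_centralizer_iff.mp hy _ (Set.mem_singleton _)).symm
  rw [hZ, Subgroup.mem_bot] at hzcenter
  exact hz1' hzcenter

theorem mem_hypercenter_aux : ∀ (n : ℕ) (G : Type u) [Group G] [Finite G], Nat.card G = n →
    ∀ g : G, NilEl g → g ∈ ⨆ k : ℕ, Subgroup.upperCentralSeries G k := by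
  intro n
  induction n using Nat.strong_induction_on with
  | _ n ih =>
  intro G _ _ hn g hg
  by_cases hZ : Subgroup.center G = ⊥
  · rw [eq_one_of_center_eq_bot hZ g hg]
    exact Subgroup.one_mem _
  · have hlt : Nat.card (G ⧸ Subgroup.center G) < n := by
      rw [← hn]; exact card_quot_lt _ hZ
    have h1 := ih _ hlt (G ⧸ Subgroup.center G) rfl (QuotientGroup.mk' (Subgroup.center G) g)
      (hg.map _ (QuotientGroup.mk'_surjective _))
    rw [Subgroup.mem_iSup_of_directed (Subgroup.upperCentralSeries_mono _).directed_le] at h1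
    obtain ⟨k, hk⟩ := h1
    have h2 : g ∈ Subgroup.upperCentralSeries G (k + 1) := by
      rw [← Subgroup.comap_upperCentralSeries_quotient_center]
      exact hk
    exact (le_iSup (fun k => Subgroup.upperCentralSeries G k) (k + 1)) h2

/-- In a finite group G the set of elements g such that the subgroup generated by g and x is nilpotent for every x ∈ G is exactly the hypercenter of G (the last term of the upper central series). -/
theorem result {G : Type*} [Group G] [Finite G] (g : G) :
    (∀ x : G, Group.IsNilpotent ↥(Subgroup.closure ({x, g} : Set G))) ↔ g ∈ ⨆ n : ℕ, Subgroup.upperCentralSeries G n := by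
  constructor
  · intro h
    exact mem_hypercenter_aux (Nat.card G) G rfl g h
  · intro h
    rw [Subgroup.mem_iSup_of_directed (Subgroup.upperCentralSeries_mono _).directed_le] at h
    obtain ⟨k, hk⟩ := h
    exact nilEl_of_mem g k hk

end Cfsg.Agent.S3939
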