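import Cfsg.Statements.S3941

set_option autoImplicit false
open Cfsg

namespace Cfsg.Agent.S3941

open Equiv Equiv.Perm

/-- an element of `p`-power order lies in a normal Sylow `p`-subgroup -/
theorem mem_of_normal_sylow {G : Type*} [Group G] [Finite G] (p : ℕ) [Fact p.Prime]
    (P : Sylow p G) (hP : (P : Subgroup G).Normal) (x : G) (k : ℕ) (hx : x ^ (p ^ k) = 1) :
    x ∈ (P : Subgroup G) := by
  have hpg : IsPGroup p (Subgroup.zpowers x) := by
    rintro ⟨y, hy⟩
    obtain ⟨i, rfl⟩ := Subgroup.mem_zpowers_iff.mp hy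
    refine ⟨k, ?_⟩
    apply Subtype.ext
    simp only [Subgroup.coe_pow, Subgroup.coe_one]
    rw [← zpow_natCast, ← zpow_mul, mul_comm, zpow_mul, zpow_natCast, hx, one_zpow]
  obtain ⟨Q, hQ⟩ := hpg.exists_le_sylow
  have := Sylow.unique_of_normal P hP
  have hQP : Q = P := Subsingleton.elim _ _
  rw [← hQP]
  exact hQ (Subgroup.mem_zpowers x)

theorem general (n p : ℕ) (hn : 6 ≤ n) [hp : Fact p.Prime] (hp2 : p ≠ 2) (hpn : p < n)
    (h : ∀ H : Subgroup ↥(alternatingGroup (Fin n)), H ≠ ⊤ → p ∣ Nat.card ↥H → Cfsg.IsPClosed p ↥H) :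
    False := by
  classical
  set s : Finset (Fin n) := Finset.univ.erase ⟨0, by omega⟩ with hs
  have hscard : s.card = n - 1 := by
    rw [hs, Finset.card_erase_of_mem (Finset.mem_univ _), Finset.card_univ, Fintype.card_fin]
  have hcard_s : Nat.card s = n - 1 := by
    rw [Nat.card_eq_fintype_card, Fintype.card_coe, hscard]
  have h5 : 5 ≤ Nat.card s := by omega
  have hsimple : IsSimpleGroup (alternatingGroup s) := alternatingGroup.isSimpleGroup h5
  have hnt : Nontrivial s := by
    rw [← Finite.one_lt_card_iff_nontrivial]; omega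
  set f := alternatingGroup.ofSubtype s with hf
  have hinj : Function.Injective f := alternatingGroup.ofSubtype_injective
  set H := f.range with hH
  let e : alternatingGroup s ≃* H := MonoidHom.ofInjective hinj
  have hHcard : Nat.card H = Nat.card (alternatingGroup s) := Nat.card_congr e.symm.toEquiv
  have h2card : 2 * Nat.card H = (n - 1).factorial := by
    rw [hHcard, two_mul_nat_card_alternatingGroup, Nat.card_perm, hcard_s]
  have hHsimple : IsSimpleGroup H := e.symm.isSimpleGroup
  have hpp : p.Prime := hp.out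
  have hpH : p ∣ Nat.card H := by
    have h1 : p ∣ (n - 1).factorial := (Nat.Prime.dvd_factorial hpp).mpr (by omega)
    rw [← h2card] at h1
    rcases (Nat.Prime.dvd_mul hpp).mp h1 with h2 | h2
    · exfalso
      have := (Nat.prime_dvd_prime_iff_eq hpp Nat.prime_two).mp h2
      exact hp2 this
    · exact h2
  have h2H : 2 ∣ Nat.card H := by
    have h4 : 4 ∣ (n - 1).factorial := Nat.dvd_factorial (by norm_num) (by omega)
    rw [← h2card] at h4
    obtain ⟨c, hc⟩ := h4
    exact ⟨c, by omega⟩
  have hHtop : H ≠ ⊤ := by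
    intro htop
    have h1 : Nat.card H = Nat.card (alternatingGroup (Fin n)) := by
      rw [htop, Subgroup.card_top]
    have hntn : Nontrivial (Fin n) := by
      rw [← Finite.one_lt_card_iff_nontrivial]; simp; omega
    have h2 : 2 * Nat.card (alternatingGroup (Fin n)) = n.factorial := by
      rw [two_mul_nat_card_alternatingGroup, Nat.card_perm]; simp
    have h3 : (n - 1).factorial < n.factorial := by
      have : n = (n - 1) + 1 := by omega
      rw [this, Nat.factorial_succ]
      have hpos := Nat.factorial_pos (n - 1)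
      simp only [Nat.add_sub_cancel]
      nlinarith
    omega
  have hcl := h H hHtop hpH
  obtain ⟨P⟩ : Nonempty (Sylow p H) := inferInstance
  have hPn : (P : Subgroup H).Normal := hcl P
  rcases hPn.eq_bot_or_eq_top with hbot | htop
  · have h1 := P.dvd_card_of_dvd_card hpH
    rw [hbot, Subgroup.card_bot] at h1
    exact hpp.one_lt.ne' (Nat.dvd_one.mp h1)
  · have hpg : IsPGroup p H := by
      intro g
      obtain ⟨k, hk⟩ := P.isPGroup' ⟨g, htop ▸ Subgroup.mem_top g⟩
      exact ⟨k, congrArg Subtype.val hk⟩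
    obtain ⟨k, hk⟩ := hpg.exists_card_eq
    rw [hk] at h2H
    have := (Nat.Prime.dvd_of_dvd_pow Nat.prime_two h2H)
    have := (Nat.prime_dvd_prime_iff_eq Nat.prime_two hpp).mp this
    exact hp2 this.symm

/-- the 3-cycle `(0 1 2)` in `A_5` -/
def c1 : alternatingGroup (Fin 5) := ⟨swap 0 1 * swap 1 2, by rw [mem_alternatingGroup]; decide⟩
/-- the 3-cycle `(0 1 3)` in `A_5` -/
def c2 : alternatingGroup (Fin 5) := ⟨swap 0 1 * swap 1 3, by rw [mem_alternatingGroup]; decide⟩
/-- the 3-cycle `(2 3 4)` in `A_5` -/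
def c3 : alternatingGroup (Fin 5) := ⟨swap 2 3 * swap 3 4, by rw [mem_alternatingGroup]; decide⟩

theorem five (h : ∀ H : Subgroup ↥(alternatingGroup (Fin 5)), H ≠ ⊤ → 3 ∣ Nat.card ↥H → Cfsg.IsPClosed 3 ↥H) :
    False := by
  have : Fact (Nat.Prime 3) := ⟨Nat.prime_three⟩
  -- the stabilizer of the point 4
  set H : Subgroup (alternatingGroup (Fin 5)) :=
    { carrier := {g | (g : Perm (Fin 5)) 4 = 4}
      mul_mem' := by
        intro a b ha hb
        simp only [Set.mem_ofPred_eq] at ha hb ⊢
        rw [Subgroup.coe_mul, Perm.mul_apply, hb, ha]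
      one_mem' := by simp
      inv_mem' := by
        intro a ha
        simp only [Set.mem_ofPred_eq] at ha ⊢
        rw [Subgroup.coe_inv, Perm.inv_eq_iff_eq, ha] } with hH
  have hc1 : c1 ∈ H := by
    show (c1 : Perm (Fin 5)) 4 = 4
    decide
  have hc2 : c2 ∈ H := by
    show (c2 : Perm (Fin 5)) 4 = 4
    decide
  have hHtop : H ≠ ⊤ := by
    intro htop
    have : c3 ∈ H := htop ▸ Subgroup.mem_top _
    have h4 : (c3 : Perm (Fin 5)) 4 = 4 := this
    revert h4
    decide
  have hc1pow : c1 ^ 3 = 1 := by decide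
  have hc2pow : c2 ^ 3 = 1 := by decide
  have hc1ne : c1 ≠ 1 := by decide
  have h3H : 3 ∣ Nat.card H := by
    have ho : orderOf (⟨c1, hc1⟩ : H) = 3 := by
      apply orderOf_eq_prime
      · apply Subtype.ext; simpa using hc1pow
      · intro h1
        exact hc1ne (congrArg Subtype.val h1)
    rw [← ho]
    exact orderOf_dvd_natCard _
  have hcl := h H hHtop h3H
  obtain ⟨P⟩ : Nonempty (Sylow 3 H) := inferInstance
  have hPn : (P : Subgroup H).Normal := hcl P
  have m1 : (⟨c1, hc1⟩ : H) ∈ (P : Subgroup H) :=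
    mem_of_normal_sylow 3 P hPn _ 1 (by apply Subtype.ext; simpa using hc1pow)
  have m2 : (⟨c2, hc2⟩ : H) ∈ (P : Subgroup H) :=
    mem_of_normal_sylow 3 P hPn _ 1 (by apply Subtype.ext; simpa using hc2pow)
  have m12 := (P : Subgroup H).mul_mem m1 m2
  obtain ⟨k, hk⟩ := P.isPGroup' ⟨_, m12⟩
  have hk' : (c1 * c2) ^ (3 ^ k) = 1 := by
    have := congrArg (fun z : (P : Subgroup H) => ((z : H) : alternatingGroup (Fin 5))) hk
    simpa using this
  have h2 : (c1 * c2) ^ 2 = 1 := by decide
  have hne : c1 * c2 ≠ 1 := by decide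
  have ho : orderOf (c1 * c2) = 2 := orderOf_eq_prime h2 hne
  have hdvd : 2 ∣ 3 ^ k := by rw [← ho]; exact orderOf_dvd_of_pow_eq_one hk'
  have := Nat.Prime.dvd_of_dvd_pow Nat.prime_two hdvd
  omega

/-- Let n ≥ 5 and p an odd prime with p ≤ n, and suppose that every proper subgroup of the alternating group of degree n whose order is divisible by p has a normal Sylow p-subgroup. Then n = p. -/
theorem result (n p : ℕ) (hn : 5 ≤ n) [Fact p.Prime] (hp : p ≠ 2) (hpn : p ≤ n)
    (h : ∀ H : Subgroup ↥(alternatingGroup (Fin n)), H ≠ ⊤ → p ∣ Nat.card ↥H → Cfsg.IsPClosed p ↥H) : n = p := by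
  by_contra hne
  have hlt : p < n := lt_of_le_of_ne hpn (Ne.symm hne)
  rcases Nat.lt_or_ge n 6 with h6 | h6
  · have hn5 : n = 5 := by omega
    subst hn5
    have hpp : p.Prime := Fact.out
    have hp3 : p = 3 := by
      have h2 := hpp.two_le
      interval_cases p
      · exact absurd rfl hp
      · rfl
      · exact absurd hpp (by decide)
    subst hp3
    exact five h
  · exact general n p h6 hp hlt h

end Cfsg.Agent.S3941
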