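import Cfsg.Statements.S3949

set_option autoImplicit false
open Cfsg

namespace Cfsg.Agent.S3949

theorem iter_eq {G : Type*} [Group G] (α : MulAut G) (n : ℕ) :
    ∀ g : G, α g = g⁻¹ → ((fun c : G => c * (α c)⁻¹)^[n]) g = g ^ (2 ^ n) := by
  induction n with
  | zero => intro g _; simp
  | succ n ih =>
    intro g hg
    rw [Function.iterate_succ_apply]
    have h1 : g * (α g)⁻¹ = g ^ 2 := by rw [hg, inv_inv, pow_two]
    have h2 : α (g ^ 2) = (g ^ 2)⁻¹ := by rw [map_pow, hg, inv_pow]
    show ((fun c : G => c * (α c)⁻¹)^[n]) (g * (α g)⁻¹) = _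
    rw [h1, ih _ h2, ← pow_mul, pow_succ']

/-- Let G be a finite group and α an automorphism of G of order 2 such that the elements g·α(g)⁻¹ generate G. Let j be a positive integer such that 2^j divides the order of no element inverted by α. Then the set of values of the j-th iterate of the map c ↦ c·α(c)⁻¹ is exactly the set of elements of odd order inverted by α. -/
theorem result {G : Type*} [Group G] [Finite G] (α : MulAut G) (hα : orderOf α = 2) (hG : Subgroup.closure (Set.range (fun c : G => c * (α c)⁻¹)) = ⊤)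
    (j : ℕ) (hj : ∀ g : G, α g = g⁻¹ → ¬ 2 ^ j ∣ orderOf g) :
    Set.range ((fun c : G => c * (α c)⁻¹)^[j]) = {g : G | Odd (orderOf g) ∧ α g = g⁻¹} := by
  have hα2 : ∀ x : G, α (α x) = x := by
    intro x
    have h : α ^ 2 = 1 := by rw [← hα]; exact pow_orderOf_eq_one α
    have h' := congrArg (fun f : MulAut G => f x) h
    simpa [pow_two] using h'
  have hinv : ∀ c : G, α (c * (α c)⁻¹) = (c * (α c)⁻¹)⁻¹ := by
    intro c
    rw [map_mul, map_inv, hα2, mul_inv_rev, inv_inv]
  have hpowinv : ∀ (g : G) (n : ℕ), α g = g⁻¹ → α (g ^ n) = (g ^ n)⁻¹ := by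
    intro g n hg
    rw [map_pow, hg, inv_pow]
  obtain ⟨k, rfl⟩ : ∃ k, j = k + 1 := by
    rcases j with _ | k
    · exfalso
      exact hj 1 (by simp) (by simp)
    · exact ⟨k, rfl⟩
  ext x
  simp only [Set.mem_range, Set.mem_ofPred_eq]
  constructor
  · rintro ⟨c, rfl⟩
    rw [Function.iterate_succ_apply]
    set h := c * (α c)⁻¹ with hh
    have hhinv : α h = h⁻¹ := hinv c
    show Odd (orderOf (((fun c : G => c * (α c)⁻¹)^[k]) h)) ∧ α (((fun c : G => c * (α c)⁻¹)^[k]) h) = (((fun c : G => c * (α c)⁻¹)^[k]) h)⁻¹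
    rw [iter_eq α k h hhinv]
    refine ⟨?_, hpowinv h _ hhinv⟩
    have hN : orderOf h ≠ 0 := (orderOf_pos h).ne'
    obtain ⟨a, m, hm, hNam⟩ := Nat.exists_eq_two_pow_mul_odd hN
    have hak : a ≤ k := by
      by_contra hcon
      push Not at hcon
      apply hj h hhinv
      rw [hNam]
      exact Dvd.dvd.mul_right (pow_dvd_pow 2 hcon) m
    have hy : (h ^ (2 ^ k)) ^ m = 1 := by
      rw [← pow_mul]
      have : 2 ^ k * m = orderOf h * 2 ^ (k - a) := by
        rw [hNam]
        have : 2 ^ k = 2 ^ a * 2 ^ (k - a) := by rw [← pow_add]; congr 1; omega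
        rw [this]; ring
      rw [this, pow_mul, pow_orderOf_eq_one, one_pow]
    have hdvd : orderOf (h ^ (2 ^ k)) ∣ m := orderOf_dvd_of_pow_eq_one hy
    exact Odd.of_dvd_nat hm hdvd
  · rintro ⟨hodd, hx⟩
    have hcop : Nat.Coprime (2 ^ (k + 1)) (orderOf x) := by
      apply Nat.Coprime.pow_left
      exact (Nat.coprime_two_left).mpr hodd
    by_cases h1 : orderOf x = 1
    · have hx1 : x = 1 := orderOf_eq_one_iff.mp h1
      refine ⟨1, ?_⟩
      rw [iter_eq α (k+1) 1 (by simp), one_pow, hx1]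
    · have hlt : 1 < orderOf x := by
        have := orderOf_pos x
        omega
      obtain ⟨t, -, ht⟩ := Nat.exists_mul_mod_eq_one_of_coprime hcop hlt
      refine ⟨x ^ t, ?_⟩
      rw [iter_eq α (k+1) (x ^ t) (hpowinv x t hx), ← pow_mul, ← pow_mod_orderOf, mul_comm, ht, pow_one]

end Cfsg.Agent.S3949
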