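import Cfsg.Statements.S3950
import Cfsg.Agent.Lib.Helper65.BiExt

set_option autoImplicit false
open Cfsg

namespace Cfsg.Agent.S3950

open Cfsg.Agent.Lib.Helper65

theorem isStem_equiv_comp {Γ G H : Type*} [Group Γ] [Group G] [Group H] (σ : Γ →* G) (e : G ≃* H)
    (h : Cfsg.IsStemExtension σ) : Cfsg.IsStemExtension (e.toMonoidHom.comp σ) := by
  obtain ⟨h1, h2, h3⟩ := h
  have hk : (e.toMonoidHom.comp σ).ker = σ.ker := by
    ext x
    simp [MonoidHom.mem_ker]
  refine ⟨e.surjective.comp h1, ?_, ?_⟩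
  · rw [hk]; exact h2
  · rw [hk]; exact h3

/-- cyclic groups have only trivial stem extensions -/
theorem cyclic_side {G : Type*} [CommGroup G] [Finite G] (hc : IsCyclic G) :
    Cfsg.HasCyclicSchurMultiplier G 1 := by
  constructor
  · refine ⟨G, inferInstance, inferInstance, MonoidHom.id G, ⟨Function.surjective_id, ?_, ?_⟩, ?_⟩
    · rw [MonoidHom.ker_id]; exact bot_le
    · rw [MonoidHom.ker_id]; exact bot_le
    · have : Unique (MonoidHom.id G).ker := by
        rw [MonoidHom.ker_id]; infer_instance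
      exact ⟨MulEquiv.ofUnique⟩
  · intro Γ _ _ σ hσ
    obtain ⟨_, hcent, hcomm⟩ := hσ
    have hmc : IsMulCommutative Γ := σ.isMulCommutative_of_isCyclic_of_ker_le_center hcent
    have hcb : commutator Γ = ⊥ := by
      rw [commutator_def, Subgroup.commutator_eq_bot_iff_le_centralizer]
      intro x _
      rw [Subgroup.mem_centralizer_iff]
      intro y _
      exact hmc.is_comm.comm y x
    refine ⟨1, ?_⟩
    intro k
    refine ⟨1, ?_⟩
    have : (k : Γ) ∈ (⊥ : Subgroup Γ) := hcb ▸ hcomm k.2
    apply Subtype.ext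
    rw [Subgroup.mem_bot] at this
    simp [this]

/-- the cocycle from two characters -/
noncomputable def cocycle {A : Type*} [AddCommGroup A] (p : ℕ) (f g : A →+ ZMod p) : A →+ A →+ ZMod p :=
  ((AddMonoidHom.mul (R := ZMod p)).comp f).compl₂ g

theorem cocycle_apply {A : Type*} [AddCommGroup A] (p : ℕ) (f g : A →+ ZMod p) (a a' : A) :
    cocycle p f g a a' = f a * g a' := rfl

/-- a group with two "independent" characters mod `p` has a nontrivial stem extension -/
theorem exists_stem {G : Type*} [CommGroup G] [Finite G] (p : ℕ) (hp : 1 < p)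
    (f g : Additive G →+ ZMod p) (a a' : Additive G)
    (h1 : f a = 1) (h2 : g a = 0) (h3 : f a' = 0) (h4 : g a' = 1) :
    ¬ Cfsg.HasCyclicSchurMultiplier G 1 := by
  intro hS
  have : NeZero p := ⟨by omega⟩
  set β := cocycle p f g with hβ
  have hstem : Cfsg.IsStemExtension (BiExt.proj β) := by
    apply BiExt.isStemExtension β a a'
    intro c
    refine ⟨(c.val : ℤ), ?_⟩
    rw [hβ, cocycle_apply, cocycle_apply, h1, h2, h3, h4]
    simp only [mul_one, mul_zero, sub_zero]
    rw [zsmul_one, Int.cast_natCast, ZMod.natCast_zmod_val]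
  have hstem' := isStem_equiv_comp (BiExt.proj β) (MulEquiv.multiplicativeAdditive (H := G)) hstem
  obtain ⟨π, hπ⟩ := hS.2 (BiExt β) _ hstem'
  -- a nontrivial element of the kernel
  have hmem : BiExt.incl β (Multiplicative.ofAdd 1) ∈
      ((MulEquiv.multiplicativeAdditive (H := G)).toMonoidHom.comp (BiExt.proj β)).ker := by
    rw [MonoidHom.mem_ker]
    simp only [MonoidHom.comp_apply]
    rfl
  obtain ⟨c, hc⟩ := hπ ⟨_, hmem⟩
  have hc1 : c = 1 := Subsingleton.elim _ _
  rw [hc1, map_one] at hc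
  have := congrArg (fun k : ((MulEquiv.multiplicativeAdditive (H := G)).toMonoidHom.comp (BiExt.proj β)).ker => (k : BiExt β).snd) hc
  simp only [Subgroup.coe_one, BiExt.one_snd, BiExt.incl_snd, toAdd_ofAdd] at this
  have h01 : (0 : ZMod p) ≠ 1 := by
    have : Fact (1 < p) := ⟨hp⟩
    exact zero_ne_one
  exact h01 this

theorem noncyclic_side {G : Type*} [CommGroup G] [Finite G] (hS : Cfsg.HasCyclicSchurMultiplier G 1) :
    IsCyclic G := by
  obtain ⟨ι, _, n, hn, ⟨e⟩⟩ := CommGroup.equiv_prod_multiplicative_zmod_of_finite G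
  by_cases hcop : Pairwise (Function.onFun Nat.Coprime n)
  · -- cyclic
    let e1 : ZMod (∏ i, n i) ≃+* (Π i, ZMod (n i)) := ZMod.prodEquivPi n hcop
    let e2 : Multiplicative (ZMod (∏ i, n i)) ≃* Multiplicative (Π i, ZMod (n i)) :=
      AddEquiv.toMultiplicative e1.toAddEquiv
    let e3 : Multiplicative (ZMod (∏ i, n i)) ≃* G :=
      (e2.trans (MulEquiv.piMultiplicative _)).trans e.symm
    exact isCyclic_of_surjective e3.toMonoidHom e3.surjective
  · exfalso
    rw [Pairwise] at hcop
    push Not at hcop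
    obtain ⟨i, j, hij, hnc⟩ := hcop
    obtain ⟨p, hp, hpi, hpj⟩ := Nat.Prime.not_coprime_iff_dvd.mp hnc
    classical
    let pi_ : G →* Multiplicative (ZMod (n i)) := (Pi.evalMonoidHom _ i).comp e.toMonoidHom
    let pj_ : G →* Multiplicative (ZMod (n j)) := (Pi.evalMonoidHom _ j).comp e.toMonoidHom
    let f : Additive G →+ ZMod p :=
      (ZMod.castHom hpi (ZMod p)).toAddMonoidHom.comp (MonoidHom.toAdditiveLeft pi_)
    let g : Additive G →+ ZMod p :=
      (ZMod.castHom hpj (ZMod p)).toAddMonoidHom.comp (MonoidHom.toAdditiveLeft pj_)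
    let a : Additive G := Additive.ofMul (e.symm (Pi.mulSingle i (Multiplicative.ofAdd 1)))
    let a' : Additive G := Additive.ofMul (e.symm (Pi.mulSingle j (Multiplicative.ofAdd 1)))
    have h1 : f a = 1 := by
      simp [f, a, pi_, ZMod.cast_one hpi]
    have h2 : g a = 0 := by
      simp [g, a, pj_, Pi.mulSingle_eq_of_ne hij.symm]
    have h3 : f a' = 0 := by
      simp [f, a', pi_, Pi.mulSingle_eq_of_ne hij]
    have h4 : g a' = 1 := by
      simp [g, a', pj_, ZMod.cast_one hpj]
    exact exists_stem p hp.one_lt f g a a' h1 h2 h3 h4 hS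

/-- A finite abelian group has trivial Schur multiplier if and only if it is cyclic. -/
theorem result {G : Type*} [CommGroup G] [Finite G] : Cfsg.HasCyclicSchurMultiplier G 1 ↔ IsCyclic G := by
  exact ⟨noncyclic_side, cyclic_side⟩

end Cfsg.Agent.S3950
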