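import Cfsg.Statements.S3951
import Cfsg.Agent.Lib.Helper65.BiExt

set_option autoImplicit false
open Cfsg

namespace Cfsg.Agent.S3951

open Cfsg.Agent.Lib.Helper65

/-- hom from `ZMod n` given an element with `k ^ n = 1`. -/
noncomputable def zmodHom {K : Type*} [Group K] (n : ℕ) (k : K) (hk : k ^ n = 1) :
    Multiplicative (ZMod n) →* K :=
  AddMonoidHom.toMultiplicativeLeft
    (ZMod.lift n ⟨zmultiplesHom (Additive K) (Additive.ofMul k), by
      rw [zmultiplesHom_apply, natCast_zsmul, ← ofMul_pow, hk]; rfl⟩)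

theorem zmodHom_apply {K : Type*} [Group K] (n : ℕ) (k : K) (hk : k ^ n = 1) (i : ℤ) :
    zmodHom n k hk (Multiplicative.ofAdd (i : ZMod n)) = k ^ i := by
  unfold zmodHom
  rw [AddMonoidHom.coe_toMultiplicativeLeft]
  simp only [Function.comp_apply, toAdd_ofAdd]
  rw [ZMod.lift_coe]
  simp only [zmultiplesHom_apply]
  rw [← ofMul_zpow]
  rfl

/-- the cocycle -/
noncomputable def cocycle (m n : ℕ) (hnm : n ∣ m) : (ZMod m × ZMod n) →+ (ZMod m × ZMod n) →+ ZMod n :=
  ((AddMonoidHom.mul (R := ZMod n)).comp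
    ((ZMod.castHom hnm (ZMod n)).toAddMonoidHom.comp (AddMonoidHom.fst (ZMod m) (ZMod n)))).compl₂
    (AddMonoidHom.snd (ZMod m) (ZMod n))

theorem cocycle_apply (m n : ℕ) (hnm : n ∣ m) (a a' : ZMod m × ZMod n) :
    cocycle m n hnm a a' = (ZMod.castHom hnm (ZMod n) a.1) * a'.2 := rfl

theorem partA (m n : ℕ) [NeZero m] [NeZero n] (hnm : n ∣ m) :
    ∃ (Γ : Type) (_ : Group Γ) (_ : Finite Γ) (σ : Γ →* Multiplicative (ZMod m × ZMod n)),
      Cfsg.IsStemExtension σ ∧ Nonempty (σ.ker ≃* Multiplicative (ZMod n)) := by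
  refine ⟨BiExt (cocycle m n hnm), inferInstance, inferInstance, BiExt.proj _, ?_, ⟨BiExt.kerEquiv _⟩⟩
  apply BiExt.isStemExtension (cocycle m n hnm) ((1, 0) : ZMod m × ZMod n) (0, 1)
  intro c
  refine ⟨(c.val : ℤ), ?_⟩
  rw [cocycle_apply, cocycle_apply]
  simp only [map_one, map_zero, mul_one, mul_zero, sub_zero]
  rw [zsmul_one, Int.cast_natCast, ZMod.natCast_zmod_val]

theorem partB (m n : ℕ) [NeZero m] [NeZero n] (Γ : Type) [Group Γ] [Finite Γ]
    (σ : Γ →* Multiplicative (ZMod m × ZMod n)) (hσ : Cfsg.IsStemExtension σ) :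
    ∃ π : Multiplicative (ZMod n) →* σ.ker, Function.Surjective π := by
  obtain ⟨hsurj, hcent, hcomm⟩ := hσ
  obtain ⟨x, hx⟩ := hsurj (Multiplicative.ofAdd (1, 0))
  obtain ⟨y, hy⟩ := hsurj (Multiplicative.ofAdd (0, 1))
  set z := x * y * x⁻¹ * y⁻¹ with hz
  have hzK : z ∈ σ.ker := by
    rw [MonoidHom.mem_ker, hz]
    simp only [map_mul, map_inv]
    rw [mul_comm (σ x) (σ y)]
    simp
  have hzc : z ∈ Subgroup.center Γ := hcent hzK
  have hzcomm : ∀ g : Γ, g * z = z * g := fun g => Subgroup.mem_center_iff.mp hzc g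
  have hynK : y ^ n ∈ σ.ker := by
    rw [MonoidHom.mem_ker, map_pow, hy, ← ofAdd_nsmul]
    simp
  have hync : ∀ g : Γ, g * y ^ n = y ^ n * g := fun g => Subgroup.mem_center_iff.mp (hcent hynK) g
  have hzn : z ^ n = 1 := by
    have e1 : x * y * x⁻¹ = z * y := by rw [hz]; group
    have e2 : (x * y * x⁻¹) ^ n = y ^ n := by
      rw [conj_pow, hync x, mul_inv_cancel_right]
    have e3 : (z * y) ^ n = z ^ n * y ^ n :=
      Commute.mul_pow (show Commute z y from (hzcomm y).symm) n
    rw [e1, e3] at e2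
    exact mul_eq_right.mp e2
  -- N = zpowers z
  set N : Subgroup Γ := Subgroup.zpowers z with hN
  have hNcent : N ≤ Subgroup.center Γ := Subgroup.zpowers_le.mpr hzc
  have hNn : N.Normal := by
    constructor
    intro a ha g
    have := Subgroup.mem_center_iff.mp (hNcent ha) g
    rw [this, mul_inv_cancel_right]
    exact ha
  -- every element decomposes
  have hdecomp : ∀ g : Γ, ∃ k ∈ σ.ker, ∃ i j : ℕ, g = k * x ^ i * y ^ j := by
    intro g
    set ab := Multiplicative.toAdd (σ g) with hab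
    refine ⟨g * (x ^ ab.1.val * y ^ ab.2.val)⁻¹, ?_, ab.1.val, ab.2.val, by group⟩
    rw [MonoidHom.mem_ker, map_mul, map_inv, map_mul, map_pow, map_pow, hx, hy,
      ← ofAdd_nsmul, ← ofAdd_nsmul, ← ofAdd_add]
    have : ab.1.val • ((1 : ZMod m), (0 : ZMod n)) + ab.2.val • ((0 : ZMod m), (1 : ZMod n)) = ab := by
      ext <;> simp
    rw [this, hab, ofAdd_toAdd, mul_inv_cancel]
  -- quotient is commutative
  have hQcomm : ∀ a b : Γ ⧸ N, a * b = b * a := by
    have hXY : Commute (QuotientGroup.mk' N x) (QuotientGroup.mk' N y) := by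
      show QuotientGroup.mk' N x * QuotientGroup.mk' N y = QuotientGroup.mk' N y * QuotientGroup.mk' N x
      rw [← map_mul, ← map_mul]
      have : x * y = z * (y * x) := by rw [hz]; group
      rw [this, map_mul]
      have hz1 : QuotientGroup.mk' N z = 1 := by
        rw [QuotientGroup.mk'_apply, QuotientGroup.eq_one_iff]
        exact Subgroup.mem_zpowers z
      rw [hz1, one_mul]
    have hKc : ∀ k ∈ σ.ker, ∀ q : Γ ⧸ N, Commute (QuotientGroup.mk' N k) q := by
      intro k hk q
      induction q using QuotientGroup.induction_on with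
      | H g =>
        show QuotientGroup.mk' N k * QuotientGroup.mk' N g = QuotientGroup.mk' N g * QuotientGroup.mk' N k
        rw [← map_mul, ← map_mul, Subgroup.mem_center_iff.mp (hcent hk) g]
    intro a b
    induction a using QuotientGroup.induction_on with
    | H g =>
      induction b using QuotientGroup.induction_on with
      | H h =>
        obtain ⟨k, hk, i, j, rfl⟩ := hdecomp g
        obtain ⟨k', hk', i', j', rfl⟩ := hdecomp h
        have e : ∀ (k : Γ) (i j : ℕ), ((k * x ^ i * y ^ j : Γ) : Γ ⧸ N) =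
            QuotientGroup.mk' N k * (QuotientGroup.mk' N x) ^ i * (QuotientGroup.mk' N y) ^ j := by
          intro k i j
          simp
        rw [e, e]
        have c1 : Commute (QuotientGroup.mk' N x)
            (QuotientGroup.mk' N k' * (QuotientGroup.mk' N x) ^ i' * (QuotientGroup.mk' N y) ^ j') :=
          ((hKc k' hk' _).symm.mul_right ((Commute.refl _).pow_right _)).mul_right (hXY.pow_right _)
        have c2 : Commute (QuotientGroup.mk' N y)
            (QuotientGroup.mk' N k' * (QuotientGroup.mk' N x) ^ i' * (QuotientGroup.mk' N y) ^ j') :=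
          ((hKc k' hk' _).symm.mul_right (hXY.symm.pow_right _)).mul_right ((Commute.refl _).pow_right _)
        exact (((hKc k hk _).mul_left (c1.pow_left _)).mul_left (c2.pow_left _))
  have hcommN : commutator Γ ≤ N := by
    rw [commutator_def, Subgroup.commutator_le]
    intro g _ h _
    rw [← QuotientGroup.eq_one_iff]
    rw [commutatorElement_def]
    simp only [QuotientGroup.mk_mul, QuotientGroup.mk_inv]
    rw [hQcomm (g : Γ ⧸ N) (h : Γ ⧸ N)]
    group
  have hKN : σ.ker ≤ N := hcomm.trans hcommN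
  -- ker is cyclic
  have hNcyc : IsCyclic N := by rw [hN]; infer_instance
  have hsub : IsCyclic (σ.ker.subgroupOf N) := inferInstance
  have hKcyc : IsCyclic σ.ker :=
    isCyclic_of_surjective (Subgroup.subgroupOfEquivOfLe hKN).toMonoidHom
      (Subgroup.subgroupOfEquivOfLe hKN).surjective
  obtain ⟨k0, hk0⟩ := hKcyc.exists_generator
  have hk0n : k0 ^ n = 1 := by
    apply Subtype.ext
    have h1 : (k0 : Γ) ∈ N := hKN k0.2
    obtain ⟨i, hi⟩ := Subgroup.mem_zpowers_iff.mp h1
    rw [Subgroup.coe_pow, ← hi, ← zpow_natCast, ← zpow_mul, mul_comm, zpow_mul, zpow_natCast, hzn, one_zpow]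
    rfl
  refine ⟨zmodHom n k0 hk0n, ?_⟩
  intro k
  obtain ⟨i, hi⟩ := Subgroup.mem_zpowers_iff.mp (hk0 k)
  exact ⟨Multiplicative.ofAdd (i : ZMod n), by rw [zmodHom_apply, hi]⟩

/-- For positive integers `m` and `n` with `n` dividing `m`, the Schur multiplier of the abelian group `ZMod m × ZMod n` (written multiplicatively) is cyclic of order `n`. In particular the elementary abelian group of order `p ^ 2` has multiplier of order `p`. -/
theorem result (m n : ℕ) [NeZero m] [NeZero n] (hnm : n ∣ m) : Cfsg.HasCyclicSchurMultiplier (Multiplicative (ZMod m × ZMod n)) n := by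
  exact ⟨partA m n hnm, fun Γ _ _ σ hσ => partB m n Γ σ hσ⟩

end Cfsg.Agent.S3951
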