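import Cfsg.Statements.S3954
import Cfsg.Agent.Lib.Helper65.SchurCover
import Cfsg.Agent.Lib.Helper65.Dual

set_option autoImplicit false
open Cfsg

namespace Cfsg.Agent.S3954

open Cfsg.Agent.Lib.Helper65

/-- Let `U` be a subgroup of index `m` in the finite group `G`, let `A` be the Schur multiplier of `G` and `B` that of `U`. Then the subgroup of `m`-th powers of `A` is isomorphic to a subgroup of `B`. -/
theorem result {G : Type*} [Group G] [Finite G] (U : Subgroup G) {A B : Type*} [CommGroup A] [CommGroup B] (hA : Cfsg.HasSchurMultiplier G A) (hB : Cfsg.HasSchurMultiplier U B) : ∃ C : Subgroup B, Nonempty ((powMonoidHom U.index : A →* A).range ≃* C) := by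
  classical
  -- a cover of G
  obtain ⟨S, hSn, hS⟩ := exists_cover G
  have hΓfin : Finite (Ehat G ⧸ S) := cover_finite G S hS
  set σ : Ehat G ⧸ S →* G := coverProj G S hS.le_ker with hσdef
  have hσ : Cfsg.IsStemExtension σ := coverProj_stem G S hS
  obtain ⟨eK⟩ := coverProj_ker_equiv G S hS
  obtain ⟨eA⟩ := equiv_multSub G hA
  let eAK : A ≃* σ.ker := eA.trans eK.symm
  -- the preimage of U
  set Us : Subgroup (Ehat G ⧸ S) := U.comap σ with hUs
  have hidx : Us.index = U.index := Subgroup.index_comap_of_surjective U hσ.1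
  rw [← hidx]
  set σU : Us →* U := σ.subgroupComap U with hσU
  have hσUapp : ∀ x : Us, ((σU x : U) : G) = σ (x : Ehat G ⧸ S) := fun x => rfl
  have hσUs : Function.Surjective σU := σ.subgroupComap_surjective_of_surjective U hσ.1
  have hkerU : ∀ x : Us, x ∈ σU.ker ↔ (x : Ehat G ⧸ S) ∈ σ.ker := by
    intro x
    rw [MonoidHom.mem_ker, MonoidHom.mem_ker, ← hσUapp]
    constructor
    · intro h; rw [h]; rfl
    · intro h; exact Subtype.ext h
  have hσUc : σU.ker ≤ Subgroup.center Us := by
    intro x hx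
    have hc : (x : Ehat G ⧸ S) ∈ Subgroup.center (Ehat G ⧸ S) := hσ.2.1 ((hkerU x).mp hx)
    rw [Subgroup.mem_center_iff]
    intro y
    apply Subtype.ext
    exact Subgroup.mem_center_iff.mp hc y
  obtain ⟨ψ, hψ⟩ := exists_lift U σU hσUs hσUc
  have hL2 := commutator_inf_ker_eq_map σU ψ hψ hσUc
  -- transfer
  have hfi : Us.FiniteIndex := inferInstance
  have key : ∀ k ∈ σ.ker, ∃ h : k ^ Us.index ∈ Us,
      (⟨k ^ Us.index, h⟩ : Us) ∈ (multSub U).map ψ := by
    intro k hk
    have hkc : k ∈ Subgroup.center (Ehat G ⧸ S) := hσ.2.1 hk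
    have hkcomm : ∀ g : Ehat G ⧸ S, g * k = k * g := fun g => Subgroup.mem_center_iff.mp hkc g
    have hkey : ∀ (j : ℕ) (g₀ : Ehat G ⧸ S), g₀⁻¹ * k ^ j * g₀ ∈ Us → g₀⁻¹ * k ^ j * g₀ = k ^ j := by
      intro j g₀ _
      have : g₀⁻¹ * k ^ j = k ^ j * g₀⁻¹ :=
        Subgroup.mem_center_iff.mp ((Subgroup.center _).pow_mem hkc j) g₀⁻¹
      rw [this, inv_mul_cancel_right]
    have htr := MonoidHom.transfer_eq_pow (Abelianization.of : Us →* Abelianization Us) k hkey
    have h1 : MonoidHom.transfer (Abelianization.of : Us →* Abelianization Us) k = 1 := by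
      have hkcomm' : k ∈ commutator (Ehat G ⧸ S) := hσ.2.2 hk
      have := Abelianization.commutator_subset_ker
        (MonoidHom.transfer (Abelianization.of : Us →* Abelianization Us)) hkcomm'
      exact this
    rw [h1] at htr
    have hmemU : k ^ Us.index ∈ Us := MonoidHom.transfer_eq_pow_aux k hkey
    refine ⟨hmemU, ?_⟩
    rw [← hL2]
    have hm1 : (⟨k ^ Us.index, hmemU⟩ : Us) ∈ commutator Us := by
      rw [← Abelianization.ker_of, MonoidHom.mem_ker]
      exact htr.symm
    have hm2 : (⟨k ^ Us.index, hmemU⟩ : Us) ∈ σU.ker := by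
      rw [hkerU]
      exact Subgroup.pow_mem _ hk _
    exact Subgroup.mem_inf.mpr ⟨hm1, hm2⟩
  -- B' and its commutative group structure
  set B' : Subgroup Us := (multSub U).map ψ with hB'
  have hB'c : B' ≤ Subgroup.center Us := by
    rw [← hL2]
    exact inf_le_right.trans hσUc
  letI : CommGroup B' :=
    { (inferInstance : Group B') with
      mul_comm := fun a b => Subtype.ext (Subgroup.mem_center_iff.mp (hB'c b.2) a.1) }
  have hUsfin : Finite Us := inferInstance
  have hB'fin : Finite B' := inferInstance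
  -- θ : σ.ker → B'
  let θ : σ.ker →* B' := MonoidHom.mk'
    (fun k => ⟨⟨(k : Ehat G ⧸ S) ^ Us.index, (key k.1 k.2).1⟩, (key k.1 k.2).2⟩) (by
      intro a b
      apply Subtype.ext
      apply Subtype.ext
      show ((a * b : σ.ker) : Ehat G ⧸ S) ^ Us.index = (a : Ehat G ⧸ S) ^ Us.index * (b : Ehat G ⧸ S) ^ Us.index
      have hb : (b : Ehat G ⧸ S) ∈ Subgroup.center (Ehat G ⧸ S) := hσ.2.1 b.2
      have hcomm : Commute (a : Ehat G ⧸ S) (b : Ehat G ⧸ S) :=
        Subgroup.mem_center_iff.mp hb a
      rw [Subgroup.coe_mul, hcomm.mul_pow])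
  have hθ : ∀ k : σ.ker, θ k = 1 ↔ (k : Ehat G ⧸ S) ^ Us.index = 1 := by
    intro k
    constructor
    · intro h
      have := congrArg (fun z : B' => ((z : Us) : Ehat G ⧸ S)) h
      exact this
    · intro h
      apply Subtype.ext
      apply Subtype.ext
      exact h
  -- surjection B → B'
  obtain ⟨eB⟩ := equiv_multSub U hB
  have hBfin : Finite B := Finite.of_equiv _ eB.symm.toEquiv
  let π' : B →* B' := (ψ.subgroupMap (multSub U)).comp eB.toMonoidHom
  have hπ' : Function.Surjective π' :=
    (ψ.subgroupMap_surjective (multSub U)).comp eB.surjective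
  obtain ⟨j, hj⟩ := exists_injective_of_surjective π' hπ'
  -- g : A → B
  let g : A →* B := j.comp (θ.comp eAK.toMonoidHom)
  have hgker : g.ker = (powMonoidHom Us.index : A →* A).ker := by
    ext a
    rw [MonoidHom.mem_ker, MonoidHom.mem_ker, powMonoidHom_apply]
    show j (θ (eAK a)) = 1 ↔ _
    rw [← map_one j, hj.eq_iff, hθ]
    constructor
    · intro h
      have h1 : eAK (a ^ Us.index) = 1 := by
        rw [map_pow]
        apply Subtype.ext
        simpa using h
      exact (MulEquiv.map_eq_one_iff eAK).mp h1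
    · intro h
      have h1 : eAK (a ^ Us.index) = 1 := by rw [h, map_one]
      rw [map_pow] at h1
      have := congrArg Subtype.val h1
      simpa using this
  refine ⟨g.range, ⟨?_⟩⟩
  exact ((QuotientGroup.quotientKerEquivRange (powMonoidHom Us.index : A →* A)).symm.trans
    (QuotientGroup.quotientMulEquivOfEq hgker.symm)).trans (QuotientGroup.quotientKerEquivRange g)

end Cfsg.Agent.S3954
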