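import Cfsg.Statements.S3955
import Cfsg.Agent.Lib.Helper65.ProjLift

set_option autoImplicit false
open Cfsg

namespace Cfsg.Agent.S3955

open Cfsg.Agent.Lib.Helper65

/-- Let `Q` be a finite group with Schur multiplier `A`, and let `σ : Γ →* Q` be a finite stem extension whose kernel is isomorphic to `A` (a Schur covering group of `Q`). Then every homomorphism `γ` from `Q` to the quotient of `GL n ℂ` by its centre lifts along `σ`: there is a homomorphism `ρ : Γ →* GL n ℂ` which, followed by the quotient map, equals `γ ∘ σ`. -/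
theorem result {Q : Type*} [Group Q] [Finite Q] {A : Type*} [CommGroup A] (hA : Cfsg.HasSchurMultiplier Q A) {Γ : Type*} [Group Γ] [Finite Γ] (σ : Γ →* Q) (hσ : Cfsg.IsStemExtension σ) (hk : Nonempty (σ.ker ≃* A)) (n : ℕ) (γ : Q →* (GL (Fin n) ℂ ⧸ Subgroup.center (GL (Fin n) ℂ))) : ∃ ρ : Γ →* GL (Fin n) ℂ, (QuotientGroup.mk' (Subgroup.center (GL (Fin n) ℂ))).comp ρ = γ.comp σ := by
  classical
  obtain ⟨ψ, hψ⟩ := exists_lift Q σ hσ.1 hσ.2.1
  have hsurj := lift_surjective_of_stem σ ψ hψ hσ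
  have hker := ker_eq_map_of_stem σ ψ hψ hσ
  obtain ⟨eA⟩ := equiv_multSub Q hA
  obtain ⟨ek⟩ := hk
  have hTK : ψ.ker ≤ (ehatProj Q).ker := by
    intro t ht
    rw [MonoidHom.mem_ker] at ht ⊢
    rw [← lift_apply σ ψ hψ, ht, map_one]
  -- restriction of ψ to M
  let r : multSub Q →* σ.ker := (ψ.comp (multSub Q).subtype).codRestrict _ (by
    intro m
    rw [hker]
    exact ⟨m, m.2, rfl⟩)
  have hr : Function.Surjective r := by
    rintro ⟨k, hk⟩
    have hk' := hk
    rw [hker] at hk'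
    obtain ⟨m, hm, hmk⟩ := hk'
    exact ⟨⟨m, hm⟩, Subtype.ext hmk⟩
  have hcard : Nat.card (multSub Q) = Nat.card σ.ker := by
    rw [Nat.card_congr ek.toEquiv, Nat.card_congr eA.toEquiv]
  have hrb : Function.Bijective r := (Nat.bijective_iff_surjective_and_card r).mpr ⟨hr, hcard⟩
  have hTM : ψ.ker ⊓ multSub Q = ⊥ := by
    rw [eq_bot_iff]
    intro x hx
    obtain ⟨hx1, hx2⟩ := Subgroup.mem_inf.mp hx
    rw [Subgroup.mem_bot]
    have h1 : r ⟨x, hx2⟩ = r 1 := by
      apply Subtype.ext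
      rw [map_one]
      exact hx1
    have := hrb.1 h1
    exact congrArg Subtype.val this
  obtain ⟨ρ1, hρ1k, hρ1⟩ := exists_proj_lift Q n γ ψ.ker hTK hTM
  refine ⟨ψ.liftOfSurjective hsurj ⟨ρ1, hρ1k⟩, ?_⟩
  refine MonoidHom.ext fun x => ?_
  obtain ⟨e, rfl⟩ := hsurj x
  rw [MonoidHom.comp_apply, MonoidHom.comp_apply, MonoidHom.liftOfRightInverse_comp_apply, hρ1,
    lift_apply σ ψ hψ]

end Cfsg.Agent.S3955
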