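import Cfsg.Statements.S3956
import Cfsg.Agent.Lib.Helper65.SchurCover
import Cfsg.Agent.Lib.Helper65.LiftInj

set_option autoImplicit false
open Cfsg

universe u v

namespace Cfsg.Agent.S3956

open Cfsg.Agent.Lib.Helper65

/-- Let `σ : Γ →* Q` be a finite stem extension of the finite group `Q` such that every homomorphism from `Q` to the quotient of `GL n ℂ` by its centre, for every `n`, lifts along `σ` to a homomorphism `Γ →* GL n ℂ`. Then `σ` is a Schur covering group of `Q`: for every finite stem extension `τ : Δ →* Q` with `Δ` in the same universe as `Q`, the kernel of `τ` is a homomorphic image of the kernel of `σ`. -/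
theorem result {Q : Type u} [Group Q] [Finite Q] {Γ : Type v} [Group Γ] [Finite Γ] (σ : Γ →* Q) (hσ : Cfsg.IsStemExtension σ) (hlift : ∀ (n : ℕ) (γ : Q →* (GL (Fin n) ℂ ⧸ Subgroup.center (GL (Fin n) ℂ))), ∃ ρ : Γ →* GL (Fin n) ℂ, (QuotientGroup.mk' (Subgroup.center (GL (Fin n) ℂ))).comp ρ = γ.comp σ) (Δ : Type u) [Group Δ] [Finite Δ] (τ : Δ →* Q) (hτ : Cfsg.IsStemExtension τ) : ∃ π : σ.ker →* τ.ker, Function.Surjective π := by
  classical
  obtain ⟨S, hSn, hS, β, hβs, hβ⟩ := exists_cover_over Q σ hσ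
  have hfin := cover_finite Q S hS
  have hinj := injective_of_proj_lift (coverProj Q S hS.le_ker) (coverProj_stem Q S hS) σ hlift β hβ
  let βe : (Ehat Q ⧸ S) ≃* Γ := MulEquiv.ofBijective β ⟨hinj, hβs⟩
  have hβe : ∀ g, β (βe.symm g) = g := fun g => βe.apply_symm_apply g
  obtain ⟨eK⟩ := coverProj_ker_equiv Q S hS
  obtain ⟨π0, hπ0⟩ := exists_surj_of_stem Q τ hτ
  let f : σ.ker →* (coverProj Q S hS.le_ker).ker :=
    (βe.symm.toMonoidHom.comp σ.ker.subtype).codRestrict _ (by
      intro k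
      rw [MonoidHom.mem_ker, ← hβ, MonoidHom.comp_apply]
      show σ (β (βe.symm (k : Γ))) = 1
      rw [hβe]
      exact k.2)
  have hf : Function.Surjective f := by
    rintro ⟨y, hy⟩
    have hk : β y ∈ σ.ker := by
      rw [MonoidHom.mem_ker, ← MonoidHom.comp_apply, hβ]
      exact hy
    refine ⟨⟨β y, hk⟩, Subtype.ext ?_⟩
    show βe.symm (β y) = y
    exact βe.symm_apply_apply y
  exact ⟨π0.comp (eK.toMonoidHom.comp f), hπ0.comp (eK.surjective.comp hf)⟩

end Cfsg.Agent.S3956
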