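import Cfsg.Statements.S3958
import Cfsg.Agent.Lib.Helper65.SchurCover

set_option autoImplicit false
universe u v
open Cfsg

namespace Cfsg.Agent.S3958

open Cfsg.Agent.Lib.Helper65

theorem map_commutator_of_surjective {G H : Type*} [Group G] [Group H] (f : G →* H)
    (hf : Function.Surjective f) : (commutator G).map f = commutator H := by
  rw [commutator_def, Subgroup.map_commutator, ← MonoidHom.range_eq_map,
    MonoidHom.range_eq_top.mpr hf, ← commutator_def]

/-- Let `σ : Γ →* Q` be a finite stem extension of the finite group `Q` with `Γ` of trivial Schur multiplier. Then `σ` is a Schur covering group of `Q`: for every finite stem extension `τ : Δ →* Q` with `Δ` in the same universe as `Q`, the kernel of `τ` is a homomorphic image of the kernel of `σ`. -/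
theorem result {Q : Type u} [Group Q] [Finite Q] {Γ : Type v} [Group Γ] [Finite Γ] (σ : Γ →* Q) (hσ : Cfsg.IsStemExtension σ) (hΓ : Cfsg.HasCyclicSchurMultiplier Γ 1) (Δ : Type u) [Group Δ] [Finite Δ] (τ : Δ →* Q) (hτ : Cfsg.IsStemExtension τ) : ∃ π : σ.ker →* τ.ker, Function.Surjective π := by
  -- step 1: the multiplier subgroup of Γ is trivial
  obtain ⟨e⟩ := equiv_multSub Γ hΓ
  have hMbot : multSub Γ = ⊥ := by
    rw [eq_bot_iff]
    intro x hx
    have h1 : (⟨x, hx⟩ : multSub Γ) = 1 := by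
      have : Subsingleton (multSub Γ) := e.symm.toEquiv.subsingleton
      exact Subsingleton.elim _ _
    exact congrArg Subtype.val h1
  -- step 2: the pullback
  set E : Subgroup (Γ × Δ) :=
    (σ.comp (MonoidHom.fst Γ Δ)).eqLocus (τ.comp (MonoidHom.snd Γ Δ)) with hE
  have hEmem : ∀ x : Γ × Δ, x ∈ E ↔ σ x.1 = τ x.2 := fun x => Iff.rfl
  set p1 : E →* Γ := (MonoidHom.fst Γ Δ).comp E.subtype with hp1
  set p2 : E →* Δ := (MonoidHom.snd Γ Δ).comp E.subtype with hp2
  have hp1s : Function.Surjective p1 := by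
    intro γ
    obtain ⟨δ, hδ⟩ := hτ.1 (σ γ)
    exact ⟨⟨(γ, δ), (hEmem _).mpr hδ.symm⟩, rfl⟩
  have hp2s : Function.Surjective p2 := by
    intro δ
    obtain ⟨γ, hγ⟩ := hσ.1 (τ δ)
    exact ⟨⟨(γ, δ), (hEmem _).mpr hγ⟩, rfl⟩
  have hrel : ∀ x : E, σ (p1 x) = τ (p2 x) := fun x => (hEmem x.1).mp x.2
  have hp1c : p1.ker ≤ Subgroup.center E := by
    intro x hx
    have hx1 : (x : Γ × Δ).1 = 1 := hx
    have hx2 : (x : Γ × Δ).2 ∈ Subgroup.center Δ := by
      apply hτ.2.1
      rw [MonoidHom.mem_ker]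
      have := hrel x
      rw [show p1 x = (x : Γ × Δ).1 from rfl, hx1, map_one] at this
      exact this.symm
    rw [Subgroup.mem_center_iff]
    intro y
    apply Subtype.ext
    apply Prod.ext
    · show (y : Γ × Δ).1 * (x : Γ × Δ).1 = (x : Γ × Δ).1 * (y : Γ × Δ).1
      rw [hx1, mul_one, one_mul]
    · show (y : Γ × Δ).2 * (x : Γ × Δ).2 = (x : Γ × Δ).2 * (y : Γ × Δ).2
      exact Subgroup.mem_center_iff.mp hx2 _
  -- step 3: lift
  obtain ⟨ψ, hψ⟩ := exists_lift Γ p1 hp1s hp1c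
  have hinf : commutator E ⊓ p1.ker = ⊥ := by
    rw [commutator_inf_ker_eq_map p1 ψ hψ hp1c, hMbot, Subgroup.map_bot]
  -- step 4
  set W : Subgroup E := commutator E ⊓ (σ.comp p1).ker with hW
  let f1 : W →* σ.ker := (p1.comp W.subtype).codRestrict σ.ker (by
    intro w
    have : (w : E) ∈ (σ.comp p1).ker := w.2.2
    exact this)
  let f2 : W →* τ.ker := (p2.comp W.subtype).codRestrict τ.ker (by
    intro w
    have h1 : (w : E) ∈ (σ.comp p1).ker := w.2.2
    rw [MonoidHom.mem_ker, MonoidHom.comp_apply] at h1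
    show p2 (w : E) ∈ τ.ker
    rw [MonoidHom.mem_ker, ← hrel, h1])
  have hf1inj : Function.Injective f1 := by
    rw [injective_iff_map_eq_one]
    intro w hw
    have h1 : p1 (w : E) = 1 := congrArg Subtype.val hw
    have h2 : (w : E) ∈ commutator E ⊓ p1.ker := ⟨w.2.1, h1⟩
    rw [hinf] at h2
    exact Subtype.ext h2
  have hf1surj : Function.Surjective f1 := by
    rintro ⟨γ, hγ⟩
    have h1 : γ ∈ commutator Γ := hσ.2.2 hγ
    rw [← map_commutator_of_surjective p1 hp1s] at h1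
    obtain ⟨x, hx, hxγ⟩ := h1
    refine ⟨⟨x, hx, ?_⟩, Subtype.ext hxγ⟩
    show x ∈ (σ.comp p1).ker
    rw [MonoidHom.mem_ker, MonoidHom.comp_apply, hxγ]
    exact hγ
  have hf2surj : Function.Surjective f2 := by
    rintro ⟨t, ht⟩
    have h1 : t ∈ commutator Δ := hτ.2.2 ht
    rw [← map_commutator_of_surjective p2 hp2s] at h1
    obtain ⟨x, hx, hxt⟩ := h1
    refine ⟨⟨x, hx, ?_⟩, Subtype.ext hxt⟩
    show x ∈ (σ.comp p1).ker
    rw [MonoidHom.mem_ker, MonoidHom.comp_apply, hrel, hxt]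
    exact ht
  let e1 : W ≃* σ.ker := MulEquiv.ofBijective f1 ⟨hf1inj, hf1surj⟩
  exact ⟨f2.comp e1.symm.toMonoidHom, hf2surj.comp e1.symm.surjective⟩

end Cfsg.Agent.S3958
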