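import Cfsg.Statements.S3959
import Cfsg.Agent.Lib.Helper65.ProdMultUpper

set_option autoImplicit false
universe u v w
open Cfsg

namespace Cfsg.Agent.S3959

open Cfsg.Agent.Lib.Helper65

/-- Let `Q₁` and `Q₂` be finite groups with Schur multipliers `A` and `B`. Then the Schur multiplier of `Q₁ × Q₂` is isomorphic to `A × B × (Q₁ᵃᵇ ⊗ Q₂ᵃᵇ)`, the last factor being the tensor product over the integers of the commutator quotients, written multiplicatively. -/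
theorem result {Q₁ : Type u} {Q₂ : Type v} [Group Q₁] [Group Q₂] [Finite Q₁] [Finite Q₂] {A B : Type w} [CommGroup A] [CommGroup B] (hA : Cfsg.HasSchurMultiplier Q₁ A) (hB : Cfsg.HasSchurMultiplier Q₂ B) : Cfsg.HasSchurMultiplier (Q₁ × Q₂) (A × B × Multiplicative (TensorProduct ℤ (Additive (Abelianization Q₁)) (Additive (Abelianization Q₂)))) := by
  constructor
  · obtain ⟨Γ₁, _, _, σ₁, hσ₁, ⟨e₁⟩⟩ := hA.1
    obtain ⟨Γ₂, _, _, σ₂, hσ₂, ⟨e₂⟩⟩ := hB.1
    refine ⟨ProdExt σ₁ σ₂, inferInstance, inferInstance, prodProj σ₁ σ₂,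
      prodProj_stem σ₁ σ₂ hσ₁ hσ₂, ⟨?_⟩⟩
    exact (prodKerEquiv σ₁ σ₂).trans
      (MulEquiv.prodCongr e₁ (MulEquiv.prodCongr e₂ (MulEquiv.refl _)))
  · intro Γ _ _ σ hσ
    obtain ⟨π, hπ⟩ := exists_surj_prod σ hσ
    obtain ⟨eA⟩ := equiv_multSub Q₁ hA
    obtain ⟨eB⟩ := equiv_multSub Q₂ hB
    let e := MulEquiv.prodCongr eA (MulEquiv.prodCongr eB
      (MulEquiv.refl (Multiplicative (AbT Q₁ Q₂))))
    exact ⟨π.comp e.toMonoidHom, hπ.comp e.surjective⟩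

end Cfsg.Agent.S3959
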