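import Cfsg.Statements.S3960
import Cfsg.Agent.Lib.Helper65.FreeCover

set_option autoImplicit false
universe u
open Cfsg

namespace Cfsg.Agent.S3960

open Cfsg.Agent.Lib.Helper65
open scoped commutatorElement

/-- A finite perfect group `Q` has a universal central extension: a finite perfect group `G` in the universe of `Q` and a surjective homomorphism `π : G →* Q` with central kernel such that for every group `X` in that universe and every surjective homomorphism `ξ : X →* Q` with central kernel there is exactly one homomorphism `η : G →* X` with `ξ ∘ η = π`. -/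
theorem result {Q : Type u} [Group Q] [Finite Q] (hQ : Group.IsPerfect Q) : ∃ (G : Type u) (_ : Group G) (_ : Finite G) (π : G →* Q), Group.IsPerfect G ∧ Function.Surjective π ∧ π.ker ≤ Subgroup.center G ∧ ∀ (X : Type u) [Group X] (ξ : X →* Q), Function.Surjective ξ → ξ.ker ≤ Subgroup.center X → ∃! η : G →* X, ξ.comp η = π := by
  set D : Subgroup (Ehat Q) := commutator (Ehat Q) with hD
  have hDn : D.Normal := by rw [hD]; infer_instance
  -- (1) the image of D is everything
  have h1 : D.map (ehatProj Q) = ⊤ := by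
    rw [hD, commutator_def, Subgroup.map_commutator, ← MonoidHom.range_eq_map,
      MonoidHom.range_eq_top.mpr (ehatProj_surjective Q), ← commutator_def, hQ.commutator_eq_top]
  have h1' : ∀ q : Q, ∃ d ∈ D, ehatProj Q d = q := by
    intro q
    have : q ∈ D.map (ehatProj Q) := h1 ▸ Subgroup.mem_top q
    obtain ⟨d, hd, rfl⟩ := this
    exact ⟨d, hd, rfl⟩
  -- (2) decomposition
  have h2 : ∀ e : Ehat Q, ∃ d ∈ D, ∃ k ∈ Subgroup.center (Ehat Q), e = d * k := by
    intro e
    obtain ⟨d, hd, hde⟩ := h1' (ehatProj Q e)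
    refine ⟨d, hd, d⁻¹ * e, ?_, by group⟩
    apply ehatProj_ker_le_center Q
    rw [MonoidHom.mem_ker, map_mul, map_inv, hde, inv_mul_cancel]
  -- (3) D is perfect
  have h3 : ⁅D, D⁆ = D := by
    apply le_antisymm (Subgroup.commutator_le_left D D)
    rw [hD, commutator_def, Subgroup.commutator_le]
    intro a _ b _
    obtain ⟨d1, hd1, k1, hk1, rfl⟩ := h2 a
    obtain ⟨d2, hd2, k2, hk2, rfl⟩ := h2 b
    rw [commutatorElement_mul_central d1 d2 k1 k2 hk1 hk2]
    exact Subgroup.commutator_mem_commutator hd1 hd2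
  have hperf : Group.IsPerfect D := Subgroup.isPerfect_iff.mpr h3
  set π : D →* Q := (ehatProj Q).comp D.subtype with hπ
  have hfin : Finite D := by rw [hD]; infer_instance
  refine ⟨D, inferInstance, hfin, π, hperf, ?_, ?_, ?_⟩
  · intro q
    obtain ⟨d, hd, hdq⟩ := h1' q
    exact ⟨⟨d, hd⟩, hdq⟩
  · intro x hx
    have hx' : (x : Ehat Q) ∈ (ehatProj Q).ker := hx
    have hc := ehatProj_ker_le_center Q hx'
    rw [Subgroup.mem_center_iff]
    intro y
    apply Subtype.ext
    exact Subgroup.mem_center_iff.mp hc y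
  · intro X _ ξ hξs hξc
    obtain ⟨ψ, hψ⟩ := exists_lift Q ξ hξs hξc
    refine ⟨ψ.comp D.subtype, ?_, ?_⟩
    · show ξ.comp (ψ.comp D.subtype) = π
      rw [← MonoidHom.comp_assoc, hψ]
    · intro η' hη'
      set η := ψ.comp D.subtype with hη
      have hη0 : ξ.comp η = π := by rw [hη, ← MonoidHom.comp_assoc, hψ]
      have hker : ∀ g : D, η' g * (η g)⁻¹ ∈ Subgroup.center X := by
        intro g
        apply hξc
        rw [MonoidHom.mem_ker, map_mul, map_inv, ← MonoidHom.comp_apply, ← MonoidHom.comp_apply,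
          hη', hη0, mul_inv_cancel]
      let δ : D →* X := MonoidHom.mk' (fun g => η' g * (η g)⁻¹) (by
        intro a b
        have hb := Subgroup.mem_center_iff.mp (hker b)
        simp only [map_mul, mul_inv_rev]
        calc η' a * η' b * ((η b)⁻¹ * (η a)⁻¹) = η' a * (η' b * (η b)⁻¹) * (η a)⁻¹ := by group
          _ = (η' b * (η b)⁻¹) * η' a * (η a)⁻¹ := by rw [hb (η' a)]
          _ = η' a * (η' b * (η b)⁻¹) * (η a)⁻¹ := by rw [hb (η' a)]
          _ = η' a * ((η a)⁻¹ * (η' b * (η b)⁻¹)) := by rw [mul_assoc, hb ((η a)⁻¹)]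
          _ = η' a * (η a)⁻¹ * (η' b * (η b)⁻¹) := by group)
      have hδ : ∀ g, δ g = η' g * (η g)⁻¹ := fun g => rfl
      have hδtriv : δ.ker = ⊤ := by
        rw [eq_top_iff, ← hperf.commutator_eq_top, commutator_def, Subgroup.commutator_le]
        intro a _ b _
        rw [MonoidHom.mem_ker, map_commutatorElement, commutatorElement_def]
        have ha := Subgroup.mem_center_iff.mp (hker a)
        rw [hδ a, ← ha (δ b)]
        group
      refine MonoidHom.ext fun g => ?_
      have : δ g = 1 := by
        have : g ∈ δ.ker := hδtriv ▸ Subgroup.mem_top g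
        exact this
      rw [hδ] at this
      exact mul_inv_eq_one.mp this

end Cfsg.Agent.S3960
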