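import Cfsg.Statements.S3963
import Mathlib
import Cfsg.Agent.Lib.Helper66.Schur
import Cfsg.Agent.Lib.Helper66.DihedralType

set_option autoImplicit false
open Cfsg

namespace Cfsg.Agent.S3963

open Cfsg.Agent.Lib.Helper66 QuaternionGroup

theorem a_pow' (n : ℕ) (i : ZMod (2 * n)) (k : ℕ) :
    (QuaternionGroup.a i : QuaternionGroup n) ^ k = QuaternionGroup.a (i * (k : ZMod (2 * n))) := by
  induction k with
  | zero => simp
  | succ k ih =>
    rw [pow_succ, ih, QuaternionGroup.a_mul_a]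
    congr 1
    push_cast; ring

theorem a_inv' (n : ℕ) (i : ZMod (2 * n)) :
    (QuaternionGroup.a i : QuaternionGroup n)⁻¹ = QuaternionGroup.a (-i) := by
  rw [inv_eq_iff_mul_eq_one]
  simp

theorem a_zpow' (n : ℕ) (i : ZMod (2 * n)) (k : ℤ) :
    (QuaternionGroup.a i : QuaternionGroup n) ^ k = QuaternionGroup.a (i * (k : ZMod (2 * n))) := by
  cases k with
  | ofNat k => simp [a_pow']
  | negSucc k =>
    rw [zpow_negSucc, a_pow', a_inv']
    congr 1
    push_cast; ring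

theorem closure_gens (n : ℕ) [NeZero n] :
    Subgroup.closure ({QuaternionGroup.a (1 : ZMod (2 * n)), QuaternionGroup.xa (0 : ZMod (2 * n))} : Set (QuaternionGroup n)) = ⊤ := by
  rw [eq_top_iff]
  have hr : ∀ i : ZMod (2 * n), QuaternionGroup.a i ∈ Subgroup.closure ({QuaternionGroup.a (1 : ZMod (2 * n)), QuaternionGroup.xa (0 : ZMod (2 * n))} : Set (QuaternionGroup n)) := by
    intro i
    have h1 : QuaternionGroup.a i = (QuaternionGroup.a (1 : ZMod (2 * n))) ^ i.val := by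
      rw [a_pow', one_mul, ZMod.natCast_zmod_val]
    rw [h1]
    exact Subgroup.pow_mem _ (Subgroup.subset_closure (by simp)) _
  rintro (i | i) _
  · exact hr i
  · have : QuaternionGroup.xa i = QuaternionGroup.xa (0 : ZMod (2 * n)) * QuaternionGroup.a i := by simp
    rw [this]
    exact Subgroup.mul_mem _ (Subgroup.subset_closure (by simp)) (hr i)

/-- For every `n ≥ 1` the dicyclic (generalized quaternion) group of order `4 n` has trivial Schur multiplier. -/
theorem result (n : ℕ) [NeZero n] : Cfsg.HasCyclicSchurMultiplier (QuaternionGroup n) 1 := by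
  have h2n : ((n : ZMod (2 * n)) + n) = 0 := by
    rw [← Nat.cast_add, ← two_mul]
    exact ZMod.natCast_self (2 * n)
  apply trivialMultiplier_of_forall_ker_eq_bot
  intro Γ _ _ σ hσ
  obtain ⟨α, hα⟩ := hσ.1 (QuaternionGroup.a (1 : ZMod (2 * n)))
  obtain ⟨β, hβ⟩ := hσ.1 (QuaternionGroup.xa (0 : ZMod (2 * n)))
  have hxinv : (QuaternionGroup.xa (0 : ZMod (2 * n)))⁻¹ = QuaternionGroup.xa (n : ZMod (2 * n)) := by
    rw [inv_eq_iff_mul_eq_one]
    simp [h2n]
  set z0 : Γ := α * β * α * β⁻¹ with hz0def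
  have hz0 : z0 ∈ σ.ker := by
    rw [MonoidHom.mem_ker, hz0def]
    simp only [map_mul, map_inv, hα, hβ, hxinv]
    simp [h2n]
  have hrel : β * α * β⁻¹ = α⁻¹ * z0 := by rw [hz0def]; group
  have hgen : Subgroup.closure {α, β} ⊔ σ.ker = ⊤ := by
    apply closure_sup_ker_eq_top
    rw [Set.image_pair, hα, hβ]
    exact closure_gens n
  have hcen : ∀ z ∈ σ.ker, ∀ g : Γ, g * z = z * g := fun z hz => Subgroup.mem_center_iff.mp (hσ.2.1 hz)
  have key := dihedralType_ker σ.ker hσ.2.1 hσ.2.2 α β z0 hz0 hrel hgen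
  -- β ^ 2 = α ^ n modulo the kernel
  set z1 : Γ := (α ^ n)⁻¹ * (β * β) with hz1def
  have hz1 : z1 ∈ σ.ker := by
    rw [MonoidHom.mem_ker, hz1def]
    simp only [map_mul, map_inv, map_pow, hα, hβ, a_pow', a_inv']
    simp
  have hαn : α ^ n = (β * β) * z1⁻¹ := by rw [hz1def]; group
  have hfix : β * α ^ n * β⁻¹ = α ^ n := by
    rw [hαn]
    have : z1⁻¹ ∈ σ.ker := σ.ker.inv_mem hz1
    calc β * (β * β * z1⁻¹) * β⁻¹ = β * β * (β * z1⁻¹) * β⁻¹ := by group
      _ = β * β * (z1⁻¹ * β) * β⁻¹ := by rw [hcen _ this β]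
      _ = β * β * z1⁻¹ := by group
  have hstar := dihedralType_star α β z0 (hcen z0 hz0) hrel n hfix
  have hcn := dihedralType_c_pow α z0 (hcen z0 hz0) n hstar
  rw [Subgroup.eq_bot_iff_forall]
  intro z hz
  obtain ⟨⟨k, hk⟩, -⟩ := key z hz
  have hσc : σ ((α ^ 2)⁻¹ * z0) = QuaternionGroup.a (-2 : ZMod (2 * n)) := by
    rw [map_mul, MonoidHom.mem_ker.mp hz0, map_inv, map_pow, hα, a_pow', a_inv']
    simp
  have h1 : σ z = 1 := MonoidHom.mem_ker.mp hz
  rw [← hk, map_zpow, hσc, a_zpow', QuaternionGroup.one_def] at h1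
  have h2 : ((-2 : ZMod (2 * n)) * (k : ZMod (2 * n))) = 0 := by
    injection h1
  have h3 : (((-2 * k : ℤ)) : ZMod (2 * n)) = 0 := by
    push_cast; exact h2
  rw [ZMod.intCast_zmod_eq_zero_iff_dvd] at h3
  have h4 : (n : ℤ) ∣ k := by
    obtain ⟨m, hm⟩ := h3
    refine ⟨-m, ?_⟩
    push_cast at hm
    linarith
  obtain ⟨j, hj⟩ := h4
  rw [← hk, hj, zpow_mul, zpow_natCast, hcn, one_zpow]

end Cfsg.Agent.S3963
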