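import Cfsg.Statements.S3964
import Mathlib
import Cfsg.Agent.Lib.Helper66.Schur
import Cfsg.Agent.Lib.Helper66.DihedralType

set_option autoImplicit false
open Cfsg

namespace Cfsg.Agent.S3964

open Cfsg.Agent.Lib.Helper66 DihedralGroup

theorem closure_gens (n : ℕ) [NeZero n] :
    Subgroup.closure ({DihedralGroup.r (1 : ZMod n), DihedralGroup.sr (0 : ZMod n)} : Set (DihedralGroup n)) = ⊤ := by
  rw [eq_top_iff]
  have hr : ∀ i : ZMod n, DihedralGroup.r i ∈ Subgroup.closure ({DihedralGroup.r (1 : ZMod n), DihedralGroup.sr (0 : ZMod n)} : Set (DihedralGroup n)) := by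
    intro i
    have h1 : DihedralGroup.r i = (DihedralGroup.r (1 : ZMod n)) ^ i.val := by
      rw [DihedralGroup.r_pow, one_mul, ZMod.natCast_zmod_val]
    rw [h1]
    exact Subgroup.pow_mem _ (Subgroup.subset_closure (by simp)) _
  rintro (i | i) _
  · exact hr i
  · have : DihedralGroup.sr i = DihedralGroup.sr (0 : ZMod n) * DihedralGroup.r i := by simp
    rw [this]
    exact Subgroup.mul_mem _ (Subgroup.subset_closure (by simp)) (hr i)

/-- For odd `n` the dihedral group of order `2 n` has trivial Schur multiplier. -/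
theorem result (n : ℕ) (hn : Odd n) : Cfsg.HasCyclicSchurMultiplier (DihedralGroup n) 1 := by
  have hn0 : NeZero n := ⟨by rintro rfl; simp at hn⟩
  apply trivialMultiplier_of_forall_ker_eq_bot
  intro Γ _ _ σ hσ
  obtain ⟨α, hα⟩ := hσ.1 (DihedralGroup.r (1 : ZMod n))
  obtain ⟨β, hβ⟩ := hσ.1 (DihedralGroup.sr (0 : ZMod n))
  set z0 : Γ := α * β * α * β⁻¹ with hz0def
  have hz0 : z0 ∈ σ.ker := by
    rw [MonoidHom.mem_ker, hz0def]
    simp [hα, hβ]
  have hrel : β * α * β⁻¹ = α⁻¹ * z0 := by rw [hz0def]; group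
  have hgen : Subgroup.closure {α, β} ⊔ σ.ker = ⊤ := by
    apply closure_sup_ker_eq_top
    rw [Set.image_pair, hα, hβ]
    exact closure_gens n
  have hcen : ∀ z ∈ σ.ker, ∀ g : Γ, g * z = z * g := fun z hz => Subgroup.mem_center_iff.mp (hσ.2.1 hz)
  have key := dihedralType_ker σ.ker hσ.2.1 hσ.2.2 α β z0 hz0 hrel hgen
  -- α ^ n is in the kernel
  have hαn : α ^ n ∈ σ.ker := by
    rw [MonoidHom.mem_ker, map_pow, hα, DihedralGroup.r_pow]
    simp
  have hfix : β * α ^ n * β⁻¹ = α ^ n := by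
    rw [hcen _ hαn β]; group
  have hstar := dihedralType_star α β z0 (hcen z0 hz0) hrel n hfix
  have hcn := dihedralType_c_pow α z0 (hcen z0 hz0) n hstar
  rw [Subgroup.eq_bot_iff_forall]
  intro z hz
  obtain ⟨⟨k, hk⟩, -⟩ := key z hz
  have hσc : σ ((α ^ 2)⁻¹ * z0) = DihedralGroup.r (-2 : ZMod n) := by
    rw [map_mul, MonoidHom.mem_ker.mp hz0, map_inv, map_pow, hα]
    simp
  have h1 : σ z = 1 := MonoidHom.mem_ker.mp hz
  rw [← hk, map_zpow, hσc, DihedralGroup.r_zpow, DihedralGroup.one_def] at h1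
  have h2 : ((-2 : ZMod n) * (k : ZMod n)) = 0 := by
    injection h1
  have h3 : (((-2 * k : ℤ)) : ZMod n) = 0 := by
    push_cast; exact h2
  rw [ZMod.intCast_zmod_eq_zero_iff_dvd] at h3
  have hcop : IsCoprime (n : ℤ) (-2) := by
    have : IsCoprime (n : ℤ) 2 := by
      rw [Int.isCoprime_iff_gcd_eq_one]
      have := Nat.Coprime.symm (Nat.coprime_two_left.mpr hn)
      simpa [Int.gcd] using this
    exact this.neg_right
  have h4 : (n : ℤ) ∣ k := hcop.dvd_of_dvd_mul_left h3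
  obtain ⟨j, hj⟩ := h4
  rw [← hk, hj, zpow_mul, zpow_natCast, hcn, one_zpow]

end Cfsg.Agent.S3964
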