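import Cfsg.Statements.S3966
import Mathlib

set_option autoImplicit false
open Cfsg

namespace Cfsg.Agent.S3966

open QuaternionGroup DihedralGroup
open scoped commutatorElement

/-- reduction of `ZMod (2 * n)` to `ZMod n` -/
noncomputable def red (n : ℕ) : ZMod (2 * n) →+* ZMod n :=
  ZMod.castHom (Dvd.intro_left 2 rfl) (ZMod n)

theorem red_n (n : ℕ) : red n (n : ZMod (2 * n)) = 0 := by
  simp [red]

/-- the covering map -/
noncomputable def cover (n : ℕ) : QuaternionGroup n →* DihedralGroup n :=
  MonoidHom.mk' (fun x => match x with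
    | QuaternionGroup.a i => DihedralGroup.r (red n i)
    | QuaternionGroup.xa i => DihedralGroup.sr (red n i)) (by
    rintro (i | i) (j | j)
    · simp
    · simp
    · simp
    · simp)

theorem cover_a (n : ℕ) (i : ZMod (2 * n)) : cover n (QuaternionGroup.a i) = DihedralGroup.r (red n i) := rfl
theorem cover_xa (n : ℕ) (i : ZMod (2 * n)) : cover n (QuaternionGroup.xa i) = DihedralGroup.sr (red n i) := rfl

theorem red_surj (n : ℕ) : Function.Surjective (red n) :=
  ZMod.castHom_surjective _

theorem cover_surj (n : ℕ) : Function.Surjective (cover n) := by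
  rintro (j | j)
  · obtain ⟨i, rfl⟩ := red_surj n j
    exact ⟨QuaternionGroup.a i, rfl⟩
  · obtain ⟨i, rfl⟩ := red_surj n j
    exact ⟨QuaternionGroup.xa i, rfl⟩

theorem red_eq_zero (n : ℕ) [NeZero n] (i : ZMod (2 * n)) (h : red n i = 0) :
    i = 0 ∨ i = (n : ZMod (2 * n)) := by
  have hi : i = ((i.val : ℕ) : ZMod (2 * n)) := (ZMod.natCast_zmod_val i).symm
  have hlt : i.val < 2 * n := ZMod.val_lt i
  rw [hi, map_natCast, ZMod.natCast_eq_zero_iff] at h
  obtain ⟨k, hk⟩ := h
  have hn : 0 < n := NeZero.pos n
  have hk2 : k < 2 := by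
    by_contra hcon
    push Not at hcon
    have : n * 2 ≤ n * k := Nat.mul_le_mul_left n hcon
    omega
  interval_cases k
  · left
    rw [hi, hk]
    simp
  · right
    rw [hi, hk]
    simp

theorem mem_ker (n : ℕ) [NeZero n] (x : QuaternionGroup n) (hx : x ∈ (cover n).ker) :
    x = 1 ∨ x = QuaternionGroup.a (n : ZMod (2 * n)) := by
  rw [MonoidHom.mem_ker] at hx
  rcases x with i | i
  · rw [cover_a, DihedralGroup.one_def] at hx
    have h0 : red n i = 0 := by
      injection hx
    rcases red_eq_zero n i h0 with h | h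
    · left; rw [h]; rfl
    · right; rw [h]
  · rw [cover_xa, DihedralGroup.one_def] at hx
    cases hx

theorem a_n_central (n : ℕ) : QuaternionGroup.a (n : ZMod (2 * n)) ∈ Subgroup.center (QuaternionGroup n) := by
  rw [Subgroup.mem_center_iff]
  have h2 : ((n : ZMod (2 * n)) + n) = 0 := by
    rw [← Nat.cast_add, ← two_mul]
    exact ZMod.natCast_self (2 * n)
  rintro (j | j)
  · simp [add_comm]
  · simp only [QuaternionGroup.xa_mul_a, QuaternionGroup.a_mul_xa]
    congr 1
    have : (n : ZMod (2 * n)) = - n := by
      rw [eq_neg_iff_add_eq_zero]; exact h2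
    rw [sub_eq_add_neg, ← this]

theorem a_n_comm (n : ℕ) (hn : Even n) : QuaternionGroup.a (n : ZMod (2 * n)) ∈ commutator (QuaternionGroup n) := by
  obtain ⟨m, hm⟩ := hn
  have h := Subgroup.commutator_mem_commutator (H₁ := (⊤ : Subgroup (QuaternionGroup n))) (H₂ := ⊤)
    (Subgroup.mem_top (QuaternionGroup.xa (0 : ZMod (2 * n)))) (Subgroup.mem_top (QuaternionGroup.a (-(m : ZMod (2 * n)))))
  have e : ⁅QuaternionGroup.xa (0 : ZMod (2 * n)), QuaternionGroup.a (-(m : ZMod (2 * n)))⁆ = QuaternionGroup.a (n : ZMod (2 * n)) := by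
    rw [commutatorElement_def]
    have h2' : ((n : ZMod (2 * n)) + n) = 0 := by
      rw [← Nat.cast_add, ← two_mul]
      exact ZMod.natCast_self (2 * n)
    have hinv : (QuaternionGroup.xa (0 : ZMod (2 * n)))⁻¹ = QuaternionGroup.xa (n : ZMod (2 * n)) := by
      rw [inv_eq_iff_mul_eq_one]
      simp [h2']
    have hinv2 : (QuaternionGroup.a (-(m : ZMod (2 * n))))⁻¹ = QuaternionGroup.a (m : ZMod (2 * n)) := by
      rw [inv_eq_iff_mul_eq_one]
      simp
    rw [hinv, hinv2]
    simp only [QuaternionGroup.xa_mul_a, QuaternionGroup.xa_mul_xa, QuaternionGroup.a_mul_a]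
    congr 1
    have h2 : ((n : ZMod (2 * n)) + n) = 0 := by
      rw [← Nat.cast_add, ← two_mul]
      exact ZMod.natCast_self (2 * n)
    have hnm : (n : ZMod (2 * n)) = m + m := by
      rw [hm]; push_cast; ring
    rw [hnm] at h2 ⊢
    linear_combination h2
  rw [← e]
  exact h

/-- For even `n ≥ 2` the dicyclic group of order `4 n` is a stem extension of the dihedral group of order `2 n` with kernel of order `2`: there is a surjective homomorphism `QuaternionGroup n →* DihedralGroup n` whose kernel is central, lies in the commutator subgroup and has two elements. Together with the order of the multiplier this exhibits the dicyclic group as a Schur covering group of the dihedral group. -/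
theorem result (n : ℕ) [NeZero n] (hn : Even n) : ∃ σ : QuaternionGroup n →* DihedralGroup n, Cfsg.IsStemExtension σ ∧ Nat.card σ.ker = 2 := by
  refine ⟨cover n, ⟨cover_surj n, ?_, ?_⟩, ?_⟩
  · intro x hx
    rcases mem_ker n x hx with h | h
    · rw [h]; exact Subgroup.one_mem _
    · rw [h]; exact a_n_central n
  · intro x hx
    rcases mem_ker n x hx with h | h
    · rw [h]; exact Subgroup.one_mem _
    · rw [h]; exact a_n_comm n hn
  · have h1 := Subgroup.card_eq_card_quotient_mul_card_subgroup (cover n).ker
    have e := QuotientGroup.quotientKerEquivOfSurjective (cover n) (cover_surj n)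
    rw [Nat.card_congr e.toEquiv, Nat.card_eq_fintype_card, Nat.card_eq_fintype_card,
      QuaternionGroup.card, DihedralGroup.card] at h1
    have hn0 : 0 < n := NeZero.pos n
    have : 2 * n * 2 = 2 * n * Nat.card (cover n).ker := by omega
    exact (Nat.eq_of_mul_eq_mul_left (by omega) this).symm

end Cfsg.Agent.S3966
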