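import Cfsg.Statements.S3965
import Mathlib
import Cfsg.Agent.Lib.Helper66.DihedralType
import Cfsg.Agent.S3964
import Cfsg.Agent.S3966

set_option autoImplicit false
open Cfsg

namespace Cfsg.Agent.S3965

open Cfsg.Agent.Lib.Helper66 DihedralGroup

/-- a homomorphism from the cyclic group of order two determined by an involution -/
noncomputable def homOfSq {A : Type*} [Group A] (w : A) (hw : w * w = 1) : Multiplicative (ZMod 2) →* A :=
  MonoidHom.mk' (fun x => if Multiplicative.toAdd x = 0 then 1 else w) (by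
    intro a b
    have h01 : ∀ u : ZMod 2, u = 0 ∨ u = 1 := by decide
    have h10 : (1 : ZMod 2) ≠ 0 := by decide
    have h11 : ((1 : ZMod 2) + 1) = 0 := by decide
    have h2 : ∀ u v : ZMod 2,
        (if u + v = 0 then (1 : A) else w) = (if u = 0 then 1 else w) * (if v = 0 then 1 else w) := by
      intro u v
      rcases h01 u with rfl | rfl <;> rcases h01 v with rfl | rfl
      · simp
      · simp [h10]
      · simp [h10]
      · simp [h10, h11, hw]
    exact h2 (Multiplicative.toAdd a) (Multiplicative.toAdd b))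

theorem homOfSq_zero {A : Type*} [Group A] (w : A) (hw : w * w = 1) :
    homOfSq w hw (Multiplicative.ofAdd 0) = 1 := by
  simp [homOfSq]

theorem homOfSq_one {A : Type*} [Group A] (w : A) (hw : w * w = 1) :
    homOfSq w hw (Multiplicative.ofAdd 1) = w := by
  simp [homOfSq]

/-- For even `n ≥ 2` the dihedral group of order `2 n` has Schur multiplier cyclic of order `2`. -/
theorem result (n : ℕ) [NeZero n] (hn : Even n) : Cfsg.HasCyclicSchurMultiplier (DihedralGroup n) 2 := by
  constructor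
  · obtain ⟨σ, hσ, hcard⟩ := Cfsg.Agent.S3966.result n hn
    refine ⟨QuaternionGroup n, inferInstance, inferInstance, σ, hσ, ?_⟩
    have : Fact (Nat.Prime 2) := ⟨Nat.prime_two⟩
    have h2 : Nat.card (Multiplicative (ZMod 2)) = 2 := by
      simp
    exact ⟨mulEquivOfPrimeCardEq hcard h2⟩
  · intro Γ _ _ σ hσ
    obtain ⟨m, hm⟩ := hn
    obtain ⟨α, hα⟩ := hσ.1 (DihedralGroup.r (1 : ZMod n))
    obtain ⟨β, hβ⟩ := hσ.1 (DihedralGroup.sr (0 : ZMod n))
    set z0 : Γ := α * β * α * β⁻¹ with hz0def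
    have hz0 : z0 ∈ σ.ker := by
      rw [MonoidHom.mem_ker, hz0def]
      simp [hα, hβ]
    have hrel : β * α * β⁻¹ = α⁻¹ * z0 := by rw [hz0def]; group
    have hgen : Subgroup.closure {α, β} ⊔ σ.ker = ⊤ := by
      apply closure_sup_ker_eq_top
      rw [Set.image_pair, hα, hβ]
      exact Cfsg.Agent.S3964.closure_gens n
    have hcen : ∀ z ∈ σ.ker, ∀ g : Γ, g * z = z * g := fun z hz => Subgroup.mem_center_iff.mp (hσ.2.1 hz)
    have key := dihedralType_ker σ.ker hσ.2.1 hσ.2.2 α β z0 hz0 hrel hgen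
    have hαn : α ^ n ∈ σ.ker := by
      rw [MonoidHom.mem_ker, map_pow, hα, DihedralGroup.r_pow]
      simp
    have hfix : β * α ^ n * β⁻¹ = α ^ n := by
      rw [hcen _ hαn β]; group
    have hstar := dihedralType_star α β z0 (hcen z0 hz0) hrel n hfix
    have hcn := dihedralType_c_pow α z0 (hcen z0 hz0) n hstar
    set c : Γ := (α ^ 2)⁻¹ * z0 with hc
    have hσc : σ c = DihedralGroup.r (-2 : ZMod n) := by
      rw [hc, map_mul, MonoidHom.mem_ker.mp hz0, map_inv, map_pow, hα]
      simp
    have hnm : (n : ZMod n) = 0 := ZMod.natCast_self n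
    have hwker : c ^ m ∈ σ.ker := by
      rw [MonoidHom.mem_ker, map_pow, hσc, DihedralGroup.r_pow, DihedralGroup.one_def]
      congr 1
      have : (-2 : ZMod n) * (m : ZMod n) = - (n : ZMod n) := by
        rw [hm]; push_cast; ring
      rw [this, hnm, neg_zero]
    have hw2 : c ^ m * c ^ m = 1 := by
      rw [← pow_add, ← hm, hcn]
    let w : σ.ker := ⟨c ^ m, hwker⟩
    have hw : w * w = 1 := Subtype.ext hw2
    refine ⟨homOfSq w hw, ?_⟩
    rintro ⟨z, hz⟩
    obtain ⟨⟨k, hk⟩, -⟩ := key z hz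
    have h1 : σ z = 1 := MonoidHom.mem_ker.mp hz
    rw [← hk, map_zpow, hσc, DihedralGroup.r_zpow, DihedralGroup.one_def] at h1
    have h2 : ((-2 : ZMod n) * (k : ZMod n)) = 0 := by
      injection h1
    have h3 : (((-2 * k : ℤ)) : ZMod n) = 0 := by
      push_cast; exact h2
    rw [ZMod.intCast_zmod_eq_zero_iff_dvd] at h3
    have h4 : (m : ℤ) ∣ k := by
      obtain ⟨t, ht⟩ := h3
      refine ⟨-t, ?_⟩
      rw [hm] at ht
      push_cast at ht
      rw [add_mul] at ht
      have : k = -((m : ℤ) * t) := by linarith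
      rw [this]; ring
    obtain ⟨j, hj⟩ := h4
    have hz' : z = (c ^ m) ^ j := by
      rw [← hk, hj, zpow_mul, zpow_natCast]
    rcases Int.even_or_odd' j with ⟨i, hi | hi⟩
    · refine ⟨Multiplicative.ofAdd 0, ?_⟩
      rw [homOfSq_zero]
      apply Subtype.ext
      change (1 : Γ) = z
      rw [hz', hi, zpow_mul, zpow_two, hw2, one_zpow]
    · refine ⟨Multiplicative.ofAdd 1, ?_⟩
      rw [homOfSq_one]
      apply Subtype.ext
      change c ^ m = z
      rw [hz', hi, zpow_add, zpow_mul, zpow_two, hw2, one_zpow, one_mul, zpow_one]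

end Cfsg.Agent.S3965
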