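import Cfsg.Statements.S3967
import Cfsg.Agent.Lib.Helper65.MetacyclicMult

set_option autoImplicit false
open Cfsg

namespace Cfsg.Agent.S3967

open Cfsg.Agent.Lib.Helper65 Cfsg.Agent.Lib.Helper65.Metacyclic

/-- the relators -/
abbrev rels (m n r t : ℕ) : Set (FreeGroup Bool) :=
  {FreeGroup.of true ^ m, (FreeGroup.of false) ^ n * (FreeGroup.of true ^ t)⁻¹,
    FreeGroup.of false * FreeGroup.of true * (FreeGroup.of false)⁻¹ * (FreeGroup.of true ^ r)⁻¹}

section

variable (m n r t : ℕ)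

/-- the generator `a` -/
def ga : PresentedGroup (rels m n r t) := PresentedGroup.of true
/-- the generator `b` -/
def gb : PresentedGroup (rels m n r t) := PresentedGroup.of false

theorem ga_pow : ga m n r t ^ m = 1 := by
  have : PresentedGroup.mk (rels m n r t) (FreeGroup.of true ^ m) = 1 :=
    PresentedGroup.one_of_mem (by simp [rels])
  rwa [map_pow] at this

theorem gb_pow : gb m n r t ^ n = ga m n r t ^ t := by
  have : PresentedGroup.mk (rels m n r t)
      ((FreeGroup.of false) ^ n * (FreeGroup.of true ^ t)⁻¹) = 1 :=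
    PresentedGroup.one_of_mem (by simp [rels])
  rw [map_mul, map_inv, map_pow, map_pow, mul_inv_eq_one] at this
  exact this

theorem gbab : gb m n r t * ga m n r t * (gb m n r t)⁻¹ = ga m n r t ^ r := by
  have : PresentedGroup.mk (rels m n r t)
      (FreeGroup.of false * FreeGroup.of true * (FreeGroup.of false)⁻¹ *
        (FreeGroup.of true ^ r)⁻¹) = 1 :=
    PresentedGroup.one_of_mem (by simp [rels])
  rw [map_mul, map_inv, map_pow, map_mul, map_mul, map_inv, mul_inv_eq_one] at this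
  exact this

theorem hgen : Subgroup.closure {gb m n r t, ga m n r t} = ⊤ := by
  rw [← PresentedGroup.closure_range_of (rels m n r t)]
  congr 1
  ext x
  simp only [Set.mem_insert_iff, Set.mem_singleton_iff, Set.mem_range, Bool.exists_bool]
  constructor
  · rintro (rfl | rfl)
    · left; rfl
    · right; rfl
  · rintro (h | h)
    · left; exact h.symm
    · right; exact h.symm

/-- the map to `ZMod n` -/
noncomputable def chi : PresentedGroup (rels m n r t) →* Multiplicative (ZMod n) :=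
  PresentedGroup.toGroup (f := fun x : Bool => if x then 1 else Multiplicative.ofAdd 1) (by
    intro x hx
    simp only [rels, Set.mem_insert_iff, Set.mem_singleton_iff] at hx
    rcases hx with rfl | rfl | rfl
    · simp
    · simp only [map_mul, map_pow, FreeGroup.lift_apply_of, map_inv]
      simp only [Bool.false_eq_true, if_false, if_true, one_pow, inv_one, mul_one]
      rw [← ofAdd_nsmul]
      simp
    · simp only [map_mul, map_pow, FreeGroup.lift_apply_of, map_inv]
      simp)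

theorem chi_a : chi m n r t (ga m n r t) = 1 := by
  unfold chi ga
  rw [PresentedGroup.toGroup.of]
  simp

theorem chi_b : chi m n r t (gb m n r t) = Multiplicative.ofAdd 1 := by
  unfold chi gb
  rw [PresentedGroup.toGroup.of]
  simp

theorem hG2 (i j : ℤ) (h : ga m n r t ^ i * gb m n r t ^ j = 1) : (n : ℤ) ∣ j := by
  have := congrArg (chi m n r t) h
  rw [map_mul, map_zpow, map_zpow, chi_a, chi_b, one_zpow, one_mul, map_one (chi m n r t),
    ← ofAdd_zsmul] at this
  have h2 : (j : ZMod n) = 0 := by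
    have := congrArg Multiplicative.toAdd this
    simpa using this
  exact (ZMod.intCast_zmod_eq_zero_iff_dvd j n).1 h2

end

section

variable (P : Params)

/-- the map to the model -/
noncomputable def theta : PresentedGroup (rels P.M P.n P.R P.T) →* P.Q :=
  PresentedGroup.toGroup (f := fun x : Bool => if x then P.a else P.b) (by
    intro x hx
    simp only [rels, Set.mem_insert_iff, Set.mem_singleton_iff] at hx
    rcases hx with rfl | rfl | rfl
    · simp only [map_pow, FreeGroup.lift_apply_of]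
      simpa using P.a_pow_M
    · simp only [map_mul, map_pow, FreeGroup.lift_apply_of, map_inv]
      simp only [Bool.false_eq_true, if_false, if_true]
      rw [P.b_pow_n, mul_inv_cancel]
    · simp only [map_mul, map_pow, FreeGroup.lift_apply_of, map_inv]
      simp only [Bool.false_eq_true, if_false, if_true]
      rw [P.bab, mul_inv_cancel])

theorem theta_a : theta P (ga P.M P.n P.R P.T) = P.a := by
  unfold theta ga
  rw [PresentedGroup.toGroup.of]
  simp

theorem hG1P (k : ℤ) (h : ga P.M P.n P.R P.T ^ k = 1) : (P.M : ℤ) ∣ k := by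
  have := congrArg (theta P) h
  rw [map_zpow, theta_a, map_one] at this
  exact P.a_zpow_eq_one this

end

theorem hG1 (m n r t : ℕ) (hm : 0 < m) (hn : 0 < n) (hrn : r ^ n ≡ 1 [MOD m])
    (hT : t * r ≡ t [MOD m]) (k : ℤ) (h : ga m n r t ^ k = 1) : (m : ℤ) ∣ k := by
  obtain ⟨P, rfl, rfl, rfl, rfl⟩ : ∃ P : Params, P.M = m ∧ P.n = n ∧ P.R = r ∧ P.T = t :=
    ⟨⟨m, n, r, t, hm, hn, hrn, hT⟩, rfl, rfl, rfl, rfl⟩
  exact hG1P P k h

/-- Let `m, n ≥ 1`, `r ≥ 1` with `r ^ n ≡ 1 (mod m)`, and `l` a natural number; put `d = gcd(m, r - 1)`, `t = m l / d` and `h = d · gcd(m, 1 + r + ⋯ + r^(n-1)) / m`. The group presented by generators `a, b` and relations `a ^ m = 1`, `b ^ n = a ^ t`, `b a b⁻¹ = a ^ r` (a metacyclic group of order `m n`) has Schur multiplier cyclic of order `gcd(l, h)`. -/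
theorem result (m n r l : ℕ) (hm : 0 < m) (hn : 0 < n) (hr : 0 < r) (hrn : r ^ n ≡ 1 [MOD m]) : Cfsg.HasCyclicSchurMultiplier (PresentedGroup ({FreeGroup.of true ^ m, (FreeGroup.of false) ^ n * (FreeGroup.of true ^ (m * l / Nat.gcd m (r - 1)))⁻¹, FreeGroup.of false * FreeGroup.of true * (FreeGroup.of false)⁻¹ * (FreeGroup.of true ^ r)⁻¹} : Set (FreeGroup Bool))) (Nat.gcd l (Nat.gcd m (r - 1) * Nat.gcd m (∑ i ∈ Finset.range n, r ^ i) / m)) := by
  obtain ⟨s, d, m', s', rfl, hd, hd0, hm'0, hmd, hsd, hcop, hm'S, ht, hh⟩ :=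
    arith1 m n r hm hr hrn
  rw [ht l, hh]
  obtain ⟨Sg, hSg⟩ : ∃ Sg, Sg = ∑ i ∈ Finset.range n, (s + 1) ^ i := ⟨_, rfl⟩
  rw [← hSg] at hm'S ⊢
  obtain ⟨N, hN⟩ : ∃ N, N = Nat.gcd l (Nat.gcd d (Sg / m')) := ⟨_, rfl⟩
  rw [← hN]
  have hNl : N ∣ l := hN ▸ Nat.gcd_dvd_left _ _
  have hNh : N ∣ Nat.gcd d (Sg / m') := hN ▸ Nat.gcd_dvd_right _ _
  have hNd : N ∣ d := hNh.trans (Nat.gcd_dvd_left _ _)
  have hNq : N ∣ Sg / m' := hNh.trans (Nat.gcd_dvd_right _ _)
  have hN0 : 0 < N := by
    rw [hN]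
    exact Nat.gcd_pos_of_pos_right _ (Nat.gcd_pos_of_pos_left _ hd0)
  have hmNS : m' * N ∣ Sg := Nat.mul_dvd_of_dvd_div hm'S hNq
  have hT : m' * l * (s + 1) ≡ m' * l [MOD m] := by
    rw [mul_add, mul_one, add_comm]
    apply modEq_add_of_dvd
    rw [hmd, hsd]
    exact ⟨l * s', by ring⟩
  have hG1' := hG1 m n (s + 1) (m' * l) hm hn hrn hT
  have hgenG := hgen m n (s + 1) (m' * l)
  have hga := ga_pow m n (s + 1) (m' * l)
  have hgb := gb_pow m n (s + 1) (m' * l)
  have hgab := gbab m n (s + 1) (m' * l)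
  have hG2' := hG2 m n (s + 1) (m' * l)
  change Cfsg.HasSchurMultiplier (PresentedGroup (rels m n (s + 1) (m' * l))) _
  obtain ⟨a, ha⟩ : ∃ a, a = ga m n (s + 1) (m' * l) := ⟨_, rfl⟩
  obtain ⟨b, hb⟩ : ∃ b, b = gb m n (s + 1) (m' * l) := ⟨_, rfl⟩
  rw [← ha] at hG1' hgenG hga hgb hgab hG2'
  rw [← hb] at hgenG hgb hgab hG2'
  refine ⟨?_, ?_⟩
  · obtain ⟨R, y, hRa, hRb, hRc, hRd, hRe⟩ := exists_R d m' s' N l n hm'0 hN0 hcop hNd hNl
      (by rw [← hsd, ← hSg]; exact hmNS)
    rw [← hsd] at hRa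
    rw [← hmd] at hRa hRb hRc hRd hRe
    have hgab' : b * a * b⁻¹ = a ^ R := by
      rw [hgab]
      exact (pow_eq_pow_of_modEq hRa hga).symm
    exact lower a b hgenG m n (m' * l) N R y hm hn hN0 hga hgb hgab' hG1' hG2' hRb hRc hRd hRe
  · intro Γ _ _ σ hσ
    obtain ⟨α, hα⟩ := hσ.1 a
    obtain ⟨β, hβ⟩ := hσ.1 b
    obtain ⟨ω, hω, hle, h1, h2, h3⟩ := upper σ hσ α β (by rw [hα, hβ]; exact hgenG)
      m n s l d m' s' hm hmd hsd hcop (geom_id s n) (hSg ▸ hm'S) (by rw [hα]; exact hG1')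
      (by rw [MonoidHom.mem_ker, map_mul, map_inv, map_pow, map_mul, map_mul, map_inv, hα, hβ,
            hgab, mul_inv_cancel])
      (by rw [MonoidHom.mem_ker, map_pow, hα, hga])
      (by rw [MonoidHom.mem_ker, map_mul, map_inv, map_pow, map_pow, hα, hβ, hgb, mul_inv_cancel])
    have hωN : ω ^ N = 1 := by
      apply orderOf_dvd_iff_pow_eq_one.1
      rw [hN, hSg]
      exact Nat.dvd_gcd (orderOf_dvd_of_pow_eq_one h2)
        (Nat.dvd_gcd (orderOf_dvd_of_pow_eq_one h1) (orderOf_dvd_of_pow_eq_one h3))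
    exact exists_surj_of_le_zpowers σ.ker ω hω hle N hωN

end Cfsg.Agent.S3967
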