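import Cfsg.Statements.S3968
import Cfsg.Agent.Lib.Helper80.Zeros
import Cfsg.Agent.Lib.Helper80.Kernel
import Cfsg.Agent.Lib.Helper80.ClassConst
import Cfsg.Agent.Lib.Helper79.CenterIndex
import Cfsg.Agent.Lib.Helper3.Burnside
import Cfsg.Agent.Lib.Helper15.LinearChar

set_option autoImplicit false
open Cfsg

namespace Cfsg.Agent.S3968

open Cfsg.Agent.Lib.Helper3 Cfsg.Agent.Lib.Helper80 in
/-- A central element has character value of maximal norm in an irreducible character. -/
theorem norm_irr_of_mem_center {H : Type*} [Group H] [Finite H] (ψ : Cfsg.IrrCharacter H)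
    {z : H} (hz : z ∈ Subgroup.center H) : ‖(ψ : H → ℂ) z‖ = ‖(ψ : H → ℂ) 1‖ := by
  obtain ⟨n, ρ, hirr, hρ⟩ := ψ.2
  have := hirr
  obtain ⟨c, hc, hcc⟩ := Cfsg.Agent.Lib.Helper79.exists_scalar_of_mem_center ρ hz
  have hcn : ‖c‖ = 1 := by
    have h1 : (Complex.normSq c : ℂ) = 1 := by rw [← Complex.mul_conj]; exact hcc
    have h2 : Complex.normSq c = 1 := by exact_mod_cast h1
    rw [Complex.normSq_eq_norm_sq] at h2
    have h3 : (‖c‖ - 1) * (‖c‖ + 1) = 0 := by ring_nf; rw [h2]; ring
    rcases mul_eq_zero.mp h3 with h4 | h4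
    · linarith
    · have := norm_nonneg c
      linarith
  rw [← hρ, Representation.char_one]
  unfold Representation.character
  rw [hc, map_smul, LinearMap.trace_id, smul_eq_mul, norm_mul, hcn, one_mul]

/-- Let `p` be a prime and `G` a finite group with a faithful irreducible complex character of degree `p` (so `G` is an irreducible linear group in `p` variables). If `p ^ 2` divides the order of `G`, then the centre of `G` is nontrivial. -/
theorem result {G : Type*} [Group G] [Finite G] (p : ℕ) (hp : p.Prime) (χ : Cfsg.IrrCharacter G) (hdeg : χ.1 1 = p) (hfaith : ∀ g : G, χ.1 g = χ.1 1 → g = 1) (hdiv : p ^ 2 ∣ Nat.card G) : Subgroup.center G ≠ ⊥ := by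
  classical
  have : Fact p.Prime := ⟨hp⟩
  have := Fintype.ofFinite G
  intro hZ
  obtain ⟨n, ρ, hirr, hρ⟩ := χ.2
  have := hirr
  have hfin : Module.finrank ℂ (Fin n → ℂ) = p := by
    have h1 : ρ.character 1 = (Module.finrank ℂ (Fin n → ℂ) : ℂ) := Representation.char_one ρ
    rw [hρ, hdeg] at h1
    exact_mod_cast h1.symm
  have hinj : Function.Injective ρ := by
    rw [injective_iff_map_eq_one]
    intro g hg
    apply hfaith
    have := (Cfsg.Agent.Lib.Helper80.mem_ker_iff_char ρ g).mp (MonoidHom.mem_ker.mpr hg)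
    rw [hρ] at this
    exact this
  -- a Sylow subgroup
  let P : Sylow p G := default
  have hPcard : Nat.card (P : Subgroup G) = p ^ (Nat.card G).factorization p :=
    P.card_eq_multiplicity
  have hk : 2 ≤ (Nat.card G).factorization p :=
    (hp.pow_dvd_iff_le_factorization Nat.card_pos.ne').mp hdiv
  have hp2 : p ^ 2 ∣ Nat.card (P : Subgroup G) := by
    rw [hPcard]; exact pow_dvd_pow p hk
  -- vanishing on `Z(P) \ 1`
  have hvan : ∀ z : ↥(P : Subgroup G), z ∈ Subgroup.center ↥(P : Subgroup G) → z ≠ 1 →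
      χ.1 (z : G) = 0 := by
    intro z hz hz1
    have hle : (P : Subgroup G) ≤ Subgroup.centralizer ({(z : G)} : Set G) := by
      intro y hy
      rw [Subgroup.mem_centralizer_iff]
      intro w hw
      rw [Set.mem_singleton_iff] at hw
      subst hw
      have := Subgroup.mem_center_iff.mp hz ⟨y, hy⟩
      exact (congrArg Subtype.val this).symm
    have hcop : Nat.Coprime (Module.finrank ℂ (Fin n → ℂ))
        (Subgroup.centralizer ({(z : G)} : Set G)).index := by
      rw [hfin]
      have hd : (Subgroup.centralizer ({(z : G)} : Set G)).index ∣ (P : Subgroup G).index :=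
        Subgroup.index_dvd_of_le hle
      exact (Nat.Prime.coprime_iff_not_dvd hp).mpr (fun h => P.not_dvd_index (h.trans hd))
    rcases Cfsg.Agent.Lib.Helper3.character_eq_zero_or_norm_eq_of_coprime ρ (z : G) hcop with
      h0 | hn
    · rw [← hρ]; exact h0
    · exfalso
      have := Cfsg.Agent.Lib.Helper80.mem_center_of_norm_character_eq ρ hinj (z : G) hn
      rw [hZ, Subgroup.mem_bot] at this
      exact hz1 (Subtype.ext this)
  -- restriction to P
  have hχchar : IsCharacter G χ.1 := Cfsg.Agent.Lib.Helper3.IsIrrCharacter.isCharacter χ.2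
  have hθ : IsCharacter ↥(P : Subgroup G) (fun z => χ.1 (z : G)) :=
    Cfsg.Agent.Lib.Helper3.IsCharacter.restrict hχchar (P : Subgroup G)
  have := Fintype.ofFinite ↥(P : Subgroup G)
  have : Finite (Cfsg.IrrCharacter ↥(P : Subgroup G)) :=
    Cfsg.Agent.Lib.Helper81.finite_irrCharacter
  have := Fintype.ofFinite (Cfsg.IrrCharacter ↥(P : Subgroup G))
  obtain ⟨m, hm, hsum⟩ := Cfsg.Agent.Lib.Helper3.IsCharacter.exists_mult hθ
  choose d hd1 hddvd hd0 using fun ψ : Cfsg.IrrCharacter ↥(P : Subgroup G) =>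
    Cfsg.Agent.Lib.Helper3.IsIrrCharacter.apply_one_dvd_card ψ.2
  have hdegsum : p = ∑ ψ : Cfsg.IrrCharacter ↥(P : Subgroup G), m ψ * d ψ := by
    have h2 := congrFun hsum 1
    simp only [Subgroup.coe_one] at h2
    rw [hdeg] at h2
    have h3 : (p : ℂ) = ((∑ ψ : Cfsg.IrrCharacter ↥(P : Subgroup G), m ψ * d ψ : ℕ) : ℂ) := by
      rw [h2, Finset.sum_apply]
      push_cast
      refine Finset.sum_congr rfl fun ψ _ => ?_
      rw [Pi.smul_apply, smul_eq_mul, hd1 ψ]
    exact_mod_cast h3
  have hPnontriv : Nontrivial ↥(P : Subgroup G) := by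
    rw [← Finite.one_lt_card_iff_nontrivial]
    have : 1 < p ^ 2 := Nat.one_lt_pow (by norm_num) hp.one_lt
    exact lt_of_lt_of_le this (Nat.le_of_dvd Nat.card_pos hp2)
  by_cases hall : ∀ ψ : Cfsg.IrrCharacter ↥(P : Subgroup G), m ψ ≠ 0 → d ψ = 1
  · -- `P` is abelian
    have hcomm : ∀ a b : ↥(P : Subgroup G), a * b = b * a := by
      intro a b
      have hker : χ.1 ((a * b * (b * a)⁻¹ : ↥(P : Subgroup G)) : G) = χ.1 1 := by
        have e1 := congrFun hsum (a * b * (b * a)⁻¹)
        have e2 := congrFun hsum 1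
        simp only [Subgroup.coe_one] at e2
        rw [e1, e2, Finset.sum_apply, Finset.sum_apply]
        refine Finset.sum_congr rfl fun ψ _ => ?_
        rw [Pi.smul_apply, Pi.smul_apply]
        by_cases hmψ : m ψ = 0
        · rw [hmψ]; simp
        · have h1 : (ψ : ↥(P : Subgroup G) → ℂ) 1 = 1 := by rw [hd1 ψ, hall ψ hmψ]; simp
          have hl : IsCharacter ↥(P : Subgroup G) (ψ : ↥(P : Subgroup G) → ℂ) ∧
              (ψ : ↥(P : Subgroup G) → ℂ) 1 = 1 :=
            ⟨Cfsg.Agent.Lib.Helper3.IsIrrCharacter.isCharacter ψ.2, h1⟩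
          congr 1
          have e1 := Cfsg.Agent.Lib.Helper15.linChar_mul hl (a * b) (b * a)⁻¹
          have e2 := Cfsg.Agent.Lib.Helper15.linChar_mul hl a b
          have e3 := Cfsg.Agent.Lib.Helper15.linChar_mul hl b a
          have e4 := Cfsg.Agent.Lib.Helper15.linChar_mul hl (b * a) (b * a)⁻¹
          rw [mul_inv_cancel, h1] at e4
          rw [e1, h1, e2, mul_comm ((ψ : ↥(P : Subgroup G) → ℂ) a), ← e3, ← e4]
      have h1 := hfaith _ hker
      have h2 : a * b * (b * a)⁻¹ = 1 := Subtype.ext h1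
      exact mul_inv_eq_one.mp h2
    have hcenter : ∀ z : ↥(P : Subgroup G), z ∈ Subgroup.center ↥(P : Subgroup G) := by
      intro z
      rw [Subgroup.mem_center_iff]
      intro y
      exact hcomm y z
    obtain ⟨mm, hmm⟩ := Cfsg.Agent.Lib.Helper80.exists_sum_subgroup_eq hχchar (P : Subgroup G)
    have hsumP : ∑ z : ↥(P : Subgroup G), χ.1 (z : G) = (p : ℂ) := by
      rw [Finset.sum_eq_single (1 : ↥(P : Subgroup G))]
      · simp only [Subgroup.coe_one]; exact hdeg
      · intro z _ hz1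
        exact hvan z (hcenter z) hz1
      · intro h; exact absurd (Finset.mem_univ _) h
    rw [hsumP] at hmm
    have hnat : p = Nat.card (P : Subgroup G) * mm := by exact_mod_cast hmm
    have hdvd : p ^ 2 ∣ p := by
      have h := Dvd.dvd.mul_right hp2 mm
      rwa [← hnat] at h
    have := Nat.le_of_dvd hp.pos hdvd
    have : p * p ≤ p := by rwa [pow_two] at this
    nlinarith [hp.one_lt]
  · -- some nonlinear constituent: the restriction is irreducible
    push Not at hall
    obtain ⟨ψ₀, hm0, hd1'⟩ := hall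
    have hpd : p ∣ d ψ₀ := by
      have h1 : d ψ₀ ∣ p ^ (Nat.card G).factorization p := by
        rw [← hPcard]; exact hddvd ψ₀
      obtain ⟨j, -, hj⟩ := (Nat.dvd_prime_pow hp).mp h1
      rcases Nat.eq_zero_or_pos j with rfl | hjpos
      · rw [pow_zero] at hj; exact absurd hj hd1'
      · rw [hj]; exact dvd_pow_self p hjpos.ne'
    have hle : m ψ₀ * d ψ₀ ≤ p := by
      rw [hdegsum]
      exact Finset.single_le_sum (f := fun ψ => m ψ * d ψ) (fun _ _ => Nat.zero_le _)
        (Finset.mem_univ ψ₀)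
    have hdp : p ≤ d ψ₀ := Nat.le_of_dvd (Nat.pos_of_ne_zero (hd0 ψ₀)) hpd
    have hm1 : m ψ₀ = 1 := by
      have hmpos : 0 < m ψ₀ := Nat.pos_of_ne_zero hm0
      nlinarith [hp.pos]
    have hdeq : d ψ₀ = p := by
      rw [hm1, one_mul] at hle
      omega
    have hothers : ∀ ψ : Cfsg.IrrCharacter ↥(P : Subgroup G), ψ ≠ ψ₀ → m ψ = 0 := by
      intro ψ hψ
      by_contra hne
      have h2 : m ψ₀ * d ψ₀ + m ψ * d ψ ≤ ∑ ψ : Cfsg.IrrCharacter ↥(P : Subgroup G), m ψ * d ψ := by
        rw [← Finset.sum_pair (f := fun ψ => m ψ * d ψ) hψ.symm]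
        exact Finset.sum_le_sum_of_subset (Finset.subset_univ _)
      rw [← hdegsum, hm1, hdeq, one_mul] at h2
      have : 0 < m ψ * d ψ := Nat.mul_pos (Nat.pos_of_ne_zero hne) (Nat.pos_of_ne_zero (hd0 ψ))
      omega
    have hθeq : ∀ z : ↥(P : Subgroup G), χ.1 (z : G) = (ψ₀ : ↥(P : Subgroup G) → ℂ) z := by
      intro z
      have e1 := congrFun hsum z
      rw [e1, Finset.sum_apply, Finset.sum_eq_single ψ₀]
      · rw [hm1]; simp
      · intro ψ _ hψ
        rw [hothers ψ hψ]; simp
      · intro h; exact absurd (Finset.mem_univ _) h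
    have hcn : Nontrivial (Subgroup.center ↥(P : Subgroup G)) :=
      IsPGroup.center_nontrivial P.isPGroup'
    obtain ⟨⟨z, hz⟩, hz1⟩ := exists_ne (1 : Subgroup.center ↥(P : Subgroup G))
    have hz1' : z ≠ 1 := fun h => hz1 (Subtype.ext h)
    have h0 := hvan z hz hz1'
    rw [hθeq z] at h0
    have hnorm := norm_irr_of_mem_center ψ₀ hz
    rw [h0, norm_zero, hd1 ψ₀, hdeq] at hnorm
    have : (p : ℂ) = 0 := by
      have := hnorm.symm
      exact norm_eq_zero.mp this
    exact hp.ne_zero (by exact_mod_cast this)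

end Cfsg.Agent.S3968
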