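import Cfsg.Statements.S3969
import Mathlib
import Cfsg.Agent.Lib.Helper66.CoprimeAut

set_option autoImplicit false
open Cfsg

namespace Cfsg.Agent.S3969

open Cfsg.Agent.Lib.Helper66 Subgroup

open scoped IsMulCommutative in
theorem normalizer_le_centralizer {G : Type*} [Group G] [Finite G] (p : ℕ) [hp : Fact p.Prime] (P : Sylow p G)
    (hab : IsMulCommutative (P : Subgroup G))
    (hcop : Nat.Coprime (Nat.card G) (∏ i ∈ Finset.Icc 1 (Group.rank (P : Subgroup G)), (p ^ i - 1))) :
    normalizer ((P : Subgroup G) : Set G) ≤ centralizer ((P : Subgroup G) : Set G) := by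
  let φ := (P : Subgroup G).normalizerMonoidHom
  by_contra hcon
  have hrange : φ.range ≠ ⊥ := by
    intro h
    apply hcon
    have hker : φ.ker = ⊤ := by
      rw [eq_top_iff]
      intro x _
      rw [MonoidHom.mem_ker]
      have : φ x ∈ φ.range := ⟨x, rfl⟩
      rw [h, Subgroup.mem_bot] at this
      exact this
    rw [normalizerMonoidHom_ker] at hker
    intro x hx
    have : (⟨x, hx⟩ : normalizer ((P : Subgroup G) : Set G)) ∈
        (centralizer ((P : Subgroup G) : Set G)).subgroupOf (normalizer ((P : Subgroup G) : Set G)) := by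
      rw [hker]; exact Subgroup.mem_top _
    exact this
  have hcard1 : Nat.card φ.range ≠ 1 := fun h => hrange (Subgroup.card_eq_one.mp h)
  obtain ⟨q, hq, hqdvd⟩ := Nat.exists_prime_and_dvd hcard1
  haveI : Fact q.Prime := ⟨hq⟩
  obtain ⟨ψ, hψ⟩ := exists_prime_orderOf_dvd_card' q hqdvd
  have hqG : q ∣ Nat.card G :=
    hqdvd.trans ((Subgroup.card_range_dvd φ).trans (Subgroup.card_subgroup_dvd_card _))
  -- q ≠ p
  have hrel : Nat.card φ.range = (centralizer ((P : Subgroup G) : Set G)).relIndex (normalizer ((P : Subgroup G) : Set G)) := by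
    rw [← Nat.card_congr (QuotientGroup.quotientKerEquivRange φ).toEquiv, normalizerMonoidHom_ker]
    rfl
  have hqp : q ≠ p := by
    rintro rfl
    have h1 : (centralizer ((P : Subgroup G) : Set G)).relIndex (normalizer ((P : Subgroup G) : Set G)) ∣
        (P : Subgroup G).relIndex (normalizer ((P : Subgroup G) : Set G)) :=
      relIndex_dvd_of_le_left _ (P : Subgroup G).le_centralizer
    have h2 : (P : Subgroup G).relIndex (normalizer ((P : Subgroup G) : Set G)) ∣ (P : Subgroup G).index :=
      relIndex_dvd_index_of_le le_normalizer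
    rw [hrel] at hqdvd
    exact P.not_dvd_index (hqdvd.trans (h1.trans h2))
  -- apply the lemma
  have hψ1 : (ψ : MulAut (P : Subgroup G)) ≠ 1 := by
    intro h
    have : ψ = 1 := Subtype.ext h
    rw [this, orderOf_one] at hψ
    exact hq.one_lt.ne hψ
  have hψq : (ψ : MulAut (P : Subgroup G)) ^ q = 1 := by
    have : ψ ^ q = 1 := by rw [← hψ]; exact pow_orderOf_eq_one ψ
    have := congrArg Subtype.val this
    simpa using this
  obtain ⟨f, hf1, hfr, hqf⟩ := prime_dvd_pow_sub_one_of_aut (A := (P : Subgroup G)) p q hqp P.2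
    (ψ : MulAut (P : Subgroup G)) hψ1 hψq
  have hdvd : p ^ f - 1 ∣ ∏ i ∈ Finset.Icc 1 (Group.rank (P : Subgroup G)), (p ^ i - 1) :=
    Finset.dvd_prod_of_mem (fun i => p ^ i - 1) (Finset.mem_Icc.mpr ⟨hf1, hfr⟩)
  have h1 : q ∣ Nat.gcd (Nat.card G) (∏ i ∈ Finset.Icc 1 (Group.rank (P : Subgroup G)), (p ^ i - 1)) :=
    Nat.dvd_gcd hqG (hqf.trans hdvd)
  rw [hcop] at h1
  exact hq.one_lt.ne' (Nat.dvd_one.mp h1)

/-- Let `P` be an abelian Sylow `p`-subgroup of the finite group `G`, generated by `d` elements (`d` its minimal number of generators). If the order of `G` is coprime to `(p - 1)(p ^ 2 - 1) ⋯ (p ^ d - 1)`, then `G` has a normal `p`-complement. (The classical statement needs only the largest number of cyclic factors of `P` of equal order in place of `d`; the form here follows from it.) -/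
theorem result {G : Type*} [Group G] [Finite G] (p : ℕ) [Fact p.Prime] (P : Sylow p G) (hab : IsMulCommutative (P : Subgroup G)) (hcop : Nat.Coprime (Nat.card G) (∏ i ∈ Finset.Icc 1 (Group.rank (P : Subgroup G)), (p ^ i - 1))) : Cfsg.HasNormalPComplement p G := by
  have hNC := normalizer_le_centralizer p P hab hcop
  exact ⟨P, (MonoidHom.transferSylow P hNC).ker, inferInstance, MonoidHom.ker_transferSylow_isComplement' P hNC⟩

end Cfsg.Agent.S3969
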