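import Cfsg.Statements.S3970
import Mathlib
import Cfsg.Agent.S3969

set_option autoImplicit false
open Cfsg

namespace Cfsg.Agent.S3970

universe u

/-- a `2`-group of rank two has order divisible by four -/
theorem four_dvd_of_rank_two {P : Type*} [Group P] [Finite P] (hP : IsPGroup 2 P)
    (hr : Group.rank P = 2) : 4 ∣ Nat.card P := by
  obtain ⟨k, hk⟩ := IsPGroup.iff_card.mp hP
  have hk2 : 2 ≤ k := by
    by_contra hlt
    push Not at hlt
    have hcyc : IsCyclic P := by
      interval_cases k
      · rw [pow_zero] at hk
        have : Subsingleton P := (Nat.card_eq_one_iff_unique.mp hk).1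
        infer_instance
      · rw [pow_one] at hk
        haveI : Fact (Nat.Prime 2) := ⟨Nat.prime_two⟩
        exact isCyclic_of_prime_card hk
    obtain ⟨g, hg⟩ := hcyc.exists_generator
    have hcl : Subgroup.closure (({g} : Finset P) : Set P) = ⊤ := by
      rw [Finset.coe_singleton, ← Subgroup.zpowers_eq_closure, eq_top_iff]
      intro x _
      exact hg x
    have := Group.rank_le hcl
    rw [Finset.card_singleton, hr] at this
    omega
  rw [hk]
  exact pow_dvd_pow 2 hk2

theorem main : ∀ (n : ℕ) (G : Type u) [Group G] [Finite G], Nat.card G = n →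
    (∀ p : ℕ, p.Prime → p ∣ Nat.card G → (∃ q : ℕ, q.Prime ∧ q ∣ Nat.card G ∧ p < q) →
      ∀ P : Sylow p G, IsMulCommutative (P : Subgroup G) ∧ Group.rank (P : Subgroup G) ≤ 2) →
    ¬ 12 ∣ Nat.card G → Group.IsSolvable G := by
  intro n
  induction n using Nat.strong_induction_on with
  | _ n ih =>
  intro G _ _ hn h h12
  by_cases h1 : Nat.card G = 1
  · have : Subsingleton G := (Nat.card_eq_one_iff_unique.mp h1).1
    infer_instance
  have hp : (Nat.card G).minFac.Prime := Nat.minFac_prime h1
  have hpG : (Nat.card G).minFac ∣ Nat.card G := Nat.minFac_dvd _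
  generalize hpdef : (Nat.card G).minFac = p at hp hpG
  haveI : Fact p.Prime := ⟨hp⟩
  have hmin : ∀ r : ℕ, r.Prime → r ∣ Nat.card G → p ≤ r := by
    intro r hr hrG
    rw [← hpdef]
    exact Nat.minFac_le_of_dvd hr.two_le hrG
  by_cases hq : ∃ q : ℕ, q.Prime ∧ q ∣ Nat.card G ∧ p < q
  · let P : Sylow p G := default
    obtain ⟨hab, hrank⟩ := h p hp hpG hq P
    have hcop : Nat.Coprime (Nat.card G)
        (∏ i ∈ Finset.Icc 1 (Group.rank (P : Subgroup G)), (p ^ i - 1)) := by
      apply Nat.coprime_of_dvd
      intro r hr hrG hrprod
      have hpr : p ≤ r := hmin r hr hrG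
      rw [Prime.dvd_finsetProd_iff hr.prime] at hrprod
      obtain ⟨i, hi, hri⟩ := hrprod
      rw [Finset.mem_Icc] at hi
      have hi2 : i = 1 ∨ i = 2 := by omega
      have hp2 : 2 ≤ p := hp.two_le
      have hcase1 : ¬ r ∣ p - 1 := by
        intro hd
        have : r ≤ p - 1 := Nat.le_of_dvd (by omega) hd
        omega
      rcases hi2 with rfl | rfl
      · rw [pow_one] at hri
        exact hcase1 hri
      · have hfac : p ^ 2 - 1 = (p - 1) * (p + 1) := by
          have : p ^ 2 = (p - 1) * (p + 1) + 1 := by
            obtain ⟨m, rfl⟩ : ∃ m, p = m + 1 := ⟨p - 1, by omega⟩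
            simp only [Nat.add_sub_cancel]
            ring
          omega
        rw [hfac] at hri
        rcases (Nat.Prime.dvd_mul hr).mp hri with hd | hd
        · exact hcase1 hd
        · have hle : r ≤ p + 1 := Nat.le_of_dvd (by omega) hd
          have hne : r ≠ p := by
            rintro rfl
            have : r ∣ 1 := (Nat.dvd_add_right (dvd_refl r)).mp hd
            exact hr.one_lt.ne' (Nat.dvd_one.mp this)
          have hr1 : r = p + 1 := by omega
          -- p and p + 1 both prime
          have hp2' : p = 2 := by
            rcases hp.eq_two_or_odd with h2 | hodd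
            · exact h2
            · exfalso
              have heven : 2 ∣ r := by rw [hr1]; omega
              have : r = 2 := ((Nat.prime_dvd_prime_iff_eq Nat.prime_two hr).mp heven).symm
              omega
          have hr3 : r = 3 := by omega
          have hrank2 : Group.rank (P : Subgroup G) = 2 := by omega
          have h4 : 4 ∣ Nat.card (P : Subgroup G) := by
            apply four_dvd_of_rank_two _ hrank2
            intro g
            obtain ⟨j, hj⟩ := P.2 g
            exact ⟨j, by rw [← hp2']; exact hj⟩
          have h4G : 4 ∣ Nat.card G := h4.trans (Subgroup.card_subgroup_dvd_card _)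
          have h3G : 3 ∣ Nat.card G := hr3 ▸ hrG
          apply h12
          have : Nat.Coprime 4 3 := by decide
          exact this.mul_dvd_of_dvd_of_dvd h4G h3G
    obtain ⟨P', K, hKn, hK⟩ := Cfsg.Agent.S3969.result p P hab hcop
    have hcardmul : Nat.card K * Nat.card (P' : Subgroup G) = Nat.card G := hK.card_mul_card
    obtain ⟨k, hk⟩ := IsPGroup.iff_card.mp P'.2
    have hk0 : k ≠ 0 := by
      rintro rfl
      rw [pow_zero] at hk
      have hK1 : Nat.card K = Nat.card G := by rw [← hcardmul, hk, mul_one]
      have : ¬ p ∣ (P' : Subgroup G).index := P'.not_dvd_index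
      rw [hK.index_eq_card, hK1] at this
      exact this hpG
    have hKp : ¬ p ∣ Nat.card K := by
      rw [← hK.index_eq_card]
      exact P'.not_dvd_index
    have hKpos : 0 < Nat.card K := Nat.card_pos
    have hKlt : Nat.card K < n := by
      rw [← hn, ← hcardmul, hk]
      have : 2 ≤ p ^ k := by
        calc 2 ≤ p := hp.two_le
          _ = p ^ 1 := (pow_one p).symm
          _ ≤ p ^ k := Nat.pow_le_pow_right hp.pos (Nat.one_le_iff_ne_zero.mpr hk0)
      nlinarith
    have hKdvd : Nat.card K ∣ Nat.card G := Subgroup.card_subgroup_dvd_card K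
    have hKsolv : Group.IsSolvable K := by
      apply ih (Nat.card K) hKlt K rfl
      · intro r hr hrK hq' R
        haveI : Fact r.Prime := ⟨hr⟩
        have hrp : r ≠ p := by
          rintro rfl
          exact hKp hrK
        have hfac : (Nat.card G).factorization r = (Nat.card K).factorization r := by
          rw [← hcardmul, hk, Nat.factorization_mul hKpos.ne' (pow_pos hp.pos k).ne',
            Nat.Prime.factorization_pow hp]
          simp [hrp.symm]
        have hcardR : Nat.card ((R : Subgroup K).map K.subtype) = r ^ (Nat.card G).factorization r := by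
          rw [Subgroup.card_map_of_injective K.subtype_injective, hfac]
          exact R.card_eq_multiplicity
        let S : Sylow r G := Sylow.ofCard ((R : Subgroup K).map K.subtype) hcardR
        obtain ⟨q, hq1, hq2, hq3⟩ := hq'
        obtain ⟨hSab, hSrank⟩ := h r hr (hrK.trans hKdvd) ⟨q, hq1, hq2.trans hKdvd, hq3⟩ S
        have hScoe : (S : Subgroup G) = (R : Subgroup K).map K.subtype := Sylow.coe_ofCard _ _
        let e : (R : Subgroup K) ≃* ((R : Subgroup K).map K.subtype) :=
          Subgroup.equivMapOfInjective _ _ K.subtype_injective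
        rw [hScoe] at hSab hSrank
        constructor
        · constructor
          constructor
          intro a b
          apply e.injective
          rw [map_mul, map_mul]
          exact hSab.is_comm.comm _ _
        · rw [Group.rank_congr e]
          exact hSrank
      · intro hd
        exact h12 (hd.trans hKdvd)
    have hQsolv : Group.IsSolvable (G ⧸ K) := by
      have hQcard : Nat.card (G ⧸ K) = p ^ k := by
        rw [← hk, ← hK.symm.index_eq_card]
        rfl
      have hQp : IsPGroup p (G ⧸ K) := IsPGroup.of_card hQcard
      have := hQp.isNilpotent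
      infer_instance
    exact (Group.isSolvable_iff_subgroup_quotient K).mpr ⟨hKsolv, hQsolv⟩
  · -- G is a p-group
    push Not at hq
    have hpow : Nat.card G = p ^ (Nat.card G).primeFactorsList.length := by
      apply Nat.eq_prime_pow_of_unique_prime_dvd Nat.card_pos.ne'
      intro d hd hdG
      have h1 := hmin d hd hdG
      have h2 := hq d hd hdG
      omega
    have hGp : IsPGroup p G := IsPGroup.of_card hpow
    have := hGp.isNilpotent
    infer_instance

/-- Let `G` be a finite group such that for every prime `p` dividing its order, other than the largest such prime, the Sylow `p`-subgroups are abelian and generated by at most two elements, and suppose `12` does not divide the order of `G`. Then `G` is solvable. In particular a group of cube-free order not divisible by `12` is solvable. -/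
theorem result {G : Type*} [Group G] [Finite G] (h : ∀ p : ℕ, p.Prime → p ∣ Nat.card G → (∃ q : ℕ, q.Prime ∧ q ∣ Nat.card G ∧ p < q) → ∀ P : Sylow p G, IsMulCommutative (P : Subgroup G) ∧ Group.rank (P : Subgroup G) ≤ 2) (h12 : ¬ 12 ∣ Nat.card G) : Group.IsSolvable G :=
  main (Nat.card G) G rfl h h12

end Cfsg.Agent.S3970
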