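import Cfsg.Statements.S3971
import Cfsg.Agent.Lib.Helper35.TwoGroupAut
import Cfsg.Agent.Lib.Helper2.Frobenius

set_option autoImplicit false
open Cfsg

namespace Cfsg.Agent.S3971

open Subgroup
open Cfsg.Agent.Lib.Helper33 Cfsg.Agent.Lib.Helper2 Cfsg.Agent.Lib.Helper35

theorem relIndex_mul_card_aux {G : Type*} [Group G] {H K : Subgroup G} (h : H ≤ K) :
    H.relIndex K * Nat.card H = Nat.card K := by
  have := relIndex_mul_relIndex (⊥ : Subgroup G) H K bot_le h
  rwa [relIndex_bot_left, relIndex_bot_left, mul_comm] at this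

/-- conjugation by a normalizing element, as an automorphism of the subgroup -/
def conjAut {G : Type*} [Group G] (Q : Subgroup G) (g : G) (hg : g ∈ normalizer (Q : Set G)) :
    MulAut Q where
  toFun q := ⟨g * q * g⁻¹, (mem_normalizer_iff.mp hg q).mp q.2⟩
  invFun q := ⟨g⁻¹ * q * g, by
    have := (mem_normalizer_iff.mp (inv_mem hg) q).mp q.2
    simpa using this⟩
  left_inv q := by apply Subtype.ext; simp [mul_assoc]
  right_inv q := by apply Subtype.ext; simp [mul_assoc]
  map_mul' a b := by apply Subtype.ext; simp [mul_assoc]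

theorem conjAut_pow {G : Type*} [Group G] (Q : Subgroup G) (g : G)
    (hg : g ∈ normalizer (Q : Set G)) (k : ℕ) (q : Q) :
    (((conjAut Q g hg) ^ k) q : G) = g ^ k * q * (g ^ k)⁻¹ := by
  induction k generalizing q with
  | zero => simp
  | succ k ih =>
    rw [pow_succ, MulAut.mul_apply, ih]
    show g ^ k * (g * q * g⁻¹) * (g ^ k)⁻¹ = _
    rw [pow_succ]; group

/-- A group of order `2^a n` (`n` odd, `3 ∤ n`) with an element of order `2^(a-1)` has a normal
subgroup of order `n`. -/
theorem result {G : Type*} [Group G] [Finite G] (a n : ℕ) (hG : Nat.card G = 2 ^ a * n) (hn : Odd n) (h3 : ¬ 3 ∣ n) (hx : ∃ x : G, orderOf x = 2 ^ (a - 1)) : ∃ N : Subgroup G, N.Normal ∧ Nat.card N = n := by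
  obtain ⟨x, hx⟩ := hx
  have hn0 : n ≠ 0 := by rintro rfl; simp at hn
  have h2n : ¬ 2 ∣ n := by rw [← Nat.not_even_iff_odd] at hn; exact fun h => hn (even_iff_two_dvd.mpr h)
  -- the Sylow subgroup containing `x`
  have hxp : IsPGroup 2 (zpowers x) := IsPGroup.of_card (n := a - 1) (by rw [Nat.card_zpowers, hx])
  obtain ⟨P₀, hP₀⟩ := hxp.exists_le_sylow
  have hfac : (Nat.card G).factorization 2 = a := by
    rw [hG, Nat.factorization_mul (by positivity) hn0, Nat.Prime.factorization_pow Nat.prime_two]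
    simp [Nat.factorization_eq_zero_of_not_dvd h2n]
  have hcardP₀ : Nat.card P₀ = 2 ^ a := by rw [P₀.card_eq_multiplicity, hfac]
  -- Frobenius' condition
  have hF : FrobCond 2 G := by
    intro Q hQ g hg hgo
    set m := orderOf g with hmdef
    have hm3 : m.Coprime 3 := by
      rw [Nat.coprime_comm, Nat.Prime.coprime_iff_not_dvd Nat.prime_three]
      intro h
      have h1 : 3 ∣ 2 ^ a * n := by rw [← hG]; exact h.trans (orderOf_dvd_natCard g)
      rcases (Nat.Prime.dvd_mul Nat.prime_three).mp h1 with h2 | h2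
      · have := Nat.Prime.dvd_of_dvd_pow Nat.prime_three h2
        omega
      · exact h3 h2
    -- conjugate `Q` into `P₀`
    obtain ⟨h, -, hh⟩ := sylow_sub (K := ⊤) (P := (P₀ : Subgroup G)) le_top P₀.2
      (by rw [relIndex_top_right]; exact P₀.not_dvd_index) le_top hQ
    set P₁ := cj h⁻¹ (P₀ : Subgroup G) with hP₁
    set C₁ := cj h⁻¹ (zpowers x) with hC₁
    have hQP₁ : Q ≤ P₁ := by
      rw [hP₁, le_cj_iff, inv_inv]; exact hh
    have hC₁P₁ : C₁ ≤ P₁ := cj_mono hP₀
    have hcardP₁ : Nat.card P₁ = 2 ^ a := by rw [hP₁, card_cj, hcardP₀]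
    have hcardC₁ : Nat.card C₁ = 2 ^ (a - 1) := by rw [hC₁, card_cj, Nat.card_zpowers, hx]
    have hrel : C₁.relIndex P₁ ≤ 2 := by
      have h1 := relIndex_mul_card_aux hC₁P₁
      rw [hcardP₁, hcardC₁] at h1
      have h2 : 2 ^ a ≤ 2 * 2 ^ (a - 1) := by
        rcases Nat.eq_zero_or_pos a with rfl | ha
        · simp
        · rw [← pow_succ']; exact Nat.pow_le_pow_right (by norm_num) (by omega)
      have hpos : 0 < 2 ^ (a - 1) := by positivity
      have : C₁.relIndex P₁ * 2 ^ (a - 1) ≤ 2 * 2 ^ (a - 1) := by rw [h1]; exact h2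
      exact Nat.le_of_mul_le_mul_right this hpos
    have hrelQ : (C₁ ⊓ Q).relIndex Q ≤ 2 := by
      rw [inf_relIndex_right]
      refine le_trans (relIndex_le_of_le_right hQP₁ ?_) hrel
      intro h0
      have := relIndex_mul_card_aux hC₁P₁
      rw [h0, zero_mul] at this
      exact (Nat.card_pos (α := P₁)).ne' this.symm
    -- `C₁ ⊓ Q` is cyclic
    have hcyc : IsCyclic (C₁ ⊓ Q : Subgroup G) := by
      have hC₁cyc : IsCyclic C₁ := by
        rw [hC₁]
        exact (cjEquiv h⁻¹ (zpowers x)).isCyclic.mp inferInstance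
      have : IsCyclic ((C₁ ⊓ Q).subgroupOf C₁) := inferInstance
      exact (subgroupOfEquivOfLe (inf_le_left : C₁ ⊓ Q ≤ C₁)).isCyclic.mp this
    obtain ⟨c, hcgen⟩ := hcyc.exists_generator
    have hcQ : (c : G) ∈ Q := c.2.2
    have hzc : zpowers (⟨(c : G), hcQ⟩ : Q) = (C₁ ⊓ Q).subgroupOf Q := by
      ext z
      rw [mem_subgroupOf, mem_zpowers_iff]
      constructor
      · rintro ⟨k, rfl⟩
        have : ((⟨(c : G), hcQ⟩ : Q) ^ k : Q) = ((c ^ k : (C₁ ⊓ Q : Subgroup G)) : G) := by simp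
        rw [this]
        exact (c ^ k).2
      · intro hz
        obtain ⟨k, hk⟩ := mem_zpowers_iff.mp (hcgen ⟨(z : G), hz⟩)
        refine ⟨k, Subtype.ext ?_⟩
        have := congrArg Subtype.val hk
        simpa using this
    have hidx : (zpowers (⟨(c : G), hcQ⟩ : Q)).index ≤ 2 := by
      rw [hzc]; exact hrelQ
    -- the automorphism
    have hQ' : IsPGroup 2 Q := hQ
    have hα : conjAut Q g hg = 1 := by
      apply mulAut_eq_one_of_cyclic_index_two hQ' ⟨(c : G), hcQ⟩ hidx (conjAut Q g hg) m ?_ hgo hm3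
      ext q
      rw [conjAut_pow, hmdef, pow_orderOf_eq_one]
      simp
    rw [mem_centralizer_iff]
    intro q hq
    have := congrArg (fun β : MulAut Q => ((β ⟨q, hq⟩ : Q) : G)) hα
    simp only [MulAut.one_apply] at this
    have h5 : g * q * g⁻¹ = q := this
    calc q * g = (g * q * g⁻¹) * g := by rw [h5]
      _ = g * q := by group
  have hnd := not_dvd_card_pResidual_of_frobCond (p := 2) (Nat.card G) G rfl hF
  obtain ⟨N, hNn, hNc⟩ := (exists_normal_complement_iff_not_dvd_card_pResidual P₀).mpr hnd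
  refine ⟨N, hNn, ?_⟩
  have h1 : Nat.card N * Nat.card (P₀ : Subgroup G) = Nat.card G := hNc.card_mul_card
  rw [hcardP₀, hG, mul_comm] at h1
  exact Nat.eq_of_mul_eq_mul_left (by positivity) h1

end Cfsg.Agent.S3971
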