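import Cfsg.Statements.S3972
import Cfsg.Agent.Lib.Helper61.SchurRing6

set_option autoImplicit false
open Cfsg

namespace Cfsg.Agent.S3972

open Cfsg.Agent.Lib.Helper61.SchurRing in
/-- Let `p` be a prime, `m ≥ 2`, and `G` a transitive but not doubly transitive permutation group on `p ^ m` points containing a permutation of order `p ^ m` (necessarily a full cycle). Then `G` is imprimitive, and the normal closure in `G` of the `p ^ (m - 1)`-th power of that permutation is an intransitive normal subgroup. -/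
theorem result {Ω : Type*} [Fintype Ω] [DecidableEq Ω] (p m : ℕ) (hp : p.Prime) (hm : 2 ≤ m) (hΩ : Fintype.card Ω = p ^ m) (G : Subgroup (Equiv.Perm Ω)) (htr : MulAction.IsPretransitive G Ω) (h2 : ¬ MulAction.IsMultiplyPretransitive G Ω 2) (g : G) (hg : orderOf g = p ^ m) : ¬ MulAction.IsPreprimitive G Ω ∧ ¬ MulAction.IsPretransitive (Subgroup.normalClosure ({g ^ (p ^ (m - 1))} : Set G)) Ω := by
  have hnp : ¬ MulAction.IsPreprimitive G Ω := by
    intro hprim
    apply h2
    have hnz : NeZero (p ^ m) := ⟨pow_ne_zero m hp.ne_zero⟩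
    have hc : orderOf (g : Equiv.Perm Ω) = p ^ m := by rw [Subgroup.orderOf_coe]; exact hg
    obtain ⟨hcyc, hmov⟩ := full_cycle hp (by omega) hΩ (g : Equiv.Perm Ω) hc
    have hne : Nonempty Ω := by
      rw [← Fintype.card_pos_iff, hΩ]
      exact pow_pos hp.pos m
    obtain ⟨ω₀⟩ := hne
    have hreg := reg_of_cycle G (g : Equiv.Perm Ω) g.2 hc hΩ hcyc hmov ω₀
    exact two_trans_of_prim hreg hprim (phyp_zmod hp hm)
  exact ⟨hnp, normalClosure_intrans hp (by omega) hΩ G htr hnp g hg⟩

end Cfsg.Agent.S3972
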