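import Cfsg.Statements.S3974
import Cfsg.Agent.Lib.Helper65.CoverUnique

set_option autoImplicit false
universe u v
open Cfsg

namespace Cfsg.Agent.S3974

open Cfsg.Agent.Lib.Helper65

theorem card_eq_of_stem {Q : Type u} [Group Q] {Γ : Type u} [Group Γ] (σ : Γ →* Q)
    (hs : Function.Surjective σ) : Nat.card Γ = Nat.card Q * Nat.card σ.ker := by
  rw [Subgroup.card_eq_card_quotient_mul_card_subgroup σ.ker,
    Nat.card_congr (QuotientGroup.quotientKerEquivOfSurjective σ hs).toEquiv]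

/-- Let `Q` be a finite group with Schur multiplier `A`. Any two Schur covering groups of `Q` (finite stem extensions `σ₁ : Γ₁ →* Q`, `σ₂ : Γ₂ →* Q` with kernels isomorphic to `A`, `Γ₁, Γ₂` in the universe of `Q`) are isomorphic over `Q` — there is a group isomorphism `e : Γ₁ ≃* Γ₂` with `σ₂ ∘ e = σ₁` — if and only if the order of the commutator quotient of `Q` is coprime to the order of `A`. In particular a finite perfect group has a unique Schur covering group up to isomorphism over it. -/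
theorem result {Q : Type u} [Group Q] [Finite Q] {A : Type v} [CommGroup A] (hA : Cfsg.HasSchurMultiplier Q A) : (∀ (Γ₁ Γ₂ : Type u) [Group Γ₁] [Finite Γ₁] [Group Γ₂] [Finite Γ₂] (σ₁ : Γ₁ →* Q) (σ₂ : Γ₂ →* Q), Cfsg.IsStemExtension σ₁ → Cfsg.IsStemExtension σ₂ → Nonempty (σ₁.ker ≃* A) → Nonempty (σ₂.ker ≃* A) → ∃ e : Γ₁ ≃* Γ₂, σ₂.comp e.toMonoidHom = σ₁) ↔ Nat.Coprime (Nat.card (Abelianization Q)) (Nat.card A) := by
  classical
  obtain ⟨eA⟩ := equiv_multSub Q hA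
  rw [Nat.card_congr eA.toEquiv]
  constructor
  · intro H
    by_contra hnc
    obtain ⟨p, hp, hpa, hpM⟩ := Nat.Prime.not_coprime_iff_dvd.mp hnc
    obtain ⟨S₁, hS₁n, hS₁⟩ := exists_cover Q
    have : Fact p.Prime := ⟨hp⟩
    obtain ⟨x, hx⟩ := exists_prime_orderOf_dvd_card' p hpa
    obtain ⟨q, rfl⟩ := QuotientGroup.mk_surjective x
    obtain ⟨e, rfl⟩ := ehatProj_surjective Q q
    have he1 : ∃ s ∈ S₁, ehatAbM Q (e ^ p) = ehatAbM Q s :=
      exists_ab_pow_eq Q hS₁ e p (by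
        have := pow_orderOf_eq_one (Abelianization.of (ehatProj Q e))
        rw [show orderOf (Abelianization.of (ehatProj Q e)) = p from hx] at this
        exact this)
    have he2 : ∀ s ∈ S₁, ehatAbM Q e ≠ ehatAbM Q s := by
      intro s hs h
      have h1 : e * s⁻¹ ∈ commutator (Ehat Q) := by
        rw [← ehatAbM_ker, MonoidHom.mem_ker, map_mul, map_inv, h, mul_inv_cancel]
      have h2 : ehatProj Q (e * s⁻¹) ∈ commutator Q := by
        rw [← map_commutator_ehat]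
        exact ⟨_, h1, rfl⟩
      have h3 : ehatProj Q s = 1 := hS₁.le_ker hs
      rw [map_mul, map_inv, h3, inv_one, mul_one, ← Abelianization.ker_of,
        MonoidHom.mem_ker] at h2
      have h4 : orderOf (Abelianization.of (ehatProj Q e)) = p := hx
      rw [h2, orderOf_one] at h4
      exact hp.one_lt.ne h4
    obtain ⟨φ, hφ⟩ := exists_nonextendable (abBasis Q) (ehatAbM Q) (ehatAbM_ker Q).le S₁
      (hS₁.inf_ker_ab Q) p hp e he1 he2 (M := multSub Q) hpM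
    have hS₂ := twist_isKerCompl Q hS₁ φ
    have hS₂n := hS₂.normal
    have hf₁ := cover_finite Q S₁ hS₁
    have hf₂ := cover_finite Q _ hS₂
    obtain ⟨k₁⟩ := coverProj_ker_equiv Q S₁ hS₁
    obtain ⟨k₂⟩ := coverProj_ker_equiv Q _ hS₂
    obtain ⟨ε, hε⟩ := H (Ehat Q ⧸ S₁) (Ehat Q ⧸ (twistHom Q S₁ φ).range)
      (coverProj Q S₁ hS₁.le_ker) (coverProj Q _ hS₂.le_ker)
      (coverProj_stem Q S₁ hS₁) (coverProj_stem Q _ hS₂) ⟨k₁.trans eA.symm⟩ ⟨k₂.trans eA.symm⟩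
    obtain ⟨θ, hθ⟩ := exists_theta_of_hom Q hS₁ hS₂ ε.toMonoidHom hε
    apply hφ θ
    intro s
    obtain ⟨s', hs'⟩ := theta_mem Q ε.toMonoidHom θ hθ s s.2
    rw [twistHom_apply] at hs'
    -- s' φ(s') = s θ(s)
    have h1 : (s : Ehat Q)⁻¹ * (s' : Ehat Q) ∈ S₁ ⊓ multSub Q := by
      refine ⟨Subgroup.mul_mem _ (Subgroup.inv_mem _ s.2) s'.2, ?_⟩
      have e1 : (s : Ehat Q)⁻¹ * (s' : Ehat Q)
          = ((θ s : multSub Q) : Ehat Q) * ((φ s' : multSub Q) : Ehat Q)⁻¹ := by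
        rw [eq_mul_inv_iff_mul_eq, mul_assoc, hs', ← mul_assoc, inv_mul_cancel, one_mul]
      rw [e1]
      exact Subgroup.mul_mem _ (θ s).2 (Subgroup.inv_mem _ (φ s').2)
    rw [hS₁.inf_eq, Subgroup.mem_bot, inv_mul_eq_one] at h1
    have h2 : s = s' := Subtype.ext h1
    rw [← h2] at hs'
    have h3 : ((φ s : multSub Q) : Ehat Q) = ((θ s : multSub Q) : Ehat Q) :=
      mul_left_cancel hs'
    exact (Subtype.ext h3).symm
  · intro hcop Γ₁ Γ₂ _ _ _ _ σ₁ σ₂ hσ₁ hσ₂ hk₁ hk₂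
    obtain ⟨ek₁⟩ := hk₁
    obtain ⟨ek₂⟩ := hk₂
    obtain ⟨ψ₁, hψ₁⟩ := exists_lift Q σ₁ hσ₁.1 hσ₁.2.1
    obtain ⟨ψ₂, hψ₂⟩ := exists_lift Q σ₂ hσ₂.1 hσ₂.2.1
    have hc₁ : Nat.card (multSub Q) = Nat.card σ₁.ker := by
      rw [Nat.card_congr ek₁.toEquiv, Nat.card_congr eA.toEquiv]
    have hc₂ : Nat.card (multSub Q) = Nat.card σ₂.ker := by
      rw [Nat.card_congr ek₂.toEquiv, Nat.card_congr eA.toEquiv]
    have hS₁ := isKerCompl_ker_lift Q σ₁ hσ₁ hc₁ ψ₁ hψ₁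
    have hS₂ := isKerCompl_ker_lift Q σ₂ hσ₂ hc₂ ψ₂ hψ₂
    obtain ⟨θ, hθ⟩ := exists_theta_of_coprime Q hS₁ hS₂ hcop
    let θt : Ehat Q →* Ehat Q := MonoidHom.mk' (fun e => e * (θ e : Ehat Q)) (by
      intro a b
      show a * b * ((θ (a * b) : multSub Q) : Ehat Q) = _
      rw [map_mul, Subgroup.coe_mul, mul_assoc, mul_assoc]
      congr 1
      rw [← mul_assoc, ← mul_assoc, multSub_comm Q (θ a) b])
    have hθt : ∀ e, θt e = e * (θ e : Ehat Q) := fun e => rfl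
    have hπθ : ∀ e, ehatProj Q (θt e) = ehatProj Q e := by
      intro e
      rw [hθt, map_mul]
      have : ((θ e : multSub Q) : Ehat Q) ∈ (ehatProj Q).ker := (θ e).2.2
      rw [MonoidHom.mem_ker.mp this, mul_one]
    have hψ₂' : σ₂.comp (ψ₂.comp θt) = ehatProj Q := by
      refine MonoidHom.ext fun e => ?_
      rw [MonoidHom.comp_apply, MonoidHom.comp_apply, lift_apply σ₂ ψ₂ hψ₂, hπθ]
    have hsurj₂ := lift_surjective_of_stem σ₂ (ψ₂.comp θt) hψ₂' hσ₂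
    have hsurj₁ := lift_surjective_of_stem σ₁ ψ₁ hψ₁ hσ₁
    have hle : ψ₁.ker ≤ (ψ₂.comp θt).ker := by
      intro s hs
      rw [MonoidHom.mem_ker, MonoidHom.comp_apply, hθt]
      exact hθ s hs
    let f : Γ₁ →* Γ₂ := ψ₁.liftOfSurjective hsurj₁ ⟨ψ₂.comp θt, hle⟩
    have hf : ∀ e, f (ψ₁ e) = ψ₂ (θt e) := fun e =>
      MonoidHom.liftOfRightInverse_comp_apply _ _ _ _ e
    have hfsurj : Function.Surjective f := by
      intro y
      obtain ⟨e, he⟩ := hsurj₂ y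
      exact ⟨ψ₁ e, by rw [hf]; exact he⟩
    have hcard : Nat.card Γ₁ = Nat.card Γ₂ := by
      rw [card_eq_of_stem σ₁ hσ₁.1, card_eq_of_stem σ₂ hσ₂.1, ← hc₁, ← hc₂]
    have hfbij := (Nat.bijective_iff_surjective_and_card f).mpr ⟨hfsurj, hcard⟩
    refine ⟨MulEquiv.ofBijective f hfbij, ?_⟩
    refine MonoidHom.ext fun x => ?_
    obtain ⟨e, rfl⟩ := hsurj₁ x
    show σ₂ (f (ψ₁ e)) = σ₁ (ψ₁ e)
    rw [hf, lift_apply σ₂ ψ₂ hψ₂, lift_apply σ₁ ψ₁ hψ₁, hπθ]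

end Cfsg.Agent.S3974
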