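import Cfsg.Statements.S3976
import Mathlib
import Cfsg.Agent.Lib.Helper66.Wielandt

set_option autoImplicit false
open Cfsg

namespace Cfsg.Agent.S3976

open scoped Pointwise
open Cfsg.Agent.Lib.Helper66

/-- Let `p` be a prime and `G` a group of order `p ^ m`. For every `s ≤ m` the number of normal subgroups of `G` of order `p ^ s` is congruent to `1` modulo `p`. -/
theorem result {G : Type*} [Group G] [Finite G] (p m s : ℕ) (hp : p.Prime) (hG : Nat.card G = p ^ m) (hs : s ≤ m) : Nat.card {H : Subgroup G // H.Normal ∧ Nat.card H = p ^ s} ≡ 1 [MOD p] := by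
  classical
  have : Fact p.Prime := ⟨hp⟩
  have : Fintype (Subgroup G) := Fintype.ofFinite _
  have hdiv : p ^ s ∣ Nat.card G := by rw [hG]; exact pow_dvd_pow p hs
  have h1 := card_subgroups_modEq_one (G := G) p s hdiv
  have hfin : Finite (ConjAct G) := ‹Finite G›
  have hpg : IsPGroup p (ConjAct G) := IsPGroup.of_card (n := m) hG
  let Y : Finset (Subgroup G) := Finset.univ.filter (fun H => Nat.card H = p ^ s)
  let F : Finset (Subgroup G) := Finset.univ.filter (fun H => H.Normal ∧ Nat.card H = p ^ s)
  have hY : Nat.card {H : Subgroup G // Nat.card H = p ^ s} = Y.card := by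
    rw [Nat.card_eq_fintype_card, Fintype.card_subtype]
  have hFc : Nat.card {H : Subgroup G // H.Normal ∧ Nat.card H = p ^ s} = F.card := by
    rw [Nat.card_eq_fintype_card, Fintype.card_subtype]
  have hcard : ∀ (g : ConjAct G) (H : Subgroup G), Nat.card (g • H : Subgroup G) = Nat.card H := by
    intro g H
    rw [Subgroup.pointwise_smul_def]
    apply Subgroup.card_map_of_injective
    intro a b hab
    exact (MulAction.injective g) hab
  have key := card_modEq_card_fixed_of_invariant (G := ConjAct G) (Z := Subgroup G) p hpg Y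
    (by
      intro g H hH
      rw [Finset.mem_filter] at hH ⊢
      exact ⟨Finset.mem_univ _, (hcard g H).trans hH.2⟩) F
    (by
      intro H
      simp only [Finset.mem_filter, Finset.mem_univ, true_and, F, Y]
      constructor
      · rintro ⟨hn, hc⟩
        exact ⟨hc, fun g => hn.conjAct g⟩
      · rintro ⟨hc, hfix⟩
        refine ⟨?_, hc⟩
        rw [← Subgroup.normalizer_eq_top_iff, eq_top_iff]
        intro g _
        exact Subgroup.conjAct_pointwise_smul_iff.mp (hfix (ConjAct.toConjAct g)))
  rw [hFc]
  rw [hY] at h1
  exact key.symm.trans h1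

end Cfsg.Agent.S3976
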