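import Cfsg.Statements.S3978
import Cfsg.Agent.S3955
import Cfsg.Agent.S3956

set_option autoImplicit false
open Cfsg

namespace Cfsg.Agent.S3978

theorem id_stem (Q : Type*) [Group Q] : Cfsg.IsStemExtension (MonoidHom.id Q) := by
  refine ⟨Function.surjective_id, ?_, ?_⟩ <;> rw [MonoidHom.ker_id] <;> exact bot_le

/-- A finite group `Q` has trivial Schur multiplier if and only if, for every `n`, every homomorphism from `Q` to the projective general linear group (the quotient of `GL n ℂ` by its centre) lifts to a homomorphism into `GL n ℂ`. -/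
theorem result {Q : Type*} [Group Q] [Finite Q] : Cfsg.HasCyclicSchurMultiplier Q 1 ↔ ∀ (n : ℕ) (γ : Q →* (GL (Fin n) ℂ ⧸ Subgroup.center (GL (Fin n) ℂ))), ∃ ρ : Q →* GL (Fin n) ℂ, (QuotientGroup.mk' (Subgroup.center (GL (Fin n) ℂ))).comp ρ = γ := by
  constructor
  · intro hA n γ
    have hk : Nonempty ((MonoidHom.id Q).ker ≃* Multiplicative (ZMod 1)) := by
      have h1 : Subsingleton (MonoidHom.id Q).ker := by
        rw [MonoidHom.ker_id]; infer_instance
      have h2 : Subsingleton (Multiplicative (ZMod 1)) :=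
        inferInstanceAs (Subsingleton (ZMod 1))
      let _ : Unique (MonoidHom.id Q).ker := ⟨⟨1⟩, fun a => Subsingleton.elim _ _⟩
      let _ : Unique (Multiplicative (ZMod 1)) := Unique.mk' _
      exact ⟨MulEquiv.ofUnique⟩
    obtain ⟨ρ, hρ⟩ := Cfsg.Agent.S3955.result hA (MonoidHom.id Q) (id_stem Q) hk n γ
    exact ⟨ρ, by rw [hρ, MonoidHom.comp_id]⟩
  · intro hlift
    have hlift' : ∀ (n : ℕ) (γ : Q →* (GL (Fin n) ℂ ⧸ Subgroup.center (GL (Fin n) ℂ))),
        ∃ ρ : Q →* GL (Fin n) ℂ,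
          (QuotientGroup.mk' (Subgroup.center (GL (Fin n) ℂ))).comp ρ = γ.comp (MonoidHom.id Q) := by
      intro n γ
      obtain ⟨ρ, hρ⟩ := hlift n γ
      exact ⟨ρ, by rw [hρ, MonoidHom.comp_id]⟩
    have h2 : Subsingleton (Multiplicative (ZMod 1)) :=
      inferInstanceAs (Subsingleton (ZMod 1))
    have h1 : Subsingleton (MonoidHom.id Q).ker := by
      rw [MonoidHom.ker_id]; infer_instance
    let _ : Unique (MonoidHom.id Q).ker := ⟨⟨1⟩, fun a => Subsingleton.elim _ _⟩
    let _ : Unique (Multiplicative (ZMod 1)) := Unique.mk' _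
    refine ⟨⟨Q, inferInstance, inferInstance, MonoidHom.id Q, id_stem Q, ⟨MulEquiv.ofUnique⟩⟩, ?_⟩
    intro Γ _ _ σ hσ
    obtain ⟨π, hπ⟩ := Cfsg.Agent.S3956.result (MonoidHom.id Q) (id_stem Q) hlift' Γ σ hσ
    have h3 : Subsingleton σ.ker := hπ.subsingleton
    refine ⟨1, fun y => ⟨1, Subsingleton.elim _ _⟩⟩

end Cfsg.Agent.S3978
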