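import Cfsg.Statements.S3980
import Cfsg.Agent.S3959

set_option autoImplicit false
universe u v w
open Cfsg

namespace Cfsg.Agent.S3980

open Cfsg.Agent.Lib.Helper65
open scoped TensorProduct

/-- transport of `HasSchurMultiplier` along an isomorphism -/
theorem hasSchurMultiplier_congr {Q : Type u} [Group Q] {A : Type v} {A' : Type w} [CommGroup A]
    [CommGroup A'] (e : A ≃* A') (hA : Cfsg.HasSchurMultiplier Q A) :
    Cfsg.HasSchurMultiplier Q A' := by
  obtain ⟨⟨Γ, i1, i2, σ, hσ, ⟨eσ⟩⟩, h2⟩ := hA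
  refine ⟨⟨Γ, i1, i2, σ, hσ, ⟨eσ.trans e⟩⟩, ?_⟩
  intro Γ' _ _ σ' hσ'
  obtain ⟨π, hπ⟩ := h2 Γ' σ' hσ'
  exact ⟨π.comp e.symm.toMonoidHom, hπ.comp e.symm.surjective⟩

theorem abT_eq_zero {Q₁ : Type u} {Q₂ : Type v} [Group Q₁] [Group Q₂] [Finite Q₁] [Finite Q₂]
    (hcop : Nat.Coprime (Nat.card (Abelianization Q₁)) (Nat.card (Abelianization Q₂)))
    (x : AbT Q₁ Q₂) : x = 0 := by
  induction x using TensorProduct.induction_on with
  | zero => rfl
  | tmul m n =>
    obtain ⟨u, v, huv⟩ := (Nat.isCoprime_iff_coprime.mpr hcop)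
    have hm : (Nat.card (Abelianization Q₁)) • m = 0 := card_nsmul_eq_zero' (G := Additive (Abelianization Q₁))
    have hn : (Nat.card (Abelianization Q₂)) • n = 0 := card_nsmul_eq_zero' (G := Additive (Abelianization Q₂))
    have h1 : ((Nat.card (Abelianization Q₁) : ℤ)) • (m ⊗ₜ[ℤ] n) = 0 := by
      rw [TensorProduct.smul_tmul', natCast_zsmul, hm, TensorProduct.zero_tmul]
    have h2 : ((Nat.card (Abelianization Q₂) : ℤ)) • (m ⊗ₜ[ℤ] n) = 0 := by
      rw [← TensorProduct.tmul_smul, natCast_zsmul, hn, TensorProduct.tmul_zero]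
    calc m ⊗ₜ[ℤ] n = (1 : ℤ) • (m ⊗ₜ[ℤ] n) := (one_smul _ _).symm
      _ = (u * (Nat.card (Abelianization Q₁) : ℤ) + v * (Nat.card (Abelianization Q₂) : ℤ)) •
            (m ⊗ₜ[ℤ] n) := by rw [huv]
      _ = 0 := by rw [add_smul, mul_smul, mul_smul, h1, h2, smul_zero, smul_zero, add_zero]
  | add a b ha hb => rw [ha, hb, add_zero]

/-- Let `Q₁` and `Q₂` be finite groups whose commutator quotients have coprime orders, with Schur multipliers `A` and `B`. Then the Schur multiplier of `Q₁ × Q₂` is isomorphic to `A × B`. -/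
theorem result {Q₁ : Type u} {Q₂ : Type v} [Group Q₁] [Group Q₂] [Finite Q₁] [Finite Q₂] {A B : Type w} [CommGroup A] [CommGroup B] (hA : Cfsg.HasSchurMultiplier Q₁ A) (hB : Cfsg.HasSchurMultiplier Q₂ B) (hcop : Nat.Coprime (Nat.card (Abelianization Q₁)) (Nat.card (Abelianization Q₂))) : Cfsg.HasSchurMultiplier (Q₁ × Q₂) (A × B) := by
  have h := Cfsg.Agent.S3959.result hA hB
  let _ : Unique (Multiplicative (AbT Q₁ Q₂)) :=
    ⟨⟨1⟩, fun a => abT_eq_zero hcop (Multiplicative.toAdd a)⟩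
  exact hasSchurMultiplier_congr
    (MulEquiv.prodCongr (MulEquiv.refl A) (MulEquiv.prodUnique)) h

end Cfsg.Agent.S3980
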