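import Cfsg.Statements.S3981
import Cfsg.Agent.Lib.Helper55.InvolAut

set_option autoImplicit false
set_option linter.style.haveILetI false
open Cfsg

namespace Cfsg.Agent.S3981

open Cfsg.Agent.Lib.Helper55

/-- Let p be an odd prime, Q a p-subgroup of the finite group G and y an involution normalizing Q. Then Q is maximal among the p-subgroups of G normalized by y if and only if the image of y in N_G(Q) ⧸ Q neither inverts nor centralizes any element of order p there; the latter is phrased inside N_G(Q): for every x in N_G(Q) outside Q with x ^ p ∈ Q, neither y x y⁻¹ x nor y x y⁻¹ x⁻¹ lies in Q. -/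
theorem result {G : Type*} [Group G] [Finite G] (p : ℕ) [Fact p.Prime] (hp2 : p ≠ 2) (Q : Subgroup G) (hQ : IsPGroup p ↥Q) (y : G) (hy : orderOf y = 2) (hyQ : y ∈ Subgroup.normalizer (Q : Set G)) : (∀ R : Subgroup G, IsPGroup p ↥R → Q ≤ R → y ∈ Subgroup.normalizer (R : Set G) → R = Q) ↔ ∀ x : G, x ∈ Subgroup.normalizer (Q : Set G) → x ∉ Q → x ^ p ∈ Q → (y * x * y⁻¹ * x ∉ Q ∧ y * x * y⁻¹ * x⁻¹ ∉ Q) := by
  have hy2 : y * y = 1 := by rw [← pow_two, ← hy]; exact pow_orderOf_eq_one y
  have hyinv : y⁻¹ = y := inv_eq_of_mul_eq_one_left hy2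
  have hyQ' : ∀ q ∈ Q, y * q * y⁻¹ ∈ Q := fun q hq => (Subgroup.mem_normalizer_iff.mp hyQ q).mp hq
  constructor
  · intro hmax x hxN hxQ hxp
    -- the subgroup generated by Q and x
    have key : ∀ c : G, c ∈ Q → (y * x * y⁻¹ = c * x ∨ y * x * y⁻¹ = c * x⁻¹) → False := by
      intro c hc hcx
      set R := Subgroup.zpowers x ⊔ Q with hR
      have hxpow : IsPGroup p (Subgroup.zpowers x) := by
        obtain ⟨k, hk⟩ := hQ ⟨x ^ p, hxp⟩
        have hk' : (x ^ p) ^ p ^ k = 1 := by
          have := congrArg Subtype.val hk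
          simpa using this
        rintro ⟨g, hg⟩
        obtain ⟨i, rfl⟩ := Subgroup.mem_zpowers_iff.mp hg
        refine ⟨k + 1, Subtype.ext ?_⟩
        simp only [Subgroup.coe_pow, Subgroup.coe_one]
        rw [← zpow_natCast, ← zpow_mul, mul_comm, zpow_mul, zpow_natCast, pow_succ', pow_mul, hk',
          one_zpow]
      have hRp : IsPGroup p R :=
        hxpow.to_sup_of_normal_right' hQ (by rw [Subgroup.zpowers_le]; exact hxN)
      have hQR : Q ≤ R := le_sup_right
      have hxR : x ∈ R := (le_sup_left : Subgroup.zpowers x ≤ R) (Subgroup.mem_zpowers x)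
      have hyR : y ∈ Subgroup.normalizer (R : Set G) := by
        have hmap : R.map (MulAut.conj y).toMonoidHom ≤ R := by
          rw [hR, Subgroup.map_sup, sup_le_iff]
          constructor
          · rw [MonoidHom.map_zpowers, Subgroup.zpowers_le]
            show y * x * y⁻¹ ∈ _
            rcases hcx with h | h
            · rw [h]; exact mul_mem (hQR hc) hxR
            · rw [h]; exact mul_mem (hQR hc) (inv_mem hxR)
          · rintro _ ⟨q, hq, rfl⟩
            exact hQR (hyQ' q hq)
        have hcard : Nat.card (R.map (MulAut.conj y).toMonoidHom) = Nat.card R :=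
          Subgroup.card_map_of_injective (MulAut.conj y).injective
        have heq : R.map (MulAut.conj y).toMonoidHom = R :=
          Subgroup.eq_of_le_of_card_ge hmap (le_of_eq hcard.symm)
        rw [Subgroup.mem_normalizer_iff_map_conj_eq]
        exact heq
      have := hmax R hRp hQR hyR
      rw [this] at hxR
      exact hxQ hxR
    constructor
    · intro h
      apply key (y * x * y⁻¹ * x) h
      right
      group
    · intro h
      apply key (y * x * y⁻¹ * x⁻¹) h
      left
      group
  · intro hel R hRp hQR hyR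
    by_contra hne
    have hyR' : ∀ r ∈ R, y * r * y⁻¹ ∈ R := fun r hr => (Subgroup.mem_normalizer_iff.mp hyR r).mp hr
    -- normalizer grows
    haveI : Group.IsNilpotent ↥R := hRp.isNilpotent
    have hlt : Q.subgroupOf R < ⊤ := by
      rw [lt_top_iff_ne_top]
      intro h
      apply hne
      apply le_antisymm _ hQR
      intro r hr
      have : (⟨r, hr⟩ : R) ∈ Q.subgroupOf R := by rw [h]; exact Subgroup.mem_top _
      exact Subgroup.mem_subgroupOf.mp this
    have hnc := Group.normalizerCondition_of_isNilpotent (G := ↥R) (Q.subgroupOf R) hlt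
    obtain ⟨h, hhN, hhQ⟩ := SetLike.exists_of_lt hnc
    have hhN' : (h : G) ∈ Subgroup.normalizer (Q : Set G) := by
      rw [Subgroup.mem_normalizer_iff]
      intro g
      constructor
      · intro hg
        have := (Subgroup.mem_normalizer_iff.mp hhN ⟨g, hQR hg⟩).mp (Subgroup.mem_subgroupOf.mpr hg)
        exact Subgroup.mem_subgroupOf.mp this
      · intro hg
        have hgR : g ∈ R := by
          have h1 : (h : G) * g * (h : G)⁻¹ ∈ R := hQR hg
          have : g = (h : G)⁻¹ * ((h : G) * g * (h : G)⁻¹) * (h : G) := by group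
          rw [this]
          exact mul_mem (mul_mem (inv_mem h.2) h1) h.2
        have := (Subgroup.mem_normalizer_iff.mp hhN ⟨g, hgR⟩).mpr (Subgroup.mem_subgroupOf.mpr hg)
        exact Subgroup.mem_subgroupOf.mp this
    set M := R ⊓ Subgroup.normalizer (Q : Set G) with hM
    have hQM : Q ≤ M := le_inf hQR Subgroup.le_normalizer
    have hneM : Q ≠ M := by
      intro heq
      apply hhQ
      rw [Subgroup.mem_subgroupOf, heq]
      exact ⟨h.2, hhN'⟩
    have hMp : IsPGroup p M := hRp.to_le inf_le_left
    have hyM : ∀ m ∈ M, y * m * y⁻¹ ∈ M := by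
      intro m hm
      exact ⟨hyR' m hm.1, (Subgroup.normalizer (Q : Set G)).mul_mem ((Subgroup.normalizer (Q : Set G)).mul_mem hyQ hm.2) ((Subgroup.normalizer (Q : Set G)).inv_mem hyQ)⟩
    obtain ⟨x, hxM, hxQ, hxp, hx⟩ :=
      exists_centralized_or_inverted_mod p Q M hQM hneM inf_le_right hMp y hy2 hyQ' hyM
    have := hel x hxM.2 hxQ hxp
    rcases hx with h1 | h1
    · exact this.2 h1
    · exact this.1 h1

end Cfsg.Agent.S3981
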