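import Cfsg.Statements.S3982
import Cfsg.Agent.Lib.Helper55.InvolSylow

set_option autoImplicit false
set_option linter.style.haveILetI false
open Cfsg

namespace Cfsg.Agent.S3982

open Cfsg.Agent.Lib.Helper55

/-- the key step: a `p`-subgroup of maximal order among those with normalizer of even order is a
Sylow `p`-subgroup. -/
theorem key {G : Type*} [Group G] [Finite G] (p : ℕ) [Fact p.Prime] (hp2 : p ≠ 2)
    (hC : ∀ g : G, g ≠ 1 → (∃ k : ℕ, orderOf g = p ^ k) →
      Odd (Nat.card ↥(Subgroup.centralizer ({g} : Set G))))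
    (Q : Subgroup G) (hQ : IsPGroup p ↥Q) (hQ1 : Q ≠ ⊥)
    (hev : Even (Nat.card ↥(Subgroup.normalizer (Q : Set G))))
    (hmax : ∀ R : Subgroup G, IsPGroup p R → R ≠ ⊥ →
      Even (Nat.card ↥(Subgroup.normalizer (R : Set G))) → Nat.card R ≤ Nat.card Q)
    (R : Subgroup G) (hRp : IsPGroup p R) (hQR : Q ≤ R) : R = Q := by
  by_contra hne
  have hpodd : Odd p := (Fact.out : p.Prime).odd_of_ne_two hp2
  haveI : Fact (Nat.Prime 2) := ⟨Nat.prime_two⟩
  -- no involution commutes with a nontrivial p-element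
  have hnocomm : ∀ g : G, g ≠ 1 → (∃ k : ℕ, orderOf g = p ^ k) → ∀ s : G, orderOf s = 2 →
      s * g ≠ g * s := by
    intro g hg hgp s hs hcomm
    have hmem : s ∈ Subgroup.centralizer ({g} : Set G) :=
      Subgroup.mem_centralizer_singleton_iff.mpr hcomm
    have hdvd := Subgroup.orderOf_dvd_natCard _ hmem
    rw [hs] at hdvd
    have := hC g hg hgp
    rw [← even_iff_two_dvd] at hdvd
    exact (Nat.not_even_iff_odd.mpr this) hdvd
  have hQelt : ∀ q ∈ Q, ∃ k : ℕ, orderOf q = p ^ k := by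
    intro q hq
    obtain ⟨k, hk⟩ := (IsPGroup.iff_orderOf.mp hQ) ⟨q, hq⟩
    exact ⟨k, by rw [← hk, Subgroup.orderOf_mk]⟩
  -- the involution
  obtain ⟨t0, ht0⟩ := exists_prime_orderOf_dvd_card' 2 (even_iff_two_dvd.mp hev)
  set t : G := (t0 : G) with ht
  have htN : t ∈ Subgroup.normalizer (Q : Set G) := t0.2
  have hto : orderOf t = 2 := by rw [ht, Subgroup.orderOf_coe]; exact ht0
  have ht2 : t * t = 1 := by rw [← pow_two, ← hto]; exact pow_orderOf_eq_one t
  have htinv : t⁻¹ = t := inv_eq_of_mul_eq_one_left ht2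
  have htQ : ∀ q ∈ Q, t * q * t⁻¹ ∈ Q := fun q hq => (Subgroup.mem_normalizer_iff.mp htN q).mp hq
  -- t inverts Q
  have hinvert : ∀ q ∈ Q, t * q * t⁻¹ = q⁻¹ := by
    intro q hq
    let φ : MulAut Q := Subgroup.normalizerMonoidHom Q ⟨t, htN⟩
    have hφ : ∀ x : Q, ((φ x : Q) : G) = t * x * t⁻¹ := fun x => rfl
    have hfpf : MonoidHom.FixedPointFree φ := by
      intro x hx
      by_contra hx1
      have hx' : t * (x : G) * t⁻¹ = x := by rw [← hφ, hx]
      have hx1' : (x : G) ≠ 1 := fun h => hx1 (Subtype.ext h)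
      apply hnocomm (x : G) hx1' (hQelt _ x.2) t hto
      calc t * (x : G) = t * (x : G) * t⁻¹ * t := by group
        _ = (x : G) * t := by rw [hx']
    have hinv : Function.Involutive φ := by
      intro x
      apply Subtype.ext
      rw [hφ, hφ, htinv]
      calc t * (t * (x : G) * t) * t = (t * t) * (x : G) * (t * t) := by group
        _ = x := by rw [ht2, one_mul, mul_one]
    have := hfpf.coe_eq_inv_of_involutive hinv
    have h2 := congrFun this ⟨q, hq⟩
    have h3 := congrArg Subtype.val h2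
    rw [hφ] at h3
    simpa using h3
  -- the centralizer
  set C := Subgroup.centralizer (Q : Set G) with hCdef
  have hCN : C ≤ Subgroup.normalizer (Q : Set G) := Subgroup.centralizer_le_normalizer _
  have hCodd : Odd (Nat.card C) := by
    obtain ⟨g, hg1⟩ := (Subgroup.ne_bot_iff_exists_ne_one.mp hQ1)
    have hle : C ≤ Subgroup.centralizer ({(g : G)} : Set G) :=
      Subgroup.centralizer_le (by
        intro x hx
        rw [Set.mem_singleton_iff] at hx
        rw [hx]; exact g.2)
    have hg1' : (g : G) ≠ 1 := fun h => hg1 (Subtype.ext h)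
    exact (hC g hg1' (hQelt _ g.2)).of_dvd_nat (Subgroup.card_dvd_of_le hle)
  -- N(Q) normalizes C
  have hNC : ∀ n ∈ Subgroup.normalizer (Q : Set G), ∀ c ∈ C, n * c * n⁻¹ ∈ C := by
    intro n hn c hc
    rw [hCdef, Subgroup.mem_centralizer_iff]
    intro q hq
    have hq1 : n⁻¹ * q * n ∈ Q := by
      have := (Subgroup.mem_normalizer_iff.mp
        ((Subgroup.normalizer (Q : Set G)).inv_mem hn) q).mp hq
      simpa using this
    have hcq := (Subgroup.mem_centralizer_iff.mp hc) _ hq1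
    calc q * (n * c * n⁻¹) = n * ((n⁻¹ * q * n) * c) * n⁻¹ := by group
      _ = n * (c * (n⁻¹ * q * n)) * n⁻¹ := by rw [hcq]
      _ = n * c * n⁻¹ * q := by group
  have hNC' : Subgroup.normalizer (Q : Set G) ≤ Subgroup.normalizer (C : Set G) := by
    intro n hn
    exact mem_normalizer_of_conj_mem C n (hNC n hn)
  -- commutators with t land in C
  have hcomm : ∀ n ∈ Subgroup.normalizer (Q : Set G), t * n * t⁻¹ * n⁻¹ ∈ C := by
    intro n hn
    rw [hCdef, Subgroup.mem_centralizer_iff]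
    intro q hq
    have hq1 : n⁻¹ * q * n ∈ Q := by
      have := (Subgroup.mem_normalizer_iff.mp
        ((Subgroup.normalizer (Q : Set G)).inv_mem hn) q).mp hq
      simpa using this
    have h1 := hinvert _ hq1
    rw [htinv] at h1
    have h2 := hinvert _ (inv_mem hq)
    rw [htinv, inv_inv] at h2
    rw [htinv]
    have h3 : t * n * t * n⁻¹ * q * (n * t * n⁻¹ * t) = q := by
      calc t * n * t * n⁻¹ * q * (n * t * n⁻¹ * t)
          = t * (n * (t * (n⁻¹ * q * n) * t) * n⁻¹) * t := by group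
        _ = t * (n * (n⁻¹ * q * n)⁻¹ * n⁻¹) * t := by rw [h1]
        _ = t * q⁻¹ * t := by group
        _ = q := h2
    have htt : ∀ x : G, t * (t * x) = x := fun x => by rw [← mul_assoc, ht2, one_mul]
    have hdc : (n * t * n⁻¹ * t) * (t * n * t * n⁻¹) = 1 := by
      simp only [mul_assoc, htt, inv_mul_cancel_left, mul_inv_cancel]
    calc q * (t * n * t * n⁻¹)
        = (t * n * t * n⁻¹ * q * (n * t * n⁻¹ * t)) * (t * n * t * n⁻¹) := by rw [h3]
      _ = t * n * t * n⁻¹ * q * ((n * t * n⁻¹ * t) * (t * n * t * n⁻¹)) := by group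
      _ = t * n * t * n⁻¹ * q := by rw [hdc, mul_one]
  -- the bigger p-subgroup R'
  obtain ⟨hQR', hneR'⟩ := lt_inf_normalizer_of_lt p Q R hRp hQR hne
  set R' := R ⊓ Subgroup.normalizer (Q : Set G) with hR'
  have hR'p : IsPGroup p R' := hRp.to_le inf_le_left
  have hR'N : R' ≤ Subgroup.normalizer (Q : Set G) := inf_le_right
  -- X = R' C
  set X := R' ⊔ C with hX
  have hXodd : Odd (Nat.card X) := by
    have hdvd := card_sup_dvd_mul_of_le_normalizer R' C (hR'N.trans hNC')
    obtain ⟨k, hk⟩ := IsPGroup.exists_card_eq hR'p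
    have : Odd (Nat.card R' * Nat.card C) := by
      rw [hk]
      exact (hpodd.pow).mul hCodd
    exact this.of_dvd_nat hdvd
  have htX : ∀ x ∈ X, t * x * t⁻¹ ∈ X := by
    have hmap : X.map (MulAut.conj t).toMonoidHom ≤ X := by
      rw [hX, Subgroup.map_sup, sup_le_iff]
      constructor
      · rintro _ ⟨r, hr, rfl⟩
        show t * r * t⁻¹ ∈ R' ⊔ C
        have : t * r * t⁻¹ = (t * r * t⁻¹ * r⁻¹) * r := by group
        rw [this]
        exact mul_mem ((le_sup_right : C ≤ R' ⊔ C) (hcomm r (hR'N hr)))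
          ((le_sup_left : R' ≤ R' ⊔ C) hr)
      · rintro _ ⟨c, hc, rfl⟩
        exact (le_sup_right : C ≤ R' ⊔ C) (hNC t htN c hc)
    intro x hx
    exact hmap ⟨x, hx, rfl⟩
  obtain ⟨S, hSX, hSp, htS, hScard⟩ :=
    exists_sylow_normalized_by_involution p X hXodd t (mem_normalizer_of_conj_mem X t htX) ht2
  -- |R'| ≤ |S|
  have hR'S : Nat.card R' ≤ Nat.card S := by
    obtain ⟨k, hk⟩ := IsPGroup.exists_card_eq hR'p
    have hdvd : Nat.card R' ∣ Nat.card X := Subgroup.card_dvd_of_le le_sup_left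
    rw [hk] at hdvd ⊢
    rw [hScard]
    have := (Nat.Prime.pow_dvd_iff_le_factorization (Fact.out : p.Prime)
      (Nat.card_pos.ne')).mp hdvd
    exact Nat.pow_le_pow_right (Fact.out : p.Prime).pos this
  have hQR'card : Nat.card Q < Nat.card R' := by
    by_contra hle
    push Not at hle
    exact hneR' (Subgroup.eq_of_le_of_card_ge hQR' hle)
  have hS1 : S ≠ ⊥ := by
    intro h
    rw [h, Subgroup.card_bot] at hR'S
    have : 0 < Nat.card Q := Nat.card_pos
    omega
  have hSev : Even (Nat.card ↥(Subgroup.normalizer (S : Set G))) := by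
    have hmem := mem_normalizer_of_conj_mem S t htS
    have hdvd := Subgroup.orderOf_dvd_natCard _ hmem
    rw [hto] at hdvd
    exact even_iff_two_dvd.mpr hdvd
  have := hmax S hSp hS1 hSev
  omega

/-- Let p be an odd prime and G a finite group of even order divisible by p in which the centralizer of every non-identity p-element has odd order. If some nontrivial p-subgroup of G has a normalizer of even order, then the normalizer of every Sylow p-subgroup of G has even order. -/
theorem result {G : Type*} [Group G] [Finite G] (p : ℕ) [Fact p.Prime] (hp2 : p ≠ 2) (hpG : p ∣ Nat.card G) (h2G : 2 ∣ Nat.card G) (hC : ∀ g : G, g ≠ 1 → (∃ k : ℕ, orderOf g = p ^ k) → Odd (Nat.card ↥(Subgroup.centralizer ({g} : Set G)))) (Q : Subgroup G) (hQ : IsPGroup p ↥Q) (hQ1 : Q ≠ ⊥) (hev : Even (Nat.card ↥(Subgroup.normalizer (Q : Set G)))) (P : Sylow p G) : Even (Nat.card ↥(Subgroup.normalizer ((P : Subgroup G) : Set G))) := by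
  classical
  let 𝒮 : Set (Subgroup G) :=
    {R | IsPGroup p R ∧ R ≠ ⊥ ∧ Even (Nat.card ↥(Subgroup.normalizer (R : Set G)))}
  obtain ⟨Q₀, hQ₀mem, hQ₀max⟩ :=
    Set.exists_max_image 𝒮 (fun R => Nat.card R) (Set.toFinite _) ⟨Q, hQ, hQ1, hev⟩
  obtain ⟨hQ₀p, hQ₀1, hQ₀ev⟩ := hQ₀mem
  have hsyl := key p hp2 hC Q₀ hQ₀p hQ₀1 hQ₀ev
    (fun R hR hR1 hRev => hQ₀max R ⟨hR, hR1, hRev⟩)
  let P₀ : Sylow p G := ⟨Q₀, hQ₀p, fun {R} hR hle => hsyl R hR hle⟩
  have h1 : Nat.card (Sylow p G) = (Subgroup.normalizer ((P : Subgroup G) : Set G)).index :=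
    Sylow.card_eq_index_normalizer P
  have h2 : Nat.card (Sylow p G) = (Subgroup.normalizer ((P₀ : Subgroup G) : Set G)).index :=
    Sylow.card_eq_index_normalizer P₀
  have h3 := Subgroup.card_mul_index (Subgroup.normalizer ((P : Subgroup G) : Set G))
  have h4 := Subgroup.card_mul_index (Subgroup.normalizer ((P₀ : Subgroup G) : Set G))
  rw [← h1] at h3
  rw [← h2, ← h3] at h4
  have hpos : 0 < Nat.card (Sylow p G) := Nat.card_pos
  have h5 := Nat.eq_of_mul_eq_mul_right hpos h4
  have h6 : Nat.card ↥(Subgroup.normalizer ((P₀ : Subgroup G) : Set G)) =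
      Nat.card ↥(Subgroup.normalizer (Q₀ : Set G)) := rfl
  rw [← h5, h6]
  exact hQ₀ev

end Cfsg.Agent.S3982
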