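import Cfsg.Statements.S3983
import Cfsg.Agent.Lib.Helper33.Conj
import Mathlib.Tactic.Group

set_option autoImplicit false
open scoped Pointwise
open Cfsg

namespace Cfsg.Agent.S3983

open Cfsg.Agent.Lib.Helper33

theorem mem_conj_smul {G : Type*} [Group G] (g x : G) (K : Subgroup G) :
    x ∈ MulAut.conj g • K ↔ g⁻¹ * x * g ∈ K := by
  rw [← cj_eq_smul, mem_cj]

/-- Let P be a Sylow p-subgroup of the finite group G that meets each conjugate g P g⁻¹ with g outside N_G(P) trivially, and let U be a subgroup of G of order divisible by p. Then a Sylow p-subgroup Q of U has the same property inside U: Q meets each conjugate u Q u⁻¹ with u ∈ U outside N_U(Q) trivially. -/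
theorem result {G : Type*} [Group G] [Finite G] (p : ℕ) [Fact p.Prime] (P : Sylow p G) (hTI : ∀ g : G, g ∉ Subgroup.normalizer ((P : Subgroup G) : Set G) → (P : Subgroup G) ⊓ (MulAut.conj g • (P : Subgroup G)) = ⊥) (U : Subgroup G) (hU : p ∣ Nat.card ↥U) (Q : Sylow p ↥U) : ∀ u : ↥U, u ∉ Subgroup.normalizer ((Q : Subgroup ↥U) : Set ↥U) → (Q : Subgroup ↥U) ⊓ (MulAut.conj u • (Q : Subgroup ↥U)) = ⊥ := by
  classical
  intro u hu
  by_contra hne
  obtain ⟨⟨x, hxmem⟩, hx1⟩ := (Subgroup.ne_bot_iff_exists_ne_one).mp hne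
  have hx1' : x ≠ 1 := fun h => hx1 (Subtype.ext h)
  obtain ⟨hxQ, hxuQ⟩ := Subgroup.mem_inf.mp hxmem
  rw [mem_conj_smul] at hxuQ
  -- elementwise TI for P
  have hTI' : ∀ g w : G, w ≠ 1 → w ∈ (P : Subgroup G) → g⁻¹ * w * g ∈ (P : Subgroup G) →
      g ∈ Subgroup.normalizer ((P : Subgroup G) : Set G) := by
    intro g w hw1 hwP hwgP
    by_contra hg
    have h1 := hTI g hg
    have h2 : w ∈ (P : Subgroup G) ⊓ (MulAut.conj g • (P : Subgroup G)) :=
      Subgroup.mem_inf.mpr ⟨hwP, (mem_conj_smul g w _).mpr hwgP⟩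
    rw [h1, Subgroup.mem_bot] at h2
    exact hw1 h2
  -- a Sylow P1 of G containing the image of Q
  have hQ' : IsPGroup p ((Q : Subgroup U).map U.subtype) := Q.isPGroup'.map _
  obtain ⟨P1, hP1⟩ := hQ'.exists_le_sylow
  obtain ⟨a, ha⟩ := sylow_exists_cj P P1
  -- TI for P1
  have hTI1 : ∀ h w : G, w ≠ 1 → w ∈ (P1 : Subgroup G) → h⁻¹ * w * h ∈ (P1 : Subgroup G) →
      h ∈ Subgroup.normalizer ((P1 : Subgroup G) : Set G) := by
    intro h w hw1 hwP hwhP
    rw [← ha] at hwP hwhP ⊢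
    rw [mem_cj] at hwP hwhP
    rw [normalizer_cj, mem_cj]
    apply hTI' (a⁻¹ * h * a) (a⁻¹ * w * a)
    · intro h1
      apply hw1
      have : w = a * (a⁻¹ * w * a) * a⁻¹ := by group
      rw [this, h1]; group
    · exact hwP
    · have e : (a⁻¹ * h * a)⁻¹ * (a⁻¹ * w * a) * (a⁻¹ * h * a) = a⁻¹ * (h⁻¹ * w * h) * a := by group
      rw [e]; exact hwhP
  -- u normalizes P1
  have huN : (u : G) ∈ Subgroup.normalizer ((P1 : Subgroup G) : Set G) := by
    apply hTI1 (u : G) (x : G) (fun h => hx1' (Subtype.ext h))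
    · exact hP1 ⟨x, hxQ, rfl⟩
    · exact hP1 ⟨u⁻¹ * x * u, hxuQ, by simp⟩
  -- Q = (U ⊓ P1).subgroupOf U
  have hQeq : ((P1 : Subgroup G).subgroupOf U) = (Q : Subgroup U) := by
    apply Q.is_maximal'
    · exact P1.isPGroup'.comap_subtype
    · intro v hv
      rw [Subgroup.mem_subgroupOf]
      exact hP1 ⟨v, hv, rfl⟩
  apply hu
  rw [Subgroup.mem_normalizer_iff]
  intro v
  rw [← hQeq, Subgroup.mem_subgroupOf, Subgroup.mem_subgroupOf]
  have := (Subgroup.mem_normalizer_iff.mp huN) (v : G)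
  simpa using this

end Cfsg.Agent.S3983
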