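import Cfsg.Statements.S3985
import Cfsg.Agent.Lib.Helper55.CyclicSylow

set_option autoImplicit false
set_option linter.style.haveILetI false
open scoped Pointwise
open Cfsg

namespace Cfsg.Agent.S3985

open Cfsg.Agent.Lib.Helper55

/-- Let P be a cyclic Sylow p-subgroup of the finite group G. Then P meets each conjugate g P g⁻¹ with g outside N_G(P) trivially if and only if P is weakly self-centralizing: C_G(x) = C_G(P) for every non-identity x ∈ P. -/
theorem result {G : Type*} [Group G] [Finite G] (p : ℕ) [Fact p.Prime] (P : Sylow p G) (hcyc : IsCyclic ↥(P : Subgroup G)) : (∀ g : G, g ∉ Subgroup.normalizer ((P : Subgroup G) : Set G) → (P : Subgroup G) ⊓ (MulAut.conj g • (P : Subgroup G)) = ⊥) ↔ ∀ x : G, x ∈ (P : Subgroup G) → x ≠ 1 → Subgroup.centralizer ({x} : Set G) = Subgroup.centralizer ((P : Subgroup G) : Set G) := by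
  haveI : IsMulCommutative ↥(P : Subgroup G) := IsCyclic.isMulCommutative
  constructor
  · intro hTI x hx hx1
    apply le_antisymm
    · intro g hg
      have hgx : x * g = g * x := (Subgroup.mem_centralizer_singleton_iff.mp hg).symm
      have hgN : g ∈ Subgroup.normalizer ((P : Subgroup G) : Set G) := by
        by_contra hgN
        have hbot := hTI g hgN
        have hmem : x ∈ (P : Subgroup G) ⊓ (MulAut.conj g • (P : Subgroup G)) := by
          refine Subgroup.mem_inf.mpr ⟨hx, ?_⟩
          rw [mem_conj_smul_iff]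
          have : g⁻¹ * x * g = x := by rw [mul_assoc, hgx, ← mul_assoc, inv_mul_cancel, one_mul]
          rw [this]; exact hx
        rw [hbot, Subgroup.mem_bot] at hmem
        exact hx1 hmem
      exact mem_centralizer_of_cyclic_sylow p P hcyc g hgN x hx hx1 hgx.symm
    · exact Subgroup.centralizer_le (Set.singleton_subset_iff.mpr hx)
  · intro hC g hgN
    by_contra hne
    obtain ⟨x, hx1⟩ := (Subgroup.ne_bot_iff_exists_ne_one.mp hne)
    have hx1' : (x : G) ≠ 1 := fun h => hx1 (Subtype.ext h)
    obtain ⟨hxP, hxQ⟩ := Subgroup.mem_inf.mp x.2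
    rw [mem_conj_smul_iff] at hxQ
    have hle1 : MulAut.conj g • (P : Subgroup G) ≤ Subgroup.centralizer ({(x : G)} : Set G) := by
      intro w hw
      rw [mem_conj_smul_iff] at hw
      rw [Subgroup.mem_centralizer_singleton_iff]
      have hcomm : (g⁻¹ * (x : G) * g) * (g⁻¹ * w * g) = (g⁻¹ * w * g) * (g⁻¹ * (x : G) * g) :=
        setLike_mul_comm hxQ hw
      calc w * (x : G) = g * ((g⁻¹ * w * g) * (g⁻¹ * (x : G) * g)) * g⁻¹ := by group
        _ = g * ((g⁻¹ * (x : G) * g) * (g⁻¹ * w * g)) * g⁻¹ := by rw [hcomm]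
        _ = (x : G) * w := by group
    rw [hC x hxP hx1'] at hle1
    have hle2 : MulAut.conj g • (P : Subgroup G) ≤ Subgroup.normalizer ((P : Subgroup G) : Set G) :=
      hle1.trans (Subgroup.centralizer_le_normalizer _)
    have hpg : IsPGroup p ↥(MulAut.conj g • (P : Subgroup G)) := by
      have := (g • P : Sylow p G).2
      rwa [Sylow.coe_subgroup_smul] at this
    have hinf := hpg.inf_normalizer_sylow P
    have hle3 : MulAut.conj g • (P : Subgroup G) ≤ (P : Subgroup G) := by
      have h5 : MulAut.conj g • (P : Subgroup G) ≤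
          MulAut.conj g • (P : Subgroup G) ⊓ Subgroup.normalizer ((P : Subgroup G) : Set G) :=
        le_inf le_rfl hle2
      exact (h5.trans (le_of_eq hinf)).trans inf_le_right
    apply hgN
    apply Sylow.smul_eq_iff_mem_normalizer.mp
    apply Sylow.ext
    have hle4 : ((g • P : Sylow p G) : Subgroup G) ≤ (P : Subgroup G) := by
      rw [Sylow.coe_subgroup_smul]; exact hle3
    exact ((g • P : Sylow p G).3 P.2 hle4).symm

end Cfsg.Agent.S3985
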