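import Cfsg.Statements.S3986
import Mathlib
import Cfsg.Agent.Lib.Helper66.SylowGen

set_option autoImplicit false
open Cfsg

namespace Cfsg.Agent.S3986

open Cfsg.Agent.Lib.Helper66

theorem mem_of_direct {G : Type*} [Group G] [Finite G] (p : ℕ) [Fact p.Prime] (P : Sylow p G)
    (K : Subgroup G) (hK : K.Normal) (hsup : (P : Subgroup G) ⊔ K = ⊤)
    (y : G) (hy : ∃ q b : ℕ, q.Prime ∧ q ≠ p ∧ orderOf y = q ^ b) : y ∈ K := by
  have hp : p.Prime := Fact.out
  obtain ⟨q, b, hq, hqp, hyo⟩ := hy
  have hy' : y ∈ ((P : Subgroup G) ⊔ K : Subgroup G) := by rw [hsup]; exact Subgroup.mem_top _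
  rw [← SetLike.mem_coe, Subgroup.mul_normal] at hy'
  obtain ⟨u, hu, k, hk, rfl⟩ := hy'
  obtain ⟨c, hc⟩ := exists_orderOf_eq_pow_of_mem_sylow P u hu
  have h1 : orderOf (QuotientGroup.mk' K (u * k)) ∣ q ^ b := by
    rw [← hyo]; exact orderOf_map_dvd _ _
  have h2 : QuotientGroup.mk' K (u * k) = QuotientGroup.mk' K u := by
    have hk1 : QuotientGroup.mk' K k = 1 := (QuotientGroup.eq_one_iff k).mpr hk
    rw [map_mul, hk1, mul_one]
  have h3 : orderOf (QuotientGroup.mk' K (u * k)) ∣ p ^ c := by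
    rw [h2, ← hc]; exact orderOf_map_dvd _ _
  have hcop : Nat.Coprime (q ^ b) (p ^ c) :=
    Nat.Coprime.pow _ _ ((Nat.coprime_primes hq hp).mpr hqp)
  have h4 : orderOf (QuotientGroup.mk' K (u * k)) = 1 :=
    Nat.eq_one_of_dvd_coprimes hcop h1 h3
  rw [orderOf_eq_one_iff] at h4
  exact (QuotientGroup.eq_one_iff _).mp h4

theorem forward {G : Type*} [Group G] [Finite G] (p : ℕ) [Fact p.Prime] (P : Sylow p G)
    (K : Subgroup G) (hP : (P : Subgroup G).Normal) (hK : K.Normal)
    (hdisj : (P : Subgroup G) ⊓ K = ⊥) (hsup : (P : Subgroup G) ⊔ K = ⊤)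
    (x y : G) (hx : ∃ a : ℕ, orderOf x = p ^ a)
    (hy : ∃ q b : ℕ, q.Prime ∧ q ≠ p ∧ orderOf y = q ^ b) : x * y = y * x := by
  obtain ⟨a, ha⟩ := hx
  have hxP : x ∈ (P : Subgroup G) := mem_of_normal_sylow P hP x a ha
  have hyK : y ∈ K := mem_of_direct p P K hK hsup y hy
  exact Subgroup.commute_of_normal_of_disjoint _ _ hP hK (disjoint_iff.mpr hdisj) x y hxP hyK

theorem backward {G : Type*} [Group G] [Finite G] (p : ℕ) [Fact p.Prime]
    (h : ∀ x y : G, (∃ a : ℕ, orderOf x = p ^ a) → (∃ q b : ℕ, q.Prime ∧ q ≠ p ∧ orderOf y = q ^ b) →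
      x * y = y * x) :
    ∃ (P : Sylow p G) (K : Subgroup G), (P : Subgroup G).Normal ∧ K.Normal ∧
      (P : Subgroup G) ⊓ K = ⊥ ∧ (P : Subgroup G) ⊔ K = ⊤ := by
  have hp : p.Prime := Fact.out
  let P : Sylow p G := default
  -- P is normal
  have hPn : (P : Subgroup G).Normal := by
    rw [← Subgroup.normalizer_eq_top_iff]
    apply eq_top_of_forall_sylow_le
    intro q hq
    by_cases hqp : q = p
    · subst hqp
      exact ⟨P, Subgroup.le_normalizer⟩
    · let Q : Sylow q G := default
      refine ⟨Q, ?_⟩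
      intro g hg
      apply Subgroup.centralizer_le_normalizer
      rw [Subgroup.mem_centralizer_iff]
      intro x hx
      obtain ⟨a, ha⟩ := exists_orderOf_eq_pow_of_mem_sylow P x hx
      obtain ⟨b, hb⟩ := exists_orderOf_eq_pow_of_mem_sylow Q g hg
      exact h x g ⟨a, ha⟩ ⟨q, b, hq.1, hqp, hb⟩
  -- complement
  obtain ⟨H, hH⟩ := Subgroup.exists_right_complement'_of_coprime (N := (P : Subgroup G)) P.card_coprime_index
  have hHcard : Nat.Coprime (Nat.card H) p := by
    have h1 := hH.card_mul_card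
    have h2 := (P : Subgroup G).card_mul_index
    have h3 : Nat.card H = (P : Subgroup G).index := by
      have hpos : 0 < Nat.card (P : Subgroup G) := Nat.card_pos
      have : Nat.card (P : Subgroup G) * Nat.card H = Nat.card (P : Subgroup G) * (P : Subgroup G).index := by
        rw [h1, h2]
      exact Nat.eq_of_mul_eq_mul_left hpos this
    rw [h3]
    exact ((Nat.Prime.coprime_iff_not_dvd hp).mpr P.not_dvd_index).symm
  -- H centralizes P
  have hHc : H ≤ Subgroup.centralizer ((P : Subgroup G) : Set G) := by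
    have htop : (Subgroup.centralizer ((P : Subgroup G) : Set G)).subgroupOf H = ⊤ := by
      apply eq_top_of_forall_sylow_le
      intro q hq
      let Q : Sylow q H := default
      refine ⟨Q, ?_⟩
      intro g hg
      rw [Subgroup.mem_subgroupOf, Subgroup.mem_centralizer_iff]
      intro x hx
      obtain ⟨a, ha⟩ := exists_orderOf_eq_pow_of_mem_sylow P x hx
      obtain ⟨b, hb⟩ := exists_orderOf_eq_pow_of_mem_sylow Q g hg
      rw [← Subgroup.orderOf_coe] at hb
      by_cases hqp : q = p
      · subst hqp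
        have hd : orderOf (g : G) ∣ Nat.card H := by
          rw [Subgroup.orderOf_coe]; exact orderOf_dvd_natCard g
        have hb0 : b = 0 := by
          by_contra hb0
          have : q ∣ Nat.card H := dvd_trans (hb ▸ dvd_pow_self q hb0) hd
          exact (Nat.Prime.coprime_iff_not_dvd hp).mp hHcard.symm this
        rw [hb0, pow_zero, orderOf_eq_one_iff] at hb
        rw [hb]; simp
      · exact h x g ⟨a, ha⟩ ⟨q, b, hq.1, hqp, hb⟩
    intro g hg
    have : (⟨g, hg⟩ : H) ∈ (Subgroup.centralizer ((P : Subgroup G) : Set G)).subgroupOf H := by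
      rw [htop]; exact Subgroup.mem_top _
    exact this
  have hsup : (P : Subgroup G) ⊔ H = ⊤ := hH.sup_eq_top
  have hHn : H.Normal := by
    rw [← Subgroup.normalizer_eq_top_iff, eq_top_iff, ← hsup]
    apply sup_le _ Subgroup.le_normalizer
    intro x hx
    apply Subgroup.centralizer_le_normalizer
    rw [Subgroup.mem_centralizer_iff]
    intro g hg
    have := (Subgroup.mem_centralizer_iff.mp (hHc hg)) x hx
    exact this.symm
  exact ⟨P, H, hPn, hHn, hH.disjoint.eq_bot, hsup⟩

/-- Let p be a prime and G a finite group. Then some Sylow p-subgroup of G is a direct factor of G (it is normal and has a normal complement) if and only if every element of p-power order commutes with every element whose order is a power of a prime other than p. -/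
theorem result {G : Type*} [Group G] [Finite G] (p : ℕ) [Fact p.Prime] : (∃ (P : Sylow p G) (K : Subgroup G), (P : Subgroup G).Normal ∧ K.Normal ∧ (P : Subgroup G) ⊓ K = ⊥ ∧ (P : Subgroup G) ⊔ K = ⊤) ↔ ∀ x y : G, (∃ a : ℕ, orderOf x = p ^ a) → (∃ q b : ℕ, q.Prime ∧ q ≠ p ∧ orderOf y = q ^ b) → x * y = y * x := by
  constructor
  · rintro ⟨P, K, hP, hK, hdisj, hsup⟩ x y hx hy
    exact forward p P K hP hK hdisj hsup x y hx hy
  · exact backward p

end Cfsg.Agent.S3986
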