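import Cfsg.Statements.S3987
import Mathlib
import Cfsg.Agent.Lib.Helper66.SylowGen
import Cfsg.Agent.S3986

set_option autoImplicit false
open Cfsg

namespace Cfsg.Agent.S3987

open Cfsg.Agent.Lib.Helper66

/-- the conjugacy class of `g` as a set -/
def cls {G : Type*} [Group G] (g : G) : Set G := Set.range (fun t : G => t * g * t⁻¹)

theorem index_centralizer_eq {G : Type*} [Group G] (g : G) :
    (Subgroup.centralizer ({g} : Set G)).index = (cls g).ncard := by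
  have h0 : (Subgroup.centralizer ({g} : Set G)).index = (MulAction.stabilizer (ConjAct G) g).index := by
    rw [Subgroup.centralizer_eq_comap_stabilizer]
    exact Subgroup.index_comap_of_surjective (f := (ConjAct.toConjAct (G := G)).toMonoidHom) _
      (ConjAct.toConjAct (G := G)).surjective
  rw [h0, MulAction.index_stabilizer]
  congr 1

theorem self_mem_cls {G : Type*} [Group G] (g : G) : g ∈ cls g := ⟨1, by simp⟩

theorem cls_mul_subset {G : Type*} [Group G] (x y : G) :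
    cls (x * y) ⊆ (fun ab : G × G => ab.1 * ab.2) '' (cls x ×ˢ cls y) := by
  rintro _ ⟨t, rfl⟩
  refine ⟨(t * x * t⁻¹, t * y * t⁻¹), ⟨⟨t, rfl⟩, ⟨t, rfl⟩⟩, ?_⟩
  simp only
  group

theorem commute_of_card {G : Type*} [Group G] [Finite G] (x y : G)
    (h : (cls (x * y)).ncard = (cls x).ncard * (cls y).ncard) : x * y = y * x := by
  have hfin : (cls x ×ˢ cls y).Finite := Set.toFinite _
  have h1 : (cls (x * y)).ncard ≤ ((fun ab : G × G => ab.1 * ab.2) '' (cls x ×ˢ cls y)).ncard :=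
    Set.ncard_le_ncard (cls_mul_subset x y) (Set.toFinite _)
  have h2 : ((fun ab : G × G => ab.1 * ab.2) '' (cls x ×ˢ cls y)).ncard ≤ (cls x ×ˢ cls y).ncard :=
    Set.ncard_image_le hfin
  have h3 : (cls x ×ˢ cls y).ncard = (cls x).ncard * (cls y).ncard := Set.ncard_prod
  have h4 : ((fun ab : G × G => ab.1 * ab.2) '' (cls x ×ˢ cls y)).ncard = (cls x ×ˢ cls y).ncard := by
    omega
  have hinj := Set.injOn_of_ncard_image_eq h4 hfin
  have m1 : ((y * x * y⁻¹, y) : G × G) ∈ cls x ×ˢ cls y := ⟨⟨y, rfl⟩, self_mem_cls y⟩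
  have m2 : ((x, x⁻¹ * y * x⁻¹⁻¹) : G × G) ∈ cls x ×ˢ cls y := ⟨self_mem_cls x, ⟨x⁻¹, rfl⟩⟩
  have heq : (fun ab : G × G => ab.1 * ab.2) (y * x * y⁻¹, y) = (fun ab : G × G => ab.1 * ab.2) (x, x⁻¹ * y * x⁻¹⁻¹) := by
    simp only
    group
  have := hinj m1 m2 heq
  have h5 : y * x * y⁻¹ = x := congrArg Prod.fst this
  calc x * y = (y * x * y⁻¹) * y := by rw [h5]
    _ = y * x := by group

theorem card_of_direct {G : Type*} [Group G] [Finite G] (P K : Subgroup G)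
    (hP : P.Normal) (hK : K.Normal) (hdisj : P ⊓ K = ⊥) (hsup : P ⊔ K = ⊤)
    (x y : G) (hx : x ∈ P) (hy : y ∈ K) :
    (cls (x * y)).ncard = (cls x).ncard * (cls y).ncard := by
  have hcomm : ∀ u ∈ P, ∀ k ∈ K, u * k = k * u := fun u hu k hk =>
    Subgroup.commute_of_normal_of_disjoint _ _ hP hK (disjoint_iff.mpr hdisj) u k hu hk
  have hdec : ∀ t : G, ∃ u ∈ P, ∃ k ∈ K, u * k = t := by
    intro t
    have ht : t ∈ (P ⊔ K : Subgroup G) := by rw [hsup]; exact Subgroup.mem_top _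
    rw [← SetLike.mem_coe, Subgroup.mul_normal] at ht
    obtain ⟨u, hu, k, hk, rfl⟩ := ht
    exact ⟨u, hu, k, hk, rfl⟩
  have hclsP : ∀ x' ∈ cls x, x' ∈ P := by
    rintro _ ⟨t, rfl⟩
    exact hP.conj_mem x hx t
  have hclsK : ∀ y' ∈ cls y, y' ∈ K := by
    rintro _ ⟨t, rfl⟩
    exact hK.conj_mem y hy t
  have himg : (fun ab : G × G => ab.1 * ab.2) '' (cls x ×ˢ cls y) = cls (x * y) := by
    apply Set.Subset.antisymm _ (cls_mul_subset x y)
    rintro _ ⟨⟨x', y'⟩, ⟨⟨t, rfl⟩, ⟨s, rfl⟩⟩, rfl⟩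
    obtain ⟨u₁, hu₁, k₁, hk₁, rfl⟩ := hdec t
    obtain ⟨u₂, hu₂, k₂, hk₂, rfl⟩ := hdec s
    refine ⟨u₁ * k₂, ?_⟩
    simp only
    have e1 : k₁ * x * k₁⁻¹ = x := by
      rw [← hcomm x hx k₁ hk₁]; group
    have e2 : u₂ * (k₂ * y * k₂⁻¹) * u₂⁻¹ = k₂ * y * k₂⁻¹ := by
      rw [hcomm u₂ hu₂ _ (hK.conj_mem y hy k₂)]; group
    have e3 : k₂ * x * k₂⁻¹ = x := by
      rw [← hcomm x hx k₂ hk₂]; group
    have e4 : u₁ * (k₂ * y * k₂⁻¹) * u₁⁻¹ = k₂ * y * k₂⁻¹ := by
      rw [hcomm u₁ hu₁ _ (hK.conj_mem y hy k₂)]; group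
    calc u₁ * k₂ * (x * y) * (u₁ * k₂)⁻¹
        = (u₁ * (k₂ * x * k₂⁻¹) * u₁⁻¹) * (u₁ * (k₂ * y * k₂⁻¹) * u₁⁻¹) := by group
      _ = (u₁ * x * u₁⁻¹) * (k₂ * y * k₂⁻¹) := by rw [e3, e4]
      _ = (u₁ * (k₁ * x * k₁⁻¹) * u₁⁻¹) * (u₂ * (k₂ * y * k₂⁻¹) * u₂⁻¹) := by rw [e1, e2]
      _ = u₁ * k₁ * x * (u₁ * k₁)⁻¹ * (u₂ * k₂ * y * (u₂ * k₂)⁻¹) := by group
  have hinj : Set.InjOn (fun ab : G × G => ab.1 * ab.2) (cls x ×ˢ cls y) := by
    rintro ⟨x', y'⟩ ⟨hx', hy'⟩ ⟨x'', y''⟩ ⟨hx'', hy''⟩ heq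
    simp only at heq hx' hy' hx'' hy''
    have hx'P := hclsP x' hx'
    have hx''P := hclsP x'' hx''
    have hy'K := hclsK y' hy'
    have hy''K := hclsK y'' hy''
    have h1 : x''⁻¹ * x' = y'' * y'⁻¹ := by
      calc x''⁻¹ * x' = x''⁻¹ * (x' * y') * y'⁻¹ := by group
        _ = x''⁻¹ * (x'' * y'') * y'⁻¹ := by rw [heq]
        _ = y'' * y'⁻¹ := by group
    have h2 : x''⁻¹ * x' ∈ P ⊓ K := by
      refine ⟨P.mul_mem (P.inv_mem hx''P) hx'P, ?_⟩
      rw [h1]
      exact K.mul_mem hy''K (K.inv_mem hy'K)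
    rw [hdisj, Subgroup.mem_bot] at h2
    have h3 : x' = x'' := by
      calc x' = x'' * (x''⁻¹ * x') := by group
        _ = x'' := by rw [h2, mul_one]
    have h4 : y'' * y'⁻¹ = 1 := by rw [← h1, h2]
    have h5 : y' = y'' := by
      calc y' = (y'' * y'⁻¹)⁻¹ * y'' := by group
        _ = y'' := by rw [h4]; simp
    rw [h3, h5]
  rw [← himg, hinj.ncard_image, Set.ncard_prod]

/-- Let p be a prime and G a finite group. Then some Sylow p-subgroup of G is a direct factor of G (normal with a normal complement) if and only if for every element x of p-power order and every element y whose order is a power of a prime other than p, the conjugacy class of x y has as many elements as the product of the sizes of the classes of x and of y. -/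
theorem result {G : Type*} [Group G] [Finite G] (p : ℕ) [Fact p.Prime] : (∃ (P : Sylow p G) (K : Subgroup G), (P : Subgroup G).Normal ∧ K.Normal ∧ (P : Subgroup G) ⊓ K = ⊥ ∧ (P : Subgroup G) ⊔ K = ⊤) ↔ ∀ x y : G, (∃ a : ℕ, orderOf x = p ^ a) → (∃ q b : ℕ, q.Prime ∧ q ≠ p ∧ orderOf y = q ^ b) → (Subgroup.centralizer ({x * y} : Set G)).index = (Subgroup.centralizer ({x} : Set G)).index * (Subgroup.centralizer ({y} : Set G)).index := by
  constructor
  · rintro ⟨P, K, hP, hK, hdisj, hsup⟩ x y ⟨a, ha⟩ hy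
    have hxP : x ∈ (P : Subgroup G) := mem_of_normal_sylow P hP x a ha
    have hyK : y ∈ K := Cfsg.Agent.S3986.mem_of_direct p P K hK hsup y hy
    rw [index_centralizer_eq, index_centralizer_eq, index_centralizer_eq]
    exact card_of_direct _ K hP hK hdisj hsup x y hxP hyK
  · intro h
    apply Cfsg.Agent.S3986.backward p
    intro x y hx hy
    have := h x y hx hy
    rw [index_centralizer_eq, index_centralizer_eq, index_centralizer_eq] at this
    exact commute_of_card x y this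

end Cfsg.Agent.S3987
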