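import Mathlib
import Cfsg.Statements.S3992
import Cfsg.Agent.Lib.Helper66.EPPO
import Cfsg.Agent.Lib.Helper3.Burnside

set_option autoImplicit false
open Cfsg

namespace Cfsg.Agent.S3992

open Cfsg.Agent.Lib.Helper66.EPPO

theorem card_primeFactors_le_two (n p q : ℕ)
    (h : ∀ r : ℕ, r.Prime → r ∣ n → r = p ∨ r = q) : n.primeFactors.card ≤ 2 := by
  have hsub : n.primeFactors ⊆ {p, q} := by
    intro r hr
    have h1 := Nat.prime_of_mem_primeFactors hr
    have h2 := Nat.dvd_of_mem_primeFactors hr
    rcases h r h1 h2 with e | e <;> simp [e]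
  exact (Finset.card_le_card hsub).trans Finset.card_le_two

/-- Let G be a finite non-solvable group in which every element has prime-power order, and let R be its largest solvable normal subgroup. Then R is a p-group for some prime p; G/R has a non-abelian simple normal subgroup contained in every nontrivial normal subgroup of G/R (its unique minimal normal subgroup); and the order of every solvable subgroup of G has at most two prime divisors. -/
theorem result {G : Type*} [Group G] [Finite G] (hns : ¬ Group.IsSolvable G) (hpp : ∀ g : G, g ≠ 1 → IsPrimePow (orderOf g))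
    (R : Subgroup G) [R.Normal] (hRs : Group.IsSolvable ↥R) (hRmax : ∀ N : Subgroup G, N.Normal → Group.IsSolvable ↥N → N ≤ R) :
    (∃ p : ℕ, p.Prime ∧ IsPGroup p ↥R) ∧
      (∃ M : Subgroup (G ⧸ R), M.Normal ∧ IsSimpleGroup ↥M ∧ ¬ IsMulCommutative ↥M ∧
        ∀ N : Subgroup (G ⧸ R), N.Normal → N ≠ ⊥ → M ≤ N) ∧
      ∀ H : Subgroup G, Group.IsSolvable ↥H → (Nat.card ↥H).primeFactors.card ≤ 2 := by
  have hE : IsEPPO G := hpp
  refine ⟨?_, ?_, ?_⟩
  · by_cases hR1 : R = ⊥
    · exact ⟨2, Nat.prime_two, by rw [hR1]; exact IsPGroup.of_bot⟩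
    rcases L2 hE R hRs hR1 with h1 | ⟨p, q, hp, hq, h2⟩
    · exact h1
    · exact absurd (Cfsg.Agent.Lib.Helper3.isSolvable_of_two_primes_aux p q hp hq _ G rfl h2) hns
  · have hE' : IsEPPO (G ⧸ R) := hE.quotient R
    have hnt : Nontrivial (G ⧸ R) := by
      by_contra hc
      rw [not_nontrivial_iff_subsingleton] at hc
      apply hns
      exact Group.isSolvable_of_ker_le_range R.subtype (QuotientGroup.mk' R)
        (by rw [QuotientGroup.ker_mk', Subgroup.range_subtype])
    apply lemmaB hE'
    intro S hSn hSs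
    have hS'n : (S.comap (QuotientGroup.mk' R)).Normal := Subgroup.Normal.comap hSn _
    have hRS' : R ≤ S.comap (QuotientGroup.mk' R) := by
      intro x hx
      rw [Subgroup.mem_comap, QuotientGroup.mk'_apply, (QuotientGroup.eq_one_iff x).2 hx]
      exact S.one_mem
    have hS's : Group.IsSolvable (S.comap (QuotientGroup.mk' R)) := by
      refine Group.isSolvable_of_ker_le_range (Subgroup.inclusion hRS')
        ((QuotientGroup.mk' R).subgroupComap S) ?_
      intro x hx
      rw [MonoidHom.mem_ker] at hx
      have h1 : QuotientGroup.mk' R (x : G) = 1 := congrArg Subtype.val hx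
      rw [QuotientGroup.mk'_apply, QuotientGroup.eq_one_iff] at h1
      exact ⟨⟨x.1, h1⟩, Subtype.ext rfl⟩
    have hle := hRmax _ hS'n hS's
    rw [Subgroup.eq_bot_iff_forall]
    intro s hs
    obtain ⟨x, rfl⟩ := QuotientGroup.mk'_surjective R s
    rw [QuotientGroup.mk'_apply, QuotientGroup.eq_one_iff]
    exact hle hs
  · intro H hH
    have hEH : IsEPPO H := hE.subgroup H
    by_cases hH1 : (⊤ : Subgroup H) = ⊥
    · have : Nat.card H = 1 := by
        rw [← Subgroup.card_top (G := H), hH1, Subgroup.card_bot]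
      rw [this]
      simp
    have hts : Group.IsSolvable (⊤ : Subgroup H) :=
      Group.isSolvable_of_isSolvable_injective (Subgroup.subtype_injective _)
    rcases L2 hEH ⊤ hts hH1 with ⟨p, hp, h1⟩ | ⟨p, q, hp, hq, h2⟩
    · have : Fact p.Prime := ⟨hp⟩
      have hHp : IsPGroup p H := by
        intro g
        obtain ⟨k, hk⟩ := h1 ⟨g, Subgroup.mem_top g⟩
        exact ⟨k, congrArg Subtype.val hk⟩
      obtain ⟨n, hn⟩ := hHp.exists_card_eq
      apply card_primeFactors_le_two _ p p
      intro r hr hrd
      rw [hn] at hrd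
      left
      exact (Nat.prime_dvd_prime_iff_eq hr hp).1 (hr.dvd_of_dvd_pow hrd)
    · exact card_primeFactors_le_two _ p q h2

end Cfsg.Agent.S3992
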