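import Mathlib
import Cfsg.Statements.S3995
import Cfsg.Agent.Lib.Helper66.Frobenius
import Cfsg.Agent.Lib.Helper20.QuatLift

set_option autoImplicit false
open Cfsg

namespace Cfsg.Agent.S3995

open Cfsg.Agent.Lib.Helper66

/-- number of elements of order `m` -/
noncomputable def c (G : Type*) [Group G] (m : ℕ) : ℕ := Nat.card {g : G // orderOf g = m}

lemma cnt_eq_sum {G : Type*} [Group G] [Finite G] (D : Finset ℕ) (d : ℕ) (h1 : ∀ m ∈ D, m ∣ d)
    (h2 : ∀ g : G, g ^ d = 1 → orderOf g ∈ D) :
    cnt G d = ∑ m ∈ D, c G m := by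
  classical
  have := Fintype.ofFinite G
  unfold cnt c
  rw [Nat.card_eq_fintype_card, Fintype.card_subtype]
  rw [Finset.card_eq_sum_card_fiberwise (f := orderOf) (t := D)]
  · apply Finset.sum_congr rfl
    intro m hm
    rw [Nat.card_eq_fintype_card, Fintype.card_subtype]
    congr 1
    ext g
    simp only [Finset.mem_filter, Finset.mem_univ, true_and]
    constructor
    · exact fun h => h.2
    · intro h
      refine ⟨?_, h⟩
      rw [← orderOf_dvd_iff_pow_eq_one, h]; exact h1 m hm
  · intro g hg
    exact h2 g (by simpa using hg)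

lemma c_one {G : Type*} [Group G] : c G 1 = 1 := by
  unfold c
  have : {g : G // orderOf g = 1} ≃ Unit :=
    { toFun := fun _ => ()
      invFun := fun _ => ⟨1, orderOf_one⟩
      left_inv := fun x => by
        apply Subtype.ext
        exact (orderOf_eq_one_iff.mp x.2).symm
      right_inv := fun _ => rfl }
  rw [Nat.card_congr this]; simp

/-- if no element has order `p ^ j`, then an element of order `p ^ k` has `k < j`. -/
lemma lt_of_no_order {G : Type*} [Group G] (p j : ℕ) (hp : p.Prime)
    (hno : ∀ g : G, orderOf g ≠ p ^ j) (g : G) (k : ℕ) (hk : orderOf g = p ^ k) : k < j := by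
  by_contra hcon
  have hjk : j ≤ k := not_lt.mp hcon
  apply hno (g ^ (p ^ (k - j)))
  rw [orderOf_pow_of_dvd (pow_ne_zero _ hp.ne_zero), hk, Nat.pow_div (Nat.sub_le k j) hp.pos]
  · congr 1; omega
  · rw [hk]; exact pow_dvd_pow p (Nat.sub_le k j)


section main
variable {G : Type*} [Group G] [Finite G]

/-- the numeric facts derived from Frobenius' theorem -/
structure Facts (G : Type*) [Group G] [Finite G] (n : ℕ) : Prop where
  hn : n ≠ 1
  hval : ∀ g : G, c G (orderOf g) = 1 ∨ c G (orderOf g) = n
  hex : ∃ g : G, c G (orderOf g) = n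

namespace Facts
variable {n : ℕ} (F : Facts G n)
include F

lemma hbig (g : G) (hg : 2 < orderOf g) : c G (orderOf g) = n := by
  rcases F.hval g with h1 | h1
  · exfalso
    have hs : Subsingleton {x : G // orderOf x = orderOf g} := by
      unfold c at h1
      exact (Nat.card_eq_one_iff_unique.mp h1).1
    have h2 := Subsingleton.elim (⟨g, rfl⟩ : {x : G // orderOf x = orderOf g}) ⟨g⁻¹, orderOf_inv g⟩
    have hgg : g = g⁻¹ := congrArg Subtype.val h2
    have h3 : g ^ 2 = 1 := by
      rw [pow_two]
      calc g * g = g * g⁻¹ := by rw [← hgg]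
        _ = 1 := mul_inv_cancel g
    have := orderOf_le_of_pow_eq_one (by norm_num) h3
    omega
  · exact h1

omit F in
lemma hzero (m : ℕ) (hm : ∀ g : G, orderOf g ≠ m) : c G m = 0 := by
  unfold c
  have : IsEmpty {g : G // orderOf g = m} := ⟨fun x => hm x.1 x.2⟩
  exact Nat.card_of_isEmpty

lemma hdich (m : ℕ) (hm : 2 < m) : c G m = 0 ∨ c G m = n := by
  by_cases hE : ∃ g : G, orderOf g = m
  · obtain ⟨g, rfl⟩ := hE; exact Or.inr (F.hbig g hm)
  · exact Or.inl (hzero m (fun g hg => hE ⟨g, hg⟩))

omit F in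
lemma hfrob (d : ℕ) (hd : d ∣ Nat.card G) : d ∣ cnt G d :=
  frobenius_main (Nat.card G) G rfl d hd

lemma hA (p : ℕ) (hp : p.Prime) (hp2 : p ≠ 2) (hpN : p ∣ Nat.card G) : p ∣ 1 + n ∧ c G p = n := by
  have := Fact.mk hp
  obtain ⟨g, hg⟩ := exists_prime_orderOf_dvd_card' p hpN
  have hp3 : 2 < p := lt_of_le_of_ne hp.two_le (Ne.symm hp2)
  have hcp : c G p = n := by rw [← hg]; exact F.hbig g (hg ▸ hp3)
  refine ⟨?_, hcp⟩
  have h1 := hfrob (G := G) p hpN
  rw [cnt_eq_sum {1, p} p ?_ ?_] at h1
  · rw [Finset.sum_pair hp.one_lt.ne, c_one, hcp] at h1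
    exact h1
  · intro m hm
    simp only [Finset.mem_insert, Finset.mem_singleton] at hm
    rcases hm with rfl | rfl
    · exact one_dvd _
    · exact dvd_rfl
  · intro g hg
    simp only [Finset.mem_insert, Finset.mem_singleton]
    exact (Nat.dvd_prime hp).1 (orderOf_dvd_of_pow_eq_one hg)

lemma hB (p : ℕ) (hp : p.Prime) (hp2 : p ≠ 2) (g : G) : orderOf g ≠ p ^ 2 := by
  intro hg
  have hpN : p ^ 2 ∣ Nat.card G := hg ▸ orderOf_dvd_natCard g
  have hpN1 : p ∣ Nat.card G := dvd_trans (dvd_pow_self p two_ne_zero) hpN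
  obtain ⟨h1, hcp⟩ := F.hA p hp hp2 hpN1
  have hpp : p < p ^ 2 := by nlinarith [hp.two_le]
  have hcp2 : c G (p ^ 2) = n := by rw [← hg]; apply F.hbig; rw [hg]; linarith [hp.two_le]
  have h3 := hfrob (G := G) (p ^ 2) hpN
  rw [cnt_eq_sum {1, p, p ^ 2} (p ^ 2) ?_ ?_] at h3
  · rw [Finset.sum_insert, Finset.sum_pair hpp.ne, c_one, hcp, hcp2] at h3
    · have h2 : p ∣ 1 + (n + n) := dvd_trans (dvd_pow_self p two_ne_zero) h3
      have h4 : p ∣ 2 * (1 + n) - (1 + (n + n)) := Nat.dvd_sub (dvd_mul_of_dvd_right h1 2) h2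
      have h5 : 2 * (1 + n) - (1 + (n + n)) = 1 := by omega
      rw [h5] at h4
      exact hp.one_lt.ne' (Nat.dvd_one.mp h4)
    · simp only [Finset.mem_insert, Finset.mem_singleton]
      have := hp.two_le
      omega
  · intro m hm
    simp only [Finset.mem_insert, Finset.mem_singleton] at hm
    rcases hm with rfl | rfl | rfl
    · exact one_dvd _
    · exact dvd_pow_self _ two_ne_zero
    · exact dvd_rfl
  · intro g hg
    simp only [Finset.mem_insert, Finset.mem_singleton]
    obtain ⟨j, hj, hj2⟩ := (Nat.dvd_prime_pow hp).1 (orderOf_dvd_of_pow_eq_one hg)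
    interval_cases j
    · left; simpa using hj2
    · right; left; simpa using hj2
    · right; right; exact hj2


omit F in
lemma dvd_mul_cases (p q m : ℕ) (hp : p.Prime) (hq : q.Prime) (h : m ∣ p * q) :
    m = 1 ∨ m = p ∨ m = q ∨ m = p * q := by
  obtain ⟨a, b, ha, hb, rfl⟩ := (Nat.dvd_mul).1 h
  rcases (Nat.dvd_prime hp).1 ha with rfl | rfl <;> rcases (Nat.dvd_prime hq).1 hb with rfl | rfl
  · left; rfl
  · right; right; left; simp
  · right; left; simp
  · right; right; right; rfl

lemma hC (p q : ℕ) (hp : p.Prime) (hq : q.Prime) (hp2 : p ≠ 2) (hq2 : q ≠ 2) (hpq : p ≠ q)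
    (hpN : p ∣ Nat.card G) (hqN : q ∣ Nat.card G) : False := by
  obtain ⟨h1, hcp⟩ := F.hA p hp hp2 hpN
  obtain ⟨h1', hcq⟩ := F.hA q hq hq2 hqN
  have hcop : Nat.Coprime p q := (Nat.coprime_primes hp hq).2 hpq
  have hpqN : p * q ∣ Nat.card G := hcop.mul_dvd_of_dvd_of_dvd hpN hqN
  have h3 := hfrob (G := G) (p * q) hpqN
  have hp3 : 2 < p := lt_of_le_of_ne hp.two_le (Ne.symm hp2)
  have hq3 : 2 < q := lt_of_le_of_ne hq.two_le (Ne.symm hq2)
  have hb1 : p < p * q := by nlinarith
  have hb2 : q < p * q := by nlinarith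
  rw [cnt_eq_sum {1, p, q, p * q} (p * q) ?_ ?_] at h3
  · rw [Finset.sum_insert, Finset.sum_insert, Finset.sum_pair hb2.ne, c_one, hcp, hcq] at h3
    · have h2 : p ∣ 1 + (n + (n + c G (p * q))) := dvd_trans (dvd_mul_right p q) h3
      rcases F.hdich (p * q) (by omega) with h0 | h0
      · rw [h0] at h2
        have h4 : p ∣ 2 * (1 + n) - (1 + (n + (n + 0))) := Nat.dvd_sub (dvd_mul_of_dvd_right h1 2) h2
        have h5 : 2 * (1 + n) - (1 + (n + (n + 0))) = 1 := by omega
        rw [h5] at h4
        exact hp.one_lt.ne' (Nat.dvd_one.mp h4)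
      · rw [h0] at h2
        have h4 : p ∣ 3 * (1 + n) - (1 + (n + (n + n))) := Nat.dvd_sub (dvd_mul_of_dvd_right h1 3) h2
        have h5 : 3 * (1 + n) - (1 + (n + (n + n))) = 2 := by omega
        rw [h5] at h4
        have := Nat.le_of_dvd (by norm_num) h4
        omega
    · simp only [Finset.mem_insert, Finset.mem_singleton]
      omega
    · simp only [Finset.mem_insert, Finset.mem_singleton]
      omega
  · intro m hm
    simp only [Finset.mem_insert, Finset.mem_singleton] at hm
    rcases hm with rfl | rfl | rfl | rfl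
    · exact one_dvd _
    · exact dvd_mul_right _ _
    · exact dvd_mul_left _ _
    · exact dvd_rfl
  · intro g hg
    simp only [Finset.mem_insert, Finset.mem_singleton]
    exact dvd_mul_cases p q _ hp hq (orderOf_dvd_of_pow_eq_one hg)

/-- the count of involutions, given that `2` divides the order -/
lemma ht (h2N : 2 ∣ Nat.card G) : c G 2 = 1 ∨ c G 2 = n := by
  have := Fact.mk Nat.prime_two
  obtain ⟨g, hg⟩ := exists_prime_orderOf_dvd_card' 2 h2N
  rw [← hg]; exact F.hval g

omit F in
lemma cnt_four : cnt G 4 = 1 + (c G 2 + c G 4) := by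
  rw [cnt_eq_sum {1, 2, 4} 4 ?_ ?_]
  · rw [Finset.sum_insert (by simp), Finset.sum_pair (by norm_num), c_one]
  · intro m hm
    simp only [Finset.mem_insert, Finset.mem_singleton] at hm
    rcases hm with rfl | rfl | rfl <;> norm_num
  · intro g hg
    simp only [Finset.mem_insert, Finset.mem_singleton]
    have h1 : orderOf g ∣ 2 ^ 2 := orderOf_dvd_of_pow_eq_one hg
    obtain ⟨j, hj, hj2⟩ := (Nat.dvd_prime_pow Nat.prime_two).1 h1
    interval_cases j
    · left; simpa using hj2
    · right; left; simpa using hj2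
    · right; right; simpa using hj2

lemma hD (g : G) : orderOf g ≠ 8 := by
  intro hg
  have h8N : 8 ∣ Nat.card G := hg ▸ orderOf_dvd_natCard g
  have h2N : 2 ∣ Nat.card G := dvd_trans (by norm_num) h8N
  have h4N : 4 ∣ Nat.card G := dvd_trans (by norm_num) h8N
  have hc8 : c G 8 = n := by rw [← hg]; exact F.hbig g (by omega)
  have ho4 : orderOf (g ^ 2) = 4 := by
    rw [orderOf_pow_of_dvd two_ne_zero (by rw [hg]; norm_num), hg]
  have hc4 : c G 4 = n := by rw [← ho4]; exact F.hbig _ (by omega)
  have h4 := hfrob (G := G) 4 h4N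
  rw [cnt_four, hc4] at h4
  have h8 := hfrob (G := G) 8 h8N
  rw [cnt_eq_sum {1, 2, 4, 8} 8 ?_ ?_] at h8
  · rw [Finset.sum_insert (by simp), Finset.sum_insert (by simp), Finset.sum_pair (by norm_num),
      c_one, hc4, hc8] at h8
    rcases F.ht h2N with h | h <;> rw [h] at h4 h8 <;> omega
  · intro m hm
    simp only [Finset.mem_insert, Finset.mem_singleton] at hm
    rcases hm with rfl | rfl | rfl | rfl <;> norm_num
  · intro g hg
    simp only [Finset.mem_insert, Finset.mem_singleton]
    have h1 : orderOf g ∣ 2 ^ 3 := orderOf_dvd_of_pow_eq_one hg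
    obtain ⟨j, hj, hj2⟩ := (Nat.dvd_prime_pow Nat.prime_two).1 h1
    interval_cases j
    · left; simpa using hj2
    · right; left; simpa using hj2
    · right; right; left; simpa using hj2
    · right; right; right; simpa using hj2

end Facts
end main


section structure_lemmas
variable {G : Type*} [Group G] [Finite G]

open Cfsg.Agent.Lib.Helper20 in
lemma quat_or_cyclic (hord : ∀ g : G, orderOf g = 1 ∨ orderOf g = 2 ∨ orderOf g = 4)
    (huniq : ∀ a b : G, orderOf a = 2 → orderOf b = 2 → a = b) (x : G) (hx : orderOf x = 4) :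
    Nonempty (G ≃* QuaternionGroup 2) ∨ (IsCyclic G ∧ Nat.card G = 4) := by
  have hz : orderOf (x ^ 2) = 2 := by
    rw [orderOf_pow_of_dvd two_ne_zero (by rw [hx]; norm_num), hx]
  have hsq : ∀ b : G, orderOf b = 4 → b ^ 2 = x ^ 2 := by
    intro b hb
    apply huniq _ _ _ hz
    rw [orderOf_pow_of_dvd two_ne_zero (by rw [hb]; norm_num), hb]
  have h4 : ∀ b : G, b ∉ Subgroup.zpowers x → orderOf b = 4 := by
    intro b hb
    rcases hord b with h | h | h
    · exfalso; apply hb; rw [orderOf_eq_one_iff.mp h]; exact one_mem _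
    · exfalso; apply hb; rw [huniq b _ h hz]; exact Subgroup.npow_mem_zpowers x 2
    · exact h
  have hK : ∀ b : G, b ∉ Subgroup.zpowers x → b * x * b⁻¹ = x⁻¹ := by
    intro b hb
    have h1 : b ^ 2 = x ^ 2 := hsq b (h4 b hb)
    have hxb : x * b ∉ Subgroup.zpowers x := by
      intro hmem
      apply hb
      have := Subgroup.mul_mem _ (Subgroup.inv_mem _ (Subgroup.mem_zpowers x)) hmem
      simpa using this
    have h2 : (x * b) ^ 2 = x ^ 2 := hsq _ (h4 _ hxb)
    have h3 : b * x * b = x := by
      have : x * (b * x * b) = x * x := by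
        rw [← pow_two, ← h2, pow_two]; group
      exact mul_left_cancel this
    calc b * x * b⁻¹ = (b * x * b) * (b ^ 2)⁻¹ := by group
      _ = x * (x ^ 2)⁻¹ := by rw [h3, h1]
      _ = x⁻¹ := by group
  by_cases hall : ∀ y : G, y ∈ Subgroup.zpowers x
  · right
    refine ⟨⟨x, hall⟩, ?_⟩
    rw [← orderOf_eq_card_of_forall_mem_zpowers hall, hx]
  · left
    obtain ⟨y, hy⟩ := not_forall.mp hall
    have hgen : Subgroup.closure ({y, x} : Set G) = ⊤ := by
      rw [eq_top_iff]
      intro w _
      by_contra hw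
      have hxH : x ∈ Subgroup.closure ({y, x} : Set G) := Subgroup.subset_closure (by simp)
      have hyH : y ∈ Subgroup.closure ({y, x} : Set G) := Subgroup.subset_closure (by simp)
      have hle : Subgroup.zpowers x ≤ Subgroup.closure ({y, x} : Set G) :=
        (Subgroup.zpowers_le).2 hxH
      have hw1 : w ∉ Subgroup.zpowers x := fun h => hw (hle h)
      have hw2 : w * y ∉ Subgroup.zpowers x := by
        intro h
        apply hw
        have := Subgroup.mul_mem _ (hle h) (Subgroup.inv_mem _ hyH)
        simpa using this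
      have e1 := hK w hw1
      have e2 := hK (w * y) hw2
      have e3 := hK y hy
      have e4 : x = x⁻¹ := by
        calc x = (x⁻¹)⁻¹ := (inv_inv x).symm
          _ = (w * x * w⁻¹)⁻¹ := by rw [e1]
          _ = w * (y * x * y⁻¹) * w⁻¹ := by rw [e3]; group
          _ = (w * y) * x * (w * y)⁻¹ := by group
          _ = x⁻¹ := e2
      have e5 : x ^ 2 = 1 := by
        rw [pow_two]
        calc x * x = x * x⁻¹ := by rw [← e4]
          _ = 1 := mul_inv_cancel x
      have := orderOf_le_of_pow_eq_one (by norm_num) e5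
      omega
    have hyy : y * y = x ^ 2 := by rw [← pow_two]; exact hsq y (h4 y hy)
    exact ⟨(quatEquiv y x 2 (by rw [hx]) hyy (hK y hy) hy hgen).symm⟩

lemma prod_decomp (p : ℕ) (hp : p.Prime) (hp2 : p ≠ 2) (z : G) (hz : orderOf z = 2)
    (hzc : ∀ g : G, g * z = z * g) (Q : Subgroup G) (hQ : IsPGroup p Q) (hidx : Q.index = 2) :
    Nonempty (G ≃* Multiplicative (ZMod 2) × Shrink.{0} Q) := by
  have hcomm : ∀ (a : Subgroup.zpowers z) (b : Q),
      Commute ((Subgroup.zpowers z).subtype a) (Q.subtype b) := by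
    intro a b
    obtain ⟨a, k, rfl⟩ := a
    exact Commute.zpow_left (hzc (b : G)).symm k
  let f : Subgroup.zpowers z × Q →* G :=
    (Subgroup.zpowers z).subtype.noncommCoprod Q.subtype hcomm
  have hf : ∀ a b, f (a, b) = (a : G) * (b : G) := fun a b => rfl
  have hinj : Function.Injective f := by
    rw [injective_iff_map_eq_one]
    rintro ⟨a, b⟩ hab
    rw [hf] at hab
    have ha2 : (a : G) ^ 2 = 1 := by
      have h1 : orderOf (a : G) ∣ 2 := by
        have h2 : orderOf a ∣ Nat.card (Subgroup.zpowers z) := orderOf_dvd_natCard a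
        rw [Nat.card_zpowers, hz] at h2
        rwa [Subgroup.orderOf_coe]
      exact orderOf_dvd_iff_pow_eq_one.mp h1
    have hab' : (a : G) = (b : G)⁻¹ := eq_inv_of_mul_eq_one_left hab
    obtain ⟨k, hk⟩ := hQ b⁻¹
    have hapk : (a : G) ^ (p ^ k) = 1 := by
      rw [hab']
      have := congrArg Subtype.val hk
      simpa using this
    have hcop : Nat.Coprime 2 (p ^ k) :=
      Nat.Coprime.pow_right k ((Nat.coprime_primes Nat.prime_two hp).2 (Ne.symm hp2))
    have ha1 : (a : G) = 1 := by
      have h1 : orderOf (a : G) ∣ Nat.gcd 2 (p ^ k) :=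
        Nat.dvd_gcd (orderOf_dvd_of_pow_eq_one ha2) (orderOf_dvd_of_pow_eq_one hapk)
      rw [hcop] at h1
      exact orderOf_eq_one_iff.mp (Nat.dvd_one.mp h1)
    have hb1 : (b : G) = 1 := by
      rw [ha1] at hab'
      have : (b : G)⁻¹ = 1 := hab'.symm
      simpa using this
    ext
    · simpa using ha1
    · simpa using hb1
  have hcard : Nat.card G ≤ Nat.card (Subgroup.zpowers z × Q) := by
    rw [Nat.card_prod, Nat.card_zpowers, hz, ← hidx, Subgroup.index_mul_card]
  have hbij : Function.Bijective f := hinj.bijective_of_nat_card_le hcard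
  let e1 : Subgroup.zpowers z × Q ≃* G := MulEquiv.ofBijective f hbij
  have := Fact.mk Nat.prime_two
  let e2 : Subgroup.zpowers z ≃* Multiplicative (ZMod 2) :=
    mulEquivOfPrimeCardEq (p := 2) (by rw [Nat.card_zpowers, hz]) (by simp)
  let e3 : Shrink.{0} Q ≃* Q := Shrink.mulEquiv
  exact ⟨e1.symm.trans (MulEquiv.prodCongr e2 e3.symm)⟩

end structure_lemmas


section more
variable {G : Type*} [Group G] [Finite G]

namespace Facts
variable {n : ℕ} (F : Facts G n)
include F

/-- with an odd prime `p` and `2` both dividing the order: unique involution -/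
lemma hE (p : ℕ) (hp : p.Prime) (hp2 : p ≠ 2) (hpN : p ∣ Nat.card G) (h2N : 2 ∣ Nat.card G) :
    c G 2 = 1 ∧ c G (2 * p) = n := by
  obtain ⟨h1, hcp⟩ := F.hA p hp hp2 hpN
  have hp3 : 2 < p := lt_of_le_of_ne hp.two_le (Ne.symm hp2)
  have hcop : Nat.Coprime 2 p := (Nat.coprime_primes Nat.prime_two hp).2 (Ne.symm hp2)
  have h2pN : 2 * p ∣ Nat.card G := hcop.mul_dvd_of_dvd_of_dvd h2N hpN
  have h3 := hfrob (G := G) (2 * p) h2pN
  rw [cnt_eq_sum {1, 2, p, 2 * p} (2 * p) ?_ ?_] at h3
  · rw [Finset.sum_insert, Finset.sum_insert, Finset.sum_pair (by omega), c_one, hcp] at h3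
    · have h2 : p ∣ 1 + (c G 2 + (n + c G (2 * p))) := dvd_trans (dvd_mul_left p 2) h3
      rcases F.ht h2N with ht | ht <;> rcases F.hdich (2 * p) (by omega) with h0 | h0
      · exfalso
        rw [ht, h0] at h2
        have h4 : p ∣ (1 + (1 + (n + 0))) - (1 + n) := Nat.dvd_sub h2 h1
        have h5 : (1 + (1 + (n + 0))) - (1 + n) = 1 := by omega
        rw [h5] at h4
        exact hp.one_lt.ne' (Nat.dvd_one.mp h4)
      · exact ⟨ht, h0⟩
      · exfalso
        rw [ht, h0] at h2
        have h4 : p ∣ 2 * (1 + n) - (1 + (n + (n + 0))) := Nat.dvd_sub (dvd_mul_of_dvd_right h1 2) h2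
        have h5 : 2 * (1 + n) - (1 + (n + (n + 0))) = 1 := by omega
        rw [h5] at h4
        exact hp.one_lt.ne' (Nat.dvd_one.mp h4)
      · exfalso
        rw [ht, h0] at h2
        have h4 : p ∣ 3 * (1 + n) - (1 + (n + (n + n))) := Nat.dvd_sub (dvd_mul_of_dvd_right h1 3) h2
        have h5 : 3 * (1 + n) - (1 + (n + (n + n))) = 2 := by omega
        rw [h5] at h4
        have := Nat.le_of_dvd (by norm_num) h4
        omega
    · simp only [Finset.mem_insert, Finset.mem_singleton]
      omega
    · simp only [Finset.mem_insert, Finset.mem_singleton]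
      omega
  · intro m hm
    simp only [Finset.mem_insert, Finset.mem_singleton] at hm
    rcases hm with rfl | rfl | rfl | rfl
    · exact one_dvd _
    · exact dvd_mul_right _ _
    · exact dvd_mul_left _ _
    · exact dvd_rfl
  · intro g hg
    simp only [Finset.mem_insert, Finset.mem_singleton]
    exact dvd_mul_cases 2 p _ Nat.prime_two hp (orderOf_dvd_of_pow_eq_one hg)

omit F in
lemma dvd_four_mul_cases (p m : ℕ) (hp : p.Prime) (h : m ∣ 4 * p) :
    m = 1 ∨ m = 2 ∨ m = 4 ∨ m = p ∨ m = 2 * p ∨ m = 4 * p := by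
  obtain ⟨a, b, ha, hb, rfl⟩ := (Nat.dvd_mul).1 h
  have ha' : a ∣ 2 ^ 2 := by simpa using ha
  obtain ⟨j, hj, rfl⟩ := (Nat.dvd_prime_pow Nat.prime_two).1 ha'
  rcases (Nat.dvd_prime hp).1 hb with rfl | rfl <;> interval_cases j <;> simp

lemma hF (p : ℕ) (hp : p.Prime) (hp2 : p ≠ 2) (hpN : p ∣ Nat.card G) (h2N : 2 ∣ Nat.card G) :
    ¬ 4 ∣ Nat.card G := by
  intro h4N
  obtain ⟨h1, hcp⟩ := F.hA p hp hp2 hpN
  obtain ⟨hc2, hc2p⟩ := F.hE p hp hp2 hpN h2N
  have hp3 : 2 < p := lt_of_le_of_ne hp.two_le (Ne.symm hp2)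
  have hp4 : p ≠ 4 := by rintro rfl; norm_num at hp
  have hcop : Nat.Coprime 4 p := by
    have : Nat.Coprime (2 ^ 2) p :=
      Nat.Coprime.pow_left 2 ((Nat.coprime_primes Nat.prime_two hp).2 (Ne.symm hp2))
    simpa using this
  have h4pN : 4 * p ∣ Nat.card G := hcop.mul_dvd_of_dvd_of_dvd h4N hpN
  have h3 := hfrob (G := G) (4 * p) h4pN
  have h4 := hfrob (G := G) 4 h4N
  rw [cnt_four, hc2] at h4
  rw [cnt_eq_sum {1, 2, 4, p, 2 * p, 4 * p} (4 * p) ?_ ?_] at h3
  · rw [Finset.sum_insert, Finset.sum_insert, Finset.sum_insert, Finset.sum_insert,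
      Finset.sum_pair (by omega), c_one, hcp, hc2, hc2p] at h3
    · have h2 : p ∣ 1 + (1 + (c G 4 + (n + (n + c G (4 * p))))) := dvd_trans (dvd_mul_left p 4) h3
      rcases F.hdich 4 (by omega) with h0 | h0 <;> rcases F.hdich (4 * p) (by omega) with h0' | h0'
      · rw [h0] at h4; omega
      · rw [h0, h0'] at h2
        have h5 : p ∣ 3 * (1 + n) - (1 + (1 + (0 + (n + (n + n))))) :=
          Nat.dvd_sub (dvd_mul_of_dvd_right h1 3) h2
        have h6 : 3 * (1 + n) - (1 + (1 + (0 + (n + (n + n))))) = 1 := by omega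
        rw [h6] at h5
        exact hp.one_lt.ne' (Nat.dvd_one.mp h5)
      · rw [h0, h0'] at h2
        have h5 : p ∣ 3 * (1 + n) - (1 + (1 + (n + (n + (n + 0))))) :=
          Nat.dvd_sub (dvd_mul_of_dvd_right h1 3) h2
        have h6 : 3 * (1 + n) - (1 + (1 + (n + (n + (n + 0))))) = 1 := by omega
        rw [h6] at h5
        exact hp.one_lt.ne' (Nat.dvd_one.mp h5)
      · rw [h0, h0'] at h2
        have h5 : p ∣ 4 * (1 + n) - (1 + (1 + (n + (n + (n + n))))) :=
          Nat.dvd_sub (dvd_mul_of_dvd_right h1 4) h2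
        have h6 : 4 * (1 + n) - (1 + (1 + (n + (n + (n + n))))) = 2 := by omega
        rw [h6] at h5
        have := Nat.le_of_dvd (by norm_num) h5
        omega
    all_goals
      simp only [Finset.mem_insert, Finset.mem_singleton]
      omega
  · intro m hm
    simp only [Finset.mem_insert, Finset.mem_singleton] at hm
    rcases hm with rfl | rfl | rfl | rfl | rfl | rfl
    · exact one_dvd _
    · exact Dvd.intro (2 * p) (by ring)
    · exact dvd_mul_right _ _
    · exact dvd_mul_left _ _
    · exact Dvd.intro 2 (by ring)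
    · exact dvd_rfl
  · intro g hg
    simp only [Finset.mem_insert, Finset.mem_singleton]
    exact dvd_four_mul_cases p _ hp (orderOf_dvd_of_pow_eq_one hg)

end Facts
end more


/-- Let G be a finite group such that the numbers of elements of each order that occurs in G (the numbers #{g : o(g) = m}, m ranging over the element orders of G) take exactly two values, 1 and some n ≠ 1. Then either G is a p-group of exponent p and order at least 3 for some prime p, or G is the quaternion group of order 8, or G is cyclic of order 4, or G ≅ Z₂ × P for a p-group P of exponent p with p an odd prime. -/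
theorem result {G : Type*} [Group G] [Finite G] (n : ℕ) (hn : n ≠ 1) (h : ((fun m : ℕ => Nat.card {g : G // orderOf g = m}) '' Set.range (orderOf : G → ℕ)) = {1, n}) :
    (∃ p : ℕ, p.Prime ∧ IsPGroup p G ∧ 3 ≤ Nat.card G ∧ Monoid.exponent G = p) ∨
      Nonempty (G ≃* QuaternionGroup 2) ∨ (IsCyclic G ∧ Nat.card G = 4) ∨
      (∃ (p : ℕ) (P : Type) (_ : Group P) (_ : Finite P), p.Prime ∧ p ≠ 2 ∧ IsPGroup p P ∧ Monoid.exponent P = p ∧
        Nonempty (G ≃* Multiplicative (ZMod 2) × P)) := by
  classical
  have hval : ∀ g : G, c G (orderOf g) = 1 ∨ c G (orderOf g) = n := by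
    intro g
    have h1 : c G (orderOf g) ∈ ({1, n} : Set ℕ) := by
      rw [← h]; exact ⟨orderOf g, ⟨g, rfl⟩, rfl⟩
    simpa using h1
  have hex : ∃ g : G, c G (orderOf g) = n := by
    have h1 : n ∈ ({1, n} : Set ℕ) := by simp
    rw [← h] at h1
    obtain ⟨m, ⟨g, rfl⟩, hm⟩ := h1
    exact ⟨g, hm⟩
  have F : Facts G n := ⟨hn, hval, hex⟩
  obtain ⟨g0, hg0⟩ := hex
  have hg01 : orderOf g0 ≠ 1 := by
    intro h1
    rw [h1, c_one] at hg0
    exact hn hg0.symm
  have hNpos : 0 < Nat.card G := Nat.card_pos
  by_cases hoddp : ∃ p, p.Prime ∧ p ≠ 2 ∧ p ∣ Nat.card G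
  · obtain ⟨p, hp, hp2, hpN⟩ := hoddp
    have := Fact.mk hp
    have hp3 : 2 < p := lt_of_le_of_ne hp.two_le (Ne.symm hp2)
    have huniq : ∀ r, r.Prime → r ∣ Nat.card G → r = 2 ∨ r = p := by
      intro r hr hrN
      by_cases hr2 : r = 2
      · left; exact hr2
      · right; by_contra hne; exact F.hC r p hr hp hr2 hp2 hne hrN hpN
    have hexpP : ∀ g : G, ∀ k, orderOf g = p ^ k → k ≤ 1 := fun g k hk =>
      Nat.lt_succ_iff.mp (lt_of_no_order p 2 hp (F.hB p hp hp2) g k hk)
    by_cases h2N : 2 ∣ Nat.card G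
    · -- case 4
      right; right; right
      obtain ⟨hc2, -⟩ := F.hE p hp hp2 hpN h2N
      have h4N := F.hF p hp hp2 hpN h2N
      have := Fact.mk Nat.prime_two
      obtain ⟨z, hz⟩ := exists_prime_orderOf_dvd_card' 2 h2N
      have hsub : Subsingleton {x : G // orderOf x = 2} := by
        unfold c at hc2
        exact (Nat.card_eq_one_iff_unique.mp hc2).1
      have hzc : ∀ g : G, g * z = z * g := by
        intro g
        have h1 : orderOf (g * z * g⁻¹) = 2 := by
          have := (MulAut.conj g).orderOf_eq z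
          rw [MulAut.conj_apply] at this
          rw [this, hz]
        have h2 := Subsingleton.elim (⟨g * z * g⁻¹, h1⟩ : {x : G // orderOf x = 2}) ⟨z, hz⟩
        have h3 : g * z * g⁻¹ = z := congrArg Subtype.val h2
        calc g * z = (g * z * g⁻¹) * g := by group
          _ = z * g := by rw [h3]
      obtain ⟨P0⟩ := (inferInstance : Nonempty (Sylow p G))
      have hndvd : ¬ p ∣ (P0 : Subgroup G).index := P0.not_dvd_index
      have hidvd : (P0 : Subgroup G).index ∣ Nat.card G := Subgroup.index_dvd_card _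
      have hi0 : (P0 : Subgroup G).index ≠ 0 := Subgroup.index_ne_zero_of_finite
      obtain ⟨j, hj⟩ := IsPGroup.iff_card.1 P0.2
      have hidx : (P0 : Subgroup G).index = 2 := by
        have h1 : (P0 : Subgroup G).index = 2 ^ _ :=
          Nat.eq_prime_pow_of_unique_prime_dvd hi0 (fun {d} hd hdi => by
            rcases huniq d hd (dvd_trans hdi hidvd) with h | h
            · exact h
            · exfalso; rw [h] at hdi; exact hndvd hdi)
        generalize ((P0 : Subgroup G).index).primeFactorsList.length = k at h1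
        rcases k with _ | _ | k
        · exfalso
          have h2 : Nat.card G = p ^ j := by
            rw [← Subgroup.index_mul_card (P0 : Subgroup G), h1, hj]; simp
          rw [h2] at h2N
          have := (Nat.prime_dvd_prime_iff_eq Nat.prime_two hp).1 (Nat.prime_two.dvd_of_dvd_pow h2N)
          exact hp2 this.symm
        · simpa using h1
        · exfalso
          apply h4N
          refine dvd_trans ?_ hidvd
          rw [h1]
          exact Dvd.intro (2 ^ k) (by ring)
      have hne : (P0 : Subgroup G) ≠ ⊥ := P0.ne_bot_of_dvd_card hpN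
      have hnt : Nontrivial (P0 : Subgroup G) := (Subgroup.nontrivial_iff_ne_bot _).2 hne
      have hexp : Monoid.exponent (P0 : Subgroup G) = p := by
        rw [Monoid.exponent_eq_prime_iff hp]
        intro g hg
        obtain ⟨k, hk⟩ := IsPGroup.iff_orderOf.1 P0.2 g
        have hk1 : k ≤ 1 := hexpP (g : G) k (by rw [Subgroup.orderOf_coe, hk])
        rcases k with _ | k
        · exfalso; apply hg; rw [← orderOf_eq_one_iff, hk]; simp
        · have : k = 0 := by omega
          subst this
          simpa using hk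
      obtain ⟨e⟩ := prod_decomp p hp hp2 z hz hzc (P0 : Subgroup G) P0.2 hidx
      refine ⟨p, Shrink.{0} (P0 : Subgroup G), inferInstance, inferInstance, hp, hp2, ?_, ?_, ⟨e⟩⟩
      · exact IsPGroup.of_equiv P0.2 (Shrink.mulEquiv).symm
      · rw [Monoid.exponent_eq_of_mulEquiv
          (Shrink.mulEquiv : Shrink.{0} (P0 : Subgroup G) ≃* (P0 : Subgroup G))]
        exact hexp
    · -- p-group
      left
      have hcard : Nat.card G = p ^ _ :=
        Nat.eq_prime_pow_of_unique_prime_dvd hNpos.ne' (fun {d} hd hdN =>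
          (huniq d hd hdN).resolve_left (by rintro rfl; exact h2N hdN))
      have hPG : IsPGroup p G := IsPGroup.of_card hcard
      have h3N : 3 ≤ Nat.card G := le_trans hp3 (Nat.le_of_dvd hNpos hpN)
      have hnt : Nontrivial G := (Finite.one_lt_card_iff_nontrivial).1 (by omega)
      refine ⟨p, hp, hPG, h3N, ?_⟩
      rw [Monoid.exponent_eq_prime_iff hp]
      intro g hg
      obtain ⟨k, hk⟩ := IsPGroup.iff_orderOf.1 hPG g
      have hk1 : k ≤ 1 := hexpP g k hk
      rcases k with _ | k
      · exfalso; apply hg; rw [← orderOf_eq_one_iff, hk]; simp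
      · have : k = 0 := by omega
        subst this
        simpa using hk
  · -- 2-group
    have hall2 : ∀ r, r.Prime → r ∣ Nat.card G → r = 2 := by
      intro r hr hrN
      by_contra hr2
      exact hoddp ⟨r, hr, hr2, hrN⟩
    have hcard : Nat.card G = 2 ^ _ :=
      Nat.eq_prime_pow_of_unique_prime_dvd hNpos.ne' (fun {d} hd hdN => hall2 d hd hdN)
    have := Fact.mk Nat.prime_two
    have hPG : IsPGroup 2 G := IsPGroup.of_card hcard
    have hord : ∀ g : G, orderOf g = 1 ∨ orderOf g = 2 ∨ orderOf g = 4 := by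
      intro g
      obtain ⟨k, hk⟩ := IsPGroup.iff_orderOf.1 hPG g
      have hk3 : k < 3 := lt_of_no_order 2 3 Nat.prime_two (fun g => by
        have := F.hD g; norm_num; exact this) g k hk
      interval_cases k
      · left; simpa using hk
      · right; left; simpa using hk
      · right; right; simpa using hk
    have h2N : 2 ∣ Nat.card G := by
      rcases hord g0 with h1 | h1 | h1
      · exact absurd h1 hg01
      · rw [← h1]; exact orderOf_dvd_natCard g0
      · exact dvd_trans (by norm_num) (h1 ▸ orderOf_dvd_natCard g0)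
    by_cases hx4 : ∃ x : G, orderOf x = 4
    · obtain ⟨x, hx⟩ := hx4
      right
      have h4N : 4 ∣ Nat.card G := hx ▸ orderOf_dvd_natCard x
      have hc4 : c G 4 = n := by rw [← hx]; exact F.hbig x (by omega)
      have hsumN : Nat.card G = 1 + (c G 2 + c G 4) := by
        conv_lhs => rw [← cnt_card G]
        rw [cnt_eq_sum {1, 2, 4} (Nat.card G) ?_ ?_]
        · rw [Finset.sum_insert (by simp), Finset.sum_pair (by norm_num), c_one]
        · intro m hm
          simp only [Finset.mem_insert, Finset.mem_singleton] at hm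
          rcases hm with rfl | rfl | rfl
          · exact one_dvd _
          · exact h2N
          · exact h4N
        · intro g _
          simp only [Finset.mem_insert, Finset.mem_singleton]
          exact hord g
      have hc2 : c G 2 = 1 := by
        rcases F.ht h2N with ht | ht
        · exact ht
        · exfalso; rw [ht, hc4] at hsumN; omega
      have hsub : Subsingleton {x : G // orderOf x = 2} := by
        unfold c at hc2
        exact (Nat.card_eq_one_iff_unique.mp hc2).1
      have huniq : ∀ a b : G, orderOf a = 2 → orderOf b = 2 → a = b := by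
        intro a b ha hb
        exact congrArg Subtype.val
          (Subsingleton.elim (⟨a, ha⟩ : {x : G // orderOf x = 2}) ⟨b, hb⟩)
      rcases quat_or_cyclic hord huniq x hx with hq | hcy
      · left; exact hq
      · right; left; exact hcy
    · left
      have hord' : ∀ g : G, orderOf g = 1 ∨ orderOf g = 2 := by
        intro g
        rcases hord g with h1 | h1 | h1
        · left; exact h1
        · right; exact h1
        · exact absurd ⟨g, h1⟩ hx4
      have hsumN : Nat.card G = 1 + c G 2 := by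
        conv_lhs => rw [← cnt_card G]
        rw [cnt_eq_sum {1, 2} (Nat.card G) ?_ ?_]
        · rw [Finset.sum_pair (by norm_num), c_one]
        · intro m hm
          simp only [Finset.mem_insert, Finset.mem_singleton] at hm
          rcases hm with rfl | rfl
          · exact one_dvd _
          · exact h2N
        · intro g _
          simp only [Finset.mem_insert, Finset.mem_singleton]
          exact hord' g
      have hg02 : orderOf g0 = 2 := (hord' g0).resolve_left hg01
      rw [hg02] at hg0
      have h2le : 2 ≤ Nat.card G := Nat.le_of_dvd hNpos h2N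
      have h3N : 3 ≤ Nat.card G := by omega
      have hnt : Nontrivial G := (Finite.one_lt_card_iff_nontrivial).1 (by omega)
      refine ⟨2, Nat.prime_two, hPG, h3N, ?_⟩
      rw [Monoid.exponent_eq_prime_iff Nat.prime_two]
      intro g hg
      rcases hord' g with h1 | h1
      · exact absurd (orderOf_eq_one_iff.mp h1) hg
      · exact h1

end Cfsg.Agent.S3995
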