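import Cfsg.Statements.S3997
import Mathlib.GroupTheory.Sylow
import Mathlib.Data.Set.Card
import Mathlib.SetTheory.Cardinal.NatCard

set_option autoImplicit false
open Cfsg

namespace Cfsg.Agent.S3997

/-- An order-preserving bijection from the order type hypothesis. -/
theorem exists_order_preserving_equiv {G H : Type*} [Group G] [Finite G] [Group H] [Finite H]
    (hT : (∀ m : ℕ, Nat.card {g : G // orderOf g = m} = Nat.card {h : H // orderOf h = m})) :
    ∃ f : G ≃ H, ∀ g : G, orderOf (f g) = orderOf g := by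
  classical
  have e : ∀ m : ℕ, Nonempty ({g : G // orderOf g = m} ≃ {h : H // orderOf h = m}) := by
    intro m
    exact Finite.card_eq.mp (hT m)
  let em : ∀ m : ℕ, {g : G // orderOf g = m} ≃ {h : H // orderOf h = m} := fun m => (e m).some
  let f : G ≃ H :=
    ((Equiv.sigmaFiberEquiv (fun g : G => orderOf g)).symm.trans
      (Equiv.sigmaCongrRight em)).trans (Equiv.sigmaFiberEquiv (fun h : H => orderOf h))
  refine ⟨f, fun g => ?_⟩
  have : f g = ((em (orderOf g)) ⟨g, rfl⟩ : H) := rfl
  rw [this]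
  exact ((em (orderOf g)) ⟨g, rfl⟩).2

/-- Let G and H be finite groups with the same order type: for every m they have the same number of elements of order m. If G is nilpotent then so is H. -/
theorem result {G H : Type*} [Group G] [Finite G] [Group H] [Finite H] (hT : (∀ m : ℕ, Nat.card {g : G // orderOf g = m} = Nat.card {h : H // orderOf h = m})) (hG : Group.IsNilpotent G) :
    Group.IsNilpotent H := by
  classical
  obtain ⟨f, hf⟩ := exists_order_preserving_equiv hT
  have hcardGH : Nat.card G = Nat.card H := Nat.card_congr f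
  refine (Group.isNilpotent_of_finite_tfae.out 0 3 rfl rfl).mpr ?_
  intro p hp Q
  have hpp : p.Prime := hp.out
  -- the normal Sylow p-subgroup of G
  obtain ⟨P⟩ : Nonempty (Sylow p G) := inferInstance
  have hPn : (P : Subgroup G).Normal := inferInstance
  have hEG : {g : G | ∃ k : ℕ, orderOf g = p ^ k} = (P : Set G) := by
    ext g
    constructor
    · rintro ⟨k, hk⟩
      have hz : IsPGroup p (Subgroup.zpowers g) := by
        apply IsPGroup.of_card (n := k)
        rw [Nat.card_zpowers, hk]
      obtain ⟨P', hP'⟩ := hz.exists_le_sylow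
      have := Sylow.unique_of_normal P hPn
      have hPP' : P' = P := Subsingleton.elim _ _
      rw [← hPP']
      exact hP' (Subgroup.mem_zpowers g)
    · intro hg
      obtain ⟨k, hk⟩ := (IsPGroup.iff_orderOf.mp P.isPGroup') ⟨g, hg⟩
      refine ⟨k, ?_⟩
      rw [← hk, Subgroup.orderOf_mk]
  have hEH_sub : (Q : Set H) ⊆ {h : H | ∃ k : ℕ, orderOf h = p ^ k} := by
    intro h hh
    obtain ⟨k, hk⟩ := (IsPGroup.iff_orderOf.mp Q.isPGroup') ⟨h, hh⟩
    refine ⟨k, ?_⟩
    rw [← hk, Subgroup.orderOf_mk]
  have himg : f '' {g : G | ∃ k : ℕ, orderOf g = p ^ k} = {h : H | ∃ k : ℕ, orderOf h = p ^ k} := by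
    ext h
    constructor
    · rintro ⟨g, ⟨k, hk⟩, rfl⟩
      exact ⟨k, by rw [hf, hk]⟩
    · rintro ⟨k, hk⟩
      refine ⟨f.symm h, ⟨k, ?_⟩, by simp⟩
      rw [← hf, Equiv.apply_symm_apply, hk]
  have hcardE : {h : H | ∃ k : ℕ, orderOf h = p ^ k}.ncard = (Q : Set H).ncard := by
    rw [← himg, Set.ncard_image_of_injective _ f.injective, hEG]
    change Nat.card P = Nat.card Q
    rw [Sylow.card_eq_multiplicity, Sylow.card_eq_multiplicity, hcardGH]
  have hEH : (Q : Set H) = {h : H | ∃ k : ℕ, orderOf h = p ^ k} :=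
    Set.eq_of_subset_of_ncard_le hEH_sub (le_of_eq hcardE) (Set.toFinite _)
  constructor
  intro q hq h
  have hq' : q ∈ (Q : Set H) := hq
  rw [hEH] at hq'
  obtain ⟨k, hk⟩ := hq'
  have : h * q * h⁻¹ ∈ (Q : Set H) := by
    rw [hEH]
    refine ⟨k, ?_⟩
    rw [← hk]
    have hs : SemiconjBy h q (h * q * h⁻¹) := by
      rw [SemiconjBy, inv_mul_cancel_right]
    exact (hs.orderOf_eq).symm
  exact this

end Cfsg.Agent.S3997
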