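-- Statement S4001: structure of 2-Frobenius groups.
import Cfsg.Statements.S4001
import Cfsg.Agent.Lib.Helper78.TwoFrob3

set_option autoImplicit false
set_option linter.style.haveILetI false
open Cfsg

namespace Cfsg.Agent.S4001

open Cfsg.Agent.Lib.Helper78.TwoFrob
open scoped Pointwise

/-- Let G be a 2-Frobenius group: it has normal subgroups H < K with K a Frobenius group with kernel H and G/H a Frobenius group with kernel K/H. Then G is solvable; K/H has odd order coprime to the order of H and to the order of G/K (it is the image of an odd-order Hall subgroup); G/K is cyclic; and the prime graph of G has exactly two connected components, both complete: for distinct primes p, q dividing the order of G, G has an element of order pq exactly when p and q either both divide the order of K/H or both do not. -/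
theorem result {G : Type*} [Group G] [Finite G] (H K : Subgroup G) [H.Normal] [K.Normal] (hlt : H < K)
    (hK : ∃ C : Subgroup ↥K, Cfsg.IsFrobeniusComplement C ∧ Cfsg.frobeniusKernel C = (H.subgroupOf K : Set ↥K))
    (hGH : ∃ C : Subgroup (G ⧸ H), Cfsg.IsFrobeniusComplement C ∧ Cfsg.frobeniusKernel C = (K.map (QuotientGroup.mk' H) : Set (G ⧸ H))) :
    Group.IsSolvable G ∧ Odd (Nat.card (↥K ⧸ H.subgroupOf K)) ∧
      Nat.Coprime (Nat.card (↥K ⧸ H.subgroupOf K)) (Nat.card ↥H * Nat.card (G ⧸ K)) ∧ IsCyclic (G ⧸ K) ∧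
      ∀ p q : ℕ, p.Prime → q.Prime → p ≠ q → p ∣ Nat.card G → q ∣ Nat.card G →
        ((∃ g : G, orderOf g = p * q) ↔ (p ∣ Nat.card (↥K ⧸ H.subgroupOf K) ↔ q ∣ Nat.card (↥K ⧸ H.subgroupOf K))) := by
  classical
  obtain ⟨C₁, hC₁, hker₁⟩ := hK
  obtain ⟨C₂, hC₂, hker₂⟩ := hGH
  have hle : H ≤ K := hlt.le
  have hN₁ : ((H.subgroupOf K : Subgroup K) : Set K) = Cfsg.frobeniusKernel C₁ := hker₁.symm
  have hN₂ : ((K.map (QuotientGroup.mk' H) : Subgroup (G ⧸ H)) : Set (G ⧸ H)) =
      Cfsg.frobeniusKernel C₂ := hker₂.symm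
  obtain ⟨hN₁n, hcomp₁⟩ := kernel_normal_compl hC₁ hN₁
  obtain ⟨hN₂n, hcomp₂⟩ := kernel_normal_compl hC₂ hN₂
  -- the embedding of C₁ onto the kernel of G ⧸ H
  let φ : C₁ →* G ⧸ H := (QuotientGroup.mk' H).comp (K.subtype.comp C₁.subtype)
  have hφ_apply : ∀ c : C₁, φ c = QuotientGroup.mk' H ((c : K) : G) := fun c => rfl
  have hφinj : Function.Injective φ := by
    rw [injective_iff_map_eq_one]
    intro c hc
    rw [hφ_apply, QuotientGroup.mk'_apply, QuotientGroup.eq_one_iff] at hc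
    have h1 : (c : K) ∈ H.subgroupOf K := Subgroup.mem_subgroupOf.mpr hc
    have h2 : (c : K) ∈ H.subgroupOf K ⊓ C₁ := Subgroup.mem_inf.mpr ⟨h1, c.2⟩
    rw [hcomp₁.disjoint.eq_bot, Subgroup.mem_bot] at h2
    exact Subtype.ext h2
  have hφmem : ∀ c : C₁, φ c ∈ K.map (QuotientGroup.mk' H) := fun c =>
    Subgroup.mem_map.mpr ⟨((c : K) : G), (c : K).2, rfl⟩
  have hφrange : φ.range = K.map (QuotientGroup.mk' H) := by
    apply le_antisymm
    · rintro _ ⟨c, rfl⟩
      exact hφmem c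
    · intro x hx
      obtain ⟨k, hk, rfl⟩ := Subgroup.mem_map.mp hx
      obtain ⟨⟨n, c⟩, hnc, -⟩ := hcomp₁.existsUnique ⟨k, hk⟩
      have hnH : ((n : K) : G) ∈ H := Subgroup.mem_subgroupOf.mp n.2
      have hk' : k = ((n : K) : G) * ((c : K) : G) := by
        have := congrArg Subtype.val hnc
        simpa using this.symm
      refine ⟨⟨(c : K), c.2⟩, ?_⟩
      rw [hφ_apply, hk', map_mul]
      have : QuotientGroup.mk' H ((n : K) : G) = 1 := by
        rw [QuotientGroup.mk'_apply, QuotientGroup.eq_one_iff]; exact hnH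
      rw [this, one_mul]
  -- cardinalities
  have hcardC₁ : Nat.card C₁ = Nat.card (↥K ⧸ H.subgroupOf K) := by
    have := hcomp₁.symm.index_eq_card
    rw [← this]; rfl
  have hcardN₁ : Nat.card (H.subgroupOf K) = Nat.card H :=
    Nat.card_congr (Subgroup.subgroupOfEquivOfLe hle).toEquiv
  have hcardN₂ : Nat.card (K.map (QuotientGroup.mk' H)) = Nat.card C₁ := by
    rw [← hφrange]
    exact (Nat.card_congr (MonoidHom.ofInjective hφinj).toEquiv).symm
  have hcardC₂ : Nat.card C₂ = Nat.card (G ⧸ K) := by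
    have h1 := hcomp₂.symm.index_eq_card
    rw [← h1, Subgroup.index_map, QuotientGroup.ker_mk', sup_of_le_left hle,
      MonoidHom.range_eq_top.mpr (QuotientGroup.mk'_surjective H), Subgroup.index_top, mul_one]
    rfl
  have hcardG : Nat.card G = Nat.card H * Nat.card C₁ * Nat.card (G ⧸ K) := by
    have h1 := Subgroup.card_mul_index K
    have h2 := hcomp₁.card_mul_card
    rw [hcardN₁] at h2
    rw [← h1, ← h2]
    rfl
  -- main structural facts
  have hodd : Odd (Nat.card C₁) := middle_odd hC₁ hN₁ hC₂ hN₂ φ hφinj hφrange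
  have hcyc₁ : IsCyclic C₁ := middle_cyclic hC₁ hN₁ hC₂ hN₂ φ hφinj hφrange
  have hcycN₂ : IsCyclic (K.map (QuotientGroup.mk' H)) := by
    haveI := hcyc₁
    apply isCyclic_of_surjective (φ.codRestrict (K.map (QuotientGroup.mk' H)) hφmem)
    rintro ⟨x, hx⟩
    rw [← hφrange] at hx
    obtain ⟨c, rfl⟩ := hx
    exact ⟨c, rfl⟩
  have hcyc₂ : IsCyclic C₂ := compl_cyclic hC₂ hN₂ hcycN₂
  have hcop₁ : (Nat.card H).Coprime (Nat.card C₁) := by
    have := kernel_coprime hC₁ hN₁
    rwa [hcardN₁] at this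
  have hcop₂ : (Nat.card C₁).Coprime (Nat.card (G ⧸ K)) := by
    have := kernel_coprime hC₂ hN₂
    rwa [hcardN₂, hcardC₂] at this
  -- the map G ⧸ H → G ⧸ K
  let ψ : G ⧸ H →* G ⧸ K := QuotientGroup.map H K (MonoidHom.id G) (fun x hx => hle hx)
  have hψ : ∀ g : G, ψ (QuotientGroup.mk' H g) = QuotientGroup.mk' K g := fun g => rfl
  have hψN : ∀ n ∈ K.map (QuotientGroup.mk' H), ψ n = 1 := by
    intro n hn
    obtain ⟨k, hk, rfl⟩ := Subgroup.mem_map.mp hn
    rw [hψ, QuotientGroup.mk'_apply, QuotientGroup.eq_one_iff]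
    exact hk
  have hψker : ψ.ker ≤ (K.map (QuotientGroup.mk' H)).subtype.range := by
    intro x hx
    rw [MonoidHom.mem_ker] at hx
    obtain ⟨g, rfl⟩ := QuotientGroup.mk'_surjective H x
    rw [hψ, QuotientGroup.mk'_apply, QuotientGroup.eq_one_iff] at hx
    rw [Subgroup.range_subtype]
    exact Subgroup.mem_map.mpr ⟨g, hx, rfl⟩
  have hψsurj : Function.Surjective (ψ.comp C₂.subtype) := by
    intro x
    obtain ⟨g, rfl⟩ := QuotientGroup.mk'_surjective K x
    obtain ⟨⟨n, c⟩, hnc, -⟩ := hcomp₂.existsUnique (QuotientGroup.mk' H g)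
    refine ⟨⟨(c : G ⧸ H), c.2⟩, ?_⟩
    have h1 : ψ ((n : G ⧸ H) * (c : G ⧸ H)) = QuotientGroup.mk' K g := by
      rw [hnc, hψ]
    rw [map_mul, hψN _ n.2, one_mul] at h1
    exact h1
  have hcycGK : IsCyclic (G ⧸ K) := by
    haveI := hcyc₂
    exact isCyclic_of_surjective _ hψsurj
  -- nilpotency of H
  have hHnil : Group.IsNilpotent H := by
    haveI : Group.IsNilpotent (H.subgroupOf K) := kernel_nilpotent hC₁ hN₁
    exact Group.nilpotent_of_mulEquiv (Subgroup.subgroupOfEquivOfLe hle)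
  -- solvability
  have hsolv : Group.IsSolvable G := by
    haveI : Group.IsSolvable H := by
      haveI := hHnil
      exact IsNilpotent.to_isSolvable
    haveI : Group.IsSolvable (G ⧸ K) := by
      haveI := hcycGK
      haveI : IsMulCommutative (G ⧸ K) := IsCyclic.isMulCommutative
      letI : CommGroup (G ⧸ K) :=
        { (inferInstance : Group (G ⧸ K)) with mul_comm := fun a b => mul_comm' a b }
      exact Group.isSolvable_of_comm (fun a b => mul_comm a b)
    haveI : Group.IsSolvable (K.map (QuotientGroup.mk' H)) := by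
      haveI := hcycN₂
      haveI : IsMulCommutative (K.map (QuotientGroup.mk' H)) := IsCyclic.isMulCommutative
      exact Group.isSolvable_of_comm (fun a b => mul_comm' a b)
    haveI : Group.IsSolvable (G ⧸ H) :=
      Group.isSolvable_of_ker_le_range (K.map (QuotientGroup.mk' H)).subtype ψ hψker
    apply Group.isSolvable_of_ker_le_range H.subtype (QuotientGroup.mk' H)
    rw [QuotientGroup.ker_mk', Subgroup.range_subtype]
  -- no elements of mixed order
  have no_mixed : ∀ (p q : ℕ), p.Prime → q.Prime → p ∣ Nat.card C₁ → ¬ q ∣ Nat.card C₁ →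
      ∀ g : G, orderOf g = p * q → False := by
    intro p q hp hq hp1 hq1 g hg
    haveI : Fact q.Prime := ⟨hq⟩
    have hpH : ¬ p ∣ Nat.card H := fun h =>
      hp.one_lt.ne' (Nat.eq_one_of_dvd_coprimes hcop₁ h hp1)
    have hpGK : ¬ p ∣ Nat.card (G ⧸ K) := fun h =>
      hp.one_lt.ne' (Nat.eq_one_of_dvd_coprimes hcop₂ hp1 h)
    have hu : orderOf (g ^ q) = p := by
      rw [orderOf_pow_of_dvd hq.ne_zero (by rw [hg]; exact dvd_mul_left q p), hg,
        Nat.mul_div_cancel _ hq.pos]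
    have hw : orderOf (g ^ p) = q := by
      rw [orderOf_pow_of_dvd hp.ne_zero (by rw [hg]; exact dvd_mul_right p q), hg,
        Nat.mul_div_cancel_left _ hp.pos]
    have hcomm : g ^ p * g ^ q = g ^ q * g ^ p := by
      rw [← pow_add, ← pow_add, add_comm]
    have hu1 : g ^ q ≠ 1 := by
      intro h; rw [h, orderOf_one] at hu; exact hp.one_lt.ne hu
    have hw1 : g ^ p ≠ 1 := by
      intro h; rw [h, orderOf_one] at hw; exact hq.one_lt.ne hw
    have huK : g ^ q ∈ K := by
      have h1 := orderOf_map_dvd (QuotientGroup.mk' K) (g ^ q)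
      rw [hu] at h1
      have h2 : orderOf (QuotientGroup.mk' K (g ^ q)) ∣ Nat.card (G ⧸ K) := orderOf_dvd_natCard _
      rcases (Nat.dvd_prime hp).mp h1 with h | h
      · rw [orderOf_eq_one_iff, QuotientGroup.mk'_apply, QuotientGroup.eq_one_iff] at h
        exact h
      · rw [h] at h2
        exact absurd h2 hpGK
    have huH : g ^ q ∉ H := by
      intro h
      apply hpH
      have := orderOf_dvd_natCard (⟨g ^ q, h⟩ : H)
      rwa [Subgroup.orderOf_mk, hu] at this
    have hubar : QuotientGroup.mk' H (g ^ q) ∈ K.map (QuotientGroup.mk' H) :=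
      Subgroup.mem_map.mpr ⟨_, huK, rfl⟩
    have hubar1 : QuotientGroup.mk' H (g ^ q) ≠ 1 := by
      rw [Ne, QuotientGroup.mk'_apply, QuotientGroup.eq_one_iff]
      exact huH
    have hwbar : QuotientGroup.mk' H (g ^ p) ∈ K.map (QuotientGroup.mk' H) := by
      apply cent_le_kernel hC₂ hN₂ hubar hubar1
      rw [← map_mul, ← map_mul, hcomm]
    have hwK : g ^ p ∈ K := by
      obtain ⟨k, hk, hkw⟩ := Subgroup.mem_map.mp hwbar
      rw [QuotientGroup.mk'_apply, QuotientGroup.mk'_apply, QuotientGroup.eq] at hkw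
      have : g ^ p = k * (k⁻¹ * g ^ p) := by group
      rw [this]
      exact K.mul_mem hk (hle hkw)
    -- inside K
    have hu'1 : (⟨g ^ q, huK⟩ : K) ≠ 1 := fun h => hu1 (congrArg Subtype.val h)
    have hu'ord : orderOf (⟨g ^ q, huK⟩ : K) ∣ Nat.card C₁ := by
      rw [Subgroup.orderOf_mk, hu]; exact hp1
    obtain ⟨g₁, hg₁⟩ := Cfsg.Agent.Lib.Helper35.exists_mem_conj_of_orderOf_dvd hC₁ _ hu'1 hu'ord
    have hw'mem : (⟨g ^ p, hwK⟩ : K) ∈ MulAut.conj g₁ • C₁ := by
      apply Cfsg.Agent.Lib.Helper35.mem_conj_of_commute hC₁ hu'1 hg₁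
      exact Subtype.ext hcomm
    rw [Cfsg.Agent.Lib.Helper35.mem_conj_smul] at hw'mem
    have ht1 : g₁⁻¹ * (⟨g ^ p, hwK⟩ : K) * g₁ ≠ 1 := by
      intro h
      apply hw1
      have h2 : (⟨g ^ p, hwK⟩ : K) = g₁ * (g₁⁻¹ * (⟨g ^ p, hwK⟩ : K) * g₁) * g₁⁻¹ := by group
      rw [h] at h2
      have h3 : (⟨g ^ p, hwK⟩ : K) = 1 := by rw [h2]; group
      exact congrArg Subtype.val h3
    have htq : (g₁⁻¹ * (⟨g ^ p, hwK⟩ : K) * g₁) ^ q = 1 := by
      have hwq : (⟨g ^ p, hwK⟩ : K) ^ q = 1 := by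
        apply Subtype.ext
        have : (g ^ p) ^ q = 1 := by rw [← hw]; exact pow_orderOf_eq_one _
        simpa using this
      have e : g₁⁻¹ * (⟨g ^ p, hwK⟩ : K) * g₁ = g₁⁻¹ * (⟨g ^ p, hwK⟩ : K) * g₁⁻¹⁻¹ := by group
      rw [e, conj_pow, hwq]; group
    have htord : orderOf (g₁⁻¹ * (⟨g ^ p, hwK⟩ : K) * g₁) = q := orderOf_eq_prime htq ht1
    apply hq1
    have := orderOf_dvd_natCard (⟨_, hw'mem⟩ : C₁)
    rwa [Subgroup.orderOf_mk, htord] at this
  -- assemble
  rw [← hcardC₁]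
  refine ⟨hsolv, hodd, Nat.Coprime.mul_right hcop₁.symm hcop₂, hcycGK, ?_⟩
  intro p q hp hq hpq hpG hqG
  constructor
  · rintro ⟨g, hg⟩
    by_cases hp1 : p ∣ Nat.card C₁ <;> by_cases hq1 : q ∣ Nat.card C₁
    · exact ⟨fun _ => hq1, fun _ => hp1⟩
    · exact (no_mixed p q hp hq hp1 hq1 g hg).elim
    · exact (no_mixed q p hq hp hq1 hp1 g (by rw [hg, mul_comm])).elim
    · exact ⟨fun h => absurd h hp1, fun h => absurd h hq1⟩
  · intro hiff
    have hcopq : p.Coprime q := (Nat.coprime_primes hp hq).mpr hpq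
    by_cases hp1 : p ∣ Nat.card C₁
    · have hq1 := hiff.mp hp1
      haveI := hcyc₁
      obtain ⟨y₀, hy₀⟩ := IsCyclic.exists_ofOrder_eq_natCard (α := C₁)
      have hdvd : p * q ∣ orderOf y₀ := by
        rw [hy₀]; exact Nat.Coprime.mul_dvd_of_dvd_of_dvd hcopq hp1 hq1
      obtain ⟨k, hk⟩ := exists_orderOf_eq_of_dvd hdvd (orderOf_pos y₀).ne'
      refine ⟨(((y₀ ^ k : C₁) : K) : G), ?_⟩
      rw [Subgroup.orderOf_coe, Subgroup.orderOf_coe, hk]
    · have hq1 : ¬ q ∣ Nat.card C₁ := fun h => hp1 (hiff.mpr h)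
      have hp2 : p ∣ Nat.card H ∨ p ∣ Nat.card (G ⧸ K) := by
        rw [hcardG] at hpG
        rcases (Nat.Prime.dvd_mul hp).mp hpG with h | h
        · rcases (Nat.Prime.dvd_mul hp).mp h with h | h
          · exact Or.inl h
          · exact absurd h hp1
        · exact Or.inr h
      have hq2 : q ∣ Nat.card H ∨ q ∣ Nat.card (G ⧸ K) := by
        rw [hcardG] at hqG
        rcases (Nat.Prime.dvd_mul hq).mp hqG with h | h
        · rcases (Nat.Prime.dvd_mul hq).mp h with h | h
          · exact Or.inl h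
          · exact absurd h hq1
        · exact Or.inr h
      have hcopHN : (Nat.card H).Coprime (Nat.card (K.map (QuotientGroup.mk' H))) := by
        rw [hcardN₂]; exact hcop₁
      have hfix : ∀ a ∈ H, (∀ k : G, (QuotientGroup.mk' H k) ∈ K.map (QuotientGroup.mk' H) →
          k * a = a * k) → a = 1 := by
        intro a ha hcent
        obtain ⟨⟨c₁, hc₁⟩, hc₁1⟩ := (Subgroup.ne_bot_iff_exists_ne_one).mp hC₁.1
        have h1 := hcent (c₁ : G) (Subgroup.mem_map.mpr ⟨_, c₁.2, rfl⟩)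
        have hc₁1' : c₁ ≠ 1 := fun h => hc₁1 (Subtype.ext h)
        have ha' : (⟨a, hle ha⟩ : K) ∈ H.subgroupOf K := Subgroup.mem_subgroupOf.mpr ha
        have := fpf hC₁ hN₁ hc₁ hc₁1' ha' (Subtype.ext h1)
        exact congrArg Subtype.val this
      by_cases hpH : p ∣ Nat.card H
      · by_cases hqH : q ∣ Nat.card H
        · -- both in H
          haveI : Fact p.Prime := ⟨hp⟩
          haveI : Fact q.Prime := ⟨hq⟩
          obtain ⟨x, hx⟩ := exists_prime_orderOf_dvd_card' (G := H) p hpH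
          obtain ⟨y, hy⟩ := exists_prime_orderOf_dvd_card' (G := H) q hqH
          have hxy : (x : G) * y = y * x :=
            Cfsg.Agent.Lib.Helper78.commute_of_mem_nilpotent H hHnil hpq x.2 y.2 (k := 1) (l := 1)
              (by rw [Subgroup.orderOf_coe, hx, pow_one]) (by rw [Subgroup.orderOf_coe, hy, pow_one])
          refine ⟨(x : G) * y, ?_⟩
          have hc : Commute (x : G) (y : G) := hxy
          rw [hc.orderOf_mul_eq_mul_orderOf_of_coprime (by
            rw [Subgroup.orderOf_coe, Subgroup.orderOf_coe, hx, hy]; exact hcopq),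
            Subgroup.orderOf_coe, Subgroup.orderOf_coe, hx, hy]
        · have hqC : q ∣ Nat.card C₂ := by
            rw [hcardC₂]; exact hq2.resolve_left hqH
          exact exists_orderOf_mul H hHnil hC₂ hN₂ hcopHN hfix hp hq hpq hpH hqC
      · have hpC : p ∣ Nat.card C₂ := by
          rw [hcardC₂]; exact hp2.resolve_left hpH
        by_cases hqH : q ∣ Nat.card H
        · obtain ⟨g, hg⟩ := exists_orderOf_mul H hHnil hC₂ hN₂ hcopHN hfix hq hp hpq.symm hqH hpC
          exact ⟨g, by rw [hg, mul_comm]⟩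
        · have hqC : q ∣ Nat.card C₂ := by
            rw [hcardC₂]; exact hq2.resolve_left hqH
          haveI := hcyc₂
          obtain ⟨y₀, hy₀⟩ := IsCyclic.exists_ofOrder_eq_natCard (α := C₂)
          obtain ⟨g₀, hg₀⟩ := QuotientGroup.mk'_surjective H (y₀ : G ⧸ H)
          have hdvd : p * q ∣ orderOf g₀ := by
            have h1 := orderOf_map_dvd (QuotientGroup.mk' H) g₀
            rw [hg₀, Subgroup.orderOf_coe, hy₀] at h1
            exact (Nat.Coprime.mul_dvd_of_dvd_of_dvd hcopq hpC hqC).trans h1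
          obtain ⟨k, hk⟩ := exists_orderOf_eq_of_dvd hdvd (orderOf_pos g₀).ne'
          exact ⟨g₀ ^ k, hk⟩

end Cfsg.Agent.S4001
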