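import Cfsg.Statements.S4002
import Cfsg.Agent.Lib.Helper60.ThreePrimes

set_option autoImplicit false
open Cfsg

namespace Cfsg.Agent.S4002

/-- For `n ≥ 7` there are three primes `p < q < r ≤ n` with `p * q > n`. -/
theorem exists_three_primes (n : ℕ) (hn : 7 ≤ n) :
    ∃ p q r : ℕ, p.Prime ∧ q.Prime ∧ r.Prime ∧ p < q ∧ q < r ∧ r ≤ n ∧ n < p * q := by
  by_cases h1 : n ≤ 14
  · exact ⟨3, 5, 7, by norm_num, by norm_num, by norm_num, by norm_num, by norm_num, hn, by omega⟩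
  by_cases h2 : n ≤ 31
  · exact ⟨5, 7, 11, by norm_num, by norm_num, by norm_num, by norm_num, by norm_num, by omega,
      by omega⟩
  -- Bertrand's postulate three times
  have hm : 4 ≤ n / 8 := by omega
  obtain ⟨p, hp, hp1, hp2⟩ := Nat.exists_prime_lt_and_le_two_mul (n / 8) (by omega)
  obtain ⟨q, hq, hq1, hq2⟩ := Nat.exists_prime_lt_and_le_two_mul (2 * (n / 8)) (by omega)
  obtain ⟨r, hr, hr1, hr2⟩ := Nat.exists_prime_lt_and_le_two_mul (4 * (n / 8)) (by omega)
  refine ⟨p, q, r, hp, hq, hr, by omega, by omega, by omega, ?_⟩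
  have h3 : n < 8 * (n / 8 + 1) := by omega
  have h4 : (n / 8 + 1) * (2 * (n / 8) + 1) ≤ p * q := Nat.mul_le_mul (by omega) (by omega)
  have h5 : 8 * (n / 8 + 1) ≤ (n / 8 + 1) * (2 * (n / 8) + 1) := by
    rw [mul_comm]
    exact Nat.mul_le_mul_left _ (by omega)
  omega

/-- If the set of element orders of a finite group G is {1, 2, …, n} with n ≥ 7, then G is not solvable. -/
theorem result {G : Type*} [Group G] [Finite G] (n : ℕ) (hn : 7 ≤ n) (h : Set.range (orderOf : G → ℕ) = {k : ℕ | 1 ≤ k ∧ k ≤ n}) : ¬ Group.IsSolvable G := by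
  intro hsolv
  obtain ⟨p, q, r, hp, hq, hr, hpq, hqr, hrn, hnpq⟩ := exists_three_primes n hn
  have hmem : ∀ k : ℕ, 1 ≤ k → k ≤ n → ∃ g : G, orderOf g = k := by
    intro k hk1 hkn
    have : k ∈ Set.range (orderOf : G → ℕ) := by rw [h]; exact ⟨hk1, hkn⟩
    exact this
  have hnot : ∀ k : ℕ, n < k → ¬ ∃ g : G, orderOf g = k := by
    rintro k hk ⟨g, hg⟩
    have : k ∈ Set.range (orderOf : G → ℕ) := ⟨g, hg⟩
    rw [h] at this
    exact absurd this.2 (by omega)
  have hdvd : ∀ k : ℕ, 1 ≤ k → k ≤ n → k ∣ Nat.card G := by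
    intro k hk1 hkn
    obtain ⟨g, hg⟩ := hmem k hk1 hkn
    rw [← hg]; exact orderOf_dvd_natCard g
  have h3 := Cfsg.Agent.Lib.Helper60.three_primes_solvable (G := G) hp hq hr (by omega) (by omega)
    (by omega) (hdvd p hp.one_lt.le (by omega)) (hdvd q hq.one_lt.le (by omega))
    (hdvd r hr.one_lt.le hrn)
  have hpr : n < p * r := lt_of_lt_of_le hnpq (Nat.mul_le_mul_left p hqr.le)
  have hqr' : n < q * r := lt_of_lt_of_le hpr (Nat.mul_le_mul_right r hpq.le)
  rcases h3 with h3 | h3 | h3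
  · exact hnot _ hnpq h3
  · exact hnot _ hpr h3
  · exact hnot _ hqr' h3

end Cfsg.Agent.S4002
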