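import Mathlib
import Cfsg.Statements.S4003
import Cfsg.Agent.Lib.Helper66.Miller
import Cfsg.Agent.Lib.Helper66.Orbits2
import Cfsg.Agent.Lib.Helper66.Frobenius

set_option autoImplicit false
set_option linter.unusedSectionVars false
set_option linter.style.haveILetI false
open Cfsg

namespace Cfsg.Agent.S4003

open Cfsg.Agent.Lib.Helper66 Cfsg.Agent.Lib.Helper66.Miller

/-- elements of order `d` commuting with `u`, as elements of the centralizer -/
theorem w_eq_card {G : Type*} [Group G] [Fintype G] [DecidableEq G] (u : G) (d : ℕ) :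
    (Finset.univ.filter (fun z : G => z * u = u * z ∧ orderOf z = d)).card =
      Nat.card {v : Subgroup.centralizer ({u} : Set G) // orderOf v = d} := by
  rw [← Fintype.card_subtype, ← Nat.card_eq_fintype_card]
  apply Nat.card_congr
  refine ⟨fun z => ⟨⟨z.1, ?_⟩, ?_⟩, fun z => ⟨z.1.1, ?_, ?_⟩, ?_, ?_⟩
  · rw [Subgroup.mem_centralizer_singleton_iff]; exact z.2.1
  · rw [Subgroup.orderOf_mk]; exact z.2.2
  · have := z.1.2; rw [Subgroup.mem_centralizer_singleton_iff] at this; exact this
  · rw [Subgroup.orderOf_coe]; exact z.2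
  · intro z; rfl
  · intro z; rfl

/-- if a Sylow `p`-subgroup of a subgroup `C` is cyclic while those of `G` are not, then `p`
divides the index of `C` -/
theorem dvd_index_of_cyclic_sylow {G : Type*} [Group G] [Finite G] {p : ℕ} [hp : Fact p.Prime]
    (P : Sylow p G) (hP : ¬ IsCyclic ↥(P : Subgroup G)) (C : Subgroup G) (Q : Sylow p C)
    (hQ : IsCyclic (Q : Subgroup C)) : p ∣ C.index := by
  by_contra hnd
  apply hP
  -- the image of `Q` in `G`
  set Q' : Subgroup G := (Q : Subgroup C).map C.subtype with hQ'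
  have e : (Q : Subgroup C) ≃* Q' := (Q : Subgroup C).equivMapOfInjective _ C.subtype_injective
  have hQ'p : IsPGroup p Q' := Q.2.of_equiv e
  obtain ⟨P', hP'⟩ := hQ'p.exists_le_sylow
  have hcard : Nat.card Q' = Nat.card P' := by
    rw [← Nat.card_congr e.toEquiv, Sylow.card_eq_multiplicity, Sylow.card_eq_multiplicity]
    congr 1
    have h1 : Nat.card G = Nat.card C * C.index := (Subgroup.card_mul_index C).symm
    rw [h1, Nat.factorization_mul Nat.card_pos.ne' (Subgroup.index_ne_zero_of_finite)]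
    simp only [Finsupp.coe_add, Pi.add_apply]
    rw [Nat.factorization_eq_zero_of_not_dvd hnd, add_zero]
  have heq : Q' = (P' : Subgroup G) := Subgroup.eq_of_le_of_card_ge hP' (by rw [hcard])
  haveI := hQ
  haveI : IsCyclic Q' := isCyclic_of_surjective e e.surjective
  haveI : IsCyclic (P' : Subgroup G) := heq ▸ this
  exact isCyclic_of_surjective (Sylow.equiv P' P) (Sylow.equiv P' P).surjective

universe u

theorem pow_dvd_orbit_mul_w {G : Type u} [Group G] [Fintype G] [DecidableEq G] {p : ℕ}
    [hp : Fact p.Prime] (hodd : p ≠ 2) (P : Sylow p G) (hP : ¬ IsCyclic ↥(P : Subgroup G))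
    (s : ℕ) (hs : 1 < s) (u : G) :
    p ^ s ∣ (MulAction.orbit (ConjAct G) u).ncard *
      (Finset.univ.filter (fun z : G => z * u = u * z ∧ orderOf z = p ^ s)).card := by
  rw [w_eq_card]
  set C := Subgroup.centralizer ({u} : Set G) with hC
  have horb : (MulAction.orbit (ConjAct G) u).ncard = C.index := by
    have h1 : (MulAction.orbit (ConjAct G) u).ncard * Nat.card C = Nat.card G := by
      rw [← MulAction.index_stabilizer, Subgroup.nat_card_centralizer_nat_card_stabilizer, mul_comm]
      exact Subgroup.card_mul_index _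
    have h2 : C.index * Nat.card C = Nat.card G := by
      rw [mul_comm]; exact Subgroup.card_mul_index C
    exact Nat.eq_of_mul_eq_mul_right Nat.card_pos (h1.trans h2.symm)
  rw [horb]
  let Q : Sylow p C := default
  by_cases hQ : IsCyclic (Q : Subgroup C)
  · have h1 : p ∣ C.index := dvd_index_of_cyclic_sylow P hP C Q hQ
    have h2 : p ^ (s - 1) ∣ Nat.card {v : C // orderOf v = p ^ s} :=
      pow_pred_dvd_card_orderOf (H := C) s (by omega)
    have h3 : p ^ s = p * p ^ (s - 1) := by
      rw [← pow_succ']; congr 1; omega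
    calc p ^ s = p * p ^ (s - 1) := h3
      _ ∣ _ := Nat.mul_dvd_mul h1 h2
  · exact Dvd.dvd.mul_left (pow_dvd_card_orderOf_of_sylow hodd s (by omega) Q hQ) _

theorem orderOf_conj' {G : Type*} [Group G] (g z : G) : orderOf (g * z * g⁻¹) = orderOf z :=
  (SemiconjBy.orderOf_eq _ (SemiconjBy.conj_mk _ _)).symm

theorem orderOf_conj'' {G : Type*} [Group G] (g z : G) : orderOf (g⁻¹ * z * g) = orderOf z := by
  have := orderOf_conj' g⁻¹ z
  rwa [inv_inv] at this

theorem pow_dvd_sum_w {G : Type u} [Group G] [Fintype G] [DecidableEq G] {p : ℕ}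
    [hp : Fact p.Prime] (hodd : p ≠ 2) (P : Sylow p G) (hP : ¬ IsCyclic ↥(P : Subgroup G))
    (s : ℕ) (hs : 1 < s) (m : ℕ) :
    p ^ s ∣ ∑ u ∈ Finset.univ.filter (fun u : G => orderOf u = m),
      (Finset.univ.filter (fun z : G => z * u = u * z ∧ orderOf z = p ^ s)).card := by
  apply dvd_sum_of_invariant (G := ConjAct G) (p ^ s)
    (fun u : G => (Finset.univ.filter (fun z : G => z * u = u * z ∧ orderOf z = p ^ s)).card)
  · intro c y
    rw [ConjAct.smul_def]
    set g := ConjAct.ofConjAct c with hg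
    change (Finset.univ.filter (fun z : G => z * (g * y * g⁻¹) = (g * y * g⁻¹) * z ∧
      orderOf z = p ^ s)).card = _
    apply Finset.card_nbij' (fun z => g⁻¹ * z * g) (fun z => g * z * g⁻¹)
    · intro z hz
      simp only [Finset.mem_coe, Finset.mem_filter, Finset.mem_univ, true_and] at hz ⊢
      refine ⟨?_, ?_⟩
      · have h := hz.1
        have h2 : g⁻¹ * (z * (g * y * g⁻¹)) * g = g⁻¹ * (g * y * g⁻¹ * z) * g := by rw [h]
        simp only [mul_assoc, inv_mul_cancel_left, inv_mul_cancel, mul_one] at h2 ⊢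
        exact h2
      · rw [orderOf_conj'']; exact hz.2
    · intro z hz
      simp only [Finset.mem_coe, Finset.mem_filter, Finset.mem_univ, true_and] at hz ⊢
      refine ⟨?_, ?_⟩
      · have h := hz.1
        simp only [mul_assoc, inv_mul_cancel_left]
        rw [← mul_assoc z, h, mul_assoc]
      · rw [orderOf_conj']; exact hz.2
    · intro z _
      simp only [mul_assoc, mul_inv_cancel_left, mul_inv_cancel, mul_one]
    · intro z _
      simp only [mul_assoc, inv_mul_cancel_left, inv_mul_cancel, mul_one]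
  · intro c y hy
    rw [Finset.mem_filter] at hy ⊢
    refine ⟨Finset.mem_univ _, ?_⟩
    rw [ConjAct.smul_def, ← hy.2]
    exact orderOf_conj' _ _
  · intro y _
    exact pow_dvd_orbit_mul_w hodd P hP s hs y

theorem eq_of_dvd_of_mul_eq {x y A B : ℕ} (hA : 0 < A) (hB : 0 < B) (hx : x ∣ B) (hy : y ∣ A)
    (h : x * y = A * B) : x = B ∧ y = A := by
  obtain ⟨c, rfl⟩ := hx
  obtain ⟨d, rfl⟩ := hy
  have hx0 : 0 < x := Nat.pos_of_mul_pos_right hB
  have hy0 : 0 < y := Nat.pos_of_mul_pos_right hA
  have hc0 : 0 < c := Nat.pos_of_mul_pos_left hB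
  have hd0 : 0 < d := Nat.pos_of_mul_pos_left hA
  have h1 : (x * y) * 1 = (x * y) * (d * c) := by
    calc (x * y) * 1 = x * y := mul_one _
      _ = y * d * (x * c) := h
      _ = (x * y) * (d * c) := by ring
  have h2 : d * c = 1 := (Nat.eq_of_mul_eq_mul_left (Nat.mul_pos hx0 hy0) h1).symm
  have hd1 : d = 1 := Nat.eq_one_of_mul_eq_one_right h2
  have hc1 : c = 1 := Nat.eq_one_of_mul_eq_one_left h2
  subst hd1; subst hc1
  simp

/-- elements of order `A * B` (`A`, `B` coprime) correspond to commuting pairs of elements of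
orders `B` and `A` -/
theorem card_orderOf_mul_eq_sum {G : Type*} [Group G] [Fintype G] [DecidableEq G] (A B : ℕ)
    (hA : 0 < A) (hB : 0 < B) (co : Nat.Coprime A B) :
    (Finset.univ.filter (fun g : G => orderOf g = A * B)).card =
      ∑ u ∈ Finset.univ.filter (fun u : G => orderOf u = B),
        (Finset.univ.filter (fun z : G => z * u = u * z ∧ orderOf z = A)).card := by
  obtain ⟨a₀, ha0, ha1⟩ := Nat.chineseRemainder co 0 1
  obtain ⟨b₀, hb1, hb0⟩ := Nat.chineseRemainder co 1 0
  have hAa : A ∣ a₀ := (Nat.modEq_zero_iff_dvd).mp ha0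
  have hBb : B ∣ b₀ := (Nat.modEq_zero_iff_dvd).mp hb0
  have hsum : a₀ + b₀ ≡ 1 [MOD A * B] := by
    rw [← Nat.modEq_and_modEq_iff_modEq_mul co]
    constructor
    · have := ha0.add hb1; simpa using this
    · have := ha1.add hb0; simpa using this
  rw [← Finset.card_sigma]
  apply Finset.card_nbij' (fun g => (⟨g ^ a₀, g ^ b₀⟩ : Σ _ : G, G)) (fun q => q.1 * q.2)
  · intro g hg
    simp only [Finset.mem_coe, Finset.mem_filter, Finset.mem_univ, true_and] at hg
    have hgN : g ^ (A * B) = 1 := by rw [← hg]; exact pow_orderOf_eq_one g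
    have hxB : (g ^ a₀) ^ B = 1 := by
      rw [← pow_mul]
      exact pow_eq_one_of_dvd' hgN (Nat.mul_dvd_mul_right hAa B)
    have hyA : (g ^ b₀) ^ A = 1 := by
      rw [← pow_mul]
      apply pow_eq_one_of_dvd' hgN
      rw [mul_comm A B]; exact Nat.mul_dvd_mul_right hBb A
    have hcomm : Commute (g ^ a₀) (g ^ b₀) := (Commute.refl g).pow_pow a₀ b₀
    have hprod : g ^ a₀ * g ^ b₀ = g := by
      rw [← pow_add]
      have := pow_congr_mod hgN hsum
      rwa [pow_one] at this
    have hdx : orderOf (g ^ a₀) ∣ B := orderOf_dvd_of_pow_eq_one hxB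
    have hdy : orderOf (g ^ b₀) ∣ A := orderOf_dvd_of_pow_eq_one hyA
    have hco : (orderOf (g ^ a₀)).Coprime (orderOf (g ^ b₀)) :=
      Nat.Coprime.coprime_dvd_left hdx (Nat.Coprime.coprime_dvd_right hdy co.symm)
    have hmul := hcomm.orderOf_mul_eq_mul_orderOf_of_coprime hco
    rw [hprod, hg] at hmul
    obtain ⟨h1, h2⟩ := eq_of_dvd_of_mul_eq hA hB hdx hdy hmul.symm
    simp only [Finset.coe_sigma, Set.mem_sigma_iff, Finset.mem_coe, Finset.mem_filter,
      Finset.mem_univ, true_and]
    exact ⟨h1, hcomm.symm.eq, h2⟩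
  · rintro ⟨u, z⟩ hq
    simp only [Finset.coe_sigma, Set.mem_sigma_iff, Finset.mem_coe, Finset.mem_filter,
      Finset.mem_univ, true_and] at hq
    obtain ⟨hu, hcomm, hz⟩ := hq
    simp only [Finset.mem_coe, Finset.mem_filter, Finset.mem_univ, true_and]
    have hc : Commute u z := hcomm.symm
    have hco : (orderOf u).Coprime (orderOf z) := by rw [hu, hz]; exact co.symm
    rw [hc.orderOf_mul_eq_mul_orderOf_of_coprime hco, hu, hz, mul_comm]
  · intro g hg
    simp only [Finset.mem_coe, Finset.mem_filter, Finset.mem_univ, true_and] at hg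
    have hgN : g ^ (A * B) = 1 := by rw [← hg]; exact pow_orderOf_eq_one g
    show g ^ a₀ * g ^ b₀ = g
    rw [← pow_add]
    have := pow_congr_mod hgN hsum
    rwa [pow_one] at this
  · rintro ⟨u, z⟩ hq
    simp only [Finset.coe_sigma, Set.mem_sigma_iff, Finset.mem_coe, Finset.mem_filter,
      Finset.mem_univ, true_and] at hq
    obtain ⟨hu, hcomm, hz⟩ := hq
    have hc : Commute u z := hcomm.symm
    have huB : u ^ B = 1 := by rw [← hu]; exact pow_orderOf_eq_one u
    have hzA : z ^ A = 1 := by rw [← hz]; exact pow_orderOf_eq_one z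
    have h1 : (u * z) ^ a₀ = u := by
      rw [hc.mul_pow, pow_eq_one_of_dvd' hzA hAa, mul_one]
      have := pow_congr_mod huB ha1
      rwa [pow_one] at this
    have h2 : (u * z) ^ b₀ = z := by
      rw [hc.mul_pow, pow_eq_one_of_dvd' huB hBb, one_mul]
      have := pow_congr_mod hzA hb1
      rwa [pow_one] at this
    show (⟨(u * z) ^ a₀, (u * z) ^ b₀⟩ : Σ _ : G, G) = ⟨u, z⟩
    rw [h1, h2]

/-- Let G be a finite group, p an odd prime dividing the order of G whose Sylow p-subgroups are not cyclic, and n = p^s·m with s > 1 and m coprime to p. Then the number of elements of G of order n is a multiple of p^s. -/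
theorem result {G : Type*} [Group G] [Finite G] (p : ℕ) [Fact p.Prime] (hodd : p ≠ 2) (hpG : p ∣ Nat.card G)
    (P : Sylow p G) (hP : ¬ IsCyclic ↥(P : Subgroup G)) (s m : ℕ) (hs : 1 < s) (hm : Nat.Coprime p m) :
    p ^ s ∣ Nat.card {g : G // orderOf g = p ^ s * m} := by
  classical
  have hpp : p.Prime := Fact.out
  haveI : Fintype G := Fintype.ofFinite G
  have hm0 : 0 < m := by
    rcases Nat.eq_zero_or_pos m with h | h
    · subst h
      rw [Nat.coprime_zero_right] at hm
      exact absurd hm hpp.one_lt.ne'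
    · exact h
  rw [Nat.card_eq_fintype_card, Fintype.card_subtype,
    card_orderOf_mul_eq_sum (p ^ s) m (pow_pos hpp.pos s) hm0 (Nat.Coprime.pow_left s hm)]
  exact pow_dvd_sum_w hodd P hP s hs m

end Cfsg.Agent.S4003
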