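import Cfsg.Statements.S4005
import Cfsg.Agent.Lib.Helper66.Orders123

set_option autoImplicit false
open Cfsg

namespace Cfsg.Agent.S4005

open Cfsg.Agent.Lib.Helper66.Orders123

/-- A finite group whose set of element orders is exactly {1, 2, 3} has either a normal elementary abelian 3-subgroup of index 2 or a normal elementary abelian 2-subgroup of index 3. -/
theorem result {G : Type*} [Group G] [Finite G] (h : Set.range (orderOf : G → ℕ) = {k : ℕ | 1 ≤ k ∧ k ≤ 3}) :
    (∃ N : Subgroup G, N.Normal ∧ Cfsg.IsElementaryAbelian 3 N ∧ N.index = 2) ∨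
      (∃ N : Subgroup G, N.Normal ∧ Cfsg.IsElementaryAbelian 2 N ∧ N.index = 3) := by
  have h2' : Fact (Nat.Prime 2) := ⟨Nat.prime_two⟩
  have hord : ∀ g : G, orderOf g = 1 ∨ orderOf g = 2 ∨ orderOf g = 3 := by
    intro g
    have : orderOf g ∈ Set.range (orderOf : G → ℕ) := ⟨g, rfl⟩
    rw [h] at this
    obtain ⟨h1, h2⟩ := this
    omega
  have hex2 : ∃ g : G, orderOf g = 2 := by
    have : (2 : ℕ) ∈ {k : ℕ | 1 ≤ k ∧ k ≤ 3} := ⟨by norm_num, by norm_num⟩
    rw [← h] at this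
    exact this
  have hex3 : ∃ g : G, orderOf g = 3 := by
    have : (3 : ℕ) ∈ {k : ℕ | 1 ≤ k ∧ k ≤ 3} := ⟨by norm_num, by norm_num⟩
    rw [← h] at this
    exact this
  let T : Sylow 2 G := default
  obtain ⟨k, hk⟩ := T.2.exists_card_eq
  have hk0 : k ≠ 0 := by
    rintro rfl
    rw [pow_zero] at hk
    obtain ⟨g, hg⟩ := hex2
    have hdvd : 2 ∣ Nat.card G := hg ▸ orderOf_dvd_natCard g
    exact T.ne_bot_of_dvd_card hdvd (Subgroup.card_eq_one.mp hk)
  by_cases hk1 : k = 1
  · left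
    rw [hk1, pow_one] at hk
    obtain ⟨N, hNn, hNe, hNi⟩ := caseA hord T hk
    exact ⟨N, hNn, hNe, hNi⟩
  · right
    have hT : 2 < Nat.card T := by
      rw [hk]
      have : 2 ^ 2 ≤ 2 ^ k := Nat.pow_le_pow_right (by norm_num) (by omega)
      omega
    have hsq := sq_eq_one_of_mem_sylow2 hord T
    have hcomm := comm_of_sq_eq_one (T : Subgroup G) hsq
    refine ⟨(T : Subgroup G), sylow2_normal hord T hT, ⟨⟨⟨fun a b => Subtype.ext (hcomm a b a.2 b.2)⟩⟩, ?_⟩,
      index_eq_three hord hex3 T hT⟩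
    intro a ha
    rw [pow_two]
    exact hsq a ha

end Cfsg.Agent.S4005
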