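import Mathlib
import Cfsg.Statements.S4006
import Cfsg.Agent.Lib.Helper66.FpfThree
import Cfsg.Agent.Lib.Helper66.OCGroup
import Cfsg.Agent.Lib.Helper3.Burnside
import Cfsg.Agent.S3995

set_option autoImplicit false
open Cfsg

namespace Cfsg.Agent.S4006

open Cfsg.Agent.Lib.Helper66.F3
open scoped commutatorElement

/-- every element has `g ^ 4 = 1` or `g ^ 3 = 1` -/
def P (G : Type*) [Group G] : Prop := ∀ g : G, g ^ 4 = 1 ∨ g ^ 3 = 1

section basics
variable {G : Type*} [Group G]

lemma eq_one_of_pow_three_four {g : G} (h3 : g ^ 3 = 1) (h4 : g ^ 4 = 1) : g = 1 := by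
  have : g ^ 4 = g ^ 3 * g := pow_succ g 3
  rw [h4, h3, one_mul] at this
  exact this.symm

lemma eq_one_of_pow_two_three {g : G} (h2 : g ^ 2 = 1) (h3 : g ^ 3 = 1) : g = 1 := by
  have : g ^ 3 = g ^ 2 * g := pow_succ g 2
  rw [h3, h2, one_mul] at this
  exact this.symm

lemma P.K1 (hP : P G) {a b : G} (hab : a * b = b * a) (ha : a ^ 3 = 1) (hb : b ^ 4 = 1) :
    a = 1 ∨ b = 1 := by
  have hc : Commute a b := hab
  rcases hP (a * b) with h | h
  · left
    rw [hc.mul_pow, hb, mul_one] at h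
    exact eq_one_of_pow_three_four ha h
  · right
    rw [hc.mul_pow, ha, one_mul] at h
    exact eq_one_of_pow_three_four h hb

lemma P.quotient (hP : P G) (N : Subgroup G) [N.Normal] : P (G ⧸ N) := by
  intro g
  obtain ⟨g, rfl⟩ := QuotientGroup.mk_surjective g
  rcases hP g with h | h
  · left; rw [← QuotientGroup.mk_pow, h]; rfl
  · right; rw [← QuotientGroup.mk_pow, h]; rfl

/-- a fixed-point-free involutory automorphism inverts -/
lemma inverts_of_fpf_involution {B : Type*} [Group B] [Finite B] (φ : MulAut B)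
    (hfpf : ∀ b, φ b = b → b = 1) (h2 : ∀ b, φ (φ b) = b) : ∀ b, φ b = b⁻¹ := by
  have hinj : Function.Injective (fun b : B => b⁻¹ * φ b) := by
    intro b c hbc
    simp only at hbc
    have h1 : φ (c * b⁻¹) = c * b⁻¹ := by
      rw [map_mul, map_inv]
      have : φ c = c * (b⁻¹ * φ b) := by rw [hbc]; group
      rw [this]; group
    have := hfpf _ h1
    exact (mul_inv_eq_one.mp this).symm
  have hsurj := Finite.injective_iff_surjective.mp hinj
  intro b
  obtain ⟨a, rfl⟩ := hsurj b
  simp only [map_mul, map_inv, h2, mul_inv_rev, inv_inv]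

end basics

section maxnormal
variable {G : Type*} [Group G] [Finite G]

/-- there is a largest normal `p`-subgroup -/
lemma exists_max_normal (p : ℕ) [Fact p.Prime] : ∃ A : Subgroup G, A.Normal ∧ IsPGroup p A ∧
    ∀ A' : Subgroup G, A'.Normal → IsPGroup p A' → A' ≤ A := by
  obtain ⟨Q⟩ : Nonempty (Sylow p G) := inferInstance
  refine ⟨(Q : Subgroup G).normalCore, Subgroup.normalCore_normal _,
    Q.2.to_le (Subgroup.normalCore_le _), ?_⟩
  intro A' hA'n hA'p
  rw [Subgroup.normal_le_normalCore]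
  obtain ⟨Q', hQ'⟩ := hA'p.exists_le_sylow
  obtain ⟨g, hg⟩ := MulAction.exists_smul_eq G Q' Q
  intro a ha
  have h1 : g⁻¹ * a * g⁻¹⁻¹ ∈ A' := hA'n.conj_mem a ha g⁻¹
  have h2 : g⁻¹ * a * g⁻¹⁻¹ ∈ (Q' : Subgroup G) := hQ' h1
  rw [← hg]
  rw [Sylow.smul_def, Sylow.pointwise_smul_def] at *
  rw [Subgroup.mem_pointwise_smul_iff_inv_smul_mem]
  simpa [MulAut.smul_def] using h2

end maxnormal

section solv
variable {G : Type*} [Group G] [Finite G]

lemma exists_abelian_normal (hP : P G) [hs : Group.IsSolvable G] [Nontrivial G] :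
    ∃ V : Subgroup G, V.Normal ∧ V ≠ ⊥ ∧ (∀ a ∈ V, ∀ b ∈ V, a * b = b * a) ∧
      ((∀ v ∈ V, v ^ 3 = 1) ∨ (∀ v ∈ V, v ^ 4 = 1)) := by
  classical
  have hex : ∃ n, derivedSeries G n = ⊥ := hs.solvable
  have hn0 : Nat.find hex ≠ 0 := by
    intro h0
    have := Nat.find_spec hex
    rw [h0, derivedSeries_zero] at this
    exact top_ne_bot this
  obtain ⟨m, hm⟩ := Nat.exists_eq_succ_of_ne_zero hn0
  have hD0 : derivedSeries G m ≠ ⊥ := by
    intro h
    have := Nat.find_min' hex h
    omega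
  have hD1 : ⁅derivedSeries G m, derivedSeries G m⁆ = ⊥ := by
    have := Nat.find_spec hex
    rw [hm, Nat.succ_eq_add_one, derivedSeries_succ] at this
    exact this
  have hcomm : ∀ a ∈ derivedSeries G m, ∀ b ∈ derivedSeries G m, a * b = b * a := by
    intro a ha b hb
    rw [Subgroup.commutator_eq_bot_iff_le_centralizer] at hD1
    exact (Subgroup.mem_centralizer_iff.mp (hD1 ha) b hb).symm
  have hDn : (derivedSeries G m).Normal := inferInstance
  let D2 : Subgroup G :=
    { carrier := {d | d ∈ derivedSeries G m ∧ d ^ 4 = 1}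
      one_mem' := ⟨Subgroup.one_mem _, one_pow 4⟩
      mul_mem' := by
        rintro a b ⟨ha, ha4⟩ ⟨hb, hb4⟩
        refine ⟨Subgroup.mul_mem _ ha hb, ?_⟩
        have hc : Commute a b := hcomm a ha b hb
        rw [hc.mul_pow, ha4, hb4, one_mul]
      inv_mem' := by
        rintro a ⟨ha, ha4⟩
        exact ⟨Subgroup.inv_mem _ ha, by rw [inv_pow, ha4, inv_one]⟩ }
  have hD2n : D2.Normal := by
    constructor
    rintro d ⟨hd, hd4⟩ g
    refine ⟨hDn.conj_mem d hd g, ?_⟩
    rw [conj_pow, hd4]; group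
  by_cases hD2 : D2 = ⊥
  · refine ⟨derivedSeries G m, hDn, hD0, hcomm, Or.inl ?_⟩
    intro v hv
    rcases hP v with h | h
    · have : v ∈ D2 := ⟨hv, h⟩
      rw [hD2, Subgroup.mem_bot] at this
      rw [this, one_pow]
    · exact h
  · refine ⟨D2, hD2n, hD2, ?_, Or.inr ?_⟩
    · rintro a ⟨ha, -⟩ b ⟨hb, -⟩
      exact hcomm a ha b hb
    · rintro v ⟨-, hv⟩
      exact hv

end solv

section case3
variable {G : Type*} [Group G] [Finite G]

lemma orderOf_two_of {t : G} (h2 : t ^ 2 = 1) (h1 : t ≠ 1) : orderOf t = 2 :=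
  orderOf_eq_prime h2 h1

/-- the case `O_3(G) ≠ 1` -/
lemma case_three (hP : P G) (A : Subgroup G) (hAn : A.Normal) (hA3 : IsPGroup 3 A)
    (hAmax : ∀ A' : Subgroup G, A'.Normal → IsPGroup 3 A' → A' ≤ A) (hAne : A ≠ ⊥)
    (x4 : G) (hx4 : orderOf x4 = 4) :
    Cfsg.IsElementaryAbelian 3 A ∧
      ((IsCyclic (G ⧸ A) ∧ A.index = 4) ∨ Nonempty (G ⧸ A ≃* QuaternionGroup 2)) := by
  classical
  -- 1. exponent three
  have hA3' : ∀ a ∈ A, a ^ 3 = 1 := by
    intro a ha
    rcases hP a with h | h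
    · obtain ⟨k, hk⟩ := hA3 ⟨a, ha⟩
      have hk' : a ^ 3 ^ k = 1 := by
        have := congrArg Subtype.val hk
        simpa using this
      have h1 : orderOf a ∣ Nat.gcd 4 (3 ^ k) :=
        Nat.dvd_gcd (orderOf_dvd_of_pow_eq_one h) (orderOf_dvd_of_pow_eq_one hk')
      have h2 : Nat.gcd 4 (3 ^ k) = 1 := by
        have : Nat.Coprime 4 (3 ^ k) := Nat.Coprime.pow_right k (by norm_num)
        exact this
      rw [h2, Nat.dvd_one, orderOf_eq_one_iff] at h1
      rw [h1, one_pow]
    · exact h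
  -- 2. a nontrivial element
  obtain ⟨a0, ha0, ha01⟩ : ∃ a0 ∈ A, a0 ≠ 1 := by
    by_contra hcon
    apply hAne
    rw [eq_bot_iff]
    intro a ha
    by_contra h1
    exact hcon ⟨a, ha, h1⟩
  -- 3. the centralizer is inside A
  have hCn : (Subgroup.centralizer (A : Set G)).Normal := Subgroup.normal_centralizer
  have hC3 : ∀ g ∈ Subgroup.centralizer (A : Set G), g ^ 3 = 1 := by
    intro g hg
    rcases hP g with h | h
    · have hcomm : a0 * g = g * a0 := Subgroup.mem_centralizer_iff.mp hg a0 ha0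
      rcases hP.K1 hcomm (hA3' a0 ha0) h with h1 | h1
      · exact absurd h1 ha01
      · rw [h1, one_pow]
    · exact h
  have hC : Subgroup.centralizer (A : Set G) ≤ A := by
    apply hAmax _ hCn
    intro g
    refine ⟨1, ?_⟩
    apply Subtype.ext
    rw [pow_one, Subgroup.coe_pow, Subgroup.coe_one]
    exact hC3 g g.2
  -- 4. involutions invert A
  have hinv : ∀ t : G, t ^ 2 = 1 → t ≠ 1 → ∀ a ∈ A, t * a * t⁻¹ = a⁻¹ := by
    intro t ht2 ht1 a ha
    have hfin : Finite A := inferInstance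
    have key := inverts_of_fpf_involution (MulAut.conjNormal t : MulAut A) ?_ ?_ ⟨a, ha⟩
    · have := congrArg Subtype.val key
      simpa [MulAut.conjNormal_apply] using this
    · intro b hb
      have hb' : t * (b : G) * t⁻¹ = b := by
        have := congrArg Subtype.val hb
        simpa [MulAut.conjNormal_apply] using this
      have hcomm : (b : G) * t = t * b := by
        have e : t * (b : G) = (t * b * t⁻¹) * t := by group
        rw [e, hb']
      have ht4 : t ^ 4 = 1 := by
        have : t ^ 4 = (t ^ 2) ^ 2 := by rw [← pow_mul]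
        rw [this, ht2, one_pow]
      rcases hP.K1 hcomm (hA3' b b.2) ht4 with h1 | h1
      · exact Subtype.ext h1
      · exact absurd h1 ht1
    · intro b
      apply Subtype.ext
      simp only [MulAut.conjNormal_apply]
      have e : t * (t * (b : G) * t⁻¹) * t⁻¹ = t ^ 2 * b * (t ^ 2)⁻¹ := by rw [pow_two]; group
      rw [e, ht2]; group
  -- 5. products of two involutions lie in A
  have hprod : ∀ s t : G, s ^ 2 = 1 → s ≠ 1 → t ^ 2 = 1 → t ≠ 1 → s * t ∈ A := by
    intro s t hs2 hs1 ht2 ht1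
    apply hC
    rw [Subgroup.mem_centralizer_iff]
    intro a ha
    have h1 := hinv t ht2 ht1 a ha
    have h2 := hinv s hs2 hs1 a⁻¹ (A.inv_mem ha)
    rw [inv_inv] at h2
    have e : s * t * a = (s * (t * a * t⁻¹) * s⁻¹) * (s * t) := by group
    rw [e, h1, h2]
  -- the involution t
  set t := x4 ^ 2 with ht
  have ht2 : t ^ 2 = 1 := by
    rw [ht, ← pow_mul]
    have : x4 ^ (2 * 2) = x4 ^ orderOf x4 := by rw [hx4]
    rw [this]; exact pow_orderOf_eq_one x4
  have ht1 : t ≠ 1 := by
    intro h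
    have := orderOf_dvd_of_pow_eq_one h
    rw [hx4] at this
    norm_num at this
  have htA : t ∉ A := by
    intro h
    exact ht1 (eq_one_of_pow_two_three ht2 (hA3' t h))
  -- the quotient
  have hPq : P (G ⧸ A) := hP.quotient A
  have hz1 : (QuotientGroup.mk t : G ⧸ A) ≠ 1 := by
    intro h
    exact htA ((QuotientGroup.eq_one_iff t).mp h)
  have hz2 : (QuotientGroup.mk t : G ⧸ A) ^ 2 = 1 := by
    rw [← QuotientGroup.mk_pow, ht2]; rfl
  have hzinv : (QuotientGroup.mk t : G ⧸ A)⁻¹ = QuotientGroup.mk t := by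
    rw [inv_eq_iff_eq_inv, eq_inv_iff_mul_eq_one, ← pow_two]; exact hz2
  -- every involution of G maps to z
  have hinvmap : ∀ s : G, s ^ 2 = 1 → s ≠ 1 → (QuotientGroup.mk s : G ⧸ A) = QuotientGroup.mk t := by
    intro s hs2 hs1
    have h1 := hprod s t hs2 hs1 ht2 ht1
    have h2 : (QuotientGroup.mk (s * t) : G ⧸ A) = 1 := (QuotientGroup.eq_one_iff _).mpr h1
    rw [QuotientGroup.mk_mul] at h2
    rw [← hzinv]
    exact eq_inv_of_mul_eq_one_left h2
  -- z is central
  have hzc : ∀ g : G ⧸ A, g * QuotientGroup.mk t = QuotientGroup.mk t * g := by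
    intro g
    obtain ⟨g, rfl⟩ := QuotientGroup.mk_surjective g
    have h1 : (g * t * g⁻¹) ^ 2 = 1 := by rw [conj_pow, ht2]; group
    have h2 : g * t * g⁻¹ ≠ 1 := by
      intro h
      apply ht1
      have : t = g⁻¹ * (g * t * g⁻¹) * g := by group
      rw [this, h]; group
    have h3 := hinvmap _ h1 h2
    rw [QuotientGroup.mk_mul, QuotientGroup.mk_mul, QuotientGroup.mk_inv] at h3
    calc (QuotientGroup.mk g : G ⧸ A) * QuotientGroup.mk t
        = ((QuotientGroup.mk g : G ⧸ A) * QuotientGroup.mk t * (QuotientGroup.mk g)⁻¹) *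
            QuotientGroup.mk g := by group
      _ = QuotientGroup.mk t * QuotientGroup.mk g := by rw [h3]
  -- the quotient is a 2-group
  have hq4 : ∀ g : G ⧸ A, g ^ 4 = 1 := by
    intro g
    rcases hPq g with h | h
    · exact h
    · have hz4 : (QuotientGroup.mk t : G ⧸ A) ^ 4 = 1 := by
        have : (QuotientGroup.mk t : G ⧸ A) ^ 4 = ((QuotientGroup.mk t : G ⧸ A) ^ 2) ^ 2 := by
          rw [← pow_mul]
        rw [this, hz2, one_pow]
      rcases hPq.K1 (hzc g) h hz4 with h1 | h1
      · rw [h1, one_pow]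
      · exact absurd h1 hz1
  have hord : ∀ g : G ⧸ A, orderOf g = 1 ∨ orderOf g = 2 ∨ orderOf g = 4 := by
    intro g
    have h1 : orderOf g ∣ 2 ^ 2 := orderOf_dvd_of_pow_eq_one (hq4 g)
    obtain ⟨j, hj, hj2⟩ := (Nat.dvd_prime_pow Nat.prime_two).1 h1
    interval_cases j
    · left; simpa using hj2
    · right; left; simpa using hj2
    · right; right; simpa using hj2
  have huniq : ∀ a b : G ⧸ A, orderOf a = 2 → orderOf b = 2 → a = b := by
    have key : ∀ u : G ⧸ A, orderOf u = 2 → u = QuotientGroup.mk t := by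
      intro u hu
      obtain ⟨u, rfl⟩ := QuotientGroup.mk_surjective u
      have hu2 : (QuotientGroup.mk u : G ⧸ A) ^ 2 = 1 := by rw [← hu]; exact pow_orderOf_eq_one _
      have hu1 : (QuotientGroup.mk u : G ⧸ A) ≠ 1 := by
        intro h
        rw [h, orderOf_one] at hu
        norm_num at hu
      have hu4 : u ^ 4 = 1 := by
        rcases hP u with h | h
        · exact h
        · exfalso
          apply hu1
          have h3 : (QuotientGroup.mk u : G ⧸ A) ^ 3 = 1 := by
            rw [← QuotientGroup.mk_pow, h]; rfl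
          exact eq_one_of_pow_two_three hu2 h3
      have huA : u ^ 2 ∈ A := by
        rw [← QuotientGroup.eq_one_iff, QuotientGroup.mk_pow]; exact hu2
      have hu22 : u ^ 2 = 1 := by
        apply eq_one_of_pow_two_three _ (hA3' _ huA)
        rw [← pow_mul]; exact hu4
      have hu1' : u ≠ 1 := by
        intro h
        apply hu1
        rw [h]; rfl
      exact hinvmap u hu22 hu1'
    intro a b ha hb
    rw [key a ha, key b hb]
  -- element of order 4
  have hx4q : orderOf (QuotientGroup.mk x4 : G ⧸ A) = 4 := by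
    have h1 : ¬ (QuotientGroup.mk x4 : G ⧸ A) ^ 2 ^ 1 = 1 := by
      rw [pow_one, ← QuotientGroup.mk_pow]
      exact hz1
    have h2 : (QuotientGroup.mk x4 : G ⧸ A) ^ 2 ^ (1 + 1) = 1 := hq4 _
    have := orderOf_eq_prime_pow h1 h2
    simpa using this
  refine ⟨⟨⟨⟨?_⟩⟩, hA3'⟩, ?_⟩
  · -- commutative
    rintro ⟨a, ha⟩ ⟨b, hb⟩
    apply Subtype.ext
    change a * b = b * a
    have h1 := hinv t ht2 ht1 (a * b) (A.mul_mem ha hb)
    have h2 := hinv t ht2 ht1 a ha
    have h3 := hinv t ht2 ht1 b hb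
    have e : t * (a * b) * t⁻¹ = (t * a * t⁻¹) * (t * b * t⁻¹) := by group
    rw [e, h2, h3, mul_inv_rev] at h1
    have := congrArg (·⁻¹) h1
    simp only [mul_inv_rev, inv_inv] at this
    exact this.symm
  · rcases Cfsg.Agent.S3995.quat_or_cyclic hord huniq _ hx4q with hq | ⟨hcyc, hcard⟩
    · right; exact hq
    · left
      refine ⟨hcyc, ?_⟩
      rw [Subgroup.index_eq_card]; exact hcard

end case3

section nine

/-- abstract computation in a commutative group with two commuting operators -/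
lemma cube_eq_one {V : Type*} [CommGroup V] (X Y : V →* V) (hXY : ∀ w, X (Y w) = Y (X w))
    (hX3 : ∀ w, X (X (X w)) = w) (h1 : ∀ w, w * Y w * Y (Y w) = 1)
    (h2 : ∀ w, w * X w * X (X w) = 1) (h3 : ∀ w, w * X (Y w) * X (Y (X (Y w))) = 1)
    (h4 : ∀ w, w * X (X (Y w)) * X (X (Y (X (X (Y w))))) = 1) (v : V) : v ^ 3 = 1 := by
  have a1 := h1 v
  have a3 := h3 v
  have a4 := h4 v
  have b1 := h2 (Y v)
  have b2 := h2 (Y (Y v))
  have e3 : X (Y (X (Y v))) = X (X (Y (Y v))) := by rw [hXY (Y v)]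
  have e4 : X (X (Y (X (X (Y v))))) = X (Y (Y v)) := by
    rw [← hXY (X (Y v)), ← hXY (Y v), hX3]
  rw [e3] at a3
  rw [e4] at a4
  calc v ^ 3 = v ^ 3 * (Y v * X (Y v) * X (X (Y v))) * (Y (Y v) * X (Y (Y v)) * X (X (Y (Y v)))) := by
        rw [b1, b2, mul_one, mul_one]
    _ = (v * Y v * Y (Y v)) * (v * X (Y v) * X (X (Y (Y v)))) *
          (v * X (X (Y v)) * X (Y (Y v))) := by
        rw [pow_succ, pow_two]; ac_rfl
    _ = 1 := by rw [a1, a3, a4, one_mul, one_mul]

variable {G : Type*} [Group G] [Finite G]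

/-- the norm of `v` under a fixed-point-free element of order three vanishes -/
lemma norm_eq_one (hP : P G) (V : Subgroup G) (hVn : V.Normal)
    (hVc : ∀ a ∈ V, ∀ b ∈ V, a * b = b * a) (hV4 : ∀ v ∈ V, v ^ 4 = 1)
    (u : G) (hu3 : u ^ 3 = 1) (hu1 : u ≠ 1) (v : G) (hv : v ∈ V) :
    v * (u * v * u⁻¹) * (u * (u * v * u⁻¹) * u⁻¹) = 1 := by
  set w := v * (u * v * u⁻¹) * (u * (u * v * u⁻¹) * u⁻¹) with hw
  have h1 : u * v * u⁻¹ ∈ V := hVn.conj_mem v hv u
  have h2 : u * (u * v * u⁻¹) * u⁻¹ ∈ V := hVn.conj_mem _ h1 u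
  have hwV : w ∈ V := V.mul_mem (V.mul_mem hv h1) h2
  have hconj : u * w * u⁻¹ = w := by
    have e : u * w * u⁻¹ = (u * v * u⁻¹) * (u * (u * v * u⁻¹) * u⁻¹) * (u ^ 3 * v * (u ^ 3)⁻¹) := by
      rw [hw, pow_succ, pow_two]; group
    rw [e, hu3, one_mul, inv_one, mul_one, hw]
    have c1 := hVc _ h1 _ h2
    have c2 := hVc _ hv _ h1
    have c3 := hVc _ hv _ h2
    generalize u * v * u⁻¹ = p at *
    generalize u * p * u⁻¹ = q at *
    calc p * q * v = p * (q * v) := by group
      _ = p * (v * q) := by rw [c3]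
      _ = (p * v) * q := by group
      _ = (v * p) * q := by rw [c2]
  have hcomm : u * w = w * u := by
    have e : u * w = (u * w * u⁻¹) * u := by group
    rw [e, hconj]
  rcases hP.K1 hcomm hu3 (hV4 w hwV) with h | h
  · exact absurd h hu1
  · exact h

lemma nine_not_dvd (hP : P G) (V : Subgroup G) (hVn : V.Normal) (hVne : V ≠ ⊥)
    (hVc : ∀ a ∈ V, ∀ b ∈ V, a * b = b * a) (hV4 : ∀ v ∈ V, v ^ 4 = 1) :
    ¬ 9 ∣ Nat.card G := by
  classical
  intro h9
  have : Fact (Nat.Prime 3) := ⟨Nat.prime_three⟩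
  obtain ⟨Y, hY⟩ := Sylow.exists_subgroup_card_pow_prime 3 (show 3 ^ 2 ∣ Nat.card G from h9)
  have hY3 : ∀ y ∈ Y, y ^ 3 = 1 := by
    intro y hy
    rcases hP y with h | h
    · have h1 : orderOf y ∣ 4 := orderOf_dvd_of_pow_eq_one h
      have h2 : orderOf y ∣ 3 ^ 2 := by
        rw [← hY]
        have := orderOf_dvd_natCard (⟨y, hy⟩ : Y)
        rwa [← Subgroup.orderOf_coe] at this
      have h3 : orderOf y ∣ Nat.gcd 4 (3 ^ 2) := Nat.dvd_gcd h1 h2
      have h4 : Nat.gcd 4 (3 ^ 2) = 1 := by norm_num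
      rw [h4, Nat.dvd_one, orderOf_eq_one_iff] at h3
      rw [h3, one_pow]
    · exact h
  have hYcomm : ∀ a ∈ Y, ∀ b ∈ Y, a * b = b * a := by
    have := IsPGroup.isMulCommutative_of_card_eq_prime_sq (G := Y) (p := 3) hY
    intro a ha b hb
    have h := (IsMulCommutative.is_comm (M := Y)).comm ⟨a, ha⟩ ⟨b, hb⟩
    exact congrArg Subtype.val h
  -- x ≠ 1 in Y
  obtain ⟨x, hxY, hx1⟩ : ∃ x ∈ Y, x ≠ 1 := by
    by_contra hcon
    have : Y = ⊥ := by
      rw [eq_bot_iff]; intro a ha
      by_contra h1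
      exact hcon ⟨a, ha, h1⟩
    rw [this, Subgroup.card_bot] at hY
    norm_num at hY
  have hx3 := hY3 x hxY
  -- y ∈ Y outside zpowers x
  obtain ⟨y, hyY, hyx⟩ : ∃ y ∈ Y, y ∉ Subgroup.zpowers x := by
    by_contra hcon
    have hle : Y ≤ Subgroup.zpowers x := by
      intro a ha
      by_contra h1
      exact hcon ⟨a, ha, h1⟩
    have h1 := Subgroup.card_le_of_le hle
    rw [hY, Nat.card_zpowers] at h1
    have h2 : orderOf x ≤ 3 := orderOf_le_of_pow_eq_one (by norm_num) hx3
    omega
  have hy3 := hY3 y hyY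
  have hxy : x * y = y * x := hYcomm x hxY y hyY
  have hy1 : y ≠ 1 := by
    intro h; apply hyx; rw [h]; exact Subgroup.one_mem _
  have hxy1 : x * y ≠ 1 := by
    intro h
    apply hyx
    have : y = x⁻¹ := eq_inv_of_mul_eq_one_right h
    rw [this]; exact Subgroup.inv_mem _ (Subgroup.mem_zpowers x)
  have hxxy1 : x * x * y ≠ 1 := by
    intro h
    apply hyx
    have : y = (x * x)⁻¹ := eq_inv_of_mul_eq_one_right h
    rw [this]
    exact Subgroup.inv_mem _ (Subgroup.mul_mem _ (Subgroup.mem_zpowers x) (Subgroup.mem_zpowers x))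
  have hxy3 : (x * y) ^ 3 = 1 := by
    have hc : Commute x y := hxy
    rw [hc.mul_pow, hx3, hy3, one_mul]
  have hxxy3 : (x * x * y) ^ 3 = 1 := by
    have hc : Commute (x * x) y := (Commute.mul_left hxy hxy)
    rw [hc.mul_pow, hy3, mul_one, ← pow_two, ← pow_mul]
    have : x ^ (2 * 3) = (x ^ 3) ^ 2 := by rw [← pow_mul]
    rw [this, hx3, one_pow]
  -- commutative group structure on V
  let _ : CommGroup V :=
    { (inferInstance : Group V) with
      mul_comm := fun a b => Subtype.ext (hVc a a.2 b b.2) }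
  let X : V →* V := (MulAut.conjNormal x : MulAut V).toMonoidHom
  let Yh : V →* V := (MulAut.conjNormal y : MulAut V).toMonoidHom
  have hXapp : ∀ w : V, ((X w : V) : G) = x * w * x⁻¹ := fun w => by
    simp [X, MulAut.conjNormal_apply]
  have hYapp : ∀ w : V, ((Yh w : V) : G) = y * w * y⁻¹ := fun w => by
    simp [Yh, MulAut.conjNormal_apply]
  have key : ∀ v : V, v ^ 3 = 1 := by
    apply cube_eq_one X Yh
    · intro w
      apply Subtype.ext
      rw [hXapp, hYapp, hYapp, hXapp]
      have e1 : x * (y * (w : G) * y⁻¹) * x⁻¹ = (x * y) * w * (x * y)⁻¹ := by group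
      have e2 : y * (x * (w : G) * x⁻¹) * y⁻¹ = (y * x) * w * (y * x)⁻¹ := by group
      rw [e1, e2, hxy]
    · intro w
      apply Subtype.ext
      rw [hXapp, hXapp, hXapp]
      have e1 : x * (x * (x * (w : G) * x⁻¹) * x⁻¹) * x⁻¹ = x ^ 3 * w * (x ^ 3)⁻¹ := by
        rw [pow_succ, pow_two]; group
      rw [e1, hx3]; group
    · intro w
      apply Subtype.ext
      simp only [Subgroup.coe_mul, Subgroup.coe_one, hYapp]
      exact norm_eq_one hP V hVn hVc hV4 y hy3 hy1 w w.2
    · intro w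
      apply Subtype.ext
      simp only [Subgroup.coe_mul, Subgroup.coe_one, hXapp]
      exact norm_eq_one hP V hVn hVc hV4 x hx3 hx1 w w.2
    · intro w
      apply Subtype.ext
      simp only [Subgroup.coe_mul, Subgroup.coe_one, hXapp, hYapp]
      have := norm_eq_one hP V hVn hVc hV4 (x * y) hxy3 hxy1 w w.2
      rw [← this]; group
    · intro w
      apply Subtype.ext
      simp only [Subgroup.coe_mul, Subgroup.coe_one, hXapp, hYapp]
      have := norm_eq_one hP V hVn hVc hV4 (x * x * y) hxxy3 hxxy1 w w.2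
      rw [← this]; group
  apply hVne
  rw [eq_bot_iff]
  intro v hv
  have h3 : v ^ 3 = 1 := by
    have := congrArg Subtype.val (key ⟨v, hv⟩)
    simpa using this
  rw [Subgroup.mem_bot]
  exact eq_one_of_pow_three_four h3 (hV4 v hv)

end nine

section quot
open Cfsg.Agent.Lib.Helper66.OC

lemma quot_struct {Q : Type*} [Group Q] [Finite Q] (hP : P Q) [Group.IsSolvable Q] [Nontrivial Q]
    (h9 : ¬ 9 ∣ Nat.card Q)
    (hno2 : ∀ D : Subgroup Q, D.Normal → (∀ d ∈ D, d ^ 4 = 1) → D = ⊥) :
    ∃ y : Q, y ≠ 1 ∧ y ^ 3 = 1 ∧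
      (Nat.card Q = 3 ∨ (Nat.card Q = 6 ∧ ∃ g : Q, g * y * g⁻¹ = y⁻¹)) := by
  classical
  have : Fact (Nat.Prime 3) := ⟨Nat.prime_three⟩
  obtain ⟨D, hDn, hDne, hDc, hD⟩ := exists_abelian_normal hP
  rcases hD with hD3 | hD4
  swap
  · exact absurd (hno2 D hDn hD4) hDne
  -- card of a subgroup of exponent 3 is 3 when nontrivial
  have hcard3 : ∀ H : Subgroup Q, (∀ c ∈ H, c ^ 3 = 1) → H ≠ ⊥ → Nat.card H = 3 := by
    intro H hH3 hHne
    have hp : IsPGroup 3 H := by
      intro c
      refine ⟨1, ?_⟩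
      apply Subtype.ext
      rw [pow_one, Subgroup.coe_pow, Subgroup.coe_one]
      exact hH3 c c.2
    obtain ⟨k, hk⟩ := IsPGroup.iff_card.1 hp
    have hdvd : Nat.card H ∣ Nat.card Q := Subgroup.card_subgroup_dvd_card H
    rcases k with _ | _ | k
    · exfalso
      apply hHne
      rw [pow_zero] at hk
      exact Subgroup.card_eq_one.mp hk
    · simpa using hk
    · exfalso
      apply h9
      refine dvd_trans ?_ hdvd
      rw [hk]
      exact Dvd.intro (3 ^ k) (by ring)
  have hDcard := hcard3 D hD3 hDne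
  obtain ⟨y, hyD, hy1⟩ : ∃ y ∈ D, y ≠ 1 := by
    by_contra hcon
    apply hDne
    rw [eq_bot_iff]; intro a ha
    by_contra h1
    exact hcon ⟨a, ha, h1⟩
  have hy3 := hD3 y hyD
  have hyinv1 : y⁻¹ ≠ 1 := by simpa using hy1
  have hyinv : y ≠ y⁻¹ := by
    intro h
    apply hy1
    have h2 : y ^ 2 = 1 := by
      rw [pow_two]
      nth_rewrite 2 [h]
      exact mul_inv_cancel y
    exact eq_one_of_pow_two_three h2 hy3
  -- D = {1, y, y⁻¹}
  have hDset : (D : Set Q) = {1, y, y⁻¹} := by
    symm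
    apply Set.eq_of_subset_of_ncard_le
    · intro a ha
      rcases ha with rfl | rfl | rfl
      · exact D.one_mem
      · exact hyD
      · exact D.inv_mem hyD
    · have h1 : (D : Set Q).ncard = 3 := by
        rw [← hDcard]; rfl
      rw [h1]
      rw [Set.ncard_insert_of_notMem, Set.ncard_pair hyinv]
      simp only [Set.mem_insert_iff, Set.mem_singleton_iff, not_or]
      exact ⟨fun h => hy1 h.symm, fun h => hyinv1 h.symm⟩
    · exact Set.toFinite _
  -- the centralizer
  have hC3 : ∀ c ∈ Subgroup.centralizer ({y} : Set Q), c ^ 3 = 1 := by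
    intro c hc
    rcases hP c with h | h
    · have hcomm : y * c = c * y := Subgroup.mem_centralizer_iff.mp hc y rfl
      rcases hP.K1 hcomm hy3 h with h1 | h1
      · exact absurd h1 hy1
      · rw [h1, one_pow]
    · exact h
  have hCne : Subgroup.centralizer ({y} : Set Q) ≠ ⊥ := by
    intro h
    have : y ∈ Subgroup.centralizer ({y} : Set Q) := by
      rw [Subgroup.mem_centralizer_iff]; rintro _ rfl; rfl
    rw [h, Subgroup.mem_bot] at this
    exact hy1 this
  have hCcard := hcard3 _ hC3 hCne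
  -- the class
  have hcls : {w : Q | IsConj y w} ⊆ {y, y⁻¹} := by
    intro w hw
    rw [Set.mem_setOf_eq, isConj_iff] at hw
    obtain ⟨g, rfl⟩ := hw
    have h1 : g * y * g⁻¹ ∈ (D : Set Q) := hDn.conj_mem y hyD g
    rw [hDset] at h1
    rcases h1 with h | h | h
    · exfalso
      apply hy1
      have : y = g⁻¹ * (g * y * g⁻¹) * g := by group
      rw [this, h]; group
    · left; exact h
    · right; exact h
  have hidx := index_centralizer_eq y
  have hm2 : Set.ncard {w : Q | IsConj y w} ≤ 2 := by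
    calc Set.ncard {w : Q | IsConj y w} ≤ Set.ncard ({y, y⁻¹} : Set Q) :=
          Set.ncard_le_ncard hcls (Set.toFinite _)
      _ = 2 := Set.ncard_pair hyinv
  have hm1 : 1 ≤ Set.ncard {w : Q | IsConj y w} := by
    rw [Nat.one_le_iff_ne_zero, Ne, Set.ncard_eq_zero (Set.toFinite _)]
    intro h
    have : y ∈ {w : Q | IsConj y w} := IsConj.refl y
    rw [h] at this
    exact this
  have hcardQ : Nat.card Q = Set.ncard {w : Q | IsConj y w} * 3 := by
    rw [← hidx, ← hCcard, Subgroup.index_mul_card]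
  refine ⟨y, hy1, hy3, ?_⟩
  have hcases : Set.ncard {w : Q | IsConj y w} = 1 ∨ Set.ncard {w : Q | IsConj y w} = 2 := by omega
  rcases hcases with h | h
  · left; rw [hcardQ, h]
  · right
    refine ⟨by rw [hcardQ, h], ?_⟩
    obtain ⟨w, hw, hwy⟩ := Set.exists_ne_of_one_lt_ncard (by rw [h]; norm_num) y
    have hw' := hcls hw
    rcases hw' with h1 | h1
    · exact absurd h1 hwy
    · rw [Set.mem_setOf_eq, isConj_iff] at hw
      obtain ⟨g, hg⟩ := hw
      exact ⟨g, by rw [hg]; exact h1⟩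

end quot

section case2
open Cfsg.Agent.Lib.Helper66.OC
variable {G : Type*} [Group G] [Finite G]

/-- the conjugation action of an element of order three on a normal `2`-subgroup -/
lemma fpf3_conj (hP : P G) (B : Subgroup G) [hBn : B.Normal] (hB4 : ∀ b ∈ B, b ^ 4 = 1)
    (y : G) (hy3 : y ^ 3 = 1) (hy1 : y ≠ 1) : FPF3 (MulAut.conjNormal y : MulAut B) where
  fpf := by
    intro b hb
    have hb' : y * (b : G) * y⁻¹ = b := by
      have := congrArg Subtype.val hb
      simpa [MulAut.conjNormal_apply] using this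
    have hcomm : y * (b : G) = b * y := by
      have e : y * (b : G) = (y * b * y⁻¹) * y := by group
      rw [e, hb']
    rcases hP.K1 hcomm hy3 (hB4 b b.2) with h | h
    · exact absurd h hy1
    · exact Subtype.ext h
  cube := by
    intro b
    apply Subtype.ext
    simp only [MulAut.conjNormal_apply]
    have e : y * (y * (y * (b : G) * y⁻¹) * y⁻¹) * y⁻¹ = y ^ 3 * b * (y ^ 3)⁻¹ := by
      rw [pow_succ, pow_two]; group
    rw [e, hy3]; group

lemma case_two (hP : P G) [hs : Group.IsSolvable G]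
    (hno3 : ∀ A : Subgroup G, A.Normal → IsPGroup 3 A → A = ⊥)
    (x3 : G) (hx3 : orderOf x3 = 3) (x4 : G) (hx4 : orderOf x4 = 4) :
    ∃ (N : Subgroup G) (_ : N.Normal),
      (IsPGroup 2 ↥N ∧ Monoid.exponent ↥N = 4 ∧ Group.nilpotencyClass ↥N ≤ 2 ∧ N.index = 3) ∨
      (Cfsg.IsElementaryAbelian 2 N ∧ Nonempty (G ⧸ N ≃* Equiv.Perm (Fin 3))) := by
  classical
  have : Fact (Nat.Prime 2) := ⟨Nat.prime_two⟩
  have hx31 : x3 ≠ 1 := by
    intro h; rw [h, orderOf_one] at hx3; norm_num at hx3
  have hx33 : x3 ^ 3 = 1 := by rw [← hx3]; exact pow_orderOf_eq_one x3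
  have hnt : Nontrivial G := ⟨⟨x3, 1, hx31⟩⟩
  obtain ⟨V, hVn, hVne, hVc, hV⟩ := exists_abelian_normal hP
  have hV4 : ∀ v ∈ V, v ^ 4 = 1 := by
    rcases hV with h | h
    · exfalso
      apply hVne
      apply hno3 V hVn
      intro c
      refine ⟨1, ?_⟩
      apply Subtype.ext
      rw [pow_one, Subgroup.coe_pow, Subgroup.coe_one]
      exact h c c.2
    · exact h
  obtain ⟨B, hBn, hB2, hBmax⟩ := exists_max_normal (G := G) 2
  have hVB : V ≤ B := by
    apply hBmax V hVn
    intro c
    refine ⟨2, ?_⟩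
    apply Subtype.ext
    rw [Subgroup.coe_pow, Subgroup.coe_one]
    exact hV4 c c.2
  have hB4 : ∀ b ∈ B, b ^ 4 = 1 := by
    intro b hb
    rcases hP b with h | h
    · exact h
    · obtain ⟨k, hk⟩ := hB2 ⟨b, hb⟩
      have hk' : b ^ 2 ^ k = 1 := by
        have := congrArg Subtype.val hk
        simpa using this
      have h1 : orderOf b ∣ Nat.gcd 3 (2 ^ k) :=
        Nat.dvd_gcd (orderOf_dvd_of_pow_eq_one h) (orderOf_dvd_of_pow_eq_one hk')
      have h2 : Nat.gcd 3 (2 ^ k) = 1 := by
        have : Nat.Coprime 3 (2 ^ k) := Nat.Coprime.pow_right k (by norm_num)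
        exact this
      rw [h2, Nat.dvd_one, orderOf_eq_one_iff] at h1
      rw [h1, one_pow]
  have h9 := nine_not_dvd hP V hVn hVne hVc hV4
  -- the quotient
  have hPQ : P (G ⧸ B) := hP.quotient B
  have hx3B : x3 ∉ B := fun h => hx31 (eq_one_of_pow_three_four hx33 (hB4 x3 h))
  have hntQ : Nontrivial (G ⧸ B) :=
    ⟨⟨QuotientGroup.mk x3, 1, fun h => hx3B ((QuotientGroup.eq_one_iff x3).mp h)⟩⟩
  have h9Q : ¬ 9 ∣ Nat.card (G ⧸ B) := fun h =>
    h9 (dvd_trans h (Subgroup.card_quotient_dvd_card B))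
  have hno2 : ∀ D : Subgroup (G ⧸ B), D.Normal → (∀ d ∈ D, d ^ 4 = 1) → D = ⊥ := by
    intro D hDn hD4
    have hle : D.comap (QuotientGroup.mk' B) ≤ B := by
      apply hBmax _ (hDn.comap _)
      rintro ⟨d, hd⟩
      refine ⟨4, ?_⟩
      apply Subtype.ext
      rw [Subgroup.coe_pow, Subgroup.coe_one]
      have h1 : (QuotientGroup.mk d : G ⧸ B) ^ 4 = 1 := hD4 _ hd
      rw [← QuotientGroup.mk_pow, QuotientGroup.eq_one_iff] at h1
      have h2 := hB4 _ h1
      rw [← pow_mul] at h2
      exact h2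
    rw [eq_bot_iff]
    intro q hq
    obtain ⟨d, rfl⟩ := QuotientGroup.mk_surjective q
    rw [Subgroup.mem_bot, QuotientGroup.eq_one_iff]
    exact hle hq
  obtain ⟨yb, hyb1, hyb3, hcases⟩ := quot_struct hPQ h9Q hno2
  obtain ⟨y, rfl⟩ := QuotientGroup.mk_surjective yb
  have hy3 : y ^ 3 = 1 := by
    rcases hP y with h | h
    · exfalso
      apply hyb1
      have h4 : (QuotientGroup.mk y : G ⧸ B) ^ 4 = 1 := by
        rw [← QuotientGroup.mk_pow, h]; rfl
      exact eq_one_of_pow_three_four hyb3 h4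
    · exact h
  have hy1 : y ≠ 1 := by
    intro h; apply hyb1; rw [h]; rfl
  have hF := fpf3_conj hP B hB4 y hy3 hy1
  have hB4' : ∀ b : B, b ^ 4 = 1 := fun b => Subtype.ext (by
    rw [Subgroup.coe_pow, Subgroup.coe_one]; exact hB4 b b.2)
  have hB3' : ∀ b : B, b ^ 3 = 1 → b = 1 := fun b hb => eq_one_of_pow_three_four hb (hB4' b)
  refine ⟨B, hBn, ?_⟩
  rcases hcases with h3 | ⟨h6, gb, hgb⟩
  · left
    refine ⟨hB2, ?_, ?_, ?_⟩
    · -- exponent
      have hx4B : x4 ∈ B := by
        rw [← QuotientGroup.eq_one_iff]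
        have h1 : (QuotientGroup.mk x4 : G ⧸ B) ^ 4 = 1 := by
          rw [← QuotientGroup.mk_pow, ← hx4, pow_orderOf_eq_one]; rfl
        have h2 : orderOf (QuotientGroup.mk x4 : G ⧸ B) ∣ Nat.gcd 4 3 :=
          Nat.dvd_gcd (orderOf_dvd_of_pow_eq_one h1) (h3 ▸ orderOf_dvd_natCard _)
        have h4 : Nat.gcd 4 3 = 1 := by norm_num
        rw [h4, Nat.dvd_one, orderOf_eq_one_iff] at h2
        exact h2
      apply Nat.dvd_antisymm
      · exact Monoid.exponent_dvd_of_forall_pow_eq_one hB4'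
      · have h1 : orderOf (⟨x4, hx4B⟩ : B) = 4 := by
          rw [← Subgroup.orderOf_coe]; exact hx4
        rw [← h1]
        exact Monoid.order_dvd_exponent _
    · -- class two
      have hcl := hF.class_two hB3'
      have hnil : Group.IsNilpotent B := hB2.isNilpotent
      rw [← Subgroup.upperCentralSeries_eq_top_iff_nilpotencyClass_le, eq_top_iff]
      intro a _
      rw [Subgroup.mem_upperCentralSeries_succ_iff]
      intro b
      rw [Subgroup.upperCentralSeries_one, Subgroup.mem_center_iff]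
      intro c
      exact (commutatorElement_eq_one_iff_mul_comm.mp (hcl a b c)).symm
    · rw [Subgroup.index_eq_card]; exact h3
  · right
    obtain ⟨g, rfl⟩ := QuotientGroup.mk_surjective gb
    constructor
    swap
    · apply equiv_perm_of_card_six h6
      intro hcomm
      have h1 := hcomm (QuotientGroup.mk g) (QuotientGroup.mk y)
      have h2 : (QuotientGroup.mk y : G ⧸ B) = (QuotientGroup.mk y)⁻¹ := by
        rw [← hgb, h1]; group
      apply hyb1
      have h5 : (QuotientGroup.mk y : G ⧸ B) ^ 2 = 1 := by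
        rw [pow_two]
        nth_rewrite 2 [h2]
        exact mul_inv_cancel _
      exact eq_one_of_pow_two_three h5 hyb3
    · -- B is elementary abelian
      have hb0 : g * y * g⁻¹ * y ∈ B := by
        rw [← QuotientGroup.eq_one_iff]
        simp only [QuotientGroup.mk_mul, QuotientGroup.mk_inv]
        rw [hgb]; group
      have hyi3 : y⁻¹ ^ 3 = 1 := by rw [inv_pow, hy3, inv_one]
      have hyi1 : y⁻¹ ≠ 1 := by simpa using hy1
      have hF' := fpf3_conj hP B hB4 y⁻¹ hyi3 hyi1
      obtain ⟨b, hb⟩ := hF'.surj ⟨g * y * g⁻¹ * y, hb0⟩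
      have hb' : (b : G)⁻¹ * (y⁻¹ * b * y) = g * y * g⁻¹ * y := by
        have := congrArg Subtype.val hb
        simpa [MulAut.conjNormal_apply] using this
      obtain ⟨t, ht⟩ : ∃ t : G, t = (b : G) * g := ⟨_, rfl⟩
      have hty : t * y * t⁻¹ = y⁻¹ := by
        have e : t * y * t⁻¹ = b * ((g * y * g⁻¹ * y) * y⁻¹) * (b : G)⁻¹ := by rw [ht]; group
        rw [e, ← hb']; group
      have hty' : t * y⁻¹ * t⁻¹ = y := by
        have e : t * y⁻¹ * t⁻¹ = (t * y * t⁻¹)⁻¹ := by group
        rw [e, hty, inv_inv]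
      have ht3 : t ^ 3 ≠ 1 := by
        intro h
        apply hy1
        have e : t ^ 3 * y * (t ^ 3)⁻¹ = t * (t * (t * y * t⁻¹) * t⁻¹) * t⁻¹ := by
          rw [pow_succ, pow_two]; group
        have h2 : t ^ 3 * y * (t ^ 3)⁻¹ = y⁻¹ := by rw [e, hty, hty', hty]
        rw [h] at h2
        have h3 : y = y⁻¹ := by simpa using h2
        have h5 : y ^ 2 = 1 := by
          rw [pow_two]; nth_rewrite 2 [h3]; exact mul_inv_cancel _
        exact eq_one_of_pow_two_three h5 hy3
      have ht4 : t ^ 4 = 1 := (hP t).resolve_right ht3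
      have ht2 : t ^ 2 = 1 := by
        have hcomm : y * t ^ 2 = t ^ 2 * y := by
          have e : t ^ 2 * y * (t ^ 2)⁻¹ = t * (t * y * t⁻¹) * t⁻¹ := by rw [pow_two]; group
          have h2 : t ^ 2 * y * (t ^ 2)⁻¹ = y := by rw [e, hty, hty']
          have e2 : t ^ 2 * y = (t ^ 2 * y * (t ^ 2)⁻¹) * t ^ 2 := by group
          rw [e2, h2]
        have h44 : (t ^ 2) ^ 4 = 1 := by
          rw [← pow_mul]
          have : t ^ (2 * 4) = (t ^ 4) ^ 2 := by rw [← pow_mul]
          rw [this, ht4, one_pow]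
        rcases hP.K1 hcomm hy3 h44 with h | h
        · exact absurd h hy1
        · exact h
      have htinv : t⁻¹ = t := by
        rw [inv_eq_iff_eq_inv, eq_inv_iff_mul_eq_one, ← pow_two]; exact ht2
      have hsq : ∀ b : B, b ^ 2 = 1 := by
        apply exponent_two_of_S3 (σ := (MulAut.conjNormal y : MulAut B))
          (τ := (MulAut.conjNormal t : MulAut B)) hF ?_ hB4' ?_
        · intro c
          apply Subtype.ext
          simp only [MulAut.conjNormal_apply]
          have e1 : y * (t * (c : G) * t⁻¹) * y⁻¹ = (y * t) * c * (y * t)⁻¹ := by group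
          have e2 : t * (y * (y * (c : G) * y⁻¹) * y⁻¹) * t⁻¹ = (t * y * y) * c * (t * y * y)⁻¹ := by
            group
          have e3 : y * t = t * y * y := by
            have : t * y⁻¹ = y * t := by
              have e : t * y⁻¹ = (t * y⁻¹ * t⁻¹) * t := by group
              rw [e, hty']
            have hyy : y * y = y⁻¹ := by
              have : y ^ 3 = y * y * y := by rw [pow_succ, pow_two]
              rw [hy3] at this
              exact eq_inv_of_mul_eq_one_left this.symm
            calc y * t = t * y⁻¹ := this.symm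
              _ = t * (y * y) := by rw [hyy]
              _ = t * y * y := by group
          rw [e1, e2, e3]
        · intro a
          apply Subtype.ext
          simp only [Subgroup.coe_pow, Subgroup.coe_mul, MulAut.conjNormal_apply, Subgroup.coe_one]
          have e : (t * (a : G) * t⁻¹ * a) ^ 2 = (t * a) ^ 4 := by
            rw [htinv]
            have : (t * (a : G)) ^ 4 = ((t * a) ^ 2) ^ 2 := by rw [← pow_mul]
            rw [this, pow_two (t * (a : G))]
            congr 1
            group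
          rw [e]
          refine (hP (t * a)).resolve_right ?_
          intro h3
          -- then mk t has order dividing 3 and 2
          have hq2 : (QuotientGroup.mk t : G ⧸ B) ^ 2 = 1 := by
            rw [← QuotientGroup.mk_pow, ht2]; rfl
          have hq3 : (QuotientGroup.mk t : G ⧸ B) ^ 3 = 1 := by
            have : (QuotientGroup.mk t : G ⧸ B) = QuotientGroup.mk (t * a) := by
              rw [QuotientGroup.mk_mul, (QuotientGroup.eq_one_iff (a : G)).mpr a.2, mul_one]
            rw [this, ← QuotientGroup.mk_pow, h3]; rfl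
          have hq1 := eq_one_of_pow_two_three hq2 hq3
          have htB : t ∈ B := (QuotientGroup.eq_one_iff t).mp hq1
          -- then y⁻¹ = t y t⁻¹ ≡ y mod B
          apply hyb1
          have h7 : (QuotientGroup.mk y : G ⧸ B)⁻¹ = QuotientGroup.mk y := by
            have : (QuotientGroup.mk (t * y * t⁻¹) : G ⧸ B) = QuotientGroup.mk y := by
              simp only [QuotientGroup.mk_mul, QuotientGroup.mk_inv]
              rw [hq1]; group
            rw [hty, QuotientGroup.mk_inv] at this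
            exact this
          have h5 : (QuotientGroup.mk y : G ⧸ B) ^ 2 = 1 := by
            rw [pow_two]; nth_rewrite 1 [← h7]; exact inv_mul_cancel _
          exact eq_one_of_pow_two_three h5 hyb3
      refine ⟨⟨⟨?_⟩⟩, ?_⟩
      · intro a c
        have h1 := hsq a
        have h2 := hsq c
        have h3 := hsq (a * c)
        exact comm_of_sq h1 h2 h3
      · intro a ha
        have := congrArg Subtype.val (hsq ⟨a, ha⟩)
        simpa using this

end case2

/-- A finite group whose set of element orders is exactly {1, 2, 3, 4} has a normal subgroup N such that either N is a 2-group of exponent 4 and nilpotency class at most 2 with G/N of order 3, or N is an elementary abelian 2-group with G/N isomorphic to the symmetric group of degree 3, or N is an elementary abelian 3-group with G/N cyclic of order 4 or quaternion of order 8. -/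
theorem result {G : Type*} [Group G] [Finite G] (h : Set.range (orderOf : G → ℕ) = {k : ℕ | 1 ≤ k ∧ k ≤ 4}) :
    ∃ (N : Subgroup G) (_ : N.Normal),
      (IsPGroup 2 ↥N ∧ Monoid.exponent ↥N = 4 ∧ Group.nilpotencyClass ↥N ≤ 2 ∧ N.index = 3) ∨
      (Cfsg.IsElementaryAbelian 2 N ∧ Nonempty (G ⧸ N ≃* Equiv.Perm (Fin 3))) ∨
      (Cfsg.IsElementaryAbelian 3 N ∧ ((IsCyclic (G ⧸ N) ∧ N.index = 4) ∨ Nonempty (G ⧸ N ≃* QuaternionGroup 2))) := by
  classical
  have hord : ∀ g : G, 1 ≤ orderOf g ∧ orderOf g ≤ 4 := fun g => by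
    have : orderOf g ∈ Set.range (orderOf : G → ℕ) := ⟨g, rfl⟩
    rw [h] at this; exact this
  have hP : P G := by
    intro g
    obtain ⟨h1, h4⟩ := hord g
    have hpow := pow_orderOf_eq_one g
    have hcases : orderOf g = 1 ∨ orderOf g = 2 ∨ orderOf g = 3 ∨ orderOf g = 4 := by omega
    rcases hcases with hk | hk | hk | hk
    · left; rw [orderOf_eq_one_iff.mp hk, one_pow]
    · left
      rw [hk] at hpow
      have : g ^ 4 = (g ^ 2) ^ 2 := by rw [← pow_mul]
      rw [this, hpow, one_pow]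
    · right; rw [hk] at hpow; exact hpow
    · left; rw [hk] at hpow; exact hpow
  obtain ⟨x3, hx3⟩ : ∃ x : G, orderOf x = 3 := by
    have : (3 : ℕ) ∈ {k : ℕ | 1 ≤ k ∧ k ≤ 4} := by norm_num
    rw [← h] at this; exact this
  obtain ⟨x4, hx4⟩ : ∃ x : G, orderOf x = 4 := by
    have : (4 : ℕ) ∈ {k : ℕ | 1 ≤ k ∧ k ≤ 4} := by norm_num
    rw [← h] at this; exact this
  have hsolv : Group.IsSolvable G := by
    apply Cfsg.Agent.Lib.Helper3.isSolvable_of_two_primes_aux 2 3 Nat.prime_two Nat.prime_three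
      (Nat.card G) G rfl
    intro r hr hrd
    have := Fact.mk hr
    obtain ⟨g, hg⟩ := exists_prime_orderOf_dvd_card' r hrd
    obtain ⟨h1, h4⟩ := hord g
    rw [hg] at h1 h4
    have h2 := hr.two_le
    have hcases : r = 2 ∨ r = 3 ∨ r = 4 := by omega
    rcases hcases with h | h | h
    · left; exact h
    · right; exact h
    · exfalso; rw [h] at hr; norm_num at hr
  have : Fact (Nat.Prime 3) := ⟨Nat.prime_three⟩
  obtain ⟨A, hAn, hA3, hAmax⟩ := exists_max_normal (G := G) 3
  by_cases hA : A = ⊥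
  · have hno3 : ∀ A' : Subgroup G, A'.Normal → IsPGroup 3 A' → A' = ⊥ := by
      intro A' h1 h2
      have := hAmax A' h1 h2
      rw [hA] at this
      exact le_bot_iff.mp this
    obtain ⟨N, hN, hcase⟩ := case_two hP hno3 x3 hx3 x4 hx4
    refine ⟨N, hN, ?_⟩
    rcases hcase with h1 | h1
    · left; exact h1
    · right; left; exact h1
  · obtain ⟨h1, h2⟩ := case_three hP A hAn hA3 hAmax hA x4 hx4
    exact ⟨A, hAn, Or.inr (Or.inr ⟨h1, h2⟩)⟩

end Cfsg.Agent.S4006
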