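import Cfsg.Statements.S4013
import Mathlib.GroupTheory.GroupAction.ConjAct
import Mathlib.Data.Set.Card

set_option autoImplicit false
open Cfsg

namespace Cfsg.Agent.S4013

theorem pow_sub_one_arith (p : ℕ) (hp : p.Prime) (a c k : ℕ) (hk : 1 ≤ k)
    (h : p ^ c = p ^ a * (p ^ k - 1)) : p = 2 ∧ p ^ k = 2 := by
  have hp1 : 1 < p := hp.one_lt
  have hpk : 1 < p ^ k := Nat.one_lt_pow (by omega) hp1
  have hdvd : (p ^ k - 1) ∣ p ^ c := ⟨p ^ a, by rw [h]; ring⟩
  obtain ⟨j, hj, hjeq⟩ := (Nat.dvd_prime_pow hp).mp hdvd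
  have hj0 : j = 0 := by
    by_contra hne
    have h1 : p ∣ p ^ j := dvd_pow_self p hne
    have h2 : p ∣ p ^ k := dvd_pow_self p (by omega)
    rw [← hjeq] at h1
    have h3 : p ∣ p ^ k - (p ^ k - 1) := Nat.dvd_sub h2 h1
    have h4 : p ^ k - (p ^ k - 1) = 1 := by omega
    rw [h4] at h3
    have := Nat.le_of_dvd one_pos h3
    omega
  rw [hj0, pow_zero] at hjeq
  have hpk2 : p ^ k = 2 := by omega
  refine ⟨?_, hpk2⟩
  have hdvd2 : p ∣ 2 := by rw [← hpk2]; exact dvd_pow_self p (by omega)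
  exact (Nat.prime_dvd_prime_iff_eq hp Nat.prime_two).mp hdvd2

/-- Let G be a finite p-group (p prime) and N < M normal subgroups of G such that for some g ∈ M ∖ N the conjugacy class of g is exactly M ∖ N. Then p = 2 and N has index 2 in M. -/
theorem result {G : Type*} [Group G] [Finite G] (p : ℕ) [Fact p.Prime] (hG : IsPGroup p G) (N M : Subgroup G) [N.Normal] [M.Normal] (hNM : N < M) (g : G) (hgM : g ∈ M) (hgN : g ∉ N) (hcl : {h : G | IsConj g h} = (M : Set G) \ (N : Set G)) : p = 2 ∧ N.relIndex M = 2 := by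
  classical
  have hp : p.Prime := Fact.out
  -- class size is a power of p
  have hGc : IsPGroup p (ConjAct G) := hG.of_equiv (ConjAct.toConjAct (G := G))
  obtain ⟨c, hc⟩ := hGc.card_orbit g
  have hset : (MulAction.orbit (ConjAct G) g) = (M : Set G) \ (N : Set G) := by
    rw [← hcl]
    ext h
    rw [ConjAct.mem_orbit_conjAct, Set.mem_ofPred_eq, isConj_comm]
  have hcard1 : ((M : Set G) \ (N : Set G)).ncard = p ^ c := by
    rw [← hset, ← hc]; rfl
  have hsub : (N : Set G) ⊆ (M : Set G) := hNM.le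
  have hcard2 : ((M : Set G) \ (N : Set G)).ncard = (M : Set G).ncard - (N : Set G).ncard :=
    Set.ncard_sdiff hsub (Set.toFinite _)
  have hM : (M : Set G).ncard = Nat.card M := rfl
  have hN : (N : Set G).ncard = Nat.card N := rfl
  rw [hM, hN] at hcard2
  -- |N| = p^a
  obtain ⟨a, ha⟩ := (IsPGroup.iff_card.mp (hG.to_subgroup N))
  -- relIndex is p^k
  have hrel : N.relIndex M * Nat.card N = Nat.card M := by
    have h1 := Subgroup.card_mul_index (N.subgroupOf M)
    have h2 : Nat.card (N.subgroupOf M) = Nat.card N :=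
      Nat.card_congr (Subgroup.subgroupOfEquivOfLe hNM.le).toEquiv
    rw [h2] at h1
    rw [Subgroup.relIndex, mul_comm]; exact h1
  obtain ⟨k, hk⟩ : ∃ k, N.relIndex M = p ^ k := by
    have hdvd : N.relIndex M ∣ Nat.card M := Subgroup.relIndex_dvd_card N M
    obtain ⟨b, hb⟩ := (IsPGroup.iff_card.mp (hG.to_subgroup M))
    rw [hb] at hdvd
    obtain ⟨j, _, hj⟩ := (Nat.dvd_prime_pow hp).mp hdvd
    exact ⟨j, hj⟩
  have hk1 : 1 ≤ k := by
    by_contra hk0
    have : k = 0 := by omega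
    rw [this, pow_zero, Subgroup.relIndex_eq_one] at hk
    exact (not_le_of_gt hNM) hk
  have heq : p ^ c = p ^ a * (p ^ k - 1) := by
    rw [← hcard1, hcard2, ← hrel, hk, ha, Nat.mul_sub, mul_one, mul_comm]
  obtain ⟨h1, h2⟩ := pow_sub_one_arith p hp a c k hk1 heq
  exact ⟨h1, by rw [hk, h2]⟩

end Cfsg.Agent.S4013
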