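import Mathlib
import Cfsg.Statements.S4014
import Cfsg.Agent.Lib.Helper66.PermDerived

set_option autoImplicit false
open Cfsg

namespace Cfsg.Agent.S4014

open Cfsg.Agent.Lib.Helper66.PD

/-- Let p be a prime, n ≥ 1, and P a Sylow p-subgroup of the symmetric group on n letters. Then the derived length of P is exactly k = ⌊log_p n⌋ (the largest k with p^k ≤ n): the k-th derived subgroup of P is trivial and, when k ≥ 1, the (k−1)-st is not. -/
theorem result (p : ℕ) [Fact p.Prime] (n : ℕ) (hn : 1 ≤ n) (P : Sylow p (Equiv.Perm (Fin n))) : derivedSeries ↥(P : Subgroup (Equiv.Perm (Fin n))) (Nat.log p n) = ⊥ ∧ (1 ≤ Nat.log p n → derivedSeries ↥(P : Subgroup (Equiv.Perm (Fin n))) (Nat.log p n - 1) ≠ ⊥) := by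
  classical
  have hp := (Fact.out : p.Prime)
  have hn0 : n ≠ 0 := by omega
  constructor
  · -- upper bound
    rw [eq_bot_iff]
    intro g hg
    rw [Subgroup.mem_bot]
    apply Subtype.ext
    ext x : 1
    have hlt : (MulAction.stabilizer (↥(P : Subgroup (Equiv.Perm (Fin n)))) x).index
        < p ^ (Nat.log p n + 1) := by
      rw [MulAction.index_stabilizer]
      calc (MulAction.orbit (↥(P : Subgroup (Equiv.Perm (Fin n)))) x).ncard
          ≤ Nat.card (Fin n) := Set.ncard_le_card _
        _ = n := by simp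
        _ < p ^ (Nat.log p n + 1) := Nat.lt_pow_succ_log_self hp.one_lt n
    have := smul_eq_of_mem_derivedSeries p (Nat.log p n) (↥(P : Subgroup (Equiv.Perm (Fin n))))
      P.2 x hlt g hg
    exact this
  · -- lower bound
    intro hL
    obtain ⟨Y, hfin, A, hcard, hA, hds⟩ := exists_pgroup_perm p (Nat.log p n)
    have hds' := hds hL
    have := Fintype.ofFinite Y
    have hle : Fintype.card Y ≤ Fintype.card (Fin n) := by
      rw [← Nat.card_eq_fintype_card, hcard, Fintype.card_fin]
      exact Nat.pow_log_le_self p hn0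
    obtain ⟨e⟩ := Function.Embedding.nonempty_of_card_le hle
    let ι : Equiv.Perm Y →* Equiv.Perm (Fin n) := Equiv.Perm.viaEmbeddingHom e
    have hι : Function.Injective ι := Equiv.Perm.viaEmbeddingHom_injective e
    have hA1 : IsPGroup p (A.map ι) := hA.map ι
    have hds1 : dsIn (A.map ι) (Nat.log p n - 1) ≠ ⊥ := dsIn_map_ne_bot ι hι A _ hds'
    obtain ⟨P', hP'⟩ := hA1.exists_le_sylow
    obtain ⟨g, hg⟩ := MulAction.exists_smul_eq (Equiv.Perm (Fin n)) P' P
    have hds2 : dsIn (P' : Subgroup (Equiv.Perm (Fin n))) (Nat.log p n - 1) ≠ ⊥ := by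
      intro h
      apply hds1
      rw [eq_bot_iff, ← h]
      exact dsIn_mono hP' _
    have hPP : (P : Subgroup (Equiv.Perm (Fin n))) =
        (P' : Subgroup (Equiv.Perm (Fin n))).map (MulAut.conj g).toMonoidHom := by
      rw [← hg]
      rfl
    rw [ne_eq, derivedSeries_eq_bot_iff, hPP]
    exact dsIn_map_ne_bot _ (MulAut.conj g).injective _ _ hds2

end Cfsg.Agent.S4014
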