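import Cfsg.Statements.S4022
import Cfsg.Agent.Lib.Helper67.CycExc
import Cfsg.Agent.Lib.Helper32.RelSylow
import Cfsg.Agent.Lib.Helper33.SylowSub
import Cfsg.Agent.Lib.Helper1.Hall

set_option autoImplicit false
open Cfsg

namespace Cfsg.Agent.S4022

open Subgroup
open Cfsg.Agent.Lib.Helper33 Cfsg.Agent.Lib.Helper67

universe u

section

variable {G : Type u} [Group G]

/-- For every prime `p`, two `p`-subgroups of the same order are conjugate. -/
def DHyp (G : Type u) [Group G] : Prop :=
  ∀ p : ℕ, p.Prime → ∀ H K : Subgroup G, IsPGroup p H → IsPGroup p K → Nat.card H = Nat.card K →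
    ∃ g : G, K = cj g H

theorem map_cj' {G' : Type*} [Group G'] (f : G →* G') (g : G) (H : Subgroup G) :
    (cj g H).map f = cj (f g) (H.map f) := by
  rw [cj_def, cj_def, Subgroup.map_map, Subgroup.map_map]
  congr 1
  ext x
  simp

theorem cj_normal (N : Subgroup G) [N.Normal] (g : G) : cj g N = N :=
  cj_eq_self_iff.mpr (by rw [normalizer_eq_top]; exact mem_top g)

/-- The order of a relative Sylow `p`-subgroup. -/
theorem card_relSylow [Finite G] {p : ℕ} (hp : p.Prime) {P K : Subgroup G} (hPK : P ≤ K)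
    (hP : IsPGroup p P) (hPi : ¬ p ∣ P.relIndex K) :
    Nat.card P = p ^ (Nat.card K).factorization p := by
  have := Fact.mk hp
  obtain ⟨k, hk⟩ := IsPGroup.iff_card.mp hP
  have h1 : Nat.card P * P.relIndex K = Nat.card K := card_mul_relIndex_of_le hPK
  have hj0 : P.relIndex K ≠ 0 := by
    intro h0
    rw [h0, mul_zero] at h1
    exact Nat.card_pos.ne' h1.symm
  rw [← h1, hk, Nat.factorization_mul (pow_pos hp.pos k).ne' hj0, Nat.Prime.factorization_pow hp,
    Finsupp.add_apply, Finsupp.single_eq_same, Nat.factorization_eq_zero_of_not_dvd hPi, add_zero]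

/-- Under `DHyp`, the intersection of a subgroup `H` with a normal `p`-subgroup `N` has order
`min |N| |H|_p`. -/
theorem card_inf_normal [Finite G] (hD : DHyp G) {p : ℕ} (hp : p.Prime) (N : Subgroup G)
    [N.Normal] (hN : IsPGroup p N) (H : Subgroup G) :
    Nat.card (H ⊓ N : Subgroup G) = min (Nat.card N) (p ^ (Nat.card H).factorization p) := by
  have := Fact.mk hp
  obtain ⟨P, -, hPH, hPp, hPi⟩ :=
    Cfsg.Agent.Lib.Helper32.exists_relSylow_ge (p := p) (U := ⊥) (K := H) bot_le IsPGroup.of_bot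
  rw [← card_relSylow hp hPH hPp hPi]
  obtain ⟨k, hk⟩ := IsPGroup.iff_card.mp hPp
  obtain ⟨a, ha⟩ := IsPGroup.iff_card.mp hN
  rcases le_or_gt (Nat.card N) (Nat.card P) with hle | hlt
  · -- `N ≤ P ≤ H`
    rw [min_eq_left hle]
    have hak : a ≤ k := by
      rw [ha, hk] at hle
      exact (Nat.pow_le_pow_iff_right hp.one_lt).mp hle
    have hdvd : p ^ k ∣ Nat.card G := hk ▸ card_subgroup_dvd_card P
    obtain ⟨X, hXc, hNX⟩ := Sylow.exists_subgroup_card_pow_prime_le p hdvd N ha hak
    obtain ⟨g, hg⟩ := hD p hp X P (IsPGroup.of_card hXc) hPp (by rw [hXc, hk])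
    have hNP : N ≤ P := by
      rw [hg, ← cj_normal N g]
      exact cj_mono hNX
    rw [inf_of_le_right (hNP.trans hPH)]
  · -- `P = H ⊓ N`
    rw [min_eq_right hlt.le]
    have hka : k ≤ a := by
      rw [ha, hk] at hlt
      exact ((Nat.pow_lt_pow_iff_right hp.one_lt).mp hlt).le
    have hdvd : p ^ k ∣ Nat.card N := ha ▸ pow_dvd_pow p hka
    obtain ⟨Y0, hY0⟩ := Sylow.exists_subgroup_card_pow_prime p hdvd
    have hYc : Nat.card (Y0.map N.subtype) = p ^ k := by
      rw [card_map_of_injective N.subtype_injective, hY0]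
    obtain ⟨g, hg⟩ := hD p hp (Y0.map N.subtype) P (IsPGroup.of_card hYc) hPp (by rw [hYc, hk])
    have hPN : P ≤ N := by
      have h1 : cj g (Y0.map N.subtype) ≤ cj g N := cj_mono (map_subtype_le Y0)
      rw [cj_normal N g] at h1
      rw [hg]; exact h1
    have hle : P ≤ H ⊓ N := le_inf hPH hPN
    obtain ⟨c, -, hc⟩ := sylow_sub hPH hPp hPi (inf_le_left : H ⊓ N ≤ H) (hN.to_le inf_le_right)
    have hcard : Nat.card (H ⊓ N : Subgroup G) ≤ Nat.card P := by
      rw [← card_cj c (H ⊓ N)]
      exact card_le_of_le hc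
    rw [← eq_of_le_of_card_ge hle hcard]

/-- Every `q`-subgroup of a quotient is the image of a `q`-subgroup whose order depends only on
the order of the image. -/
theorem exists_lift_pgroup [Finite G] (N : Subgroup G) [N.Normal] {q : ℕ} (hq : q.Prime)
    (X : Subgroup (G ⧸ N)) (hX : IsPGroup q X) :
    ∃ Q : Subgroup G, IsPGroup q Q ∧ Q.map (QuotientGroup.mk' N) = X ∧
      Nat.card Q = q ^ (Nat.card N * Nat.card X).factorization q := by
  have := Fact.mk hq
  set f := QuotientGroup.mk' N with hf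
  have hfs : Function.Surjective f := QuotientGroup.mk'_surjective N
  set A := X.comap f with hA
  have hker : f.ker = N := QuotientGroup.ker_mk' N
  have hNA : N ≤ A := by
    rw [← hker]; exact MonoidHom.ker_le_comap f X
  have hmapA : A.map f = X := map_comap_eq_self_of_surjective hfs X
  have hcardA : Nat.card A = Nat.card N * Nat.card X := by
    rw [← card_mul_relIndex_of_le hNA, ← hmapA, ← relIndex_ker, hker]
  obtain ⟨Q, -, hQA, hQq, hQi⟩ :=
    Cfsg.Agent.Lib.Helper32.exists_relSylow_ge (p := q) (U := ⊥) (K := A) bot_le IsPGroup.of_bot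
  refine ⟨Q, hQq, ?_, ?_⟩
  · apply le_antisymm
    · exact map_le_iff_le_comap.mpr hQA
    · rw [← relIndex_eq_one]
      have h1 : (Q.map f).relIndex (A.map f) = (Q ⊔ f.ker).relIndex (A ⊔ f.ker) :=
        relIndex_map_map f Q A
      rw [hmapA, hker, sup_of_le_left hNA] at h1
      have h2 : (Q ⊔ N).relIndex A ∣ Q.relIndex A := relIndex_dvd_of_le_left A le_sup_left
      have h3 : ¬ q ∣ (Q.map f).relIndex X := by
        rw [h1]; exact fun h => hQi (h.trans h2)
      obtain ⟨k, hk⟩ := IsPGroup.iff_card.mp hX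
      have h4 : (Q.map f).relIndex X ∣ q ^ k := hk ▸ relIndex_dvd_card (Q.map f) X
      obtain ⟨j, -, hj⟩ := (Nat.dvd_prime_pow hq).mp h4
      rcases Nat.eq_zero_or_pos j with hj0 | hj0
      · rw [hj, hj0, pow_zero]
      · exfalso; apply h3; rw [hj]; exact dvd_pow_self q hj0.ne'
  · rw [card_relSylow hq hQA hQq hQi, hcardA]

theorem DHyp.quotient [Finite G] (hD : DHyp G) (N : Subgroup G) [N.Normal] : DHyp (G ⧸ N) := by
  intro q hq A B hA hB hcard
  obtain ⟨QA, hQAq, hQAm, hQAc⟩ := exists_lift_pgroup N hq A hA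
  obtain ⟨QB, hQBq, hQBm, hQBc⟩ := exists_lift_pgroup N hq B hB
  obtain ⟨g, hg⟩ := hD q hq QA QB hQAq hQBq (by rw [hQAc, hQBc, hcard])
  refine ⟨QuotientGroup.mk' N g, ?_⟩
  rw [← hQBm, hg, map_cj', hQAm]

theorem core2 [Finite G] (hs : Group.IsSolvable G) (hD : DHyp G) {r : ℕ}
    (hc : CycExc r G) {p : ℕ} (hp : p.Prime) (N : Subgroup G) [N.Normal] (hN : IsPGroup p N)
    (L A B : Subgroup G) (hLp : (Nat.card L).Coprime p) (hA : A ≤ N) (hB : B ≤ N)
    (hAB : Nat.card A = Nat.card B) (hLA : L ≤ normalizer (A : Set G))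
    (hLB : L ≤ normalizer (B : Set G)) : ∃ y : G, cj y L = L ∧ cj y A = B := by
  by_cases hpr : p = r
  · subst hpr
    obtain ⟨g, hg⟩ := hD p hp A B (hN.to_le hA) (hN.to_le hB) hAB
    have h1 : cj g L ≤ normalizer (B : Set G) := by
      rw [hg, normalizer_cj]
      exact cj_mono hLA
    have hsT : Group.IsSolvable (normalizer (B : Set G)) := by
      have := hs; infer_instance
    obtain ⟨x, hxT, hx⟩ := hc.conj_of_coprime_rel (normalizer (B : Set G)) hsT hp L (cj g L) hLB h1
      (card_cj g L).symm hLp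
    refine ⟨x⁻¹ * g, ?_, ?_⟩
    · rw [cj_mul, ← hx, cj_inv_cj]
    · rw [cj_mul, ← hg, cj_eq_self_iff]
      exact inv_mem hxT
  · have : IsCyclic N := hc.isCyclic_of_isPGroup hp hpr N hN
    have hEq : A = B := eq_of_le_isCyclic_of_card_eq N A B hA hB hAB
    exact ⟨1, cj_one L, by rw [cj_one, hEq]⟩

theorem le_normalizer_inf_normal (X N : Subgroup G) [N.Normal] :
    X ≤ normalizer ((X ⊓ N : Subgroup G) : Set G) := by
  intro x hx
  rw [← cj_eq_self_iff, cj_inf, cj_eq_self_of_mem hx, cj_normal]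

theorem coprime_relIndex_of_card_eq [Finite G] {p : ℕ} (hp : p.Prime) {P K : Subgroup G}
    (hPK : P ≤ K) (hc : Nat.card P = p ^ (Nat.card K).factorization p) :
    (P.relIndex K).Coprime p := by
  have h1 : Nat.card P * P.relIndex K = Nat.card K := card_mul_relIndex_of_le hPK
  have h2 : P.relIndex K = Nat.card K / p ^ (Nat.card K).factorization p := by
    rw [← hc, ← h1, Nat.mul_div_cancel_left _ Nat.card_pos]
  rw [h2]
  exact (Nat.coprime_ordCompl hp Nat.card_pos.ne').symm

theorem core [Finite G] (hs : Group.IsSolvable G) (hD : DHyp G) {r : ℕ}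
    (hc : CycExc r G) {p : ℕ} (hp : p.Prime) (N : Subgroup G) [N.Normal] (hN : IsPGroup p N)
    (H K : Subgroup G) (hHK : Nat.card H = Nat.card K) (hsup : H ⊔ N = K ⊔ N) :
    ∃ y : G, K = cj y H := by
  have := Fact.mk hp
  have hH := card_inf_normal hD hp N hN H
  have hK := card_inf_normal hD hp N hN K
  have hinf : Nat.card (H ⊓ N : Subgroup G) = Nat.card (K ⊓ N : Subgroup G) := by
    rw [hH, hK, hHK]
  by_cases hfull : Nat.card (H ⊓ N : Subgroup G) = Nat.card N
  · have hNH : N ≤ H := by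
      have h1 : H ⊓ N = N := eq_of_le_of_card_ge inf_le_right (by rw [hfull])
      exact h1 ▸ inf_le_left
    have hNK : N ≤ K := by
      have h1 : K ⊓ N = N := eq_of_le_of_card_ge inf_le_right (by rw [← hinf, hfull])
      exact h1 ▸ inf_le_left
    refine ⟨1, ?_⟩
    rw [cj_one, ← sup_of_le_left hNK, ← hsup, sup_of_le_left hNH]
  · have hHv : Nat.card (H ⊓ N : Subgroup G) = p ^ (Nat.card H).factorization p := by
      rcases min_choice (Nat.card N) (p ^ (Nat.card H).factorization p) with h1 | h1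
      · exact absurd (hH.trans h1) hfull
      · exact hH.trans h1
    have hKv : Nat.card (K ⊓ N : Subgroup G) = p ^ (Nat.card K).factorization p := by
      rw [← hinf, hHv, hHK]
    have hcopH : ((H ⊓ N).relIndex H).Coprime p := coprime_relIndex_of_card_eq hp inf_le_left hHv
    have hcopK : ((K ⊓ N).relIndex K).Coprime p := coprime_relIndex_of_card_eq hp inf_le_left hKv
    obtain ⟨L, hLH, hLc, -, hLsup⟩ := Cfsg.Agent.Lib.Helper24.rel_sz_exists (H ⊓ N) H inf_le_left
      (le_normalizer_inf_normal H N) (by rw [hHv]; exact (Nat.Coprime.pow_right _ hcopH).symm)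
    obtain ⟨L', hL'K, hL'c, -, hL'sup⟩ := Cfsg.Agent.Lib.Helper24.rel_sz_exists (K ⊓ N) K inf_le_left
      (le_normalizer_inf_normal K N) (by rw [hKv]; exact (Nat.Coprime.pow_right _ hcopK).symm)
    have hLL' : Nat.card L' = Nat.card L := by
      have h1 : Nat.card (H ⊓ N : Subgroup G) * (H ⊓ N).relIndex H = Nat.card H :=
        card_mul_relIndex_of_le inf_le_left
      have h2 : Nat.card (K ⊓ N : Subgroup G) * (K ⊓ N).relIndex K = Nat.card K :=
        card_mul_relIndex_of_le inf_le_left
      rw [hLc, hL'c]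
      rw [← hinf, ← hHK, ← h1] at h2
      exact Nat.eq_of_mul_eq_mul_left Nat.card_pos h2
    have hLp : (Nat.card L).Coprime p := hLc ▸ hcopH
    obtain ⟨a, ha⟩ := IsPGroup.iff_card.mp hN
    have hsN : Group.IsSolvable N := by have := hs; infer_instance
    have hL'le : L' ≤ L ⊔ N := by
      calc L' ≤ K ⊔ N := hL'K.trans le_sup_left
        _ = H ⊔ N := hsup.symm
        _ = (L ⊔ H ⊓ N) ⊔ N := by rw [hLsup]
        _ ≤ L ⊔ N := sup_le (sup_le le_sup_left (inf_le_right.trans le_sup_right)) le_sup_right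
    obtain ⟨n, -, hn⟩ := Cfsg.Agent.Lib.Helper24.rel_sz_conj N L L'
      (by rw [normalizer_eq_top]; exact le_top) (by rw [ha]; exact Nat.Coprime.pow_right _ hLp)
      (Or.inl hsN) hL'le hLL'
    have hL'A : L' ≤ normalizer ((cj n (H ⊓ N) : Subgroup G) : Set G) := by
      rw [normalizer_cj, ← hn]
      exact cj_mono (hLH.trans (le_normalizer_inf_normal H N))
    have hL'B : L' ≤ normalizer ((K ⊓ N : Subgroup G) : Set G) :=
      hL'K.trans (le_normalizer_inf_normal K N)
    have hAN : cj n (H ⊓ N) ≤ N := by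
      have h1 : cj n (H ⊓ N) ≤ cj n N := cj_mono inf_le_right
      rwa [cj_normal N n] at h1
    obtain ⟨y, hyL, hyA⟩ := core2 hs hD hc hp N hN L' (cj n (H ⊓ N)) (K ⊓ N)
      (hLL' ▸ hLp) hAN inf_le_right (by rw [card_cj, hinf]) hL'A hL'B
    refine ⟨y * n, ?_⟩
    rw [cj_mul, ← hLsup, cj_sup, cj_sup, hn, hyL, hyA, hL'sup]

theorem main (n : ℕ) : ∀ (G : Type u) [Group G] [Finite G], Nat.card G = n → Group.IsSolvable G →
    DHyp G → ∀ r : ℕ, CycExc r G → ∀ H K : Subgroup G, Nat.card H = Nat.card K →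
    ∃ g : G, K = cj g H := by
  induction n using Nat.strong_induction_on with
  | _ n ih =>
    intro G _ _ hn hs hD r hc H K hHK
    by_cases h1 : Nat.card G = 1
    · have : Subsingleton G := (Nat.card_eq_one_iff_unique.mp h1).1
      refine ⟨1, ?_⟩
      ext x
      rw [Subsingleton.elim x 1]
      simp [one_mem]
    obtain ⟨p, N, hp, hNn, hN1, -, hNp⟩ := Cfsg.Agent.Lib.Helper1.exists_normal_pgroup hs h1
    set f := QuotientGroup.mk' N with hf
    have hker : f.ker = N := QuotientGroup.ker_mk' N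
    have hlt : Nat.card (G ⧸ N) < n := by
      rw [← hn, ← card_mul_index N, ← index_eq_card]
      have h2 : 1 < Nat.card N := N.one_lt_card_iff_ne_bot.mpr hN1
      have h3 : 0 < N.index := Nat.pos_of_ne_zero (index_ne_zero_of_finite)
      nlinarith
    have hcardmap : ∀ X : Subgroup G, Nat.card (X ⊓ N : Subgroup G) * Nat.card (X.map f) =
        Nat.card X := by
      intro X
      rw [← relIndex_ker, hker, ← inf_relIndex_right, inf_comm]
      exact card_mul_relIndex_of_le inf_le_right
    have hinf : Nat.card (H ⊓ N : Subgroup G) = Nat.card (K ⊓ N : Subgroup G) := by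
      rw [card_inf_normal hD hp N hNp H, card_inf_normal hD hp N hNp K, hHK]
    have hmapc : Nat.card (H.map f) = Nat.card (K.map f) := by
      have h2 := hcardmap H
      rw [hHK, ← hcardmap K, hinf] at h2
      exact Nat.eq_of_mul_eq_mul_left Nat.card_pos h2
    have hsQ : Group.IsSolvable (G ⧸ N) := by have := hs; infer_instance
    obtain ⟨gbar, hgbar⟩ := ih _ hlt (G ⧸ N) rfl hsQ (hD.quotient N) r
      (hc.of_surjective f (QuotientGroup.mk'_surjective N)) (H.map f) (K.map f) hmapc
    obtain ⟨g, rfl⟩ := QuotientGroup.mk'_surjective N gbar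
    have hmap : (cj g H).map f = K.map f := by rw [map_cj', ← hgbar]
    have hsup : cj g H ⊔ N = K ⊔ N := by
      have h2 := congrArg (Subgroup.comap f) hmap
      rwa [comap_map_eq, comap_map_eq, hker] at h2
    obtain ⟨y, hy⟩ := core hs hD hc hp N hNp (cj g H) K (by rw [card_cj, hHK]) hsup
    exact ⟨y * g, by rw [cj_mul]; exact hy⟩

end

/-- Let G be a finite solvable group in which, for every prime p, any two p-subgroups of the same order are conjugate, and suppose the Sylow p-subgroups of G are cyclic for all primes p with at most one exception. Then any two subgroups of G of the same order are conjugate. -/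
theorem result {G : Type*} [Group G] [Finite G]
    [Group.IsSolvable G] (hD : ∀ p : ℕ, p.Prime → ∀ H K : Subgroup G, IsPGroup p H → IsPGroup p K → Nat.card H = Nat.card K →
      ∃ g : G, K = H.map (MulAut.conj g).toMonoidHom)
    (r : ℕ) (hcyc : ∀ p : ℕ, p.Prime → p ≠ r → ∀ P : Sylow p G, IsCyclic P) :
    ∀ H K : Subgroup G, Nat.card H = Nat.card K → ∃ g : G, K = H.map (MulAut.conj g).toMonoidHom := by
  intro H K hHK
  exact main (Nat.card G) G rfl inferInstance hD r hcyc H K hHK

end Cfsg.Agent.S4022
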