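import Cfsg.Statements.S4023
import Cfsg.Agent.S0016
import Cfsg.Agent.Lib.Helper67.PGroupSmall

set_option autoImplicit false
open Cfsg

namespace Cfsg.Agent.S4023

open Subgroup
open scoped Pointwise
open Cfsg.Agent.Lib.Helper67

/-- Any two subgroups of the same order are isomorphic. -/
def SameOrderIso (Q : Type*) [Group Q] : Prop :=
  ∀ H K : Subgroup Q, Nat.card H = Nat.card K → Nonempty (H ≃* K)

theorem SameOrderIso.of_equiv {Q Q' : Type*} [Group Q] [Group Q'] (e : Q ≃* Q')
    (h : SameOrderIso Q) : SameOrderIso Q' := by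
  intro H K hHK
  have e1 : H ≃* H.map e.symm.toMonoidHom := H.equivMapOfInjective _ e.symm.injective
  have e2 : K ≃* K.map e.symm.toMonoidHom := K.equivMapOfInjective _ e.symm.injective
  have hc : Nat.card (H.map e.symm.toMonoidHom) = Nat.card (K.map e.symm.toMonoidHom) := by
    rw [← Nat.card_congr e1.toEquiv, ← Nat.card_congr e2.toEquiv, hHK]
  obtain ⟨f⟩ := h _ _ hc
  exact ⟨(e1.trans f).trans e2.symm⟩

/-- Squares in a generalized quaternion group lie in the cyclic part. -/
theorem sq_ne_xa {m : ℕ} (g : QuaternionGroup m) (i : ZMod (2 * m)) :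
    g ^ 2 ≠ QuaternionGroup.xa i := by
  cases g with
  | a j => rw [sq, QuaternionGroup.a_mul_a]; exact fun h => by cases h
  | xa j => rw [sq, QuaternionGroup.xa_mul_xa]; exact fun h => by cases h

/-- A generalized quaternion group of order at least 16 has non-isomorphic subgroups of the same
order. -/
theorem not_sameOrderIso_quaternion (n : ℕ) (hn : 2 ≤ n) :
    ¬ SameOrderIso (QuaternionGroup (2 ^ n)) := by
  intro h
  have hne : NeZero (2 ^ n) := ⟨by positivity⟩
  have hcard : Nat.card (QuaternionGroup (2 ^ n)) = 2 ^ (n + 2) := by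
    rw [Nat.card_eq_fintype_card, QuaternionGroup.card]; ring
  have hM₁ : Nat.card (zpowers (QuaternionGroup.a (1 : ZMod (2 * 2 ^ n)))) = 2 ^ (n + 1) := by
    rw [Nat.card_zpowers, QuaternionGroup.orderOf_a_one]; ring
  have hx4 : orderOf (QuaternionGroup.xa (0 : ZMod (2 * 2 ^ n))) = 4 :=
    QuaternionGroup.orderOf_xa 0
  have h2 : Fact (Nat.Prime 2) := ⟨Nat.prime_two⟩
  obtain ⟨M₂, hM₂c, hM₂⟩ := Sylow.exists_subgroup_card_pow_prime_le 2
    (G := QuaternionGroup (2 ^ n)) (n := 2) (m := n + 1)
    (by rw [hcard]; exact pow_dvd_pow 2 (by omega))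
    (zpowers (QuaternionGroup.xa (0 : ZMod (2 * 2 ^ n))))
    (by rw [Nat.card_zpowers, hx4]; norm_num) (by omega)
  obtain ⟨f⟩ := h _ M₂ (by rw [hM₁, hM₂c])
  set a₁ : zpowers (QuaternionGroup.a (1 : ZMod (2 * 2 ^ n))) :=
    ⟨QuaternionGroup.a 1, mem_zpowers _⟩ with ha₁
  set h₀ := f a₁ with hh₀
  have hord : orderOf h₀ = 2 ^ (n + 1) := by
    rw [hh₀, MulEquiv.orderOf_eq, ha₁, Subgroup.orderOf_mk, QuaternionGroup.orderOf_a_one]; ring
  have hgen : ∀ m : M₂, m ∈ zpowers h₀ := by
    intro m
    have h1 : ((f.symm m : zpowers (QuaternionGroup.a (1 : ZMod (2 * 2 ^ n)))) :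
        QuaternionGroup (2 ^ n)) ∈ zpowers (QuaternionGroup.a (1 : ZMod (2 * 2 ^ n))) :=
      (f.symm m).2
    obtain ⟨k, hk⟩ := mem_zpowers_iff.mp h1
    have h2 : f.symm m = a₁ ^ k := by
      apply Subtype.ext
      rw [← hk, ha₁]; rfl
    have h3 : m = h₀ ^ k := by
      rw [hh₀, ← map_zpow, ← h2, MulEquiv.apply_symm_apply]
    rw [h3]; exact zpow_mem (mem_zpowers h₀) k
  set x : M₂ := ⟨QuaternionGroup.xa 0, hM₂ (mem_zpowers _)⟩ with hx
  have hxo : orderOf x = 4 := by rw [hx, Subgroup.orderOf_mk, hx4]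
  have hfin : Finite M₂ := inferInstance
  obtain ⟨k, hk⟩ := (mem_powers_iff_mem_zpowers.mpr (hgen x))
  have hk' : h₀ ^ k = x := hk
  rcases Nat.even_or_odd' k with ⟨j, rfl | rfl⟩
  · have h1 : ((h₀ ^ j : M₂) : QuaternionGroup (2 ^ n)) ^ 2 = QuaternionGroup.xa 0 := by
      have := congrArg Subtype.val hk'
      rw [pow_mul'] at this
      exact this
    exact sq_ne_xa _ _ h1
  · have hcop : (orderOf h₀).Coprime (2 * j + 1) := by
      rw [hord]
      apply Nat.Coprime.pow_left
      rw [Nat.coprime_two_left]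
      exact ⟨j, by ring⟩
    have h1 := hcop.orderOf_pow
    rw [hk', hxo, hord] at h1
    have h3 : (2 : ℕ) ^ 3 ∣ 2 ^ (n + 1) := pow_dvd_pow 2 (by omega)
    rw [← h1] at h3
    omega

/-- The abstract classification: a finite `p`-group in which subgroups of the same order are
isomorphic. -/
theorem abstract_main {Q : Type*} [Group Q] [Finite Q] {p : ℕ} [hp : Fact p.Prime]
    (hQ : IsPGroup p Q) (hiso : SameOrderIso Q) :
    IsCyclic Q ∨ (IsMulCommutative Q ∧ ∀ a : Q, a ^ p = 1) ∨
      (p = 2 ∧ Nonempty (Q ≃* QuaternionGroup 2)) ∨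
      (p ≠ 2 ∧ ¬ IsMulCommutative Q ∧ Nat.card Q = p ^ 3 ∧ Monoid.exponent Q = p) := by
  by_cases huniq : ∀ H K : Subgroup Q, Nat.card H = p → Nat.card K = p → H = K
  · rcases Cfsg.Agent.S0016.result p hQ huniq with hcyc | ⟨hp2, n, ⟨e⟩⟩
    · exact Or.inl hcyc
    · rcases Nat.lt_or_ge n 2 with hn | hn
      · interval_cases n
        · left
          have : IsCyclic (QuaternionGroup (2 ^ 0)) := by
            rw [pow_zero]; exact QuaternionGroup.quaternionGroup_one_isCyclic
          exact isCyclic_of_surjective e.symm e.symm.surjective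
        · right; right; left
          exact ⟨hp2, ⟨e⟩⟩
      · exact absurd (hiso.of_equiv e) (not_sameOrderIso_quaternion n hn)
  · push Not at huniq
    obtain ⟨H, K, hH, hK, hHK⟩ := huniq
    have hp1 : 1 < p := hp.out.one_lt
    have hnt : Nontrivial Q := by
      by_contra hnt
      rw [not_nontrivial_iff_subsingleton] at hnt
      exact hHK ((Subgroup.subsingleton_iff.mpr hnt).elim H K)
    obtain ⟨z, hzZ, hzo⟩ := exists_central_orderOf_eq hQ
    have hZn : (zpowers z).Normal := zpowers_normal_of_mem_center hzZ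
    have hZcard : Nat.card (zpowers z) = p := by rw [Nat.card_zpowers, hzo]
    obtain ⟨H', hH'c, hH'z⟩ : ∃ H' : Subgroup Q, Nat.card H' = p ∧ H' ≠ zpowers z := by
      by_cases h : H = zpowers z
      · exact ⟨K, hK, fun hk => hHK (h.trans hk.symm)⟩
      · exact ⟨H, hH, h⟩
    have hcycH' : IsCyclic H' := isCyclic_of_prime_card hH'c
    obtain ⟨g, hg⟩ := IsCyclic.exists_generator (α := H')
    have hgo : orderOf g = p := by rw [orderOf_eq_card_of_forall_mem_zpowers hg, hH'c]
    have hxo : orderOf (g : Q) = p := by rw [Subgroup.orderOf_coe, hgo]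
    have hxH' : zpowers (g : Q) = H' := by
      apply Subgroup.eq_of_le_of_card_ge (zpowers_le.mpr g.2)
      rw [Nat.card_zpowers, hxo, hH'c]
    have hxz : (g : Q) ∉ zpowers z := by
      intro hmem
      apply hH'z
      rw [← hxH']
      apply Subgroup.eq_of_le_of_card_ge (zpowers_le.mpr hmem)
      rw [Nat.card_zpowers, Nat.card_zpowers, hxo, hzo]
    have hzx : Commute z (g : Q) := (mem_center_iff.mp hzZ (g : Q)).symm
    set E := zpowers z ⊔ zpowers (g : Q) with hE
    have hEcard : Nat.card E = p ^ 2 := by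
      apply le_antisymm
      · apply Nat.le_of_dvd (pow_pos hp.out.pos 2)
        have := card_zpowers_sup_zpowers_dvd hzx
        rwa [hzo, hxo, ← pow_two] at this
      · have hlt : zpowers z < E := by
          refine lt_of_le_of_ne le_sup_left ?_
          intro h
          apply hxz
          rw [h]
          exact (le_sup_right : zpowers (g : Q) ≤ E) (mem_zpowers _)
        exact pow_succ_le_card_of_lt hQ hlt (a := 1) (by rw [pow_one, hZcard])
    have hEexp : ∀ e ∈ E, e ^ p = 1 := by
      intro e he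
      have he' : e ∈ ((zpowers z : Subgroup Q) : Set Q) * ((zpowers (g : Q) : Subgroup Q) : Set Q) := by
        rw [← Subgroup.normal_mul]; exact he
      obtain ⟨u, hu, v, hv, rfl⟩ := Set.mem_mul.mp he'
      have hup : u ^ p = 1 := by
        obtain ⟨i, rfl⟩ := mem_zpowers_iff.mp hu
        rw [← zpow_natCast, ← zpow_mul, mul_comm, zpow_mul, zpow_natCast, ← hzo,
          pow_orderOf_eq_one, one_zpow]
      have hvp : v ^ p = 1 := by
        obtain ⟨i, rfl⟩ := mem_zpowers_iff.mp hv
        rw [← zpow_natCast, ← zpow_mul, mul_comm, zpow_mul, zpow_natCast, ← hxo,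
          pow_orderOf_eq_one, one_zpow]
      have huv : Commute u v := (mem_center_iff.mp ((zpowers_le.mpr hzZ) hu) v).symm
      rw [huv.mul_pow, hup, hvp, one_mul]
    -- every element has order dividing `p`
    have hexp : ∀ a : Q, a ^ p = 1 := by
      intro a
      by_contra hap
      obtain ⟨k, hk⟩ := (IsPGroup.iff_orderOf.mp hQ) a
      have hk2 : 2 ≤ k := by
        by_contra hlt
        apply hap
        have : k = 0 ∨ k = 1 := by omega
        rcases this with rfl | rfl
        · rw [pow_zero, orderOf_eq_one_iff] at hk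
          rw [hk, one_pow]
        · rw [pow_one] at hk
          rw [← hk, pow_orderOf_eq_one]
      have ha'o : orderOf (a ^ (p ^ (k - 2))) = p ^ 2 := by
        rw [orderOf_pow_of_dvd (pow_pos hp.out.pos _).ne' (by rw [hk]; exact pow_dvd_pow p (by omega)),
          hk]
        have : k = (k - 2) + 2 := by omega
        conv_lhs => rw [this, pow_add]
        exact Nat.mul_div_cancel_left _ (pow_pos hp.out.pos _)
      obtain ⟨f⟩ := hiso (zpowers (a ^ (p ^ (k - 2)))) E (by rw [Nat.card_zpowers, ha'o, hEcard])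
      set a' : zpowers (a ^ (p ^ (k - 2))) := ⟨a ^ (p ^ (k - 2)), mem_zpowers _⟩ with ha'
      have h1 : (f a') ^ p = 1 := by
        apply Subtype.ext
        rw [SubgroupClass.coe_pow]
        exact hEexp _ (f a').2
      have h2 : a' ^ p = 1 := by
        apply f.injective
        rw [map_pow, h1, map_one]
      have h3 : (a ^ (p ^ (k - 2))) ^ p = 1 := by
        have := congrArg Subtype.val h2
        rwa [SubgroupClass.coe_pow] at this
      have h4 := orderOf_dvd_of_pow_eq_one h3
      rw [ha'o] at h4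
      have h5 : p ^ 2 ≤ p ^ 1 := by rw [pow_one]; exact Nat.le_of_dvd hp.out.pos h4
      have := (Nat.pow_le_pow_iff_right hp1).mp h5
      omega
    by_cases hcomm : IsMulCommutative Q
    · exact Or.inr (Or.inl ⟨hcomm, hexp⟩)
    · right; right; right
      have hp2 : p ≠ 2 := by
        rintro rfl
        apply hcomm
        refine ⟨⟨fun a b => ?_⟩⟩
        have ha : a * a = 1 := by rw [← pow_two]; exact hexp a
        have hb : b * b = 1 := by rw [← pow_two]; exact hexp b
        have hab : b * a * (b * a) = 1 := by rw [← pow_two]; exact hexp (b * a)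
        calc a * b = (b * b) * (a * b) * (a * a) := by rw [ha, hb, one_mul, mul_one]
          _ = b * (b * a * (b * a)) * a := by group
          _ = b * a := by rw [hab, mul_one]
      have hge : p ^ 3 ≤ Nat.card Q := pow_three_le_card_of_not_comm hQ hcomm
      have hcard : Nat.card Q = p ^ 3 := by
        obtain ⟨n, hn⟩ := hQ.exists_card_eq
        rw [hn] at hge ⊢
        have hn3 : 3 ≤ n := (Nat.pow_le_pow_iff_right hp1).mp hge
        by_cases hn4 : 4 ≤ n
        · exfalso
          have h4 : p ^ 4 ≤ Nat.card Q := by rw [hn]; exact Nat.pow_le_pow_right hp.out.pos hn4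
          obtain ⟨A, hAab, hAc⟩ := exists_abelian_card_cube hQ h4
          obtain ⟨B, hBna, hBc⟩ := exists_nonabelian_card_cube hQ hexp hcomm
          obtain ⟨f⟩ := hiso A B (by rw [hAc, hBc])
          apply hBna
          refine ⟨⟨fun a b => ?_⟩⟩
          apply f.symm.injective
          rw [map_mul, map_mul]
          exact mul_comm' _ _
        · have : n = 3 := by omega
          rw [this]
      refine ⟨hp2, hcomm, hcard, ?_⟩
      have h1 : Monoid.exponent Q ∣ p := Monoid.exponent_dvd_of_forall_pow_eq_one hexp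
      rcases (Nat.dvd_prime hp.out).mp h1 with h | h
      · exfalso
        have := Monoid.exp_eq_one_iff.mp h
        exact not_subsingleton Q this
      · exact h

theorem result {G : Type*} [Group G] [Finite G]
    {p : ℕ} [Fact p.Prime] (hC : ∀ H K : Subgroup G, IsPGroup p H → IsPGroup p K → Nat.card H = Nat.card K →
      ∃ g : G, K = H.map (MulAut.conj g).toMonoidHom) (P : Sylow p G) :
    IsCyclic P ∨ Cfsg.IsElementaryAbelian p (P : Subgroup G) ∨
      (p = 2 ∧ Nonempty ((P : Subgroup G) ≃* QuaternionGroup 2)) ∨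
      (p ≠ 2 ∧ ¬ IsMulCommutative P ∧ Nat.card P = p ^ 3 ∧ Monoid.exponent P = p) := by
  have hiso : SameOrderIso ↥(P : Subgroup G) := by
    intro H K hHK
    have e1 : H ≃* H.map (P : Subgroup G).subtype :=
      H.equivMapOfInjective _ (subtype_injective _)
    have e2 : K ≃* K.map (P : Subgroup G).subtype :=
      K.equivMapOfInjective _ (subtype_injective _)
    have hpH : IsPGroup p (H.map (P : Subgroup G).subtype) :=
      P.isPGroup'.to_le (map_subtype_le H)
    have hpK : IsPGroup p (K.map (P : Subgroup G).subtype) :=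
      P.isPGroup'.to_le (map_subtype_le K)
    have hc : Nat.card (H.map (P : Subgroup G).subtype) =
        Nat.card (K.map (P : Subgroup G).subtype) := by
      rw [← Nat.card_congr e1.toEquiv, ← Nat.card_congr e2.toEquiv, hHK]
    obtain ⟨g, hg⟩ := hC _ _ hpH hpK hc
    have e3 : H.map (P : Subgroup G).subtype ≃*
        (H.map (P : Subgroup G).subtype).map (MulAut.conj g).toMonoidHom :=
      (H.map (P : Subgroup G).subtype).equivMapOfInjective _ (MulAut.conj g).injective
    have e4 : ↥((H.map (P : Subgroup G).subtype).map (MulAut.conj g).toMonoidHom) ≃*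
        ↥(K.map (P : Subgroup G).subtype) := MulEquiv.subgroupCongr hg.symm
    exact ⟨((e1.trans e3).trans e4).trans e2.symm⟩
  rcases abstract_main P.isPGroup' hiso with h | h | h | h
  · exact Or.inl h
  · right; left
    refine ⟨h.1, fun a ha => ?_⟩
    have := h.2 ⟨a, ha⟩
    exact congrArg Subtype.val this
  · right; right; left; exact h
  · right; right; right; exact h

end Cfsg.Agent.S4023
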