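import Cfsg.Statements.S4024
import Cfsg.Agent.S4023
import Cfsg.Agent.Lib.Helper11.PConstrained
import Cfsg.Agent.Lib.Helper67.PGroupSmall

set_option autoImplicit false
open Cfsg

namespace Cfsg.Agent.S4024

open Subgroup
open scoped Pointwise
open Cfsg.Agent.Lib.Helper67

variable {G : Type*} [Group G]

/-- Under the conjugacy hypothesis, a normal subgroup containing one element of order `p` contains
all of them. -/
theorem mem_of_orderOf_eq_prime {p : ℕ} [Fact p.Prime]
    (hC : ∀ H K : Subgroup G, IsPGroup p H → IsPGroup p K → Nat.card H = Nat.card K →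
      ∃ g : G, K = H.map (MulAut.conj g).toMonoidHom)
    (K : Subgroup G) [hKn : K.Normal] {a b : G} (ha : orderOf a = p) (hb : orderOf b = p)
    (hbK : b ∈ K) : a ∈ K := by
  have hpa : IsPGroup p (zpowers a) := IsPGroup.of_card (n := 1) (by rw [Nat.card_zpowers, ha, pow_one])
  have hpb : IsPGroup p (zpowers b) := IsPGroup.of_card (n := 1) (by rw [Nat.card_zpowers, hb, pow_one])
  obtain ⟨g, hg⟩ := hC (zpowers b) (zpowers a) hpb hpa
    (by rw [Nat.card_zpowers, Nat.card_zpowers, ha, hb])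
  have h1 : a ∈ (zpowers b).map (MulAut.conj g).toMonoidHom := hg ▸ mem_zpowers a
  obtain ⟨c, hc, rfl⟩ := h1
  exact hKn.conj_mem c ((zpowers_le.mpr hbK) hc) g

/-- Conjugate form: any two elements of order `p` generate conjugate subgroups. -/
theorem exists_conj_pow {p : ℕ} [Fact p.Prime]
    (hC : ∀ H K : Subgroup G, IsPGroup p H → IsPGroup p K → Nat.card H = Nat.card K →
      ∃ g : G, K = H.map (MulAut.conj g).toMonoidHom)
    {a b : G} (ha : orderOf a = p) (hb : orderOf b = p) :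
    ∃ g : G, ∃ c ∈ zpowers b, a = g * c * g⁻¹ := by
  have hpa : IsPGroup p (zpowers a) := IsPGroup.of_card (n := 1) (by rw [Nat.card_zpowers, ha, pow_one])
  have hpb : IsPGroup p (zpowers b) := IsPGroup.of_card (n := 1) (by rw [Nat.card_zpowers, hb, pow_one])
  obtain ⟨g, hg⟩ := hC (zpowers b) (zpowers a) hpb hpa
    (by rw [Nat.card_zpowers, Nat.card_zpowers, ha, hb])
  have h1 : a ∈ (zpowers b).map (MulAut.conj g).toMonoidHom := hg ▸ mem_zpowers a
  obtain ⟨c, hc, hca⟩ := h1
  exact ⟨g, c, hc, hca.symm⟩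

/-- The non-abelian case is impossible. -/
theorem false_of_nonabelian [Finite G] {p : ℕ} [hp : Fact p.Prime]
    (hC : ∀ H K : Subgroup G, IsPGroup p H → IsPGroup p K → Nat.card H = Nat.card K →
      ∃ g : G, K = H.map (MulAut.conj g).toMonoidHom) (P : Sylow p G)
    (hna : ¬ IsMulCommutative P) (hexp : ∀ a ∈ (P : Subgroup G), a ^ p = 1)
    (H : Subgroup G) [hHn : H.Normal] (hsolv : Cfsg.IsPSolvable p H) (hdiv : p ∣ Nat.card H) :
    False := by
  obtain ⟨b', hb'⟩ := exists_prime_orderOf_dvd_card' p hdiv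
  have hbH : (b' : G) ∈ H := b'.2
  have hbo : orderOf (b' : G) = p := by rw [Subgroup.orderOf_coe, hb']
  have hPo : ∀ a ∈ (P : Subgroup G), a ≠ 1 → orderOf a = p :=
    fun a ha ha1 => orderOf_eq_prime (hexp a ha) ha1
  set N := pPrimeCore p G with hN
  have hNcop : (Nat.card N).Coprime p := Cfsg.Agent.Lib.Helper55.pPrimeCore_card_coprime p
  set π := QuotientGroup.mk' N with hπ
  have hO : pPrimeCore p (G ⧸ N) = ⊥ := Cfsg.Agent.Lib.Helper55.pPrimeCore_quotient_eq_bot p
  have hnotN : ∀ a : G, orderOf a = p → a ∉ N := by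
    intro a ha haN
    have h1 : orderOf a ∣ Nat.card N := Subgroup.orderOf_dvd_natCard N haN
    rw [ha] at h1
    exact (Nat.Prime.coprime_iff_not_dvd hp.out).mp hNcop.symm h1
  have hHbn : (H.map π).Normal := Subgroup.Normal.map hHn π (QuotientGroup.mk'_surjective N)
  have hHbs : IsPSolvable p ↥(H.map π) :=
    Cfsg.Agent.Lib.Helper76.isPSolvable_of_surjective (π.subgroupMap H)
      (π.subgroupMap_surjective H) hsolv
  have hcore : pCore p (G ⧸ N) ≠ ⊥ := by
    intro h0
    have hle := Cfsg.Agent.Lib.Helper11.le_pCore_of_isPSolvable_of_le_centralizer hO (H.map π)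
      hHbs (by
        rw [h0]
        intro x _
        rw [Subgroup.mem_centralizer_iff]
        intro t ht
        rw [SetLike.mem_coe, Subgroup.mem_bot] at ht
        rw [ht, one_mul, mul_one])
    rw [h0, le_bot_iff] at hle
    have h1 : π (b' : G) ∈ H.map π := Subgroup.mem_map_of_mem π hbH
    rw [hle, Subgroup.mem_bot] at h1
    exact hnotN _ hbo ((QuotientGroup.eq_one_iff (b' : G)).mp h1)
  set K := pPrimePCore p G with hK
  have hKdef : K = (pCore p (G ⧸ N)).comap π := rfl
  have hKn : K.Normal := by rw [hKdef]; infer_instance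
  have hKmap : K.map π = pCore p (G ⧸ N) := by
    rw [hKdef]
    exact Subgroup.map_comap_eq_self_of_surjective (QuotientGroup.mk'_surjective N) _
  have hcorep : IsPGroup p (pCore p (G ⧸ N)) := Cfsg.Agent.Lib.Helper55.pCore_isPGroup p
  have hpK : p ∣ Nat.card K := by
    have h1 : Nat.card (K.map π) ∣ Nat.card K := Subgroup.card_map_dvd K π
    rw [hKmap] at h1
    have h2 : p ∣ Nat.card (pCore p (G ⧸ N)) := by
      rcases hcorep.card_eq_or_dvd with h | h
      · exact absurd (Subgroup.card_eq_one.mp h) hcore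
      · exact h
    exact h2.trans h1
  obtain ⟨w', hw'⟩ := exists_prime_orderOf_dvd_card' p hpK
  have hwK : (w' : G) ∈ K := w'.2
  have hwo : orderOf (w' : G) = p := by rw [Subgroup.orderOf_coe, hw']
  have hPK : (P : Subgroup G) ≤ K := by
    intro a ha
    by_cases ha1 : a = 1
    · rw [ha1]; exact one_mem _
    · exact mem_of_orderOf_eq_prime hC K (hPo a ha ha1) hwo hwK
  have hPN : ∀ a ∈ (P : Subgroup G), a ∈ N → a = 1 := by
    intro a ha haN
    by_contra ha1
    exact hnotN a (hPo a ha ha1) haN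
  have hKPN : K ≤ (P : Subgroup G) ⊔ N := by
    rw [← Subgroup.relIndex_eq_one]
    have h1 : ((P : Subgroup G) ⊔ N).relIndex K ∣ (P : Subgroup G).relIndex K :=
      Subgroup.relIndex_dvd_of_le_left K le_sup_left
    have h2 : ((P : Subgroup G) ⊔ N).relIndex K ∣ N.relIndex K :=
      Subgroup.relIndex_dvd_of_le_left K le_sup_right
    have h3 : (P : Subgroup G).relIndex K ∣ (P : Subgroup G).index :=
      Subgroup.relIndex_dvd_index_of_le hPK
    have h4 : N.relIndex K = Nat.card (pCore p (G ⧸ N)) := by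
      have := Subgroup.relIndex_ker K π
      rwa [hπ, QuotientGroup.ker_mk', ← hπ, hKmap] at this
    obtain ⟨m, hm⟩ := hcorep.exists_card_eq
    rw [h4, hm] at h2
    obtain ⟨j, _, hj⟩ := (Nat.dvd_prime_pow hp.out).mp h2
    have h5 : ¬ p ∣ (P : Subgroup G).index := P.not_dvd_index
    rcases Nat.eq_zero_or_pos j with rfl | hjpos
    · rw [hj, pow_zero]
    · exfalso
      apply h5
      have : p ∣ p ^ j := dvd_pow_self p hjpos.ne'
      rw [← hj] at this
      exact this.trans (h1.trans h3)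
  have hPnt : Nontrivial ↥(P : Subgroup G) := by
    by_contra h
    rw [not_nontrivial_iff_subsingleton] at h
    exact hna ⟨⟨fun a b => Subsingleton.elim _ _⟩⟩
  obtain ⟨z, hzZ, hzo⟩ := exists_central_orderOf_eq P.isPGroup'
  obtain ⟨x, y, hxy⟩ : ∃ x y : ↥(P : Subgroup G), x * y ≠ y * x := by
    by_contra hcon
    push Not at hcon
    exact hna ⟨⟨hcon⟩⟩
  have hx1 : (x : G) ≠ 1 := by
    intro h
    apply hxy
    have : x = 1 := Subtype.ext h
    rw [this, one_mul, mul_one]
  have hxo : orderOf (x : G) = p := hPo x x.2 hx1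
  have hzo' : orderOf (z : G) = p := by rw [Subgroup.orderOf_coe, hzo]
  obtain ⟨g, c, hc, hxc⟩ := exists_conj_pow hC hxo hzo'
  have hcP : c ∈ (P : Subgroup G) := (zpowers_le.mpr z.2) hc
  have hcZ : ∀ u ∈ (P : Subgroup G), u * c = c * u := by
    intro u hu
    obtain ⟨i, rfl⟩ := mem_zpowers_iff.mp hc
    have h1 : (⟨u, hu⟩ : ↥(P : Subgroup G)) * z = z * ⟨u, hu⟩ := mem_center_iff.mp hzZ ⟨u, hu⟩
    have h2 : u * (z : G) = (z : G) * u := congrArg Subtype.val h1
    exact (Commute.zpow_right (show Commute u (z : G) from h2) i)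
  have hfr : normalizer ((P : Subgroup G) : Set G) ⊔ K = ⊤ := Sylow.normalizer_sup_eq_top' P hPK
  have hg : g ∈ normalizer ((P : Subgroup G) : Set G) ⊔ K := by rw [hfr]; exact mem_top g
  have hg' : g ∈ ((normalizer ((P : Subgroup G) : Set G) : Subgroup G) : Set G) * (K : Set G) := by
    rw [← mul_normal]; exact hg
  obtain ⟨m, hm, k, hk, rfl⟩ := Set.mem_mul.mp hg'
  have hk' : k ∈ ((P : Subgroup G) : Set G) * (N : Set G) := by
    rw [← mul_normal]; exact hKPN hk
  obtain ⟨u, hu, n, hn, rfl⟩ := Set.mem_mul.mp hk'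
  set m' := m * u with hm'
  have hm'N : m' ∈ normalizer ((P : Subgroup G) : Set G) := mul_mem hm (le_normalizer hu)
  have h1 : n * c * n⁻¹ = m'⁻¹ * (x : G) * m' := by rw [hxc, hm']; group
  have h2 : m'⁻¹ * (x : G) * m' ∈ (P : Subgroup G) := by
    have := (mem_normalizer_iff.mp (inv_mem hm'N) (x : G)).mp x.2
    simpa using this
  have h3 : n * c * n⁻¹ * c⁻¹ ∈ (P : Subgroup G) := mul_mem (h1 ▸ h2) (inv_mem hcP)
  have h4 : n * c * n⁻¹ * c⁻¹ ∈ N := by
    have : n * c * n⁻¹ * c⁻¹ = n * (c * n⁻¹ * c⁻¹) := by group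
    rw [this]
    exact mul_mem hn (Subgroup.Normal.conj_mem inferInstance _ (inv_mem hn) c)
  have h5 : n * c * n⁻¹ * c⁻¹ = 1 := hPN _ h3 h4
  have h6 : n * c * n⁻¹ = c := by
    calc n * c * n⁻¹ = (n * c * n⁻¹ * c⁻¹) * c := by group
      _ = c := by rw [h5, one_mul]
  have h7 : (x : G) = m' * c * m'⁻¹ := by
    rw [hxc]
    calc m * (u * n) * c * (m * (u * n))⁻¹ = m' * (n * c * n⁻¹) * m'⁻¹ := by rw [hm']; group
      _ = m' * c * m'⁻¹ := by rw [h6]
  apply hxy
  apply Subtype.ext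
  show (x : G) * (y : G) = (y : G) * (x : G)
  have hy' : m'⁻¹ * (y : G) * m' ∈ (P : Subgroup G) := by
    have := (mem_normalizer_iff.mp (inv_mem hm'N) (y : G)).mp y.2
    simpa using this
  have h8 := hcZ _ hy'
  rw [h7]
  calc m' * c * m'⁻¹ * y = m' * (c * (m'⁻¹ * y * m')) * m'⁻¹ := by group
    _ = m' * ((m'⁻¹ * y * m') * c) * m'⁻¹ := by rw [h8]
    _ = y * (m' * c * m'⁻¹) := by group

theorem result {G : Type*} [Group G] [Finite G]
    {p : ℕ} [Fact p.Prime] (hp : p ≠ 2) (hC : ∀ H K : Subgroup G, IsPGroup p H → IsPGroup p K → Nat.card H = Nat.card K →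
      ∃ g : G, K = H.map (MulAut.conj g).toMonoidHom) (P : Sylow p G)
    (H : Subgroup G) [H.Normal] (hsolv : Cfsg.IsPSolvable p H) (hdiv : p ∣ Nat.card H) :
    IsMulCommutative P ∧ ((P : Subgroup G) ≤ H ∨ IsCyclic P) := by
  obtain ⟨b', hb'⟩ := exists_prime_orderOf_dvd_card' p hdiv
  have hbH : (b' : G) ∈ H := b'.2
  have hbo : orderOf (b' : G) = p := by rw [Subgroup.orderOf_coe, hb']
  have hle : (∀ a ∈ (P : Subgroup G), a ^ p = 1) → (P : Subgroup G) ≤ H := by
    intro hexp a ha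
    by_cases ha1 : a = 1
    · rw [ha1]; exact one_mem _
    · exact mem_of_orderOf_eq_prime hC H (orderOf_eq_prime (hexp a ha) ha1) hbo hbH
  rcases Cfsg.Agent.S4023.result hC P with h | h | h | h
  · exact ⟨IsCyclic.isMulCommutative, Or.inr h⟩
  · exact ⟨h.1, Or.inl (hle h.2)⟩
  · exact absurd h.1 hp
  · exfalso
    have hexp : ∀ a ∈ (P : Subgroup G), a ^ p = 1 := by
      intro a ha
      have h1 : (⟨a, ha⟩ : ↥(P : Subgroup G)) ^ p = 1 := by
        have h2 := Monoid.pow_exponent_eq_one (⟨a, ha⟩ : ↥(P : Subgroup G))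
        rwa [h.2.2.2] at h2
      have h3 := congrArg Subtype.val h1
      rwa [SubgroupClass.coe_pow] at h3
    exact false_of_nonabelian hC P h.2.1 hexp H hsolv hdiv

end Cfsg.Agent.S4024
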