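import Cfsg.Statements.S4032
import Cfsg.Agent.Lib.Helper67.Normalizer
import Cfsg.Agent.Lib.Helper67.SylowLift

set_option autoImplicit false
open Cfsg

namespace Cfsg.Agent.S4032

open Cfsg.Agent.Lib.Helper67

/-- Let π be a set of primes and G a finite group in which N_G(⟨x⟩) = C_G(x) for every π-element x. If N is a normal subgroup of G whose order is divisible by no prime of π, then G/N has the same property: N_{G/N}(⟨y⟩) = C_{G/N}(y) for every π-element y of G/N. -/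
theorem result {G : Type*} [Group G] [Finite G] (π : Set ℕ)
    (hirr : ∀ x : G, (∀ r : ℕ, r.Prime → r ∣ orderOf x → r ∈ π) →
      Subgroup.normalizer ((Subgroup.zpowers x : Subgroup G) : Set G) ≤ Subgroup.centralizer {x})
    (N : Subgroup G) [N.Normal] (hN : ∀ r : ℕ, r.Prime → r ∣ Nat.card N → r ∉ π) :
    ∀ y : G ⧸ N, (∀ r : ℕ, r.Prime → r ∣ orderOf y → r ∈ π) →
      Subgroup.normalizer ((Subgroup.zpowers y : Subgroup (G ⧸ N)) : Set (G ⧸ N)) ≤ Subgroup.centralizer {y} := by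
  intro y hy γ hγ
  rw [Subgroup.mem_centralizer_singleton_iff]
  apply (commute_of_prime_power_parts γ (orderOf y) y rfl ?_).eq
  intro k p a hp hk
  by_cases ha : a = 0
  · subst ha
    rw [pow_zero, orderOf_eq_one_iff] at hk
    rw [hk]
    exact Commute.one_right γ
  have hpπ : p ∈ π := by
    apply hy p hp
    exact (dvd_pow_self p ha).trans (hk ▸ orderOf_pow_dvd k)
  have hpf : Fact p.Prime := ⟨hp⟩
  have hpN : ¬ p ∣ Nat.card N := fun h => hN p hp h hpπ
  have hγz : γ ∈ Subgroup.normalizer ((Subgroup.zpowers (y ^ k) : Subgroup (G ⧸ N)) : Set (G ⧸ N)) := by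
    rw [mem_normalizer_zpowers_iff] at hγ ⊢
    obtain ⟨h1, h2⟩ := hγ
    constructor
    · obtain ⟨i, hi⟩ := Subgroup.mem_zpowers_iff.mp h1
      refine Subgroup.mem_zpowers_iff.mpr ⟨i, ?_⟩
      rw [← conj_pow, ← hi, ← zpow_natCast, ← zpow_natCast, ← zpow_mul, ← zpow_mul, mul_comm]
    · obtain ⟨i, hi⟩ := Subgroup.mem_zpowers_iff.mp h2
      refine Subgroup.mem_zpowers_iff.mpr ⟨i, ?_⟩
      have e : γ⁻¹ * y ^ k * γ = (γ⁻¹ * y * γ) ^ k := by
        have e1 : γ⁻¹ * y * γ = γ⁻¹ * y * γ⁻¹⁻¹ := by rw [inv_inv]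
        have e2 : γ⁻¹ * y ^ k * γ = γ⁻¹ * y ^ k * γ⁻¹⁻¹ := by rw [inv_inv]
        rw [e1, e2, conj_pow]
      rw [e, ← hi, ← zpow_natCast, ← zpow_natCast, ← zpow_mul, ← zpow_mul, mul_comm]
  generalize y ^ k = z at hk hγz
  obtain ⟨x0, hx0⟩ := QuotientGroup.mk_surjective z
  obtain ⟨g, hg⟩ := QuotientGroup.mk_surjective γ
  obtain ⟨b, s, hps, hos⟩ := Nat.exists_eq_pow_mul_and_not_dvd (orderOf_pos x0).ne' p hp.ne_one
  have hcop : Nat.Coprime s (orderOf z) := by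
    rw [hk]
    exact Nat.Coprime.pow_right a ((Nat.Prime.coprime_iff_not_dvd hp).mpr hps).symm
  obtain ⟨s', hs'⟩ := exists_pow_eq_self_of_coprime hcop
  set x := (x0 ^ s) ^ s' with hxdef
  have hxz : (x : G ⧸ N) = z := by
    rw [hxdef, QuotientGroup.mk_pow, QuotientGroup.mk_pow, hx0, hs']
  have hxpow : x ^ (p ^ b) = 1 := by
    rw [hxdef, ← pow_mul, ← pow_mul]
    have : s * (s' * p ^ b) = orderOf x0 * s' := by rw [hos]; ring
    rw [this, pow_mul, pow_orderOf_eq_one, one_pow]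
  obtain ⟨c, hcle, hc⟩ := (Nat.dvd_prime_pow hp).mp (orderOf_dvd_of_pow_eq_one hxpow)
  have hx'mem : g * x * g⁻¹ ∈ Subgroup.zpowers x ⊔ N := by
    obtain ⟨h1, _⟩ := mem_normalizer_zpowers_iff.mp hγz
    obtain ⟨i, hi⟩ := Subgroup.mem_zpowers_iff.mp h1
    have hq : ((x ^ i : G) : G ⧸ N) = ((g * x * g⁻¹ : G) : G ⧸ N) := by
      rw [QuotientGroup.mk_zpow, QuotientGroup.mk_mul, QuotientGroup.mk_mul, QuotientGroup.mk_inv,
        hxz, hg, hi]
    have hn : (x ^ i)⁻¹ * (g * x * g⁻¹) ∈ N := QuotientGroup.eq.mp hq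
    have : g * x * g⁻¹ = x ^ i * ((x ^ i)⁻¹ * (g * x * g⁻¹)) := by group
    rw [this]
    exact Subgroup.mul_mem_sup (zpow_mem (Subgroup.mem_zpowers x) i) hn
  have hx'ord : orderOf (g * x * g⁻¹) = p ^ c := by
    rw [← hc]
    have : g * x * g⁻¹ = MulAut.conj g x := by simp
    rw [this, MulEquiv.orderOf_eq]
  obtain ⟨h, hhH, hh⟩ := exists_conj_mem_zpowers_of_mem_sup N hpN hc hx'mem hx'ord
  have hg'N : h * g ∈ Subgroup.normalizer ((Subgroup.zpowers x : Subgroup G) : Set G) := by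
    apply Subgroup.mem_normalizer_fintype
    intro n hn
    obtain ⟨i, rfl⟩ := Subgroup.mem_zpowers_iff.mp hn
    have : h * g * x ^ i * (h * g)⁻¹ = (h * (g * x * g⁻¹) * h⁻¹) ^ i := by
      rw [conj_zpow, conj_zpow]
      group
    rw [SetLike.mem_coe, this]
    exact zpow_mem hh i
  have hxπ : ∀ r : ℕ, r.Prime → r ∣ orderOf x → r ∈ π := by
    intro r hr hd
    rw [hc] at hd
    have := (Nat.prime_dvd_prime_iff_eq hr hp).mp (hr.dvd_of_dvd_pow hd)
    rw [this]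
    exact hpπ
  have hcent := hirr x hxπ hg'N
  rw [Subgroup.mem_centralizer_singleton_iff] at hcent
  have hhH' : h ∈ ((Subgroup.zpowers x ⊔ N : Subgroup G) : Set G) := hhH
  rw [Subgroup.mul_normal] at hhH'
  obtain ⟨u, hu, n, hn, hun⟩ := Set.mem_mul.mp hhH'
  obtain ⟨i, rfl⟩ := Subgroup.mem_zpowers_iff.mp hu
  have hmkh : (h : G ⧸ N) = z ^ i := by
    rw [← hun, QuotientGroup.mk_mul, QuotientGroup.mk_zpow, hxz,
      (QuotientGroup.eq_one_iff n).mpr hn, mul_one]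
  have h3 := congrArg (QuotientGroup.mk : G → G ⧸ N) hcent
  rw [QuotientGroup.mk_mul, QuotientGroup.mk_mul, QuotientGroup.mk_mul, QuotientGroup.mk_mul,
    hmkh, hg, hxz] at h3
  -- h3 : z ^ i * γ * z = z * (z ^ i * γ)
  show γ * z = z * γ
  have h4 : z * (z ^ i * γ) = z ^ i * (z * γ) := by
    rw [← mul_assoc, ← mul_assoc]
    congr 1
    exact ((Commute.refl z).zpow_right i).eq
  rw [h4, mul_assoc] at h3
  exact mul_left_cancel h3

end Cfsg.Agent.S4032
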