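import Cfsg.Statements.S4027
import Cfsg.Agent.S4032
import Cfsg.Agent.Lib.Helper67.Normalizer
import Cfsg.Agent.Lib.Helper67.TwoClosed

set_option autoImplicit false
open Cfsg

universe u

namespace Cfsg.Agent.S4027

open Cfsg.Agent.Lib.Helper67

/-- The property: every element of odd order has `N(⟨x⟩) = C(x)`. -/
def OddIrr (G : Type u) [Group G] : Prop :=
  ∀ x : G, (∀ r : ℕ, r.Prime → r ∣ orderOf x → r ≠ 2) →
      Subgroup.normalizer ((Subgroup.zpowers x : Subgroup G) : Set G) ≤ Subgroup.centralizer {x}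

theorem coe_mem_normalizer_zpowers {G : Type*} [Group G] {M : Subgroup G} {x g : M}
    (hg : g ∈ Subgroup.normalizer ((Subgroup.zpowers x : Subgroup M) : Set M)) :
    (g : G) ∈ Subgroup.normalizer ((Subgroup.zpowers (x : G) : Subgroup G) : Set G) := by
  rw [mem_normalizer_zpowers_iff] at hg ⊢
  obtain ⟨h1, h2⟩ := hg
  constructor
  · obtain ⟨k, hk⟩ := Subgroup.mem_zpowers_iff.mp h1
    refine Subgroup.mem_zpowers_iff.mpr ⟨k, ?_⟩
    have := congrArg Subtype.val hk
    simpa using this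
  · obtain ⟨k, hk⟩ := Subgroup.mem_zpowers_iff.mp h2
    refine Subgroup.mem_zpowers_iff.mpr ⟨k, ?_⟩
    have := congrArg Subtype.val hk
    simpa using this

theorem oddIrr_subgroup (G : Type u) [Group G] [Finite G] (hG : OddIrr G) (M : Subgroup G) :
    OddIrr M := by
  intro x hx g hg
  have h1 := coe_mem_normalizer_zpowers hg
  have h2 := hG (x : G) (by rw [Subgroup.orderOf_coe]; exact hx) h1
  rw [Subgroup.mem_centralizer_singleton_iff] at h2 ⊢
  exact Subtype.ext h2

theorem oddIrr_quotient (G : Type u) [Group G] [Finite G] (hG : OddIrr G) (N : Subgroup G)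
    [N.Normal] (hN : IsPGroup 2 N) : OddIrr (G ⧸ N) := by
  have hNprime : ∀ r : ℕ, r.Prime → r ∣ Nat.card N → r ∉ {r : ℕ | r ≠ 2} := by
    intro r hr hd
    obtain ⟨k, hk⟩ := IsPGroup.iff_card.mp hN
    rw [hk] at hd
    have := (Nat.prime_dvd_prime_iff_eq hr Nat.prime_two).mp (hr.dvd_of_dvd_pow hd)
    simp [this]
  exact Cfsg.Agent.S4032.result {r : ℕ | r ≠ 2} hG N hNprime

theorem oddIrr_involutions (G : Type u) [Group G] [Finite G] (hG : OddIrr G) (s t : G)
    (hs : orderOf s = 2) (ht : orderOf t = 2) :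
    ∃ D : Subgroup G, IsPGroup 2 D ∧ s ∈ D ∧ t ∈ D := by
  have hs2 : s * s = 1 := by rw [← pow_two, ← hs, pow_orderOf_eq_one]
  have ht2 : t * t = 1 := by rw [← pow_two, ← ht, pow_orderOf_eq_one]
  have hsinv : s⁻¹ = s := inv_eq_of_mul_eq_one_left hs2
  have htinv : t⁻¹ = t := inv_eq_of_mul_eq_one_left ht2
  set r := s * t with hr
  have hconj : s * r * s⁻¹ = r⁻¹ := by
    rw [hr, mul_inv_rev, hsinv, htinv, ← mul_assoc, hs2, one_mul]
  obtain ⟨k, m, hm, hkm⟩ := Nat.exists_eq_two_pow_mul_odd (orderOf_pos r).ne'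
  have hm0 : m ≠ 0 := by rintro rfl; simp at hm
  have h2k0 : 2 ^ k ≠ 0 := pow_ne_zero k two_ne_zero
  set u := r ^ (2 ^ k) with hu
  have hou : orderOf u = m := by
    rw [hu, orderOf_pow_of_dvd h2k0 ⟨m, hkm⟩, hkm]
    exact Nat.mul_div_cancel_left _ (Nat.pos_of_ne_zero h2k0)
  have hconju : s * u * s⁻¹ = u⁻¹ := by
    rw [hu, ← conj_pow, hconj, inv_pow]
  have hsN : s ∈ Subgroup.normalizer ((Subgroup.zpowers u : Subgroup G) : Set G) := by
    apply Subgroup.mem_normalizer_fintype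
    intro n hn
    obtain ⟨i, rfl⟩ := Subgroup.mem_zpowers_iff.mp hn
    rw [SetLike.mem_coe, ← conj_zpow, hconju]
    exact zpow_mem (inv_mem (Subgroup.mem_zpowers u)) i
  have huodd : ∀ q : ℕ, q.Prime → q ∣ orderOf u → q ≠ 2 := by
    intro q _ hq h2
    rw [hou, h2] at hq
    exact (Nat.not_even_iff_odd.mpr hm) (even_iff_two_dvd.mpr hq)
  have hcent := hG u huodd hsN
  rw [Subgroup.mem_centralizer_singleton_iff] at hcent
  have huu : u = u⁻¹ := by
    rw [← hconju, hcent, mul_inv_cancel_right]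
  have hu2 : u ^ 2 = 1 := by
    rw [pow_two]
    nth_rewrite 1 [huu]
    exact inv_mul_cancel u
  have hm1 : m = 1 := by
    have hd : m ∣ 2 := hou ▸ orderOf_dvd_of_pow_eq_one hu2
    rcases (Nat.dvd_prime Nat.prime_two).mp hd with h | h
    · exact h
    · rw [h] at hm
      exact absurd hm (by decide)
  rw [hm1, mul_one] at hkm
  have hsN' : s ∈ Subgroup.normalizer ((Subgroup.zpowers r : Subgroup G) : Set G) := by
    apply Subgroup.mem_normalizer_fintype
    intro n hn
    obtain ⟨i, rfl⟩ := Subgroup.mem_zpowers_iff.mp hn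
    rw [SetLike.mem_coe, ← conj_zpow, hconj]
    exact zpow_mem (inv_mem (Subgroup.mem_zpowers r)) i
  have h1 : IsPGroup 2 (Subgroup.zpowers s) :=
    IsPGroup.of_card (n := 1) (by rw [Nat.card_zpowers, hs, pow_one])
  have h2 : IsPGroup 2 (Subgroup.zpowers r) :=
    IsPGroup.of_card (n := k) (by rw [Nat.card_zpowers, hkm])
  have hle : Subgroup.zpowers s ≤ Subgroup.normalizer (Subgroup.zpowers r : Subgroup G) :=
    (Subgroup.zpowers_le).mpr hsN'
  refine ⟨Subgroup.zpowers s ⊔ Subgroup.zpowers r, h1.to_sup_of_normal_right' h2 hle, ?_, ?_⟩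
  · exact (le_sup_left : Subgroup.zpowers s ≤ _) (Subgroup.mem_zpowers s)
  · have : t = s⁻¹ * r := by rw [hr, inv_mul_cancel_left]
    rw [this]
    exact mul_mem ((le_sup_left : Subgroup.zpowers s ≤ _) (inv_mem (Subgroup.mem_zpowers s)))
      ((le_sup_right : Subgroup.zpowers r ≤ _) (Subgroup.mem_zpowers r))

/-- Let G be a finite group in which every element x of odd order satisfies N_G(⟨x⟩) = C_G(x). Then the Sylow 2-subgroups of G are normal. -/
theorem result {G : Type*} [Group G] [Finite G]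
    (hirr : ∀ x : G, (∀ r : ℕ, r.Prime → r ∣ orderOf x → r ≠ 2) →
      Subgroup.normalizer ((Subgroup.zpowers x : Subgroup G) : Set G) ≤ Subgroup.centralizer {x}) (P : Sylow 2 G) :
    (P : Subgroup G).Normal :=
  two_closed_engine (fun G _ => OddIrr G) oddIrr_subgroup
    (fun G _ _ hG N _ hN => oddIrr_quotient G hG N hN) oddIrr_involutions G hirr P

end Cfsg.Agent.S4027
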