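import Cfsg.Statements.S4028
import Cfsg.Agent.Lib.Helper67.Basic
import Cfsg.Agent.Lib.Helper67.Normalizer

set_option autoImplicit false
open Cfsg

namespace Cfsg.Agent.S4028

open Cfsg.Agent.Lib.Helper67

theorem coprime_odd_totient_two_pow {m e : ℕ} (hm : Odd m) : Nat.Coprime m (Nat.totient (2 ^ e)) := by
  rcases Nat.eq_zero_or_pos e with rfl | he
  · simp
  · rw [Nat.totient_prime_pow Nat.prime_two he]
    simp only [Nat.add_one_sub_one, mul_one]
    apply Nat.Coprime.pow_right
    exact Nat.coprime_two_right.mpr hm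

/-- Let G be a finite group with Sylow 2-subgroup P. Then N_G(⟨x⟩) = C_G(x) holds for every 2-element x of G if and only if N_P(⟨y⟩) = C_P(y) holds for every y ∈ P (computed inside P). -/
theorem result {G : Type*} [Group G] [Finite G] (P : Sylow 2 G) :
    (∀ x : G, (∀ r : ℕ, r.Prime → r ∣ orderOf x → r = 2) →
      Subgroup.normalizer ((Subgroup.zpowers x : Subgroup G) : Set G) ≤ Subgroup.centralizer {x}) ↔
    (∀ y : ↥(P : Subgroup G), Subgroup.normalizer ((Subgroup.zpowers y : Subgroup ↥(P : Subgroup G)) : Set ↥(P : Subgroup G)) ≤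
        Subgroup.centralizer {y}) := by
  constructor
  · intro h y g hg
    have hy2 : ∀ r : ℕ, r.Prime → r ∣ orderOf (y : G) → r = 2 := by
      intro r hr hd
      obtain ⟨k, hk⟩ := P.isPGroup' y
      have hk' : (y : G) ^ (2 ^ k) = 1 := by
        have := congrArg Subtype.val hk
        simpa using this
      have : orderOf (y : G) ∣ 2 ^ k := orderOf_dvd_of_pow_eq_one hk'
      exact (Nat.prime_dvd_prime_iff_eq hr Nat.prime_two).mp (hr.dvd_of_dvd_pow (hd.trans this))
    have hgN : (g : G) ∈ Subgroup.normalizer ((Subgroup.zpowers (y : G) : Subgroup G) : Set G) := by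
      rw [mem_normalizer_zpowers_iff] at hg ⊢
      obtain ⟨h1, h2⟩ := hg
      constructor
      · obtain ⟨k, hk⟩ := Subgroup.mem_zpowers_iff.mp h1
        refine Subgroup.mem_zpowers_iff.mpr ⟨k, ?_⟩
        have := congrArg Subtype.val hk
        simpa using this
      · obtain ⟨k, hk⟩ := Subgroup.mem_zpowers_iff.mp h2
        refine Subgroup.mem_zpowers_iff.mpr ⟨k, ?_⟩
        have := congrArg Subtype.val hk
        simpa using this
    have := h (y : G) hy2 hgN
    rw [Subgroup.mem_centralizer_singleton_iff] at this ⊢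
    exact Subtype.ext this
  · intro hP x hx g hg
    rw [Subgroup.mem_centralizer_singleton_iff]
    obtain ⟨m, k, hm, hk⟩ := exists_odd_pow_two_power g
    have hhN : g ^ m ∈ Subgroup.normalizer ((Subgroup.zpowers x : Subgroup G) : Set G) :=
      pow_mem hg m
    obtain ⟨e, he⟩ : ∃ e, orderOf x = 2 ^ e :=
      ⟨_, Nat.eq_prime_pow_of_unique_prime_dvd (orderOf_pos x).ne' (fun hd hdvd => hx _ hd hdvd)⟩
    have h1 : IsPGroup 2 (Subgroup.zpowers (g ^ m)) :=
      IsPGroup.of_card (n := k) (by rw [Nat.card_zpowers, hk])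
    have h2 : IsPGroup 2 (Subgroup.zpowers x) :=
      IsPGroup.of_card (n := e) (by rw [Nat.card_zpowers, he])
    have hle : Subgroup.zpowers (g ^ m) ≤ Subgroup.normalizer (Subgroup.zpowers x : Subgroup G) :=
      (Subgroup.zpowers_le).mpr hhN
    have hsup := h1.to_sup_of_normal_right' h2 hle
    obtain ⟨Q, hQ⟩ := hsup.exists_le_sylow
    obtain ⟨c, hc⟩ := MulAction.exists_smul_eq G Q P
    have hmemP : ∀ a ∈ (Q : Subgroup G), c * a * c⁻¹ ∈ (P : Subgroup G) := by
      intro a ha
      rw [← hc, Sylow.coe_subgroup_smul, Subgroup.mem_pointwise_smul_iff_inv_smul_mem]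
      simpa [MulAut.smul_def, mul_assoc] using ha
    have hxQ : x ∈ (Q : Subgroup G) :=
      hQ ((le_sup_right : Subgroup.zpowers x ≤ _) (Subgroup.mem_zpowers x))
    have hgQ : g ^ m ∈ (Q : Subgroup G) :=
      hQ ((le_sup_left : Subgroup.zpowers (g ^ m) ≤ _) (Subgroup.mem_zpowers _))
    let y : (P : Subgroup G) := ⟨c * x * c⁻¹, hmemP x hxQ⟩
    let t : (P : Subgroup G) := ⟨c * g ^ m * c⁻¹, hmemP _ hgQ⟩
    have ht : t ∈ Subgroup.normalizer ((Subgroup.zpowers y : Subgroup (P : Subgroup G)) : Set (P : Subgroup G)) := by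
      rw [mem_normalizer_zpowers_iff]
      obtain ⟨a1, a2⟩ := mem_normalizer_zpowers_iff.mp hhN
      constructor
      · obtain ⟨i, hi⟩ := Subgroup.mem_zpowers_iff.mp a1
        refine Subgroup.mem_zpowers_iff.mpr ⟨i, Subtype.ext ?_⟩
        show (c * x * c⁻¹) ^ i = (c * g ^ m * c⁻¹) * (c * x * c⁻¹) * (c * g ^ m * c⁻¹)⁻¹
        rw [conj_zpow, hi]
        group
      · obtain ⟨i, hi⟩ := Subgroup.mem_zpowers_iff.mp a2
        refine Subgroup.mem_zpowers_iff.mpr ⟨i, Subtype.ext ?_⟩
        show (c * x * c⁻¹) ^ i = (c * g ^ m * c⁻¹)⁻¹ * (c * x * c⁻¹) * (c * g ^ m * c⁻¹)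
        rw [conj_zpow, hi]
        group
    have hty := hP y ht
    rw [Subgroup.mem_centralizer_singleton_iff] at hty
    have hcomm : Commute (g ^ m) x := by
      have h3 := congrArg Subtype.val hty
      have h4 : (c * g ^ m * c⁻¹) * (c * x * c⁻¹) = (c * x * c⁻¹) * (c * g ^ m * c⁻¹) := h3
      have h5 : c * (g ^ m * x) * c⁻¹ = c * (x * g ^ m) * c⁻¹ := by
        calc c * (g ^ m * x) * c⁻¹ = (c * g ^ m * c⁻¹) * (c * x * c⁻¹) := by group
          _ = (c * x * c⁻¹) * (c * g ^ m * c⁻¹) := h4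
          _ = c * (x * g ^ m) * c⁻¹ := by group
      exact mul_left_cancel (mul_right_cancel h5)
    have hcop : Nat.Coprime m (Nat.totient (orderOf x)) := by
      rw [he]
      exact coprime_odd_totient_two_pow hm
    exact (commute_of_pow_commute_of_coprime hg hcomm hcop).eq

end Cfsg.Agent.S4028
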