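import Cfsg.Statements.S4058
import Cfsg.Agent.Lib.Helper74.FS6
import Cfsg.Agent.Lib.Helper81.Brauer
import Cfsg.Agent.Lib.Helper80.Conv
import Cfsg.Agent.Lib.Helper2.PGroup
import Cfsg.Agent.Lib.Helper3.OddOrder

set_option autoImplicit false
open Cfsg

namespace Cfsg.Agent.S4058

open scoped ComplexConjugate commutatorElement

section Aux

variable {G : Type*} [Group G]

abbrev Lam (G : Type*) [Group G] := (G ⧸ frattini G) →* ℂˣ

noncomputable def evHom (φ : Lam G) : G →* ℂˣ := φ.comp (QuotientGroup.mk' (frattini G))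

noncomputable def ev (φ : Lam G) (g : G) : ℂ := ((evHom φ g : ℂˣ) : ℂ)

theorem ev_mul_apply (φ ψ : Lam G) (g : G) : ev (φ * ψ) g = ev φ g * ev ψ g := by
  simp [ev, evHom]

theorem ev_one_apply (g : G) : ev (1 : Lam G) g = 1 := by
  simp [ev, evHom]

theorem ev_map_mul (φ : Lam G) (g h : G) : ev φ (g * h) = ev φ g * ev φ h := by
  simp [ev]

theorem ev_map_one (φ : Lam G) : ev φ 1 = 1 := by
  simp [ev]

theorem ev_ext {φ ψ : Lam G} (h : ∀ g, ev φ g = ev ψ g) : φ = ψ := by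
  apply MonoidHom.ext
  intro x
  obtain ⟨g, rfl⟩ := QuotientGroup.mk_surjective x
  apply Units.ext
  exact h g

theorem ev_sq [Finite G] (hG : IsPGroup 2 G) (φ : Lam G) (g : G) : ev φ g * ev φ g = 1 := by
  rw [← ev_map_mul]
  have hmem : g * g ∈ frattini G := by
    have := Cfsg.Agent.Lib.Helper2.pow_mem_frattini (p := 2) hG g
    rwa [pow_two] at this
  have h1 : (QuotientGroup.mk' (frattini G)) (g * g) = 1 := by
    rw [QuotientGroup.mk'_apply, QuotientGroup.eq_one_iff]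
    exact hmem
  simp only [ev, evHom, MonoidHom.comp_apply]
  rw [h1, map_one, Units.val_one]

theorem ev_eq_or [Finite G] (hG : IsPGroup 2 G) (φ : Lam G) (g : G) : ev φ g = 1 ∨ ev φ g = -1 :=
  mul_self_eq_one_iff.1 (ev_sq hG φ g)

theorem ev_sq_arg [Finite G] (hG : IsPGroup 2 G) (φ : Lam G) (g : G) : ev φ (g * g) = 1 := by
  rw [ev_map_mul]; exact ev_sq hG φ g

variable [Fintype G]

noncomputable def tw (φ : Lam G) (χ : IrrCharacter G) : IrrCharacter G :=
  ⟨fun g => ev φ g * (χ : G → ℂ) g,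
    Cfsg.Agent.Lib.Helper81.isIrrCharacter_hom_mul (evHom φ) χ.2⟩

noncomputable instance twAction : MulAction (Lam G) (IrrCharacter G) where
  smul := tw
  one_smul χ := by
    apply Subtype.ext
    funext g
    show ev 1 g * (χ : G → ℂ) g = (χ : G → ℂ) g
    rw [ev_one_apply, one_mul]
  mul_smul φ ψ χ := by
    apply Subtype.ext
    funext g
    show ev (φ * ψ) g * (χ : G → ℂ) g = ev φ g * (ev ψ g * (χ : G → ℂ) g)
    rw [ev_mul_apply, mul_assoc]

theorem smul_apply (φ : Lam G) (χ : IrrCharacter G) (g : G) :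
    ((φ • χ : IrrCharacter G) : G → ℂ) g = ev φ g * (χ : G → ℂ) g := rfl

theorem sum_ev_subgroup (hG : IsPGroup 2 G) (S : Subgroup (Lam G)) [Fintype S] (g : G) :
    (∀ φ ∈ S, ev φ g = 1) ∨ ∑ φ : S, ev (φ : Lam G) g = 0 := by
  by_cases h : ∀ φ ∈ S, ev φ g = 1
  · exact Or.inl h
  · right
    push Not at h
    obtain ⟨φ₀, hφ₀, hne⟩ := h
    have hm1 : ev φ₀ g = -1 := (ev_eq_or hG φ₀ g).resolve_left hne
    have := Equiv.sum_comp (Equiv.mulLeft (⟨φ₀, hφ₀⟩ : S)) (fun φ : S => ev (φ : Lam G) g)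
    simp only [Equiv.coe_mulLeft, Subgroup.coe_mul, ev_mul_apply, hm1] at this
    rw [← Finset.mul_sum] at this
    linear_combination (-1/2 : ℂ) * this

theorem sum_ev_group (hG : IsPGroup 2 G) (φ : Lam G) (hφ : φ ≠ 1) : ∑ g : G, ev φ g = 0 := by
  have : ∃ g₀, ev φ g₀ ≠ 1 := by
    by_contra h
    push Not at h
    exact hφ (ev_ext fun g => by rw [h g, ev_one_apply])
  obtain ⟨g₀, hne⟩ := this
  have hm1 : ev φ g₀ = -1 := (ev_eq_or hG φ g₀).resolve_left hne
  have := Equiv.sum_comp (Equiv.mulLeft g₀) (fun g : G => ev φ g)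
  simp only [Equiv.coe_mulLeft, ev_map_mul, hm1] at this
  rw [← Finset.mul_sum] at this
  linear_combination (-1/2 : ℂ) * this

theorem card_stabilizer_le (hG : IsPGroup 2 G) [Finite (Lam G)] (χ : IrrCharacter G) (d : ℕ)
    (hd : (χ : G → ℂ) 1 = d) :
    Nat.card (MulAction.stabilizer (Lam G) χ) ≤ d ^ 2 := by
  classical
  set S := MulAction.stabilizer (Lam G) χ with hS
  haveI : Fintype S := Fintype.ofFinite S
  let K : Finset G := Finset.univ.filter (fun g => ∀ φ ∈ S, ev φ g = 1)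
  have hvan : ∀ g, g ∉ K → (χ : G → ℂ) g = 0 := by
    intro g hg
    simp only [K, Finset.mem_filter, Finset.mem_univ, true_and] at hg
    push Not at hg
    obtain ⟨φ, hφ, hne⟩ := hg
    have hm1 : ev φ g = -1 := (ev_eq_or hG φ g).resolve_left hne
    have hfix : φ • χ = χ := MulAction.mem_stabilizer_iff.1 hφ
    have := congrArg (fun ψ : IrrCharacter G => (ψ : G → ℂ) g) hfix
    simp only [smul_apply, hm1] at this
    linear_combination (-1/2 : ℂ) * this
  have h1 : (K.card : ℂ) * (Fintype.card S : ℂ) = (Fintype.card G : ℂ) := by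
    have hA : ∑ g : G, ∑ φ : S, ev (φ : Lam G) g = (K.card : ℂ) * Fintype.card S := by
      rw [← Finset.sum_filter_add_sum_filter_not Finset.univ (fun g => ∀ φ ∈ S, ev φ g = 1)]
      have e1 : ∑ g ∈ Finset.univ.filter (fun g => ∀ φ ∈ S, ev φ g = 1), ∑ φ : S, ev (φ : Lam G) g
          = ∑ g ∈ K, (Fintype.card S : ℂ) := by
        refine Finset.sum_congr rfl fun g hg => ?_
        have hg' : ∀ φ ∈ S, ev φ g = 1 := (Finset.mem_filter.1 hg).2
        rw [Finset.sum_congr rfl (fun φ _ => hg' φ.1 φ.2)]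
        simp
      have e2 : ∑ g ∈ Finset.univ.filter (fun g => ¬ ∀ φ ∈ S, ev φ g = 1), ∑ φ : S, ev (φ : Lam G) g
          = 0 := by
        refine Finset.sum_eq_zero fun g hg => ?_
        simp only [Finset.mem_filter, Finset.mem_univ, true_and] at hg
        exact (sum_ev_subgroup hG S g).resolve_left hg
      rw [e1, e2, add_zero, Finset.sum_const, nsmul_eq_mul]
    have hB : ∑ g : G, ∑ φ : S, ev (φ : Lam G) g = Fintype.card G := by
      rw [Finset.sum_comm]
      rw [Finset.sum_eq_single (1 : S)]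
      · simp [ev_one_apply]
      · intro φ _ hφ
        apply sum_ev_group hG
        intro h
        apply hφ
        exact Subtype.ext h
      · intro h; exact absurd (Finset.mem_univ _) h
    rw [← hA, hB]
  have h1' : K.card * Fintype.card S = Fintype.card G := by exact_mod_cast h1
  have h2 : ∑ g : G, ‖(χ : G → ℂ) g‖ ^ 2 = (Fintype.card G : ℝ) := by
    have hci := Cfsg.Agent.Lib.Helper3.classInner_irr χ.2 χ.2
    rw [if_pos rfl] at hci
    unfold classInner at hci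
    have hne : (Nat.card G : ℂ) ≠ 0 := by
      have : Nat.card G ≠ 0 := Nat.card_pos.ne'
      exact_mod_cast this
    have hsum : ∑ g : G, (χ : G → ℂ) g * conj ((χ : G → ℂ) g) = (Nat.card G : ℂ) := by
      field_simp at hci
      exact hci
    apply Complex.ofReal_injective
    rw [Complex.ofReal_sum]
    rw [Nat.card_eq_fintype_card] at hsum
    rw [Complex.ofReal_natCast, ← hsum]
    refine Finset.sum_congr rfl fun g _ => ?_
    rw [Complex.mul_conj, Complex.normSq_eq_norm_sq]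
  have h3 : ∑ g ∈ K, ‖(χ : G → ℂ) g‖ ^ 2 = (Fintype.card G : ℝ) := by
    rw [← h2]
    refine Finset.sum_subset (Finset.subset_univ K) ?_
    intro g _ hg
    rw [hvan g hg]
    simp
  have h4 : ∑ g ∈ K, ‖(χ : G → ℂ) g‖ ^ 2 ≤ K.card * (d : ℝ) ^ 2 := by
    have := Finset.sum_le_card_nsmul K (fun g => ‖(χ : G → ℂ) g‖ ^ 2) ((d : ℝ) ^ 2) ?_
    · simpa using this
    · intro g _
      have hb := Cfsg.Agent.Lib.Helper80.irr_norm_le χ g
      rw [hd, Complex.norm_natCast] at hb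
      exact pow_le_pow_left₀ (norm_nonneg _) hb 2
  have hKpos : 0 < K.card := by
    apply Finset.card_pos.2
    refine ⟨1, ?_⟩
    simp only [K, Finset.mem_filter, Finset.mem_univ, true_and]
    intro φ _
    exact ev_map_one φ
  have h5 : (K.card * Fintype.card S : ℝ) ≤ K.card * (d : ℝ) ^ 2 := by
    calc (K.card * Fintype.card S : ℝ) = (Fintype.card G : ℝ) := by exact_mod_cast h1'
      _ = ∑ g ∈ K, ‖(χ : G → ℂ) g‖ ^ 2 := h3.symm
      _ ≤ _ := h4
  have h6 : K.card * Fintype.card S ≤ K.card * d ^ 2 := by exact_mod_cast h5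
  rw [Nat.card_eq_fintype_card]
  exact Nat.le_of_mul_le_mul_left h6 hKpos

theorem dvd_sum_of_invariant {Λ X : Type*} [Group Λ] [Fintype X] [MulAction Λ X]
    (F : X → ℤ) (hF : ∀ (a : Λ) (x : X), F (a • x) = F x) (m : ℤ)
    (h : ∀ x : X, m ∣ (Nat.card (MulAction.orbit Λ x) : ℤ) * F x) :
    m ∣ ∑ x, F x := by
  classical
  let q : X → MulAction.orbitRel.Quotient Λ X := Quotient.mk''
  rw [← Fintype.sum_fiberwise q F]
  refine Finset.dvd_sum fun ω _ => ?_
  obtain ⟨x₀, rfl⟩ := Quotient.mk''_surjective ω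
  have hmem : ∀ x : X, q x = Quotient.mk'' x₀ ↔ x ∈ MulAction.orbit Λ x₀ := by
    intro x
    simp only [q]
    rw [Quotient.eq'']
    exact MulAction.orbitRel_apply
  have hconst : ∀ i : {i // q i = Quotient.mk'' x₀}, F i = F x₀ := by
    rintro ⟨x, hx⟩
    obtain ⟨a, rfl⟩ := (hmem x).1 hx
    exact hF a x₀
  rw [Finset.sum_congr rfl (fun i _ => hconst i), Finset.sum_const, Finset.card_univ, nsmul_eq_mul]
  have hcard : Fintype.card {i // q i = Quotient.mk'' x₀} = Nat.card (MulAction.orbit Λ x₀) := by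
    rw [← Nat.card_eq_fintype_card]
    exact Nat.card_congr (Equiv.subtypeEquivRight hmem)
  rw [hcard]
  exact h x₀


omit [Fintype G] in
theorem card_Lam [Finite G] (hG : IsPGroup 2 G) : Nat.card (Lam G) = Nat.card (G ⧸ frattini G) := by
  have hcomm : ∀ a b : G ⧸ frattini G, a * b = b * a := by
    intro a b
    obtain ⟨x, rfl⟩ := QuotientGroup.mk_surjective a
    obtain ⟨y, rfl⟩ := QuotientGroup.mk_surjective b
    rw [← QuotientGroup.mk_mul, ← QuotientGroup.mk_mul, QuotientGroup.eq]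
    have h1 : ⁅x⁻¹, y⁻¹⁆ ∈ commutator G := Subgroup.commutator_mem_commutator (Subgroup.mem_top _) (Subgroup.mem_top _)
    have h2 := Cfsg.Agent.Lib.Helper2.commutator_le_frattini (p := 2) hG h1
    have h3 : (x * y)⁻¹ * (y * x) = ⁅y⁻¹, x⁻¹⁆ := by
      simp [commutatorElement_def, mul_assoc]
    rw [h3]
    have h1' : ⁅y⁻¹, x⁻¹⁆ ∈ commutator G := Subgroup.commutator_mem_commutator (Subgroup.mem_top _) (Subgroup.mem_top _)
    exact Cfsg.Agent.Lib.Helper2.commutator_le_frattini (p := 2) hG h1'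
  letI : CommGroup (G ⧸ frattini G) := { (inferInstance : Group (G ⧸ frattini G)) with mul_comm := hcomm }
  haveI : NeZero ((Monoid.exponent (G ⧸ frattini G) : ℕ) : ℂ) := by
    refine ⟨?_⟩
    have : Monoid.exponent (G ⧸ frattini G) ≠ 0 := Monoid.exponent_ne_zero_of_finite
    exact_mod_cast this
  exact CommGroup.card_monoidHom_of_hasEnoughRootsOfUnity (G ⧸ frattini G) ℂ


end Aux

/-- Let G be a finite 2-group with #(G/Φ(G)) ≥ 2^(2k+1). Then the number of elements x of G with x² = 1 is divisible by 2^(k+1). -/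
theorem result {G : Type*} [Group G] [Finite G] (hG : IsPGroup 2 G) (k : ℕ)
    (hgen : 2 ^ (2 * k + 1) ≤ Nat.card (G ⧸ frattini G)) :
    2 ^ (k + 1) ∣ Nat.card {x : G // x ^ 2 = 1} := by
  classical
  haveI : Fintype G := Fintype.ofFinite G
  haveI : Fintype (IrrCharacter G) := Fintype.ofFinite _
  have hΛcard := card_Lam hG
  haveI : Finite (Lam G) :=
    Nat.finite_of_card_ne_zero (by rw [hΛcard]; exact Nat.card_pos.ne')
  obtain ⟨m, hm⟩ := IsPGroup.iff_card.1 hG
  have hΛ2 : ∃ n, Nat.card (Lam G) = 2 ^ n := by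
    rw [hΛcard]
    have : Nat.card (G ⧸ frattini G) ∣ Nat.card G := Subgroup.card_quotient_dvd_card _
    rw [hm] at this
    obtain ⟨n, _, h⟩ := (Nat.dvd_prime_pow Nat.prime_two).1 this
    exact ⟨n, h⟩
  obtain ⟨n, hn⟩ := hΛ2
  have hnk : 2 * k + 1 ≤ n := by
    rw [← hΛcard, hn] at hgen
    exact (Nat.pow_le_pow_iff_right (by norm_num)).1 hgen
  let ν : IrrCharacter G → ℂ := fun χ => (Nat.card G : ℂ)⁻¹ * ∑ s : G, (χ : G → ℂ) (s * s)
  have hex : ∀ χ : IrrCharacter G, ∃ (ε : ℤ) (d : ℕ), (ε = 0 ∨ ε = 1 ∨ ε = -1) ∧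
      (χ : G → ℂ) 1 = d ∧ d ∣ Nat.card G ∧ ν χ = ε := by
    intro χ
    obtain ⟨d, hd1, hd2, -⟩ := Cfsg.Agent.Lib.Helper3.IsIrrCharacter.apply_one_dvd_card χ.2
    rcases (Cfsg.Agent.Lib.Helper74.fs_trichotomy χ.2).1 with h | h | h
    · exact ⟨0, d, Or.inl rfl, hd1, hd2, by simpa [ν] using h⟩
    · exact ⟨1, d, Or.inr (Or.inl rfl), hd1, hd2, by simpa [ν] using h⟩
    · exact ⟨-1, d, Or.inr (Or.inr rfl), hd1, hd2, by simpa [ν] using h⟩
  choose ε d hε hd hdvd hν using hex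
  let F : IrrCharacter G → ℤ := fun χ => ε χ * d χ
  have hFc : ∀ χ, (F χ : ℂ) = ν χ * (χ : G → ℂ) 1 := by
    intro χ
    simp only [F]
    rw [hν, hd]
    push_cast
    rfl
  have hinv : ∀ (φ : Lam G) (χ : IrrCharacter G), F (φ • χ) = F χ := by
    intro φ χ
    have : (F (φ • χ) : ℂ) = F χ := by
      rw [hFc, hFc]
      have e1 : ν (φ • χ) = ν χ := by
        simp only [ν]
        congr 1
        refine Finset.sum_congr rfl fun s _ => ?_
        rw [smul_apply, ev_sq_arg hG, one_mul]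
      have e2 : ((φ • χ : IrrCharacter G) : G → ℂ) 1 = (χ : G → ℂ) 1 := by
        rw [smul_apply, ev_map_one, one_mul]
      rw [e1, e2]
    exact_mod_cast this
  have hN : ((Nat.card {x : G // x ^ 2 = 1} : ℕ) : ℤ) = ∑ χ, F χ := by
    have h := Cfsg.Agent.Lib.Helper74.card_sq_eq_one (G := G)
    have hc : Nat.card {x : G // x ^ 2 = 1} = Nat.card {s : G // s * s = 1} :=
      Nat.card_congr (Equiv.subtypeEquivRight (fun x => by rw [pow_two]))
    have h' : (((Nat.card {x : G // x ^ 2 = 1} : ℕ) : ℤ) : ℂ) = ((∑ χ, F χ : ℤ) : ℂ) := by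
      push_cast
      rw [hc, h]
      refine Finset.sum_congr rfl fun χ _ => (hFc χ).symm
    exact_mod_cast h'
  have hdiv : ((2 ^ (k + 1) : ℕ) : ℤ) ∣ ∑ χ, F χ := by
    apply dvd_sum_of_invariant (Λ := Lam G) F hinv
    intro χ
    have hos : Nat.card (MulAction.orbit (Lam G) χ) * Nat.card (MulAction.stabilizer (Lam G) χ)
        = 2 ^ n := by
      rw [← Nat.card_prod, Nat.card_congr (MulAction.orbitProdStabilizerEquivGroup (Lam G) χ), hn]
    have hst := card_stabilizer_le hG χ (d χ) (hd χ)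
    obtain ⟨s, hsn, hs⟩ := (Nat.dvd_prime_pow Nat.prime_two).1 (Dvd.intro_left _ hos)
    obtain ⟨a, -, ha⟩ := (Nat.dvd_prime_pow Nat.prime_two).1 (hm ▸ hdvd χ)
    rw [hs] at hos hst
    rw [ha, ← pow_mul] at hst
    have hsa : s ≤ a * 2 := (Nat.pow_le_pow_iff_right (by norm_num)).1 hst
    have ho : Nat.card (MulAction.orbit (Lam G) χ) = 2 ^ (n - s) := by
      have : 2 ^ n = 2 ^ (n - s) * 2 ^ s := by rw [← pow_add]; congr 1; omega
      rw [this] at hos
      exact Nat.eq_of_mul_eq_mul_right (by positivity) hos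
    rw [ho]
    simp only [F]
    rw [ha]
    have hle : k + 1 ≤ (n - s) + a := by omega
    have hpow : ((2 ^ (k + 1) : ℕ) : ℤ) ∣ ((2 ^ (n - s) : ℕ) : ℤ) * ((2 ^ a : ℕ) : ℤ) := by
      rw [← Nat.cast_mul, ← pow_add]
      exact Int.natCast_dvd_natCast.2 (pow_dvd_pow 2 hle)
    have : ((2 ^ (n - s) : ℕ) : ℤ) * (ε χ * ((2 ^ a : ℕ) : ℤ))
        = ε χ * (((2 ^ (n - s) : ℕ) : ℤ) * ((2 ^ a : ℕ) : ℤ)) := by ring
    rw [this]
    exact Dvd.dvd.mul_left hpow _
  rw [← hN] at hdiv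
  exact Int.natCast_dvd_natCast.1 hdiv

end Cfsg.Agent.S4058
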