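import Cfsg.Statements.S4029
import Cfsg.Agent.S4058
import Cfsg.Agent.S0160
import Cfsg.Agent.Lib.Helper79.Basic

set_option autoImplicit false
open Cfsg

namespace Cfsg.Agent.S4029

section Aux

variable {P : Type*} [Group P]

theorem involution_of_real (hirr : ∀ y : P, Subgroup.normalizer ((Subgroup.zpowers y : Subgroup P) : Set P)
      ≤ Subgroup.centralizer {y}) (y : P) (hy : IsConj y y⁻¹) (hy1 : y ≠ 1) : orderOf y = 2 := by
  obtain ⟨c, hc⟩ := isConj_iff.1 hy
  -- hc : c * y * c⁻¹ = y⁻¹
  have hc' : c⁻¹ * y * c = y⁻¹ := by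
    have hinv : c * y⁻¹ * c⁻¹ = y := by
      have := congrArg (fun x => x⁻¹) hc
      simpa [mul_assoc] using this
    calc c⁻¹ * y * c = c⁻¹ * (c * y⁻¹ * c⁻¹) * c := by rw [hinv]
      _ = y⁻¹ := by group
  have hmem : c ∈ Subgroup.normalizer ((Subgroup.zpowers y : Subgroup P) : Set P) := by
    rw [Subgroup.mem_normalizer_iff]
    intro n
    constructor
    · rintro ⟨k, rfl⟩
      refine ⟨-k, ?_⟩
      show y ^ (-k) = c * y ^ k * c⁻¹
      rw [← conj_zpow, hc, inv_zpow, zpow_neg]
    · rintro ⟨k, hk⟩
      refine ⟨-k, ?_⟩
      have hk' : y ^ k = c * n * c⁻¹ := hk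
      show y ^ (-k) = n
      have : n = c⁻¹ * y ^ k * c := by rw [hk']; group
      rw [this]
      have h2 : c⁻¹ * y ^ k * c = (c⁻¹ * y * c) ^ k := by
        have := conj_zpow (a := c⁻¹) (b := y) (i := k)
        rw [inv_inv] at this
        exact this.symm
      rw [h2, hc', inv_zpow, zpow_neg]
  have hcent := hirr y hmem
  rw [Subgroup.mem_centralizer_iff] at hcent
  have hcomm : y * c = c * y := hcent y (Set.mem_singleton y)
  have hyy : y = y⁻¹ := by
    rw [← hc, ← hcomm]; group
  have hsq : y ^ 2 = 1 := by
    rw [pow_two]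
    nth_rewrite 2 [hyy]
    exact mul_inv_cancel y
  exact orderOf_eq_prime hsq hy1

end Aux

/-- Let P be a finite 2-group in which N_P(⟨y⟩) = C_P(y) for every y ∈ P. If s is the number of conjugacy classes of involutions of P, then #(P/Φ(P)) ≤ s + 1; in particular the subgroup generated by the involutions of P has order at least #(P/Φ(P)). -/
theorem result {P : Type*} [Group P] [Finite P] (hP : IsPGroup 2 P)
    (hirr : ∀ y : P, Subgroup.normalizer ((Subgroup.zpowers y : Subgroup P) : Set P) ≤ Subgroup.centralizer {y}) :
    Nat.card (P ⧸ frattini P) ≤ Nat.card {c : ConjClasses P // ∃ y : P, ConjClasses.mk y = c ∧ orderOf y = 2} + 1 ∧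
    Nat.card (P ⧸ frattini P) ≤ Nat.card (Subgroup.closure {y : P | orderOf y = 2}) := by
  classical
  haveI : Fintype P := Fintype.ofFinite P
  have h1 : Nat.card (P ⧸ frattini P) ≤
      Nat.card {χ : Cfsg.IrrCharacter P // ∀ g : P, ((χ : P → ℂ) g).im = 0} := by
    rw [← Cfsg.Agent.S4058.card_Lam hP]
    let f : Cfsg.Agent.S4058.Lam P → {χ : Cfsg.IrrCharacter P // ∀ g : P, ((χ : P → ℂ) g).im = 0} :=
      fun φ => ⟨⟨fun g => Cfsg.Agent.S4058.ev φ g,
        Cfsg.Agent.Lib.Helper79.isIrrCharacter_of_monoidHom (Cfsg.Agent.S4058.evHom φ)⟩, by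
          intro g
          show (Cfsg.Agent.S4058.ev φ g).im = 0
          rcases Cfsg.Agent.S4058.ev_eq_or hP φ g with h | h <;> rw [h] <;> simp⟩
    apply Nat.card_le_card_of_injective f
    intro φ ψ h
    apply Cfsg.Agent.S4058.ev_ext
    intro g
    have := congrArg (fun x => ((x : {χ : Cfsg.IrrCharacter P // ∀ g : P, ((χ : P → ℂ) g).im = 0}) :
      Cfsg.IrrCharacter P).1 g) h
    exact this
  have h2 := Cfsg.Agent.S0160.result (G := P)
  have h3 : Nat.card {C : ConjClasses P // ∀ g : P, ConjClasses.mk g = C → IsConj g g⁻¹} ≤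
      Nat.card {c : ConjClasses P // ∃ y : P, ConjClasses.mk y = c ∧ orderOf y = 2} + 1 := by
    have hmem : ∀ C : {C : ConjClasses P // ∀ g : P, ConjClasses.mk g = C → IsConj g g⁻¹},
        (C : ConjClasses P) ≠ ConjClasses.mk 1 →
        ∃ y : P, ConjClasses.mk y = (C : ConjClasses P) ∧ orderOf y = 2 := by
      rintro ⟨C, hC⟩ hne
      obtain ⟨y, rfl⟩ := ConjClasses.mk_surjective C
      refine ⟨y, rfl, involution_of_real hirr y (hC y rfl) ?_⟩
      rintro rfl
      exact hne rfl
    let f : {C : ConjClasses P // ∀ g : P, ConjClasses.mk g = C → IsConj g g⁻¹} →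
        Option {c : ConjClasses P // ∃ y : P, ConjClasses.mk y = c ∧ orderOf y = 2} :=
      fun C => if h : (C : ConjClasses P) = ConjClasses.mk 1 then none else some ⟨C, hmem C h⟩
    have hf : Function.Injective f := by
      intro C D h
      simp only [f] at h
      by_cases hC : (C : ConjClasses P) = ConjClasses.mk 1
      · by_cases hD : (D : ConjClasses P) = ConjClasses.mk 1
        · exact Subtype.ext (hC.trans hD.symm)
        · rw [dif_pos hC, dif_neg hD] at h
          exact absurd h (by simp)
      · by_cases hD : (D : ConjClasses P) = ConjClasses.mk 1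
        · rw [dif_neg hC, dif_pos hD] at h
          exact absurd h (by simp)
        · rw [dif_neg hC, dif_neg hD] at h
          have := Option.some.inj h
          exact Subtype.ext (Subtype.mk.inj this)
    have := Nat.card_le_card_of_injective f hf
    rwa [Nat.card_eq_fintype_card (α := Option _), Fintype.card_option,
      ← Nat.card_eq_fintype_card] at this
  have h4 : Nat.card {c : ConjClasses P // ∃ y : P, ConjClasses.mk y = c ∧ orderOf y = 2} + 1 ≤
      Nat.card (Subgroup.closure {y : P | orderOf y = 2}) := by
    let g : Option {c : ConjClasses P // ∃ y : P, ConjClasses.mk y = c ∧ orderOf y = 2} →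
        Subgroup.closure {y : P | orderOf y = 2} :=
      fun o => match o with
        | none => 1
        | some c => ⟨c.2.choose, Subgroup.subset_closure c.2.choose_spec.2⟩
    have hg : Function.Injective g := by
      intro a b h
      cases a with
      | none =>
        cases b with
        | none => rfl
        | some c =>
          exfalso
          have h' : (1 : P) = c.2.choose := congrArg Subtype.val h
          have := c.2.choose_spec.2
          rw [← h', orderOf_one] at this
          omega
      | some c =>
        cases b with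
        | none =>
          exfalso
          have h' : c.2.choose = (1 : P) := congrArg Subtype.val h
          have := c.2.choose_spec.2
          rw [h', orderOf_one] at this
          omega
        | some c' =>
          have h' : c.2.choose = c'.2.choose := congrArg Subtype.val h
          congr 1
          apply Subtype.ext
          rw [← c.2.choose_spec.1, ← c'.2.choose_spec.1, h']
    have := Nat.card_le_card_of_injective g hg
    rwa [Nat.card_eq_fintype_card (α := Option _), Fintype.card_option,
      ← Nat.card_eq_fintype_card] at this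
  have h5 : Nat.card (P ⧸ frattini P) ≤
      Nat.card {c : ConjClasses P // ∃ y : P, ConjClasses.mk y = c ∧ orderOf y = 2} + 1 := by
    calc Nat.card (P ⧸ frattini P) ≤ _ := h1
      _ = _ := h2
      _ ≤ _ := h3
  exact ⟨h5, h5.trans h4⟩

end Cfsg.Agent.S4029
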