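import Cfsg.Statements.S4034
import Cfsg.Agent.S0003
import Cfsg.Agent.S0581
import Cfsg.Agent.S0044
import Cfsg.Agent.Lib.Helper3.Burnside
import Cfsg.Agent.Lib.Helper67.UnionConj
import Cfsg.Agent.Lib.Helper22.Fitting
import Cfsg.Agent.Lib.Helper33.NormalPComp
import Cfsg.Agent.Lib.Helper55.Cores
import Cfsg.Agent.Lib.Helper91.Wielandt

set_option autoImplicit false
set_option linter.unusedSectionVars false
set_option linter.style.haveILetI false
open Cfsg

namespace Cfsg.Agent.S4034

open Cfsg.Agent.Lib.Helper55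

/-- every `p'`-element has a centralizer of `p`-power index -/
def Hyp (p : ℕ) (G : Type*) [Group G] : Prop :=
  ∀ x : G, (orderOf x).Coprime p → ∃ k : ℕ, (Subgroup.centralizer ({x} : Set G)).index = p ^ k

/-- `|N : N ∩ C|` divides `|G : C|` for normal `N`. -/
theorem relIndex_dvd_index_of_normal_right {G : Type*} [Group G] [Finite G] (C N : Subgroup G)
    [N.Normal] : C.relIndex N ∣ C.index := by
  have h1 : (C ⊓ N).relIndex N * N.relIndex (C ⊔ N) = (C ⊓ N).relIndex (C ⊔ N) :=
    Subgroup.relIndex_mul_relIndex _ _ _ inf_le_right le_sup_right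
  have h2 : (C ⊓ N).relIndex C * C.relIndex (C ⊔ N) = (C ⊓ N).relIndex (C ⊔ N) :=
    Subgroup.relIndex_mul_relIndex _ _ _ inf_le_left le_sup_left
  have h3 : N.relIndex (C ⊔ N) = (C ⊓ N).relIndex C := by
    rw [Subgroup.relIndex_sup_right, ← Subgroup.inf_relIndex_right N C, inf_comm]
  have h4 : C.relIndex N = (C ⊓ N).relIndex N := (Subgroup.inf_relIndex_right C N).symm
  rw [h3] at h1
  have h5 : (C ⊓ N).relIndex N = C.relIndex (C ⊔ N) := by
    have hpos : 0 < (C ⊓ N).relIndex C := by
      apply Nat.pos_of_ne_zero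
      intro h0
      have hd := Subgroup.relIndex_dvd_card (C ⊓ N) C
      rw [h0] at hd
      exact Nat.card_pos.ne' (Nat.eq_zero_of_zero_dvd hd)
    have : (C ⊓ N).relIndex C * (C ⊓ N).relIndex N = (C ⊓ N).relIndex C * C.relIndex (C ⊔ N) := by
      rw [mul_comm, h1, h2]
    exact Nat.eq_of_mul_eq_mul_left hpos this
  rw [h4, h5]
  exact Subgroup.relIndex_dvd_index_of_le le_sup_left

theorem hyp_normal {p : ℕ} (hp : p.Prime) {G : Type*} [Group G] [Finite G] (N : Subgroup G)
    [N.Normal] (h : Hyp p G) : Hyp p N := by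
  intro x hx
  rw [← Subgroup.orderOf_coe] at hx
  obtain ⟨k, hk⟩ := h (x : G) hx
  have hcent : Subgroup.centralizer ({x} : Set N) =
      (Subgroup.centralizer ({(x : G)} : Set G)).subgroupOf N := by
    ext y
    rw [Subgroup.mem_centralizer_singleton_iff, Subgroup.mem_subgroupOf,
      Subgroup.mem_centralizer_singleton_iff]
    constructor
    · intro hy
      have := congrArg Subtype.val hy
      simpa using this
    · intro hy
      apply Subtype.ext
      simpa using hy
  have hdvd : (Subgroup.centralizer ({x} : Set N)).index ∣ p ^ k := by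
    rw [hcent, ← hk]
    exact relIndex_dvd_index_of_normal_right _ N
  obtain ⟨j, _, hj⟩ := (Nat.dvd_prime_pow hp).mp hdvd
  exact ⟨j, hj⟩

theorem hyp_quotient {p : ℕ} (hp : p.Prime) {G : Type*} [Group G] [Finite G] (N : Subgroup G)
    [N.Normal] (h : Hyp p G) : Hyp p (G ⧸ N) := by
  haveI : Fact p.Prime := ⟨hp⟩
  intro xbar hx
  obtain ⟨g, rfl⟩ := QuotientGroup.mk_surjective xbar
  -- lift to a p'-element
  obtain ⟨e, he⟩ := Cfsg.Agent.Lib.Helper33.exists_pow_coprime_order (p := p) g
  -- (mk g)^(p^e) generates the same cyclic group as mk g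
  obtain ⟨t, ht⟩ := exists_pow_eq_self_of_coprime (x := (QuotientGroup.mk g : G ⧸ N))
    (n := p ^ e) (Nat.Coprime.pow_left e hx.symm)
  set x : G := (g ^ (p ^ e)) ^ t with hxdef
  have hxmk : (QuotientGroup.mk x : G ⧸ N) = QuotientGroup.mk g := by
    rw [hxdef, QuotientGroup.mk_pow, QuotientGroup.mk_pow]
    exact ht
  have hxcop : (orderOf x).Coprime p :=
    Nat.Coprime.coprime_dvd_left (orderOf_pow_dvd t) he
  obtain ⟨k, hk⟩ := h x hxcop
  have hle : (Subgroup.centralizer ({x} : Set G)).map (QuotientGroup.mk' N) ≤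
      Subgroup.centralizer ({(QuotientGroup.mk g : G ⧸ N)} : Set (G ⧸ N)) := by
    rintro _ ⟨y, hy, rfl⟩
    have hy : y ∈ Subgroup.centralizer ({x} : Set G) := hy
    rw [Subgroup.mem_centralizer_singleton_iff] at hy ⊢
    rw [← hxmk]
    change (QuotientGroup.mk y : G ⧸ N) * QuotientGroup.mk x = QuotientGroup.mk x * QuotientGroup.mk y
    rw [← QuotientGroup.mk_mul, ← QuotientGroup.mk_mul, hy]
  have hdvd : (Subgroup.centralizer ({(QuotientGroup.mk g : G ⧸ N)} : Set (G ⧸ N))).index ∣ p ^ k := by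
    rw [← hk]
    exact (Subgroup.index_dvd_of_le hle).trans
      (Subgroup.index_map_dvd _ (QuotientGroup.mk'_surjective N))
  obtain ⟨j, _, hj⟩ := (Nat.dvd_prime_pow hp).mp hdvd
  exact ⟨j, hj⟩

universe u

theorem solvable_of_hyp_aux {p : ℕ} (hp : p.Prime) : ∀ (n : ℕ) (G : Type u) [Group G] [Finite G],
    Nat.card G = n → Hyp p G → Group.IsSolvable G := by
  haveI : Fact p.Prime := ⟨hp⟩
  intro n
  induction n using Nat.strong_induction_on with
  | _ n ih =>
    intro G _ _ hcard h
    by_cases hsimple : IsSimpleGroup G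
    · by_cases hex : ∃ x : G, x ≠ 1 ∧ (orderOf x).Coprime p
      · obtain ⟨x, hx1, hxc⟩ := hex
        obtain ⟨k, hk⟩ := h x hxc
        haveI := Fintype.ofFinite G
        have hprime := Cfsg.Agent.Lib.Helper3.prime_card_of_simple_of_class_prime_pow p k hp x hx1 hk
        haveI : Fact (Nat.card G).Prime := ⟨hprime⟩
        haveI : IsCyclic G := isCyclic_of_prime_card rfl
        exact Group.isSolvable_of_comm (fun a b => (IsCyclic.isMulCommutative).is_comm.comm a b)
      · have hpg : IsPGroup p G := by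
          intro g
          obtain ⟨e, he⟩ := Cfsg.Agent.Lib.Helper33.exists_pow_coprime_order (p := p) g
          refine ⟨e, ?_⟩
          by_contra hne
          exact hex ⟨_, hne, he⟩
        haveI : Group.IsNilpotent G := hpg.isNilpotent
        infer_instance
    · by_cases hsub : Subsingleton G
      · infer_instance
      · rw [not_subsingleton_iff_nontrivial] at hsub
        have hN : ∃ N : Subgroup G, N.Normal ∧ N ≠ ⊥ ∧ N ≠ ⊤ := by
          by_contra hcon
          push Not at hcon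
          apply hsimple
          exact ⟨fun N hN => by
            by_cases hb : N = ⊥
            · exact Or.inl hb
            · exact Or.inr (hcon N hN hb)⟩
        obtain ⟨N, hNn, hNb, hNt⟩ := hN
        haveI := hNn
        have hcN : Nat.card N < n := by
          rw [← hcard]
          exact Cfsg.Agent.Lib.Helper91.card_subgroup_lt_of_ne_top' hNt
        have hcQ : Nat.card (G ⧸ N) < n := by
          rw [← hcard, Subgroup.card_eq_card_quotient_mul_card_subgroup N]
          have h1 : 1 < Nat.card N := (Subgroup.one_lt_card_iff_ne_bot N).mpr hNb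
          have h2 : 0 < Nat.card (G ⧸ N) := Nat.card_pos
          nlinarith
        haveI : Group.IsSolvable N := ih _ hcN N rfl (hyp_normal hp N h)
        haveI : Group.IsSolvable (G ⧸ N) := ih _ hcQ (G ⧸ N) rfl (hyp_quotient hp N h)
        exact Group.isSolvable_of_ker_le_range N.subtype (QuotientGroup.mk' N) (by simp)

theorem solvable_of_hyp {p : ℕ} (hp : p.Prime) {G : Type u} [Group G] [Finite G] (h : Hyp p G) :
    Group.IsSolvable G :=
  solvable_of_hyp_aux hp _ G rfl h

/-- With trivial `p`-core, a normal nilpotent subgroup has order prime to `p`. -/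
theorem coprime_card_of_normal_nilpotent {X : Type*} [Group X] [Finite X] (p : ℕ) [hp : Fact p.Prime]
    (h : Cfsg.pCore p X = ⊥) (B : Subgroup X) [B.Normal] [hB : Group.IsNilpotent B] :
    (Nat.card B).Coprime p := by
  rw [Nat.coprime_comm, Nat.Prime.coprime_iff_not_dvd hp.out]
  intro hdvd
  let Q : Sylow p B := default
  have hQn : (Q : Subgroup B).Normal := inferInstance
  haveI : (Q : Subgroup B).Characteristic := Sylow.characteristic_of_normal Q hQn
  haveI hN : ((Q : Subgroup B).map B.subtype).Normal := ConjAct.normal_of_characteristic_of_normal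
  have hpg : IsPGroup p ((Q : Subgroup B).map B.subtype) := Q.2.map _
  have hle : (Q : Subgroup B).map B.subtype ≤ Cfsg.pCore p X := le_pCore p _ hpg
  rw [h, le_bot_iff, Subgroup.map_eq_bot_iff_of_injective _ B.subtype_injective] at hle
  exact Q.ne_bot_of_dvd_card hdvd hle

/-- A normal `p'`-subgroup lies in every subgroup whose order is the full `p'`-part. -/
theorem normal_le_of_card {X : Type*} [Group X] [Finite X] {p a m : ℕ} (hp : p.Prime)
    (hX : Nat.card X = p ^ a * m) (hm : ¬ p ∣ m) (M : Subgroup X) [M.Normal]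
    (hM : (Nat.card M).Coprime p) (H₁ : Subgroup X) (hH₁ : Nat.card H₁ = m) : M ≤ H₁ := by
  have hmc : m.Coprime p := ((Nat.Prime.coprime_iff_not_dvd hp).mpr hm).symm
  have h1 : Nat.card (H₁ ⊔ M : Subgroup X) ∣ Nat.card H₁ * Nat.card M := card_sup_dvd_mul H₁ M
  have h2 : (Nat.card (H₁ ⊔ M : Subgroup X)).Coprime p := by
    apply Nat.Coprime.coprime_dvd_left h1
    rw [hH₁]
    exact Nat.Coprime.mul_left hmc hM
  have h3 : Nat.card (H₁ ⊔ M : Subgroup X) ∣ p ^ a * m := by
    rw [← hX]; exact Subgroup.card_subgroup_dvd_card _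
  have h4 : Nat.card (H₁ ⊔ M : Subgroup X) ∣ m :=
    (Nat.Coprime.pow_right a h2).dvd_of_dvd_mul_left h3
  have h5 : Nat.card (H₁ ⊔ M : Subgroup X) ≤ Nat.card H₁ := by
    rw [hH₁]
    exact Nat.le_of_dvd (Nat.pos_of_ne_zero (fun h0 => hm (by rw [h0]; exact dvd_zero p))) h4
  have h6 : H₁ = H₁ ⊔ M := Subgroup.eq_of_le_of_card_ge le_sup_left h5
  rw [h6]
  exact le_sup_right

/-- A `p'`-element with centralizer of `p`-power index is centralized by a subgroup whose order is
the full `p'`-part (solvable case). -/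
theorem exists_hall_le_centralizer.{v} {X : Type v} [Group X] [Finite X] [Group.IsSolvable X]
    {p a m : ℕ} (hp : p.Prime) (hX : Nat.card X = p ^ a * m) (hm : ¬ p ∣ m) (h : X) (k : ℕ)
    (hk : (Subgroup.centralizer ({h} : Set X)).index = p ^ k) :
    ∃ H₁ : Subgroup X, Nat.card H₁ = m ∧ H₁ ≤ Subgroup.centralizer ({h} : Set X) := by
  have hmc : m.Coprime p := ((Nat.Prime.coprime_iff_not_dvd hp).mpr hm).symm
  set C := Subgroup.centralizer ({h} : Set X) with hC
  have h1 : Nat.card C * p ^ k = p ^ a * m := by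
    rw [← hk, ← hX]
    exact Subgroup.card_mul_index C
  have hka : p ^ k ∣ p ^ a := by
    have : p ^ k ∣ p ^ a * m := Dvd.intro_left _ h1
    exact (Nat.Coprime.pow_left k hmc.symm).dvd_of_dvd_mul_right this
  have hka' : k ≤ a := (Nat.pow_dvd_pow_iff_le_right hp.one_lt).mp hka
  have h2 : Nat.card C = m * p ^ (a - k) := by
    have h3 : p ^ a = p ^ (a - k) * p ^ k := by rw [← pow_add, Nat.sub_add_cancel hka']
    rw [h3] at h1
    have hpos : 0 < p ^ k := pow_pos hp.pos k
    apply Nat.eq_of_mul_eq_mul_right hpos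
    rw [h1]; ring
  obtain ⟨H₀, hH₀⟩ := Cfsg.Agent.S0003.result (G := C) m (p ^ (a - k)) h2
    (Nat.Coprime.pow_right _ hmc)
  refine ⟨H₀.map C.subtype, ?_, Subgroup.map_subtype_le H₀⟩
  rw [Subgroup.card_map_of_injective C.subtype_injective, hH₀]

/-- In a solvable group with trivial `p`-core satisfying the hypothesis, every subgroup whose order
is the full `p'`-part is abelian. -/
theorem hall_comm.{v} {X : Type v} [Group X] [Finite X] [Group.IsSolvable X] {p a m : ℕ}
    (hp : p.Prime) (hX : Nat.card X = p ^ a * m) (hm : ¬ p ∣ m) (hyp : Hyp p X)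
    (hcore : Cfsg.pCore p X = ⊥) (H' : Subgroup X) (hH' : Nat.card H' = m) :
    ∀ h ∈ H', ∀ h' ∈ H', h * h' = h' * h := by
  haveI : Fact p.Prime := ⟨hp⟩
  have hmc : m.Coprime p := ((Nat.Prime.coprime_iff_not_dvd hp).mpr hm).symm
  haveI hFn : (Cfsg.fittingSubgroup X).Normal := Cfsg.Agent.Lib.Helper22.fittingSubgroup_normal X
  haveI hFnil : Group.IsNilpotent (Cfsg.fittingSubgroup X) :=
    Cfsg.Agent.Lib.Helper22.fittingSubgroup_isNilpotent
  have hFc : (Nat.card (Cfsg.fittingSubgroup X)).Coprime p :=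
    coprime_card_of_normal_nilpotent p hcore _
  have key : ∀ h ∈ H', h ∈ Cfsg.fittingSubgroup X ∧
      ∀ f ∈ Cfsg.fittingSubgroup X, f * h = h * f := by
    intro h hh
    have hord : (orderOf h).Coprime p := by
      have h1 : orderOf (⟨h, hh⟩ : H') ∣ Nat.card H' := orderOf_dvd_natCard _
      rw [Subgroup.orderOf_mk, hH'] at h1
      exact Nat.Coprime.coprime_dvd_left h1 hmc
    obtain ⟨k, hk⟩ := hyp h hord
    obtain ⟨H₁, hH₁, hle⟩ := exists_hall_le_centralizer hp hX hm h k hk
    have hF : Cfsg.fittingSubgroup X ≤ H₁ := normal_le_of_card hp hX hm _ hFc H₁ hH₁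
    have hcomm : ∀ f ∈ Cfsg.fittingSubgroup X, f * h = h * f := by
      intro f hf
      exact Subgroup.mem_centralizer_singleton_iff.mp (hle (hF hf))
    refine ⟨?_, hcomm⟩
    apply Cfsg.Agent.S0044.result (G := X)
    rw [Subgroup.mem_centralizer_iff]
    intro f hf
    exact hcomm f hf
  intro h hh h' hh'
  exact ((key h' hh').2 h (key h hh).1)

/-- `O_p(G / O_p(G)) = 1`. -/
theorem pCore_quotient_eq_bot {G : Type*} [Group G] [Finite G] (p : ℕ) [Fact p.Prime]
    [hn : (Cfsg.pCore p G).Normal] : Cfsg.pCore p (G ⧸ Cfsg.pCore p G) = ⊥ := by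
  rw [eq_bot_iff]
  apply sSup_le
  rintro N ⟨hNn, hNp⟩
  haveI := hNn
  have hsurj : Function.Surjective (QuotientGroup.mk' (Cfsg.pCore p G)) :=
    QuotientGroup.mk'_surjective _
  haveI : (N.comap (QuotientGroup.mk' (Cfsg.pCore p G))).Normal := inferInstance
  have hpg : IsPGroup p (N.comap (QuotientGroup.mk' (Cfsg.pCore p G))) := by
    obtain ⟨i, hi⟩ := IsPGroup.iff_card.mp (pCore_isPGroup (G := G) p)
    obtain ⟨j, hj⟩ := IsPGroup.iff_card.mp hNp
    apply IsPGroup.of_card (n := i + j)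
    rw [card_comap_mk', hi, hj, pow_add]
  have h3 : N.comap (QuotientGroup.mk' (Cfsg.pCore p G)) ≤ Cfsg.pCore p G := le_pCore p _ hpg
  intro x hx
  obtain ⟨y, rfl⟩ := hsurj x
  have hy : y ∈ N.comap (QuotientGroup.mk' (Cfsg.pCore p G)) := hx
  have := h3 hy
  rw [Subgroup.mem_bot]
  exact (QuotientGroup.eq_one_iff y).mpr this

theorem forward.{v} {G : Type v} [Group G] [Finite G] {p : ℕ} (hp : p.Prime) (hyp : Hyp p G) :
    ∃ H : Subgroup G, IsMulCommutative H ∧ ¬ p ∣ Nat.card H ∧ ∃ k : ℕ, H.index = p ^ k := by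
  haveI : Fact p.Prime := ⟨hp⟩
  haveI hsolv : Group.IsSolvable G := solvable_of_hyp hp hyp
  obtain ⟨a, m, hm, hGc⟩ := Nat.exists_eq_pow_mul_and_not_dvd (Nat.card_pos (α := G)).ne' p hp.ne_one
  have hmc : m.Coprime p := ((Nat.Prime.coprime_iff_not_dvd hp).mpr hm).symm
  have hGc' : Nat.card G = m * p ^ a := by rw [hGc, mul_comm]
  obtain ⟨H, hH⟩ := Cfsg.Agent.S0003.result (G := G) m (p ^ a) hGc' (Nat.Coprime.pow_right a hmc)
  haveI hOn : (Cfsg.pCore p G).Normal := pCore_normal' p
  -- the quotient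
  obtain ⟨b, hb⟩ := IsPGroup.iff_card.mp (pCore_isPGroup (G := G) p)
  have hba : b ≤ a := by
    have h1 : p ^ b ∣ p ^ a * m := by
      rw [← hb, ← hGc]; exact Subgroup.card_subgroup_dvd_card _
    have h2 : p ^ b ∣ p ^ a := (Nat.Coprime.pow_left b hmc.symm).dvd_of_dvd_mul_right h1
    exact (Nat.pow_dvd_pow_iff_le_right hp.one_lt).mp h2
  have hXc : Nat.card (G ⧸ Cfsg.pCore p G) = p ^ (a - b) * m := by
    have h1 := Subgroup.card_eq_card_quotient_mul_card_subgroup (Cfsg.pCore p G)
    rw [hGc, hb] at h1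
    have h3 : p ^ a = p ^ (a - b) * p ^ b := by rw [← pow_add, Nat.sub_add_cancel hba]
    rw [h3] at h1
    have hpos : 0 < p ^ b := pow_pos hp.pos b
    apply Nat.eq_of_mul_eq_mul_right hpos
    rw [← h1]; ring
  -- the restriction of the quotient map to H is injective
  set φ : H →* G ⧸ Cfsg.pCore p G := (QuotientGroup.mk' (Cfsg.pCore p G)).comp H.subtype with hφ
  have hinj : Function.Injective φ := by
    rw [injective_iff_map_eq_one]
    intro x hx
    have hxO : (x : G) ∈ Cfsg.pCore p G := (QuotientGroup.eq_one_iff _).mp hx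
    have hdisj : H ⊓ Cfsg.pCore p G = ⊥ := by
      apply Disjoint.eq_bot
      apply Subgroup.disjoint_of_coprime_natCard
      rw [hH, hb]
      exact Nat.Coprime.pow_right b hmc
    have hx2 : (x : G) ∈ H ⊓ Cfsg.pCore p G := ⟨x.2, hxO⟩
    rw [hdisj, Subgroup.mem_bot] at hx2
    exact Subtype.ext hx2
  have hcardrange : Nat.card φ.range = m := by
    rw [← hH]
    exact (Nat.card_congr (MonoidHom.ofInjective hinj).toEquiv).symm
  have hcomm := hall_comm hp hXc hm (hyp_quotient hp _ hyp) (pCore_quotient_eq_bot p) φ.range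
    hcardrange
  refine ⟨H, ⟨⟨fun x y => ?_⟩⟩, by rw [hH]; exact hm, a, ?_⟩
  · apply hinj
    rw [map_mul, map_mul]
    exact hcomm _ ⟨x, rfl⟩ _ ⟨y, rfl⟩
  · have h1 := Subgroup.card_mul_index H
    rw [hH, hGc, mul_comm] at h1
    have hmpos : 0 < m := Nat.pos_of_ne_zero (fun h0 => hm (by rw [h0]; exact dvd_zero p))
    exact Nat.eq_of_mul_eq_mul_right hmpos h1

open scoped IsMulCommutative Pointwise in
theorem backward {G : Type*} [Group G] [Finite G] {p : ℕ} (hp : p.Prime)
    (h : ∃ H : Subgroup G, IsMulCommutative H ∧ ¬ p ∣ Nat.card H ∧ ∃ k : ℕ, H.index = p ^ k) :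
    Hyp p G := by
  obtain ⟨H, hHc, hHp, k, hk⟩ := h
  intro x hx
  haveI := hHc
  have hnil : Group.IsNilpotent H := CommGroup.isNilpotent
  have hHcop : (Nat.card H).Coprime p := ((Nat.Prime.coprime_iff_not_dvd hp).mpr hHp).symm
  have hHall : (Nat.card H).Coprime H.index := by
    rw [hk]; exact Nat.Coprime.pow_right k hHcop
  have hK : ∀ r : ℕ, r.Prime → r ∣ Nat.card (Subgroup.zpowers x) → r ∣ Nat.card H := by
    intro r hr hdvd
    rw [Nat.card_zpowers] at hdvd
    have hrp : r ≠ p := by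
      rintro rfl
      exact hr.one_lt.ne' (Nat.Coprime.eq_one_of_dvd hx.symm hdvd)
    have h1 : r ∣ Nat.card H * H.index := by
      rw [Subgroup.card_mul_index]
      exact hdvd.trans (orderOf_dvd_natCard x)
    rcases (Nat.Prime.dvd_mul hr).mp h1 with h2 | h2
    · exact h2
    · rw [hk] at h2
      exact absurd ((Nat.prime_dvd_prime_iff_eq hr hp).mp (hr.dvd_of_dvd_pow h2)) hrp
  obtain ⟨g, hg⟩ := Cfsg.Agent.S0581.result H (Subgroup.zpowers x) hnil hHall hK
  have hxg : x ∈ MulAut.conj g • H := hg (Subgroup.mem_zpowers x)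
  have hle : MulAut.conj g • H ≤ Subgroup.centralizer ({x} : Set G) := by
    intro y hy
    rw [Subgroup.mem_pointwise_smul_iff_inv_smul_mem] at hy hxg
    rw [Subgroup.mem_centralizer_singleton_iff]
    have h1 : (⟨_, hy⟩ : H) * ⟨_, hxg⟩ = ⟨_, hxg⟩ * ⟨_, hy⟩ := mul_comm _ _
    have h2 := congrArg Subtype.val h1
    simp only [Subgroup.coe_mul, MulAut.smul_def, MulAut.inv_apply,
      MulAut.conj_symm_apply] at h2
    have h3 : g⁻¹ * (y * x) * g = g⁻¹ * (x * y) * g := by
      calc g⁻¹ * (y * x) * g = (g⁻¹ * y * g) * (g⁻¹ * x * g) := by group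
        _ = (g⁻¹ * x * g) * (g⁻¹ * y * g) := h2
        _ = g⁻¹ * (x * y) * g := by group
    exact mul_left_cancel (mul_right_cancel h3)
  have hidx : (MulAut.conj g • H).index = H.index := by
    have h1 := Subgroup.card_mul_index (MulAut.conj g • H)
    rw [Cfsg.Agent.Lib.Helper91.card_conj_smul, ← Subgroup.card_mul_index H] at h1
    exact Nat.eq_of_mul_eq_mul_left Nat.card_pos h1
  have hdvd : (Subgroup.centralizer ({x} : Set G)).index ∣ p ^ k := by
    rw [← hk, ← hidx]
    exact Subgroup.index_dvd_of_le hle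
  obtain ⟨j, _, hj⟩ := (Nat.dvd_prime_pow hp).mp hdvd
  exact ⟨j, hj⟩

/-- Let G be a finite group and p a prime. Every conjugacy class of p-regular elements of G (elements of order prime to p) has p-power size if and only if G has an abelian p-complement, i.e. an abelian subgroup of order prime to p and p-power index. -/
theorem result {G : Type*} [Group G] [Finite G] {p : ℕ} (hp : p.Prime) :
    (∀ x : G, (orderOf x).Coprime p → ∃ k : ℕ, (ConjClasses.mk x).carrier.ncard = p ^ k) ↔
    (∃ H : Subgroup G, IsMulCommutative H ∧ ¬ p ∣ Nat.card H ∧ ∃ k : ℕ, H.index = p ^ k) := by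
  have hiff : (∀ x : G, (orderOf x).Coprime p → ∃ k : ℕ, (ConjClasses.mk x).carrier.ncard = p ^ k) ↔
      Hyp p G := by
    unfold Hyp
    simp only [Cfsg.Agent.Lib.Helper67.ncard_carrier_eq_index]
  rw [hiff]
  exact ⟨forward hp, backward hp⟩

end Cfsg.Agent.S4034
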