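import Cfsg.Statements.S4035
import Cfsg.Agent.S4387
import Cfsg.Agent.Lib.Helper32.Burnside

set_option autoImplicit false
open Cfsg

namespace Cfsg.Agent.S4035

section

variable {G : Type*} [Group G] [Finite G] {p : ℕ} [Fact p.Prime]

omit [Finite G] in
theorem index_centralizer (x : G) :
    (Subgroup.centralizer ({x} : Set G)).index = (ConjClasses.mk x).carrier.ncard := by
  have h1 := Subgroup.index_comap_of_surjective (MulAction.stabilizer (ConjAct G) x)
    (f := (ConjAct.toConjAct (G := G)).toMonoidHom) (ConjAct.toConjAct (G := G)).surjective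
  refine (congrArg Subgroup.index (Subgroup.centralizer_eq_comap_stabilizer x)).trans
    (h1.trans ?_)
  rw [MulAction.index_stabilizer, ConjAct.orbit_eq_carrier_conjClasses]

/-- Decomposition of an element into commuting `p`-part and `p'`-part. -/
theorem exists_p_decomp (y : G) :
    ∃ u v : G, u * v = y ∧ Commute u v ∧ (∃ k : ℕ, u ^ p ^ k = 1) ∧ (orderOf v).Coprime p := by
  have hp : p.Prime := Fact.out
  set n := orderOf y with hn
  have hn0 : n ≠ 0 := (orderOf_pos y).ne'
  set k := n.factorization p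
  set a := p ^ k
  set m := n / p ^ k
  have ham : a * m = n := Nat.ordProj_mul_ordCompl_eq_self n p
  have hcop : Nat.Coprime p m := Nat.coprime_ordCompl hp hn0
  have hcop2 : Nat.Coprime a m := Nat.Coprime.pow_left k hcop
  have hbez : (1 : ℤ) = a * Nat.gcdA a m + m * Nat.gcdB a m := by
    have := Nat.gcd_eq_gcd_ab a m
    rw [hcop2] at this
    exact_mod_cast this
  refine ⟨y ^ ((m : ℤ) * Nat.gcdB a m), y ^ ((a : ℤ) * Nat.gcdA a m), ?_, ?_, ⟨k, ?_⟩, ?_⟩
  · rw [← zpow_add, add_comm, ← hbez, zpow_one]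
  · exact Commute.zpow_zpow_self y _ _
  · show (y ^ ((m : ℤ) * Nat.gcdB a m)) ^ a = 1
    rw [← zpow_natCast, ← zpow_mul]
    have : (m : ℤ) * Nat.gcdB a m * (a : ℤ) = (n : ℤ) * Nat.gcdB a m := by
      rw [← ham]; push_cast; ring
    rw [this, zpow_mul, zpow_natCast, hn, pow_orderOf_eq_one, one_zpow]
  · have hv : (y ^ ((a : ℤ) * Nat.gcdA a m)) ^ m = 1 := by
      rw [← zpow_natCast, ← zpow_mul]
      have : (a : ℤ) * Nat.gcdA a m * (m : ℤ) = (n : ℤ) * Nat.gcdA a m := by
        rw [← ham]; push_cast; ring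
      rw [this, zpow_mul, zpow_natCast, hn, pow_orderOf_eq_one, one_zpow]
    exact Nat.Coprime.coprime_dvd_left (orderOf_dvd_of_pow_eq_one hv) hcop.symm

theorem exists_sylow (h : ∀ x : G, (orderOf x).Coprime p → ¬ p ∣ (ConjClasses.mk x).carrier.ncard)
    (u v : G) (huv : Commute u v) (hu : ∃ k : ℕ, u ^ p ^ k = 1) (hv : (orderOf v).Coprime p) :
    ∃ R : Sylow p G, u ∈ R ∧ (R : Subgroup G) ≤ Subgroup.centralizer ({v} : Set G) := by
  set C := Subgroup.centralizer ({v} : Set G) with hCdef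
  have hC : ¬ p ∣ C.index := by rw [index_centralizer]; exact h v hv
  have huC : u ∈ C := by
    rw [hCdef, Subgroup.mem_centralizer_singleton_iff]
    exact huv.eq
  have hU : IsPGroup p (Subgroup.zpowers (⟨u, huC⟩ : C)) := by
    obtain ⟨k, hk⟩ := hu
    rw [IsPGroup.iff_orderOf]
    rintro ⟨x, hx⟩
    obtain ⟨j, rfl⟩ := Subgroup.mem_zpowers_iff.mp hx
    have : ((⟨u, huC⟩ : C) ^ j) ^ p ^ k = 1 := by
      rw [← zpow_natCast, ← zpow_mul, mul_comm, zpow_mul, zpow_natCast]
      have : (⟨u, huC⟩ : C) ^ p ^ k = 1 := by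
        apply Subtype.ext
        simpa using hk
      rw [this, one_zpow]
    have h2 : orderOf (⟨(⟨u, huC⟩ : C) ^ j, hx⟩ : Subgroup.zpowers (⟨u, huC⟩ : C)) ∣ p ^ k := by
      apply orderOf_dvd_of_pow_eq_one
      apply Subtype.ext
      simpa using this
    obtain ⟨i, -, hi⟩ := (Nat.dvd_prime_pow Fact.out).mp h2
    exact ⟨i, hi⟩
  obtain ⟨R₀, hR₀⟩ := hU.exists_le_sylow
  have hpR : IsPGroup p ((R₀ : Subgroup C).map C.subtype) := R₀.2.map C.subtype
  have hR : ¬ p ∣ ((R₀ : Subgroup C).map C.subtype).index := by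
    rw [Subgroup.index_map_subtype]
    exact Nat.Prime.not_dvd_mul Fact.out R₀.not_dvd_index hC
  refine ⟨hpR.toSylow hR, ?_, ?_⟩
  · show u ∈ (R₀ : Subgroup C).map C.subtype
    exact ⟨⟨u, huC⟩, hR₀ (Subgroup.mem_zpowers _), rfl⟩
  · show (R₀ : Subgroup C).map C.subtype ≤ C
    exact Subgroup.map_subtype_le _

theorem sup_centralizer_eq_top
    (h : ∀ x : G, (orderOf x).Coprime p → ¬ p ∣ (ConjClasses.mk x).carrier.ncard) (P : Sylow p G) :
    (P : Subgroup G) ⊔ Subgroup.centralizer ((P : Subgroup G) : Set G) = ⊤ := by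
  by_contra hne
  obtain ⟨y, hy⟩ := Cfsg.Agent.S4387.exists_notMem_conj _ hne
  obtain ⟨u, v, huv, hcomm, hu, hv⟩ := exists_p_decomp (p := p) y
  obtain ⟨R, huR, hRv⟩ := exists_sylow h u v hcomm hu hv
  obtain ⟨g, hg⟩ := MulAction.exists_smul_eq G P R
  apply hy g
  rw [Subgroup.mem_pointwise_smul_iff_inv_smul_mem, ← huv]
  have h1 : (MulAut.conj g)⁻¹ • u ∈ (P : Subgroup G) := by
    rw [← Subgroup.mem_pointwise_smul_iff_inv_smul_mem]
    have : u ∈ ((g • P : Sylow p G) : Subgroup G) := by rw [hg]; exact huR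
    rw [Sylow.smul_def, Sylow.pointwise_smul_def] at this
    exact this
  have h2 : (MulAut.conj g)⁻¹ • v ∈ Subgroup.centralizer ((P : Subgroup G) : Set G) := by
    rw [Subgroup.mem_centralizer_iff]
    intro x hx
    have hx' : g * x * g⁻¹ ∈ (R : Subgroup G) := by
      rw [← hg]
      show g * x * g⁻¹ ∈ ((g • P : Sylow p G) : Subgroup G)
      rw [Sylow.smul_def, Sylow.pointwise_smul_def]
      exact ⟨x, hx, rfl⟩
    have hc := hRv hx'
    rw [Subgroup.mem_centralizer_singleton_iff] at hc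
    simp only [MulAut.smul_def, MulAut.inv_apply, MulAut.conj_symm_apply]
    -- hc : g * x * g⁻¹ * v = v * (g * x * g⁻¹)   (or symmetric)
    have : x * (g⁻¹ * v * g) = g⁻¹ * ((g * x * g⁻¹) * v) * g := by group
    rw [this, hc]
    group
  have : (MulAut.conj g)⁻¹ • (u * v) = ((MulAut.conj g)⁻¹ • u) * ((MulAut.conj g)⁻¹ • v) := by
    simp [MulAut.smul_def]
  rw [this]
  exact Subgroup.mul_mem_sup h1 h2

end

theorem result {G : Type*} [Group G] [Finite G] {p : ℕ} [Fact p.Prime]
    (h : ∀ x : G, (orderOf x).Coprime p → ¬ p ∣ (ConjClasses.mk x).carrier.ncard) (P : Sylow p G) :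
    (P : Subgroup G).Normal ∧ ∃ H : Subgroup G, H.Normal ∧ ¬ p ∣ Nat.card H ∧
      (P : Subgroup G) ⊓ H = ⊥ ∧ (P : Subgroup G) ⊔ H = ⊤ := by
  have htop := sup_centralizer_eq_top h P
  have hPn : (P : Subgroup G).Normal := by
    rw [← Subgroup.normalizer_eq_top_iff, eq_top_iff, ← htop]
    exact sup_le Subgroup.le_normalizer (Subgroup.centralizer_le_normalizer _)
  refine ⟨hPn, ?_⟩
  set C := Subgroup.centralizer ((P : Subgroup G) : Set G) with hCdef
  obtain ⟨S₀⟩ : Nonempty (Sylow p C) := Sylow.nonempty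
  -- S₀ maps into P
  have hS₀P : (S₀ : Subgroup C).map C.subtype ≤ (P : Subgroup G) := by
    obtain ⟨Q, hQ⟩ := (S₀.2.map C.subtype).exists_le_sylow
    obtain ⟨g, hg⟩ := MulAction.exists_smul_eq G P Q
    have : Q = P := by rw [← hg]; exact Sylow.smul_eq_of_normal
    rw [← this]; exact hQ
  have hS₀c : (S₀ : Subgroup C) ≤ Subgroup.center C := by
    intro s hs
    rw [Subgroup.mem_center_iff]
    intro c
    apply Subtype.ext
    have hsP : (s : G) ∈ (P : Subgroup G) := hS₀P ⟨s, hs, rfl⟩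
    have hc : (c : G) ∈ Subgroup.centralizer ((P : Subgroup G) : Set G) := c.2
    rw [Subgroup.mem_centralizer_iff] at hc
    simpa using (hc _ hsP).symm
  obtain ⟨K, hKn, hKc, hKS, -⟩ :=
    Cfsg.Agent.Lib.Helper32.exists_normal_pComplement_of_le_center S₀ hS₀c
  refine ⟨K.map C.subtype, ?_, ?_, ?_, ?_⟩
  · -- normal
    rw [← Subgroup.normalizer_eq_top_iff, eq_top_iff, ← htop]
    refine sup_le ?_ ?_
    · refine le_trans ?_ (Subgroup.centralizer_le_normalizer _)
      rw [← Subgroup.le_centralizer_iff]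
      exact Subgroup.map_subtype_le _
    · have := Subgroup.le_normalizer_map (H := K) C.subtype
      rw [Subgroup.normalizer_eq_top_iff.mpr hKn, ← MonoidHom.range_eq_map, Subgroup.range_subtype] at this
      exact this
  · rw [Subgroup.card_map_of_injective C.subtype_injective]
    intro hdvd
    have := Nat.Coprime.eq_one_of_dvd hKc.symm hdvd
    exact (Fact.out : p.Prime).one_lt.ne' this
  · apply disjoint_iff.mp
    apply Subgroup.disjoint_of_coprime_natCard
    rw [Subgroup.card_map_of_injective C.subtype_injective]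
    obtain ⟨n, hn⟩ := IsPGroup.iff_card.mp P.2
    rw [hn]
    exact Nat.Coprime.pow_left n hKc.symm
  · rw [eq_top_iff, ← htop]
    refine sup_le le_sup_left ?_
    have : C = ((K ⊔ (S₀ : Subgroup C)).map C.subtype) := by
      rw [hKS, ← MonoidHom.range_eq_map, Subgroup.range_subtype]
    have h2 : ((K ⊔ (S₀ : Subgroup C)).map C.subtype) ≤
        (P : Subgroup G) ⊔ Subgroup.map C.subtype K := by
      rw [Subgroup.map_sup]
      exact sup_le le_sup_right (hS₀P.trans le_sup_left)
    exact this.le.trans h2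

end Cfsg.Agent.S4035
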