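import Cfsg.Statements.S4036

set_option autoImplicit false
open Cfsg

namespace Cfsg.Agent.S4036

/-- An automorphism of `p`-power order has a nontrivial fixed point on a nontrivial invariant
`p`-subgroup. -/
theorem exists_fixed_ne_one {P : Type*} [Group P] [Finite P] {p : ℕ} [Fact p.Prime]
    (a : MulAut P) (ha : a ^ p = 1) (W : Subgroup P) (hW : IsPGroup p W) (hWne : W ≠ ⊥)
    (hinv : ∀ w ∈ W, a w ∈ W) : ∃ w ∈ W, w ≠ 1 ∧ a w = w := by
  classical
  have : Fintype W := Fintype.ofFinite W
  let f : Function.End W := fun w => ⟨a w, hinv w w.2⟩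
  have hfpow : ∀ k : ℕ, ∀ w : W, ((f ^ k) w : P) = (a ^ k) w := by
    intro k
    induction k with
    | zero => intro w; rfl
    | succ k ih =>
      intro w
      rw [pow_succ', pow_succ']
      show ((f ((f ^ k) w) : W) : P) = a ((a ^ k) w)
      rw [← ih w]
  have hf : f ^ p ^ 1 = 1 := by
    funext w
    apply Subtype.ext
    rw [pow_one, hfpow, ha]
    rfl
  have hmod := Equiv.Perm.card_fixedPoints_modEq (p := p) (n := 1) hf
  have hnt : Nontrivial W := (Subgroup.nontrivial_iff_ne_bot W).mpr hWne
  obtain ⟨k, hk0, hk⟩ := hW.nontrivial_iff_card.mp hnt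
  rw [Nat.card_eq_fintype_card] at hk
  have hpW : p ∣ Fintype.card W := by rw [hk]; exact dvd_pow_self p hk0.ne'
  have hpF : p ∣ Fintype.card (Function.fixedPoints f) :=
    (Nat.modEq_zero_iff_dvd.mp (hmod.symm.trans (Nat.modEq_zero_iff_dvd.mpr hpW)))
  have h1 : (1 : W) ∈ Function.fixedPoints f := by
    show f 1 = 1
    apply Subtype.ext
    show a 1 = 1
    exact map_one a
  have hcard : 1 < Fintype.card (Function.fixedPoints f) := by
    have hpos : 0 < Fintype.card (Function.fixedPoints f) := Fintype.card_pos_iff.mpr ⟨⟨1, h1⟩⟩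
    have := Nat.le_of_dvd hpos hpF
    have := (Fact.out : p.Prime).two_le
    omega
  obtain ⟨⟨w, hw⟩, hne⟩ := Fintype.exists_ne_of_one_lt_card hcard ⟨1, h1⟩
  refine ⟨w, w.2, ?_, ?_⟩
  · intro h
    apply hne
    apply Subtype.ext
    apply Subtype.ext
    exact h
  · have : f w = w := hw
    exact congrArg Subtype.val this

/-- Let P be a finite abelian p-group and K a group of automorphisms of P (a subgroup of Aut P) whose order is divisible by p. If all non-identity elements of K have the same fixed-point subgroup on P, then K has no non-trivial normal subgroup of order prime to p. -/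
theorem result {P : Type*} [CommGroup P] [Finite P] {p : ℕ}
    [Fact p.Prime] (hP : IsPGroup p P) (K : Subgroup (MulAut P)) (hK : p ∣ Nat.card K)
    (hfix : ∀ x y : MulAut P, x ∈ K → y ∈ K → x ≠ 1 → y ≠ 1 → ∀ v : P, x v = v ↔ y v = v) :
    ∀ N : Subgroup ↥K, N.Normal → ¬ p ∣ Nat.card N → N = ⊥ := by
  intro N hN hpN
  by_contra hne
  obtain ⟨⟨n0, hn0N⟩, hn01⟩ := (Subgroup.ne_bot_iff_exists_ne_one).mp hne
  have hMfin : Finite (MulAut P) :=
    Finite.of_injective (fun f : MulAut P => (f : P → P)) DFunLike.coe_injective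
  obtain ⟨a, ha⟩ := exists_prime_orderOf_dvd_card' p hK
  have : Fintype N := Fintype.ofFinite N
  -- the averaging homomorphism
  let θ : P →* P := ∏ n : N, (((n : K) : MulAut P).toMonoidHom)
  have hθ : ∀ v : P, θ v = ∏ n : N, ((n : K) : MulAut P) v := by
    intro v
    show (∏ n : N, (((n : K) : MulAut P).toMonoidHom)) v = _
    rw [MonoidHom.finsetProd_apply]
    rfl
  -- equivariance
  have hequiv : ∀ k : K, ∀ v : P, θ ((k : MulAut P) v) = (k : MulAut P) (θ v) := by
    intro k v
    rw [hθ, hθ, map_prod]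
    symm
    apply Fintype.prod_equiv (MulAut.conjNormal k : N ≃* N).toEquiv
    intro n
    show (k : MulAut P) (((n : K) : MulAut P) v) =
      (((MulAut.conjNormal k n : N) : K) : MulAut P) ((k : MulAut P) v)
    rw [MulAut.conjNormal_apply]
    simp [MulAut.mul_apply]
  have hinvN : ∀ n : N, ∀ v : P, θ (((n : K) : MulAut P) v) = θ v := by
    intro n v
    rw [hθ, hθ]
    apply Fintype.prod_equiv (Equiv.mulRight n)
    intro m
    simp [MulAut.mul_apply]
  have hfixN : ∀ v : P, (∀ n : N, ((n : K) : MulAut P) v = v) → θ v = v ^ Nat.card N := by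
    intro v hv
    rw [hθ, Finset.prod_congr rfl (fun n _ => hv n), Finset.prod_const, Finset.card_univ,
      Nat.card_eq_fintype_card]
  have ha1 : (a : MulAut P) ≠ 1 := by
    intro h
    have : a = 1 := Subtype.ext h
    rw [this, orderOf_one] at ha
    exact (Fact.out : p.Prime).ne_one ha.symm
  have hap : (a : MulAut P) ^ p = 1 := by
    have := pow_orderOf_eq_one a
    rw [ha] at this
    have := congrArg Subtype.val this
    simpa using this
  have hker : θ.ker = ⊥ := by
    by_contra hWne
    obtain ⟨w, hwW, hw1, hwa⟩ := exists_fixed_ne_one (a : MulAut P) hap θ.ker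
      (hP.to_subgroup _) hWne (fun w hw => by
        rw [MonoidHom.mem_ker] at hw ⊢
        rw [hequiv a w, hw, map_one])
    have hall : ∀ n : N, ((n : K) : MulAut P) w = w := by
      intro n
      by_cases hn1 : ((n : K) : MulAut P) = 1
      · rw [hn1]; rfl
      · exact (hfix a (n : K) a.2 (n : K).2 ha1 hn1 w).mp hwa
    have h1 := hfixN w hall
    rw [MonoidHom.mem_ker.mp hwW] at h1
    obtain ⟨k, hk⟩ := hP w
    have hd1 : orderOf w ∣ Nat.card N := orderOf_dvd_of_pow_eq_one h1.symm
    have hd2 : orderOf w ∣ p ^ k := orderOf_dvd_of_pow_eq_one hk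
    have hcop : Nat.Coprime (Nat.card N) (p ^ k) :=
      Nat.Coprime.pow_right k ((Nat.Prime.coprime_iff_not_dvd Fact.out).mpr hpN).symm
    have := Nat.eq_one_of_dvd_coprimes hcop hd1 hd2
    exact hw1 (orderOf_eq_one_iff.mp this)
  apply hn01
  apply Subtype.ext
  apply Subtype.ext
  apply MulEquiv.ext
  intro v
  have := hinvN ⟨n0, hn0N⟩ v
  have hinj : Function.Injective θ := (MonoidHom.ker_eq_bot_iff θ).mp hker
  exact hinj this

end Cfsg.Agent.S4036
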