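import Cfsg.Statements.S4039
import Cfsg.Agent.Lib.Helper86.NilpMax
import Cfsg.Agent.Lib.Helper35.HallFusion
import Cfsg.Agent.Lib.Helper24.SylowInv
import Cfsg.Agent.Lib.Helper24.InvCompl

set_option autoImplicit false
open Cfsg

namespace Cfsg.Agent.S4039

open scoped commutatorElement

universe u

/-- class at most two, elementwise -/
def Cl2 {G : Type*} [Group G] (M : Subgroup G) : Prop :=
  ∀ a ∈ M, ∀ b ∈ M, ∀ c ∈ M, ⁅a, b⁆ * c = c * ⁅a, b⁆

theorem cl2_of_class {G : Type*} [Group G] (M : Subgroup G) (hnil : Group.IsNilpotent M)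
    (hcl : Group.nilpotencyClass ↥M ≤ 2) : Cl2 M := by
  have h1 : Subgroup.lowerCentralSeries (⊤ : Subgroup M) 2 = ⊥ :=
    Subgroup.lowerCentralSeries_eq_bot_iff_nilpotencyClass_le.mpr hcl
  intro a ha b hb c hc
  have h2 : ⁅⁅(⟨a, ha⟩ : M), (⟨b, hb⟩ : M)⁆, (⟨c, hc⟩ : M)⁆ ∈
      Subgroup.lowerCentralSeries (⊤ : Subgroup M) 2 := by
    show _ ∈ ⁅⁅(⊤ : Subgroup M), ⊤⁆, ⊤⁆
    exact Subgroup.commutator_mem_commutator
      (Subgroup.commutator_mem_commutator (Subgroup.mem_top _) (Subgroup.mem_top _))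
      (Subgroup.mem_top _)
  rw [h1, Subgroup.mem_bot] at h2
  have h3 : ⁅⁅a, b⁆, c⁆ = 1 := by
    have := congrArg Subtype.val h2
    simpa [commutatorElement_def] using this
  rw [commutatorElement_def] at h3
  calc ⁅a, b⁆ * c = (⁅a, b⁆ * c * ⁅a, b⁆⁻¹ * c⁻¹) * c * ⁅a, b⁆ := by group
    _ = c * ⁅a, b⁆ := by rw [h3, one_mul]

theorem nilp_of_cl2 {G : Type*} [Group G] (M : Subgroup G) (h : Cl2 M) : Group.IsNilpotent M := by
  refine ⟨⟨2, ?_⟩⟩
  rw [eq_top_iff]
  intro x _
  rw [Subgroup.mem_upperCentralSeries_succ_iff]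
  intro y
  rw [Subgroup.upperCentralSeries_one, Subgroup.mem_center_iff]
  intro c
  have := h x x.2 y y.2 c c.2
  apply Subtype.ext
  simpa [commutatorElement_def] using this.symm

/-- `p`-elements of a finite nilpotent group lie in any Sylow `p`-subgroup. -/
theorem pelem_mem_sylow {M : Type*} [Group M] [Finite M] [Group.IsNilpotent M] {p : ℕ}
    [Fact p.Prime] (P : Sylow p M) {x : M} {k : ℕ} (hk : x ^ p ^ k = 1) : x ∈ (P : Subgroup M) := by
  have h1 : IsPGroup p (Subgroup.zpowers x) := by
    rintro ⟨y, hy⟩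
    obtain ⟨n, rfl⟩ := Subgroup.mem_zpowers_iff.mp hy
    refine ⟨k, ?_⟩
    apply Subtype.ext
    show (x ^ n) ^ p ^ k = 1
    rw [← zpow_natCast, ← zpow_mul, mul_comm, zpow_mul, zpow_natCast, hk, one_zpow]
  have h3 : IsPGroup p ((Subgroup.zpowers x ⊔ (P : Subgroup M) : Subgroup M)) :=
    IsPGroup.to_sup_of_normal_right h1 P.2
  have h4 := P.is_maximal' h3 le_sup_right
  rw [← h4]
  exact (le_sup_left : Subgroup.zpowers x ≤ _) (Subgroup.mem_zpowers x)

/-- In a finite nilpotent group every element acts on a Sylow `p`-subgroup as an element of it. -/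
theorem inner_on_sylow {M : Type*} [Group M] [Finite M] [Group.IsNilpotent M] {p : ℕ}
    [hp : Fact p.Prime] (P : Sylow p M) (m : M) :
    ∃ u ∈ (P : Subgroup M), ∀ x ∈ (P : Subgroup M), m⁻¹ * x * m = u⁻¹ * x * u := by
  have hn : orderOf m ≠ 0 := (orderOf_pos m).ne'
  obtain ⟨k, r, hr, hkr⟩ := Nat.exists_eq_pow_mul_and_not_dvd hn p hp.out.ne_one
  have hcop : Nat.Coprime (p ^ k) r :=
    Nat.Coprime.pow_left k ((Nat.Prime.coprime_iff_not_dvd hp.out).mpr hr)
  have hb := Nat.gcd_eq_gcd_ab (p ^ k) r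
  rw [hcop.gcd_eq_one] at hb
  set A := Nat.gcdA (p ^ k) r
  set B := Nat.gcdB (p ^ k) r
  set v : M := m ^ ((p ^ k : ℕ) * A : ℤ) with hv
  set w : M := m ^ ((r : ℤ) * B) with hw
  have hm : m = v * w := by
    rw [hv, hw, ← zpow_add, ← hb]
    simp
  have hmord : m ^ ((p ^ k * r : ℕ) : ℤ) = 1 := by
    rw [zpow_natCast, ← hkr, pow_orderOf_eq_one]
  have hvr : v ^ r = 1 := by
    rw [hv, ← zpow_natCast, ← zpow_mul]
    have e : ((p ^ k : ℕ) : ℤ) * A * (r : ℤ) = ((p ^ k * r : ℕ) : ℤ) * A := by push_cast; ring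
    rw [e, zpow_mul, hmord, one_zpow]
  have hwp : w ^ p ^ k = 1 := by
    rw [hw, ← zpow_natCast, ← zpow_mul]
    have e : (r : ℤ) * B * ((p ^ k : ℕ) : ℤ) = ((p ^ k * r : ℕ) : ℤ) * B := by push_cast; ring
    rw [e, zpow_mul, hmord, one_zpow]
  refine ⟨w, pelem_mem_sylow P hwp, ?_⟩
  intro x hx
  obtain ⟨j, hj⟩ := P.2 ⟨x, hx⟩
  have hxj : x ^ p ^ j = 1 := congrArg Subtype.val hj
  have hcomm : Commute v x :=
    Cfsg.Agent.Lib.Helper35.commute_of_coprime_of_isNilpotent M v x r (p ^ j) hvr hxj
      (Nat.Coprime.pow_right j ((Nat.Prime.coprime_iff_not_dvd hp.out).mpr hr).symm)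
  rw [hm]
  calc (v * w)⁻¹ * x * (v * w) = w⁻¹ * (v⁻¹ * (x * v)) * w := by group
    _ = w⁻¹ * (v⁻¹ * (v * x)) * w := by rw [hcomm.eq]
    _ = w⁻¹ * x * w := by group

/-- The hypothesis package for a prime dividing `|M|`. -/
theorem exists_hyp {G : Type u} [Group G] [Finite G] (M : Subgroup G) (hcl : Cl2 M)
    (hF1 : ∀ Q : Subgroup G, Q ≠ ⊥ → Q ≤ M → M ≤ Subgroup.normalizer (Q : Set G) →
      Subgroup.normalizer (Q : Set G) ≤ M)
    {p : ℕ} [hp : Fact p.Prime] (hpM : p ∣ Nat.card M) :
    ∃ P : Sylow p G, Cfsg.Agent.Lib.Helper86.NilpMax.Hyp M P := by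
  haveI := nilp_of_cl2 M hcl
  let P₀ : Sylow p M := default
  set P₁ : Subgroup G := (P₀ : Subgroup M).map M.subtype with hP₁
  have hP₁M : P₁ ≤ M := by
    rintro _ ⟨x, _, rfl⟩
    exact x.2
  have hP₁1 : P₁ ≠ ⊥ := by
    rw [hP₁, Ne, Subgroup.map_eq_bot_iff_of_injective _ M.subtype_injective]
    exact P₀.ne_bot_of_dvd_card hpM
  have hMN : M ≤ Subgroup.normalizer (P₁ : Set G) := by
    have h1 := Subgroup.le_normalizer_map M.subtype (H := (P₀ : Subgroup M))
    rw [Subgroup.normalizer_eq_top, ← MonoidHom.range_eq_map, Subgroup.range_subtype] at h1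
    exact h1
  have hNM := hF1 P₁ hP₁1 hP₁M hMN
  have hPp : IsPGroup p P₁ := P₀.2.map _
  have hidx : ¬ p ∣ P₁.index := by
    intro hdvd
    obtain ⟨n, hn⟩ := IsPGroup.iff_card.mp hPp
    have h1 : p ^ (n + 1) ∣ Nat.card G := by
      rw [← Subgroup.card_mul_index P₁, hn, pow_succ]
      exact mul_dvd_mul_left _ hdvd
    have h2 := Sylow.prime_pow_dvd_card_normalizer h1 hn
    have h3 : Subgroup.normalizer (P₁ : Set G) = M := le_antisymm hNM hMN
    rw [h3] at h2
    have h4 : Nat.card (P₀ : Subgroup M) = p ^ n := by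
      rw [← hn]
      exact Nat.card_congr (Subgroup.equivMapOfInjective _ _ M.subtype_injective).toEquiv
    have h5 := P₀.card_eq_multiplicity
    rw [h4] at h5
    have h6 : n = (Nat.card M).factorization p := Nat.pow_right_injective hp.out.two_le h5
    exact Nat.pow_succ_factorization_not_dvd (Nat.card_pos.ne') hp.out (h6 ▸ h2)
  refine ⟨hPp.toSylow hidx, ?_⟩
  have hcoe : ((hPp.toSylow hidx : Sylow p G) : Subgroup G) = P₁ := IsPGroup.toSylow_coe hPp hidx
  constructor
  · rw [hcoe]; exact hP₁M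
  · rw [hcoe]; exact hP₁1
  · exact hF1
  · rw [hcoe]
    intro m hm
    obtain ⟨u, hu, hux⟩ := inner_on_sylow P₀ ⟨m, hm⟩
    refine ⟨(u : G), ⟨u, hu, rfl⟩, ?_⟩
    rintro _ ⟨x, hx, rfl⟩
    have := hux x hx
    exact congrArg Subtype.val this
  · rw [hcoe]
    intro a ha b hb c hc
    exact hcl a (hP₁M ha) b (hP₁M hb) c (hP₁M hc)

theorem exists_derived_le {G : Type*} [Group G] (N : Subgroup G) [N.Normal]
    (h : Group.IsSolvable (G ⧸ N)) : ∃ n, derivedSeries G n ≤ N := by
  obtain ⟨n, hn⟩ := (Group.isSolvable_def _).mp h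
  refine ⟨n, ?_⟩
  have h1 := map_derivedSeries_eq (f := QuotientGroup.mk' N) (QuotientGroup.mk'_surjective N) n
  rw [hn] at h1
  have h2 := (Subgroup.map_eq_bot_iff _).mp h1
  rwa [QuotientGroup.ker_mk'] at h2

theorem exists_derived_le_finset {G : Type*} [Group G] {ι : Type*} (S : Finset ι)
    (N : ι → Subgroup G) (h : ∀ i ∈ S, ∃ n, derivedSeries G n ≤ N i) :
    ∃ n, ∀ i ∈ S, derivedSeries G n ≤ N i := by
  classical
  induction S using Finset.induction_on with
  | empty => exact ⟨0, by simp⟩
  | insert a S ha ih =>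
    obtain ⟨n₁, h₁⟩ := ih (fun i hi => h i (Finset.mem_insert_of_mem hi))
    obtain ⟨n₂, h₂⟩ := h a (Finset.mem_insert_self a S)
    refine ⟨max n₁ n₂, ?_⟩
    intro i hi
    rcases Finset.mem_insert.mp hi with rfl | hi
    · exact (derivedSeries_antitone G (le_max_right n₁ n₂)).trans h₂
    · exact (derivedSeries_antitone G (le_max_left n₁ n₂)).trans (h₁ i hi)

theorem coatom_map {G : Type*} [Group G] (M C : Subgroup G) [C.Normal] (hC : C ≤ M)
    (hM : IsCoatom M) : IsCoatom (M.map (QuotientGroup.mk' C)) := by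
  constructor
  · intro htop
    apply hM.1
    have := congrArg (Subgroup.comap (QuotientGroup.mk' C)) htop
    rw [Subgroup.comap_map_eq, QuotientGroup.ker_mk', sup_eq_left.mpr hC, Subgroup.comap_top]
      at this
    exact this
  · intro L hL
    have h1 : M < L.comap (QuotientGroup.mk' C) := by
      have hle : M ≤ L.comap (QuotientGroup.mk' C) := by
        rw [← Subgroup.map_le_iff_le_comap]; exact hL.le
      refine lt_of_le_of_ne hle ?_
      intro heq
      apply hL.ne
      rw [heq, Subgroup.map_comap_eq_self_of_surjective (QuotientGroup.mk'_surjective C)]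
    have h2 := hM.2 _ h1
    rw [← Subgroup.map_comap_eq_self_of_surjective (QuotientGroup.mk'_surjective C) L, h2,
      Subgroup.map_top_of_surjective _ (QuotientGroup.mk'_surjective C)]

theorem main : ∀ (n : ℕ) (G : Type u) [Group G] [Finite G], Nat.card G = n →
    ∀ M : Subgroup G, IsCoatom M → Cl2 M → Group.IsSolvable G := by
  intro n
  induction n using Nat.strong_induction_on with
  | _ n ih =>
  intro G _ _ hn M hM hcl
  haveI hMnil := nilp_of_cl2 M hcl
  by_cases hcore : M.normalCore = ⊥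
  · -- core-free
    have hF1 : ∀ Q : Subgroup G, Q ≠ ⊥ → Q ≤ M → M ≤ Subgroup.normalizer (Q : Set G) →
        Subgroup.normalizer (Q : Set G) ≤ M := by
      intro Q hQ1 hQM hMN
      rcases hM.le_iff.mp hMN with h | h
      · exfalso
        apply hQ1
        haveI : Q.Normal := Subgroup.normalizer_eq_top_iff.mp h
        have := (Subgroup.normal_le_normalCore (H := M) (N := Q)).mpr hQM
        rw [hcore] at this
        exact le_bot_iff.mp this
      · exact h.le
    have hres : ∀ p : ℕ, p.Prime → p ∣ Nat.card M →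
        ¬ p ∣ Nat.card (Cfsg.pResidual p G) := by
      intro p hp hpM
      haveI : Fact p.Prime := ⟨hp⟩
      obtain ⟨P, hP⟩ := exists_hyp M hcl hF1 hpM
      exact Cfsg.Agent.Lib.Helper86.NilpMax.not_dvd_card_pResidual hP
    set K : Subgroup G := ⨅ p ∈ (Nat.card M).primeFactors, Cfsg.pResidual p G with hK
    haveI hKn : K.Normal := by
      rw [hK]
      apply Subgroup.normal_iInf_normal; intro p
      apply Subgroup.normal_iInf_normal; intro _
      exact Cfsg.Agent.Lib.Helper2.pResidual_normal p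
    have hKle : ∀ p ∈ (Nat.card M).primeFactors, K ≤ Cfsg.pResidual p G :=
      fun p hp => iInf₂_le p hp
    have hKM : K ⊓ M = ⊥ := by
      rw [eq_bot_iff]
      rintro x ⟨hxK, hxM⟩
      rw [Subgroup.mem_bot]
      by_contra hx1
      have ho : orderOf x ≠ 1 := by rwa [Ne, orderOf_eq_one_iff]
      set p := (orderOf x).minFac
      have hp : p.Prime := Nat.minFac_prime ho
      have hpx : p ∣ orderOf x := Nat.minFac_dvd _
      have hpM : p ∣ Nat.card M := by
        have : orderOf (⟨x, hxM⟩ : M) ∣ Nat.card M := orderOf_dvd_natCard _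
        rw [Subgroup.orderOf_mk] at this
        exact hpx.trans this
      have hmem : p ∈ (Nat.card M).primeFactors :=
        Nat.mem_primeFactors.mpr ⟨hp, hpM, Nat.card_pos.ne'⟩
      have hxR := hKle p hmem hxK
      apply hres p hp hpM
      have : orderOf (⟨x, hxR⟩ : Cfsg.pResidual p G) ∣ Nat.card (Cfsg.pResidual p G) :=
        orderOf_dvd_natCard _
      rw [Subgroup.orderOf_mk] at this
      exact hpx.trans this
    obtain ⟨d, hd⟩ := exists_derived_le_finset (Nat.card M).primeFactors
      (fun p => Cfsg.pResidual p G) (by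
        intro p hp
        haveI : Fact p.Prime := ⟨(Nat.mem_primeFactors.mp hp).1⟩
        haveI := Cfsg.Agent.Lib.Helper2.pResidual_normal (G := G) p
        apply exists_derived_le
        have hQ := Cfsg.Agent.Lib.Helper2.isPGroup_quotient_pResidual (G := G) p
        haveI := hQ.isNilpotent
        infer_instance)
    have hdK : derivedSeries G d ≤ K := by
      rw [hK]; exact le_iInf₂ hd
    haveI hGK : Group.IsSolvable (G ⧸ K) := by
      refine ⟨⟨d, ?_⟩⟩
      rw [← map_derivedSeries_eq (f := QuotientGroup.mk' K) (QuotientGroup.mk'_surjective K) d,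
        Subgroup.map_eq_bot_iff, QuotientGroup.ker_mk']
      exact hdK
    haveI hKsolv : Group.IsSolvable K := by
      by_cases hK1 : Nat.card K = 1
      · haveI : Subsingleton K := (Nat.card_eq_one_iff_unique.mp hK1).1
        infer_instance
      · set q := (Nat.card K).minFac
        have hq : q.Prime := Nat.minFac_prime hK1
        haveI : Fact q.Prime := ⟨hq⟩
        have hqK : q ∣ Nat.card K := Nat.minFac_dvd _
        have hcop : (Nat.card M).Coprime (Nat.card K) := by
          apply Nat.coprime_of_dvd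
          intro p hp hpM hpK
          apply hres p hp hpM
          exact hpK.trans (Subgroup.card_dvd_of_le
            (hKle p (Nat.mem_primeFactors.mpr ⟨hp, hpM, Nat.card_pos.ne'⟩)))
        have hMK : M ≤ Subgroup.normalizer (K : Set G) := by
          rw [Subgroup.normalizer_eq_top]; exact le_top
        obtain ⟨Q₀, hQ₀⟩ := Cfsg.Agent.Lib.Helper24.exists_invariant_sylow (p := q) M K hMK hcop
          (Or.inl inferInstance)
        set Q : Subgroup G := (Q₀ : Subgroup K).map K.subtype with hQ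
        have hQK : Q ≤ K := by
          rintro _ ⟨x, _, rfl⟩
          exact x.2
        have hQ1 : Q ≠ ⊥ := by
          rw [hQ, Ne, Subgroup.map_eq_bot_iff_of_injective _ K.subtype_injective]
          exact Q₀.ne_bot_of_dvd_card hqK
        have hQM : ¬ Q ≤ M := by
          intro h
          apply hQ1
          rw [eq_bot_iff, ← hKM]
          exact le_inf hQK h
        have htop : M ⊔ Q = ⊤ := by
          rcases hM.le_iff.mp (le_sup_left : M ≤ M ⊔ Q) with h | h
          · exact h
          · exfalso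
            apply hQM
            rw [← h]
            exact le_sup_right
        have hKQ : K ≤ Q := by
          intro k hk
          obtain ⟨a, ha, b, hb, hab⟩ :=
            Cfsg.Agent.Lib.Helper24.exists_mul_of_mem_sup_of_le_normalizer M Q hQ₀ k
              (by rw [htop]; trivial)
          have ha1 : a ∈ K ⊓ M := by
            refine Subgroup.mem_inf.mpr ⟨?_, ha⟩
            have : a = k * b⁻¹ := by rw [hab]; group
            rw [this]
            exact K.mul_mem hk (K.inv_mem (hQK hb))
          rw [hKM, Subgroup.mem_bot] at ha1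
          rw [hab, ha1, one_mul]
          exact hb
        have hpK : IsPGroup q K := by
          have : IsPGroup q Q := Q₀.2.map _
          exact this.to_le hKQ
        haveI := hpK.isNilpotent
        infer_instance
    exact Group.isSolvable_of_ker_le_range K.subtype (QuotientGroup.mk' K) (by simp)
  · -- nontrivial core
    set C := M.normalCore with hC
    haveI : C.Normal := Subgroup.normalCore_normal M
    have hCM : C ≤ M := Subgroup.normalCore_le M
    have hlt : Nat.card (G ⧸ C) < n := by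
      rw [← hn, ← Subgroup.index_eq_card, ← Subgroup.card_mul_index C]
      have h1 : 1 < Nat.card C := by
        rw [Subgroup.one_lt_card_iff_ne_bot]; exact hcore
      have h2 : 0 < C.index := Nat.pos_of_ne_zero Subgroup.index_ne_zero_of_finite
      nlinarith
    have hcl' : Cl2 (M.map (QuotientGroup.mk' C)) := by
      rintro _ ⟨a, ha, rfl⟩ _ ⟨b, hb, rfl⟩ _ ⟨c, hc, rfl⟩
      have := hcl a ha b hb c hc
      rw [← map_commutatorElement, ← map_mul, ← map_mul, this]
    haveI := ih _ hlt (G ⧸ C) rfl _ (coatom_map M C hCM hM) hcl'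
    haveI : Group.IsSolvable C := by
      haveI : Group.IsSolvable M := inferInstance
      exact Group.isSolvable_of_isSolvable_injective (Subgroup.inclusion_injective hCM)
    exact Group.isSolvable_of_ker_le_range C.subtype (QuotientGroup.mk' C) (by simp)

/-- A finite group possessing a maximal subgroup that is nilpotent of class at most 2 is solvable. -/
theorem result {G : Type*} [Group G] [Finite G]
    (M : Subgroup G) (hmax : IsCoatom M) (hnil : Group.IsNilpotent M) (hcl : Group.nilpotencyClass ↥M ≤ 2) :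
    Group.IsSolvable G := by
  exact main _ G rfl M hmax (cl2_of_class M hnil hcl)

end Cfsg.Agent.S4039
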