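import Cfsg.Statements.S4043
import Cfsg.Agent.Lib.Helper24.RelSZ
import Cfsg.Agent.Lib.Helper32.PGroupCenter

set_option autoImplicit false
open Cfsg

namespace Cfsg.Agent.S4043

open Subgroup
open scoped Pointwise
open Cfsg.Agent.Lib.Helper33 Cfsg.Agent.Lib.Helper24 Cfsg.Agent.Lib.Helper32

variable {G : Type*} [Group G]

/-- An element whose order is coprime to the index of a normal subgroup lies in it. -/
theorem mem_of_orderOf_coprime_index (H : Subgroup G) [H.Normal] (g : G)
    (h : (orderOf g).Coprime H.index) : g ∈ H := by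
  rw [← QuotientGroup.eq_one_iff (N := H), ← orderOf_eq_one_iff]
  have h1 : orderOf (g : G ⧸ H) ∣ orderOf g := orderOf_map_dvd (QuotientGroup.mk' H) g
  have h2 : orderOf (g : G ⧸ H) ∣ H.index := by
    rw [Subgroup.index_eq_card]; exact orderOf_dvd_natCard _
  have h3 := Nat.dvd_gcd h1 h2
  rw [Nat.Coprime.gcd_eq_one h] at h3
  exact Nat.dvd_one.mp h3

/-- The data of a normal `p`-complement of a subgroup `A`, expressed inside `G`. -/
theorem npc_data [Finite G] {p : ℕ} [Fact p.Prime] (A : Subgroup G)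
    (h : Cfsg.HasNormalPComplement p A) :
    ∃ K P : Subgroup G, K ≤ A ∧ P ≤ A ∧ A ≤ normalizer (K : Set G) ∧ IsPGroup p P ∧
      ¬ p ∣ Nat.card K ∧ K ⊔ P = A ∧ Nat.card A = Nat.card K * Nat.card P := by
  obtain ⟨P', K', hK'n, hK'c⟩ := h
  refine ⟨K'.map A.subtype, (P' : Subgroup A).map A.subtype, map_subtype_le _, map_subtype_le _,
    ?_, ?_, ?_, ?_, ?_⟩
  · have h1 := Subgroup.le_normalizer_map (H := K') A.subtype
    rw [normalizer_eq_top_iff.mpr hK'n, ← MonoidHom.range_eq_map, Subgroup.range_subtype] at h1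
    exact h1
  · exact P'.isPGroup'.map A.subtype
  · rw [card_map_of_injective A.subtype_injective, ← hK'c.index_eq_card]
    exact P'.not_dvd_index
  · rw [← Subgroup.map_sup, hK'c.sup_eq_top, ← MonoidHom.range_eq_map, Subgroup.range_subtype]
  · rw [card_map_of_injective A.subtype_injective, card_map_of_injective A.subtype_injective,
      hK'c.card_mul_card]

/-- If `A = K P` complements the normal `p`-subgroup `N`, with `K` a normal `p'`-subgroup of `A` and
`P` a `p`-group, and `C_N(A) = 1`, then `N ∩ N_G(K) = 1`. -/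
theorem inf_normalizer_eq_bot [Finite G] {p : ℕ} [Fact p.Prime] (N : Subgroup G) [N.Normal]
    (hN : IsPGroup p N) (A K P : Subgroup G) (hPA : P ≤ A)
    (hAK : A ≤ normalizer (K : Set G)) (hPp : IsPGroup p P) (hKp : ¬ p ∣ Nat.card K)
    (hKP : K ⊔ P = A)
    (hC : ∀ n : G, n ∈ N → (∀ a : G, a ∈ A → a * n * a⁻¹ = n) → n = 1) :
    N ⊓ normalizer (K : Set G) = ⊥ := by
  by_contra hne
  set C := N ⊓ normalizer (K : Set G) with hCdef
  have hp : p.Prime := Fact.out
  have hCp : IsPGroup p C := hN.to_le inf_le_left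
  -- `K ∩ N = 1`
  have hKN : ∀ g : G, g ∈ K → g ∈ N → g = 1 := by
    intro g hgK hgN
    have h1 : orderOf g ∣ Nat.card K := by
      have := orderOf_dvd_natCard (⟨g, hgK⟩ : K)
      rwa [Subgroup.orderOf_mk] at this
    obtain ⟨k, hk⟩ := (hN.to_le (le_refl N)) ⟨g, hgN⟩
    have hk' : g ^ p ^ k = 1 := by
      have := congrArg Subtype.val hk
      simpa using this
    have h2 : orderOf g ∣ p ^ k := orderOf_dvd_of_pow_eq_one hk'
    have hcop : (Nat.card K).Coprime (p ^ k) :=
      Nat.Coprime.pow_right k ((Nat.Prime.coprime_iff_not_dvd hp).mpr hKp).symm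
    have h3 := Nat.dvd_gcd h1 h2
    rw [Nat.Coprime.gcd_eq_one hcop] at h3
    exact orderOf_eq_one_iff.mp (Nat.dvd_one.mp h3)
  -- elements of `C` centralize `K`
  have hCK : ∀ c ∈ C, ∀ k ∈ K, k * c = c * k := by
    intro c hc k hk
    have h1 : c * k * c⁻¹ * k⁻¹ ∈ K :=
      mul_mem ((mem_normalizer_iff.mp hc.2 k).mp hk) (inv_mem hk)
    have h2 : c * k * c⁻¹ * k⁻¹ ∈ N := by
      have : c * k * c⁻¹ * k⁻¹ = c * (k * c⁻¹ * k⁻¹) := by group
      rw [this]
      exact mul_mem hc.1 (‹N.Normal›.conj_mem _ (inv_mem hc.1) k)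
    have h3 := hKN _ h1 h2
    calc k * c = (c * k * c⁻¹ * k⁻¹)⁻¹ * (c * k) := by group
      _ = c * k := by rw [h3, inv_one, one_mul]
  -- `A` normalizes `C`
  have hAC : A ≤ normalizer (C : Set G) := by
    intro a ha
    rw [← cj_eq_self_iff, hCdef, cj_inf]
    have h1 : cj a N = N := cj_eq_self_iff.mpr (by
      rw [normalizer_eq_top_iff.mpr ‹N.Normal›]; exact mem_top a)
    have h2 : cj a (normalizer (K : Set G)) = normalizer (K : Set G) := by
      rw [← normalizer_cj, cj_eq_self_iff.mpr (hAK ha)]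
    rw [h1, h2]
  have hPC : P ≤ normalizer (C : Set G) := hPA.trans hAC
  set Q := C ⊔ P with hQdef
  have hQp : IsPGroup p Q := hCp.to_sup_of_normal_left' hPp hPC
  have hQC : Q ≤ normalizer (C : Set G) := sup_le le_normalizer hPC
  have hCn : (C.subgroupOf Q).Normal := Subgroup.normal_subgroupOf_of_le_normalizer hQC
  have hCne : C.subgroupOf Q ≠ ⊥ := by
    intro h
    apply hne
    rw [eq_bot_iff]
    intro c hc
    have : (⟨c, (le_sup_left : C ≤ Q) hc⟩ : Q) ∈ C.subgroupOf Q := by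
      rw [mem_subgroupOf]; exact hc
    rw [h, mem_bot] at this
    rw [mem_bot]
    exact congrArg Subtype.val this
  obtain ⟨x, hxC, hxZ, hx1⟩ := exists_ne_one_mem_normal_inf_center hQp (C.subgroupOf Q) hCne
  rw [mem_subgroupOf] at hxC
  apply hx1
  apply Subtype.ext
  apply hC (x : G) hxC.1
  -- `x` is centralized by `A = K ⊔ P`
  have hcent : A ≤ centralizer ({(x : G)} : Set G) := by
    rw [← hKP]
    apply sup_le
    · intro k hk
      rw [mem_centralizer_iff]
      intro y hy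
      rw [Set.mem_singleton_iff] at hy
      subst hy
      exact (hCK _ hxC k hk).symm
    · intro g hg
      rw [mem_centralizer_iff]
      intro y hy
      rw [Set.mem_singleton_iff] at hy
      subst hy
      have := (mem_center_iff.mp hxZ) ⟨g, (le_sup_right : P ≤ Q) hg⟩
      exact (congrArg Subtype.val this).symm
  intro a ha
  have := (mem_centralizer_iff.mp (hcent ha)) (x : G) (Set.mem_singleton _)
  rw [← this]; group

/-- Let G be a finite group that is the semidirect product of a normal p-subgroup N by a subgroup A, and also of N by a subgroup A₁, where p is a prime and A and A₁ both have normal p-complements. If C_N(A) = C_N(A₁) = 1, then A₁ is conjugate to A by an element of N. -/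
theorem result {G : Type*} [Group G] [Finite G] {p : ℕ}
    [Fact p.Prime] (N : Subgroup G) [N.Normal] (hN : IsPGroup p N) (A A₁ : Subgroup G)
    (hA : A.IsComplement' N) (hA₁ : A₁.IsComplement' N)
    (hAp : Cfsg.HasNormalPComplement p A) (hA₁p : Cfsg.HasNormalPComplement p A₁)
    (hC : ∀ n : G, n ∈ N → (∀ a : G, a ∈ A → a * n * a⁻¹ = n) → n = 1)
    (hC₁ : ∀ n : G, n ∈ N → (∀ a : G, a ∈ A₁ → a * n * a⁻¹ = n) → n = 1) :
    ∃ n : G, n ∈ N ∧ A₁ = A.map (MulAut.conj n).toMonoidHom := by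
  classical
  obtain ⟨K, P, hKA, hPA, hAK, hPp, hKp, hKP, hcA⟩ := npc_data A hAp
  obtain ⟨K₁, P₁, hK₁A, hP₁A, hAK₁, hP₁p, hK₁p, hKP₁, hcA₁⟩ := npc_data A₁ hA₁p
  have hp : p.Prime := Fact.out
  have hNn : N.Normal := inferInstance
  have hAN : Nat.card A * Nat.card N = Nat.card G := hA.card_mul_card
  have hA₁N : Nat.card A₁ * Nat.card N = Nat.card G := hA₁.card_mul_card
  have hNpos : 0 < Nat.card N := Nat.card_pos
  have hAA₁ : Nat.card A = Nat.card A₁ :=
    Nat.eq_of_mul_eq_mul_right hNpos (hAN.trans hA₁N.symm)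
  obtain ⟨a, ha⟩ := hPp.exists_card_eq
  obtain ⟨b, hb⟩ := hP₁p.exists_card_eq
  obtain ⟨c, hc⟩ := hN.exists_card_eq
  have hcopK : ∀ k, (Nat.card K).Coprime (p ^ k) := fun k =>
    Nat.Coprime.pow_right k ((Nat.Prime.coprime_iff_not_dvd hp).mpr hKp).symm
  have hcopK₁ : ∀ k, (Nat.card K₁).Coprime (p ^ k) := fun k =>
    Nat.Coprime.pow_right k ((Nat.Prime.coprime_iff_not_dvd hp).mpr hK₁p).symm
  have hKK₁ : Nat.card K₁ = Nat.card K := by
    have e : Nat.card K * p ^ a = Nat.card K₁ * p ^ b := by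
      rw [← ha, ← hb, ← hcA, ← hcA₁, hAA₁]
    have d1 : Nat.card K ∣ Nat.card K₁ :=
      (hcopK b).dvd_of_dvd_mul_right ⟨p ^ a, e.symm⟩
    have d2 : Nat.card K₁ ∣ Nat.card K :=
      (hcopK₁ a).dvd_of_dvd_mul_right ⟨p ^ b, e⟩
    exact Nat.dvd_antisymm d2 d1
  -- `M = K N` is normal of `p`-power index
  have hNtop : normalizer (N : Set G) = ⊤ := normalizer_eq_top_iff.mpr hNn
  set M := K ⊔ N with hM
  have hMn : M.Normal := by
    rw [← normalizer_eq_top_iff, eq_top_iff, ← hA.sup_eq_top]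
    apply sup_le
    · intro g hg
      rw [← cj_eq_self_iff, hM, cj_sup, cj_eq_self_iff.mpr (hAK hg),
        cj_eq_self_iff.mpr (hNtop ▸ mem_top g)]
    · exact (le_sup_right : N ≤ M).trans le_normalizer
  have hMidx : M.index ∣ p ^ a := by
    have h1 : Nat.card K * Nat.card N ∣ Nat.card M := by
      apply Nat.Coprime.mul_dvd_of_dvd_of_dvd
      · rw [hc]; exact hcopK c
      · exact card_dvd_of_le le_sup_left
      · exact card_dvd_of_le le_sup_right
    obtain ⟨d, hd⟩ := h1
    have h2 : M.index * Nat.card M = Nat.card K * Nat.card P * Nat.card N := by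
      rw [mul_comm, M.card_mul_index, ← hAN, hcA]
    refine ⟨d, ?_⟩
    rw [hd] at h2
    have hpos : 0 < Nat.card K * Nat.card N := Nat.mul_pos Nat.card_pos Nat.card_pos
    have h3 : (M.index * d) * (Nat.card K * Nat.card N) =
        Nat.card P * (Nat.card K * Nat.card N) := by
      linear_combination h2
    rw [← ha]
    exact (Nat.eq_of_mul_eq_mul_right hpos h3).symm
  have hK₁M : K₁ ≤ M := by
    intro g hg
    apply mem_of_orderOf_coprime_index
    have h1 : orderOf g ∣ Nat.card K₁ := by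
      have := orderOf_dvd_natCard (⟨g, hg⟩ : K₁)
      rwa [Subgroup.orderOf_mk] at this
    exact Nat.Coprime.coprime_dvd_left h1 (Nat.Coprime.coprime_dvd_right hMidx (hcopK₁ a))
  -- Schur–Zassenhaus
  have hsolvN : Group.IsSolvable N := by
    have : Group.IsNilpotent N := hN.isNilpotent
    infer_instance
  obtain ⟨n, hnN, hn⟩ := rel_sz_conj N K K₁ (hNtop ▸ le_top)
    (by rw [hc]; exact hcopK c) (Or.inl hsolvN) hK₁M hKK₁
  refine ⟨n, hnN, ?_⟩
  -- `N_G(K₁) ≤ A₁`
  have hbot := inf_normalizer_eq_bot N hN A₁ K₁ P₁ hP₁A hAK₁ hP₁p hK₁p hKP₁ hC₁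
  have hNK₁ : normalizer (K₁ : Set G) ≤ A₁ := by
    intro g hg
    have hgtop : g ∈ A₁ ⊔ N := by rw [hA₁.sup_eq_top]; exact mem_top g
    have hgmul : g ∈ (A₁ : Set G) * (N : Set G) := by
      rw [← Subgroup.mul_normal]; exact hgtop
    obtain ⟨a₁, ha₁, n₁, hn₁, rfl⟩ := Set.mem_mul.mp hgmul
    have h1 : n₁ ∈ normalizer (K₁ : Set G) := by
      have : n₁ = a₁⁻¹ * (a₁ * n₁) := by group
      rw [this]
      exact mul_mem (inv_mem (hAK₁ ha₁)) hg
    have h2 : n₁ ∈ N ⊓ normalizer (K₁ : Set G) := ⟨hn₁, h1⟩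
    rw [hbot, mem_bot] at h2
    rw [h2, mul_one]; exact ha₁
  have hle : cj n A ≤ A₁ := by
    refine le_trans ?_ hNK₁
    rw [← hn, normalizer_cj]
    exact cj_mono hAK
  have hcard : Nat.card A₁ ≤ Nat.card (cj n A) := by rw [card_cj, hAA₁]
  exact (Subgroup.eq_of_le_of_card_ge hle hcard).symm

end Cfsg.Agent.S4043
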