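import Cfsg.Statements.S4049
import Cfsg.Agent.S4027
import Cfsg.Agent.Lib.Helper67.Basic
import Cfsg.Agent.Lib.Helper67.Normalizer
import Cfsg.Agent.Lib.Helper67.SylowLift
import Cfsg.Agent.Lib.Helper67.TwoClosed

set_option autoImplicit false
open Cfsg

universe u

namespace Cfsg.Agent.S4049

open Cfsg.Agent.Lib.Helper67

/-- 2-elements normalizing a cyclic subgroup of odd order centralize it. -/
def Pr2 (G : Type u) [Group G] : Prop :=
  ∀ x g : G, Odd (orderOf x) → (∃ j : ℕ, orderOf g = 2 ^ j) →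
    g ∈ Subgroup.normalizer ((Subgroup.zpowers x : Subgroup G) : Set G) → Commute g x

theorem pr2_of_hom (G : Type u) [Group G] [Finite G]
    (hhom : ∀ H : Subgroup G, H ≠ ⊥ → ¬ 2 ∣ Nat.card ↥H →
        ¬ 2 ∣ (Subgroup.centralizer (H : Set G)).relIndex (Subgroup.normalizer (H : Set G))) :
    Pr2 G := by
  rintro x g hx ⟨j, hj⟩ hg
  by_cases hx1 : x = 1
  · subst hx1; exact Commute.one_right g
  have hHne : Subgroup.zpowers x ≠ ⊥ := (Subgroup.zpowers_ne_bot).mpr hx1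
  have hHodd : ¬ 2 ∣ Nat.card (Subgroup.zpowers x) := by
    rw [Nat.card_zpowers]; exact hx.not_two_dvd_nat
  have hrel := hhom _ hHne hHodd
  set C := Subgroup.centralizer ((Subgroup.zpowers x : Subgroup G) : Set G) with hC
  set N := Subgroup.normalizer ((Subgroup.zpowers x : Subgroup G) : Set G) with hN
  have hTN : Subgroup.zpowers g ≤ N := Subgroup.zpowers_le.mpr hg
  have h1 : C.relIndex (Subgroup.zpowers g) ∣ C.relIndex N := by
    have := Subgroup.relIndex_dvd_index_of_normal (H := C.subgroupOf N)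
      (K := (Subgroup.zpowers g).subgroupOf N)
    rwa [Subgroup.relIndex_subgroupOf hTN] at this
  have h2 : C.relIndex (Subgroup.zpowers g) ∣ 2 ^ j := by
    have := Subgroup.relIndex_dvd_card C (Subgroup.zpowers g)
    rwa [Nat.card_zpowers, hj] at this
  have h3 : C.relIndex (Subgroup.zpowers g) = 1 := by
    obtain ⟨i, hi, hi'⟩ := (Nat.dvd_prime_pow Nat.prime_two).mp h2
    rcases Nat.eq_zero_or_pos i with rfl | hpos
    · simpa using hi'
    · exfalso
      apply hrel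
      rw [hi'] at h1
      exact (dvd_pow_self 2 hpos.ne').trans h1
  have hTC : Subgroup.zpowers g ≤ C := Subgroup.relIndex_eq_one.mp h3
  have hgC : g ∈ C := hTC (Subgroup.mem_zpowers g)
  exact (hgC x (Subgroup.mem_zpowers x)).symm

theorem pr2_subgroup (G : Type u) [Group G] [Finite G] (hG : Pr2 G) (M : Subgroup G) :
    Pr2 M := by
  rintro x g hx ⟨j, hj⟩ hg
  have h1 := Cfsg.Agent.S4027.coe_mem_normalizer_zpowers hg
  have h2 := hG (x : G) (g : G) (by rw [Subgroup.orderOf_coe]; exact hx)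
    ⟨j, by rw [Subgroup.orderOf_coe]; exact hj⟩ h1
  exact Subtype.ext h2

theorem normalizer_zpowers_pow {G : Type*} [Group G] {γ y : G}
    (hγ : γ ∈ Subgroup.normalizer ((Subgroup.zpowers y : Subgroup G) : Set G)) (k : ℕ) :
    γ ∈ Subgroup.normalizer ((Subgroup.zpowers (y ^ k) : Subgroup G) : Set G) := by
  rw [mem_normalizer_zpowers_iff] at hγ ⊢
  obtain ⟨h1, h2⟩ := hγ
  constructor
  · obtain ⟨i, hi⟩ := Subgroup.mem_zpowers_iff.mp h1
    refine Subgroup.mem_zpowers_iff.mpr ⟨i, ?_⟩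
    rw [← conj_pow, ← hi, ← zpow_natCast, ← zpow_natCast, ← zpow_mul, ← zpow_mul, mul_comm]
  · obtain ⟨i, hi⟩ := Subgroup.mem_zpowers_iff.mp h2
    refine Subgroup.mem_zpowers_iff.mpr ⟨i, ?_⟩
    have e : γ⁻¹ * y ^ k * γ = (γ⁻¹ * y * γ) ^ k := by
      have e1 : γ⁻¹ * y * γ = γ⁻¹ * y * γ⁻¹⁻¹ := by rw [inv_inv]
      have e2 : γ⁻¹ * y ^ k * γ = γ⁻¹ * y ^ k * γ⁻¹⁻¹ := by rw [inv_inv]
      rw [e1, e2, conj_pow]
    rw [e, ← hi, ← zpow_natCast, ← zpow_natCast, ← zpow_mul, ← zpow_mul, mul_comm]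

theorem pr2_quotient (G : Type u) [Group G] [Finite G] (hG : Pr2 G) (N : Subgroup G)
    [N.Normal] (hN2 : IsPGroup 2 N) : Pr2 (G ⧸ N) := by
  rintro y γ hy ⟨j, hj⟩ hγ
  apply commute_of_prime_power_parts γ (orderOf y) y rfl
  intro k p a hp hk
  by_cases ha : a = 0
  · subst ha
    rw [pow_zero, orderOf_eq_one_iff] at hk
    rw [hk]
    exact Commute.one_right γ
  have hpdvd : p ∣ orderOf y := (dvd_pow_self p ha).trans (hk ▸ orderOf_pow_dvd k)
  have hp2 : p ≠ 2 := by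
    rintro rfl
    exact hy.not_two_dvd_nat hpdvd
  have hpf : Fact p.Prime := ⟨hp⟩
  have hpN : ¬ p ∣ Nat.card N := by
    intro hd
    obtain ⟨e, he⟩ := IsPGroup.iff_card.mp hN2
    rw [he] at hd
    exact hp2 ((Nat.prime_dvd_prime_iff_eq hp Nat.prime_two).mp (hp.dvd_of_dvd_pow hd))
  have hγz := normalizer_zpowers_pow hγ k
  generalize y ^ k = z at hk hγz
  obtain ⟨x0, hx0⟩ := QuotientGroup.mk_surjective z
  obtain ⟨g, hg⟩ := QuotientGroup.mk_surjective γ
  obtain ⟨b, s, hps, hos⟩ := Nat.exists_eq_pow_mul_and_not_dvd (orderOf_pos x0).ne' p hp.ne_one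
  have hcop : Nat.Coprime s (orderOf z) := by
    rw [hk]
    exact Nat.Coprime.pow_right a ((Nat.Prime.coprime_iff_not_dvd hp).mpr hps).symm
  obtain ⟨s', hs'⟩ := exists_pow_eq_self_of_coprime hcop
  set x := (x0 ^ s) ^ s' with hxdef
  have hxz : (x : G ⧸ N) = z := by
    rw [hxdef, QuotientGroup.mk_pow, QuotientGroup.mk_pow, hx0, hs']
  have hxpow : x ^ (p ^ b) = 1 := by
    rw [hxdef, ← pow_mul, ← pow_mul]
    have : s * (s' * p ^ b) = orderOf x0 * s' := by rw [hos]; ring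
    rw [this, pow_mul, pow_orderOf_eq_one, one_pow]
  obtain ⟨c, hcle, hc⟩ := (Nat.dvd_prime_pow hp).mp (orderOf_dvd_of_pow_eq_one hxpow)
  have hx'mem : g * x * g⁻¹ ∈ Subgroup.zpowers x ⊔ N := by
    obtain ⟨h1, _⟩ := mem_normalizer_zpowers_iff.mp hγz
    obtain ⟨i, hi⟩ := Subgroup.mem_zpowers_iff.mp h1
    have hq : ((x ^ i : G) : G ⧸ N) = ((g * x * g⁻¹ : G) : G ⧸ N) := by
      rw [QuotientGroup.mk_zpow, QuotientGroup.mk_mul, QuotientGroup.mk_mul, QuotientGroup.mk_inv,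
        hxz, hg, hi]
    have hn : (x ^ i)⁻¹ * (g * x * g⁻¹) ∈ N := QuotientGroup.eq.mp hq
    have : g * x * g⁻¹ = x ^ i * ((x ^ i)⁻¹ * (g * x * g⁻¹)) := by group
    rw [this]
    exact Subgroup.mul_mem_sup (zpow_mem (Subgroup.mem_zpowers x) i) hn
  have hx'ord : orderOf (g * x * g⁻¹) = p ^ c := by
    rw [← hc]
    have : g * x * g⁻¹ = MulAut.conj g x := by simp
    rw [this, MulEquiv.orderOf_eq]
  obtain ⟨h, hhH, hh⟩ := exists_conj_mem_zpowers_of_mem_sup N hpN hc hx'mem hx'ord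
  have hwN : h * g ∈ Subgroup.normalizer ((Subgroup.zpowers x : Subgroup G) : Set G) := by
    apply Subgroup.mem_normalizer_fintype
    intro n hn
    obtain ⟨i, rfl⟩ := Subgroup.mem_zpowers_iff.mp hn
    have : h * g * x ^ i * (h * g)⁻¹ = (h * (g * x * g⁻¹) * h⁻¹) ^ i := by
      rw [conj_zpow, conj_zpow]
      group
    rw [SetLike.mem_coe, this]
    exact zpow_mem hh i
  obtain ⟨m, j', hm, hj'⟩ := exists_odd_pow_two_power (h * g)
  have hxodd : Odd (orderOf x) := by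
    rw [hc]
    exact (hp.odd_of_ne_two hp2).pow
  have hcomm : Commute ((h * g) ^ m) x :=
    hG x ((h * g) ^ m) hxodd ⟨j', hj'⟩ (pow_mem hwN m)
  -- pass to the quotient
  have hhH' : h ∈ ((Subgroup.zpowers x ⊔ N : Subgroup G) : Set G) := hhH
  rw [Subgroup.mul_normal] at hhH'
  obtain ⟨u, hu, n, hn, hun⟩ := Set.mem_mul.mp hhH'
  obtain ⟨i, rfl⟩ := Subgroup.mem_zpowers_iff.mp hu
  have hmkh : (h : G ⧸ N) = z ^ i := by
    rw [← hun, QuotientGroup.mk_mul, QuotientGroup.mk_zpow, hxz,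
      (QuotientGroup.eq_one_iff n).mpr hn, mul_one]
  have hcommq : Commute ((z ^ i * γ) ^ m) z := by
    have h3 := congrArg (QuotientGroup.mk : G → G ⧸ N) hcomm.eq
    rw [QuotientGroup.mk_mul, QuotientGroup.mk_mul, QuotientGroup.mk_pow, QuotientGroup.mk_mul,
      hmkh, hg, hxz] at h3
    exact h3
  -- γ z γ⁻¹ = z ^ l
  have h1 : γ * z * γ⁻¹ ∈ Subgroup.zpowers z := (hγz z).mp (Subgroup.mem_zpowers z)
  obtain ⟨l, hl⟩ : ∃ l : ℕ, z ^ l = γ * z * γ⁻¹ :=
    (mem_powers_iff_mem_zpowers (x := z)).mpr h1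
  have hwz : (z ^ i * γ) * z * (z ^ i * γ)⁻¹ = z ^ l := by
    have : (z ^ i * γ) * z * (z ^ i * γ)⁻¹ = z ^ i * (γ * z * γ⁻¹) * (z ^ i)⁻¹ := by group
    rw [this, ← hl]
    have hc1 : Commute (z ^ i) (z ^ l) := ((Commute.refl z).zpow_left i).pow_right l
    rw [hc1.eq, mul_inv_cancel_right]
  have e1 := conj_pow_eq_pow_pow hwz m
  have e2 := conj_pow_eq_pow_pow hl.symm m
  have hγm : Commute (γ ^ m) z := by
    show γ ^ m * z = z * γ ^ m
    have e3 : (z ^ i * γ) ^ m * z * ((z ^ i * γ) ^ m)⁻¹ = z := by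
      rw [hcommq.eq, mul_inv_cancel_right]
    have e4 : γ ^ m * z * (γ ^ m)⁻¹ = z := by rw [e2, ← e1, e3]
    calc γ ^ m * z = γ ^ m * z * (γ ^ m)⁻¹ * γ ^ m := by group
      _ = z * γ ^ m := by rw [e4]
  have hcop2 : Nat.Coprime m (orderOf γ) := by
    rw [hj]
    exact Nat.Coprime.pow_right j (Nat.coprime_two_right.mpr hm)
  obtain ⟨m', hm'⟩ := exists_pow_eq_self_of_coprime hcop2
  rw [← hm']
  exact hγm.pow_left m'

theorem pr2_involutions (G : Type u) [Group G] [Finite G] (hG : Pr2 G) (s t : G)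
    (hs : orderOf s = 2) (ht : orderOf t = 2) :
    ∃ D : Subgroup G, IsPGroup 2 D ∧ s ∈ D ∧ t ∈ D := by
  have hs2 : s * s = 1 := by rw [← pow_two, ← hs, pow_orderOf_eq_one]
  have ht2 : t * t = 1 := by rw [← pow_two, ← ht, pow_orderOf_eq_one]
  have hsinv : s⁻¹ = s := inv_eq_of_mul_eq_one_left hs2
  have htinv : t⁻¹ = t := inv_eq_of_mul_eq_one_left ht2
  set r := s * t with hr
  have hconj : s * r * s⁻¹ = r⁻¹ := by
    rw [hr, mul_inv_rev, hsinv, htinv, ← mul_assoc, hs2, one_mul]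
  obtain ⟨k, m, hm, hkm⟩ := Nat.exists_eq_two_pow_mul_odd (orderOf_pos r).ne'
  have hm0 : m ≠ 0 := by rintro rfl; simp at hm
  have h2k0 : 2 ^ k ≠ 0 := pow_ne_zero k two_ne_zero
  set u := r ^ (2 ^ k) with hu
  have hou : orderOf u = m := by
    rw [hu, orderOf_pow_of_dvd h2k0 ⟨m, hkm⟩, hkm]
    exact Nat.mul_div_cancel_left _ (Nat.pos_of_ne_zero h2k0)
  have hconju : s * u * s⁻¹ = u⁻¹ := by
    rw [hu, ← conj_pow, hconj, inv_pow]
  have hsN : s ∈ Subgroup.normalizer ((Subgroup.zpowers u : Subgroup G) : Set G) := by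
    apply Subgroup.mem_normalizer_fintype
    intro n hn
    obtain ⟨i, rfl⟩ := Subgroup.mem_zpowers_iff.mp hn
    rw [SetLike.mem_coe, ← conj_zpow, hconju]
    exact zpow_mem (inv_mem (Subgroup.mem_zpowers u)) i
  have hcent : s * u = u * s := (hG u s (hou ▸ hm) ⟨1, by rw [hs, pow_one]⟩ hsN).eq
  have huu : u = u⁻¹ := by
    rw [← hconju, hcent, mul_inv_cancel_right]
  have hu2 : u ^ 2 = 1 := by
    rw [pow_two]
    nth_rewrite 1 [huu]
    exact inv_mul_cancel u
  have hm1 : m = 1 := by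
    have hd : m ∣ 2 := hou ▸ orderOf_dvd_of_pow_eq_one hu2
    rcases (Nat.dvd_prime Nat.prime_two).mp hd with h | h
    · exact h
    · rw [h] at hm
      exact absurd hm (by decide)
  rw [hm1, mul_one] at hkm
  have hsN' : s ∈ Subgroup.normalizer ((Subgroup.zpowers r : Subgroup G) : Set G) := by
    apply Subgroup.mem_normalizer_fintype
    intro n hn
    obtain ⟨i, rfl⟩ := Subgroup.mem_zpowers_iff.mp hn
    rw [SetLike.mem_coe, ← conj_zpow, hconj]
    exact zpow_mem (inv_mem (Subgroup.mem_zpowers r)) i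
  have h1 : IsPGroup 2 (Subgroup.zpowers s) :=
    IsPGroup.of_card (n := 1) (by rw [Nat.card_zpowers, hs, pow_one])
  have h2 : IsPGroup 2 (Subgroup.zpowers r) :=
    IsPGroup.of_card (n := k) (by rw [Nat.card_zpowers, hkm])
  have hle : Subgroup.zpowers s ≤ Subgroup.normalizer (Subgroup.zpowers r : Subgroup G) :=
    (Subgroup.zpowers_le).mpr hsN'
  refine ⟨Subgroup.zpowers s ⊔ Subgroup.zpowers r, h1.to_sup_of_normal_right' h2 hle, ?_, ?_⟩
  · exact (le_sup_left : Subgroup.zpowers s ≤ _) (Subgroup.mem_zpowers s)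
  · have : t = s⁻¹ * r := by rw [hr, inv_mul_cancel_left]
    rw [this]
    exact mul_mem ((le_sup_left : Subgroup.zpowers s ≤ _) (inv_mem (Subgroup.mem_zpowers s)))
      ((le_sup_right : Subgroup.zpowers r ≤ _) (Subgroup.mem_zpowers r))

/-- Let G be a finite group such that N_G(H)/C_G(H) has odd order for every nontrivial subgroup H of odd order. Then the Sylow 2-subgroups of G are normal. -/
theorem result {G : Type*} [Group G] [Finite G]
    (hhom : ∀ H : Subgroup G, H ≠ ⊥ → ¬ 2 ∣ Nat.card ↥H →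
        ¬ 2 ∣ (Subgroup.centralizer (H : Set G)).relIndex (Subgroup.normalizer (H : Set G))) (P : Sylow 2 G) :
    (P : Subgroup G).Normal :=
  two_closed_engine (fun G _ => Pr2 G) pr2_subgroup
    (fun G _ _ hG N _ hN => pr2_quotient G hG N hN) pr2_involutions G (pr2_of_hom G hhom) P

end Cfsg.Agent.S4049
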