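import Cfsg.Statements.S4051
import Cfsg.Agent.Lib.Helper67.PiClosed

set_option autoImplicit false
open Cfsg

namespace Cfsg.Agent.S4051

open Subgroup
open Cfsg.Agent.Lib.Helper67

/-- Let π be a set of primes and G a finite group such that N_G(H)/C_G(H) is a π'-group for every nontrivial π'-subgroup H of G. If K is a normal subgroup of G such that the π-elements of K form a subgroup and the π-elements of G/K form a subgroup, then the π-elements of G form a subgroup. -/
theorem result {G : Type*} [Group G] [Finite G] (π : Set ℕ)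
    (hπ : ∀ p ∈ π, p.Prime) (hhom : (∀ H : Subgroup G, H ≠ ⊥ → (∀ p : ℕ, p.Prime → p ∣ Nat.card ↥H → p ∉ π) →
        ∀ p : ℕ, p.Prime → p ∣ (Subgroup.centralizer (H : Set G)).relIndex (Subgroup.normalizer (H : Set G)) → p ∉ π))
    (K : Subgroup G) [K.Normal]
    (hK : ∃ L : Subgroup ↥K, ∀ x : ↥K, x ∈ L ↔ ∀ p : ℕ, p.Prime → p ∣ orderOf x → p ∈ π)
    (hQ : ∃ L : Subgroup (G ⧸ K), ∀ x : G ⧸ K, x ∈ L ↔ ∀ p : ℕ, p.Prime → p ∣ orderOf x → p ∈ π) :
    (∃ K : Subgroup G, ∀ x : G, x ∈ K ↔ ∀ p : ℕ, p.Prime → p ∣ orderOf x → p ∈ π) := by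
  classical
  have hKn : K.Normal := inferInstance
  obtain ⟨L', hL'⟩ := hK
  obtain ⟨LQ, hLQ⟩ := hQ
  set L := L'.map K.subtype with hL
  have hLK : L ≤ K := map_subtype_le _
  have hLmem : ∀ x : G, x ∈ L ↔ x ∈ K ∧ PiNat π (orderOf x) := by
    intro x
    constructor
    · rintro ⟨y, hy, rfl⟩
      refine ⟨y.2, ?_⟩
      have h1 : PiNat π (orderOf y) := (hL' y).mp hy
      rwa [← Subgroup.orderOf_coe] at h1
    · rintro ⟨hxK, hxπ⟩
      refine ⟨⟨x, hxK⟩, (hL' _).mpr ?_, rfl⟩
      show PiNat π (orderOf (⟨x, hxK⟩ : K))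
      rw [Subgroup.orderOf_mk]; exact hxπ
  have hLn : L.Normal := by
    constructor
    intro x hx g
    rw [hLmem] at hx ⊢
    exact ⟨hKn.conj_mem x hx.1 g, by rw [orderOf_conj_eq]; exact hx.2⟩
  have hLπ : PiNat π (Nat.card L) := by
    apply piNat_card_of_forall
    intro y
    rw [← Subgroup.orderOf_coe]
    exact ((hLmem _).mp y.2).2
  have hKL : PiNat πᶜ (L.relIndex K) := by
    intro r hr hrd hrπ
    have : Fact r.Prime := ⟨hr⟩
    obtain ⟨Q'⟩ : Nonempty (Sylow r K) := inferInstance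
    have hQL : (Q' : Subgroup K) ≤ L' := by
      intro y hy
      rw [hL']
      obtain ⟨k, hk⟩ := Q'.isPGroup' ⟨y, hy⟩
      have h1 : y ^ r ^ k = 1 := by
        have := congrArg Subtype.val hk
        simpa using this
      exact (piNat_prime_pow hr hrπ k).of_dvd (orderOf_dvd_of_pow_eq_one h1)
    have h1 : L'.index ∣ (Q' : Subgroup K).index := index_dvd_of_le hQL
    have h2 : L.relIndex K = L'.index := by
      show ((L'.map K.subtype).comap K.subtype).index = L'.index
      rw [comap_map_eq_self_of_injective K.subtype_injective]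
    rw [h2] at hrd
    exact Q'.not_dvd_index (dvd_trans hrd h1)
  set M := LQ.comap (QuotientGroup.mk' K) with hM
  have hKM : K ≤ M := by
    intro k hk
    show QuotientGroup.mk' K k ∈ LQ
    have h1 : QuotientGroup.mk' K k = 1 := (QuotientGroup.eq_one_iff k).mpr hk
    rw [h1]; exact one_mem _
  have hMK : PiNat π (K.relIndex M) := by
    have h1 : K.relIndex M = Nat.card LQ := by
      have h0 := relIndex_ker M (QuotientGroup.mk' K)
      rw [QuotientGroup.ker_mk'] at h0
      rw [h0, hM, map_comap_eq_self_of_surjective (QuotientGroup.mk'_surjective K)]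
    rw [h1]
    apply piNat_card_of_forall
    intro y
    rw [← Subgroup.orderOf_coe]
    exact (hLQ _).mp y.2
  have hMall : ∀ x, PiNat π (orderOf x) → x ∈ M := by
    intro x hx
    show QuotientGroup.mk' K x ∈ LQ
    rw [hLQ]
    exact piNat_orderOf_map _ hx
  exact exists_pi_subgroup_of_series hhom K L M hLK hKM hLπ hKL hMK hMall

end Cfsg.Agent.S4051
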