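import Cfsg.Statements.S4050
import Cfsg.Agent.Lib.Helper67.PiHomog
import Cfsg.Agent.S4051

set_option autoImplicit false
open Cfsg

namespace Cfsg.Agent.S4050

open Subgroup
open Cfsg.Agent.Lib.Helper67

/-- Extension step, relative to an ambient group: if the `π`-elements of the normal subgroup `V`
form a subgroup and `U/V` is a `π`-group or a `π'`-group, then the `π`-elements of `U` form a
subgroup. -/
theorem step {G : Type*} [Group G] [Finite G] (π : Set ℕ) (hπ : ∀ p ∈ π, p.Prime)
    (hh : PiHomogE π G) (U V : Subgroup G)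
    [hVn : V.Normal] (hrel : PiNat π (V.relIndex U) ∨ PiNat πᶜ (V.relIndex U))
    (hV : ∃ T : Subgroup G, ∀ x : G, x ∈ T ↔ (x ∈ V ∧ PiNat π (orderOf x))) :
    ∃ T : Subgroup G, ∀ x : G, x ∈ T ↔ (x ∈ U ∧ PiNat π (orderOf x)) := by
  obtain ⟨T, hT⟩ := hV
  have hhU : PiHomog π U := (hh.subgroup U).toHomog
  have hK : ∃ L : Subgroup ↥(V.subgroupOf U), ∀ x : ↥(V.subgroupOf U),
      x ∈ L ↔ ∀ p : ℕ, p.Prime → p ∣ orderOf x → p ∈ π := by
    refine ⟨T.comap (U.subtype.comp (V.subgroupOf U).subtype), fun x => ?_⟩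
    rw [mem_comap]
    show ((x : U) : G) ∈ T ↔ PiNat π (orderOf x)
    rw [hT]
    have hx : ((x : U) : G) ∈ V := mem_subgroupOf.mp x.2
    have ho : orderOf ((x : U) : G) = orderOf x := by
      rw [Subgroup.orderOf_coe, Subgroup.orderOf_coe]
    rw [ho]
    exact ⟨fun h => h.2, fun h => ⟨hx, h⟩⟩
  have hQ : ∃ L : Subgroup (↥U ⧸ V.subgroupOf U), ∀ x : ↥U ⧸ V.subgroupOf U,
      x ∈ L ↔ ∀ p : ℕ, p.Prime → p ∣ orderOf x → p ∈ π := by
    have hcard : V.relIndex U = Nat.card (↥U ⧸ V.subgroupOf U) :=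
      Subgroup.index_eq_card _
    rw [hcard] at hrel
    rcases hrel with h | h
    · refine ⟨⊤, fun x => ⟨fun _ => ?_, fun _ => mem_top x⟩⟩
      exact piNat_orderOf_of_card h x
    · refine ⟨⊥, fun x => ⟨fun hx => ?_, fun hx => ?_⟩⟩
      · rw [mem_bot] at hx
        rw [hx, orderOf_one]; exact piNat_one π
      · rw [mem_bot]
        exact eq_one_of_piNat hx (piNat_orderOf_of_card h x)
  obtain ⟨TU, hTU⟩ := Cfsg.Agent.S4051.result π hπ hhU (V.subgroupOf U) hK hQ
  refine ⟨TU.map U.subtype, fun x => ?_⟩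
  constructor
  · rintro ⟨y, hy, rfl⟩
    refine ⟨y.2, ?_⟩
    have h1 : PiNat π (orderOf y) := (hTU y).mp hy
    rwa [← Subgroup.orderOf_coe] at h1
  · rintro ⟨hxU, hxπ⟩
    refine ⟨⟨x, hxU⟩, (hTU _).mpr ?_, rfl⟩
    show PiNat π (orderOf (⟨x, hxU⟩ : U))
    rw [Subgroup.orderOf_mk]; exact hxπ

/-- Let π be a set of primes and G a finite group. The π-elements of G (elements whose order is divisible only by primes of π) form a subgroup if and only if G is π-separable (it has a chain of normal subgroups from 1 to G with each successive index divisible only by primes in π or only by primes outside π) and N_G(H)/C_G(H) is a π'-group for every nontrivial π'-subgroup H of G. -/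
theorem result {G : Type*} [Group G] [Finite G] (π : Set ℕ)
    (hπ : ∀ p ∈ π, p.Prime) :
    (∃ K : Subgroup G, ∀ x : G, x ∈ K ↔ ∀ p : ℕ, p.Prime → p ∣ orderOf x → p ∈ π) ↔
    ((∃ (n : ℕ) (H : Fin (n + 1) → Subgroup G), H 0 = ⊥ ∧ H (Fin.last n) = ⊤ ∧ Monotone H ∧ (∀ i, (H i).Normal) ∧
      ∀ i : Fin n, (∀ q : ℕ, q.Prime → q ∣ (H i.castSucc).relIndex (H i.succ) → q ∈ π) ∨
        (∀ q : ℕ, q.Prime → q ∣ (H i.castSucc).relIndex (H i.succ) → q ∉ π)) ∧
     (∀ H : Subgroup G, H ≠ ⊥ → (∀ p : ℕ, p.Prime → p ∣ Nat.card ↥H → p ∉ π) →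
        ∀ p : ℕ, p.Prime → p ∣ (Subgroup.centralizer (H : Set G)).relIndex (Subgroup.normalizer (H : Set G)) → p ∉ π)) := by
  constructor
  · rintro ⟨T, hT⟩
    have hT' : ∀ x : G, x ∈ T ↔ PiNat π (orderOf x) := hT
    have hTn := normal_of_forall_mem_iff T hT'
    have hE := piHomogE_of_forall_mem_iff T hT'
    refine ⟨⟨2, ![⊥, T, ⊤], rfl, rfl, ?_, ?_, ?_⟩, hE.toHomog⟩
    · rw [Fin.monotone_iff_le_succ]
      intro i
      fin_cases i
      · exact bot_le
      · exact le_top
    · intro i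
      fin_cases i
      · exact (inferInstance : (⊥ : Subgroup G).Normal)
      · exact hTn
      · exact (inferInstance : (⊤ : Subgroup G).Normal)
    · intro i
      fin_cases i
      · left
        show PiNat π ((⊥ : Subgroup G).relIndex T)
        rw [relIndex_bot_left]
        exact piNat_card_of_forall (fun t => by
          rw [← Subgroup.orderOf_coe]; exact (hT' _).mp t.2)
      · right
        show PiNat πᶜ (T.relIndex ⊤)
        rw [relIndex_top_right]
        exact piNat_compl_index_of_forall_mem T (fun x hx => (hT' x).mpr hx)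
  · rintro ⟨⟨n, H, h0, hlast, hmono, hnorm, hfac⟩, hhom⟩
    have hE : PiHomogE π G := PiHomog.toE hhom
    have key : ∀ i : Fin (n + 1), ∃ T : Subgroup G,
        ∀ x : G, x ∈ T ↔ (x ∈ H i ∧ PiNat π (orderOf x)) := by
      intro i
      induction i using Fin.induction with
      | zero =>
        refine ⟨⊥, fun x => ?_⟩
        rw [h0, mem_bot]
        constructor
        · rintro rfl
          exact ⟨rfl, by rw [orderOf_one]; exact piNat_one π⟩
        · exact fun h => h.1
      | succ i ih =>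
        have := hnorm i.castSucc
        exact step π hπ hE (H i.succ) (H i.castSucc) (hfac i) ih
    obtain ⟨T, hT⟩ := key (Fin.last n)
    refine ⟨T, fun x => ?_⟩
    rw [hT, hlast]
    exact ⟨fun h => h.2, fun h => ⟨mem_top x, h⟩⟩

end Cfsg.Agent.S4050
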