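import Cfsg.Statements.S4056
import Cfsg.Agent.Lib.Helper47.Frattini

set_option autoImplicit false
open Cfsg

namespace Cfsg.Agent.S4056

open scoped commutatorElement

variable {P : Type*} [Group P]

/-- Moving a central commutator through: `x² y = c² y x²`. -/
theorem sq_mul_of_central {c x y : P} (hc : ∀ g : P, g * c = c * g) (h : x * y = c * (y * x)) :
    x * x * y = c * c * (y * (x * x)) := by
  calc x * x * y = x * (x * y) := by group
    _ = x * (c * (y * x)) := by rw [h]
    _ = (x * c) * (y * x) := by group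
    _ = (c * x) * (y * x) := by rw [hc x]
    _ = c * ((x * y) * x) := by group
    _ = c * ((c * (y * x)) * x) := by rw [h]
    _ = c * c * (y * (x * x)) := by group

theorem key {x y : P} (hcen : ∀ a b : P, ⁅a, b⁆ ∈ Subgroup.center P)
    (h4 : ∀ g : P, g * g * g * g = 1) :
    ⁅x, y⁆ * ⁅x, y⁆ = 1 ∧ x * x * y = y * (x * x) := by
  set c := ⁅x, y⁆ with hcdef
  have hc : ∀ g : P, g * c = c * g := fun g => Subgroup.mem_center_iff.mp (hcen x y) g
  have e1 : x * y = c * (y * x) := by
    rw [hcdef, commutatorElement_def]; group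
  have e2 := sq_mul_of_central hc e1
  have hc2 : ∀ g : P, g * (c * c) = (c * c) * g := by
    intro g
    calc g * (c * c) = (g * c) * c := by group
      _ = (c * g) * c := by rw [hc g]
      _ = c * (g * c) := by group
      _ = c * (c * g) := by rw [hc g]
      _ = (c * c) * g := by group
  have e3 : (x * x) * (y * y) = (y * y) * (x * x) := by
    calc (x * x) * (y * y) = (x * x * y) * y := by group
      _ = (c * c * (y * (x * x))) * y := by rw [e2]
      _ = c * c * (y * (x * x * y)) := by group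
      _ = c * c * (y * (c * c * (y * (x * x)))) := by rw [e2]
      _ = c * c * ((y * (c * c)) * (y * (x * x))) := by group
      _ = c * c * (((c * c) * y) * (y * (x * x))) := by rw [hc2 y]
      _ = (c * c * c * c) * ((y * y) * (x * x)) := by group
      _ = (y * y) * (x * x) := by rw [h4 c, one_mul]
  have hci : ∀ g : P, g * c⁻¹ = c⁻¹ * g := by
    intro g
    have := hc g
    calc g * c⁻¹ = c⁻¹ * (c * g) * c⁻¹ := by group
      _ = c⁻¹ * (g * c) * c⁻¹ := by rw [this]
      _ = c⁻¹ * g := by group
  have e4 : (x * y) * (x * y) = c⁻¹ * ((x * x) * (y * y)) := by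
    have e1' : y * x = c⁻¹ * (x * y) := by rw [e1]; group
    calc (x * y) * (x * y) = x * (y * x) * y := by group
      _ = x * (c⁻¹ * (x * y)) * y := by rw [e1']
      _ = (x * c⁻¹) * (x * y) * y := by group
      _ = (c⁻¹ * x) * (x * y) * y := by rw [hci x]
      _ = c⁻¹ * ((x * x) * (y * y)) := by group
  have e5 : (x * y) * (x * y) * (x * y) * (x * y) = c⁻¹ * c⁻¹ := by
    calc (x * y) * (x * y) * (x * y) * (x * y) = ((x * y) * (x * y)) * ((x * y) * (x * y)) := by
          group
      _ = (c⁻¹ * ((x * x) * (y * y))) * (c⁻¹ * ((x * x) * (y * y))) := by rw [e4]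
      _ = c⁻¹ * (((x * x) * (y * y)) * c⁻¹) * ((x * x) * (y * y)) := by group
      _ = c⁻¹ * (c⁻¹ * ((x * x) * (y * y))) * ((x * x) * (y * y)) := by rw [hci]
      _ = c⁻¹ * c⁻¹ * ((x * x) * ((y * y) * (x * x)) * (y * y)) := by group
      _ = c⁻¹ * c⁻¹ * ((x * x) * ((x * x) * (y * y)) * (y * y)) := by rw [e3]
      _ = c⁻¹ * c⁻¹ * ((x * x * x * x) * (y * y * y * y)) := by group
      _ = c⁻¹ * c⁻¹ := by rw [h4 x, h4 y, one_mul, mul_one]
  have hcc : c * c = 1 := by
    have h1 : c⁻¹ * c⁻¹ = 1 := by rw [← e5, h4]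
    calc c * c = (c * c) * (c⁻¹ * c⁻¹) := by rw [h1, mul_one]
      _ = 1 := by group
  refine ⟨hcc, ?_⟩
  rw [e2, hcc, one_mul]

/-- In a finite 2-group of nilpotency class at most 2 and exponent dividing 4, the Frattini subgroup lies in the centre and is elementary abelian. -/
theorem result {P : Type*} [Group P] [Finite P] (hP : IsPGroup 2 P)
    (hcl : Group.nilpotencyClass P ≤ 2) (hexp : Monoid.exponent P ∣ 4) :
    frattini P ≤ Subgroup.center P ∧ Cfsg.IsElementaryAbelian 2 (frattini P) := by
  have hnil : Group.IsNilpotent P := hP.isNilpotent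
  have h4 : ∀ g : P, g ^ 4 = 1 := Monoid.exponent_dvd_iff_forall_pow_eq_one.mp hexp
  have h4' : ∀ g : P, g * g * g * g = 1 := by
    intro g
    have := h4 g
    rwa [pow_succ, pow_succ, pow_succ, pow_one] at this
  have hucs : Subgroup.upperCentralSeries P 2 = ⊤ :=
    Subgroup.upperCentralSeries_eq_top_iff_nilpotencyClass_le.mpr hcl
  have hcen : ∀ a b : P, ⁅a, b⁆ ∈ Subgroup.center P := by
    intro a b
    have ha : a ∈ Subgroup.upperCentralSeries P (1 + 1) := by
      rw [show (1 + 1 : ℕ) = 2 from rfl, hucs]; exact Subgroup.mem_top a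
    have := Subgroup.mem_upperCentralSeries_succ_iff.mp ha b
    rwa [Subgroup.upperCentralSeries_one] at this
  set T : Subgroup P := Subgroup.closure {g : P | ∃ x : P, g = x ^ 2} with hT
  have hsqT : ∀ x : P, x ^ 2 ∈ T := fun x => Subgroup.subset_closure ⟨x, rfl⟩
  have hTcen : T ≤ Subgroup.center P := by
    rw [hT, Subgroup.closure_le]
    rintro _ ⟨x, rfl⟩
    rw [SetLike.mem_coe, Subgroup.mem_center_iff]
    intro y
    have := (key (x := x) (y := y) hcen h4').2
    rw [pow_two]
    exact this.symm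
  have hTsq : ∀ a ∈ T, a ^ 2 = 1 := by
    intro a ha
    induction ha using Subgroup.closure_induction with
    | mem g hg =>
      obtain ⟨x, rfl⟩ := hg
      rw [← pow_mul]; exact h4 x
    | one => simp
    | mul a b ha hb iha ihb =>
      have hab : Commute a b := by
        show a * b = b * a
        exact (Subgroup.mem_center_iff.mp (hTcen hb) a)
      rw [hab.mul_pow, iha, ihb, one_mul]
    | inv a ha iha => rw [inv_pow, iha, inv_one]
  have hΦT : frattini P ≤ T := by
    have : Fact (Nat.Prime 2) := ⟨Nat.prime_two⟩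
    apply Cfsg.Agent.Lib.Helper47.frattini_le_of_elementary_abelian_quotient 2 T
    · intro x y
      have : ⁅x, y⁆ = (x * y) ^ 2 * (y⁻¹ * x⁻¹ * y) ^ 2 * (y⁻¹) ^ 2 := by
        rw [commutatorElement_def, pow_two, pow_two, pow_two]; group
      rw [this]
      exact mul_mem (mul_mem (hsqT _) (hsqT _)) (hsqT _)
    · exact hsqT
  refine ⟨hΦT.trans hTcen, ?_, ?_⟩
  · refine ⟨⟨fun a b => ?_⟩⟩
    apply Subtype.ext
    show (a : P) * (b : P) = (b : P) * (a : P)
    exact (Subgroup.mem_center_iff.mp (hTcen (hΦT b.2)) a)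
  · intro a ha
    exact hTsq a (hΦT ha)

end Cfsg.Agent.S4056
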