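import Cfsg.Statements.S4059
import Cfsg.Agent.Lib.Helper67.Basic

set_option autoImplicit false
open Cfsg

namespace Cfsg.Agent.S4059

open Cfsg.Agent.Lib.Helper67
open scoped commutatorElement

/-- Let G be a finite group in which every element is conjugate to its inverse. Then: every non-identity element commuting with all elements of some Sylow 2-subgroup is an involution; the centre of G is an elementary abelian 2-group; the commutator quotient G/G' is an elementary abelian 2-group; and G is generated by its 2-elements. -/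
theorem result {G : Type*} [Group G] [Finite G] (hamb : ∀ x : G, IsConj x x⁻¹) :
    (∀ (S : Sylow 2 G) (x : G), x ∈ Subgroup.centralizer ((S : Subgroup G) : Set G) → x ≠ 1 → orderOf x = 2) ∧
    (∀ z : G, z ∈ Subgroup.center G → z ^ 2 = 1) ∧
    (∀ x : G, x ^ 2 ∈ commutator G) ∧
    Subgroup.closure {x : G | ∃ k : ℕ, orderOf x = 2 ^ k} = ⊤ := by
  have hconj : ∀ x : G, ∃ c : G, c * x * c⁻¹ = x⁻¹ := fun x => isConj_iff.mp (hamb x)
  refine ⟨?_, ?_, ?_, ?_⟩
  · intro S x hx hx1
    obtain ⟨g, hg⟩ := hconj x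
    have hy : g⁻¹⁻¹ * x * g⁻¹ ∈ Subgroup.centralizer ((S : Subgroup G) : Set G) := by
      rw [inv_inv, hg]
      exact inv_mem hx
    obtain ⟨n, hn, hnx⟩ := S.conj_eq_normalizer_conj_of_mem_centralizer x g⁻¹ hx hy
    rw [inv_inv, hg] at hnx
    -- n⁻¹ * x * n = x⁻¹
    have hinv : n⁻¹ * x * n⁻¹⁻¹ = x⁻¹ := by rw [inv_inv]; exact hnx.symm
    obtain ⟨m, k, hm, hk⟩ := exists_odd_pow_two_power n⁻¹
    have h1 := conj_pow_odd_inv hinv hm
    have hmem : n⁻¹ ^ m ∈ (S : Subgroup G) :=
      mem_sylow_of_mem_normalizer S hk (pow_mem (inv_mem hn) m)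
    have hcomm := hx (n⁻¹ ^ m) hmem
    -- hcomm : n⁻¹ ^ m * x = x * n⁻¹ ^ m
    have hxx : x = x⁻¹ := by
      rw [← h1, hcomm, mul_inv_cancel_right]
    have hsq : x ^ 2 = 1 := by
      rw [pow_two]
      nth_rewrite 1 [hxx]
      exact inv_mul_cancel x
    exact orderOf_eq_prime hsq hx1
  · intro z hz
    obtain ⟨c, hc⟩ := hconj z
    have := Subgroup.mem_center_iff.mp hz c
    -- this : c * z = z * c
    have hzz : z = z⁻¹ := by
      rw [← hc, this, mul_inv_cancel_right]
    rw [pow_two]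
    nth_rewrite 1 [hzz]
    exact inv_mul_cancel z
  · intro x
    obtain ⟨c, hc⟩ := hconj x
    have : x ^ 2 = ⁅x, c⁆ := by
      rw [commutatorElement_def, pow_two]
      have : x⁻¹ = c * x * c⁻¹ := hc.symm
      calc x * x = x * (x⁻¹)⁻¹ := by rw [inv_inv]
        _ = x * (c * x * c⁻¹)⁻¹ := by rw [← this]
        _ = x * c * x⁻¹ * c⁻¹ := by group
    rw [this]
    exact Subgroup.commutator_mem_commutator (Subgroup.mem_top x) (Subgroup.mem_top c)
  · rw [eq_top_iff]
    intro x _
    set T := Subgroup.closure {x : G | ∃ k : ℕ, orderOf x = 2 ^ k} with hT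
    obtain ⟨c, hc⟩ := hconj x
    obtain ⟨m, k, hm, hk⟩ := exists_odd_pow_two_power c
    have h1 := conj_pow_odd_inv hc hm
    set t := c ^ m with ht
    have htT : t ∈ T := Subgroup.subset_closure ⟨k, hk⟩
    have hxtT : x * t * x⁻¹ ∈ T := by
      apply Subgroup.subset_closure
      refine ⟨k, ?_⟩
      rw [← hk]
      have : x * t * x⁻¹ = MulAut.conj x t := by simp
      rw [this, MulEquiv.orderOf_eq]
    have hx2 : x ^ 2 ∈ T := by
      have : x ^ 2 = (x * t * x⁻¹) * t⁻¹ := by
        have h2 : x⁻¹ = t * x * t⁻¹ := h1.symm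
        calc x ^ 2 = x * (x⁻¹)⁻¹ := by rw [inv_inv, pow_two]
          _ = x * (t * x * t⁻¹)⁻¹ := by rw [← h2]
          _ = (x * t * x⁻¹) * t⁻¹ := by group
      rw [this]
      exact mul_mem hxtT (inv_mem htT)
    obtain ⟨m', k', hm', hk'⟩ := exists_odd_pow_two_power x
    have hxm : x ^ m' ∈ T := Subgroup.subset_closure ⟨k', hk'⟩
    obtain ⟨j, hj⟩ := hm'
    have : x = x ^ m' * ((x ^ 2) ^ j)⁻¹ := by
      rw [hj, ← pow_mul, pow_succ, mul_assoc, (Commute.self_pow x (2 * j)).inv_right.eq,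
        ← mul_assoc, mul_inv_cancel, one_mul]
    rw [this]
    exact mul_mem hxm (inv_mem (pow_mem hx2 j))

end Cfsg.Agent.S4059
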