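import Cfsg.Statements.S4060
import Cfsg.Agent.Lib.Helper67.Basic
import Cfsg.Agent.Lib.Helper60.ThreePrimes

set_option autoImplicit false
open Cfsg

namespace Cfsg.Agent.S4060

open Cfsg.Agent.Lib.Helper67

universe u

/-- An element of odd order whose square is trivial is trivial. -/
theorem eq_one_of_odd_of_eq_inv {G : Type*} [Group G] {x : G} (hodd : Odd (orderOf x))
    (h : x = x⁻¹) : x = 1 := by
  have h2 : x ^ 2 = 1 := by
    rw [pow_two]
    nth_rewrite 2 [h]
    exact mul_inv_cancel x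
  have hd : orderOf x ∣ 2 := orderOf_dvd_of_pow_eq_one h2
  have hc : Nat.Coprime (orderOf x) 2 := Nat.Coprime.symm (Nat.coprime_two_left.mpr hodd)
  have : orderOf x = 1 := Nat.Coprime.eq_one_of_dvd hc hd
  exact orderOf_eq_one_iff.mp this

theorem aux : ∀ (n : ℕ) (G : Type u) [Group G] [Finite G] [Group.IsSolvable G],
    Nat.card G = n → ∀ (S : Sylow 2 G) (x : G), Odd (orderOf x) →
    x ∈ Subgroup.normalizer ((S : Subgroup G) : Set G) → IsConj x x⁻¹ → x = 1 := by
  intro n
  induction n using Nat.strong_induction_on with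
  | _ n ih =>
  intro G _ _ _ hcard S x hodd hnorm hconj
  rcases subsingleton_or_nontrivial G with hsub | hnt
  · exact Subsingleton.elim _ _
  obtain ⟨ℓ, N, hℓ, hNn, hNbot, hNp⟩ := Cfsg.Agent.Lib.Helper60.exists_normal_pgroup (G := G)
  have : Fact ℓ.Prime := ⟨hℓ⟩
  have := hNn
  -- pass to the quotient
  have hlt : Nat.card (G ⧸ N) < n := by
    rw [← hcard, Subgroup.card_eq_card_quotient_mul_card_subgroup N]
    have h1 : 1 < Nat.card N := by
      rcases Nat.lt_or_ge 1 (Nat.card N) with h | h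
      · exact h
      · exfalso
        have : Nat.card N = 1 := le_antisymm h Nat.card_pos
        exact hNbot (Subgroup.card_eq_one.mp this)
    have h2 : 0 < Nat.card (G ⧸ N) := Nat.card_pos
    nlinarith
  have hsurj : Function.Surjective (QuotientGroup.mk' N) := QuotientGroup.mk'_surjective N
  have hxN : x ∈ N := by
    have hq := ih (Nat.card (G ⧸ N)) hlt (G ⧸ N) rfl (S.mapSurjective hsurj)
      (QuotientGroup.mk' N x) ?_ ?_ ?_
    · exact (QuotientGroup.eq_one_iff x).mp hq
    · exact Odd.of_dvd_nat hodd (orderOf_map_dvd _ x)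
    · rw [Sylow.coe_mapSurjective]
      exact Subgroup.le_normalizer_map _ (Subgroup.mem_map_of_mem _ hnorm)
    · have := MonoidHom.map_isConj (QuotientGroup.mk' N) hconj
      rwa [map_inv] at this
  by_cases h2 : ℓ = 2
  · -- `x` is a 2-element of odd order
    subst h2
    obtain ⟨k, hk⟩ := hNp ⟨x, hxN⟩
    have hk' : x ^ 2 ^ k = 1 := by
      have := congrArg Subtype.val hk
      simpa using this
    have hd : orderOf x ∣ 2 ^ k := orderOf_dvd_of_pow_eq_one hk'
    have hc : Nat.Coprime (orderOf x) (2 ^ k) :=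
      Nat.Coprime.pow_right k (Nat.Coprime.symm (Nat.coprime_two_left.mpr hodd))
    have : orderOf x = 1 := Nat.Coprime.eq_one_of_dvd hc hd
    exact orderOf_eq_one_iff.mp this
  · -- `N` has odd order: `x` centralizes `S`
    have hdisj : Disjoint (S : Subgroup G) N :=
      IsPGroup.disjoint_of_ne 2 ℓ (Ne.symm h2) _ _ S.isPGroup' hNp
    have hcent : x ∈ Subgroup.centralizer ((S : Subgroup G) : Set G) := by
      rw [Subgroup.mem_centralizer_iff]
      intro s hs
      have hs' : s ∈ (S : Subgroup G) := hs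
      have h1 : x * s * x⁻¹ * s⁻¹ ∈ (S : Subgroup G) :=
        mul_mem ((Subgroup.mem_normalizer_iff.mp hnorm s).mp hs') (inv_mem hs')
      have h2 : x * s * x⁻¹ * s⁻¹ ∈ N := by
        have : x * s * x⁻¹ * s⁻¹ = x * (s * x⁻¹ * s⁻¹) := by group
        rw [this]
        exact mul_mem hxN (hNn.conj_mem _ (inv_mem hxN) s)
      have h3 : x * s * x⁻¹ * s⁻¹ = 1 := by
        have := Subgroup.disjoint_def.mp hdisj h1 h2
        exact this
      calc s * x = (x * s * x⁻¹ * s⁻¹)⁻¹ * (x * s) := by group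
        _ = x * s := by rw [h3, inv_one, one_mul]
    have hcent' : x⁻¹ ∈ Subgroup.centralizer ((S : Subgroup G) : Set G) := inv_mem hcent
    obtain ⟨c, hc⟩ := isConj_iff.mp hconj
    have hy : (c⁻¹)⁻¹ * x * c⁻¹ ∈ Subgroup.centralizer ((S : Subgroup G) : Set G) := by
      rw [inv_inv, hc]; exact hcent'
    obtain ⟨m, hm, hmeq⟩ := S.conj_eq_normalizer_conj_of_mem_centralizer x c⁻¹ hcent hy
    rw [inv_inv, hc] at hmeq
    -- `d = m⁻¹` inverts `x` and normalizes `S`
    have hd : m⁻¹ * x * (m⁻¹)⁻¹ = x⁻¹ := by rw [inv_inv]; exact hmeq.symm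
    have hdn : m⁻¹ ∈ Subgroup.normalizer ((S : Subgroup G) : Set G) := inv_mem hm
    obtain ⟨r, k, hr, hrk⟩ := exists_odd_pow_two_power (m⁻¹)
    have hinv := conj_pow_odd_inv hd hr
    have hmem : (m⁻¹) ^ r ∈ (S : Subgroup G) :=
      mem_sylow_of_mem_normalizer S hrk (pow_mem hdn r)
    have hcomm : (m⁻¹) ^ r * x = x * (m⁻¹) ^ r :=
      (Subgroup.mem_centralizer_iff.mp hcent _ hmem)
    have hxx : x = x⁻¹ := by
      rw [← hinv, hcomm]; group
    exact eq_one_of_odd_of_eq_inv hodd hxx

/-- Let G be a finite solvable group with Sylow 2-subgroup S, and let x ≠ 1 be an element of odd order normalizing S. Then x is not conjugate to its inverse in G. -/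
theorem result {G : Type*} [Group G] [Finite G] [Group.IsSolvable G]
    (S : Sylow 2 G) (x : G) (hx : x ≠ 1) (hodd : Odd (orderOf x))
    (hnorm : x ∈ Subgroup.normalizer ((S : Subgroup G) : Set G)) : ¬ IsConj x x⁻¹ := by
  intro hconj
  exact hx (aux _ G rfl S x hodd hnorm hconj)

end Cfsg.Agent.S4060
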