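import Cfsg.Statements.S4061
import Cfsg.Agent.S0016
import Cfsg.Agent.Lib.Helper1.SylowSystem
import Cfsg.Agent.Lib.Helper1.Basic
import Cfsg.Agent.Lib.Helper1.Hall
import Cfsg.Agent.Lib.Helper22.Fitting
import Cfsg.Agent.Lib.Helper30.PPrimeCore
import Cfsg.Agent.Lib.Helper32.PGroupCenter
import Cfsg.Agent.Lib.Helper67.UnionConj
import Cfsg.Agent.Lib.Helper67.Ambivalent
import Cfsg.Agent.Lib.Helper67.Basic
import Cfsg.Agent.Lib.Helper67.Normalizer

set_option autoImplicit false
open Cfsg

namespace Cfsg.Agent.S4061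

open Cfsg.Agent.Lib.Helper67.Amb
open scoped commutatorElement

universe u

/-- The hypotheses: solvable, ambivalent, one class of involutions. -/
structure Hyp (G : Type u) [Group G] : Prop where
  solv : Group.IsSolvable G
  amb : ∀ x : G, IsConj x x⁻¹
  one : ∀ s t : G, orderOf s = 2 → orderOf t = 2 → IsConj s t

theorem odd_orderOf_of_mem {G : Type u} [Group G] [Finite G] {K : Subgroup G}
    (hK : Odd (Nat.card K)) {x : G} (hx : x ∈ K) : Odd (orderOf x) := by
  have h1 : orderOf (⟨x, hx⟩ : K) ∣ Nat.card K := orderOf_dvd_natCard _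
  rw [Subgroup.orderOf_mk] at h1
  exact Odd.of_dvd_nat hK h1

/-- Key case: no nontrivial normal subgroup of odd order. Then there is at most one
involution. -/
theorem key {G : Type u} [Group G] [Finite G] (h : Hyp G)
    (hK : ∀ K : Subgroup G, K.Normal → Odd (Nat.card K) → K = ⊥) :
    ∀ s t : G, orderOf s = 2 → orderOf t = 2 → s = t := by
  classical
  have hs := h.solv
  have h2 : Fact (Nat.Prime 2) := ⟨Nat.prime_two⟩
  intro s t hs2 ht2
  have hne : (⊤ : Subgroup G) ≠ ⊥ := by
    intro hbot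
    have : s ∈ (⊥ : Subgroup G) := hbot ▸ Subgroup.mem_top s
    rw [Subgroup.mem_bot] at this
    rw [this, orderOf_one] at hs2
    omega
  obtain ⟨p, R, hp, -, hRn, hR1, hRc, hRp⟩ :=
    Cfsg.Agent.Lib.Helper1.exists_normal_elementary_le (⊤ : Subgroup G)
      (Cfsg.Agent.Lib.Helper1.isSolvable_top hs) hne
  have hRpg : IsPGroup p R := Cfsg.Agent.Lib.Helper1.isPGroup_of_exponent R hRp
  -- p = 2
  have hp2 : p = 2 := by
    by_contra hp2
    apply hR1
    apply hK R hRn
    have : Fact p.Prime := ⟨hp⟩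
    obtain ⟨k, hk⟩ := (IsPGroup.iff_card).mp hRpg
    rw [hk]
    exact Odd.pow (hp.odd_of_ne_two hp2)
  subst hp2
  -- all involutions lie in R
  obtain ⟨z, hzR, hz1⟩ := (Subgroup.ne_bot_iff_exists_ne_one).mp hR1 |> fun ⟨a, ha⟩ =>
    (⟨(a : G), a.2, fun h => ha (Subtype.ext h)⟩ : ∃ z : G, z ∈ R ∧ z ≠ 1)
  have hz2 : orderOf z = 2 := orderOf_eq_prime (hRp z hzR) hz1
  have hinv : ∀ t : G, orderOf t = 2 → t ∈ R := by
    intro t ht
    obtain ⟨c, hc⟩ := isConj_iff.mp (h.one z t hz2 ht)
    rw [← hc]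
    exact hRn.conj_mem z hzR c
  -- Sylow 2-subgroup containing R, central involution
  obtain ⟨Q, hRQ⟩ := hRpg.exists_le_sylow
  have hNn : (R.subgroupOf (Q : Subgroup G)).Normal := hRn.subgroupOf _
  have hN1 : R.subgroupOf (Q : Subgroup G) ≠ ⊥ := by
    intro hb
    apply hz1
    have : (⟨z, hRQ hzR⟩ : (Q : Subgroup G)) ∈ R.subgroupOf (Q : Subgroup G) := by
      rw [Subgroup.mem_subgroupOf]; exact hzR
    rw [hb, Subgroup.mem_bot] at this
    exact congrArg Subtype.val this
  obtain ⟨b, hbN, hbc, hb1⟩ :=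
    Cfsg.Agent.Lib.Helper32.exists_ne_one_mem_normal_inf_center Q.isPGroup' _ hN1
  set z₀ : G := (b : G) with hz₀
  have hz₀R : z₀ ∈ R := by rwa [Subgroup.mem_subgroupOf] at hbN
  have hz₀1 : z₀ ≠ 1 := fun h => hb1 (Subtype.ext h)
  have hz₀2 : orderOf z₀ = 2 := orderOf_eq_prime (hRp z₀ hz₀R) hz₀1
  have hz₀c : ∀ q ∈ (Q : Subgroup G), q * z₀ = z₀ * q := by
    intro q hq
    have := (Subgroup.mem_center_iff.mp hbc) ⟨q, hq⟩
    exact congrArg Subtype.val this
  -- Hall 2'-subgroup
  obtain ⟨H, hH⟩ := Cfsg.Agent.Lib.Helper1.exists_hall_compl hs 2 Nat.prime_two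
  have hQcard : Nat.card (Q : Subgroup G) = 2 ^ (Nat.card G).factorization 2 :=
    Q.card_eq_multiplicity
  have hHQ : Nat.card H * Nat.card (Q : Subgroup G) = Nat.card G := by
    rw [hQcard, ← hH]; exact H.card_mul_index
  have hHodd : Odd (Nat.card H) := by
    have hn : Nat.card G ≠ 0 := Nat.card_pos.ne'
    have h1 : Nat.card H = ordCompl[2] (Nat.card G) := by
      have h3 := Nat.ordProj_mul_ordCompl_eq_self (Nat.card G) 2
      rw [hQcard] at hHQ
      have h4 : Nat.card H * 2 ^ (Nat.card G).factorization 2 =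
          ordCompl[2] (Nat.card G) * 2 ^ (Nat.card G).factorization 2 := by
        rw [hHQ, mul_comm]; exact h3.symm
      exact Nat.eq_of_mul_eq_mul_right (pow_pos (by norm_num) _) h4
    rw [h1]
    have := Nat.not_dvd_ordCompl Nat.prime_two hn
    exact Nat.odd_iff.mpr (by omega)
  have hcop : (Nat.card H).Coprime (Nat.card (Q : Subgroup G)) := by
    rw [hQcard]
    exact Nat.Coprime.pow_right _ (Nat.coprime_two_right.mpr hHodd)
  have hcompl : Subgroup.IsComplement' H (Q : Subgroup G) :=
    Subgroup.isComplement'_of_coprime hHQ hcop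
  -- H is transitive on involutions
  have htrans : ∀ t : G, orderOf t = 2 → ∃ a ∈ H, a * z₀ * a⁻¹ = t := by
    intro t ht
    obtain ⟨c, hc⟩ := isConj_iff.mp (h.one z₀ t hz₀2 ht)
    obtain ⟨⟨a, q⟩, haq⟩ := hcompl.2 c
    refine ⟨a, a.2, ?_⟩
    simp only at haq
    rw [← hc, ← haq]
    have := hz₀c q q.2
    calc (a : G) * z₀ * (a : G)⁻¹ = (a : G) * (z₀ * (q : G)) * (q : G)⁻¹ * (a : G)⁻¹ := by group
      _ = (a : G) * ((q : G) * z₀) * (q : G)⁻¹ * (a : G)⁻¹ := by rw [this]
      _ = (a : G) * (q : G) * z₀ * ((a : G) * (q : G))⁻¹ := by group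
  -- every element of H is H-conjugate into C_H(z₀)
  have hcov : ∀ y : H, ∃ g : H, g⁻¹ * y * g ∈
      (Subgroup.centralizer ({z₀} : Set G)).subgroupOf H := by
    intro y
    have hyodd : Odd (orderOf (y : G)) := odd_orderOf_of_mem hHodd y.2
    by_cases hy1 : (y : G) * (y : G) = 1
    · have : (y : G) = 1 := eq_one_of_sq_of_odd hy1 hyodd
      refine ⟨1, ?_⟩
      rw [Subgroup.mem_subgroupOf]
      simp [this]
    · obtain ⟨c, hc⟩ := isConj_iff.mp (h.amb (y : G))
      obtain ⟨t, ht2, ht⟩ := exists_involution_of_inverts hc hy1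
      have htR : t ∈ R := hinv t ht2
      have hcomm : Commute t (y : G) := by
        rcases ht with ht | ht
        · exact ht
        · exfalso
          -- y * y ∈ R
          have h1 : (y : G) * t * (y : G)⁻¹ ∈ R := hRn.conj_mem t htR _
          have h2' : t * (y : G)⁻¹ * t⁻¹ = (y : G) := by
            have := congrArg (fun w => w⁻¹) ht
            simpa [mul_assoc] using this
          have h3 : (y : G) * (y : G) ∈ R := by
            have : (y : G) * (y : G) = ((y : G) * t * (y : G)⁻¹) * t⁻¹ := by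
              calc (y : G) * (y : G) = (y : G) * (t * (y : G)⁻¹ * t⁻¹) := by rw [h2']
                _ = ((y : G) * t * (y : G)⁻¹) * t⁻¹ := by group
            rw [this]
            exact R.mul_mem h1 (R.inv_mem htR)
          have h4 : ((y : G) * (y : G)) ^ 2 = 1 := hRp _ h3
          have h5 : (y : G) ^ 4 = 1 := by
            rw [← h4, ← pow_two, ← pow_mul]
          have h6 : orderOf (y : G) ∣ 4 := orderOf_dvd_of_pow_eq_one h5
          have h7 : orderOf (y : G) = 1 := by
            have : (4 : ℕ) = 2 ^ 2 := by norm_num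
            rw [this, Nat.dvd_prime_pow Nat.prime_two] at h6
            obtain ⟨j, hj, hj'⟩ := h6
            rw [hj'] at hyodd
            rcases j with _ | j
            · simpa using hj'
            · exfalso
              rw [pow_succ] at hyodd
              exact (Nat.not_even_iff_odd.mpr hyodd) (even_two.mul_left _)
          apply hy1
          rw [orderOf_eq_one_iff.mp h7]; simp
      obtain ⟨a, haH, ha⟩ := htrans t ht2
      refine ⟨⟨a, haH⟩, ?_⟩
      rw [Subgroup.mem_subgroupOf, Subgroup.mem_centralizer_iff]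
      intro w hw
      rw [Set.mem_singleton_iff] at hw
      subst hw
      simp only [Subgroup.coe_mul, Subgroup.coe_inv]
      have hc' : a * z₀ * a⁻¹ * (y : G) = (y : G) * (a * z₀ * a⁻¹) := by
        rw [ha]; exact hcomm.eq
      calc z₀ * (a⁻¹ * (y : G) * a) = a⁻¹ * (a * z₀ * a⁻¹ * (y : G)) * a := by group
        _ = a⁻¹ * ((y : G) * (a * z₀ * a⁻¹)) * a := by rw [hc']
        _ = a⁻¹ * (y : G) * a * z₀ := by group
  have htop := Cfsg.Agent.Lib.Helper67.eq_top_of_forall_exists_conj_mem _ hcov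
  have hHc : ∀ a ∈ H, a * z₀ = z₀ * a := by
    intro a ha
    have : (⟨a, ha⟩ : H) ∈ (Subgroup.centralizer ({z₀} : Set G)).subgroupOf H := by
      rw [htop]; trivial
    rw [Subgroup.mem_subgroupOf, Subgroup.mem_centralizer_iff] at this
    exact (this z₀ rfl).symm
  have hall : ∀ t : G, orderOf t = 2 → t = z₀ := by
    intro t ht
    obtain ⟨a, haH, ha⟩ := htrans t ht
    rw [← ha, hHc a haH]; group
  rw [hall s hs2, hall t ht2]


/-- Involutions of `G ⧸ K` lift to involutions when `K` has odd order. -/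
theorem lift_invol {G : Type u} [Group G] [Finite G] (K : Subgroup G) [K.Normal]
    (hK : Odd (Nat.card K)) (a : G ⧸ K) (ha : orderOf a = 2) :
    ∃ y : G, orderOf y = 2 ∧ (y : G ⧸ K) = a := by
  have h2 : Fact (Nat.Prime 2) := ⟨Nat.prime_two⟩
  obtain ⟨ha2, ha1⟩ := orderOf_eq_prime_iff.mp ha
  induction a using QuotientGroup.induction_on with
  | H x =>
  have hx2 : x ^ 2 ∈ K := by
    rw [← QuotientGroup.eq_one_iff, QuotientGroup.mk_pow]; exact ha2
  obtain ⟨k, hk⟩ := hK
  have hy2 : (x ^ Nat.card K) ^ 2 = 1 := by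
    rw [← pow_mul, mul_comm, pow_mul]
    have := pow_card_eq_one' (G := K) (x := ⟨x ^ 2, hx2⟩)
    exact congrArg Subtype.val this
  have hmk : ((x ^ Nat.card K : G) : G ⧸ K) = (x : G ⧸ K) := by
    rw [QuotientGroup.mk_pow, hk, pow_succ, pow_mul, ha2, one_pow, one_mul]
  refine ⟨x ^ Nat.card K, orderOf_eq_prime hy2 ?_, hmk⟩
  intro h1
  apply ha1
  rw [← hmk, h1]; rfl

theorem Hyp.quot {G : Type u} [Group G] [Finite G] (h : Hyp G) (K : Subgroup G) [K.Normal]
    (hK : Odd (Nat.card K)) : Hyp (G ⧸ K) := by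
  have := h.solv
  refine ⟨inferInstance, ?_, ?_⟩
  · intro a
    induction a using QuotientGroup.induction_on with
    | H x =>
    obtain ⟨c, hc⟩ := isConj_iff.mp (h.amb x)
    refine isConj_iff.mpr ⟨(c : G ⧸ K), ?_⟩
    rw [← QuotientGroup.mk_inv, ← QuotientGroup.mk_inv, ← QuotientGroup.mk_mul,
      ← QuotientGroup.mk_mul, hc]
  · intro a b ha hb
    obtain ⟨x, hx, rfl⟩ := lift_invol K hK a ha
    obtain ⟨y, hy, rfl⟩ := lift_invol K hK b hb
    obtain ⟨c, hc⟩ := isConj_iff.mp (h.one x y hx hy)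
    refine isConj_iff.mpr ⟨(c : G ⧸ K), ?_⟩
    rw [← QuotientGroup.mk_inv, ← QuotientGroup.mk_mul, ← QuotientGroup.mk_mul, hc]

/-- Commuting involutions are equal. -/
theorem commuting_invol_eq (n : ℕ) : ∀ (G : Type u) [Group G] [Finite G], Nat.card G ≤ n → Hyp G →
    ∀ s t : G, orderOf s = 2 → orderOf t = 2 → Commute s t → s = t := by
  induction n with
  | zero =>
    intro G _ _ hn
    have := Nat.card_pos (α := G)
    omega
  | succ n ih =>
    intro G _ _ hn h s t hs2 ht2 hst
    have h2 : Fact (Nat.Prime 2) := ⟨Nat.prime_two⟩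
    by_cases hK : ∀ K : Subgroup G, K.Normal → Odd (Nat.card K) → K = ⊥
    · exact key h hK s t hs2 ht2
    · push Not at hK
      obtain ⟨K, hKn, hKodd, hK1⟩ := hK
      have hlt : Nat.card (G ⧸ K) ≤ n := by
        have h1 := Subgroup.card_eq_card_quotient_mul_card_subgroup K
        have h3 : 1 < Nat.card K := (Subgroup.one_lt_card_iff_ne_bot K).mpr hK1
        have h4 : 0 < Nat.card (G ⧸ K) := Nat.card_pos
        nlinarith
      have hq := h.quot K hKodd
      obtain ⟨hs2', hs1⟩ := orderOf_eq_prime_iff.mp hs2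
      obtain ⟨ht2', ht1⟩ := orderOf_eq_prime_iff.mp ht2
      have hnotin : ∀ x : G, orderOf x = 2 → orderOf (x : G ⧸ K) = 2 := by
        intro x hx
        obtain ⟨hx2, hx1⟩ := orderOf_eq_prime_iff.mp hx
        refine orderOf_eq_prime ?_ ?_
        · rw [← QuotientGroup.mk_pow, hx2]; rfl
        · intro hmem
          rw [QuotientGroup.eq_one_iff] at hmem
          have := odd_orderOf_of_mem hKodd hmem
          rw [hx] at this
          exact absurd this (by decide)
      have heq := ih (G ⧸ K) hlt hq (s : G ⧸ K) (t : G ⧸ K) (hnotin s hs2) (hnotin t ht2)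
        (by
          unfold Commute SemiconjBy
          rw [← QuotientGroup.mk_mul, ← QuotientGroup.mk_mul, hst.eq])
      have hmem : s⁻¹ * t ∈ K := QuotientGroup.eq.mp heq
      have hsq : (s⁻¹ * t) * (s⁻¹ * t) = 1 := by
        have hc : Commute s⁻¹ t := hst.inv_left
        calc (s⁻¹ * t) * (s⁻¹ * t) = s⁻¹ * (t * s⁻¹) * t := by group
          _ = s⁻¹ * (s⁻¹ * t) * t := by rw [hc.eq]
          _ = (s ^ 2)⁻¹ * t ^ 2 := by rw [pow_two, pow_two]; group
          _ = 1 := by rw [hs2', ht2']; simp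
      have := eq_one_of_sq_of_odd hsq (odd_orderOf_of_mem hKodd hmem)
      exact inv_mul_eq_one.mp this


/-- A cyclic Sylow `2`-subgroup of an ambivalent group has order at most `2`. -/
theorem card_le_two_of_isCyclic {G : Type u} [Group G] [Finite G]
    (hamb : ∀ x : G, IsConj x x⁻¹) (S : Sylow 2 G) (hc : IsCyclic (S : Subgroup G)) :
    Nat.card (S : Subgroup G) ≤ 2 := by
  have h2 : Fact (Nat.Prime 2) := ⟨Nat.prime_two⟩
  obtain ⟨s, hs⟩ := hc.exists_generator
  have hSz : (S : Subgroup G) = Subgroup.zpowers (s : G) := by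
    apply le_antisymm
    · intro x hx
      obtain ⟨k, hk⟩ := Subgroup.mem_zpowers_iff.mp (hs ⟨x, hx⟩)
      refine Subgroup.mem_zpowers_iff.mpr ⟨k, ?_⟩
      have := congrArg Subtype.val hk
      simpa using this
    · rw [Subgroup.zpowers_le]; exact s.2
  obtain ⟨c, hc⟩ := isConj_iff.mp (hamb (s : G))
  obtain ⟨m, k, hm, hk⟩ := Cfsg.Agent.Lib.Helper67.exists_odd_pow_two_power c
  have hinv := Cfsg.Agent.Lib.Helper67.conj_pow_odd_inv hc hm
  have hinv' : (c ^ m)⁻¹ * (s : G) * (c ^ m) = (s : G)⁻¹ := by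
    have := congrArg (fun w => (c ^ m)⁻¹ * w⁻¹ * (c ^ m)) hinv
    beta_reduce at this
    rw [inv_inv] at this
    rw [← this]; group
  have hn : c ^ m ∈ Subgroup.normalizer ((S : Subgroup G) : Set G) := by
    rw [hSz, Cfsg.Agent.Lib.Helper67.mem_normalizer_zpowers_iff, hinv, hinv']
    exact ⟨inv_mem (Subgroup.mem_zpowers _), inv_mem (Subgroup.mem_zpowers _)⟩
  have hmem := Cfsg.Agent.Lib.Helper67.mem_sylow_of_mem_normalizer S hk hn
  rw [hSz] at hmem
  obtain ⟨j, hj⟩ := Subgroup.mem_zpowers_iff.mp hmem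
  have hcomm : c ^ m * (s : G) * (c ^ m)⁻¹ = (s : G) := by
    rw [← hj]; group
  rw [hcomm] at hinv
  have hsq : (s : G) * (s : G) = 1 := by
    calc (s : G) * (s : G) = (s : G) * (s : G)⁻¹ := by rw [← hinv]
      _ = 1 := mul_inv_cancel _
  rw [hSz, Nat.card_zpowers]
  exact Nat.le_of_dvd (by norm_num) (orderOf_dvd_of_pow_eq_one (by rw [pow_two]; exact hsq))

theorem part1 {G : Type u} [Group G] [Finite G] [Group.IsSolvable G]
    (hamb : ∀ x : G, IsConj x x⁻¹) (heven : 2 ∣ Nat.card G)
    (hone : ∀ s t : G, orderOf s = 2 → orderOf t = 2 → IsConj s t) (S : Sylow 2 G) :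
    (Nat.card S = 2 ∨ ∃ n : ℕ, Nonempty ((S : Subgroup G) ≃* QuaternionGroup (2 ^ (n + 1)))) := by
  classical
  have h2 : Fact (Nat.Prime 2) := ⟨Nat.prime_two⟩
  have hyp : Hyp G := ⟨inferInstance, hamb, hone⟩
  have hcomm := commuting_invol_eq (Nat.card G) G le_rfl hyp
  have hS2 : 2 ∣ Nat.card (S : Subgroup G) := by
    rw [S.card_eq_multiplicity]
    have hn : Nat.card G ≠ 0 := Nat.card_pos.ne'
    have : 1 ≤ (Nat.card G).factorization 2 :=
      (Nat.Prime.dvd_iff_one_le_factorization Nat.prime_two hn).mp heven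
    exact dvd_pow_self 2 (by omega)
  have hcyc : IsCyclic (S : Subgroup G) → Nat.card (S : Subgroup G) = 2 := by
    intro hc
    have h1 := card_le_two_of_isCyclic hamb S hc
    have h3 := Nat.le_of_dvd Nat.card_pos hS2
    omega
  have hSne : (⊤ : Subgroup (S : Subgroup G)) ≠ ⊥ := by
    intro hb
    have h1 : Nat.card (S : Subgroup G) = 1 := by
      rw [← Subgroup.card_top (G := (S : Subgroup G)), hb, Subgroup.card_bot]
    rw [h1] at hS2
    omega
  -- central involution
  have hcne : Subgroup.center (S : Subgroup G) ≠ ⊥ := by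
    have : Nontrivial (S : Subgroup G) := by
      rw [← Subgroup.nontrivial_iff_ne_bot] at hSne
      obtain ⟨a, b, hab⟩ := hSne
      exact ⟨⟨a.1, b.1, fun h => hab (Subtype.ext h)⟩⟩
    have := IsPGroup.center_nontrivial S.isPGroup'
    exact (Subgroup.nontrivial_iff_ne_bot _).mp this
  obtain ⟨z, hzc, hz1, hz2⟩ := Cfsg.Agent.S0016.exists_order_p S.isPGroup' _ hcne
  have hzo : orderOf ((z : (S : Subgroup G)) : G) = 2 := by
    rw [Subgroup.orderOf_coe]; exact orderOf_eq_prime hz2 hz1
  have huniq : ∀ H K : Subgroup (S : Subgroup G), Nat.card H = 2 → Nat.card K = 2 → H = K := by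
    have hz : ∀ H : Subgroup (S : Subgroup G), Nat.card H = 2 → H = Subgroup.zpowers z := by
      intro H hH
      obtain ⟨x, hx⟩ := exists_prime_orderOf_dvd_card' (G := H) 2 (by rw [hH])
      have hxo : orderOf (((x : H) : (S : Subgroup G)) : G) = 2 := by
        rw [Subgroup.orderOf_coe, Subgroup.orderOf_coe]; exact hx
      have hcm : Commute (((x : H) : (S : Subgroup G)) : G) ((z : (S : Subgroup G)) : G) := by
        have := (Subgroup.mem_center_iff.mp hzc) (x : (S : Subgroup G))
        have h3 := congrArg Subtype.val this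
        simpa [Commute, SemiconjBy] using h3
      have heq := hcomm _ _ hxo hzo hcm
      have hzH : z ∈ H := by
        have : ((x : H) : (S : Subgroup G)) = z := Subtype.ext heq
        rw [← this]; exact x.2
      symm
      apply Subgroup.eq_of_le_of_card_ge
      · rw [Subgroup.zpowers_le]; exact hzH
      · rw [hH, Nat.card_zpowers, orderOf_eq_prime hz2 hz1]
    intro H K hH hK
    rw [hz H hH, hz K hK]
  rcases Cfsg.Agent.S0016.result (G := (S : Subgroup G)) 2 S.isPGroup' huniq with hc | ⟨-, n, ⟨e⟩⟩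
  · exact Or.inl (hcyc hc)
  · rcases n with _ | n
    · left
      apply hcyc
      have : IsCyclic (QuaternionGroup (2 ^ 0)) := by
        rw [pow_zero]; exact QuaternionGroup.quaternionGroup_one_isCyclic
      exact isCyclic_of_surjective e.symm e.symm.surjective
    · exact Or.inr ⟨n, ⟨e⟩⟩


theorem part2 {G : Type u} [Group G] [Finite G]
    (hamb : ∀ x : G, IsConj x x⁻¹) (S : Sylow 2 G)
    (hcard : Nat.card S = 2) :
    (S : Subgroup G).IsComplement' (Cfsg.oddCore G) ∧ Cfsg.oddCore G = commutator G ∧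
        ∀ t : G, t ∈ S → t ≠ 1 → ∀ x : G, x ∈ Cfsg.oddCore G → t * x * t⁻¹ = x⁻¹ := by
  classical
  have h2 : Fact (Nat.Prime 2) := ⟨Nat.prime_two⟩
  -- elements of S
  have hSuniq : ∀ a ∈ (S : Subgroup G), ∀ b ∈ (S : Subgroup G), a ≠ 1 → b ≠ 1 → a = b := by
    intro a ha b hb ha1 hb1
    obtain ⟨y, -, hy⟩ := (Nat.card_eq_two_iff' (1 : (S : Subgroup G))).mp hcard
    have h1 := hy ⟨a, ha⟩ (fun h => ha1 (congrArg Subtype.val h))
    have h3 := hy ⟨b, hb⟩ (fun h => hb1 (congrArg Subtype.val h))
    exact congrArg Subtype.val (h1.trans h3.symm)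
  have hSsq : ∀ a ∈ (S : Subgroup G), a ^ 2 = 1 := by
    intro a ha
    have := pow_card_eq_one' (G := (S : Subgroup G)) (x := ⟨a, ha⟩)
    rw [hcard] at this
    exact congrArg Subtype.val this
  have hP : Subgroup.normalizer ((S : Subgroup G) : Set G) ≤
      Subgroup.centralizer ((S : Subgroup G) : Set G) := by
    intro n hn
    rw [Subgroup.mem_centralizer_iff]
    intro y hy
    by_cases hy1 : y = 1
    · rw [hy1]; simp
    · have h1 : n * y * n⁻¹ ∈ (S : Subgroup G) := (hn y).mp hy
      have h3 : n * y * n⁻¹ ≠ 1 := by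
        intro h; apply hy1
        have := congrArg (fun w => n⁻¹ * w * n) h
        simpa [mul_assoc] using this
      have h4 := hSuniq _ h1 _ hy h3 hy1
      calc y * n = (n * y * n⁻¹) * n := by rw [h4]
        _ = n * y := by group
  set f := MonoidHom.transferSylow S hP with hf
  have hKc : Subgroup.IsComplement' f.ker (S : Subgroup G) :=
    MonoidHom.ker_transferSylow_isComplement' S hP
  have hKodd : Odd (Nat.card f.ker) := by
    have := MonoidHom.not_dvd_card_ker_transferSylow S hP
    exact Nat.not_even_iff_odd.mp (fun h => this (even_iff_two_dvd.mp h))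
  have hKidx : f.ker.index = 2 := by rw [hKc.symm.index_eq_card]; exact hcard
  -- O = K
  have hOK : Cfsg.oddCore G = f.ker := by
    apply le_antisymm
    · intro x hx
      have hOodd : Odd (Nat.card (Cfsg.oddCore G)) := by
        have := Cfsg.Agent.Lib.Helper30.pPrimeCore_card_coprime (G := G) 2
        exact Nat.coprime_two_right.mp this
      have hxo := odd_orderOf_of_mem hOodd hx
      rw [MonoidHom.mem_ker]
      have h1 : orderOf (f x) ∣ orderOf x := orderOf_map_dvd f x
      have h3 : orderOf (f x) ∣ 2 := by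
        have := orderOf_dvd_natCard (f x)
        rwa [hcard] at this
      have h4 : orderOf (f x) = 1 := by
        rcases (Nat.dvd_prime Nat.prime_two).mp h3 with h | h
        · exact h
        · exfalso
          rw [h] at h1
          exact (Nat.not_even_iff_odd.mpr hxo) (even_iff_two_dvd.mpr h1)
      exact orderOf_eq_one_iff.mp h4
    · apply Cfsg.Agent.Lib.Helper22.le_pPrimeCore' (inferInstance : f.ker.Normal)
      exact Nat.coprime_two_right.mpr hKodd
  have hOodd : Odd (Nat.card (Cfsg.oddCore G)) := by rw [hOK]; exact hKodd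
  have hOn : (Cfsg.oddCore G).Normal := by rw [hOK]; infer_instance
  have hOidx : (Cfsg.oddCore G).index = 2 := by rw [hOK]; exact hKidx
  refine ⟨by rw [hOK]; exact hKc.symm, ?_, ?_⟩
  · -- O = G'
    apply le_antisymm
    · intro x hx
      obtain ⟨c, hc⟩ := isConj_iff.mp (hamb x)
      have hxx : x * x ∈ commutator G := by
        have h1 : ⁅x, c⁆ ∈ commutator G := by
          rw [commutator_def]
          exact Subgroup.commutator_mem_commutator (Subgroup.mem_top x) (Subgroup.mem_top c)
        have h3 : ⁅x, c⁆ = x * x := by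
          rw [commutatorElement_def]
          have : c * x⁻¹ * c⁻¹ = x := by
            have := congrArg (fun w => w⁻¹) hc
            simpa [mul_assoc] using this
          calc x * c * x⁻¹ * c⁻¹ = x * (c * x⁻¹ * c⁻¹) := by group
            _ = x * x := by rw [this]
        rwa [h3] at h1
      obtain ⟨k, hk⟩ := odd_orderOf_of_mem hOodd hx
      have : x = (x * x) ^ (k + 1) := by
        rw [← pow_two, ← pow_mul]
        have : 2 * (k + 1) = orderOf x + 1 := by omega
        rw [this, pow_succ, pow_orderOf_eq_one, one_mul]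
      rw [this]
      exact pow_mem hxx _
    · rw [hOK, commutator_def, Subgroup.commutator_le]
      intro g₁ _ g₂ _
      rw [MonoidHom.mem_ker, map_commutatorElement, commutatorElement_eq_one_iff_commute]
      by_cases h1 : f g₁ = 1
      · rw [h1]; exact Commute.one_left _
      · by_cases h3 : f g₂ = 1
        · rw [h3]; exact Commute.one_right _
        · have : f g₁ = f g₂ := by
            apply Subtype.ext
            exact hSuniq _ (f g₁).2 _ (f g₂).2 (fun h => h1 (Subtype.ext h))
              (fun h => h3 (Subtype.ext h))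
          rw [this]
          exact Commute.refl _
  · -- t inverts O
    intro t htS ht1
    have ht2 : t ^ 2 = 1 := hSsq t htS
    have hto : orderOf t = 2 := orderOf_eq_prime ht2 ht1
    have hnotO : ∀ u : G, orderOf u = 2 → u ∉ Cfsg.oddCore G := by
      intro u hu huO
      have := odd_orderOf_of_mem hOodd huO
      rw [hu] at this
      exact absurd this (by decide)
    have hfix : ∀ c ∈ Cfsg.oddCore G, Commute t c → c = 1 := by
      intro c hcO htc
      have hco := odd_orderOf_of_mem hOodd hcO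
      obtain ⟨g, hg⟩ := isConj_iff.mp (hamb c)
      obtain ⟨m, k, hm, hk⟩ := Cfsg.Agent.Lib.Helper67.exists_odd_pow_two_power g
      have hinv := Cfsg.Agent.Lib.Helper67.conj_pow_odd_inv hg hm
      set g' := g ^ m with hg'
      have hg'2 : g' ^ 2 = 1 := by
        have hpg : IsPGroup 2 (Subgroup.zpowers g') := by
          apply IsPGroup.of_card (n := k)
          rw [Nat.card_zpowers, hk]
        obtain ⟨S', hS'⟩ := hpg.exists_le_sylow
        have hc' : Nat.card (S' : Subgroup G) = 2 := by
          rw [S'.card_eq_multiplicity, ← S.card_eq_multiplicity]; exact hcard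
        have := pow_card_eq_one' (G := (S' : Subgroup G))
          (x := ⟨g', hS' (Subgroup.mem_zpowers g')⟩)
        rw [hc'] at this
        exact congrArg Subtype.val this
      by_cases hg'1 : g' = 1
      · rw [hg'1] at hinv
        have h1 : c = c⁻¹ := by simpa using hinv
        apply eq_one_of_sq_of_odd _ hco
        calc c * c = c * c⁻¹ := by rw [← h1]
          _ = 1 := mul_inv_cancel c
      · have hg'o : orderOf g' = 2 := orderOf_eq_prime hg'2 hg'1
        have hu : t * g' ∈ Cfsg.oddCore G := by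
          rw [Subgroup.mul_mem_iff_of_index_two hOidx]
          exact ⟨fun h => absurd h (hnotO t hto), fun h => absurd h (hnotO g' hg'o)⟩
        have huo := odd_orderOf_of_mem hOodd hu
        have hinv2 : (t * g') * c * (t * g')⁻¹ = c⁻¹ := by
          calc (t * g') * c * (t * g')⁻¹ = t * (g' * c * g'⁻¹) * t⁻¹ := by group
            _ = t * c⁻¹ * t⁻¹ := by rw [hinv]
            _ = c⁻¹ := by
              have := htc.inv_right
              rw [this.eq]; group
        exact eq_one_of_sq_of_odd (sq_eq_one_of_odd_inverts hinv2 huo) hco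
    have htinv : t⁻¹ = t := by
      rw [inv_eq_iff_mul_eq_one, ← pow_two]; exact ht2
    let φ : (Cfsg.oddCore G) → (Cfsg.oddCore G) := fun y =>
      ⟨(y : G)⁻¹ * (t * (y : G) * t⁻¹), (Cfsg.oddCore G).mul_mem ((Cfsg.oddCore G).inv_mem y.2)
        (hOn.conj_mem _ y.2 t)⟩
    have hφinj : Function.Injective φ := by
      intro y w hyw
      have h1 : (y : G)⁻¹ * (t * (y : G) * t⁻¹) = (w : G)⁻¹ * (t * (w : G) * t⁻¹) :=
        congrArg Subtype.val hyw
      have h3 : Commute t ((w : G) * (y : G)⁻¹) := by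
        unfold Commute SemiconjBy
        have h4 : (y : G)⁻¹ * t * (y : G) = (w : G)⁻¹ * t * (w : G) := by
          have := congrArg (fun z => z * t) h1
          simpa [mul_assoc] using this
        calc t * ((w : G) * (y : G)⁻¹)
            = (w : G) * ((w : G)⁻¹ * t * (w : G)) * (y : G)⁻¹ := by group
          _ = (w : G) * ((y : G)⁻¹ * t * (y : G)) * (y : G)⁻¹ := by rw [h4]
          _ = (w : G) * (y : G)⁻¹ * t := by group
      have h5 := hfix _ ((Cfsg.oddCore G).mul_mem w.2 ((Cfsg.oddCore G).inv_mem y.2)) h3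
      apply Subtype.ext
      exact (mul_inv_eq_one.mp h5).symm
    have hφsurj : Function.Surjective φ := Finite.injective_iff_surjective.mp hφinj
    intro x hx
    obtain ⟨y, hy⟩ := hφsurj ⟨x, hx⟩
    have hxy : x = (y : G)⁻¹ * (t * (y : G) * t⁻¹) := (congrArg Subtype.val hy).symm
    rw [hxy, htinv]
    have ht' : t * t = 1 := by rw [← pow_two]; exact ht2
    calc t * ((y : G)⁻¹ * (t * (y : G) * t)) * t
        = t * (y : G)⁻¹ * t * (y : G) * (t * t) := by group
      _ = t * (y : G)⁻¹ * t * (y : G) := by rw [ht', mul_one]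
      _ = ((y : G)⁻¹ * (t * (y : G) * t))⁻¹ := by
          simp only [mul_inv_rev, inv_inv, htinv]; group

theorem result {G : Type*} [Group G] [Finite G] [Group.IsSolvable G]
    (hamb : ∀ x : G, IsConj x x⁻¹) (heven : 2 ∣ Nat.card G) (hone : ∀ s t : G, orderOf s = 2 → orderOf t = 2 → IsConj s t) (S : Sylow 2 G) :
    (Nat.card S = 2 ∨ ∃ n : ℕ, Nonempty ((S : Subgroup G) ≃* QuaternionGroup (2 ^ (n + 1)))) ∧
    (Nat.card S = 2 → (S : Subgroup G).IsComplement' (Cfsg.oddCore G) ∧ Cfsg.oddCore G = commutator G ∧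
        ∀ t : G, t ∈ S → t ≠ 1 → ∀ x : G, x ∈ Cfsg.oddCore G → t * x * t⁻¹ = x⁻¹) :=
  ⟨part1 hamb heven hone S, part2 hamb S⟩

end Cfsg.Agent.S4061
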