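import Cfsg.Statements.S4065
import Cfsg.Agent.Lib.Helper41.SL2

set_option autoImplicit false
set_option linter.unusedSimpArgs false
set_option linter.unusedVariables false
open Cfsg

namespace Cfsg.Agent.S4065

open Cfsg.Agent.Lib.Helper41

local notation "SL₂(" F ")" => Matrix.SpecialLinearGroup (Fin 2) F
local notation "PSL₂(" F ")" => Matrix.ProjectiveSpecialLinearGroup (Fin 2) F

/-- In a group where commuting is transitive through non-identity elements, centralizers of
elements are TI-subsets. -/
theorem ti_of_commTrans {G : Type*} [Group G]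
    (hCT : ∀ u v w : G, v ≠ 1 → Commute u v → Commute v w → Commute u w) (x : G) :
    Cfsg.IsTISubset (Subgroup.centralizer ({x} : Set G) : Set G) := by
  intro g hg y hy hgy
  by_contra hy1
  apply hg
  rw [Subgroup.mem_set_normalizer_iff]
  intro h
  simp only [SetLike.mem_coe, Subgroup.mem_centralizer_singleton_iff] at hy hgy ⊢
  by_cases hx : x = 1
  · subst hx; simp
  · set x' := g⁻¹ * x * g with hx'
    have hx'1 : x' ≠ 1 := by
      intro h1
      apply hx
      have : x = g * x' * g⁻¹ := by rw [hx']; group
      rw [this, h1]; group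
    have hyx' : Commute y x' := by
      have h1 : g⁻¹ * (g * y * g⁻¹ * x) * g = g⁻¹ * (x * (g * y * g⁻¹)) * g := by rw [hgy]
      have h2 : g⁻¹ * (g * y * g⁻¹ * x) * g = y * x' := by rw [hx']; group
      have h3 : g⁻¹ * (x * (g * y * g⁻¹)) * g = x' * y := by rw [hx']; group
      rw [h2, h3] at h1
      exact h1
    have hxy : Commute x y := hy.symm
    have hxx' : Commute x x' := hCT x y x' hy1 hxy hyx'
    -- conjugation relation
    have hconj : g * h * g⁻¹ * x = x * (g * h * g⁻¹) ↔ h * x' = x' * h := by
      constructor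
      · intro h1
        have h2 : g⁻¹ * (g * h * g⁻¹ * x) * g = g⁻¹ * (x * (g * h * g⁻¹)) * g := by rw [h1]
        have h3 : g⁻¹ * (g * h * g⁻¹ * x) * g = h * x' := by rw [hx']; group
        have h4 : g⁻¹ * (x * (g * h * g⁻¹)) * g = x' * h := by rw [hx']; group
        rw [h3, h4] at h2
        exact h2
      · intro h1
        have h3 : g * h * g⁻¹ * x = g * (h * x') * g⁻¹ := by rw [hx']; group
        have h4 : x * (g * h * g⁻¹) = g * (x' * h) * g⁻¹ := by rw [hx']; group
        rw [h3, h4, h1]
    rw [hconj]
    constructor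
    · intro h1
      have h1' : Commute x h := h1.symm
      have : Commute x' h := hCT x' x h hx hxx'.symm h1'
      exact this.symm
    · intro h1
      have h1' : Commute x' h := h1.symm
      have : Commute x h := hCT x x' h hx'1 hxx' h1'
      exact this.symm

/-- Elements commuting with a non-central element of `SL₂` are linear combinations of it and
the identity. -/
theorem comm_form {F : Type*} [Field F] {X Y : SL₂(F)} (hX : X ∉ Subgroup.center (SL₂(F)))
    (h : X * Y = Y * X) :
    ∃ α β : F, Y 0 0 = α + β * X 0 0 ∧ Y 0 1 = β * X 0 1 ∧ Y 1 0 = β * X 1 0 ∧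
      Y 1 1 = α + β * X 1 1 := by
  rw [sl2_mem_center_iff] at hX
  have e00 := congrArg (fun M : SL₂(F) => M 0 0) h
  have e01 := congrArg (fun M : SL₂(F) => M 0 1) h
  have e10 := congrArg (fun M : SL₂(F) => M 1 0) h
  simp only [sl2_mul_00, sl2_mul_01, sl2_mul_10] at e00 e01 e10
  by_cases hb : X 0 1 = 0
  · by_cases hc : X 1 0 = 0
    · have had : X 0 0 - X 1 1 ≠ 0 := fun h0 => hX ⟨hb, hc, by linear_combination h0⟩
      have hf : Y 0 1 = 0 := by
        have : Y 0 1 * (X 0 0 - X 1 1) = 0 := by
          rw [hb] at e01; linear_combination e01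
        exact (mul_eq_zero.mp this).resolve_right had
      have hg : Y 1 0 = 0 := by
        have : Y 1 0 * (X 0 0 - X 1 1) = 0 := by
          rw [hc] at e10; linear_combination -e10
        exact (mul_eq_zero.mp this).resolve_right had
      refine ⟨Y 0 0 - (Y 0 0 - Y 1 1) / (X 0 0 - X 1 1) * X 0 0,
        (Y 0 0 - Y 1 1) / (X 0 0 - X 1 1), by ring, by rw [hf, hb]; ring, by rw [hg, hc]; ring, ?_⟩
      field_simp
      ring
    · refine ⟨Y 0 0 - Y 1 0 / X 1 0 * X 0 0, Y 1 0 / X 1 0, by ring, ?_, by field_simp, ?_⟩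
      · field_simp
        linear_combination -e00
      · field_simp
        linear_combination -e10
  · refine ⟨Y 0 0 - Y 0 1 / X 0 1 * X 0 0, Y 0 1 / X 0 1, by ring, by field_simp, ?_, ?_⟩
    · field_simp
      linear_combination e00
    · field_simp
      linear_combination e01

/-- Let F be a finite field with 2ⁿ elements, n ≥ 2. In PSL₂(F) the centralizer of every element meets each of its conjugates by elements outside its normalizer trivially. -/
theorem result (n : ℕ) (hn : 2 ≤ n)
    (x : Matrix.ProjectiveSpecialLinearGroup (Fin 2) (GaloisField 2 n)) :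
    Cfsg.IsTISubset (Subgroup.centralizer ({x} : Set (Matrix.ProjectiveSpecialLinearGroup (Fin 2) (GaloisField 2 n))) :
      Set (Matrix.ProjectiveSpecialLinearGroup (Fin 2) (GaloisField 2 n))) := by
  apply ti_of_commTrans
  intro u v w hv huv hvw
  obtain ⟨U, rfl⟩ := QuotientGroup.mk_surjective u
  obtain ⟨V, rfl⟩ := QuotientGroup.mk_surjective v
  obtain ⟨W, rfl⟩ := QuotientGroup.mk_surjective w
  have h2 : (2 : GaloisField 2 n) = 0 := by
    have := CharP.cast_eq_zero (GaloisField 2 n) 2
    exact_mod_cast this
  have hneg : (-1 : GaloisField 2 n) = 1 := by linear_combination -h2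
  have hV : V ∉ Subgroup.center (SL₂(GaloisField 2 n)) :=
    fun h => hv ((QuotientGroup.eq_one_iff V).mpr h)
  -- commuting in the quotient means commuting
  have lift : ∀ A B : SL₂(GaloisField 2 n),
      Commute (A : PSL₂(GaloisField 2 n)) (B : PSL₂(GaloisField 2 n)) → A * B = B * A := by
    intro A B hAB
    have h1 : ((A * B : SL₂(GaloisField 2 n)) : PSL₂(GaloisField 2 n)) =
        ((B * A : SL₂(GaloisField 2 n)) : PSL₂(GaloisField 2 n)) := hAB
    rw [QuotientGroup.eq] at h1
    set Z := (A * B)⁻¹ * (B * A) with hZdef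
    have hZ : Z = 1 := by
      rcases sl2_center_cases h1 with ⟨z00, z01, z10, z11⟩ | ⟨z00, z01, z10, z11⟩
      · apply sl2_ext
        · rw [z00]; simp
        · rw [z01]; simp
        · rw [z10]; simp
        · rw [z11]; simp
      · apply sl2_ext
        · rw [z00, hneg]; simp
        · rw [z01]; simp
        · rw [z10]; simp
        · rw [z11, hneg]; simp
    have : B * A = (A * B) * Z := by rw [hZdef]; group
    rw [this, hZ, mul_one]
  have hUV : V * U = U * V := (lift U V huv).symm
  have hVW : V * W = W * V := lift V W hvw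
  obtain ⟨α, β, u00, u01, u10, u11⟩ := comm_form hV hUV
  obtain ⟨α', β', w00, w01, w10, w11⟩ := comm_form hV hVW
  have : U * W = W * U := by
    apply sl2_ext
    · simp only [sl2_mul_00, u00, u01, u10, u11, w00, w01, w10, w11]; ring
    · simp only [sl2_mul_01, u00, u01, u10, u11, w00, w01, w10, w11]; ring
    · simp only [sl2_mul_10, u00, u01, u10, u11, w00, w01, w10, w11]; ring
    · simp only [sl2_mul_11, u00, u01, u10, u11, w00, w01, w10, w11]; ring
  show ((U : SL₂(GaloisField 2 n)) : PSL₂(GaloisField 2 n)) * (W : PSL₂(GaloisField 2 n)) =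
    (W : PSL₂(GaloisField 2 n)) * (U : PSL₂(GaloisField 2 n))
  rw [← QuotientGroup.mk_mul, ← QuotientGroup.mk_mul, this]

end Cfsg.Agent.S4065
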