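import Cfsg.Statements.S4066

set_option autoImplicit false
open Cfsg

namespace Cfsg.Agent.S4066

variable {G : Type*} [Group G]

theorem mem_normalizer_of_TI
    (hTI : ∀ x : G, Cfsg.IsTISubset (Subgroup.centralizer ({x} : Set G) : Set G))
    {x z g : G} (hz : z ∈ Subgroup.centralizer ({x} : Set G))
    (hgz : g * z * g⁻¹ ∈ Subgroup.centralizer ({x} : Set G)) (hz1 : z ≠ 1) :
    g ∈ Subgroup.normalizer ((Subgroup.centralizer ({x} : Set G) : Subgroup G) : Set G) := by
  by_contra hg
  exact hz1 (hTI x g hg z hz hgz)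

theorem comm_pgroup_closure {p : ℕ} [Fact p.Prime] {S : Set G}
    (hcomm : ∀ a ∈ S, ∀ b ∈ S, a * b = b * a) (hp : ∀ a ∈ S, ∃ k : ℕ, a ^ (p ^ k) = 1) :
    IsPGroup p (Subgroup.closure S) := by
  have hc := Subgroup.isMulCommutative_closure hcomm
  have key : ∀ a ∈ Subgroup.closure S, ∃ k : ℕ, a ^ (p ^ k) = 1 := by
    intro a ha
    induction ha using Subgroup.closure_induction with
    | mem x hx => exact hp x hx
    | one => exact ⟨0, by simp⟩
    | mul x y hx hy ihx ihy =>
      obtain ⟨k, hk⟩ := ihx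
      obtain ⟨l, hl⟩ := ihy
      refine ⟨k + l, ?_⟩
      have hxy : Commute x y := setLike_mul_comm hx hy
      rw [hxy.mul_pow, pow_add, pow_mul, hk, one_pow, one_mul, mul_comm (p ^ k), pow_mul, hl, one_pow]
    | inv x hx ih =>
      obtain ⟨k, hk⟩ := ih
      exact ⟨k, by rw [inv_pow, hk, inv_one]⟩
  intro a
  obtain ⟨k, hk⟩ := key a.1 a.2
  exact ⟨k, Subtype.ext (by simpa using hk)⟩

/-- Let G be a finite group in which the centralizer of every element meets each of its conjugates by elements outside its normalizer trivially. Then any two distinct Sylow p-subgroups of G, for any prime p, intersect trivially. -/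
theorem result {G : Type*} [Group G] [Finite G] (hTI : ∀ x : G, Cfsg.IsTISubset (Subgroup.centralizer ({x} : Set G) : Set G))
    {p : ℕ} [Fact p.Prime] (P Q : Sylow p G) (hPQ : P ≠ Q) : (P : Subgroup G) ⊓ (Q : Subgroup G) = ⊥ := by
  by_contra hne
  obtain ⟨⟨y, hy⟩, hy1⟩ := (Subgroup.ne_bot_iff_exists_ne_one).mp hne
  have hy1' : y ≠ 1 := fun h => hy1 (Subtype.ext h)
  have hyP : y ∈ (P : Subgroup G) := hy.1
  have hyQ : y ∈ (Q : Subgroup G) := hy.2
  have hnt : Nontrivial (P : Subgroup G) :=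
    ⟨⟨⟨y, hyP⟩, 1, fun h => hy1' (congrArg Subtype.val h)⟩⟩
  have hcnt := P.isPGroup'.center_nontrivial
  obtain ⟨⟨z', hz'⟩, hz'1⟩ := exists_ne (1 : Subgroup.center (P : Subgroup G))
  have hzP : (z' : G) ∈ (P : Subgroup G) := z'.2
  have hz1 : (z' : G) ≠ 1 := by
    intro h
    apply hz'1
    apply Subtype.ext
    apply Subtype.ext
    exact h
  have hzc : ∀ a ∈ (P : Subgroup G), a * (z' : G) = (z' : G) * a := by
    intro a ha
    have := Subgroup.mem_center_iff.mp hz' ⟨a, ha⟩
    exact congrArg Subtype.val this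
  generalize (z' : G) = z at hzP hz1 hzc
  obtain ⟨g, hg⟩ := MulAction.exists_smul_eq G P Q
  have hQmem : ∀ q, q ∈ (Q : Subgroup G) ↔ g⁻¹ * q * g ∈ (P : Subgroup G) := by
    intro q
    rw [← hg, Sylow.coe_subgroup_smul, Subgroup.mem_pointwise_smul_iff_inv_smul_mem]
    simp [MulAut.smul_def]
  have hPC : ∀ a ∈ (P : Subgroup G), a ∈ Subgroup.centralizer ({z} : Set G) := by
    intro a ha
    rw [Subgroup.mem_centralizer_singleton_iff]
    exact hzc a ha
  have hgN : g ∈ Subgroup.normalizer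
      ((Subgroup.centralizer ({z} : Set G) : Subgroup G) : Set G) := by
    refine mem_normalizer_of_TI hTI (z := g⁻¹ * y * g) (hPC _ ((hQmem y).mp hyQ)) ?_ ?_
    · have : g * (g⁻¹ * y * g) * g⁻¹ = y := by group
      rw [this]
      exact hPC y hyP
    · intro h
      apply hy1'
      have : y = g * (g⁻¹ * y * g) * g⁻¹ := by group
      rw [this, h]
      group
  have hQz : ∀ q ∈ (Q : Subgroup G), q * z = z * q := by
    intro q hq
    have h1 := hPC _ ((hQmem q).mp hq)
    have h2 := (hgN (g⁻¹ * q * g)).mp h1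
    have : g * (g⁻¹ * q * g) * g⁻¹ = q := by group
    rw [this] at h2
    exact Subgroup.mem_centralizer_singleton_iff.mp h2
  have hPQle : (P : Subgroup G) ≤ Q := by
    intro x hx
    have hzx : z ∈ Subgroup.centralizer ({x} : Set G) := by
      rw [Subgroup.mem_centralizer_singleton_iff]
      exact (hzc x hx).symm
    have hqN : ∀ q ∈ (Q : Subgroup G), q ∈ Subgroup.normalizer
        ((Subgroup.centralizer ({x} : Set G) : Subgroup G) : Set G) := by
      intro q hq
      refine mem_normalizer_of_TI hTI hzx ?_ hz1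
      rw [hQz q hq, mul_inv_cancel_right]
      exact hzx
    have hcomm1 : ∀ q ∈ (Q : Subgroup G), (q * x * q⁻¹) * x = x * (q * x * q⁻¹) := by
      intro q hq
      have hxx : x ∈ Subgroup.centralizer ({x} : Set G) :=
        Subgroup.mem_centralizer_singleton_iff.mpr rfl
      have := (hqN q hq x).mp hxx
      exact Subgroup.mem_centralizer_singleton_iff.mp this
    let S : Set G := {a | ∃ q ∈ (Q : Subgroup G), a = q * x * q⁻¹}
    have hScomm : ∀ a ∈ S, ∀ b ∈ S, a * b = b * a := by
      rintro _ ⟨q, hq, rfl⟩ _ ⟨r, hr, rfl⟩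
      have h := hcomm1 (q⁻¹ * r) (mul_mem (inv_mem hq) hr)
      have e1 : q * x * q⁻¹ * (r * x * r⁻¹) = q * (x * (q⁻¹ * r * x * (q⁻¹ * r)⁻¹)) * q⁻¹ := by
        group
      have e2 : r * x * r⁻¹ * (q * x * q⁻¹) = q * ((q⁻¹ * r * x * (q⁻¹ * r)⁻¹) * x) * q⁻¹ := by
        group
      rw [e1, e2, h]
    have hSp : ∀ a ∈ S, ∃ k : ℕ, a ^ (p ^ k) = 1 := by
      rintro _ ⟨q, hq, rfl⟩
      obtain ⟨k, hk⟩ := P.isPGroup' ⟨x, hx⟩
      refine ⟨k, ?_⟩
      have hk' : x ^ (p ^ k) = 1 := by
        have := congrArg Subtype.val hk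
        simpa using this
      rw [conj_pow, hk']
      group
    have hA := comm_pgroup_closure hScomm hSp
    have hQA : (Q : Subgroup G) ≤ Subgroup.normalizer (Subgroup.closure S : Subgroup G) := by
      apply Subgroup.le_normalizer_closure_iff.mpr
      rintro h hh _ ⟨q, hq, rfl⟩
      apply Subgroup.subset_closure
      exact ⟨h * q, mul_mem hh hq, by group⟩
    have hsup := Q.isPGroup'.to_sup_of_normal_right' hA hQA
    have hmax := Q.is_maximal' hsup le_sup_left
    have hxA : x ∈ Subgroup.closure S := Subgroup.subset_closure ⟨1, one_mem _, by simp⟩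
    have hx2 : x ∈ (Q : Subgroup G) ⊔ Subgroup.closure S :=
      (le_sup_right : Subgroup.closure S ≤ _) hxA
    rw [hmax] at hx2
    exact hx2
  apply hPQ
  apply Sylow.ext
  exact (P.is_maximal' Q.isPGroup' hPQle).symm

end Cfsg.Agent.S4066
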