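import Cfsg.Statements.S4067
import Cfsg.Agent.Lib.Helper67.AO.Glue
import Cfsg.Agent.Lib.Helper81.AOA
import Cfsg.Agent.Lib.Helper81.AOB
import Cfsg.Agent.Lib.Helper31.AOT
import Cfsg.Agent.Lib.Helper31.AOE
import Cfsg.Agent.Lib.Helper76.AOU2

set_option autoImplicit false
open Cfsg

namespace Cfsg.Agent.S4067

open Cfsg.Agent.Lib.Helper67.AO

/-- Let G be a finite non-abelian group and p the least prime dividing its order. Then the automorphism group of G has at most #G/p orbits on G. -/
theorem result {G : Type*} [Group G] [Finite G] (hna : ¬ IsMulCommutative G) :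
    Nat.card (MulAction.orbitRel.Quotient (MulAut G) G) ≤ Nat.card G / (Nat.card G).minFac := by
  set p := (Nat.card G).minFac with hpdef
  have hn1 : Nat.card G ≠ 1 := by
    intro h
    apply hna
    have : Subsingleton G := (Nat.card_eq_one_iff_unique.mp h).1
    exact ⟨⟨fun a b => Subsingleton.elim _ _⟩⟩
  have hp : p.Prime := Nat.minFac_prime hn1
  rw [Nat.le_div_iff_mul_le hp.pos]
  by_cases hd : p + 1 ≤ Nat.card (commutator G)
  · exact le_trans (Nat.mul_le_mul_right _ card_orbits_le_card_conjClasses)
      (card_conjClasses_mul_le hd)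
  · have hZtop : Subgroup.center G ≠ ⊤ := by
      intro h
      apply hna
      refine ⟨⟨fun a b => ?_⟩⟩
      have hb : b ∈ Subgroup.center G := h ▸ Subgroup.mem_top b
      exact (Subgroup.mem_center_iff.mp hb) a
    have hcomm_ne : commutator G ≠ ⊥ := by
      rw [Ne, commutator_eq_bot_iff_center_eq_top]
      exact hZtop
    have hcard : Nat.card (commutator G) = p := by
      have h1 : Nat.card (commutator G) ≠ 1 := by
        rwa [Ne, Subgroup.card_eq_one]
      have h0 : 0 < Nat.card (commutator G) := Nat.card_pos
      have hle : p ≤ Nat.card (commutator G) :=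
        Nat.minFac_le_of_dvd (by omega) (Subgroup.card_subgroup_dvd_card _)
      omega
    have hZ := commutator_le_center_of_card hcard
    obtain ⟨u₀, hu₀⟩ : ∃ u : G, u ∉ Subgroup.center G := by
      by_contra h
      push Not at h
      exact hZtop (by rw [eq_top_iff]; intro x _; exact h x)
    have hch := center_chain u₀ hu₀
    have hpowcard : ∀ c ∈ commutator G, c ^ p = 1 := by
      intro c hc
      have h := pow_card_eq_one' (G := commutator G) (x := ⟨c, hc⟩)
      rw [hcard] at h
      exact congrArg Subtype.val h
    by_cases hA : ∃ e ∈ Subgroup.center G, e ^ p = 1 ∧ e ∉ commutator G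
    · obtain ⟨e, heZ, hep, he⟩ := hA
      obtain ⟨β, hβ⟩ := exists_central_moving hp hZ hcard e heZ hep he u₀
      exact card_orbits_mul_le_of_moving u₀ hu₀ β hβ
    · push Not at hA
      by_cases hp2 : p = 2
      · have hcard2 : Nat.card (commutator G) = 2 := by rw [hcard, hp2]
        have hidx : 4 * Nat.card (Subgroup.center G) ≤ Nat.card G := by
          have := hch.1
          rw [← hpdef, hp2] at this
          simpa using this
        have hB2 : ∀ e ∈ Subgroup.center G, e ^ 2 = 1 → e ∈ commutator G := by
          intro e he he2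
          exact hA e he (by rw [hp2]; exact he2)
        obtain ⟨u, hu, hu2, huc⟩ := exists_noncentral_sq_eq hZ hcard2 hidx hB2
        have hup : u ^ p * (u ^ 2) ^ (p.choose 2) = 1 := by
          have h4 := hpowcard (u ^ 2) huc
          rw [hp2] at h4 ⊢
          have : Nat.choose 2 2 = 1 := by decide
          rw [this, pow_one, ← pow_two]
          exact h4
        obtain ⟨β, hβ⟩ := exists_transvection hp hZ hcard u hu (u ^ 2) huc hu2 hup
        exact card_orbits_mul_le_of_moving u hu β hβ
      · obtain ⟨u, hu, hup1⟩ := exists_noncentral_pow_eq_one hp hp2 hZ hcard hch.1 hA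
        obtain ⟨c, hcG, hc1⟩ : ∃ c ∈ commutator G, c ≠ 1 :=
          (Subgroup.ne_bot_iff_exists_ne_one.mp hcomm_ne).elim fun c hc => ⟨c.1, c.2, fun h => hc (Subtype.ext h)⟩
        have hup : u ^ p * c ^ (p.choose 2) = 1 := by
          rw [hup1, one_mul]
          have h3 : 2 < p := by
            have := hp.two_le
            omega
          obtain ⟨k, hk⟩ : p ∣ p.choose 2 := hp.dvd_choose_self (by norm_num) h3
          rw [hk, pow_mul, hpowcard c hcG, one_pow]
        obtain ⟨β, hβ⟩ := exists_transvection hp hZ hcard u hu c hcG hc1 hup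
        exact card_orbits_mul_le_of_moving u hu β hβ

end Cfsg.Agent.S4067
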