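import Cfsg.Statements.S4071
import Cfsg.Agent.Lib.Helper60.ThreePrimes

set_option autoImplicit false
open Cfsg

namespace Cfsg.Agent.S4071

open Subgroup
open scoped Pointwise commutatorElement

variable {G : Type*} [Group G]

/-- The twisting map `a ↦ a (y a⁻¹ y⁻¹)` is injective when `y` acts fixed-point-freely. -/
theorem twist_injective {A : Subgroup G} {y : G}
    (hfpf : ∀ a : G, a ∈ A → a ≠ 1 → y * a * y⁻¹ ≠ a) {a a' : G} (ha : a ∈ A) (ha' : a' ∈ A)
    (h : a * (y * a⁻¹ * y⁻¹) = a' * (y * a'⁻¹ * y⁻¹)) : a = a' := by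
  by_contra hne
  have hd : a'⁻¹ * a ∈ A := mul_mem (inv_mem ha') ha
  have hd1 : a'⁻¹ * a ≠ 1 := by
    intro h1
    apply hne
    calc a = a' * (a'⁻¹ * a) := by group
      _ = a' := by rw [h1, mul_one]
  apply hfpf _ hd hd1
  calc y * (a'⁻¹ * a) * y⁻¹ = a'⁻¹ * (a' * (y * a'⁻¹ * y⁻¹)) * (y * a⁻¹ * y⁻¹)⁻¹ := by group
    _ = a'⁻¹ * (a * (y * a⁻¹ * y⁻¹)) * (y * a⁻¹ * y⁻¹)⁻¹ := by rw [h]
    _ = a'⁻¹ * a := by group

/-- The twisting map is surjective on every finite `y`-invariant subgroup of `A`. -/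
theorem twist_surjective [Finite G] {A B : Subgroup G} {y : G}
    (hfpf : ∀ a : G, a ∈ A → a ≠ 1 → y * a * y⁻¹ ≠ a) (hBA : B ≤ A)
    (hBinv : ∀ b : G, b ∈ B → y * b * y⁻¹ ∈ B) {c : G} (hc : c ∈ B) :
    ∃ b ∈ B, b * (y * b⁻¹ * y⁻¹) = c := by
  let φ : B → B := fun b => ⟨(b : G) * (y * (b : G)⁻¹ * y⁻¹),
    mul_mem b.2 (hBinv _ (inv_mem b.2))⟩
  have hinj : Function.Injective φ := by
    intro b b' hbb'
    apply Subtype.ext
    exact twist_injective hfpf (hBA b.2) (hBA b'.2) (congrArg Subtype.val hbb')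
  obtain ⟨b, hb⟩ := (Finite.injective_iff_surjective.mp hinj) ⟨c, hc⟩
  exact ⟨b, b.2, congrArg Subtype.val hb⟩

/-- Core of the converse: if `y ∈ H` acts fixed-point-freely on the normal subgroup `A` and
`G = ⟨y⟩ A`, then `H` is self-normalizing. -/
theorem normalizer_le_of_mem [Finite G] {A : Subgroup G} [hAn : A.Normal] {y : G}
    (hfpf : ∀ a : G, a ∈ A → a ≠ 1 → y * a * y⁻¹ ≠ a)
    (hdec : ∀ g : G, ∃ i : ℕ, (y ^ i)⁻¹ * g ∈ A) (H : Subgroup G) (hyH : y ∈ H) :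
    normalizer (H : Set G) ≤ H := by
  intro n hn
  obtain ⟨i, hi⟩ := hdec n
  set a := (y ^ i)⁻¹ * n with ha
  have haN : a ∈ normalizer (H : Set G) :=
    mul_mem (inv_mem (le_normalizer (pow_mem hyH i))) hn
  have hiA : a ∈ A := hi
  have hcA : a * (y * a⁻¹ * y⁻¹) ∈ A := A.mul_mem hiA (hAn.conj_mem _ (A.inv_mem hiA) y)
  have hcH : a * (y * a⁻¹ * y⁻¹) ∈ H := by
    have h1 : a * y * a⁻¹ ∈ H := (mem_normalizer_iff.mp haN y).mp hyH
    have h2 : a * (y * a⁻¹ * y⁻¹) = (a * y * a⁻¹) * y⁻¹ := by group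
    rw [h2]; exact mul_mem h1 (inv_mem hyH)
  have hBinv : ∀ b : G, b ∈ H ⊓ A → y * b * y⁻¹ ∈ H ⊓ A := by
    intro b hb
    have hb' := Subgroup.mem_inf.mp hb
    exact Subgroup.mem_inf.mpr
      ⟨H.mul_mem (H.mul_mem hyH hb'.1) (H.inv_mem hyH), hAn.conj_mem b hb'.2 y⟩
  obtain ⟨b, hb, hbc⟩ := twist_surjective hfpf (inf_le_right : H ⊓ A ≤ A) hBinv
    (c := a * (y * a⁻¹ * y⁻¹)) (Subgroup.mem_inf.mpr ⟨hcH, hcA⟩)
  have hb' := Subgroup.mem_inf.mp hb
  have hab : b = a := twist_injective hfpf hb'.2 hiA hbc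
  have hn' : n = y ^ i * a := by rw [ha]; group
  rw [hn', ← hab]
  exact mul_mem (pow_mem hyH i) hb'.1

/-- **Converse direction.** In a group `⟨x⟩ ⋉ A` of the stated shape, every non-abelian subgroup is
self-normalizing. -/
theorem selfNormalizing_of_structure [Finite G] (x : G) (A : Subgroup G) (p : ℕ) (hp : p.Prime)
    [hAn : A.Normal] (hAab : IsMulCommutative A) (hxord : ∃ k : ℕ, orderOf x = p ^ k)
    (hc : (zpowers x).IsComplement' A) (hxp : x ^ p ∈ center G)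
    (hfpf : ∀ a : G, a ∈ A → a ≠ 1 → x * a * x⁻¹ ≠ a) (H : Subgroup G)
    (hH : ¬ IsMulCommutative H) : normalizer (H : Set G) = H := by
  apply le_antisymm _ le_normalizer
  have hdec : ∀ g : G, ∃ i : ℕ, (x ^ i)⁻¹ * g ∈ A := by
    intro g
    have hg : g ∈ zpowers x ⊔ A := by rw [hc.sup_eq_top]; exact mem_top g
    have hg' : g ∈ ((zpowers x : Subgroup G) : Set G) * (A : Set G) := by
      rw [← mul_normal]; exact hg
    obtain ⟨u, hu, a, ha, rfl⟩ := Set.mem_mul.mp hg'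
    obtain ⟨i, rfl⟩ := (mem_powers_iff_mem_zpowers.mpr hu)
    refine ⟨i, ?_⟩
    have h1 : (x ^ i)⁻¹ * (x ^ i * a) = a := by group
    rw [h1]; exact ha
  have hex : ∃ h ∈ H, ∃ i : ℕ, (x ^ i)⁻¹ * h ∈ A ∧ ¬ p ∣ i := by
    by_contra hcon
    push Not at hcon
    apply hH
    refine ⟨⟨fun h₁ h₂ => ?_⟩⟩
    apply Subtype.ext
    obtain ⟨i₁, hi₁⟩ := hdec h₁
    obtain ⟨i₂, hi₂⟩ := hdec h₂
    obtain ⟨j₁, rfl⟩ := hcon h₁ h₁.2 i₁ hi₁
    obtain ⟨j₂, rfl⟩ := hcon h₂ h₂.2 i₂ hi₂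
    have hz₁ : x ^ (p * j₁) ∈ center G := by rw [pow_mul]; exact pow_mem hxp j₁
    have hz₂ : x ^ (p * j₂) ∈ center G := by rw [pow_mul]; exact pow_mem hxp j₂
    have e₁ : (h₁ : G) = x ^ (p * j₁) * ((x ^ (p * j₁))⁻¹ * (h₁ : G)) := by group
    have e₂ : (h₂ : G) = x ^ (p * j₂) * ((x ^ (p * j₂))⁻¹ * (h₂ : G)) := by group
    have hcomm : ((x ^ (p * j₁))⁻¹ * (h₁ : G)) * ((x ^ (p * j₂))⁻¹ * (h₂ : G))
        = ((x ^ (p * j₂))⁻¹ * (h₂ : G)) * ((x ^ (p * j₁))⁻¹ * (h₁ : G)) :=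
      congrArg Subtype.val (mul_comm' (⟨_, hi₁⟩ : A) ⟨_, hi₂⟩)
    show (h₁ : G) * (h₂ : G) = (h₂ : G) * (h₁ : G)
    rw [e₁, e₂]
    generalize (x ^ (p * j₁))⁻¹ * (h₁ : G) = a₁ at hcomm
    generalize (x ^ (p * j₂))⁻¹ * (h₂ : G) = a₂ at hcomm
    have c₁ := mem_center_iff.mp hz₁
    have c₂ := mem_center_iff.mp hz₂
    calc x ^ (p * j₁) * a₁ * (x ^ (p * j₂) * a₂)
        = x ^ (p * j₁) * (a₁ * x ^ (p * j₂)) * a₂ := by group
      _ = x ^ (p * j₁) * (x ^ (p * j₂) * a₁) * a₂ := by rw [c₂ a₁]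
      _ = x ^ (p * j₁) * x ^ (p * j₂) * (a₁ * a₂) := by group
      _ = x ^ (p * j₁) * x ^ (p * j₂) * (a₂ * a₁) := by rw [hcomm]
      _ = (x ^ (p * j₁) * x ^ (p * j₂)) * a₂ * a₁ := by group
      _ = (x ^ (p * j₂) * x ^ (p * j₁)) * a₂ * a₁ := by rw [c₂ (x ^ (p * j₁))]
      _ = x ^ (p * j₂) * (x ^ (p * j₁) * a₂) * a₁ := by group
      _ = x ^ (p * j₂) * (a₂ * x ^ (p * j₁)) * a₁ := by rw [c₁ a₂]
      _ = x ^ (p * j₂) * a₂ * (x ^ (p * j₁) * a₁) := by group
  obtain ⟨h, hhH, i, hia, hpi⟩ := hex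
  obtain ⟨k, hk⟩ := hxord
  have hcop : i.Coprime (orderOf x) := by
    rw [hk]
    exact Nat.Coprime.pow_right k ((Nat.Prime.coprime_iff_not_dvd hp).mpr hpi).symm
  obtain ⟨j, hj⟩ := exists_pow_eq_self_of_coprime hcop
  have hyH : h ^ j ∈ H := pow_mem hhH j
  have hq : QuotientGroup.mk' A h = QuotientGroup.mk' A (x ^ i) := by
    show ((h : G) : G ⧸ A) = ((x ^ i : G) : G ⧸ A)
    exact (QuotientGroup.eq.mpr hia).symm
  have hyx : h ^ j * x⁻¹ ∈ A := by
    have h1 : QuotientGroup.mk' A (h ^ j * x⁻¹) = 1 := by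
      rw [map_mul, map_inv, map_pow, hq, ← map_pow, hj, mul_inv_cancel]
    exact (QuotientGroup.eq_one_iff _).mp h1
  obtain ⟨b, hbA, hb⟩ := twist_surjective hfpf (le_refl A)
    (fun a ha => hAn.conj_mem a ha x) hyx
  have hyb : h ^ j = b * x * b⁻¹ := by
    calc h ^ j = (h ^ j * x⁻¹) * x := by group
      _ = (b * (x * b⁻¹ * x⁻¹)) * x := by rw [hb]
      _ = b * x * b⁻¹ := by group
  have hfpf' : ∀ a : G, a ∈ A → a ≠ 1 → h ^ j * a * (h ^ j)⁻¹ ≠ a := by
    intro a ha ha1 hya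
    apply hfpf a ha ha1
    have h1 : x * a * x⁻¹ ∈ A := hAn.conj_mem a ha x
    have h2 : b * (x * a * x⁻¹) = (x * a * x⁻¹) * b :=
      congrArg Subtype.val (mul_comm' (⟨b, hbA⟩ : A) ⟨_, h1⟩)
    have h3 : b⁻¹ * a * b = a := by
      have h4 : a * b = b * a := congrArg Subtype.val (mul_comm' (⟨a, ha⟩ : A) ⟨b, hbA⟩)
      calc b⁻¹ * a * b = b⁻¹ * (a * b) := by group
        _ = b⁻¹ * (b * a) := by rw [h4]
        _ = a := by group
    have h5 : b * x * a * x⁻¹ * b⁻¹ = b * x * (b⁻¹ * a * b) * x⁻¹ * b⁻¹ := by rw [h3]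
    calc x * a * x⁻¹ = ((x * a * x⁻¹) * b) * b⁻¹ := by group
      _ = (b * (x * a * x⁻¹)) * b⁻¹ := by rw [h2]
      _ = b * x * a * x⁻¹ * b⁻¹ := by group
      _ = b * x * (b⁻¹ * a * b) * x⁻¹ * b⁻¹ := h5
      _ = (b * x * b⁻¹) * a * (b * x * b⁻¹)⁻¹ := by group
      _ = a := by rw [← hyb]; exact hya
  have hqy : QuotientGroup.mk' A (h ^ j) = QuotientGroup.mk' A x := by
    have h1 : QuotientGroup.mk' A (h ^ j * x⁻¹) = 1 := (QuotientGroup.eq_one_iff _).mpr hyx
    rw [map_mul, map_inv, mul_inv_eq_one] at h1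
    exact h1
  have hdec' : ∀ g : G, ∃ i : ℕ, ((h ^ j) ^ i)⁻¹ * g ∈ A := by
    intro g
    obtain ⟨i, hi⟩ := hdec g
    refine ⟨i, ?_⟩
    have h1 : QuotientGroup.mk' A (((h ^ j) ^ i)⁻¹ * g) = 1 := by
      rw [map_mul, map_inv, map_pow, hqy, ← map_pow, ← map_inv, ← map_mul]
      exact (QuotientGroup.eq_one_iff _).mpr hi
    exact (QuotientGroup.eq_one_iff _).mp h1
  exact normalizer_le_of_mem hfpf' hdec' H hyH

/-- Normalizers grow in finite `p`-subgroups. -/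
theorem exists_mem_normalizer_not_mem' [Finite G] {p : ℕ} [Fact p.Prime] {P D : Subgroup G}
    (hP : IsPGroup p P) (hDP : D ≤ P) (hne : D ≠ P) :
    ∃ a ∈ P, a ∈ normalizer (D : Set G) ∧ a ∉ D := by
  have hnil : Group.IsNilpotent P := hP.isNilpotent
  have hnc : NormalizerCondition P := Group.normalizerCondition_of_isNilpotent
  have hlt : D.subgroupOf P < ⊤ := by
    rw [lt_top_iff_ne_top]
    intro h
    rw [Subgroup.subgroupOf_eq_top] at h
    exact hne (le_antisymm hDP h)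
  have := hnc _ hlt
  obtain ⟨a, haN, haD⟩ := SetLike.exists_of_lt this
  rw [← Subgroup.subgroupOf_normalizer_eq hDP, Subgroup.mem_subgroupOf] at haN
  rw [Subgroup.mem_subgroupOf] at haD
  exact ⟨a, a.2, haN, haD⟩

/-- A subgroup containing the derived subgroup is normal. -/
theorem normal_of_commutator_le' (H : Subgroup G) (h : commutator G ≤ H) : H.Normal := by
  constructor
  intro n hn g
  have h1 : ⁅g, n⁆ ∈ commutator G := by
    rw [_root_.commutator_def]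
    exact Subgroup.commutator_mem_commutator (mem_top g) (mem_top n)
  have h2 : g * n * g⁻¹ = ⁅g, n⁆ * n := by rw [commutatorElement_def]; group
  rw [h2]
  exact mul_mem (h h1) hn

open scoped IsMulCommutative in
/-- Transfer into an abelian subgroup: a central element of the derived subgroup is killed by the
index of any abelian subgroup. -/
theorem pow_index_eq_one_of_mem_center_of_mem_commutator [Finite G] (A : Subgroup G)
    [IsMulCommutative A] {c : G} (hcZ : c ∈ center G) (hcG : c ∈ commutator G) :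
    c ^ A.index = 1 := by
  have key : ∀ (k : ℕ) (g₀ : G), g₀⁻¹ * c ^ k * g₀ ∈ A → g₀⁻¹ * c ^ k * g₀ = c ^ k := by
    intro k g₀ _
    have h := mem_center_iff.mp (pow_mem hcZ k) g₀
    calc g₀⁻¹ * c ^ k * g₀ = g₀⁻¹ * (c ^ k * g₀) := by group
      _ = g₀⁻¹ * (g₀ * c ^ k) := by rw [h]
      _ = c ^ k := by group
  have h1 := MonoidHom.transfer_eq_pow (MonoidHom.id A) c key
  have h2 : c ∈ (MonoidHom.transfer (MonoidHom.id A)).ker :=
    Abelianization.commutator_subset_ker _ hcG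
  rw [MonoidHom.mem_ker, h1] at h2
  exact congrArg Subtype.val h2

/-- Under the self-normalizing hypothesis, a solvable group has an abelian normal subgroup `M` of
prime index `p` and a normal `p'`-subgroup `A ≤ M` with `G / A` a `p`-group. -/
theorem exists_hall_data [Finite G] [Group.IsSolvable G] [Nontrivial G]
    (hS : ∀ H : Subgroup G, ¬ IsMulCommutative H → normalizer (H : Set G) = H) :
    ∃ (p : ℕ) (M A : Subgroup G), p.Prime ∧ M.Normal ∧ M.index = p ∧ IsMulCommutative M ∧ A ≤ M ∧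
      A.Normal ∧ ¬ p ∣ Nat.card A ∧ ∃ k : ℕ, ∀ g : G, g ^ (p ^ k) ∈ A := by
  obtain ⟨M, p, hMn, hp, hMi⟩ := Cfsg.Agent.Lib.Helper60.exists_normal_prime_index (G := G)
  have hMab : IsMulCommutative M := by
    by_contra hna
    have h1 := hS M hna
    have h2 : normalizer (M : Set G) = ⊤ := normalizer_eq_top_iff.mpr hMn
    rw [h2] at h1
    rw [← h1, index_top] at hMi
    exact hp.one_lt.ne hMi
  obtain ⟨k, m, hm, hkm⟩ :=
    Nat.exists_eq_pow_mul_and_not_dvd (Nat.card_pos (α := M)).ne' p hp.ne_one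
  have hcomm : ∀ a b : G, a ∈ M → b ∈ M → a * b = b * a := fun a b ha hb =>
    congrArg Subtype.val (mul_comm' (⟨a, ha⟩ : M) ⟨b, hb⟩)
  let A : Subgroup G :=
    { carrier := {a | a ∈ M ∧ a ^ m = 1}
      one_mem' := ⟨one_mem M, one_pow m⟩
      mul_mem' := by
        rintro a b ⟨ha, ha'⟩ ⟨hb, hb'⟩
        refine ⟨mul_mem ha hb, ?_⟩
        rw [(show Commute a b from hcomm a b ha hb).mul_pow, ha', hb', one_mul]
      inv_mem' := by
        rintro a ⟨ha, ha'⟩
        exact ⟨inv_mem ha, by rw [inv_pow, ha', inv_one]⟩ }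
  have hmemA : ∀ a : G, a ∈ A ↔ a ∈ M ∧ a ^ m = 1 := fun a => Iff.rfl
  refine ⟨p, M, A, hp, hMn, hMi, hMab, fun a ha => ((hmemA a).mp ha).1, ?_, ?_, k + 1, ?_⟩
  · constructor
    intro a ha g
    obtain ⟨ha1, ha2⟩ := (hmemA a).mp ha
    refine (hmemA _).mpr ⟨hMn.conj_mem a ha1 g, ?_⟩
    rw [conj_pow, ha2]; group
  · intro hdvd
    have : Fact p.Prime := ⟨hp⟩
    obtain ⟨a, ha⟩ := exists_prime_orderOf_dvd_card' p hdvd
    have h1 : (a : G) ^ m = 1 := ((hmemA a).mp a.2).2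
    have h2 : orderOf (a : G) ∣ m := orderOf_dvd_of_pow_eq_one h1
    rw [Subgroup.orderOf_coe, ha] at h2
    exact hm h2
  · intro g
    have h1 : g ^ p ∈ M := by
      have := Subgroup.pow_index_mem M g
      rwa [hMi] at this
    have h2 : (g ^ p) ^ Nat.card M = 1 := by
      have h3 : (⟨g ^ p, h1⟩ : M) ^ Nat.card M = 1 := pow_card_eq_one'
      have h4 := congrArg Subtype.val h3
      rw [SubgroupClass.coe_pow] at h4
      exact h4
    refine (hmemA _).mpr ⟨?_, ?_⟩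
    · rw [pow_succ', pow_mul]
      exact pow_mem h1 _
    · rw [pow_succ', pow_mul, ← pow_mul, ← hkm]
      exact h2

/-- **Forward direction.** -/
theorem structure_of_selfNormalizing [Finite G] [Group.IsSolvable G]
    (hnn : ¬ Group.IsNilpotent G)
    (hS : ∀ H : Subgroup G, ¬ IsMulCommutative H → normalizer (H : Set G) = H) :
    ∃ (x : G) (A : Subgroup G) (p : ℕ), p.Prime ∧ A.Normal ∧ IsMulCommutative A ∧
      (∃ k : ℕ, orderOf x = p ^ k) ∧ ¬ p ∣ Nat.card A ∧ (zpowers x).IsComplement' A ∧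
      x ^ p ∈ center G ∧ ∀ a : G, a ∈ A → a ≠ 1 → x * a * x⁻¹ ≠ a := by
  have hnt : Nontrivial G := by
    by_contra h
    rw [not_nontrivial_iff_subsingleton] at h
    exact hnn Group.isNilpotent_of_subsingleton
  obtain ⟨p, M, A, hp, hMn, hMi, hMab, hAM, hAn, hpA, k, hk⟩ := exists_hall_data hS
  have hpf : Fact p.Prime := ⟨hp⟩
  have hcommM : ∀ a b : G, a ∈ M → b ∈ M → a * b = b * a := fun a b ha hb =>
    congrArg Subtype.val (mul_comm' (⟨a, ha⟩ : M) ⟨b, hb⟩)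
  have hAab : IsMulCommutative A :=
    ⟨⟨fun a b => Subtype.ext (hcommM a b (hAM a.2) (hAM b.2))⟩⟩
  have hQ : IsPGroup p (G ⧸ A) := by
    intro q
    obtain ⟨g, rfl⟩ := QuotientGroup.mk_surjective q
    refine ⟨k, ?_⟩
    rw [← QuotientGroup.mk_pow]
    exact (QuotientGroup.eq_one_iff _).mpr (hk g)
  obtain ⟨n, hn⟩ := IsPGroup.iff_card.mp hQ
  have hidx : A.index = p ^ n := by rw [Subgroup.index_eq_card]; exact hn
  have hcopA : Nat.Coprime (Nat.card A) p := ((Nat.Prime.coprime_iff_not_dvd hp).mpr hpA).symm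
  have hcop : Nat.Coprime (Nat.card A) A.index := by
    rw [hidx]; exact Nat.Coprime.pow_right n hcopA
  obtain ⟨P, hPA⟩ := Subgroup.exists_left_complement'_of_coprime hcop
  have hPcard : Nat.card P = p ^ n := by rw [← hidx]; exact hPA.index_eq_card.symm
  have hPp : IsPGroup p P := IsPGroup.of_card hPcard
  have hdecP : ∀ g : G, ∃ u ∈ P, ∃ a ∈ A, g = u * a := by
    intro g
    have hg : g ∈ P ⊔ A := by rw [hPA.sup_eq_top]; exact mem_top g
    have hg' : g ∈ ((P : Subgroup G) : Set G) * (A : Set G) := by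
      rw [← mul_normal]; exact hg
    obtain ⟨u, hu, a, ha, rfl⟩ := Set.mem_mul.mp hg'
    exact ⟨u, hu, a, ha, rfl⟩
  have hdisj : ∀ g : G, g ∈ P → g ∈ A → g = 1 := by
    intro g hgP hgA
    exact (Subgroup.disjoint_def.mp hPA.disjoint) hgP hgA
  -- `P` does not centralize `A`
  have hex : ∃ x ∈ P, ∃ a ∈ A, x * a ≠ a * x := by
    by_contra hcon
    push Not at hcon
    apply hnn
    have hAZ : A ≤ center G := by
      intro a ha
      rw [mem_center_iff]
      intro g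
      obtain ⟨u, hu, b, hb, rfl⟩ := hdecP g
      have h1 := hcon u hu a ha
      have h2 := hcommM a b (hAM ha) (hAM hb)
      calc u * b * a = u * (b * a) := by group
        _ = u * (a * b) := by rw [h2]
        _ = (u * a) * b := by group
        _ = (a * u) * b := by rw [h1]
        _ = a * (u * b) := by group
    have : Group.IsNilpotent (G ⧸ A) := hQ.isNilpotent
    exact Subgroup.isNilpotent_of_ker_le_center (QuotientGroup.mk' A)
      (by rw [QuotientGroup.ker_mk']; exact hAZ)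
  obtain ⟨x, hxP, a₀, ha₀, hxa₀⟩ := hex
  -- `H = ⟨x⟩ A` is non-abelian
  set H := zpowers x ⊔ A with hH
  have hxH : x ∈ H := (le_sup_left : zpowers x ≤ H) (mem_zpowers x)
  have hAH : A ≤ H := le_sup_right
  have hHna : ¬ IsMulCommutative H := by
    intro hc
    apply hxa₀
    exact congrArg Subtype.val (mul_comm' (⟨x, hxH⟩ : H) ⟨a₀, hAH ha₀⟩)
  have hHN := hS H hHna
  -- `P = ⟨x⟩`
  have hxPle : zpowers x ≤ P := (zpowers_le).mpr hxP
  have hPx : zpowers x = P := by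
    by_contra hne
    obtain ⟨g, hgP, hgN, hgx⟩ := exists_mem_normalizer_not_mem' hPp hxPle hne
    apply hgx
    have hgH : g ∈ normalizer (H : Set G) := by
      apply mem_normalizer_fintype
      intro h hh
      have hh' : h ∈ ((zpowers x : Subgroup G) : Set G) * (A : Set G) := by
        rw [← mul_normal]; exact hh
      obtain ⟨u, hu, a, ha, rfl⟩ := Set.mem_mul.mp hh'
      have h1 : g * u * g⁻¹ ∈ zpowers x := (mem_normalizer_iff.mp hgN u).mp hu
      have h2 : g * a * g⁻¹ ∈ A := hAn.conj_mem a ha g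
      have h3 : g * (u * a) * g⁻¹ = (g * u * g⁻¹) * (g * a * g⁻¹) := by group
      rw [h3]
      exact mul_mem ((le_sup_left : zpowers x ≤ H) h1) (hAH h2)
    rw [hHN] at hgH
    have hg' : g ∈ ((zpowers x : Subgroup G) : Set G) * (A : Set G) := by
      rw [← mul_normal]; exact hgH
    obtain ⟨u, hu, a, ha, rfl⟩ := Set.mem_mul.mp hg'
    have ha1 : a = 1 := by
      apply hdisj a _ ha
      have : a = u⁻¹ * (u * a) := by group
      rw [this]
      exact mul_mem (inv_mem (hxPle hu)) hgP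
    rw [ha1, mul_one]; exact hu
  have hc : (zpowers x).IsComplement' A := by rw [hPx]; exact hPA
  obtain ⟨j, hj⟩ := (IsPGroup.iff_orderOf.mp hPp) ⟨x, hxP⟩
  have hxord : orderOf x = p ^ j := by rw [← hj, Subgroup.orderOf_mk]
  have hxpM : x ^ p ∈ M := by
    have := Subgroup.pow_index_mem M x
    rwa [hMi] at this
  have hdec : ∀ g : G, ∃ i : ℕ, ∃ a ∈ A, g = x ^ i * a := by
    intro g
    obtain ⟨u, hu, a, ha, rfl⟩ := hdecP g
    rw [← hPx] at hu
    obtain ⟨i, rfl⟩ := mem_powers_iff_mem_zpowers.mpr hu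
    exact ⟨i, a, ha, rfl⟩
  have hcent : ∀ c : G, c * x = x * c → (∀ a ∈ A, c * a = a * c) → c ∈ center G := by
    intro c hcx hcA
    rw [mem_center_iff]
    intro g
    obtain ⟨i, a, ha, rfl⟩ := hdec g
    have h1 : c * x ^ i = x ^ i * c := (Commute.pow_right (show Commute c x from hcx) i)
    calc x ^ i * a * c = x ^ i * (a * c) := by group
      _ = x ^ i * (c * a) := by rw [hcA a ha]
      _ = (x ^ i * c) * a := by group
      _ = (c * x ^ i) * a := by rw [h1]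
      _ = c * (x ^ i * a) := by group
  have hxpZ : x ^ p ∈ center G := by
    apply hcent
    · exact ((Commute.refl x).pow_left p)
    · intro a ha; exact hcommM _ _ hxpM (hAM ha)
  refine ⟨x, A, p, hp, hAn, hAab, ⟨j, hxord⟩, hpA, hc, hxpZ, ?_⟩
  -- fixed-point-freeness
  have hG'A : commutator G ≤ A := by
    rw [_root_.commutator_def, Subgroup.commutator_le]
    intro g₁ _ g₂ _
    obtain ⟨i₁, a₁, ha₁, rfl⟩ := hdec g₁
    obtain ⟨i₂, a₂, ha₂, rfl⟩ := hdec g₂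
    have hπ : ∀ (i : ℕ) (a : G), a ∈ A →
        QuotientGroup.mk' A (x ^ i * a) = (QuotientGroup.mk' A x) ^ i := by
      intro i a ha
      have h0 : QuotientGroup.mk' A a = 1 := (QuotientGroup.eq_one_iff a).mpr ha
      rw [map_mul, map_pow, h0, mul_one]
    have h1 : QuotientGroup.mk' A ⁅x ^ i₁ * a₁, x ^ i₂ * a₂⁆ = 1 := by
      rw [map_commutatorElement, hπ i₁ a₁ ha₁, hπ i₂ a₂ ha₂]
      exact ((Commute.refl _).pow_pow i₁ i₂).commutator_eq
    exact (QuotientGroup.eq_one_iff _).mp h1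
  set H₁ := zpowers x ⊔ commutator G with hH₁
  have hH₁n : H₁.Normal := normal_of_commutator_le' H₁ le_sup_right
  have hxH₁ : x ∈ H₁ := (le_sup_left : zpowers x ≤ H₁) (mem_zpowers x)
  have hpow_one : ∀ c ∈ A, ∀ i : ℕ, c ^ (p ^ i) = 1 → c = 1 := by
    intro c hc i hci
    have h1 : orderOf c ∣ p ^ i := orderOf_dvd_of_pow_eq_one hci
    have h2 : orderOf c ∣ Nat.card A := Subgroup.orderOf_dvd_natCard A hc
    have h3 : Nat.Coprime (p ^ i) (Nat.card A) := (Nat.Coprime.pow_right i hcopA).symm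
    have h4 : orderOf c ∣ 1 := by
      have := Nat.dvd_gcd h1 h2
      rwa [Nat.Coprime.gcd_eq_one h3] at this
    exact orderOf_eq_one_iff.mp (Nat.dvd_one.mp h4)
  have hH₁na : ¬ IsMulCommutative H₁ := by
    intro hc
    apply hxa₀
    have hcG : ⁅a₀, x⁆ ∈ commutator G := by
      rw [_root_.commutator_def]
      exact Subgroup.commutator_mem_commutator (mem_top _) (mem_top _)
    have hcx : Commute ⁅a₀, x⁆ x :=
      congrArg Subtype.val
        (mul_comm' (⟨_, (le_sup_right : commutator G ≤ H₁) hcG⟩ : H₁) ⟨x, hxH₁⟩)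
    have hcA : ⁅a₀, x⁆ ∈ A := hG'A hcG
    have h1 : a₀ * x * a₀⁻¹ = ⁅a₀, x⁆ * x := by rw [commutatorElement_def]; group
    have h2 : (a₀ * x * a₀⁻¹) ^ (p ^ j) = ⁅a₀, x⁆ ^ (p ^ j) * x ^ (p ^ j) := by
      rw [h1, hcx.mul_pow]
    have h3 : x ^ (p ^ j) = 1 := by rw [← hxord]; exact pow_orderOf_eq_one x
    rw [conj_pow, h3] at h2
    have h4 : ⁅a₀, x⁆ ^ (p ^ j) = 1 := by
      simpa using h2.symm
    have h5 := hpow_one _ hcA j h4
    rw [h5, one_mul] at h1
    calc x * a₀ = (a₀ * x * a₀⁻¹) * a₀ := by rw [h1]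
      _ = a₀ * x := by group
  have hH₁top : H₁ = ⊤ := by
    have h1 := hS H₁ hH₁na
    rw [normalizer_eq_top_iff.mpr hH₁n] at h1
    exact h1.symm
  have hAG' : A ≤ commutator G := by
    intro a ha
    have h1 : a ∈ H₁ := by rw [hH₁top]; exact mem_top a
    have h2 : a ∈ ((zpowers x : Subgroup G) : Set G) * (commutator G : Set G) := by
      rw [← mul_normal]; exact h1
    obtain ⟨u, hu, d, hd, hud⟩ := Set.mem_mul.mp h2
    have hu1 : u = 1 := by
      apply hdisj u (hxPle hu)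
      have : u = a * d⁻¹ := by rw [← hud]; group
      rw [this]; exact mul_mem ha (inv_mem (hG'A hd))
    rw [hu1, one_mul] at hud
    rw [← hud]; exact hd
  intro c hcA hc1 hxc
  apply hc1
  have hcx : c * x = x * c := by
    calc c * x = (x * c * x⁻¹) * x := by rw [hxc]
      _ = x * c := by group
  have hcZ : c ∈ center G := hcent c hcx (fun a ha => hcommM _ _ (hAM hcA) (hAM ha))
  have h1 := pow_index_eq_one_of_mem_center_of_mem_commutator A hcZ (hAG' hcA)
  rw [hidx] at h1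
  exact hpow_one c hcA n h1

theorem result {G : Type*} [Group G] [Finite G]
    [Group.IsSolvable G] (hnn : ¬ Group.IsNilpotent G) :
    (∀ H : Subgroup G, ¬ IsMulCommutative H → Subgroup.normalizer (H : Set G) = H) ↔
    ∃ (x : G) (A : Subgroup G) (p : ℕ), p.Prime ∧ A.Normal ∧ IsMulCommutative A ∧ (∃ k : ℕ, orderOf x = p ^ k) ∧
      ¬ p ∣ Nat.card A ∧ (Subgroup.zpowers x).IsComplement' A ∧ x ^ p ∈ Subgroup.center G ∧
      ∀ a : G, a ∈ A → a ≠ 1 → x * a * x⁻¹ ≠ a := by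
  constructor
  · exact structure_of_selfNormalizing hnn
  · rintro ⟨x, A, p, hp, hAn, hAab, hxord, _, hc, hxp, hfpf⟩ H hH
    exact selfNormalizing_of_structure x A p hp hAab hxord hc hxp hfpf H hH

end Cfsg.Agent.S4071
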