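import Cfsg.Statements.S4072
import Cfsg.Agent.Lib.Helper2.Transfer
import Cfsg.Agent.Lib.Helper2.PGroup
import Cfsg.Agent.Lib.Helper63.AbelianIndexP
import Cfsg.Agent.Lib.Helper67.Basic

set_option autoImplicit false
open Cfsg

namespace Cfsg.Agent.S4072

open Subgroup
open scoped commutatorElement
open Cfsg.Agent.Lib.Helper67

/-- A finite group whose only normal subgroups are `⊥` and `⊤`, which is not commutative, has no
nontrivial abelian self-normalizing Sylow subgroup (Burnside's transfer theorem). -/
theorem false_of_abelian_selfNormalizing_sylow {Q : Type*} [Group Q] [Finite Q] {p : ℕ}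
    [Fact p.Prime] (hsimple : ∀ K : Subgroup Q, K.Normal → K = ⊥ ∨ K = ⊤)
    (hna : ¬ ∀ a b : Q, a * b = b * a) (P : Sylow p Q) (hPne : (P : Subgroup Q) ≠ ⊥)
    (hPab : ∀ a ∈ (P : Subgroup Q), ∀ b ∈ (P : Subgroup Q), a * b = b * a)
    (hPN : normalizer ((P : Subgroup Q) : Set Q) ≤ P) : False := by
  have hP : normalizer (P : Set Q) ≤ centralizer (P : Set Q) := by
    intro g hg
    rw [mem_centralizer_iff]
    intro h hh
    exact hPab h hh g (hPN hg)
  have hc := MonoidHom.ker_transferSylow_isComplement' P hP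
  rcases hsimple _ (MonoidHom.normal_ker (MonoidHom.transferSylow P hP)) with h | h
  · rw [h] at hc
    have h1 : (P : Subgroup Q) = ⊤ := isComplement'_bot_left.mp hc
    apply hna
    intro a b
    exact hPab a (h1 ▸ mem_top a) b (h1 ▸ mem_top b)
  · rw [h] at hc
    exact hPne (isComplement'_top_left.mp hc)

/-- A finite group in which every non-abelian subgroup is self-normalizing is solvable or simple. -/
theorem result {G : Type*} [Group G] [Finite G] (hS : ∀ H : Subgroup G, ¬ IsMulCommutative H → Subgroup.normalizer (H : Set G) = H) :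
    Group.IsSolvable G ∨ IsSimpleGroup G := by
  classical
  by_cases hsim : IsSimpleGroup G
  · exact Or.inr hsim
  left
  rcases subsingleton_or_nontrivial G with hsub | hnt
  · infer_instance
  obtain ⟨K, hKn, hKbot, hKtop⟩ : ∃ K : Subgroup G, K.Normal ∧ K ≠ ⊥ ∧ K ≠ ⊤ := by
    by_contra hcon
    push Not at hcon
    apply hsim
    exact { exists_pair_ne := hnt.exists_pair_ne
            eq_bot_or_eq_top_of_normal := fun H hH => by
              by_cases h : H = ⊥
              · exact Or.inl h
              · exact Or.inr (hcon H hH h) }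
  have habel : ∀ H : Subgroup G, H.Normal → H ≠ ⊤ → IsMulCommutative H := by
    intro H hH hHtop
    by_contra hna
    have h1 := hS H hna
    rw [normalizer_eq_top_iff.mpr hH] at h1
    exact hHtop h1.symm
  obtain ⟨N, hKN, hNmax⟩ := Finite.exists_le_maximal
    (p := fun H : Subgroup G => H.Normal ∧ H ≠ ⊤) (a := K) ⟨hKn, hKtop⟩
  have hNn : N.Normal := hNmax.1.1
  have hNtop : N ≠ ⊤ := hNmax.1.2
  have hNbot : N ≠ ⊥ := fun h => hKbot (le_bot_iff.mp (h ▸ hKN))
  have hNab : IsMulCommutative N := habel N hNn hNtop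
  have hmax : ∀ H : Subgroup G, H.Normal → N ≤ H → H = N ∨ H = ⊤ := by
    intro H hH hNH
    by_cases h : H = ⊤
    · exact Or.inr h
    · exact Or.inl (le_antisymm (hNmax.2 ⟨hH, h⟩ hNH) hNH)
  have hqsurj : Function.Surjective (QuotientGroup.mk' N) := QuotientGroup.mk'_surjective N
  have hNcomap : ∀ Kb : Subgroup (G ⧸ N), N ≤ Kb.comap (QuotientGroup.mk' N) := by
    intro Kb n hn
    rw [mem_comap]
    have h1 : QuotientGroup.mk' N n = 1 := (QuotientGroup.eq_one_iff n).mpr hn
    rw [h1]; exact one_mem _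
  have hQsimple : ∀ Kb : Subgroup (G ⧸ N), Kb.Normal → Kb = ⊥ ∨ Kb = ⊤ := by
    intro Kb hKb
    have h1 : (Kb.comap (QuotientGroup.mk' N)).Normal := hKb.comap _
    rcases hmax _ h1 (hNcomap Kb) with h | h
    · left
      rw [← map_comap_eq_self_of_surjective hqsurj Kb, h, QuotientGroup.map_mk'_self]
    · right
      rw [← map_comap_eq_self_of_surjective hqsurj Kb, h, ← MonoidHom.range_eq_map,
        MonoidHom.range_eq_top.mpr hqsurj]
  have hNsolv : Group.IsSolvable N := Group.isSolvable_of_comm (fun a b => mul_comm' a b)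
  by_cases hQab : ∀ a b : G ⧸ N, a * b = b * a
  · have : Group.IsSolvable (G ⧸ N) := Group.isSolvable_of_comm hQab
    exact Group.isSolvable_of_ker_le_range N.subtype (QuotientGroup.mk' N)
      (by rw [QuotientGroup.ker_mk', range_subtype])
  by_cases hperf : commutator G = ⊤
  swap
  · have hc : IsMulCommutative (commutator G) := habel _ inferInstance hperf
    have h1 : Group.IsSolvable (commutator G) :=
      Group.isSolvable_of_comm (fun a b => mul_comm' a b)
    have h2 : Group.IsSolvable (G ⧸ commutator G) :=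
      (inferInstance : Group.IsSolvable (Abelianization G))
    exact Group.isSolvable_of_ker_le_range (commutator G).subtype (QuotientGroup.mk' (commutator G))
      (by rw [QuotientGroup.ker_mk', range_subtype])
  exfalso
  have hCn : (centralizer (N : Set G)).Normal := inferInstance
  have hNC : N ≤ centralizer (N : Set G) := by
    intro a ha
    rw [mem_centralizer_iff]
    intro b hb
    exact congrArg Subtype.val (mul_comm' (⟨b, hb⟩ : N) ⟨a, ha⟩)
  rcases hmax _ hCn hNC with hC | hC
  · -- Case `C_G(N) = N`: every nontrivial subgroup of `G/N` is self-normalizing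
    have hself : ∀ Hb : Subgroup (G ⧸ N), Hb ≠ ⊥ → normalizer (Hb : Set (G ⧸ N)) ≤ Hb := by
      intro Hb hHb
      have hnc : ¬ IsMulCommutative (Hb.comap (QuotientGroup.mk' N)) := by
        intro hcomm
        apply hHb
        have h1 : Hb.comap (QuotientGroup.mk' N) ≤ N := by
          refine le_trans ?_ hC.le
          intro h hh
          rw [mem_centralizer_iff]
          intro n hn
          exact congrArg Subtype.val
            (mul_comm' (⟨n, hNcomap Hb hn⟩ : Hb.comap (QuotientGroup.mk' N)) ⟨h, hh⟩)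
        rw [← map_comap_eq_self_of_surjective hqsurj Hb, eq_bot_iff]
        calc (Hb.comap (QuotientGroup.mk' N)).map (QuotientGroup.mk' N)
            ≤ N.map (QuotientGroup.mk' N) := map_mono h1
          _ = ⊥ := QuotientGroup.map_mk'_self N
      have h2 := hS _ hnc
      intro gb hgb
      obtain ⟨g, rfl⟩ := hqsurj gb
      have h3 : g ∈ (normalizer (Hb : Set (G ⧸ N))).comap (QuotientGroup.mk' N) := hgb
      rw [comap_normalizer_eq_of_surjective Hb hqsurj, h2] at h3
      exact h3
    have hQnt : Nat.card (G ⧸ N) ≠ 1 := by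
      intro h
      apply hNtop
      rw [← index_eq_card] at h
      exact index_eq_one.mp h
    obtain ⟨p, hp, hpd⟩ := Nat.exists_prime_and_dvd hQnt
    have : Fact p.Prime := ⟨hp⟩
    obtain ⟨Pb⟩ : Nonempty (Sylow p (G ⧸ N)) := inferInstance
    have hPbne : (Pb : Subgroup (G ⧸ N)) ≠ ⊥ := Pb.ne_bot_of_dvd_card hpd
    have hPbnt : Nontrivial (Pb : Subgroup (G ⧸ N)) :=
      (Subgroup.nontrivial_iff_ne_bot _).mpr hPbne
    -- `Pb` is abelian
    have hPbab : ∀ a ∈ (Pb : Subgroup (G ⧸ N)), ∀ b ∈ (Pb : Subgroup (G ⧸ N)), a * b = b * a := by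
      set Zb := (center (Pb : Subgroup (G ⧸ N))).map (Pb : Subgroup (G ⧸ N)).subtype with hZb
      have hZbne : Zb ≠ ⊥ := by
        rw [hZb, Ne, map_eq_bot_iff_of_injective _ (subtype_injective _)]
        exact (Pb.isPGroup'.bot_lt_center).ne'
      have h1 : (Pb : Subgroup (G ⧸ N)) ≤ normalizer (Zb : Set (G ⧸ N)) := by
        have h2 := le_normalizer_map (H := center (Pb : Subgroup (G ⧸ N)))
          (Pb : Subgroup (G ⧸ N)).subtype
        rw [normalizer_eq_top_iff.mpr inferInstance, ← MonoidHom.range_eq_map,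
          range_subtype] at h2
        exact h2
      have h3 : (Pb : Subgroup (G ⧸ N)) ≤ Zb := h1.trans (hself Zb hZbne)
      intro a ha b hb
      obtain ⟨a', ha', rfl⟩ := h3 ha
      have := mem_center_iff.mp ha' ⟨b, hb⟩
      exact (congrArg Subtype.val this).symm
    exact false_of_abelian_selfNormalizing_sylow hQsimple hQab Pb hPbne hPbab (hself _ hPbne)
  · -- Case `N ≤ Z(G)`
    have hNZ : N ≤ center G := by
      intro n hn
      rw [mem_center_iff]
      intro g
      have hg : g ∈ centralizer (N : Set G) := hC ▸ mem_top g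
      exact (mem_centralizer_iff.mp hg n hn).symm
    have hNcard : Nat.card N ≠ 1 := fun h => hNbot (card_eq_one.mp h)
    obtain ⟨p, hp, hpd⟩ := Nat.exists_prime_and_dvd hNcard
    have : Fact p.Prime := ⟨hp⟩
    obtain ⟨z', hz'⟩ := exists_prime_orderOf_dvd_card' p hpd
    have hzN : (z' : G) ∈ N := z'.2
    have hzord : orderOf (z' : G) = p := by rw [Subgroup.orderOf_coe]; exact hz'
    obtain ⟨P⟩ : Nonempty (Sylow p G) := inferInstance
    have hzP : (z' : G) ∈ (P : Subgroup G) :=
      mem_sylow_of_mem_normalizer P (k := 1) (by rw [pow_one]; exact hzord)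
        (center_le_normalizer _ (hNZ hzN))
    have hzcomm := Cfsg.Agent.Lib.Helper2.center_commutator_sylow_mem_commutator P (z' : G)
      (hNZ hzN) (hperf ▸ mem_top _) hzP
    have hz1 : (⟨(z' : G), hzP⟩ : (P : Subgroup G)) ≠ 1 := by
      intro h
      have h1 : (z' : G) = 1 := congrArg Subtype.val h
      rw [h1, orderOf_one] at hzord
      exact hp.one_lt.ne hzord
    -- `P` is not abelian
    have hPna : ¬ IsMulCommutative (P : Subgroup G) := by
      intro hcomm
      apply hz1
      have h1 : commutator (P : Subgroup G) = ⊥ := by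
        rw [eq_bot_iff, _root_.commutator_def, commutator_le]
        intro a _ b _
        rw [mem_bot, commutatorElement_eq_one_iff_mul_comm]
        exact mul_comm' a b
      rw [h1, mem_bot] at hzcomm
      exact hzcomm
    have hPself : normalizer ((P : Subgroup G) : Set G) = P := hS _ hPna
    have hPp : IsPGroup p (P : Subgroup G) := P.isPGroup'
    -- proper normal subgroups of `P` are abelian
    have hPsub : ∀ M : Subgroup (P : Subgroup G), M.Normal → M ≠ ⊤ → IsMulCommutative M := by
      intro M hMn hMtop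
      by_contra hna
      have hna' : ¬ IsMulCommutative (M.map (P : Subgroup G).subtype) := by
        intro hcomm
        apply hna
        refine ⟨⟨fun a b => ?_⟩⟩
        apply Subtype.ext
        apply Subtype.ext
        show ((a : (P : Subgroup G)) : G) * ((b : (P : Subgroup G)) : G)
          = ((b : (P : Subgroup G)) : G) * ((a : (P : Subgroup G)) : G)
        have := mul_comm' (⟨((a : (P : Subgroup G)) : G), mem_map_of_mem _ a.2⟩ :
          M.map (P : Subgroup G).subtype) ⟨((b : (P : Subgroup G)) : G), mem_map_of_mem _ b.2⟩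
        exact congrArg Subtype.val this
      have h1 := hS _ hna'
      have h2 := le_normalizer_map (H := M) (P : Subgroup G).subtype
      rw [normalizer_eq_top_iff.mpr hMn, ← MonoidHom.range_eq_map, range_subtype, h1] at h2
      apply hMtop
      rw [eq_top_iff]
      intro x _
      obtain ⟨y, hy, hyx⟩ := h2 x.2
      have : y = x := Subtype.ext hyx
      rw [← this]; exact hy
    -- two distinct maximal subgroups
    have hPnt : Nontrivial (P : Subgroup G) := ⟨⟨_, _, hz1⟩⟩
    obtain ⟨M₁, hM₁⟩ : ∃ M : Subgroup (P : Subgroup G), IsCoatom M := by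
      rcases eq_top_or_exists_le_coatom (⊥ : Subgroup (P : Subgroup G)) with h | ⟨M, hM, _⟩
      · exact absurd h bot_ne_top
      · exact ⟨M, hM⟩
    have hM₁n : M₁.Normal := Cfsg.Agent.Lib.Helper2.coatom_normal hPp M₁ hM₁
    have hM₁i : M₁.index = p := by
      rw [index_eq_card]; exact Cfsg.Agent.Lib.Helper2.coatom_card_quotient hPp M₁ hM₁
    have hM₁ab : IsMulCommutative M₁ := hPsub M₁ hM₁n hM₁.1
    obtain ⟨x, hx⟩ : ∃ x : (P : Subgroup G), x ∉ M₁ := by
      by_contra hcon
      push Not at hcon
      exact hM₁.1 (eq_top_iff.mpr (fun x _ => hcon x))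
    have hxtop : zpowers x ≠ ⊤ := by
      intro h
      apply hPna
      refine ⟨⟨fun a b => ?_⟩⟩
      have ha : a ∈ zpowers x := h ▸ mem_top a
      have hb : b ∈ zpowers x := h ▸ mem_top b
      obtain ⟨i, rfl⟩ := mem_zpowers_iff.mp ha
      obtain ⟨j, rfl⟩ := mem_zpowers_iff.mp hb
      rw [← zpow_add, ← zpow_add, add_comm]
    obtain ⟨M₂, hM₂, hxM₂⟩ := (eq_top_or_exists_le_coatom (zpowers x)).resolve_left hxtop
    have hM₂n : M₂.Normal := Cfsg.Agent.Lib.Helper2.coatom_normal hPp M₂ hM₂
    have hM₂i : M₂.index = p := by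
      rw [index_eq_card]; exact Cfsg.Agent.Lib.Helper2.coatom_card_quotient hPp M₂ hM₂
    have hM₂ab : IsMulCommutative M₂ := hPsub M₂ hM₂n hM₂.1
    have hne : M₂ ≠ M₁ := fun h => hx (h ▸ hxM₂ (mem_zpowers x))
    have h1 := Cfsg.Agent.Lib.Helper63.index_center_le_of_two_abelian hp hM₁ab hM₁i hM₂ab hM₂i hne
    have h2 := Cfsg.Agent.Lib.Helper63.index_center_eq hp hPna M₁ hM₁ab hM₁i x hx
    have hcomcard : Nat.card (commutator (P : Subgroup G)) ≤ p := by
      rw [h2] at h1
      exact Nat.le_of_mul_le_mul_left h1 hp.pos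
    have hzPord : orderOf (⟨(z' : G), hzP⟩ : (P : Subgroup G)) = p := by
      rw [Subgroup.orderOf_mk]; exact hzord
    have hcomeq : commutator (P : Subgroup G) = zpowers (⟨(z' : G), hzP⟩ : (P : Subgroup G)) := by
      symm
      apply eq_of_le_of_card_ge (zpowers_le.mpr hzcomm)
      rw [Nat.card_zpowers, hzPord]; exact hcomcard
    have hcomN : ∀ a b : G, a ∈ (P : Subgroup G) → b ∈ (P : Subgroup G) →
        a * b * a⁻¹ * b⁻¹ ∈ N := by
      intro a b ha hb
      have h3 : ⁅(⟨a, ha⟩ : (P : Subgroup G)), ⟨b, hb⟩⁆ ∈ commutator (P : Subgroup G) :=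
        commutator_mem_commutator (mem_top _) (mem_top _)
      rw [hcomeq] at h3
      obtain ⟨i, hi⟩ := mem_zpowers_iff.mp h3
      have h4 : a * b * a⁻¹ * b⁻¹ = (z' : G) ^ i := by
        have := congrArg Subtype.val hi
        rw [commutatorElement_def] at this
        exact this.symm
      rw [h4]; exact N.zpow_mem hzN i
    -- the image of `P` in `G/N`
    have hPbcoe : ((P.mapSurjective hqsurj : Sylow p (G ⧸ N)) : Subgroup (G ⧸ N))
        = (P : Subgroup G).map (QuotientGroup.mk' N) := Sylow.coe_mapSurjective hqsurj P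
    have hPbab : ∀ a ∈ ((P.mapSurjective hqsurj : Sylow p (G ⧸ N)) : Subgroup (G ⧸ N)),
        ∀ b ∈ ((P.mapSurjective hqsurj : Sylow p (G ⧸ N)) : Subgroup (G ⧸ N)), a * b = b * a := by
      intro a ha b hb
      rw [hPbcoe] at ha hb
      obtain ⟨a, ha, rfl⟩ := ha
      obtain ⟨b, hb, rfl⟩ := hb
      rw [← map_mul, ← map_mul]
      have h3 : a * b = (a * b * a⁻¹ * b⁻¹) * (b * a) := by group
      rw [h3, map_mul]
      have h4 : QuotientGroup.mk' N (a * b * a⁻¹ * b⁻¹) = 1 :=
        (QuotientGroup.eq_one_iff _).mpr (hcomN a b ha hb)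
      rw [h4, one_mul]
    have hPbne : ((P.mapSurjective hqsurj : Sylow p (G ⧸ N)) : Subgroup (G ⧸ N)) ≠ ⊥ := by
      intro h
      rw [hPbcoe, Subgroup.map_eq_bot_iff, QuotientGroup.ker_mk'] at h
      apply hPna
      refine ⟨⟨fun a b => ?_⟩⟩
      apply Subtype.ext
      show (a : G) * (b : G) = (b : G) * (a : G)
      exact congrArg Subtype.val (mul_comm' (⟨(a : G), h a.2⟩ : N) ⟨(b : G), h b.2⟩)
    have hPbself : normalizer (((P.mapSurjective hqsurj : Sylow p (G ⧸ N)) : Subgroup (G ⧸ N)) :
        Set (G ⧸ N)) ≤ (P.mapSurjective hqsurj : Sylow p (G ⧸ N)) := by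
      rw [hPbcoe]
      intro gb hgb
      obtain ⟨g, rfl⟩ := hqsurj gb
      have h3 : g ∈ (normalizer (((P : Subgroup G).map (QuotientGroup.mk' N) :
          Subgroup (G ⧸ N)) : Set (G ⧸ N))).comap (QuotientGroup.mk' N) := hgb
      rw [comap_normalizer_eq_of_surjective _ hqsurj, comap_map_eq, QuotientGroup.ker_mk'] at h3
      -- `g` normalizes `P ⊔ N`, hence `P`
      have hPNle : (P : Subgroup G) ⊔ N ≤ normalizer ((P : Subgroup G) : Set G) :=
        sup_le le_normalizer (hNZ.trans (center_le_normalizer _))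
      have hgP : g ∈ normalizer ((P : Subgroup G) : Set G) := by
        apply mem_normalizer_fintype
        intro a ha
        have ha' : (a : G) ∈ (P : Subgroup G) := ha
        have h5 : g * a * g⁻¹ ∈ (P : Subgroup G) ⊔ N :=
          (mem_normalizer_iff.mp h3 a).mp (mem_sup_left ha')
        obtain ⟨k, hk⟩ := (IsPGroup.iff_orderOf.mp hPp) ⟨a, ha'⟩
        have h6 : orderOf (g * a * g⁻¹) = p ^ k := by
          have h7 : orderOf (g * a * g⁻¹) = orderOf a := by
            have := orderOf_injective (MulAut.conj g).toMonoidHom (MulAut.conj g).injective a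
            simpa using this
          rw [h7, ← hk, Subgroup.orderOf_mk]
        exact mem_sylow_of_mem_normalizer P h6 (hPNle h5)
      rw [hPself] at hgP
      exact mem_map_of_mem _ hgP
    exact false_of_abelian_selfNormalizing_sylow hQsimple hQab (P.mapSurjective hqsurj)
      hPbne hPbab hPbself

end Cfsg.Agent.S4072
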