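import Cfsg.Statements.S4074

set_option autoImplicit false
open Cfsg

namespace Cfsg.Agent.S4074

open DihedralGroup

/-- The "even" elements of `ZMod n`. -/
def evenSub (n : ℕ) : AddSubgroup (ZMod n) where
  carrier := {i | ∃ j : ZMod n, i = j + j}
  zero_mem' := ⟨0, by simp⟩
  add_mem' := by
    rintro _ _ ⟨a, rfl⟩ ⟨b, rfl⟩
    exact ⟨a + b, by ring⟩
  neg_mem' := by
    rintro _ ⟨a, rfl⟩
    exact ⟨-a, by ring⟩

/-- The subgroup `⟨r², s⟩` of the dihedral group. -/
def evenDihedral (n : ℕ) : Subgroup (DihedralGroup n) where
  carrier := {g | match g with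
    | r i => i ∈ evenSub n
    | sr i => i ∈ evenSub n}
  one_mem' := by
    show (match (1 : DihedralGroup n) with
      | r i => i ∈ evenSub n
      | sr i => i ∈ evenSub n)
    rw [one_def]
    exact (evenSub n).zero_mem
  mul_mem' := by
    rintro (a | a) (b | b) ha hb
    · rw [r_mul_r]; exact (evenSub n).add_mem ha hb
    · rw [r_mul_sr]; exact (evenSub n).sub_mem hb ha
    · rw [sr_mul_r]; exact (evenSub n).add_mem ha hb
    · rw [sr_mul_sr]; exact (evenSub n).sub_mem hb ha
  inv_mem' := by
    rintro (a | a) ha
    · rw [inv_r]; exact (evenSub n).neg_mem ha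
    · rw [inv_sr]; exact ha

theorem r_mem_evenDihedral {n : ℕ} (i : ZMod n) : r i ∈ evenDihedral n ↔ i ∈ evenSub n := Iff.rfl

theorem sr_mem_evenDihedral {n : ℕ} (i : ZMod n) : sr i ∈ evenDihedral n ↔ i ∈ evenSub n := Iff.rfl

theorem one_not_mem_evenSub {n : ℕ} (hn : Even n) : (1 : ZMod n) ∉ evenSub n := by
  rintro ⟨j, hj⟩
  have h2 : 2 ∣ n := hn.two_dvd
  have := congrArg (ZMod.castHom h2 (ZMod 2)) hj
  rw [map_one, map_add] at this
  have h3 : ∀ a : ZMod 2, a + a = 0 := by decide
  rw [h3] at this
  exact one_ne_zero this

theorem two_mem_evenSub {n : ℕ} : (2 : ZMod n) ∈ evenSub n := ⟨1, by norm_num⟩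

/-- For n > 2, every non-abelian subgroup of the dihedral group of order 2n is self-normalizing if and only if n = 4 or n is odd. -/
theorem result (n : ℕ) (hn : 2 < n) :
    (∀ H : Subgroup (DihedralGroup n), ¬ IsMulCommutative H → Subgroup.normalizer (H : Set (DihedralGroup n)) = H) ↔
    (n = 4 ∨ Odd n) := by
  constructor
  · intro hS
    by_contra hcon
    push Not at hcon
    obtain ⟨hn4, hodd⟩ := hcon
    have heven : Even n := Nat.not_odd_iff_even.mp hodd
    have hn6 : 6 ≤ n := by
      obtain ⟨k, hk⟩ := heven
      omega
    -- the subgroup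
    have hnc : ¬ IsMulCommutative (evenDihedral n) := by
      intro hc
      have h1 : (r (2 : ZMod n)) ∈ evenDihedral n := two_mem_evenSub
      have h2 : (sr (0 : ZMod n)) ∈ evenDihedral n := (evenSub n).zero_mem
      have := setLike_mul_comm h1 h2
      rw [r_mul_sr, sr_mul_r] at this
      have h3 : (0 : ZMod n) - 2 = 0 + 2 := by
        injection this
      have h4 : ((4 : ℕ) : ZMod n) = 0 := by
        have : (4 : ZMod n) = 0 := by linear_combination -h3
        exact_mod_cast this
      rw [ZMod.natCast_eq_zero_iff] at h4
      have := Nat.le_of_dvd (by norm_num) h4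
      omega
    have hnorm := hS _ hnc
    have hr1 : r (1 : ZMod n) ∈ Subgroup.normalizer ((evenDihedral n : Subgroup (DihedralGroup n)) : Set (DihedralGroup n)) := by
      rw [Subgroup.mem_set_normalizer_iff]
      rintro (a | a)
      · rw [r_mul_r, inv_r, r_mul_r]
        have : (1 : ZMod n) + a + -1 = a := by ring
        rw [this]
      · rw [r_mul_sr, inv_r, sr_mul_r]
        show a ∈ evenSub n ↔ a - 1 + -1 ∈ evenSub n
        have : a - 1 + -1 = a - 2 := by ring
        rw [this]
        constructor
        · intro h; exact (evenSub n).sub_mem h two_mem_evenSub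
        · intro h
          have := (evenSub n).add_mem h two_mem_evenSub
          simpa using this
    rw [hnorm] at hr1
    exact one_not_mem_evenSub heven hr1
  · rintro (rfl | hodd) H hH
    · -- n = 4
      have hcard : Nat.card (DihedralGroup 4) = 8 := by rw [DihedralGroup.nat_card]
      have hdvd : Nat.card H ∣ 8 := hcard ▸ Subgroup.card_subgroup_dvd_card H
      have hmem : Nat.card H ∈ Nat.divisors 8 := Nat.mem_divisors.mpr ⟨hdvd, by norm_num⟩
      have hdiv : Nat.divisors 8 = {1, 2, 4, 8} := by decide
      rw [hdiv] at hmem
      simp only [Finset.mem_insert, Finset.mem_singleton] at hmem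
      have htop : H = ⊤ := by
        rcases hmem with h | h | h | h
        · exfalso
          apply hH
          have : Subsingleton H := (Nat.card_eq_one_iff_unique.mp h).1
          exact ⟨⟨fun a b => Subsingleton.elim _ _⟩⟩
        · exfalso
          apply hH
          have : Fact (Nat.Prime 2) := ⟨Nat.prime_two⟩
          have := isCyclic_of_prime_card (α := H) (p := 2) h
          exact IsCyclic.isMulCommutative
        · exfalso
          apply hH
          have : Fact (Nat.Prime 2) := ⟨Nat.prime_two⟩
          exact IsPGroup.isMulCommutative_of_card_eq_prime_sq (p := 2) (by rw [h]; norm_num)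
        · exact Subgroup.eq_top_of_card_eq H (by rw [h, hcard])
      subst htop
      ext g
      simp [Subgroup.mem_set_normalizer_iff]
    · -- n odd
      apply le_antisymm _ Subgroup.le_normalizer
      -- H contains a reflection
      have hrefl : ∃ i : ZMod n, sr i ∈ H := by
        by_contra hno
        push Not at hno
        apply hH
        refine ⟨⟨?_⟩⟩
        rintro ⟨a, ha⟩ ⟨b, hb⟩
        apply Subtype.ext
        show a * b = b * a
        rcases a with a | a
        · rcases b with b | b
          · rw [r_mul_r, r_mul_r, add_comm]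
          · exact absurd hb (hno b)
        · exact absurd ha (hno a)
      obtain ⟨i, hi⟩ := hrefl
      obtain ⟨m, hm⟩ := hodd
      have hrot : ∀ j : ZMod n, r j ∈ Subgroup.normalizer (H : Set (DihedralGroup n)) → r j ∈ H := by
        intro j hj
        have h1 := (hj (sr i)).mp hi
        rw [r_mul_sr, inv_r, sr_mul_r] at h1
        have h2 := H.mul_mem hi h1
        rw [sr_mul_sr] at h2
        have h3 := H.pow_mem h2 m
        rw [r_pow] at h3
        have : (i - j + -j - i) * (m : ZMod n) = j := by
          have hn0 : ((2 * m + 1 : ℕ) : ZMod n) = 0 := by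
            rw [← hm]; exact ZMod.natCast_self n
          push_cast at hn0
          linear_combination (-j) * hn0
        rw [this] at h3
        exact h3
      rintro (j | j) hj
      · exact hrot j hj
      · have hiN : sr i ∈ Subgroup.normalizer (H : Set (DihedralGroup n)) := Subgroup.le_normalizer hi
        have h1 := (Subgroup.normalizer (H : Set (DihedralGroup n))).mul_mem hj hiN
        rw [sr_mul_sr] at h1
        have h2 := hrot _ h1
        have h3 := H.mul_mem h2 hi
        rw [r_mul_sr] at h3
        have : i - (i - j) = j := by ring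
        rw [this] at h3
        exact h3

end Cfsg.Agent.S4074
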