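import Cfsg.Statements.S4075

set_option autoImplicit false
open Cfsg

namespace Cfsg.Agent.S4075

theorem comm_of_sylow_comm {G : Type*} [Group G] [Finite G] [Group.IsNilpotent G]
    (h : ∀ (p : ℕ) [Fact p.Prime] (P : Sylow p G), IsMulCommutative (P : Subgroup G)) :
    IsMulCommutative G := by
  have key := (Group.isNilpotent_of_finite_tfae (G := G)).out 0 4
  obtain ⟨e⟩ := key.mp inferInstance
  refine ⟨⟨fun a b => ?_⟩⟩
  have : e.symm a * e.symm b = e.symm b * e.symm a := by
    funext p
    funext P
    have : Fact (p : ℕ).Prime := ⟨Nat.prime_of_mem_primeFactors p.2⟩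
    have := h p P
    exact mul_comm' _ _
  have h2 := congrArg e this
  simpa using h2

/-- Let G be a finite nilpotent group. Every non-abelian subgroup of G is self-normalizing if and only if G is abelian or G is a minimal non-abelian p-group for some prime p (non-abelian of prime-power order with every proper subgroup abelian). -/
theorem result {G : Type*} [Group G] [Finite G]
    [Group.IsNilpotent G] :
    (∀ H : Subgroup G, ¬ IsMulCommutative H → Subgroup.normalizer (H : Set G) = H) ↔
    (IsMulCommutative G ∨ (IsPrimePow (Nat.card G) ∧ ¬ IsMulCommutative G ∧ ∀ H : Subgroup G, H ≠ ⊤ → IsMulCommutative H)) := by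
  constructor
  · intro hS
    by_cases hG : IsMulCommutative G
    · exact Or.inl hG
    · right
      have hnc := (normalizerCondition_iff_only_full_group_self_normalizing (G := G)).mp
        Group.normalizerCondition_of_isNilpotent
      have hprop : ∀ H : Subgroup G, ¬ IsMulCommutative H → H = ⊤ := fun H hH => hnc H (hS H hH)
      refine ⟨?_, hG, fun H hH => by_contra fun hc => hH (hprop H hc)⟩
      by_contra hpp
      apply hG
      apply comm_of_sylow_comm
      intro p _ P
      by_contra hP
      have htop := hprop _ hP
      apply hpp
      have hcard : Nat.card G = Nat.card (P : Subgroup G) := by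
        rw [htop, Subgroup.card_top]
      obtain ⟨n, hn⟩ := (IsPGroup.iff_card.mp P.isPGroup')
      rw [hcard, hn]
      have hn0 : n ≠ 0 := by
        rintro rfl
        apply hP
        have h1 : Nat.card (P : Subgroup G) = 1 := by simpa using hn
        have : Subsingleton (P : Subgroup G) := (Nat.card_eq_one_iff_unique.mp h1).1
        exact ⟨⟨fun a b => Subsingleton.elim _ _⟩⟩
      exact (Fact.out : p.Prime).isPrimePow.pow hn0
  · rintro (hG | ⟨_, hG, hmin⟩) H hH
    · exfalso
      apply hH
      exact ⟨⟨fun a b => Subtype.ext (mul_comm' (a : G) (b : G))⟩⟩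
    · have : H = ⊤ := by_contra fun hne => hH (hmin H hne)
      subst this
      ext g
      simp [Subgroup.mem_set_normalizer_iff]

end Cfsg.Agent.S4075
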