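import Cfsg.Statements.S4079
import Cfsg.Agent.Lib.Helper53.MetaAutE

set_option autoImplicit false
open Cfsg

namespace Cfsg.Agent.S4079

open Cfsg.Agent.Lib.Helper53

/-- Let p be an odd prime and L a finite metacyclic p-group with no cyclic subgroup of index p, and let a be an automorphism of L of order p. Then a moves some element of order p of L if and only if p = 3 and the semidirect product L ⋊ ⟨a⟩ (of order 3·#L) has maximal class, i.e. nilpotency class m where #L = 3^m. -/
theorem result {L : Type*} [Group L] [Finite L] {p : ℕ} [Fact p.Prime]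
    (hp : p ≠ 2) (hL : IsPGroup p L) (hmc : Cfsg.IsMetacyclic L) (hnc : ∀ C : Subgroup L, IsCyclic C → C.index ≠ p)
    (a : MulAut L) (ha : orderOf a = p) (m : ℕ) (hm : Nat.card L = p ^ m) :
    (∃ x : L, orderOf x = p ∧ a x ≠ x) ↔
    (p = 3 ∧ Group.nilpotencyClass (SemidirectProduct L ↥(Subgroup.zpowers a) (Subgroup.zpowers a).subtype) = m) := by
  have hpp : p.Prime := Fact.out
  -- `L` is not cyclic
  have hncyc : ¬ IsCyclic L := by
    intro hc
    have hm0 : m ≠ 0 := by
      rintro rfl
      rw [pow_zero] at hm
      haveI : Subsingleton L := (Nat.card_eq_one_iff_unique.mp hm).1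
      have h1 : a = 1 := by
        ext x
        exact Subsingleton.elim _ _
      rw [h1, orderOf_one] at ha
      exact hpp.one_lt.ne ha
    obtain ⟨K, hK⟩ := Sylow.exists_subgroup_card_pow_prime p (n := m - 1)
      (by rw [hm]; exact pow_dvd_pow p (Nat.sub_le m 1))
    haveI := hc
    apply hnc K inferInstance
    have h1 := Subgroup.card_mul_index K
    rw [hK, hm] at h1
    have h2 : p ^ (m - 1) * K.index = p ^ (m - 1) * p := by
      rw [h1, ← pow_succ]
      congr 1
      omega
    exact Nat.eq_of_mul_eq_mul_left (pow_pos hpp.pos _) h2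
  obtain ⟨E, hE, hEc⟩ := ma_exists_omega hp hL hmc hncyc
  haveI hEn : E.Normal := ma_normal_of_omega E hE
  have hap : a ^ p = 1 := by rw [← ha]; exact pow_orderOf_eq_one a
  have haE : ∀ x : L, a x ∈ E ↔ x ∈ E := by
    intro x
    rw [hE, hE, ← map_pow, MulEquiv.map_eq_one_iff]
  have hN1 := ma_N1 hL a ha E haE hEc
  -- the fixed points of `a`
  let F : Subgroup L :=
    { carrier := {x | a x = x}
      mul_mem' := by
        intro x y hx hy
        have hx' : a x = x := hx
        have hy' : a y = y := hy
        show a (x * y) = x * y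
        rw [map_mul, hx', hy']
      one_mem' := map_one a
      inv_mem' := by
        intro x hx
        have hx' : a x = x := hx
        show a x⁻¹ = x⁻¹
        rw [map_inv, hx'] }
  have hF : ∀ x : L, x ∈ F ↔ a x = x := fun x => Iff.rfl
  constructor
  · rintro ⟨x, hxo, hxm⟩
    have hxE : x ∈ E := by
      rw [hE, ← hxo]
      exact pow_orderOf_eq_one x
    obtain ⟨hp3, hFc⟩ := ma_forward hp hL hmc hnc a hap E hE hEc hN1 x hxE hxm
    exact ⟨hp3, ma_class_of_fixed a ha m hm F hF (hFc F hF)⟩
  · rintro ⟨hp3, hclass⟩
    by_contra hno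
    have hfix : ∀ e ∈ E, a e = e := by
      intro e he
      by_cases he1 : e = 1
      · rw [he1, map_one]
      · by_contra hne
        apply hno
        exact ⟨e, orderOf_eq_prime ((hE e).1 he) he1, hne⟩
    exact ma_not_maxClass hp hL hmc hnc a ha m hm E hE hEc hfix hclass

end Cfsg.Agent.S4079
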