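import Cfsg.Statements.S4080
import Cfsg.Agent.Lib.Helper67.UnipotentAction

set_option autoImplicit false
open Cfsg

namespace Cfsg.Agent.S4080

open Cfsg.Agent.Lib.Helper67

section Abstract

variable {M : Type*} [AddCommGroup M] {p : ℕ} [hp : Fact p.Prime]

/-- The binomial computation: if `p • (f-1)^2 = 0`, `(f-1)^4 = 0`, `p > 3` and `f ^ p = 1`
then `p • (f - 1) = 0`. -/
theorem nsmul_sub_one_apply_eq_zero (hp3 : 3 < p) (f : Module.End ℤ M) (hf : f ^ p = 1)
    (hK1 : ∀ y, p • (((f - 1) ^ 2 : Module.End ℤ M) y) = 0) (hK2 : (f - 1) ^ 4 = 0) :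
    ∀ y, p • ((f - 1) y) = 0 := by
  set N : Module.End ℤ M := f - 1 with hN
  have hfN : f = N + 1 := by rw [hN]; abel
  have hexp := (Commute.one_right N).add_pow p
  rw [← hfN, hf] at hexp
  have hterm : ∀ k ∈ Finset.range (p + 1), k ≠ 0 ∧ k ≠ 1 →
      N ^ k * 1 ^ (p - k) * ((p.choose k : ℕ) : Module.End ℤ M) = 0 := by
    intro k hk hk01
    rw [one_pow, mul_one]
    have hkp : k ≤ p := Nat.lt_succ_iff.mp (Finset.mem_range.mp hk)
    by_cases hk4 : 4 ≤ k
    · have : N ^ k = N ^ (k - 4) * N ^ 4 := by rw [← pow_add]; congr 1; omega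
      rw [this, hK2, mul_zero, zero_mul]
    · have hk23 : k = 2 ∨ k = 3 := by omega
      have hklt : k < p := by omega
      obtain ⟨c, hc⟩ := Nat.Prime.dvd_choose_self hp.out hk01.1 hklt
      rw [hc]
      apply LinearMap.ext
      intro y
      rw [Module.End.mul_apply, Module.End.natCast_apply, LinearMap.zero_apply, map_nsmul,
        mul_comm, mul_nsmul]
      have : p • ((N ^ k) y) = 0 := by
        rcases hk23 with rfl | rfl
        · exact hK1 y
        · have : (N ^ 3) y = (N ^ 2) (N y) := by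
            rw [show (3 : ℕ) = 2 + 1 from rfl, pow_succ, Module.End.mul_apply]
          rw [this]; exact hK1 (N y)
      rw [smul_comm, this, smul_zero]
  rw [Finset.sum_eq_add (0 : ℕ) 1 (by norm_num) hterm (by simp) (by
    intro h; exfalso; apply h; rw [Finset.mem_range]; have := hp.out.one_lt; omega)] at hexp
  simp only [pow_zero, one_pow, mul_one, Nat.choose_zero_right, Nat.cast_one, pow_one,
    Nat.choose_one_right] at hexp
  have hNp : N * (p : Module.End ℤ M) = 0 := by
    have : (1 : Module.End ℤ M) = 1 + N * (p : Module.End ℤ M) := hexp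
    have h2 : (1 : Module.End ℤ M) + 0 = 1 + N * (p : Module.End ℤ M) := by rw [add_zero]; exact this
    exact (add_left_cancel h2).symm
  intro y
  have := congrArg (fun g : Module.End ℤ M => g y) hNp
  simp only [Module.End.mul_apply, Module.End.natCast_apply, LinearMap.zero_apply, map_nsmul]
    at this
  exact this

/-- Abstract version: `M` a finite abelian group of order `p^m`, of exponent dividing `p^2`, such
that `pM` has order at most `p^2` and contains all elements of order `p`; then an endomorphism with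
`f ^ p = 1` fixes all elements of order dividing `p`, provided `p > 3`. -/
theorem fixes_omega [Finite M] (hp3 : 3 < p) {m : ℕ} (hM : Nat.card M = p ^ m)
    (hT : ∀ v : M, p • v = 0 → ∃ z : M, v = p • z)
    (hV : Nat.card (nsmulAddMonoidHom (α := M) p).range ≤ p ^ 2)
    (f : Module.End ℤ M) (hf : f ^ p = 1) (x : M) (hx : p • x = 0) : f x = x := by
  have hK0 : ∀ y, ((f - 1) ^ 2 : Module.End ℤ M) (p • y) = 0 := by
    intro y
    apply sub_one_pow_apply_eq_zero hM f hf 2 (nsmulAddMonoidHom (α := M) p).range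
    · rintro u ⟨z, rfl⟩
      exact ⟨f z, by simp⟩
    · exact hV
    · exact ⟨y, rfl⟩
  have hK1 : ∀ y, p • (((f - 1) ^ 2 : Module.End ℤ M) y) = 0 := by
    intro y
    rw [← map_nsmul]; exact hK0 y
  have hK2 : (f - 1) ^ 4 = 0 := by
    apply LinearMap.ext
    intro y
    rw [show (4 : ℕ) = 2 + 2 from rfl, pow_add, Module.End.mul_apply, LinearMap.zero_apply]
    obtain ⟨z, hz⟩ := hT _ (hK1 y)
    rw [hz]; exact hK0 z
  have hmain := nsmul_sub_one_apply_eq_zero hp3 f hf hK1 hK2
  obtain ⟨z, rfl⟩ := hT x hx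
  have h1 := hmain z
  rw [← map_nsmul, LinearMap.sub_apply, Module.End.one_apply, sub_eq_zero] at h1
  exact h1

end Abstract

section Concrete

variable {p : ℕ} [hp : Fact p.Prime]

theorem zmod_sq_torsion (v : ZMod (p ^ 2)) (hv : p • v = 0) : ∃ z : ZMod (p ^ 2), v = p • z := by
  have : NeZero (p ^ 2) := ⟨pow_ne_zero 2 hp.out.ne_zero⟩
  have h1 : ((p * v.val : ℕ) : ZMod (p ^ 2)) = 0 := by
    rw [Nat.cast_mul, ZMod.natCast_zmod_val, ← nsmul_eq_mul]; exact hv
  rw [ZMod.natCast_eq_zero_iff] at h1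
  have h2 : p ∣ v.val := (Nat.mul_dvd_mul_iff_left hp.out.pos).mp ((pow_two p).symm.dvd.trans h1)
  obtain ⟨k, hk⟩ := h2
  refine ⟨(k : ZMod (p ^ 2)), ?_⟩
  rw [nsmul_eq_mul, ← Nat.cast_mul, ← hk, ZMod.natCast_zmod_val]

theorem card_range_le :
    Nat.card (nsmulAddMonoidHom (α := ZMod (p ^ 2) × ZMod (p ^ 2)) p).range ≤ p ^ 2 := by
  have : NeZero (p ^ 2) := ⟨pow_ne_zero 2 hp.out.ne_zero⟩
  set μ := nsmulAddMonoidHom (α := ZMod (p ^ 2) × ZMod (p ^ 2)) p with hμ
  have hle : μ.range ≤ μ.ker := by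
    rintro _ ⟨z, rfl⟩
    rw [AddMonoidHom.mem_ker]
    show p • (p • z) = 0
    rw [← mul_nsmul, ← pow_two]
    ext
    · rw [Prod.smul_fst, nsmul_eq_mul, ZMod.natCast_self, zero_mul]; rfl
    · rw [Prod.smul_snd, nsmul_eq_mul, ZMod.natCast_self, zero_mul]; rfl
  have h1 : Nat.card μ.ker * Nat.card μ.range = p ^ 4 := by
    rw [← AddSubgroup.index_ker, AddSubgroup.card_mul_index, Nat.card_prod, Nat.card_zmod]
    ring
  have h2 : Nat.card μ.range ≤ Nat.card μ.ker := AddSubgroup.card_le_of_le hle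
  by_contra hcon
  push Not at hcon
  have h3 : p ^ 2 * p ^ 2 < Nat.card μ.ker * Nat.card μ.range := by
    calc p ^ 2 * p ^ 2 < Nat.card μ.range * Nat.card μ.range := Nat.mul_lt_mul'' hcon hcon
      _ ≤ Nat.card μ.ker * Nat.card μ.range := Nat.mul_le_mul_right _ h2
  rw [h1] at h3
  have : p ^ 2 * p ^ 2 = p ^ 4 := by ring
  omega

end Concrete

/-- Let p > 3 be a prime and L the direct product of two cyclic groups of order p². Every automorphism of L of order p fixes every element of order p of L. -/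
theorem result {p : ℕ} [Fact p.Prime] (hp : 3 < p)
    (a : MulAut (Multiplicative (ZMod (p ^ 2) × ZMod (p ^ 2)))) (ha : orderOf a = p)
    (x : Multiplicative (ZMod (p ^ 2) × ZMod (p ^ 2))) (hx : orderOf x = p) : a x = x := by
  have : NeZero (p ^ 2) := ⟨pow_ne_zero 2 (Fact.out : p.Prime).ne_zero⟩
  let f0 : (ZMod (p ^ 2) × ZMod (p ^ 2)) →+ (ZMod (p ^ 2) × ZMod (p ^ 2)) :=
    { toFun := fun y => Multiplicative.toAdd (a (Multiplicative.ofAdd y))
      map_zero' := by simp
      map_add' := by intro y z; simp }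
  let f : Module.End ℤ (ZMod (p ^ 2) × ZMod (p ^ 2)) := f0.toIntLinearMap
  have hfpow : ∀ n : ℕ, ∀ y : ZMod (p ^ 2) × ZMod (p ^ 2),
      (f ^ n) y = Multiplicative.toAdd ((a ^ n) (Multiplicative.ofAdd y)) := by
    intro n
    induction n with
    | zero => intro y; simp
    | succ n ih =>
      intro y
      rw [pow_succ f n, Module.End.mul_apply, ih, pow_succ a n, MulAut.mul_apply]
      rfl
  have hf : f ^ p = 1 := by
    apply LinearMap.ext
    intro y
    have hap : a ^ p = 1 := by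
      have h0 := pow_orderOf_eq_one a
      rwa [ha] at h0
    rw [hfpow, hap]
    simp
  have hx' : p • (Multiplicative.toAdd x) = 0 := by
    have h1 := pow_orderOf_eq_one x
    rw [hx] at h1
    have h2 := congrArg Multiplicative.toAdd h1
    simpa using h2
  have hcard : Nat.card (ZMod (p ^ 2) × ZMod (p ^ 2)) = p ^ 4 := by
    rw [Nat.card_prod, Nat.card_zmod]; ring
  have hT : ∀ v : ZMod (p ^ 2) × ZMod (p ^ 2), p • v = 0 → ∃ z, v = p • z := by
    rintro ⟨v1, v2⟩ hv
    have h1 : p • v1 = 0 := congrArg Prod.fst hv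
    have h2 : p • v2 = 0 := congrArg Prod.snd hv
    obtain ⟨z1, rfl⟩ := zmod_sq_torsion v1 h1
    obtain ⟨z2, rfl⟩ := zmod_sq_torsion v2 h2
    exact ⟨(z1, z2), rfl⟩
  have h3 : Multiplicative.toAdd (a (Multiplicative.ofAdd (Multiplicative.toAdd x)))
      = Multiplicative.toAdd x :=
    fixes_omega hp hcard hT card_range_le f hf (Multiplicative.toAdd x) hx'
  rw [ofAdd_toAdd] at h3
  exact Multiplicative.toAdd.injective h3

end Cfsg.Agent.S4080
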