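import Cfsg.Statements.S4081
import Cfsg.Agent.Lib.Helper86.LMFwd

set_option autoImplicit false
set_option linter.style.haveILetI false
open Cfsg

namespace Cfsg.Agent.S4081

open Cfsg.Agent.Lib.Helper86

/-- Let G be a finite group whose order is not a prime power. Then the automorphism group of G has exactly three orbits on G if and only if there are distinct primes p, q with #G = pⁿ·q (n ≥ 1) such that G has a normal elementary abelian Sylow p-subgroup P, p is a primitive root modulo q (the multiplicative order of p mod q is q − 1), and every element of order q of G acts on P without non-identity fixed points. -/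
theorem result {G : Type*} [Group G] [Finite G] (hnpp : ¬ IsPrimePow (Nat.card G)) (hnt : Nat.card G ≠ 1) :
    Nat.card (MulAction.orbitRel.Quotient (MulAut G) G) = 3 ↔
    ∃ (p q n : ℕ) (_ : Fact p.Prime) (_ : Fact q.Prime), p ≠ q ∧ 1 ≤ n ∧ Nat.card G = p ^ n * q ∧
      (∀ P : Sylow p G, (P : Subgroup G).Normal ∧ Cfsg.IsElementaryAbelian p (P : Subgroup G)) ∧
      orderOf (p : ZMod q) = q - 1 ∧
      ∀ x y : G, orderOf x = q → orderOf y = p → x * y * x⁻¹ ≠ y := by
  constructor
  · intro h3
    obtain ⟨p, q, n, hp, hq, hpq, hn, hcard, hS, hprim, hfpf⟩ := LM.fwd h3 hnpp hnt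
    exact ⟨p, q, n, hp, hq, hpq, hn, hcard, fun P => ⟨(hS P).1, (hS P).2.1, (hS P).2.2⟩, hprim, hfpf⟩
  · rintro ⟨p, q, n, hp, hq, hpq, hn, hcard, hS, hprim, hfpf⟩
    let P : Sylow p G := default
    haveI : (P : Subgroup G).Normal := (hS P).1
    haveI : IsMulCommutative (P : Subgroup G) := (hS P).2.1
    have hPcard : Nat.card (P : Subgroup G) = p ^ n := by
      rw [Sylow.card_eq_multiplicity P, hcard]
      congr 1
      have hcop : (p ^ n).Coprime q :=
        Nat.Coprime.pow_left n ((Nat.coprime_primes hp.out hq.out).mpr hpq)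
      rw [Nat.factorization_mul_of_coprime hcop]
      simp [hp.out.factorization_self, Nat.factorization_eq_zero_of_not_dvd
        (fun h => hpq ((Nat.prime_dvd_prime_iff_eq hp.out hq.out).mp h))]
    exact LM.bwd hpq hn hcard (P : Subgroup G) hPcard (hS P).2.2 hprim hfpf

end Cfsg.Agent.S4081
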