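import Cfsg.Statements.S4082
import Mathlib
import Cfsg.Agent.S0206
import Cfsg.Agent.Lib.Helper4.SylowConj

set_option autoImplicit false
open Cfsg

namespace Cfsg.Agent.S4082

open DihedralGroup Cfsg.Agent.Lib.Helper4 Subgroup

theorem zpow_mem_normalizer_conj {G : Type*} [Group G] (Q : Subgroup G) (x : G)
    (hx : x ∈ normalizer (Q : Set G)) (i : ℤ) (q : G) (hq : q ∈ Q) : x ^ i * q * (x ^ i)⁻¹ ∈ Q := by
  have hxi : x ^ i ∈ normalizer (Q : Set G) := Subgroup.zpow_mem _ hx i
  exact (Subgroup.mem_normalizer_iff.mp hxi q).mp hq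

theorem mem_sup_zpowers_norm {G : Type*} [Group G] (Q : Subgroup G) (x : G)
    (hx : x ∈ normalizer (Q : Set G)) (h : G) (hh : h ∈ Q ⊔ Subgroup.zpowers x) :
    ∃ q ∈ Q, ∃ i : ℤ, h = q * x ^ i := by
  rw [Subgroup.sup_eq_closure] at hh
  induction hh using Subgroup.closure_induction with
  | mem y hy =>
    rcases hy with hy | hy
    · exact ⟨y, hy, 0, by simp⟩
    · obtain ⟨i, rfl⟩ := Subgroup.mem_zpowers_iff.mp hy
      exact ⟨1, Q.one_mem, i, by simp⟩
  | one => exact ⟨1, Q.one_mem, 0, by simp⟩
  | mul a b _ _ ha hb =>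
    obtain ⟨q, hq, i, rfl⟩ := ha
    obtain ⟨q', hq', j, rfl⟩ := hb
    refine ⟨q * (x ^ i * q' * (x ^ i)⁻¹), Q.mul_mem hq (zpow_mem_normalizer_conj Q x hx i q' hq'),
      i + j, ?_⟩
    rw [zpow_add]; group
  | inv a _ ha =>
    obtain ⟨q, hq, i, rfl⟩ := ha
    refine ⟨x ^ (-i) * q⁻¹ * (x ^ (-i))⁻¹,
      zpow_mem_normalizer_conj Q x hx (-i) q⁻¹ (Q.inv_mem hq), -i, ?_⟩
    group

theorem key_lemma {G : Type*} [Group G] [Finite G] {p : ℕ} [hpF : Fact p.Prime] (hp : p ≠ 2)
    (hyp : ∀ H : Subgroup G, (∀ S : Sylow p ↥H, (S : Subgroup ↥H).Normal) →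
        (∀ (S : Sylow p ↥H) [(S : Subgroup ↥H).Normal], IsCyclic (↥H ⧸ (S : Subgroup ↥H))) →
        IsCyclic H ∨ (∃ n : ℕ, Nonempty (H ≃* DihedralGroup (p ^ n))))
    (N : Subgroup G) (hN : IsPGroup p N) (x : G) (hx : x ∈ normalizer (N : Set G)) :
    x ∈ centralizer (N : Set G) ∨ (orderOf x = 2 ∧ ∀ q ∈ N, x * q * x⁻¹ = q⁻¹) := by
  set H := N ⊔ Subgroup.zpowers x with hH
  have hNH : N ≤ H := le_sup_left
  have hxH : x ∈ H := (le_sup_right : Subgroup.zpowers x ≤ H) (Subgroup.mem_zpowers x)
  have hHN : H ≤ normalizer (N : Set G) :=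
    sup_le Subgroup.le_normalizer (by rw [Subgroup.zpowers_le]; exact hx)
  set N' := N.subgroupOf H with hN'
  have hN'n : N'.Normal := Subgroup.normal_subgroupOf_of_le_normalizer hHN
  have hN'p : IsPGroup p N' := hN.comap_subtype
  have hform := mem_sup_zpowers_norm N x hx
  set X : H := ⟨x, hxH⟩ with hX
  have hform' : ∀ h : H, ∃ q : H, q ∈ N' ∧ ∃ i : ℤ, h = q * X ^ i := by
    intro h
    obtain ⟨q, hq, i, hh⟩ := hform h h.2
    refine ⟨⟨q, hNH hq⟩, Subgroup.mem_subgroupOf.mpr hq, i, ?_⟩
    apply Subtype.ext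
    simp [hh, hX]
  -- commutators lie in N'
  have hcommN : ∀ a b : H, a * b * a⁻¹ * b⁻¹ ∈ N' := by
    intro a b
    obtain ⟨q, hq, i, rfl⟩ := hform' a
    obtain ⟨q', hq', j, rfl⟩ := hform' b
    rw [← QuotientGroup.eq_one_iff]
    have h1 : ((q : H) : H ⧸ N') = 1 := (QuotientGroup.eq_one_iff q).mpr hq
    have h2 : ((q' : H) : H ⧸ N') = 1 := (QuotientGroup.eq_one_iff q').mpr hq'
    simp only [QuotientGroup.mk_mul, QuotientGroup.mk_inv, QuotientGroup.mk_zpow, h1, h2, one_mul]
    have hc : Commute ((X : H ⧸ N') ^ i) ((X : H ⧸ N') ^ j) :=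
      (Commute.refl _).zpow_zpow i j
    rw [hc.eq]; group
  have hnormal : ∀ S : Sylow p ↥H, (S : Subgroup ↥H).Normal := by
    intro S
    have hN'S : N' ≤ S := hN'p.le_sylow_of_normal S
    refine ⟨fun s hs h => ?_⟩
    have : h * s * h⁻¹ = (h * s * h⁻¹ * s⁻¹) * s := by group
    rw [this]
    exact Subgroup.mul_mem _ (hN'S (hcommN h s)) hs
  have hcyc : ∀ (S : Sylow p ↥H) [(S : Subgroup ↥H).Normal],
      IsCyclic (↥H ⧸ (S : Subgroup ↥H)) := by
    intro S hS
    have hN'S : N' ≤ S := hN'p.le_sylow_of_normal S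
    refine ⟨⟨QuotientGroup.mk' _ X, ?_⟩⟩
    intro y
    obtain ⟨h, rfl⟩ := QuotientGroup.mk'_surjective _ y
    obtain ⟨q, hq, i, rfl⟩ := hform' h
    refine ⟨i, ?_⟩
    show (QuotientGroup.mk' (S : Subgroup H) X) ^ i = QuotientGroup.mk' (S : Subgroup H) (q * X ^ i)
    rw [map_mul, map_zpow]
    have : QuotientGroup.mk' (S : Subgroup H) q = 1 :=
      (QuotientGroup.eq_one_iff _).mpr (hN'S hq)
    rw [this, one_mul]
  rcases hyp H hnormal hcyc with hc | ⟨n, ⟨e⟩⟩
  · left
    rw [Subgroup.mem_centralizer_iff]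
    intro q hq
    have := hc.isMulCommutative.is_comm.comm (⟨q, hNH hq⟩ : H) X
    exact congrArg Subtype.val this
  · -- elements of N map to rotations
    have hrot : ∀ q : H, q ∈ N' → ∃ j, e q = r j := by
      intro q hq
      rcases hq' : e q with j | j
      · exact ⟨j, rfl⟩
      · exfalso
        have h2 : orderOf q = 2 := by
          rw [← orderOf_injective e.toMonoidHom e.injective q]
          show orderOf (e q) = 2
          rw [hq']; exact orderOf_sr j
        obtain ⟨k, hk⟩ := hN'p ⟨q, hq⟩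
        have hk' : q ^ p ^ k = 1 := congrArg Subtype.val hk
        have := orderOf_dvd_of_pow_eq_one hk'
        rw [h2] at this
        have := (Nat.prime_dvd_prime_iff_eq Nat.prime_two hpF.out).mp
          (Nat.prime_two.dvd_of_dvd_pow this)
        exact hp this.symm
    rcases hX' : e X with i | i
    · left
      rw [Subgroup.mem_centralizer_iff]
      intro q hq
      obtain ⟨j, hj⟩ := hrot ⟨q, hNH hq⟩ (Subgroup.mem_subgroupOf.mpr hq)
      have : (⟨q, hNH hq⟩ : H) * X = X * ⟨q, hNH hq⟩ := by
        apply e.injective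
        rw [map_mul, map_mul, hj, hX', r_mul_r, r_mul_r, add_comm]
      exact congrArg Subtype.val this
    · right
      constructor
      · have h2 : orderOf X = 2 := by
          rw [← orderOf_injective e.toMonoidHom e.injective X]
          show orderOf (e X) = 2
          rw [hX']; exact orderOf_sr i
        rw [← h2, hX, Subgroup.orderOf_mk]
      · intro q hq
        obtain ⟨j, hj⟩ := hrot ⟨q, hNH hq⟩ (Subgroup.mem_subgroupOf.mpr hq)
        have : X * (⟨q, hNH hq⟩ : H) * X⁻¹ = (⟨q, hNH hq⟩ : H)⁻¹ := by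
          apply e.injective
          rw [map_mul, map_mul, map_inv, map_inv, hj, hX', inv_sr, sr_mul_r, sr_mul_sr, inv_r]
          congr 1; ring
        exact congrArg Subtype.val this


theorem forward {G : Type*} [Group G] [Finite G] {p : ℕ} [hpF : Fact p.Prime] (hp : p ≠ 2)
    (P : Sylow p G)
    (hyp : ∀ H : Subgroup G, (∀ S : Sylow p ↥H, (S : Subgroup ↥H).Normal) →
        (∀ (S : Sylow p ↥H) [(S : Subgroup ↥H).Normal], IsCyclic (↥H ⧸ (S : Subgroup ↥H))) →
        IsCyclic H ∨ (∃ n : ℕ, Nonempty (H ≃* DihedralGroup (p ^ n)))) :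
    (IsCyclic (P : Subgroup G) ∧
      (normalizer ((P : Subgroup G) : Set G) = centralizer ((P : Subgroup G) : Set G) ∨
       ((centralizer ((P : Subgroup G) : Set G)).relIndex
          (normalizer ((P : Subgroup G) : Set G)) = 2 ∧
        ∀ Q : Subgroup G, Q ≤ P → Nat.card Q = p →
          IsMulCommutative ↥(centralizer (Q : Set G)) ∧
          ∀ x : G, x ∈ normalizer (Q : Set G) → x ∉ centralizer (Q : Set G) →
            orderOf x = 2 ∧ ∀ c : G, c ∈ centralizer (Q : Set G) → x * c * x⁻¹ = c⁻¹))) := by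
  have hpp : p.Prime := hpF.out
  obtain ⟨kP, hkP⟩ := P.2.exists_card_eq
  constructor
  · -- P is cyclic
    have htop : ∀ S : Sylow p ↥(P : Subgroup G), (S : Subgroup ↥(P : Subgroup G)) = ⊤ := by
      intro S
      apply Subgroup.eq_top_of_card_eq
      rw [S.card_eq_multiplicity, hkP, Nat.Prime.factorization_pow hpp]
      simp
    have h1 : ∀ S : Sylow p ↥(P : Subgroup G), (S : Subgroup ↥(P : Subgroup G)).Normal := by
      intro S; rw [htop S]; infer_instance
    have h2 : ∀ (S : Sylow p ↥(P : Subgroup G)) [(S : Subgroup ↥(P : Subgroup G)).Normal],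
        IsCyclic (↥(P : Subgroup G) ⧸ (S : Subgroup ↥(P : Subgroup G))) := by
      intro S hS
      have : Subsingleton (↥(P : Subgroup G) ⧸ (S : Subgroup ↥(P : Subgroup G))) := by
        rw [← Finite.card_le_one_iff_subsingleton, ← Subgroup.index_eq_card, htop S,
          Subgroup.index_top]
      exact isCyclic_of_subsingleton
    rcases hyp (P : Subgroup G) h1 h2 with h | ⟨n, ⟨e⟩⟩
    · exact h
    · exfalso
      have hc : Nat.card (P : Subgroup G) = 2 * p ^ n := by
        rw [Nat.card_congr e.toEquiv, DihedralGroup.nat_card]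
      rw [hkP] at hc
      have h2 : 2 ∣ p ^ kP := by rw [hc]; exact dvd_mul_right 2 _
      have := (Nat.prime_dvd_prime_iff_eq Nat.prime_two hpp).mp (Nat.prime_two.dvd_of_dvd_pow h2)
      exact hp this.symm
  · by_cases hNC : normalizer ((P : Subgroup G) : Set G) = centralizer ((P : Subgroup G) : Set G)
    · exact Or.inl hNC
    · right
      have hKL := key_lemma hp hyp
      -- an element of the normalizer outside the centralizer
      obtain ⟨x₀, hx₀N, hx₀C⟩ : ∃ x, x ∈ normalizer ((P : Subgroup G) : Set G) ∧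
          x ∉ centralizer ((P : Subgroup G) : Set G) := by
        by_contra hcon
        push Not at hcon
        exact hNC (le_antisymm hcon (Subgroup.centralizer_le_normalizer _))
      have hinv : ∀ x, x ∈ normalizer ((P : Subgroup G) : Set G) →
          x ∉ centralizer ((P : Subgroup G) : Set G) →
          orderOf x = 2 ∧ ∀ q ∈ (P : Subgroup G), x * q * x⁻¹ = q⁻¹ := fun x hxN hxC =>
        (hKL (P : Subgroup G) P.2 x hxN).resolve_left hxC
      obtain ⟨hx₀2, hx₀inv⟩ := hinv x₀ hx₀N hx₀C
      constructor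
      · rw [Subgroup.relIndex_eq_two_iff]
        refine ⟨x₀, hx₀N, fun b hbN => ?_⟩
        by_cases hbC : b ∈ centralizer ((P : Subgroup G) : Set G)
        · refine Or.inr ⟨hbC, fun h => hx₀C ?_⟩
          have : x₀ = b⁻¹ * (b * x₀) := by group
          rw [this]
          exact Subgroup.mul_mem _ (Subgroup.inv_mem _ hbC) h
        · refine Or.inl ⟨?_, hbC⟩
          obtain ⟨-, hbinv⟩ := hinv b hbN hbC
          rw [Subgroup.mem_centralizer_iff]
          intro q hq
          have h1 := hx₀inv q hq
          have h2 := hbinv q⁻¹ (Subgroup.inv_mem _ hq)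
          rw [inv_inv] at h2
          have : b * x₀ * q * (b * x₀)⁻¹ = q := by
            calc b * x₀ * q * (b * x₀)⁻¹ = b * (x₀ * q * x₀⁻¹) * b⁻¹ := by group
              _ = q := by rw [h1, h2]
          calc q * (b * x₀) = (b * x₀ * q * (b * x₀)⁻¹) * (b * x₀) := by rw [this]
            _ = b * x₀ * q := by group
      · intro Q hQP hQcard
        have hQp : IsPGroup p Q := P.2.to_le hQP
        have hA : ∀ x, x ∈ normalizer (Q : Set G) → x ∉ centralizer (Q : Set G) →
            orderOf x = 2 ∧ ∀ q ∈ Q, x * q * x⁻¹ = q⁻¹ := fun x hxN hxC =>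
          (hKL Q hQp x hxN).resolve_left hxC
        have hB : ∀ x, x ∈ normalizer (Q : Set G) → x ∉ centralizer (Q : Set G) →
            orderOf x = 2 ∧ ∀ c : G, c ∈ centralizer (Q : Set G) → x * c * x⁻¹ = c⁻¹ := by
          intro x hxN hxC
          obtain ⟨hx2, -⟩ := hA x hxN hxC
          refine ⟨hx2, fun c hc => ?_⟩
          have hxx : x * x = 1 := by
            have := pow_orderOf_eq_one x
            rwa [hx2, sq] at this
          have hyN : x * c ∈ normalizer (Q : Set G) :=
            Subgroup.mul_mem _ hxN (Subgroup.centralizer_le_normalizer _ hc)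
          have hyC : x * c ∉ centralizer (Q : Set G) := by
            intro h
            apply hxC
            have : x = (x * c) * c⁻¹ := by group
            rw [this]
            exact Subgroup.mul_mem _ h (Subgroup.inv_mem _ hc)
          obtain ⟨hy2, -⟩ := hA (x * c) hyN hyC
          have hyy : (x * c) * (x * c) = 1 := by
            have := pow_orderOf_eq_one (x * c)
            rwa [hy2, sq] at this
          have hxi : x⁻¹ = x := inv_eq_of_mul_eq_one_right hxx
          rw [hxi]
          calc x * c * x = (x * c * (x * c)) * c⁻¹ := by group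
            _ = c⁻¹ := by rw [hyy, one_mul]
        refine ⟨?_, hB⟩
        -- x₀ normalizes Q and does not centralize it
        have hx₀i : x₀⁻¹ = x₀ := by
          have := pow_orderOf_eq_one x₀
          rw [hx₀2, sq] at this
          exact inv_eq_of_mul_eq_one_right this
        have hx₀NQ : x₀ ∈ normalizer (Q : Set G) := by
          rw [Subgroup.mem_normalizer_iff]
          intro h
          constructor
          · intro hh
            rw [hx₀inv h (hQP hh)]
            exact Q.inv_mem hh
          · intro hh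
            have h1 := hx₀inv _ (hQP hh)
            have hxx : x₀ * x₀ = 1 := by
              have := pow_orderOf_eq_one x₀
              rwa [hx₀2, sq] at this
            have h2 : h = x₀ * (x₀ * h * x₀⁻¹) * x₀⁻¹ := by
              rw [hx₀i]
              calc h = (x₀ * x₀) * h * (x₀ * x₀) := by rw [hxx]; simp
                _ = x₀ * (x₀ * h * x₀) * x₀ := by group
            rw [h2, h1]
            exact Q.inv_mem hh
        have hx₀CQ : x₀ ∉ centralizer (Q : Set G) := by
          intro hc
          have hQnt : Nontrivial Q := by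
            rw [← Finite.one_lt_card_iff_nontrivial, hQcard]; exact hpp.one_lt
          obtain ⟨⟨q, hq⟩, hq1⟩ := exists_ne (1 : Q)
          have hq1' : q ≠ 1 := fun h => hq1 (Subtype.ext h)
          have h1 := hx₀inv q (hQP hq)
          have h2 : q * x₀ = x₀ * q := Subgroup.mem_centralizer_iff.mp hc q hq
          have h3 : q⁻¹ = q := by
            rw [← h1, ← h2]; group
          have h4 : q ^ 2 = 1 := by
            rw [sq]
            calc q * q = q⁻¹ * q := by rw [h3]
              _ = 1 := inv_mul_cancel q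
          have h5 : orderOf q ∣ 2 := orderOf_dvd_of_pow_eq_one h4
          have h6 : orderOf q ∣ p := by
            have := orderOf_dvd_natCard (⟨q, hq⟩ : Q)
            rwa [Subgroup.orderOf_mk, hQcard] at this
          have h7 : orderOf q ∣ Nat.gcd 2 p := Nat.dvd_gcd h5 h6
          have h8 : Nat.gcd 2 p = 1 := (Nat.coprime_primes Nat.prime_two hpp).mpr (Ne.symm hp)
          rw [h8, Nat.dvd_one, orderOf_eq_one_iff] at h7
          exact hq1' h7
        obtain ⟨-, hx₀invC⟩ := hB x₀ hx₀NQ hx₀CQ
        refine ⟨⟨fun a b => ?_⟩⟩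
        apply Subtype.ext
        show (a : G) * (b : G) = (b : G) * (a : G)
        have h1 := hx₀invC a a.2
        have h2 := hx₀invC b b.2
        have h3 := hx₀invC (a * b) (Subgroup.mul_mem _ a.2 b.2)
        have h4 : (↑a * ↑b : G)⁻¹ = (a : G)⁻¹ * (b : G)⁻¹ := by
          rw [← h3, ← h1, ← h2]; group
        rw [mul_inv_rev] at h4
        have := congrArg (fun g => g⁻¹) h4
        simpa using this

/-- a group with a central cyclic Sylow `p`-subgroup and cyclic quotient is cyclic -/
theorem isCyclic_of_sylow_central {X : Type*} [Group X] [Finite X] {p : ℕ} [hpF : Fact p.Prime]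
    (S : Sylow p X) [hSn : (S : Subgroup X).Normal] (hcyc : IsCyclic (S : Subgroup X))
    (hcen : (S : Subgroup X) ≤ Subgroup.center X)
    (hq : IsCyclic (X ⧸ (S : Subgroup X))) : IsCyclic X := by
  have hcomm : ∀ a b : X, a * b = b * a :=
    (MonoidHom.isMulCommutative_of_isCyclic_of_ker_le_center (QuotientGroup.mk' (S : Subgroup X))
      (by rw [QuotientGroup.ker_mk']; exact hcen)).is_comm.comm
  let inst : CommGroup X := { (inferInstance : Group X) with mul_comm := hcomm }
  apply IsCyclic.of_exponent_eq_card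
  apply Nat.dvd_antisymm Group.exponent_dvd_nat_card
  rw [← (S : Subgroup X).card_mul_index]
  apply Nat.Coprime.mul_dvd_of_dvd_of_dvd
  · obtain ⟨k, hk⟩ := S.2.exists_card_eq
    rw [hk]
    apply Nat.Coprime.pow_left
    exact (Nat.Prime.coprime_iff_not_dvd hpF.out).mpr S.not_dvd_index
  · obtain ⟨g, hg⟩ := IsCyclic.exists_ofOrder_eq_natCard (α := (S : Subgroup X))
    rw [← hg, ← Subgroup.orderOf_coe]
    exact Monoid.order_dvd_exponent _
  · obtain ⟨g, hg⟩ := IsCyclic.exists_ofOrder_eq_natCard (α := X ⧸ (S : Subgroup X))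
    obtain ⟨x, rfl⟩ := QuotientGroup.mk_surjective g
    rw [index, ← hg]
    exact (orderOf_map_dvd (QuotientGroup.mk' (S : Subgroup X)) x).trans
      (Monoid.order_dvd_exponent _)

/-- Burnside: if `N(P) ≤ C(P)` then normal Sylow subgroups of subgroups are central -/
theorem central_of_burnside {G : Type*} [Group G] [Finite G] {p : ℕ} [hpF : Fact p.Prime]
    (P : Sylow p G)
    (hNC : normalizer ((P : Subgroup G) : Set G) ≤ centralizer ((P : Subgroup G) : Set G))
    (H : Subgroup G) (S : Sylow p ↥H) [hSn : (S : Subgroup ↥H).Normal] :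
    (S : Subgroup H) ≤ center H := by
  set f := MonoidHom.transferSylow P hNC with hf
  have hPcomm : ∀ a b : (P : Subgroup G), a * b = b * a := by
    intro a b
    apply Subtype.ext
    have := hNC (le_normalizer b.2)
    exact (Subgroup.mem_centralizer_iff.mp this a a.2)
  have hS'p : IsPGroup p ((S : Subgroup H).map H.subtype) := S.2.map _
  have hdisj := MonoidHom.ker_transferSylow_disjoint P hNC _ hS'p
  intro s hs
  rw [Subgroup.mem_center_iff]
  intro h
  have hc : h * s * h⁻¹ * s⁻¹ ∈ (S : Subgroup H) :=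
    Subgroup.mul_mem _ (hSn.conj_mem s hs h) (Subgroup.inv_mem _ hs)
  have hcK : ((h * s * h⁻¹ * s⁻¹ : H) : G) ∈ f.ker := by
    rw [MonoidHom.mem_ker]
    simp only [Subgroup.coe_mul, Subgroup.coe_inv, map_mul, map_inv]
    rw [hPcomm (f h) (f s)]
    group
  have hcS' : ((h * s * h⁻¹ * s⁻¹ : H) : G) ∈ (S : Subgroup H).map H.subtype :=
    ⟨_, hc, rfl⟩
  have h1 : ((h * s * h⁻¹ * s⁻¹ : H) : G) = 1 := Subgroup.disjoint_def.mp hdisj hcK hcS'
  have h2 : h * s * h⁻¹ * s⁻¹ = 1 := Subtype.ext h1
  calc h * s = (h * s * h⁻¹ * s⁻¹) * (s * h) := by group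
    _ = s * h := by rw [h2, one_mul]

/-- in a finite cyclic group, elements of order dividing `p` lie in any subgroup of order `p` -/
theorem mem_zpowers_of_pow_eq_one {C : Type*} [Group C] [Finite C] (hC : IsCyclic C) {p : ℕ}
    (hp : p.Prime) (z : C) (hz : orderOf z = p) (y : C) (hy : y ^ p = 1) :
    y ∈ Subgroup.zpowers z := by
  let _ : CommGroup C := IsCyclic.commGroup
  set T := (powMonoidHom p : C →* C).ker with hT
  have hcardT : Nat.card T = (Nat.card C).gcd p := IsCyclic.card_powMonoidHom_ker (G := C) p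
  have hzT : Subgroup.zpowers z ≤ T := by
    rw [Subgroup.zpowers_le, hT, MonoidHom.mem_ker, powMonoidHom_apply, ← hz]
    exact pow_orderOf_eq_one z
  have hle : Nat.card T ≤ Nat.card (Subgroup.zpowers z) := by
    rw [Nat.card_zpowers, hz, hcardT]
    exact Nat.le_of_dvd hp.pos (Nat.gcd_dvd_right _ _)
  have heq := Subgroup.eq_of_le_of_card_ge hzT hle
  rw [heq, hT, MonoidHom.mem_ker, powMonoidHom_apply]
  exact hy

theorem q_condition_all {G : Type*} [Group G] [Finite G] {p : ℕ} [hpF : Fact p.Prime]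
    (P : Sylow p G)
    (hQ : ∀ Q : Subgroup G, Q ≤ P → Nat.card Q = p →
          IsMulCommutative ↥(centralizer (Q : Set G)) ∧
          ∀ x : G, x ∈ normalizer (Q : Set G) → x ∉ centralizer (Q : Set G) →
            orderOf x = 2 ∧ ∀ c : G, c ∈ centralizer (Q : Set G) → x * c * x⁻¹ = c⁻¹)
    (Q₀ : Subgroup G) (hcard : Nat.card Q₀ = p) :
    (∀ c d : G, c ∈ centralizer (Q₀ : Set G) → d ∈ centralizer (Q₀ : Set G) → c * d = d * c) ∧
    ∀ x : G, x ∈ normalizer (Q₀ : Set G) → x ∉ centralizer (Q₀ : Set G) →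
            orderOf x = 2 ∧ ∀ c : G, c ∈ centralizer (Q₀ : Set G) → x * c * x⁻¹ = c⁻¹ := by
  have hQ₀p : IsPGroup p Q₀ := IsPGroup.of_card (n := 1) (by rw [hcard, pow_one])
  obtain ⟨g, hg⟩ := exists_conj_mem_sylow P Q₀ hQ₀p
  set f : G →* G := (MulAut.conj g⁻¹).toMonoidHom with hf
  have hfapp : ∀ x, f x = g⁻¹ * x * g := by
    intro x; simp [hf]
  have hfinj : Function.Injective f := (MulAut.conj g⁻¹).injective
  have hfsurj : Function.Surjective f := (MulAut.conj g⁻¹).surjective
  set Q := Q₀.map f with hQdef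
  have hQP : Q ≤ P := by
    rintro _ ⟨k, hk, rfl⟩
    rw [hfapp]; exact hg k hk
  have hQcard : Nat.card Q = p := by
    rw [hQdef, Subgroup.card_map_of_injective hfinj, hcard]
  obtain ⟨hcomm, hinv⟩ := hQ Q hQP hQcard
  have hmemQ : ∀ y, f y ∈ Q ↔ y ∈ Q₀ := fun y => Subgroup.mem_map_iff_mem hfinj
  have hcent : ∀ y, f y ∈ centralizer (Q : Set G) ↔ y ∈ centralizer (Q₀ : Set G) := by
    intro y
    rw [Subgroup.mem_centralizer_iff, Subgroup.mem_centralizer_iff]
    constructor
    · intro h q hq
      have := h (f q) ((hmemQ q).mpr hq)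
      rw [← map_mul, ← map_mul] at this
      exact hfinj this
    · rintro h _ ⟨q, hq, rfl⟩
      rw [← map_mul, ← map_mul, h q hq]
  have hnorm : ∀ y, y ∈ normalizer (Q₀ : Set G) → f y ∈ normalizer (Q : Set G) := by
    intro y hy
    rw [Subgroup.mem_normalizer_iff] at hy ⊢
    intro h
    obtain ⟨h₀, rfl⟩ := hfsurj h
    rw [← map_inv, ← map_mul, ← map_mul, hmemQ, hmemQ]
    exact hy h₀
  constructor
  · intro c d hc hd
    have h1 := (hcent c).mpr hc
    have h2 := (hcent d).mpr hd
    have := hcomm.is_comm.comm (⟨f c, h1⟩ : centralizer (Q : Set G)) ⟨f d, h2⟩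
    have := congrArg Subtype.val this
    simp only [Subgroup.coe_mul] at this
    rw [← map_mul, ← map_mul] at this
    exact hfinj this
  · intro x hxN hxC
    have h1 := hnorm x hxN
    have h2 : f x ∉ centralizer (Q : Set G) := fun h => hxC ((hcent x).mp h)
    obtain ⟨ho, hi⟩ := hinv (f x) h1 h2
    refine ⟨?_, fun c hc => ?_⟩
    · rw [← ho]; exact (orderOf_injective f hfinj x).symm
    · have := hi (f c) ((hcent c).mpr hc)
      rw [← map_inv, ← map_mul, ← map_mul, ← map_inv] at this
      exact hfinj this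

theorem case_two {G : Type*} [Group G] [Finite G] {p : ℕ} [hpF : Fact p.Prime]
    (H : Subgroup G) (S : Sylow p ↥H) [hSn : (S : Subgroup ↥H).Normal]
    (hq : IsCyclic (↥H ⧸ (S : Subgroup ↥H))) (S' : Subgroup G)
    (hS' : S' = (S : Subgroup H).map H.subtype) (hS'c : IsCyclic S')
    (hQall : ∀ Q₀ : Subgroup G, Nat.card Q₀ = p →
      (∀ c d : G, c ∈ centralizer (Q₀ : Set G) → d ∈ centralizer (Q₀ : Set G) → c * d = d * c) ∧
      ∀ x : G, x ∈ normalizer (Q₀ : Set G) → x ∉ centralizer (Q₀ : Set G) →
            orderOf x = 2 ∧ ∀ c : G, c ∈ centralizer (Q₀ : Set G) → x * c * x⁻¹ = c⁻¹) :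
    IsCyclic H ∨ ∃ n : ℕ, Nonempty (H ≃* DihedralGroup (p ^ n)) := by
  have hpp : p.Prime := hpF.out
  have eSS' : (S : Subgroup H) ≃* S' :=
    (Subgroup.equivMapOfInjective _ _ H.subtype_injective).trans (MulEquiv.subgroupCongr hS'.symm)
  have hScyc : IsCyclic (S : Subgroup H) :=
    isCyclic_of_surjective eSS'.symm.toMonoidHom eSS'.symm.surjective
  have hS'p : IsPGroup p S' := by rw [hS']; exact S.2.map _
  have hmemS' : ∀ g : H, (g : G) ∈ S' ↔ g ∈ (S : Subgroup H) := by
    intro g
    rw [hS']
    constructor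
    · rintro ⟨s, hs, hsg⟩
      have : s = g := Subtype.ext hsg
      rw [← this]; exact hs
    · intro hg
      exact ⟨g, hg, rfl⟩
  have hS'H : S' ≤ H := by
    rw [hS']; rintro _ ⟨s, -, rfl⟩; exact s.2
  have hS'comm : ∀ a ∈ S', ∀ b ∈ S', a * b = b * a := by
    intro a ha b hb
    have := hS'c.isMulCommutative.is_comm.comm (⟨a, ha⟩ : S') ⟨b, hb⟩
    exact congrArg Subtype.val this
  -- if H is commutative then it is cyclic
  have hcomm_case : (∀ a b : H, a * b = b * a) → IsCyclic H := by
    intro hc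
    apply isCyclic_of_sylow_central S hScyc _ hq
    intro s _
    rw [Subgroup.mem_center_iff]
    intro g
    exact hc g s
  by_cases hS1 : S' = ⊥
  · left
    apply isCyclic_of_sylow_central S hScyc _ hq
    intro s hs
    have : (s : G) ∈ S' := (hmemS' s).mpr hs
    rw [hS1, Subgroup.mem_bot] at this
    have hs1 : s = 1 := Subtype.ext this
    rw [hs1]; exact Subgroup.one_mem _
  · -- an element of order p in S'
    have hS'nt : Nontrivial S' := (Subgroup.nontrivial_iff_ne_bot S').mpr hS1
    obtain ⟨k, hk0, hk⟩ := hS'p.nontrivial_iff_card.mp hS'nt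
    obtain ⟨⟨z, hzS'⟩, hz⟩ := exists_prime_orderOf_dvd_card' (G := S') p
      (by rw [hk]; exact dvd_pow_self p hk0.ne')
    have hzo : orderOf z = p := by rw [← hz, Subgroup.orderOf_mk]
    set Q₀ := Subgroup.zpowers z with hQ₀
    have hQ₀card : Nat.card Q₀ = p := by rw [hQ₀, Nat.card_zpowers, hzo]
    have hQ₀S' : Q₀ ≤ S' := by rw [hQ₀, Subgroup.zpowers_le]; exact hzS'
    obtain ⟨hCcomm, hCinv⟩ := hQall Q₀ hQ₀card
    have hS'C : S' ≤ centralizer (Q₀ : Set G) := by
      intro s hs
      rw [Subgroup.mem_centralizer_iff]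
      intro q hq
      exact hS'comm q (hQ₀S' hq) s hs
    -- H normalizes Q₀
    have hconj : ∀ h ∈ H, ∀ y ∈ Q₀, h * y * h⁻¹ ∈ Q₀ := by
      intro h hh y hy
      obtain ⟨i, rfl⟩ := Subgroup.mem_zpowers_iff.mp hy
      have hw : h * z * h⁻¹ ∈ S' := by
        have := hSn.conj_mem ⟨z, hS'H hzS'⟩ ((hmemS' ⟨z, hS'H hzS'⟩).mp hzS') ⟨h, hh⟩
        exact (hmemS' _).mpr this
      have hwp : (⟨h * z * h⁻¹, hw⟩ : S') ^ p = 1 := by
        apply Subtype.ext
        show (h * z * h⁻¹) ^ p = 1
        rw [conj_pow, ← hzo, pow_orderOf_eq_one]; group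
      have hzo' : orderOf (⟨z, hzS'⟩ : S') = p := hz
      have := mem_zpowers_of_pow_eq_one hS'c hpp ⟨z, hzS'⟩ hzo' ⟨h * z * h⁻¹, hw⟩ hwp
      obtain ⟨j, hj⟩ := Subgroup.mem_zpowers_iff.mp this
      have hj' : z ^ j = h * z * h⁻¹ := by
        have := congrArg Subtype.val hj
        simpa using this
      rw [← conj_zpow, ← hj', ← zpow_mul]
      exact Subgroup.zpow_mem_zpowers z _
    have hHN : ∀ h ∈ H, h ∈ normalizer (Q₀ : Set G) := by
      intro h hh
      rw [Subgroup.mem_normalizer_iff]
      intro y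
      constructor
      · exact hconj h hh y
      · intro hy
        have := hconj h⁻¹ (H.inv_mem hh) _ hy
        rw [inv_inv] at this
        have h3 : h⁻¹ * (h * y * h⁻¹) * h = y := by group
        rwa [h3] at this
    by_cases hall : ∀ h ∈ H, h ∈ centralizer (Q₀ : Set G)
    · left
      apply hcomm_case
      intro a b
      apply Subtype.ext
      exact hCcomm a b (hall a a.2) (hall b b.2)
    · right
      push Not at hall
      obtain ⟨x, hxH, hxC⟩ := hall
      obtain ⟨hx2, hxinv⟩ := hCinv x (hHN x hxH) hxC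
      have hxx : x * x = 1 := by
        have := pow_orderOf_eq_one x
        rwa [hx2, sq] at this
      have hxi : x⁻¹ = x := inv_eq_of_mul_eq_one_right hxx
      have hxS' : x ∉ S' := fun h => hxC (hS'C h)
      -- Claim (a)
      have hA : ∀ h ∈ H, h ∈ centralizer (Q₀ : Set G) → h ∈ S' := by
        intro h hh hhC
        set X : H := ⟨x, hxH⟩ with hX
        set Y : H := ⟨h, hh⟩ with hY
        have hqc := hq.isMulCommutative.is_comm.comm
        have hXbar2 : (QuotientGroup.mk' (S : Subgroup H) X) ^ 2 = 1 := by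
          rw [← map_pow]
          have : X ^ 2 = 1 := Subtype.ext (by simp [hX, sq, hxx])
          rw [this, map_one]
        have hXbar1 : QuotientGroup.mk' (S : Subgroup H) X ≠ 1 := by
          intro h1
          rw [QuotientGroup.mk'_apply, QuotientGroup.eq_one_iff, ← hmemS'] at h1
          exact hxS' h1
        have hXo : orderOf (QuotientGroup.mk' (S : Subgroup H) X) = 2 :=
          orderOf_eq_prime hXbar2 hXbar1
        have hYbar2 : (QuotientGroup.mk' (S : Subgroup H) Y) ^ 2 = 1 := by
          have hinvY : X * Y * X⁻¹ = Y⁻¹ := Subtype.ext (by simpa [hX, hY] using hxinv h hhC)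
          have h3 : QuotientGroup.mk' (S : Subgroup H) (X * Y * X⁻¹) =
              QuotientGroup.mk' (S : Subgroup H) Y := by
            rw [map_mul, map_mul, hqc (QuotientGroup.mk' (S : Subgroup H) X), mul_assoc, ← map_mul,
              mul_inv_cancel, map_one, mul_one]
          rw [hinvY, map_inv] at h3
          rw [sq]
          calc QuotientGroup.mk' (S : Subgroup H) Y * QuotientGroup.mk' (S : Subgroup H) Y
              = (QuotientGroup.mk' (S : Subgroup H) Y)⁻¹ * QuotientGroup.mk' (S : Subgroup H) Y := by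
                rw [h3]
            _ = 1 := inv_mul_cancel _
        have hmem := mem_zpowers_of_pow_eq_one hq Nat.prime_two _ hXo _ hYbar2
        obtain ⟨j, hj⟩ := Subgroup.mem_zpowers_iff.mp hmem
        -- j even or odd
        rcases Int.even_or_odd j with ⟨m, hm⟩ | ⟨m, hm⟩
        · have h5 : QuotientGroup.mk' (S : Subgroup H) Y = 1 := by
            rw [← hj, hm, ← two_mul, zpow_mul, zpow_ofNat, hXbar2, one_zpow]
          rw [QuotientGroup.mk'_apply, QuotientGroup.eq_one_iff, ← hmemS'] at h5
          exact h5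
        · exfalso
          have h5 : QuotientGroup.mk' (S : Subgroup H) Y = QuotientGroup.mk' (S : Subgroup H) X := by
            rw [← hj, hm, zpow_add, zpow_mul, zpow_ofNat, hXbar2, one_zpow, one_mul, zpow_one]
          have h6 : X⁻¹ * Y ∈ (S : Subgroup H) := by
            rw [← QuotientGroup.eq_one_iff, ← QuotientGroup.mk'_apply, map_mul, map_inv, h5,
              inv_mul_cancel]
          have h7 : x⁻¹ * h ∈ S' := (hmemS' (X⁻¹ * Y)).mpr h6
          have h8 := hS'C h7
          apply hxC
          have : x = h * (x⁻¹ * h)⁻¹ := by group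
          rw [this]
          exact Subgroup.mul_mem _ hhC (Subgroup.inv_mem _ h8)
      -- Claim (b)
      have hB : ∀ h ∈ H, h ∉ centralizer (Q₀ : Set G) → x * h ∈ S' := by
        intro h hh hhC
        obtain ⟨-, hhinv⟩ := hCinv h (hHN h hh) hhC
        apply hA (x * h) (H.mul_mem hxH hh)
        rw [Subgroup.mem_centralizer_iff]
        intro q hq
        have hqC : q ∈ centralizer (Q₀ : Set G) := hS'C (hQ₀S' hq)
        have h1 := hhinv q hqC
        have h2 := hxinv q⁻¹ (Subgroup.inv_mem _ hqC)
        rw [inv_inv] at h2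
        have : x * h * q * (x * h)⁻¹ = q := by
          calc x * h * q * (x * h)⁻¹ = x * (h * q * h⁻¹) * x⁻¹ := by group
            _ = q := by rw [h1, h2]
        calc q * (x * h) = (x * h * q * (x * h)⁻¹) * (x * h) := by rw [this]
          _ = x * h * q := by group
      -- generator of S'
      obtain ⟨⟨s, hsS'⟩, hsgen⟩ := hS'c.exists_generator
      have hso : orderOf s = Nat.card S' := by
        have h1 : orderOf (⟨s, hsS'⟩ : S') = Nat.card S' := by
          rw [← Nat.card_zpowers]
          have : Subgroup.zpowers (⟨s, hsS'⟩ : S') = ⊤ := by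
            rw [eq_top_iff]; intro y _; exact hsgen y
          rw [this, Subgroup.card_top]
        rw [← h1, Subgroup.orderOf_mk]
      set y := x * s with hy
      have hyH : y ∈ H := H.mul_mem hxH (hS'H hsS')
      have hyy : y * y = 1 := by
        have h1 := hxinv s (hS'C hsS')
        rw [hxi] at h1
        calc y * y = (x * s * x) * s := by rw [hy]; group
          _ = 1 := by rw [h1]; group
      have hy1 : y ≠ 1 := by
        intro h1
        apply hxS'
        have : x = s⁻¹ := by
          rw [hy] at h1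
          exact eq_inv_of_mul_eq_one_left h1
        rw [this]; exact Subgroup.inv_mem _ hsS'
      have hyo : orderOf y = 2 := orderOf_eq_prime (by rw [sq]; exact hyy) hy1
      have hxy : x * y = s := by rw [hy, ← mul_assoc, hxx, one_mul]
      have hcl : Subgroup.closure ({x, y} : Set G) = H := by
        apply le_antisymm
        · rw [Subgroup.closure_le]
          rintro w (rfl | rfl)
          · exact hxH
          · exact hyH
        · have hxc : x ∈ Subgroup.closure ({x, y} : Set G) := Subgroup.subset_closure (by simp)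
          have hyc : y ∈ Subgroup.closure ({x, y} : Set G) := Subgroup.subset_closure (by simp)
          have hsc : s ∈ Subgroup.closure ({x, y} : Set G) := by
            rw [← hxy]; exact Subgroup.mul_mem _ hxc hyc
          have hS'cl : S' ≤ Subgroup.closure ({x, y} : Set G) := by
            intro w hw
            obtain ⟨j, hj⟩ := Subgroup.mem_zpowers_iff.mp (hsgen ⟨w, hw⟩)
            have hw' : w = s ^ j := by
              have := congrArg Subtype.val hj
              simpa using this.symm
            rw [hw']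
            exact Subgroup.zpow_mem _ hsc j
          intro h hh
          by_cases hhC : h ∈ centralizer (Q₀ : Set G)
          · exact hS'cl (hA h hh hhC)
          · have h1 := hS'cl (hB h hh hhC)
            have : h = x * (x * h) := by rw [← mul_assoc, hxx, one_mul]
            rw [this]
            exact Subgroup.mul_mem _ hxc h1
      obtain ⟨n, hn⟩ := IsPGroup.iff_card.mp hS'p
      obtain ⟨e⟩ := Cfsg.Agent.S0206.iso_of_involutions x y hx2 hyo
      rw [hxy, hso, hn] at e
      exact ⟨n, ⟨(MulEquiv.subgroupCongr hcl.symm).trans e⟩⟩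


theorem backward {G : Type*} [Group G] [Finite G] {p : ℕ} [hpF : Fact p.Prime]
    (P : Sylow p G)
    (hP : IsCyclic (P : Subgroup G) ∧
      (normalizer ((P : Subgroup G) : Set G) = centralizer ((P : Subgroup G) : Set G) ∨
       ((centralizer ((P : Subgroup G) : Set G)).relIndex
          (normalizer ((P : Subgroup G) : Set G)) = 2 ∧
        ∀ Q : Subgroup G, Q ≤ P → Nat.card Q = p →
          IsMulCommutative ↥(centralizer (Q : Set G)) ∧
          ∀ x : G, x ∈ normalizer (Q : Set G) → x ∉ centralizer (Q : Set G) →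
            orderOf x = 2 ∧ ∀ c : G, c ∈ centralizer (Q : Set G) → x * c * x⁻¹ = c⁻¹)))
    (H : Subgroup G) (h1 : ∀ S : Sylow p ↥H, (S : Subgroup ↥H).Normal)
    (h2 : ∀ (S : Sylow p ↥H) [(S : Subgroup ↥H).Normal], IsCyclic (↥H ⧸ (S : Subgroup ↥H))) :
    IsCyclic H ∨ ∃ n : ℕ, Nonempty (H ≃* DihedralGroup (p ^ n)) := by
  obtain ⟨hPc, hcases⟩ := hP
  obtain ⟨S⟩ : Nonempty (Sylow p ↥H) := inferInstance
  have hSn : (S : Subgroup ↥H).Normal := h1 S
  have hq : IsCyclic (↥H ⧸ (S : Subgroup ↥H)) := h2 S
  set S' : Subgroup G := (S : Subgroup H).map H.subtype with hS'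
  have hS'p : IsPGroup p S' := S.2.map _
  obtain ⟨Q₁, hQ₁⟩ := hS'p.exists_le_sylow
  have hQ₁c : IsCyclic (Q₁ : Subgroup G) :=
    isCyclic_of_surjective (Sylow.equiv P Q₁).toMonoidHom (Sylow.equiv P Q₁).surjective
  have hS'c : IsCyclic S' := by
    have : IsCyclic (S'.subgroupOf Q₁) := inferInstance
    exact isCyclic_of_surjective (Subgroup.subgroupOfEquivOfLe hQ₁).toMonoidHom
      (Subgroup.subgroupOfEquivOfLe hQ₁).surjective
  have eSS' : (S : Subgroup H) ≃* S' := Subgroup.equivMapOfInjective _ _ H.subtype_injective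
  have hScyc : IsCyclic (S : Subgroup H) :=
    isCyclic_of_surjective eSS'.symm.toMonoidHom eSS'.symm.surjective
  rcases hcases with hNC | ⟨-, hQ⟩
  · left
    exact isCyclic_of_sylow_central S hScyc (central_of_burnside P hNC.le H S) hq
  · exact case_two H S hq S' hS' hS'c (q_condition_all P hQ)

/-- Let p be an odd prime and G a finite group with Sylow p-subgroup P. Say that G has restricted p-by-cyclic subgroups when every subgroup H of G whose Sylow p-subgroup is normal in H with cyclic quotient is itself cyclic or dihedral of order 2pⁿ for some n. Then G has restricted p-by-cyclic subgroups if and only if P is cyclic and one of the following holds: (1) N_G(P) = C_G(P); or (2) N_G(P)/C_G(P) has order 2 and, for the subgroup Q of order p of P, the centralizer C_G(Q) is abelian and every element of N_G(Q) outside C_G(Q) is an involution inverting every element of C_G(Q). -/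
theorem result {G : Type*} [Group G] [Finite G] {p : ℕ}
    [Fact p.Prime] (hp : p ≠ 2) (P : Sylow p G) :
    (∀ H : Subgroup G, (∀ S : Sylow p ↥H, (S : Subgroup ↥H).Normal) →
        (∀ (S : Sylow p ↥H) [(S : Subgroup ↥H).Normal], IsCyclic (↥H ⧸ (S : Subgroup ↥H))) →
        IsCyclic H ∨ (∃ n : ℕ, Nonempty (H ≃* DihedralGroup (p ^ n)))) ↔
    (IsCyclic P ∧
      (Subgroup.normalizer ((P : Subgroup G) : Set G) = Subgroup.centralizer ((P : Subgroup G) : Set G) ∨
       ((Subgroup.centralizer ((P : Subgroup G) : Set G)).relIndex (Subgroup.normalizer ((P : Subgroup G) : Set G)) = 2 ∧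
        ∀ Q : Subgroup G, Q ≤ P → Nat.card Q = p →
          IsMulCommutative ↥(Subgroup.centralizer (Q : Set G)) ∧
          ∀ x : G, x ∈ Subgroup.normalizer (Q : Set G) → x ∉ Subgroup.centralizer (Q : Set G) →
            orderOf x = 2 ∧ ∀ c : G, c ∈ Subgroup.centralizer (Q : Set G) → x * c * x⁻¹ = c⁻¹))) := by
  constructor
  · intro hyp
    exact forward hp P hyp
  · intro hP H h1 h2
    exact backward P hP H h1 h2

end Cfsg.Agent.S4082
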