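import Cfsg.Statements.S4083
import Mathlib
import Cfsg.Agent.Lib.Helper4.DihedralFacts
import Cfsg.Agent.Lib.Helper4.DihedralSub2
import Cfsg.Agent.Lib.Helper4.KleinOf
import Cfsg.Agent.S0206
import Cfsg.Agent.S0228
import Cfsg.Agent.Lib.Helper4.SylowConj

set_option autoImplicit false
open Cfsg

namespace Cfsg.Agent.S4083

open DihedralGroup Cfsg.Agent.Lib.Helper4 Subgroup

/-- a normal cyclic Sylow 2-subgroup is central -/
theorem sylow_cyclic_central {X : Type*} [Group X] [Finite X] (S : Sylow 2 X)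
    [hSn : (S : Subgroup X).Normal] (hcyc : IsCyclic (S : Subgroup X)) :
    (S : Subgroup X) ≤ Subgroup.center X := by
  have hab : ∀ a ∈ (S : Subgroup X), ∀ b ∈ (S : Subgroup X), a * b = b * a := by
    intro a ha b hb
    have := hcyc.isMulCommutative.is_comm.comm (⟨a, ha⟩ : (S : Subgroup X)) ⟨b, hb⟩
    exact congrArg Subtype.val this
  have hSC : (S : Subgroup X) ≤ centralizer ((S : Subgroup X) : Set X) := by
    intro a ha
    rw [mem_centralizer_iff]
    intro b hb
    exact hab b hb a ha
  have key := card_dvd_of_injective _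
    (QuotientGroup.kerLift_injective (S : Subgroup X).normalizerMonoidHom)
  rw [normalizerMonoidHom_ker, ← index, ← relIndex, normalizer_eq_top, relIndex_top_right] at key
  obtain ⟨k, hk⟩ := S.2.exists_card_eq
  have hpow : ∃ j, Nat.card (MulAut (S : Subgroup X)) = 2 ^ j := by
    rw [hcyc.card_mulAut]
    show ∃ j, Nat.totient (Nat.card (S : Subgroup X)) = 2 ^ j
    rw [hk]
    rcases Nat.eq_zero_or_pos k with h0 | h0
    · exact ⟨0, by rw [h0, pow_zero, Nat.totient_one]⟩
    · exact ⟨k - 1, by rw [Nat.totient_prime_pow Nat.prime_two h0]; simp⟩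
  obtain ⟨j, hj⟩ := hpow
  rw [hj] at key
  have h2 : (centralizer ((S : Subgroup X) : Set X)).index ∣ (S : Subgroup X).index :=
    index_dvd_of_le hSC
  have hodd : ¬ 2 ∣ (S : Subgroup X).index := S.not_dvd_index
  have h1 : (centralizer ((S : Subgroup X) : Set X)).index = 1 := by
    obtain ⟨i, -, hi⟩ := (Nat.dvd_prime_pow Nat.prime_two).mp key
    rcases Nat.eq_zero_or_pos i with h0 | h0
    · rw [hi, h0, pow_zero]
    · exfalso
      apply hodd
      refine dvd_trans ?_ h2
      rw [hi]
      exact dvd_pow_self 2 h0.ne'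
  have htop := index_eq_one.mp h1
  intro s hs
  rw [mem_center_iff]
  intro g
  have hg : g ∈ centralizer ((S : Subgroup X) : Set X) := by rw [htop]; trivial
  rw [mem_centralizer_iff] at hg
  exact (hg s hs).symm

/-- a group with a normal cyclic Sylow 2-subgroup and cyclic quotient is cyclic -/
theorem isCyclic_of_sylow_cyclic {X : Type*} [Group X] [Finite X] (S : Sylow 2 X)
    [hSn : (S : Subgroup X).Normal] (hcyc : IsCyclic (S : Subgroup X))
    (hq : IsCyclic (X ⧸ (S : Subgroup X))) : IsCyclic X := by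
  have hcen := sylow_cyclic_central S hcyc
  have hcomm : ∀ a b : X, a * b = b * a :=
    (MonoidHom.isMulCommutative_of_isCyclic_of_ker_le_center (QuotientGroup.mk' (S : Subgroup X))
      (by rw [QuotientGroup.ker_mk']; exact hcen)).is_comm.comm
  let inst : CommGroup X := { (inferInstance : Group X) with mul_comm := hcomm }
  apply IsCyclic.of_exponent_eq_card
  apply Nat.dvd_antisymm Group.exponent_dvd_nat_card
  rw [← (S : Subgroup X).card_mul_index]
  apply Nat.Coprime.mul_dvd_of_dvd_of_dvd
  · obtain ⟨k, hk⟩ := S.2.exists_card_eq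
    rw [hk]
    apply Nat.Coprime.pow_left
    exact (Nat.Prime.coprime_iff_not_dvd Nat.prime_two).mpr S.not_dvd_index
  · obtain ⟨g, hg⟩ := IsCyclic.exists_ofOrder_eq_natCard (α := (S : Subgroup X))
    rw [← hg, ← Subgroup.orderOf_coe]
    exact Monoid.order_dvd_exponent _
  · obtain ⟨g, hg⟩ := IsCyclic.exists_ofOrder_eq_natCard (α := X ⧸ (S : Subgroup X))
    obtain ⟨x, rfl⟩ := QuotientGroup.mk_surjective g
    rw [index, ← hg]
    exact (orderOf_map_dvd (QuotientGroup.mk' (S : Subgroup X)) x).trans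
      (Monoid.order_dvd_exponent _)

theorem rot_sq_cases {m : ℕ} (hm2 : 2 ≤ m) (j : ZMod m) (h : (r j : DihedralGroup m) ^ 2 = 1) :
    (r j : DihedralGroup m) = 1 ∨ r j = DF.zc m := by
  have hdvd := orderOf_dvd_of_pow_eq_one h
  rcases (Nat.dvd_prime Nat.prime_two).mp hdvd with h1 | h2
  · left; exact orderOf_eq_one_iff.mp h1
  · right; exact DF.rot_involution hm2 j h2

/-- an element centralizing a four-subgroup of a dihedral group lies in it -/
theorem mem_of_commute_four {m : ℕ} (hm2 : 2 ≤ m) (K : Subgroup (DihedralGroup m))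
    (hK4 : Nat.card K = 4) (hK2 : ∀ k ∈ K, k ^ 2 = 1) (c : DihedralGroup m)
    (hc : ∀ k ∈ K, c * k = k * c) : c ∈ K := by
  have : NeZero m := ⟨by omega⟩
  have hfin : Finite K := Nat.finite_of_card_ne_zero (by rw [hK4]; norm_num)
  have := Fintype.ofFinite K
  have h3 : 2 < Fintype.card K := by rw [← Nat.card_eq_fintype_card, hK4]; norm_num
  obtain ⟨a, b, d, hab, had, hbd⟩ := Fintype.two_lt_card_iff.mp h3
  -- K is abelian
  have hKcomm : ∀ x ∈ K, ∀ y ∈ K, x * y = y * x := by
    intro x hx y hy
    have h1 := hK2 x hx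
    have h2 := hK2 y hy
    have h3 := hK2 (x * y) (K.mul_mem hx hy)
    have hxi : x⁻¹ = x := by rw [inv_eq_iff_mul_eq_one, ← sq, h1]
    have hyi : y⁻¹ = y := by rw [inv_eq_iff_mul_eq_one, ← sq, h2]
    have hxyi : (x * y)⁻¹ = x * y := by rw [inv_eq_iff_mul_eq_one, ← sq, h3]
    rw [mul_inv_rev, hxi, hyi] at hxyi
    exact hxyi.symm
  -- K contains a reflection
  have hrefl : ∃ i : ZMod m, sr i ∈ K := by
    by_contra hcon
    push Not at hcon
    have hrot : ∀ x : K, (x : DihedralGroup m) = 1 ∨ (x : DihedralGroup m) = DF.zc m := by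
      intro x
      rcases hx : (x : DihedralGroup m) with j | j
      · apply rot_sq_cases hm2 j
        rw [← hx]; exact hK2 x x.2
      · exfalso; apply hcon j; rw [← hx]; exact x.2
    rcases hrot a with ha | ha <;> rcases hrot b with hb | hb <;> rcases hrot d with hd | hd
    all_goals first
      | exact hab (Subtype.ext (ha.trans hb.symm))
      | exact had (Subtype.ext (ha.trans hd.symm))
      | exact hbd (Subtype.ext (hb.trans hd.symm))
  obtain ⟨i, hi⟩ := hrefl
  -- the central involution lies in K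
  have hz : DF.zc m ∈ K := by
    -- an element of K different from 1 and sr i
    obtain ⟨k, hkK, hk1, hki⟩ : ∃ k ∈ K, k ≠ 1 ∧ k ≠ sr i := by
      by_cases h1 : (a : DihedralGroup m) = 1 ∨ (a : DihedralGroup m) = sr i
      · by_cases h2 : (b : DihedralGroup m) = 1 ∨ (b : DihedralGroup m) = sr i
        · by_cases h3 : (d : DihedralGroup m) = 1 ∨ (d : DihedralGroup m) = sr i
          · exfalso
            rcases h1 with ha | ha <;> rcases h2 with hb | hb <;> rcases h3 with hd | hd
            all_goals first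
              | exact hab (Subtype.ext (ha.trans hb.symm))
              | exact had (Subtype.ext (ha.trans hd.symm))
              | exact hbd (Subtype.ext (hb.trans hd.symm))
          · push Not at h3; exact ⟨d, d.2, h3.1, h3.2⟩
        · push Not at h2; exact ⟨b, b.2, h2.1, h2.2⟩
      · push Not at h1; exact ⟨a, a.2, h1.1, h1.2⟩
    rcases k with j | j
    · -- rotation in K
      rcases rot_sq_cases hm2 j (hK2 _ hkK) with h | h
      · exact absurd h hk1
      · rw [← h]; exact hkK
    · -- another reflection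
      have hprod : sr j * sr i ∈ K := K.mul_mem hkK hi
      rw [sr_mul_sr] at hprod
      rcases rot_sq_cases hm2 _ (hK2 _ hprod) with h | h
      · exfalso
        apply hki
        rw [one_def] at h
        have : i - j = 0 := by injection h
        rw [sub_eq_zero] at this
        rw [this]
      · rw [← h]; exact hprod
  -- now c commutes with sr i
  have hci := hc (sr i) hi
  rcases c with j | j
  · rw [r_mul_sr, sr_mul_r] at hci
    have h2 : i - j = i + j := by injection hci
    have hsq : (r j : DihedralGroup m) ^ 2 = 1 := by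
      rw [r_pow, one_def]
      congr 1
      have : j + j = 0 := by linear_combination (h2.symm : i + j = i - j) 
      push_cast
      linear_combination this
    rcases rot_sq_cases hm2 j hsq with h | h
    · rw [h]; exact K.one_mem
    · rw [h]; exact hz
  · rw [sr_mul_sr, sr_mul_sr] at hci
    have h2 : i - j = j - i := by injection hci
    have hsq : (r (i - j) : DihedralGroup m) ^ 2 = 1 := by
      rw [r_pow, one_def]
      congr 1
      push_cast
      linear_combination (h2 : i - j = j - i)
    have hform : (sr j : DihedralGroup m) = r (i - j) * sr i := by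
      rw [r_mul_sr]; congr 1; ring
    rw [hform]
    apply K.mul_mem _ hi
    rcases rot_sq_cases hm2 _ hsq with h | h
    · rw [h]; exact K.one_mem
    · rw [h]; exact hz

theorem mem_of_commute_four' {G : Type*} [Group G] (Q : Subgroup G) {m : ℕ} (hm2 : 2 ≤ m)
    (e : Q ≃* DihedralGroup m) (K : Subgroup G) (hKQ : K ≤ Q) (hK4 : Nat.card K = 4)
    (hK2 : ∀ k ∈ K, k ^ 2 = 1) (c : G) (hcQ : c ∈ Q) (hc : ∀ k ∈ K, c * k = k * c) : c ∈ K := by
  set K' : Subgroup (DihedralGroup m) := (K.subgroupOf Q).map e.toMonoidHom with hK'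
  have hcard : Nat.card K' = 4 := by
    rw [hK', Subgroup.card_map_of_injective e.injective,
      Nat.card_congr (Subgroup.subgroupOfEquivOfLe hKQ).toEquiv, hK4]
  have hmem : e ⟨c, hcQ⟩ ∈ K' := by
    apply mem_of_commute_four hm2 K' hcard
    · rintro _ ⟨x, hx, rfl⟩
      have hx' : (x : G) ∈ K := Subgroup.mem_subgroupOf.mp hx
      have := hK2 _ hx'
      show (e x) ^ 2 = 1
      rw [← map_pow]
      have hx2 : x ^ 2 = 1 := Subtype.ext (by simpa using this)
      rw [hx2, map_one]
    · rintro _ ⟨x, hx, rfl⟩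
      have hx' : (x : G) ∈ K := Subgroup.mem_subgroupOf.mp hx
      have := hc _ hx'
      show e ⟨c, hcQ⟩ * e x = e x * e ⟨c, hcQ⟩
      rw [← map_mul, ← map_mul]
      congr 1
      exact Subtype.ext this
  obtain ⟨x, hx, hxe⟩ := hmem
  have : x = ⟨c, hcQ⟩ := e.injective hxe
  rw [this] at hx
  exact Subgroup.mem_subgroupOf.mp hx

/-- a non-cyclic subgroup embedded in a dihedral 2-group is dihedral and contains a four-group -/
theorem dihedral_of_not_cyclic {X : Type*} [Group X] (R : Subgroup X) [Finite R] {n : ℕ}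
    (φ : R →* DihedralGroup (2 ^ n)) (hφ : Function.Injective φ) (hnc : ¬ IsCyclic R) :
    (∃ k : ℕ, Nonempty (R ≃* DihedralGroup (2 ^ k))) ∧
      ∃ K : Subgroup X, K ≤ R ∧ Nat.card K = 4 ∧ ∀ k ∈ K, k ^ 2 = 1 := by
  set A := rotSub R φ with hA
  have hAR : A ≤ R := rotSub_le R φ
  have hAcyc : IsCyclic A := isCyclic_rotSub R φ hφ
  -- an element outside A
  obtain ⟨x, hxR, hxA⟩ : ∃ x ∈ R, x ∉ A := by
    by_contra hcon
    push Not at hcon
    have : R = A := le_antisymm hcon hAR
    apply hnc
    rw [this]; exact hAcyc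
  obtain ⟨⟨a, haA⟩, hgen⟩ := hAcyc.exists_generator
  have haR : a ∈ R := hAR haA
  set y := x * a with hy
  have hyR : y ∈ R := R.mul_mem hxR haR
  have hyA : y ∉ A := by
    intro h
    apply hxA
    have : x = y * a⁻¹ := by rw [hy]; group
    rw [this]
    exact A.mul_mem h (A.inv_mem haA)
  have hox : orderOf x = 2 := orderOf_of_not_mem_rotSub R φ hφ x hxR hxA
  have hoy : orderOf y = 2 := orderOf_of_not_mem_rotSub R φ hφ y hyR hyA
  have hxx : x * x = 1 := mul_self_of_orderOf_two hox
  have hyy : y * y = 1 := mul_self_of_orderOf_two hoy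
  have hxy : x * y = a := by rw [hy, ← mul_assoc, hxx, one_mul]
  -- generation
  have hcl : Subgroup.closure ({x, y} : Set X) = R := by
    apply le_antisymm
    · rw [Subgroup.closure_le]
      rintro z (rfl | rfl)
      · exact hxR
      · exact hyR
    · have hxc : x ∈ Subgroup.closure ({x, y} : Set X) := Subgroup.subset_closure (by simp)
      have hyc : y ∈ Subgroup.closure ({x, y} : Set X) := Subgroup.subset_closure (by simp)
      have hac : a ∈ Subgroup.closure ({x, y} : Set X) := by
        rw [← hxy]; exact Subgroup.mul_mem _ hxc hyc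
      have hAc : A ≤ Subgroup.closure ({x, y} : Set X) := by
        intro z hz
        have := hgen ⟨z, hz⟩
        obtain ⟨k, hk⟩ := Subgroup.mem_zpowers_iff.mp this
        have hz' : z = a ^ k := by
          have := congrArg Subtype.val hk
          simpa using this.symm
        rw [hz']
        exact Subgroup.zpow_mem _ hac k
      intro z hzR
      by_cases hzA : z ∈ A
      · exact hAc hzA
      · have h1 := inv_mul_mem_rotSub R φ x z hxR hzR hxA hzA
        have : z = x * (x⁻¹ * z) := by group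
        rw [this]
        exact Subgroup.mul_mem _ hxc (hAc h1)
  -- order of a is a power of two
  have hcardR : Nat.card R ∣ 2 ^ (n + 1) := by
    have h1 := Subgroup.card_dvd_of_injective φ hφ
    rw [DihedralGroup.nat_card] at h1
    rw [pow_succ, mul_comm]; exact h1
  have hoa : orderOf a ∣ Nat.card R := by
    have := orderOf_dvd_natCard (⟨a, haR⟩ : R)
    rwa [Subgroup.orderOf_mk] at this
  obtain ⟨k, -, hk⟩ := (Nat.dvd_prime_pow Nat.prime_two).mp (hoa.trans hcardR)
  obtain ⟨e⟩ := Cfsg.Agent.S0206.iso_of_involutions x y hox hoy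
  rw [hxy, hk] at e
  have eR : R ≃* DihedralGroup (2 ^ k) := (MulEquiv.subgroupCongr hcl.symm).trans e
  refine ⟨⟨k, ⟨eR⟩⟩, ?_⟩
  -- the four-group
  have hk0 : k ≠ 0 := by
    intro h0
    apply hnc
    have hc : Nat.card R = 2 := by
      rw [Nat.card_congr eR.toEquiv, DihedralGroup.nat_card, h0, pow_zero, mul_one]
    have : Fact (Nat.Prime 2) := ⟨Nat.prime_two⟩
    exact isCyclic_of_prime_card hc
  -- x inverts a
  have hinv : x * a * x⁻¹ = a⁻¹ := by
    have h1 : x⁻¹ = x := inv_eq_self_of_mul_self hxx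
    have h2 : x * a * (x * a) = 1 := hyy
    rw [h1]
    calc x * a * x = (x * a * (x * a)) * a⁻¹ := by group
      _ = a⁻¹ := by rw [h2, one_mul]
  set z := a ^ (2 ^ (k - 1)) with hz
  have hoz : orderOf z = 2 := by
    rw [hz, orderOf_pow' a (by positivity), hk]
    have : 2 ^ k = 2 ^ (k - 1) * 2 := by rw [← pow_succ]; congr 1; omega
    rw [this, Nat.gcd_mul_right_left]
    exact Nat.mul_div_cancel_left 2 (by positivity)
  have hzz : z * z = 1 := mul_self_of_orderOf_two hoz
  have hzA : z ∈ A := A.pow_mem haA _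
  have hxz : x * z = z * x := by
    have h1 : x * z * x⁻¹ = z⁻¹ := by
      rw [hz, ← conj_pow, hinv, inv_pow]
    have h2 : z⁻¹ = z := inv_eq_self_of_mul_self hzz
    rw [h2] at h1
    calc x * z = (x * z * x⁻¹) * x := by group
      _ = z * x := by rw [h1]
  have hx1 : x ≠ 1 := ne_one_of_orderOf_two hox
  have hz1 : z ≠ 1 := ne_one_of_orderOf_two hoz
  have hne : x ≠ z := fun h => hxA (h ▸ hzA)
  refine ⟨kleinOf hxx hzz hxz, ?_, card_kleinOf hxx hzz hxz hx1 hz1 hne, ?_⟩
  · intro g hg
    rcases (mem_kleinOf hxx hzz hxz g).mp hg with rfl | rfl | rfl | rfl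
    · exact R.one_mem
    · exact hxR
    · exact hAR hzA
    · exact R.mul_mem hxR (hAR hzA)
  · intro g hg
    rw [sq]
    exact kleinOf_sq hxx hzz hxz g hg

theorem comm_of_sq {G : Type*} [Group G] {x y : G} (h1 : x ^ 2 = 1) (h2 : y ^ 2 = 1)
    (h3 : (x * y) ^ 2 = 1) : x * y = y * x := by
  have hxi : x⁻¹ = x := by rw [inv_eq_iff_mul_eq_one, ← sq, h1]
  have hyi : y⁻¹ = y := by rw [inv_eq_iff_mul_eq_one, ← sq, h2]
  have hxyi : (x * y)⁻¹ = x * y := by rw [inv_eq_iff_mul_eq_one, ← sq, h3]
  rw [mul_inv_rev, hxi, hyi] at hxyi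
  exact hxyi.symm

theorem mem_sup_zpowers {G : Type*} [Group G] (K : Subgroup G) (u : G)
    (hu : ∀ k ∈ K, u * k = k * u) (h : G) (hh : h ∈ K ⊔ Subgroup.zpowers u) :
    ∃ k ∈ K, ∃ i : ℤ, h = k * u ^ i := by
  rw [Subgroup.sup_eq_closure] at hh
  induction hh using Subgroup.closure_induction with
  | mem x hx =>
    rcases hx with hx | hx
    · exact ⟨x, hx, 0, by simp⟩
    · obtain ⟨i, rfl⟩ := Subgroup.mem_zpowers_iff.mp hx
      exact ⟨1, K.one_mem, i, by simp⟩
  | one => exact ⟨1, K.one_mem, 0, by simp⟩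
  | mul x y _ _ hx hy =>
    obtain ⟨k, hk, i, rfl⟩ := hx
    obtain ⟨k', hk', j, rfl⟩ := hy
    refine ⟨k * k', K.mul_mem hk hk', i + j, ?_⟩
    have hc : Commute (u ^ i) k' := (show Commute u k' from hu k' hk').zpow_left i
    rw [zpow_add]
    calc k * u ^ i * (k' * u ^ j) = k * (u ^ i * k') * u ^ j := by group
      _ = k * (k' * u ^ i) * u ^ j := by rw [hc.eq]
      _ = k * k' * (u ^ i * u ^ j) := by group
  | inv x _ hx =>
    obtain ⟨k, hk, i, rfl⟩ := hx
    refine ⟨k⁻¹, K.inv_mem hk, -i, ?_⟩
    have hc : Commute (u ^ (-i)) k⁻¹ :=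
      ((show Commute u k from hu k hk).inv_right).zpow_left (-i)
    rw [mul_inv_rev, ← zpow_neg, hc.eq]

theorem not_comm_A4 : ∃ a b : alternatingGroup (Fin 4), a * b ≠ b * a := by
  decide

/-- no element of odd prime order centralizes a four-group -/
theorem no_odd_centralizer {G : Type*} [Group G] [Finite G]
    (hyp : ∀ H : Subgroup G, (∀ S : Sylow 2 ↥H, (S : Subgroup ↥H).Normal) →
        (∀ (S : Sylow 2 ↥H) [(S : Subgroup ↥H).Normal], IsCyclic (↥H ⧸ (S : Subgroup ↥H))) →
        IsCyclic H ∨ (∃ n : ℕ, Nonempty (H ≃* DihedralGroup (2 ^ n))) ∨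
          Nonempty (H ≃* alternatingGroup (Fin 4)))
    (K : Subgroup G) (hK4 : Nat.card K = 4) (hK2 : ∀ k ∈ K, k ^ 2 = 1) (u : G)
    (hu : ∀ k ∈ K, u * k = k * u) (p : ℕ) (hp : p.Prime) (hp2 : p ≠ 2) (hou : orderOf u = p) :
    False := by
  have : Fact (Nat.Prime 2) := ⟨Nat.prime_two⟩
  set H := K ⊔ Subgroup.zpowers u with hH
  have hKH : K ≤ H := le_sup_left
  have huH : u ∈ H := (le_sup_right : Subgroup.zpowers u ≤ H) (Subgroup.mem_zpowers u)
  have hKcomm : ∀ x ∈ K, ∀ y ∈ K, x * y = y * x := fun x hx y hy =>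
    comm_of_sq (hK2 x hx) (hK2 y hy) (hK2 _ (K.mul_mem hx hy))
  have hform := mem_sup_zpowers K u hu
  -- H is commutative
  have hcomm : ∀ a b : H, a * b = b * a := by
    intro a b
    obtain ⟨k, hk, i, ha⟩ := hform a a.2
    obtain ⟨k', hk', j, hb⟩ := hform b b.2
    apply Subtype.ext
    rw [Subgroup.coe_mul, Subgroup.coe_mul, ha, hb]
    have hc : Commute (u ^ i) k' := (show Commute u k' from hu k' hk').zpow_left i
    have hc' : Commute (u ^ j) k := (show Commute u k from hu k hk).zpow_left j
    have hcu : Commute (u ^ i) (u ^ j) := (Commute.refl u).zpow_zpow i j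
    calc k * u ^ i * (k' * u ^ j) = k * (u ^ i * k') * u ^ j := by group
      _ = k * (k' * u ^ i) * u ^ j := by rw [hc.eq]
      _ = (k * k') * (u ^ i * u ^ j) := by group
      _ = (k' * k) * (u ^ j * u ^ i) := by rw [hKcomm k hk k' hk', hcu.eq]
      _ = k' * (k * u ^ j) * u ^ i := by group
      _ = k' * (u ^ j * k) * u ^ i := by rw [hc'.eq]
      _ = k' * u ^ j * (k * u ^ i) := by group
  have hnormal : ∀ T : Subgroup H, T.Normal := by
    intro T
    refine ⟨fun n hn g => ?_⟩
    rw [hcomm g n, mul_assoc, mul_inv_cancel, mul_one]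
    exact hn
  have hcyc : ∀ (S : Sylow 2 ↥H) [(S : Subgroup ↥H).Normal], IsCyclic (↥H ⧸ (S : Subgroup ↥H)) := by
    intro S hS
    -- K lies in S
    have hKS : ∀ k : H, (k : G) ∈ K → k ∈ (S : Subgroup H) := by
      intro k hk
      have hz : IsPGroup 2 (Subgroup.zpowers k) := by
        have hk2 : k ^ 2 = 1 := Subtype.ext (by simpa using hK2 _ hk)
        rintro ⟨y, hy⟩
        obtain ⟨n, rfl⟩ := Subgroup.mem_zpowers_iff.mp hy
        refine ⟨1, Subtype.ext ?_⟩
        show (k ^ n) ^ 2 ^ 1 = 1
        rw [pow_one, ← zpow_natCast, ← zpow_mul, mul_comm, zpow_mul, zpow_natCast, hk2, one_zpow]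
      obtain ⟨S', hS'⟩ := hz.exists_le_sylow
      have huniq := Sylow.unique_of_normal S hS
      have : S' = S := Subsingleton.elim _ _
      rw [this] at hS'
      exact hS' (Subgroup.mem_zpowers k)
    refine ⟨⟨QuotientGroup.mk' _ ⟨u, huH⟩, ?_⟩⟩
    intro x
    obtain ⟨h, rfl⟩ := QuotientGroup.mk'_surjective _ x
    obtain ⟨k, hk, i, hh⟩ := hform h h.2
    refine ⟨i, ?_⟩
    show (QuotientGroup.mk' (S : Subgroup H) ⟨u, huH⟩) ^ i = QuotientGroup.mk' (S : Subgroup H) h
    have : h = ⟨k, hKH hk⟩ * (⟨u, huH⟩ : H) ^ i := Subtype.ext (by simpa using hh)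
    rw [this, map_mul, map_zpow]
    have : QuotientGroup.mk' (S : Subgroup H) ⟨k, hKH hk⟩ = 1 :=
      (QuotientGroup.eq_one_iff _).mpr (hKS _ hk)
    rw [this, one_mul]
  rcases hyp H (fun S => hnormal S) hcyc with h | ⟨n, ⟨e⟩⟩ | ⟨⟨e⟩⟩
  · -- cyclic: K is cyclic of order 4 and exponent 2
    have hKc : IsCyclic (K.subgroupOf H) := inferInstance
    have hKc' : IsCyclic K :=
      isCyclic_of_surjective (Subgroup.subgroupOfEquivOfLe hKH).toMonoidHom
        (Subgroup.subgroupOfEquivOfLe hKH).surjective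
    obtain ⟨g, hg⟩ := IsCyclic.exists_ofOrder_eq_natCard (α := K)
    rw [hK4] at hg
    have hg2 : g ^ 2 = 1 := Subtype.ext (by simpa using hK2 _ g.2)
    have := orderOf_dvd_of_pow_eq_one hg2
    rw [hg] at this
    omega
  · -- dihedral 2-group: order is a power of 2
    have hcard : Nat.card H = 2 ^ (n + 1) := by
      rw [Nat.card_congr e.toEquiv, DihedralGroup.nat_card, pow_succ, mul_comm]
    have hdvd : p ∣ Nat.card H := by
      rw [← hou, ← Subgroup.orderOf_mk u huH]
      exact orderOf_dvd_natCard _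
    rw [hcard] at hdvd
    have := (Nat.prime_dvd_prime_iff_eq hp Nat.prime_two).mp (hp.dvd_of_dvd_pow hdvd)
    exact hp2 this
  · obtain ⟨a, b, hab⟩ := not_comm_A4
    apply hab
    have := hcomm (e.symm a) (e.symm b)
    rw [← map_mul, ← map_mul] at this
    exact e.symm.injective this


/-- the four-group condition for subgroups of `P` extends to all four-subgroups -/
theorem four_condition_all {G : Type*} [Group G] [Finite G] (P : Sylow 2 G)
    (h4 : ∀ K : Subgroup G, K ≤ P → Nat.card K = 4 → (∀ k ∈ K, k ^ 2 = 1) →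
      Subgroup.centralizer (K : Set G) = K)
    (K : Subgroup G) (hK4 : Nat.card K = 4) (hK2 : ∀ k ∈ K, k ^ 2 = 1) :
    Subgroup.centralizer (K : Set G) = K := by
  have : Fact (Nat.Prime 2) := ⟨Nat.prime_two⟩
  have hKp : IsPGroup 2 K := IsPGroup.of_card (n := 2) (by rw [hK4]; norm_num)
  obtain ⟨h, hh⟩ := exists_conj_mem_sylow P K hKp
  set f : G →* G := (MulAut.conj h⁻¹).toMonoidHom with hf
  have hfapp : ∀ x, f x = h⁻¹ * x * h := by
    intro x; simp [hf]
  have hfinj : Function.Injective f := (MulAut.conj h⁻¹).injective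
  set K₁ := K.map f with hK₁
  have hK₁P : K₁ ≤ P := by
    rintro _ ⟨k, hk, rfl⟩
    rw [hfapp]; exact hh k hk
  have hK₁4 : Nat.card K₁ = 4 := by
    rw [hK₁, Subgroup.card_map_of_injective hfinj, hK4]
  have hK₁2 : ∀ k ∈ K₁, k ^ 2 = 1 := by
    rintro _ ⟨k, hk, rfl⟩
    rw [← map_pow, hK2 k hk, map_one]
  have hcent := h4 K₁ hK₁P hK₁4 hK₁2
  have hKcomm : ∀ x ∈ K, ∀ y ∈ K, x * y = y * x := fun x hx y hy =>
    comm_of_sq (hK2 x hx) (hK2 y hy) (hK2 _ (K.mul_mem hx hy))
  apply le_antisymm
  · intro c hc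
    have hfc : f c ∈ Subgroup.centralizer (K₁ : Set G) := by
      rw [Subgroup.mem_centralizer_iff]
      rintro _ ⟨k, hk, rfl⟩
      rw [← map_mul, ← map_mul, Subgroup.mem_centralizer_iff.mp hc k hk]
    rw [hcent] at hfc
    obtain ⟨k, hk, hkc⟩ := hfc
    rw [← hfinj hkc]; exact hk
  · intro k hk
    rw [Subgroup.mem_centralizer_iff]
    intro k' hk'
    exact hKcomm k' hk' k hk

/-- 2-elements lie in a normal Sylow 2-subgroup -/
theorem mem_normal_sylow {X : Type*} [Group X] [Finite X] (S : Sylow 2 X)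
    [hS : (S : Subgroup X).Normal] (z : X) (hz : z ^ 2 = 1) : z ∈ (S : Subgroup X) := by
  have : Fact (Nat.Prime 2) := ⟨Nat.prime_two⟩
  have hzp : IsPGroup 2 (Subgroup.zpowers z) := by
    rintro ⟨y, hy⟩
    obtain ⟨n, rfl⟩ := Subgroup.mem_zpowers_iff.mp hy
    refine ⟨1, Subtype.ext ?_⟩
    show (z ^ n) ^ 2 ^ 1 = 1
    rw [pow_one, ← zpow_natCast, ← zpow_mul, mul_comm, zpow_mul, zpow_natCast, hz, one_zpow]
  obtain ⟨S', hS'⟩ := hzp.exists_le_sylow
  have huniq := Sylow.unique_of_normal S hS
  have : S' = S := Subsingleton.elim _ _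
  rw [this] at hS'
  exact hS' (Subgroup.mem_zpowers z)


theorem klein_case {G : Type*} [Group G] [Finite G] (H : Subgroup G) (S : Sylow 2 ↥H)
    [hSn : (S : Subgroup ↥H).Normal] {n : ℕ} (S' : Subgroup G)
    (hS' : S' = (S : Subgroup H).map H.subtype)
    (φ : S' →* DihedralGroup (2 ^ n)) (hφ : Function.Injective φ)
    (hKl : IsKleinFour S')
    (hcent : Subgroup.centralizer (S' : Set G) = S') :
    (∃ n : ℕ, Nonempty (H ≃* DihedralGroup (2 ^ n))) ∨
      Nonempty (H ≃* alternatingGroup (Fin 4)) := by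
  have : Fact (Nat.Prime 2) := ⟨Nat.prime_two⟩
  have hS'4 : Nat.card S' = 4 := hKl.card_four
  have hS4 : Nat.card (S : Subgroup H) = 4 := by
    rw [← hS'4, hS', Subgroup.card_map_of_injective H.subtype_injective]
  have hS'2 : ∀ k ∈ S', k ^ 2 = 1 := by
    intro k hk
    have h := Monoid.pow_exponent_eq_one (⟨k, hk⟩ : S')
    rw [hKl.exponent_two] at h
    exact congrArg Subtype.val h
  have hS'comm : ∀ x ∈ S', ∀ y ∈ S', x * y = y * x := fun x hx y hy =>
    comm_of_sq (hS'2 x hx) (hS'2 y hy) (hS'2 _ (S'.mul_mem hx hy))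
  have hmemS' : ∀ g : H, (g : G) ∈ S' ↔ g ∈ (S : Subgroup H) := by
    intro g
    rw [hS']
    constructor
    · rintro ⟨s, hs, hsg⟩
      have : s = g := Subtype.ext hsg
      rw [← this]; exact hs
    · intro hg
      exact ⟨g, hg, rfl⟩
  -- the conjugation action
  set f : H →* MulAut (S : Subgroup H) := MulAut.conjNormal with hf
  have hker : f.ker = (S : Subgroup H) := by
    ext g
    rw [MonoidHom.mem_ker]
    constructor
    · intro hg
      rw [← hmemS', ← hcent, Subgroup.mem_centralizer_iff]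
      intro x hx
      rw [hS'] at hx
      obtain ⟨s, hs, rfl⟩ := hx
      have h1 : f g ⟨s, hs⟩ = ⟨s, hs⟩ := by rw [hg]; rfl
      have h2 : ((f g ⟨s, hs⟩ : (S : Subgroup H)) : H) = g * s * g⁻¹ := by
        rw [hf, MulAut.conjNormal_apply]
      rw [h1] at h2
      have h3 : (s : G) = (g : G) * (s : G) * (g : G)⁻¹ := by
        have := congrArg (Subtype.val : H → G) h2
        simpa using this
      show (s : G) * (g : G) = (g : G) * (s : G)
      calc (s : G) * (g : G) = ((g : G) * (s : G) * (g : G)⁻¹) * (g : G) := by rw [← h3]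
        _ = (g : G) * (s : G) := by group
    · intro hg
      ext ⟨s, hs⟩
      rw [hf, MulAut.conjNormal_apply]
      have h1 := hS'comm (g : G) ((hmemS' g).mpr hg) (s : G) ((hmemS' s).mpr hs)
      show (g : G) * (s : G) * (g : G)⁻¹ = (s : G)
      rw [h1]; group
  have hidx1 : (S : Subgroup H).index ∣ Nat.card (MulAut (S : Subgroup H)) := by
    have := Subgroup.card_dvd_of_injective (QuotientGroup.kerLift f)
      (QuotientGroup.kerLift_injective f)
    rw [← Subgroup.index_eq_card, hker] at this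
    exact this
  have hidx2 : Nat.card (MulAut (S : Subgroup H)) ∣ 24 := by
    have hinj : Function.Injective (MulAut.toPerm (S : Subgroup H)) := by
      intro a b hab
      ext x
      have h2 : a x = b x := congrArg (fun σ : Equiv.Perm (S : Subgroup H) => σ x) hab
      rw [h2]
    have := Subgroup.card_dvd_of_injective (MulAut.toPerm (S : Subgroup H)) hinj
    have hperm : Nat.card (Equiv.Perm (S : Subgroup H)) = 24 := by
      have := Fintype.ofFinite (S : Subgroup H)
      classical
      rw [Nat.card_eq_fintype_card, Fintype.card_perm, ← Nat.card_eq_fintype_card, hS4]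
      rfl
    rwa [hperm] at this
  have hodd : ¬ 2 ∣ (S : Subgroup H).index := S.not_dvd_index
  have hidx3 : (S : Subgroup H).index ∣ 3 := by
    have h24 : (S : Subgroup H).index ∣ 8 * 3 := hidx1.trans hidx2
    have hcop : ((S : Subgroup H).index).Coprime 8 := by
      have : (8 : ℕ) = 2 ^ 3 := by norm_num
      rw [this]
      apply Nat.Coprime.pow_right
      rw [Nat.coprime_comm]
      exact (Nat.Prime.coprime_iff_not_dvd Nat.prime_two).mpr hodd
    exact hcop.dvd_of_dvd_mul_left h24
  have hcardH : Nat.card H = 4 * (S : Subgroup H).index := by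
    rw [← hS4, Subgroup.card_mul_index]
  rcases (Nat.dvd_prime Nat.prime_three).mp hidx3 with h1 | h3
  · left
    refine ⟨1, ?_⟩
    have htop : (S : Subgroup H) = ⊤ := Subgroup.index_eq_one.mp h1
    have e1 : H ≃* (S : Subgroup H) :=
      (Subgroup.topEquiv.symm).trans (MulEquiv.subgroupCongr htop.symm)
    have e2 : (S : Subgroup H) ≃* S' :=
      (Subgroup.equivMapOfInjective _ _ H.subtype_injective).trans (MulEquiv.subgroupCongr hS'.symm)
    have hHK : IsKleinFour H :=
      { card_four := by rw [Nat.card_congr (e1.trans e2).toEquiv]; exact hKl.card_four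
        exponent_two := by rw [Monoid.exponent_eq_of_mulEquiv (e1.trans e2)]; exact hKl.exponent_two }
    exact IsKleinFour.nonempty_mulEquiv (G₁ := H) (G₂ := DihedralGroup 2)
  · right
    have hc12 : Nat.card H = 12 := by rw [hcardH, h3]
    apply Cfsg.Agent.S0228.result hc12
    intro z hz hzc
    have hz2 : z ^ 2 = 1 := by rw [← hz]; exact pow_orderOf_eq_one z
    have hzS : z ∈ (S : Subgroup H) := mem_normal_sylow S z hz2
    have : Fact (Nat.Prime 3) := ⟨Nat.prime_three⟩
    obtain ⟨t, ht⟩ := exists_prime_orderOf_dvd_card' (G := H) 3 (by rw [hc12]; norm_num)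
    have ht' : orderOf (t : G) = 3 := by rw [Subgroup.orderOf_coe]; exact ht
    have hnorm : (t : G) ∈ Subgroup.normalizer (S' : Set G) := by
      rw [Subgroup.mem_normalizer_iff]
      intro x
      rw [hS']
      constructor
      · rintro ⟨s, hs, rfl⟩
        exact ⟨t * s * t⁻¹, hSn.conj_mem s hs t, by simp⟩
      · intro hx
        obtain ⟨s, hs, hsx⟩ := hx
        refine ⟨t⁻¹ * s * t, ?_, ?_⟩
        · have := hSn.conj_mem s hs t⁻¹
          rw [inv_inv] at this
          exact this
        · simp only [Subgroup.subtype_apply, Subgroup.coe_mul, Subgroup.coe_inv]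
          have : (s : G) = (t : G) * x * (t : G)⁻¹ := hsx
          rw [this]; group
    have hodd3 : Odd (orderOf (t : G)) := by rw [ht']; decide
    have hfin : Finite S' := inferInstance
    have hS'p : IsPGroup 2 S' := by rw [hS']; exact S.2.map _
    have hz1 : (z : G) ≠ 1 := by
      intro h
      have : z = 1 := Subtype.ext h
      rw [this, orderOf_one] at hz
      omega
    have hcomm : (t : G) * (z : G) = (z : G) * (t : G) := by
      have := Subgroup.mem_center_iff.mp hzc t
      have := congrArg (Subtype.val : H → G) this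
      simpa using this
    have hcen := centralizes_of_dihedral_embedding S' hS'p φ hφ (t : G) hnorm hodd3 (z : G)
      ((hmemS' z).mpr hzS) hz1 hcomm
    rw [hcent] at hcen
    have h4 : orderOf (t : G) ∣ 4 := by
      have := orderOf_dvd_natCard (⟨(t : G), hcen⟩ : S')
      rwa [Subgroup.orderOf_mk, hS'4] at this
    rw [ht'] at h4
    omega


theorem backward {G : Type*} [Group G] [Finite G] (P : Sylow 2 G)
    (hP : IsCyclic (P : Subgroup G) ∨
      ((∃ n : ℕ, 1 ≤ n ∧ Nonempty ((P : Subgroup G) ≃* DihedralGroup (2 ^ n))) ∧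
        ∀ K : Subgroup G, K ≤ P → Nat.card K = 4 → (∀ k ∈ K, k ^ 2 = 1) →
          Subgroup.centralizer (K : Set G) = K))
    (H : Subgroup G) (h1 : ∀ S : Sylow 2 ↥H, (S : Subgroup ↥H).Normal)
    (h2 : ∀ (S : Sylow 2 ↥H) [(S : Subgroup ↥H).Normal], IsCyclic (↥H ⧸ (S : Subgroup ↥H))) :
    IsCyclic H ∨ (∃ n : ℕ, Nonempty (H ≃* DihedralGroup (2 ^ n))) ∨
      Nonempty (H ≃* alternatingGroup (Fin 4)) := by
  have : Fact (Nat.Prime 2) := ⟨Nat.prime_two⟩
  obtain ⟨S⟩ : Nonempty (Sylow 2 ↥H) := inferInstance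
  have hSn : (S : Subgroup ↥H).Normal := h1 S
  have hq : IsCyclic (↥H ⧸ (S : Subgroup ↥H)) := h2 S
  set S' : Subgroup G := (S : Subgroup H).map H.subtype with hS'
  have hS'p : IsPGroup 2 S' := S.2.map _
  obtain ⟨Q, hQ⟩ := hS'p.exists_le_sylow
  have eSS' : (S : Subgroup H) ≃* S' := Subgroup.equivMapOfInjective _ _ H.subtype_injective
  have hcyc_case : IsCyclic S' → IsCyclic H := by
    intro hc
    have : IsCyclic (S : Subgroup H) :=
      isCyclic_of_surjective eSS'.symm.toMonoidHom eSS'.symm.surjective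
    exact isCyclic_of_sylow_cyclic S this hq
  rcases hP with hPc | ⟨⟨n, hn, ⟨e⟩⟩, h4⟩
  · left
    apply hcyc_case
    have hQc : IsCyclic (Q : Subgroup G) :=
      isCyclic_of_surjective (Sylow.equiv P Q).toMonoidHom (Sylow.equiv P Q).surjective
    have : IsCyclic (S'.subgroupOf Q) := inferInstance
    exact isCyclic_of_surjective (Subgroup.subgroupOfEquivOfLe hQ).toMonoidHom
      (Subgroup.subgroupOfEquivOfLe hQ).surjective
  · have h4' := four_condition_all P h4
    have eQ : (Q : Subgroup G) ≃* DihedralGroup (2 ^ n) := (Sylow.equiv Q P).trans e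
    set φ : S' →* DihedralGroup (2 ^ n) := eQ.toMonoidHom.comp (Subgroup.inclusion hQ) with hφdef
    have hφ : Function.Injective φ := by
      rw [hφdef]
      exact eQ.injective.comp (Subgroup.inclusion_injective hQ)
    by_cases hKl : IsKleinFour S'
    · right
      have hS'2 : ∀ k ∈ S', k ^ 2 = 1 := by
        intro k hk
        have h := Monoid.pow_exponent_eq_one (⟨k, hk⟩ : S')
        rw [hKl.exponent_two] at h
        exact congrArg Subtype.val h
      exact klein_case H S S' hS' φ hφ hKl (h4' S' hKl.card_four hS'2)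
    · -- odd order elements of H centralize S'
      have hnormH : ∀ g : H, (g : G) ∈ Subgroup.normalizer (S' : Set G) := by
        intro t
        rw [Subgroup.mem_normalizer_iff]
        intro x
        constructor
        · rintro ⟨s, hs, rfl⟩
          exact ⟨t * s * t⁻¹, hSn.conj_mem s hs t, by simp⟩
        · intro hx
          obtain ⟨s, hs, hsx⟩ := hx
          refine ⟨t⁻¹ * s * t, ?_, ?_⟩
          · have := hSn.conj_mem s hs t⁻¹
            rw [inv_inv] at this
            exact this
          · simp only [Subgroup.subtype_apply, Subgroup.coe_mul, Subgroup.coe_inv]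
            have : (s : G) = (t : G) * x * (t : G)⁻¹ := hsx
            rw [this]; group
      have hcent : ∀ g : H, Odd (orderOf (g : G)) → (g : G) ∈ Subgroup.centralizer (S' : Set G) :=
        fun g hg => (centralizes_or_kleinFour S' hS'p φ hφ (g : G) (hnormH g) hg).resolve_right hKl
      by_cases hcyc : IsCyclic S'
      · exact Or.inl (hcyc_case hcyc)
      · right; left
        obtain ⟨⟨k, ⟨eR⟩⟩, K, hKS', hK4, hK2⟩ := dihedral_of_not_cyclic S' φ hφ hcyc
        have hKcent := h4' K hK4 hK2
        -- H is a 2-group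
        have hprime : ∀ {d : ℕ}, d.Prime → d ∣ Nat.card H → d = 2 := by
          intro d hd hdvd
          by_contra hd2
          have : Fact d.Prime := ⟨hd⟩
          obtain ⟨u, hu⟩ := exists_prime_orderOf_dvd_card' d hdvd
          have hu' : orderOf (u : G) = d := by rw [Subgroup.orderOf_coe]; exact hu
          have hodd : Odd (orderOf (u : G)) := by
            rw [hu']; exact hd.odd_of_ne_two hd2
          have h5 := hcent u hodd
          have h6 : (u : G) ∈ K := by
            rw [← hKcent]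
            exact Subgroup.centralizer_le hKS' h5
          have h7 : orderOf (u : G) ∣ 4 := by
            have := orderOf_dvd_natCard (⟨(u : G), h6⟩ : K)
            rwa [Subgroup.orderOf_mk, hK4] at this
          rw [hu'] at h7
          have h8 : d ∣ 2 ^ 2 := by norm_num; exact h7
          exact hd2 ((Nat.prime_dvd_prime_iff_eq hd Nat.prime_two).mp (hd.dvd_of_dvd_pow h8))
        have hHcard := Nat.eq_prime_pow_of_unique_prime_dvd (Nat.card_pos (α := H)).ne' hprime
        have htop : (S : Subgroup H) = ⊤ := by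
          apply Subgroup.eq_top_of_card_eq
          obtain ⟨j, hj⟩ : ∃ j, Nat.card H = 2 ^ j := ⟨_, hHcard⟩
          rw [S.card_eq_multiplicity, hj, Nat.Prime.factorization_pow Nat.prime_two]
          simp
        have e1 : H ≃* (S : Subgroup H) :=
          (Subgroup.topEquiv.symm).trans (MulEquiv.subgroupCongr htop.symm)
        exact ⟨k, ⟨(e1.trans eSS').trans eR⟩⟩

theorem forward {G : Type*} [Group G] [Finite G] (P : Sylow 2 G)
    (hyp : ∀ H : Subgroup G, (∀ S : Sylow 2 ↥H, (S : Subgroup ↥H).Normal) →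
        (∀ (S : Sylow 2 ↥H) [(S : Subgroup ↥H).Normal], IsCyclic (↥H ⧸ (S : Subgroup ↥H))) →
        IsCyclic H ∨ (∃ n : ℕ, Nonempty (H ≃* DihedralGroup (2 ^ n))) ∨
          Nonempty (H ≃* alternatingGroup (Fin 4))) :
    (IsCyclic (P : Subgroup G) ∨
      ((∃ n : ℕ, 1 ≤ n ∧ Nonempty ((P : Subgroup G) ≃* DihedralGroup (2 ^ n))) ∧
        ∀ K : Subgroup G, K ≤ P → Nat.card K = 4 → (∀ k ∈ K, k ^ 2 = 1) →
          Subgroup.centralizer (K : Set G) = K)) := by
  have : Fact (Nat.Prime 2) := ⟨Nat.prime_two⟩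
  obtain ⟨kP, hkP⟩ := P.2.exists_card_eq
  -- Sylow subgroups of P are everything
  have htop : ∀ S : Sylow 2 ↥(P : Subgroup G), (S : Subgroup ↥(P : Subgroup G)) = ⊤ := by
    intro S
    apply Subgroup.eq_top_of_card_eq
    rw [S.card_eq_multiplicity, hkP, Nat.Prime.factorization_pow Nat.prime_two]
    simp
  have h1 : ∀ S : Sylow 2 ↥(P : Subgroup G), (S : Subgroup ↥(P : Subgroup G)).Normal := by
    intro S; rw [htop S]; infer_instance
  have h2 : ∀ (S : Sylow 2 ↥(P : Subgroup G)) [(S : Subgroup ↥(P : Subgroup G)).Normal],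
      IsCyclic (↥(P : Subgroup G) ⧸ (S : Subgroup ↥(P : Subgroup G))) := by
    intro S hS
    have : Subsingleton (↥(P : Subgroup G) ⧸ (S : Subgroup ↥(P : Subgroup G))) := by
      rw [← Finite.card_le_one_iff_subsingleton, ← Subgroup.index_eq_card, htop S, Subgroup.index_top]
    exact isCyclic_of_subsingleton
  rcases hyp (P : Subgroup G) h1 h2 with h | ⟨n, ⟨e⟩⟩ | ⟨⟨e⟩⟩
  · exact Or.inl h
  · rcases Nat.eq_zero_or_pos n with h0 | h0
    · left
      have hc : Nat.card (P : Subgroup G) = 2 := by
        rw [Nat.card_congr e.toEquiv, DihedralGroup.nat_card, h0, pow_zero, mul_one]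
      exact isCyclic_of_prime_card hc
    · right
      refine ⟨⟨n, h0, ⟨e⟩⟩, ?_⟩
      intro K hKP hK4 hK2
      have hKcomm : ∀ x ∈ K, ∀ y ∈ K, x * y = y * x := fun x hx y hy =>
        comm_of_sq (hK2 x hx) (hK2 y hy) (hK2 _ (K.mul_mem hx hy))
      apply le_antisymm
      · -- the centralizer is a 2-group
        set C := Subgroup.centralizer (K : Set G) with hC
        have hprime : ∀ {d : ℕ}, d.Prime → d ∣ Nat.card C → d = 2 := by
          intro d hd hdvd
          by_contra hd2
          have : Fact d.Prime := ⟨hd⟩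
          obtain ⟨u, hu⟩ := exists_prime_orderOf_dvd_card' d hdvd
          have hu' : orderOf (u : G) = d := by rw [Subgroup.orderOf_coe]; exact hu
          apply no_odd_centralizer hyp K hK4 hK2 (u : G) _ d hd hd2 hu'
          intro k hk
          exact (Subgroup.mem_centralizer_iff.mp u.2 k hk).symm
        have hCcard := Nat.eq_prime_pow_of_unique_prime_dvd (Nat.card_pos (α := C)).ne' hprime
        have hCp : IsPGroup 2 C := IsPGroup.of_card hCcard
        obtain ⟨Q, hQ⟩ := hCp.exists_le_sylow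
        have eQ : (Q : Subgroup G) ≃* DihedralGroup (2 ^ n) := (Sylow.equiv Q P).trans e
        have hm2 : 2 ≤ 2 ^ n := by
          calc 2 = 2 ^ 1 := by norm_num
            _ ≤ 2 ^ n := Nat.pow_le_pow_right (by norm_num) h0
        have hKC : K ≤ C := by
          intro k hk
          rw [hC, Subgroup.mem_centralizer_iff]
          intro k' hk'
          exact hKcomm k' hk' k hk
        intro c hc
        apply mem_of_commute_four' (Q : Subgroup G) hm2 eQ K (hKC.trans hQ) hK4 hK2 c (hQ hc)
        intro k hk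
        exact (Subgroup.mem_centralizer_iff.mp hc k hk).symm
      · intro k hk
        rw [Subgroup.mem_centralizer_iff]
        intro k' hk'
        exact hKcomm k' hk' k hk
  · exfalso
    have hc : Nat.card (P : Subgroup G) = 12 := by
      rw [Nat.card_congr e.toEquiv]
      have : Nat.card (alternatingGroup (Fin 4)) = 12 := by
        rw [Nat.card_eq_fintype_card]; decide
      exact this
    rw [hkP] at hc
    have h3 : 3 ∣ 2 ^ kP := by rw [hc]; norm_num
    have := Nat.Prime.dvd_of_dvd_pow Nat.prime_three h3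
    omega

/-- Let G be a finite group with Sylow 2-subgroup P. Every subgroup H of G whose Sylow 2-subgroup is normal in H with cyclic quotient is cyclic, dihedral of 2-power order, or isomorphic to the alternating group of degree 4, if and only if either P is cyclic, or P is dihedral (of order at least 4) and every elementary abelian subgroup K of order 4 of P satisfies C_G(K) = K. -/
theorem result {G : Type*} [Group G] [Finite G] (P : Sylow 2 G) :
    (∀ H : Subgroup G, (∀ S : Sylow 2 ↥H, (S : Subgroup ↥H).Normal) →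
        (∀ (S : Sylow 2 ↥H) [(S : Subgroup ↥H).Normal], IsCyclic (↥H ⧸ (S : Subgroup ↥H))) →
        IsCyclic H ∨ (∃ n : ℕ, Nonempty (H ≃* DihedralGroup (2 ^ n))) ∨ Nonempty (H ≃* alternatingGroup (Fin 4))) ↔
    (IsCyclic P ∨
      ((∃ n : ℕ, 1 ≤ n ∧ Nonempty ((P : Subgroup G) ≃* DihedralGroup (2 ^ n))) ∧
        ∀ K : Subgroup G, K ≤ P → Nat.card K = 4 → (∀ k ∈ K, k ^ 2 = 1) → Subgroup.centralizer (K : Set G) = K)) := by
  constructor
  · intro hyp
    exact forward P hyp
  · intro hP H h1 h2
    exact backward P hP H h1 h2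

end Cfsg.Agent.S4083
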