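import Mathlib
import Cfsg.Statements.S4084

set_option autoImplicit false
open Cfsg

namespace Cfsg.Agent.S4084

/-- The centre of the centralizer of `g`, described through the commuting relation only. -/
def zc (G : Type*) [Group G] (g : G) : Subgroup G where
  carrier := {x | Commute x g ∧ ∀ z, Commute z g → Commute x z}
  one_mem' := ⟨Commute.one_left g, fun z _ => Commute.one_left z⟩
  mul_mem' := by
    intro a b ha hb
    exact ⟨ha.1.mul_left hb.1, fun z hz => (ha.2 z hz).mul_left (hb.2 z hz)⟩
  inv_mem' := by
    intro a ha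
    exact ⟨ha.1.inv_left, fun z hz => (ha.2 z hz).inv_left⟩

theorem mem_zc {G : Type*} [Group G] (g x : G) :
    x ∈ zc G g ↔ Commute x g ∧ ∀ z, Commute z g → Commute x z := Iff.rfl

theorem self_mem_zc {G : Type*} [Group G] (g : G) : g ∈ zc G g :=
  ⟨Commute.refl g, fun _ hz => hz.symm⟩

theorem commute_of_mem_zc {G : Type*} [Group G] (g a b : G) (ha : a ∈ zc G g) (hb : b ∈ zc G g) :
    Commute a b := ha.2 b hb.1

theorem one_dir {G H : Type*} [Group G] [Finite G] [Group H] [Finite H] (e : G ≃ H)
    (he : ∀ x y : G, Commute x y ↔ Commute (e x) (e y))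
    {p q : ℕ} (hp : p.Prime) (hq : q.Prime) (hpq : p ≠ q) :
    (∃ g : G, orderOf g = p * q) → (∃ h : H, orderOf h = p * q) := by
  rintro ⟨g, hg⟩
  have hcard : Nat.card (zc G g) = Nat.card (zc H (e g)) := by
    apply Nat.card_congr
    refine
      { toFun := fun x => ⟨e x.1, ?_⟩
        invFun := fun y => ⟨e.symm y.1, ?_⟩
        left_inv := fun x => by simp
        right_inv := fun y => by simp }
    · refine ⟨(he _ _).1 x.2.1, fun z hz => ?_⟩
      have hz' : Commute (e.symm z) g := by
        rw [he]; simpa using hz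
      have := (he _ _).1 (x.2.2 _ hz')
      simpa using this
    · refine ⟨?_, fun z hz => ?_⟩
      · rw [he]; simpa using y.2.1
      · rw [he]
        have hz' : Commute (e z) (e g) := (he _ _).1 hz
        simpa using y.2.2 _ hz'
  have hdvd : p * q ∣ Nat.card (zc H (e g)) := by
    rw [← hcard, ← hg]
    have := Subgroup.orderOf_dvd_natCard (zc G g) (self_mem_zc g)
    exact this
  haveI : Fact p.Prime := ⟨hp⟩
  haveI : Fact q.Prime := ⟨hq⟩
  obtain ⟨a, ha⟩ := exists_prime_orderOf_dvd_card' (G := zc H (e g)) p (dvd_trans (dvd_mul_right p q) hdvd)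
  obtain ⟨b, hb⟩ := exists_prime_orderOf_dvd_card' (G := zc H (e g)) q (dvd_trans (dvd_mul_left q p) hdvd)
  have hcomm : Commute (a : H) (b : H) := commute_of_mem_zc (e g) a b a.2 b.2
  refine ⟨(a : H) * (b : H), ?_⟩
  have ha' : orderOf (a : H) = p := by rw [Subgroup.orderOf_coe]; exact ha
  have hb' : orderOf (b : H) = q := by rw [Subgroup.orderOf_coe]; exact hb
  have hcop : Nat.Coprime (orderOf (a : H)) (orderOf (b : H)) := by
    rw [ha', hb']; exact (Nat.coprime_primes hp hq).2 hpq
  rw [hcomm.orderOf_mul_eq_mul_orderOf_of_coprime hcop, ha', hb']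

/-- Let G and H be finite groups whose commuting graphs are isomorphic: there is a bijection e : G → H with x, y commuting exactly when e(x), e(y) commute. Then G and H have the same prime graph: for distinct primes p, q, G has an element of order pq if and only if H does (and #G = #H, so the prime divisors agree). -/
theorem result {G H : Type*} [Group G] [Finite G] [Group H] [Finite H] (e : G ≃ H)
    (he : ∀ x y : G, Commute x y ↔ Commute (e x) (e y))
    {p q : ℕ} (hp : p.Prime) (hq : q.Prime) (hpq : p ≠ q) :
    (∃ g : G, orderOf g = p * q) ↔ (∃ h : H, orderOf h = p * q) := by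
  constructor
  · exact one_dir e he hp hq hpq
  · refine one_dir e.symm (fun x y => ?_) hp hq hpq
    rw [he]; simp

end Cfsg.Agent.S4084
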