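import Mathlib
import Cfsg.Statements.S4086

set_option autoImplicit false
open Cfsg

namespace Cfsg.Agent.S4086

theorem pow_mem_zpowers_pow {G : Type*} [Group G] (z : G) (i j : ℕ)
    (h : Nat.gcd (orderOf z) j ∣ i) : z ^ i ∈ Subgroup.zpowers (z ^ j) := by
  obtain ⟨t, rfl⟩ := h
  rw [pow_mul]
  apply Subgroup.pow_mem
  have key : (z ^ Nat.gcd (orderOf z) j) = (z ^ j) ^ (Nat.gcdB (orderOf z) j) := by
    have h1 := Nat.gcd_eq_gcd_ab (orderOf z) j
    have h2 : z ^ ((Nat.gcd (orderOf z) j : ℕ) : ℤ) =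
        z ^ ((orderOf z : ℤ) * Nat.gcdA (orderOf z) j + (j : ℤ) * Nat.gcdB (orderOf z) j) := by
      rw [h1]
    rw [zpow_natCast, zpow_add, zpow_mul, zpow_mul, zpow_natCast, zpow_natCast,
      pow_orderOf_eq_one, one_zpow, one_mul] at h2
    exact h2
  rw [key]
  exact Subgroup.zpow_mem_zpowers _ _

theorem comparable_of_prime_pow {G : Type*} [Group G] (z : G) (p k : ℕ) (hp : p.Prime)
    (hz : orderOf z = p ^ k) (i j : ℕ) :
    z ^ i ∈ Subgroup.zpowers (z ^ j) ∨ z ^ j ∈ Subgroup.zpowers (z ^ i) := by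
  obtain ⟨a, ha, hga⟩ := (Nat.dvd_prime_pow hp).1 (Nat.gcd_dvd_left (orderOf z) i |>.trans (dvd_of_eq hz))
  obtain ⟨b, hb, hgb⟩ := (Nat.dvd_prime_pow hp).1 (Nat.gcd_dvd_left (orderOf z) j |>.trans (dvd_of_eq hz))
  rcases le_total a b with hab | hab
  · right
    apply pow_mem_zpowers_pow
    rw [hga]
    have : p ^ a ∣ p ^ b := pow_dvd_pow p hab
    exact this.trans (hgb ▸ Nat.gcd_dvd_right (orderOf z) j)
  · left
    apply pow_mem_zpowers_pow
    rw [hgb]
    have : p ^ b ∣ p ^ a := pow_dvd_pow p hab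
    exact this.trans (hga ▸ Nat.gcd_dvd_right (orderOf z) i)

/-- For a finite group G the following are equivalent: every non-identity element has prime-power order; whenever two elements generate a cyclic subgroup, one of them is a power of the other (the enhanced power graph of G coincides with its power graph). -/
theorem result {G : Type*} [Group G] [Finite G] :
    (∀ g : G, g ≠ 1 → IsPrimePow (orderOf g)) ↔
    (∀ x y : G, IsCyclic ↥(Subgroup.closure ({x, y} : Set G)) → (x ∈ Subgroup.zpowers y ∨ y ∈ Subgroup.zpowers x)) := by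
  constructor
  · intro h x y hcyc
    obtain ⟨w, hw⟩ := hcyc.exists_generator
    have hx : x ∈ Subgroup.closure ({x, y} : Set G) := Subgroup.subset_closure (by simp)
    have hy : y ∈ Subgroup.closure ({x, y} : Set G) := Subgroup.subset_closure (by simp)
    have hx' := hw ⟨x, hx⟩
    have hy' := hw ⟨y, hy⟩
    rw [← mem_powers_iff_mem_zpowers, Submonoid.mem_powers_iff] at hx' hy'
    obtain ⟨i, hi⟩ := hx'
    obtain ⟨j, hj⟩ := hy'
    have hi' : (w : G) ^ i = x := by
      have := congrArg Subtype.val hi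
      simpa using this
    have hj' : (w : G) ^ j = y := by
      have := congrArg Subtype.val hj
      simpa using this
    by_cases hw1 : (w : G) = 1
    · left
      rw [← hi', hw1, one_pow]
      exact Subgroup.one_mem _
    · obtain ⟨p, k, hp, _, hpk⟩ := (isPrimePow_nat_iff _).1 (h _ hw1)
      have key := comparable_of_prime_pow (w : G) p k hp hpk.symm i j
      rw [hi', hj'] at key
      exact key
  · intro h g hg
    by_contra hnpp
    have hn0 : orderOf g ≠ 0 := (orderOf_pos g).ne'
    have hn1 : orderOf g ≠ 1 := by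
      rw [Ne, orderOf_eq_one_iff]; exact hg
    set p := (orderOf g).minFac with hpdef
    have hp : p.Prime := Nat.minFac_prime hn1
    obtain ⟨e, m, hpm, hn⟩ := Nat.exists_eq_pow_mul_and_not_dvd hn0 p hp.ne_one
    have he : e ≠ 0 := by
      rintro rfl
      apply hpm
      have : p ∣ orderOf g := Nat.minFac_dvd _
      rw [hn] at this
      simpa using this
    have hm1 : m ≠ 1 := by
      rintro rfl
      apply hnpp
      rw [isPrimePow_nat_iff]
      exact ⟨p, e, hp, Nat.pos_of_ne_zero he, by rw [hn]; simp⟩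
    have hm0 : m ≠ 0 := by
      rintro rfl
      rw [mul_zero] at hn
      exact hn0 hn
    have hpe0 : p ^ e ≠ 0 := pow_ne_zero _ hp.ne_zero
    have hpe1 : p ^ e ≠ 1 := by
      intro h1
      have := Nat.pow_eq_one.1 h1
      rcases this with h2 | h2
      · exact hp.ne_one h2
      · exact he h2
    -- x = g ^ (p^e) has order m, y = g ^ m has order p^e
    have hox : orderOf (g ^ (p ^ e)) = m := by
      rw [orderOf_pow_of_dvd hpe0 (by rw [hn]; exact dvd_mul_right _ _), hn]
      exact Nat.mul_div_cancel_left m (Nat.pos_of_ne_zero hpe0)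
    have hoy : orderOf (g ^ m) = p ^ e := by
      rw [orderOf_pow_of_dvd hm0 (by rw [hn]; exact dvd_mul_left _ _), hn]
      exact Nat.mul_div_cancel (p ^ e) (Nat.pos_of_ne_zero hm0)
    have hcop : Nat.Coprime (p ^ e) m :=
      Nat.Coprime.pow_left e ((Nat.Prime.coprime_iff_not_dvd hp).2 hpm)
    have hle : Subgroup.closure ({g ^ (p ^ e), g ^ m} : Set G) ≤ Subgroup.zpowers g := by
      rw [Subgroup.closure_le]
      intro v hv
      rcases hv with rfl | rfl
      · exact Subgroup.pow_mem _ (Subgroup.mem_zpowers g) _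
      · exact Subgroup.pow_mem _ (Subgroup.mem_zpowers g) _
    have hcyc : IsCyclic ↥(Subgroup.closure ({g ^ (p ^ e), g ^ m} : Set G)) :=
      Subgroup.isCyclic_of_le hle
    rcases h _ _ hcyc with h1 | h1
    · -- order m divides order p^e
      have hd : orderOf (g ^ (p ^ e)) ∣ orderOf (g ^ m) := orderOf_dvd_of_mem_zpowers h1
      rw [hox, hoy] at hd
      exact hm1 (Nat.Coprime.eq_one_of_dvd hcop.symm hd)
    · have hd : orderOf (g ^ m) ∣ orderOf (g ^ (p ^ e)) := orderOf_dvd_of_mem_zpowers h1
      rw [hox, hoy] at hd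
      exact hpe1 (Nat.Coprime.eq_one_of_dvd hcop hd)

end Cfsg.Agent.S4086
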