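import Mathlib
import Cfsg.Statements.S4092

set_option autoImplicit false
open Cfsg
open scoped Pointwise

namespace Cfsg.Agent.S4092

section
variable {G : Type*} [Group G] [Finite G] (p : ℕ) [Fact p.Prime]

/-- normalizers grow in `p`-groups, stated inside the ambient group -/
theorem exists_normalizing_not_mem (P : Sylow p G) (D : Subgroup G) (hDP : D < (P : Subgroup G)) :
    ∃ y : G, y ∈ (P : Subgroup G) ∧ y ∈ Subgroup.normalizer (D : Set G) ∧ y ∉ D := by
  haveI : Group.IsNilpotent ↥(P : Subgroup G) := P.isPGroup'.isNilpotent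
  have hnc : NormalizerCondition ↥(P : Subgroup G) := Group.normalizerCondition_of_isNilpotent
  have hlt : D.subgroupOf (P : Subgroup G) < ⊤ := by
    rw [lt_top_iff_ne_top, Ne, Subgroup.subgroupOf_eq_top]
    exact not_le_of_gt hDP
  have h1 := hnc _ hlt
  obtain ⟨y, hy1, hy2⟩ := SetLike.exists_of_lt h1
  refine ⟨(y : G), y.2, ?_, hy2⟩
  rw [Subgroup.mem_set_normalizer_iff]
  rw [Subgroup.mem_normalizer_iff] at hy1
  intro h
  constructor
  · intro hh
    have hhP : h ∈ (P : Subgroup G) := hDP.le hh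
    exact (hy1 ⟨h, hhP⟩).1 hh
  · intro hh
    have hhP : h ∈ (P : Subgroup G) := by
      have h2 : (y : G) * h * (y : G)⁻¹ ∈ (P : Subgroup G) := hDP.le hh
      have : h = (y : G)⁻¹ * ((y : G) * h * (y : G)⁻¹) * (y : G) := by group
      rw [this]
      exact (P : Subgroup G).mul_mem ((P : Subgroup G).mul_mem ((P : Subgroup G).inv_mem y.2) h2) y.2
    exact (hy1 ⟨h, hhP⟩).2 hh


theorem card_sylow_eq (P Q : Sylow p G) : Nat.card (P : Subgroup G) = Nat.card (Q : Subgroup G) := by
  rw [P.card_eq_multiplicity, Q.card_eq_multiplicity]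

theorem pow_of_mem_sylow (S : Sylow p G) (g : G) (hg : g ∈ (S : Subgroup G)) :
    ∃ k : ℕ, orderOf g = p ^ k := by
  obtain ⟨k, hk⟩ := (IsPGroup.iff_orderOf).1 S.isPGroup' ⟨g, hg⟩
  exact ⟨k, by rw [← hk, Subgroup.orderOf_mk]⟩

/-- the family of Sylow subgroups containing `D` has at least `p+1` members, when `D` is a maximal
Sylow intersection -/
theorem card_family (P₀ Q₀ : Sylow p G) (hne : P₀ ≠ Q₀)
    (hmax : ∀ S S' : Sylow p G, S ≠ S' →
      Nat.card ↥((S : Subgroup G) ⊓ (S' : Subgroup G)) ≤ Nat.card ↥((P₀ : Subgroup G) ⊓ (Q₀ : Subgroup G))) :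
    p + 1 ≤ Nat.card {S : Sylow p G // (P₀ : Subgroup G) ⊓ (Q₀ : Subgroup G) ≤ (S : Subgroup G)} := by
  set D : Subgroup G := (P₀ : Subgroup G) ⊓ (Q₀ : Subgroup G) with hD
  have hDltP : D < (P₀ : Subgroup G) := by
    refine lt_of_le_of_ne inf_le_left ?_
    intro h
    have hle : (P₀ : Subgroup G) ≤ (Q₀ : Subgroup G) := by rw [← h]; exact inf_le_right
    have := P₀.3 Q₀.2 hle
    exact hne (Sylow.ext this.symm)
  obtain ⟨y, hyP, hyN, hyD⟩ := exists_normalizing_not_mem p P₀ D hDltP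
  let R : Subgroup G := (P₀ : Subgroup G) ⊓ Subgroup.normalizer (D : Set G)
  have hR : IsPGroup p R := P₀.isPGroup'.to_le inf_le_left
  have hyR : y ∈ R := ⟨hyP, hyN⟩
  let TT : SubMulAction ↥R (Sylow p G) :=
    { carrier := {S | D ≤ (S : Subgroup G)}
      smul_mem' := by
        intro c S hS d hd
        have hc : (c : G) ∈ Subgroup.normalizer (D : Set G) := c.2.2
        rw [Subgroup.mem_set_normalizer_iff''] at hc
        have h1 : (c : G)⁻¹ * d * (c : G) ∈ (S : Subgroup G) := hS ((hc d).1 hd)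
        change d ∈ MulAut.conj (c : G) • (S : Subgroup G)
        rw [Subgroup.mem_pointwise_smul_iff_inv_smul_mem]
        simpa [MulAut.smul_def] using h1 }
  have hmod := hR.card_modEq_card_fixedPoints ↥TT
  have hP₀mem : D ≤ (P₀ : Subgroup G) := inf_le_left
  have hQ₀mem : D ≤ (Q₀ : Subgroup G) := inf_le_right
  have hfixP : P₀ ∈ MulAction.fixedPoints ↥R (Sylow p G) :=
    hR.sylow_mem_fixedPoints_iff.2 inf_le_left
  have hfix1 : Nat.card (MulAction.fixedPoints ↥R ↥TT) = 1 := by
    rw [Nat.card_eq_one_iff_unique]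
    constructor
    · constructor
      rintro ⟨⟨S, hS⟩, hSfix⟩ ⟨⟨S', hS'⟩, hS'fix⟩
      have key : ∀ (S : Sylow p G) (hS : S ∈ TT), (⟨S, hS⟩ : ↥TT) ∈ MulAction.fixedPoints ↥R ↥TT → S = P₀ := by
        intro S hS hfix
        have hfix' : S ∈ MulAction.fixedPoints ↥R (Sylow p G) := by
          intro c
          have := hfix c
          exact congrArg Subtype.val this
        have hRS : R ≤ (S : Subgroup G) := hR.sylow_mem_fixedPoints_iff.1 hfix'
        by_contra hSP
        have h1 := hmax S P₀ hSP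
        have h2 : D ≤ (S : Subgroup G) ⊓ (P₀ : Subgroup G) := le_inf hS inf_le_left
        have h3 : D = (S : Subgroup G) ⊓ (P₀ : Subgroup G) := Subgroup.eq_of_le_of_card_ge h2 h1
        apply hyD
        rw [h3]
        exact ⟨hRS hyR, hyP⟩
      have e1 := key S hS hSfix
      have e2 := key S' hS' hS'fix
      subst e1
      subst e2
      rfl
    · refine ⟨⟨⟨P₀, hP₀mem⟩, ?_⟩⟩
      intro c
      apply Subtype.ext
      exact hfixP c
  rw [hfix1] at hmod
  have hnt : 1 < Nat.card ↥TT := by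
    rw [Finite.one_lt_card_iff_nontrivial]
    refine ⟨⟨⟨P₀, hP₀mem⟩, ⟨Q₀, hQ₀mem⟩, ?_⟩⟩
    intro h
    exact hne (congrArg Subtype.val h)
  have hdvd : p ∣ Nat.card ↥TT - 1 := (Nat.modEq_iff_dvd' hnt.le).1 hmod.symm
  have hpos : 0 < Nat.card ↥TT - 1 := Nat.sub_pos_of_lt hnt
  have := Nat.le_of_dvd hpos hdvd
  have hcard : Nat.card ↥TT = Nat.card {S : Sylow p G // D ≤ (S : Subgroup G)} := rfl
  omega

end

/-- Let G be a finite group, p a prime and P a Sylow p-subgroup of G that is not normal in G. Then G has at least p·#P elements of p-power order (the identity included). -/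
theorem result {G : Type*} [Group G] [Finite G] (p : ℕ) [Fact p.Prime]
    (P : Sylow p G) (hP : ¬ (P : Subgroup G).Normal) :
    p * Nat.card (P : Subgroup G) ≤ Nat.card {g : G // ∃ k : ℕ, orderOf g = p ^ k} := by
  classical
  have hpp : p.Prime := Fact.out
  -- two distinct Sylow subgroups
  have hex : ∃ Q : Sylow p G, Q ≠ P := by
    by_contra hcon
    rw [not_exists] at hcon
    haveI : Subsingleton (Sylow p G) := ⟨fun A B => by
      have hA : A = P := not_not.1 (hcon A)
      have hB : B = P := not_not.1 (hcon B)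
      rw [hA, hB]⟩
    exact hP (Sylow.normal_of_subsingleton P)
  obtain ⟨Q, hQP⟩ := hex
  -- a pair with maximal intersection
  let α := {pr : Sylow p G × Sylow p G // pr.1 ≠ pr.2}
  haveI : Nonempty α := ⟨⟨(Q, P), hQP⟩⟩
  obtain ⟨⟨⟨P₀, Q₀⟩, hne⟩, hmax'⟩ := Finite.exists_max
    (fun pr : α => Nat.card ↥((pr.1.1 : Subgroup G) ⊓ (pr.1.2 : Subgroup G)))
  have hne' : P₀ ≠ Q₀ := hne
  have hmax : ∀ S S' : Sylow p G, S ≠ S' →
      Nat.card ↥((S : Subgroup G) ⊓ (S' : Subgroup G)) ≤ Nat.card ↥((P₀ : Subgroup G) ⊓ (Q₀ : Subgroup G)) :=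
    fun S S' h => hmax' ⟨(S, S'), h⟩
  have hfam := card_family p P₀ Q₀ hne' hmax
  set D : Subgroup G := (P₀ : Subgroup G) ⊓ (Q₀ : Subgroup G) with hD
  -- pairwise intersections are exactly D
  have hint : ∀ S S' : Sylow p G, D ≤ (S : Subgroup G) → D ≤ (S' : Subgroup G) → S ≠ S' →
      ∀ g : G, g ∈ (S : Subgroup G) → g ∈ (S' : Subgroup G) → g ∈ D := by
    intro S S' hS hS' hSS' g hg hg'
    have h3 : D = (S : Subgroup G) ⊓ (S' : Subgroup G) :=
      Subgroup.eq_of_le_of_card_ge (le_inf hS hS') (hmax S S' hSS')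
    rw [h3]; exact ⟨hg, hg'⟩
  let TT := {S : Sylow p G // D ≤ (S : Subgroup G)}
  let B : TT → Type _ := fun S => {g : G // g ∈ (S.1 : Subgroup G) ∧ g ∉ D}
  let U := {g : G // ∃ k : ℕ, orderOf g = p ^ k}
  let ι : (↥D ⊕ Σ S : TT, B S) → U := fun z =>
    match z with
    | Sum.inl d => ⟨(d : G), pow_of_mem_sylow p P₀ d (inf_le_left (a := (P₀ : Subgroup G)) d.2)⟩
    | Sum.inr ⟨S, g⟩ => ⟨(g : G), pow_of_mem_sylow p S.1 g g.2.1⟩
  have hι : Function.Injective ι := by
    rintro (d | ⟨S, g⟩) (d' | ⟨S', g'⟩) h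
    · have h' := congrArg Subtype.val h
      change (d : G) = (d' : G) at h'
      rw [Subtype.ext h']
    · exfalso
      have h' := congrArg Subtype.val h
      change (d : G) = (g' : G) at h'
      exact g'.2.2 (h' ▸ d.2)
    · exfalso
      have h' := congrArg Subtype.val h
      change (g : G) = (d' : G) at h'
      exact g.2.2 (h' ▸ d'.2)
    · have hgg := congrArg Subtype.val h
      change (g : G) = (g' : G) at hgg
      have hSS : S = S' := by
        by_contra hSS
        have hSS' : S.1 ≠ S'.1 := fun h => hSS (Subtype.ext h)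
        exact g.2.2 (hint S.1 S'.1 S.2 S'.2 hSS' g g.2.1 (hgg ▸ g'.2.1))
      subst hSS
      have : g = g' := Subtype.ext hgg
      rw [this]
  haveI : Fintype TT := Fintype.ofFinite _
  have hle := Nat.card_le_card_of_injective ι hι
  have hsum : Nat.card (↥D ⊕ Σ S : TT, B S) = Nat.card ↥D + ∑ S : TT, Nat.card (B S) := by
    rw [Nat.card_sum, Nat.card_sigma]
  -- each B S has |P| - |D| elements
  have hB : ∀ S : TT, Nat.card ↥D + Nat.card (B S) = Nat.card (P : Subgroup G) := by
    intro S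
    rw [card_sylow_eq p P S.1, ← Nat.card_sum]
    apply Nat.card_congr
    refine Equiv.ofBijective
      (fun z : ↥D ⊕ B S => match z with
        | Sum.inl d => (⟨(d : G), S.2 d.2⟩ : ↥(S.1 : Subgroup G))
        | Sum.inr g => ⟨(g : G), g.2.1⟩) ⟨?_, ?_⟩
    · rintro (d | g) (d' | g') h
      · have h' := congrArg Subtype.val h
        change (d : G) = (d' : G) at h'
        rw [Subtype.ext h']
      · exfalso
        have h' := congrArg Subtype.val h
        change (d : G) = (g' : G) at h'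
        exact g'.2.2 (h' ▸ d.2)
      · exfalso
        have h' := congrArg Subtype.val h
        change (g : G) = (d' : G) at h'
        exact g.2.2 (h' ▸ d'.2)
      · have h' := congrArg Subtype.val h
        change (g : G) = (g' : G) at h'
        rw [Subtype.ext h']
    · rintro ⟨s, hs⟩
      by_cases hsD : s ∈ D
      · exact ⟨Sum.inl ⟨s, hsD⟩, rfl⟩
      · exact ⟨Sum.inr ⟨s, hs, hsD⟩, rfl⟩
  -- p * |D| ≤ |P|
  have hDltP : D < (P₀ : Subgroup G) := by
    refine lt_of_le_of_ne inf_le_left ?_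
    intro h
    have hle : (P₀ : Subgroup G) ≤ (Q₀ : Subgroup G) := by rw [← h]; exact inf_le_right
    have := P₀.3 Q₀.2 hle
    exact hne' (Sylow.ext this.symm)
  have hpD : p * Nat.card ↥D ≤ Nat.card (P : Subgroup G) := by
    rw [card_sylow_eq p P P₀]
    obtain ⟨n, hn⟩ := IsPGroup.iff_card.1 P₀.isPGroup'
    have hdvd : Nat.card ↥D ∣ Nat.card (P₀ : Subgroup G) := Subgroup.card_dvd_of_le hDltP.le
    rw [hn] at hdvd ⊢
    obtain ⟨j, hj, hjD⟩ := (Nat.dvd_prime_pow hpp).1 hdvd
    have hjn : j ≠ n := by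
      rintro rfl
      have : (P₀ : Subgroup G) = D := by
        have h1 : Nat.card (P₀ : Subgroup G) ≤ Nat.card ↥D := by rw [hn, hjD]
        exact (Subgroup.eq_of_le_of_card_ge hDltP.le h1).symm
      exact hDltP.ne this.symm
    rw [hjD, ← pow_succ']
    exact Nat.pow_le_pow_right hpp.pos (by omega)
  have hBeq : ∀ S : TT, Nat.card (B S) = Nat.card (P : Subgroup G) - Nat.card ↥D := by
    intro S; have := hB S; omega
  have hsum2 : ∑ S : TT, Nat.card (B S) = Nat.card TT * (Nat.card (P : Subgroup G) - Nat.card ↥D) := by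
    rw [Finset.sum_congr rfl (fun S _ => hBeq S), Finset.sum_const, Finset.card_univ, smul_eq_mul,
      ← Nat.card_eq_fintype_card (α := TT)]
  have hTT : p + 1 ≤ Nat.card TT := hfam
  have hUle : Nat.card ↥D + Nat.card TT * (Nat.card (P : Subgroup G) - Nat.card ↥D) ≤ Nat.card U := by
    rw [← hsum2, ← hsum]; exact hle
  have hDP : Nat.card ↥D ≤ Nat.card (P : Subgroup G) := by
    have hp1 : 1 ≤ p := hpp.pos
    nlinarith
  have h5 : (p + 1) * (Nat.card (P : Subgroup G) - Nat.card ↥D) ≤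
      Nat.card TT * (Nat.card (P : Subgroup G) - Nat.card ↥D) := Nat.mul_le_mul_right _ hTT
  have h6 : p * Nat.card (P : Subgroup G) ≤
      Nat.card ↥D + (p + 1) * (Nat.card (P : Subgroup G) - Nat.card ↥D) := by
    obtain ⟨e, he⟩ := Nat.exists_eq_add_of_le hDP
    rw [he, Nat.add_sub_cancel_left]
    rw [he] at hpD
    nlinarith
  exact h6.trans ((Nat.add_le_add_left h5 _).trans hUle)

end Cfsg.Agent.S4092
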