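import Mathlib
import Cfsg.Statements.S4107
import Cfsg.Agent.Lib.Helper22.Fitting

set_option autoImplicit false
open Cfsg

namespace Cfsg.Agent.S4107

open Cfsg.Agent.Lib.Helper22

/-- conjugation action of the subgroup `Q` on `G` -/
@[reducible] def conjAct {G : Type*} [Group G] (Q : Subgroup G) : MulAction Q G :=
  MulAction.compHom G ((MulAut.conj : G →* MulAut G).comp Q.subtype)

/-- if `O_p(G)` is not contained in `N`, then `N` is a `p`-group -/
theorem isPGroup_of_pCore_not_le {G : Type*} [Group G] [Finite G] (N : Subgroup G) [N.Normal]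
    (heq : ∀ x : G, x ∉ N → ∀ n ∈ N, orderOf (x * n) = orderOf x)
    (p : ℕ) [Fact p.Prime] (h : ¬ Cfsg.pCore p G ≤ N) : IsPGroup p N := by
  have hpp : p.Prime := Fact.out
  obtain ⟨x, hxR, hxN⟩ := SetLike.not_le_iff_exists.1 h
  haveI hRn : (Cfsg.pCore p G).Normal := pCore_normal' p G
  have hRp : IsPGroup p (Cfsg.pCore p G) := pCore_isPGroup' p G
  set R := Cfsg.pCore p G with hR
  set D : Subgroup G := R ⊓ N with hD
  haveI : D.Normal := Subgroup.normal_inf_normal R N
  -- no prime other than p divides |N|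
  have hprimes : ∀ {q : ℕ}, q.Prime → q ∣ Nat.card N → q = p := by
    intro q hq hqN
    by_contra hqp
    haveI : Fact q.Prime := ⟨hq⟩
    obtain ⟨y', hy'⟩ := exists_prime_orderOf_dvd_card' (G := N) q hqN
    set y : G := (y' : G) with hy
    have hyN : y ∈ N := y'.2
    have hyo : orderOf y = q := by rw [hy, Subgroup.orderOf_coe]; exact hy'
    let Q : Subgroup G := Subgroup.zpowers y
    have hQN : Q ≤ N := (Subgroup.zpowers_le).2 hyN
    have hQ : IsPGroup q Q := by
      apply IsPGroup.of_card (n := 1)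
      rw [Nat.card_zpowers, hyo, pow_one]
    letI := conjAct Q
    let T : SubMulAction Q G :=
      { carrier := {u | x⁻¹ * u ∈ D}
        smul_mem' := by
          intro c u hu
          have hcN : (c : G) ∈ N := hQN c.2
          change x⁻¹ * ((c : G) * u * (c : G)⁻¹) ∈ D
          have e : x⁻¹ * ((c : G) * u * (c : G)⁻¹) =
              (x⁻¹ * ((c : G) * x * (c : G)⁻¹)) * ((c : G) * (x⁻¹ * u) * (c : G)⁻¹) := by group
          rw [e]
          refine D.mul_mem ⟨?_, ?_⟩ (‹D.Normal›.conj_mem _ hu _)
          · exact R.mul_mem (R.inv_mem hxR) (hRn.conj_mem _ hxR _)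
          · have e2 : x⁻¹ * ((c : G) * x * (c : G)⁻¹) = (x⁻¹ * (c : G) * (x⁻¹)⁻¹) * (c : G)⁻¹ := by group
            rw [e2]
            exact N.mul_mem (‹N.Normal›.conj_mem _ hcN _) (N.inv_mem hcN) }
    have hTcard : Nat.card T = Nat.card D := by
      apply Nat.card_congr
      refine
        { toFun := fun u => ⟨x⁻¹ * (u : G), u.2⟩
          invFun := fun d => ⟨x * (d : G), by
            change x⁻¹ * (x * (d : G)) ∈ D
            rw [inv_mul_cancel_left]; exact d.2⟩
          left_inv := fun u => by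
            apply Subtype.ext
            change x * (x⁻¹ * (u : G)) = (u : G)
            rw [mul_inv_cancel_left]
          right_inv := fun d => by
            apply Subtype.ext
            change x⁻¹ * (x * (d : G)) = (d : G)
            rw [inv_mul_cancel_left] }
    have hDp : IsPGroup p D := hRp.to_le inf_le_left
    obtain ⟨b, hb⟩ := IsPGroup.iff_card.1 hDp
    have hnd : ¬ q ∣ Nat.card T := by
      rw [hTcard, hb]
      intro hdvd
      exact hqp ((Nat.prime_dvd_prime_iff_eq hq hpp).1 (hq.dvd_of_dvd_pow hdvd))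
    obtain ⟨c, hc⟩ := hQ.nonempty_fixed_point_of_prime_not_dvd_card T hnd
    have hcfix : y * (c : G) * y⁻¹ = (c : G) := by
      have := hc ⟨y, Subgroup.mem_zpowers y⟩
      exact congrArg Subtype.val this
    have hcD : x⁻¹ * (c : G) ∈ D := c.2
    have hcR : (c : G) ∈ R := by
      have : (c : G) = x * (x⁻¹ * (c : G)) := by group
      rw [this]; exact R.mul_mem hxR hcD.1
    have hcN : (c : G) ∉ N := by
      intro hcN
      apply hxN
      have : x = (c : G) * (x⁻¹ * (c : G))⁻¹ := by group
      rw [this]; exact N.mul_mem hcN (N.inv_mem hcD.2)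
    have ho := heq (c : G) hcN y hyN
    obtain ⟨j, hj⟩ := (IsPGroup.iff_orderOf).1 hRp ⟨(c : G), hcR⟩
    have hcj : orderOf (c : G) = p ^ j := by rw [← hj, Subgroup.orderOf_mk]
    have hcomm : Commute (c : G) y := by
      have : y * (c : G) = (c : G) * y := by
        calc y * (c : G) = (y * (c : G) * y⁻¹) * y := by group
          _ = (c : G) * y := by rw [hcfix]
      exact this.symm
    have hcop : Nat.Coprime (orderOf (c : G)) (orderOf y) := by
      rw [hcj, hyo]
      exact Nat.Coprime.pow_left j ((Nat.coprime_primes hpp hq).2 (Ne.symm hqp))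
    rw [hcomm.orderOf_mul_eq_mul_orderOf_of_coprime hcop, hyo] at ho
    have hpos : 0 < orderOf (c : G) := orderOf_pos _
    have : q = 1 := by
      have h3 : orderOf (c : G) * q = orderOf (c : G) * 1 := by rw [ho, mul_one]
      exact Nat.eq_of_mul_eq_mul_left hpos h3
    exact hq.ne_one this
  have hcard := Nat.eq_prime_pow_of_unique_prime_dvd (n := Nat.card N) (p := p) Nat.card_pos.ne' hprimes
  exact IsPGroup.of_card hcard

/-- Let G be a finite group and N a proper non-trivial normal subgroup such that for every x outside N all elements of the coset xN have the same order as x. Then N ≤ F(G) or F(G) ≤ N, where F(G) is the Fitting subgroup; and if N is properly contained in F(G) then F(G) has prime-power order. -/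
theorem result {G : Type*} [Group G] [Finite G] (N : Subgroup G) [N.Normal] (hN1 : N ≠ ⊥) (hN2 : N ≠ ⊤)
    (heq : ∀ x : G, x ∉ N → ∀ n ∈ N, orderOf (x * n) = orderOf x) :
    (N ≤ Cfsg.fittingSubgroup G ∨ Cfsg.fittingSubgroup G ≤ N) ∧
    (N < Cfsg.fittingSubgroup G → IsPrimePow (Nat.card (Cfsg.fittingSubgroup G))) := by
  have hF := fittingSubgroup_eq_iSup_pCore (G := G)
  have key : ¬ Cfsg.fittingSubgroup G ≤ N → ∃ p : Nat.Primes, ¬ Cfsg.pCore (p : ℕ) G ≤ N := by
    intro h
    by_contra hcon
    rw [not_exists] at hcon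
    apply h
    rw [hF]
    exact iSup_le (fun p => not_not.1 (hcon p))
  have hpF : ∀ p : Nat.Primes, Cfsg.pCore (p : ℕ) G ≤ Cfsg.fittingSubgroup G := by
    intro p
    rw [hF]
    exact le_iSup (fun q : Nat.Primes => Cfsg.pCore (q : ℕ) G) p
  constructor
  · by_cases h : Cfsg.fittingSubgroup G ≤ N
    · right; exact h
    · left
      obtain ⟨p, hp⟩ := key h
      haveI : Fact (p : ℕ).Prime := ⟨p.2⟩
      have hNp := isPGroup_of_pCore_not_le N heq (p : ℕ) hp
      exact (le_pCore' ‹N.Normal› hNp).trans (hpF p)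
  · intro hlt
    have h : ¬ Cfsg.fittingSubgroup G ≤ N := not_le_of_gt hlt
    obtain ⟨p, hp⟩ := key h
    haveI : Fact (p : ℕ).Prime := ⟨p.2⟩
    have hNp := isPGroup_of_pCore_not_le N heq (p : ℕ) hp
    have hothers : ∀ q : Nat.Primes, q ≠ p → Cfsg.pCore (q : ℕ) G = ⊥ := by
      intro q hqp
      haveI : Fact (q : ℕ).Prime := ⟨q.2⟩
      have hne : (q : ℕ) ≠ (p : ℕ) := fun h => hqp (Subtype.ext h)
      by_contra hbot
      have hnle : ¬ Cfsg.pCore (q : ℕ) G ≤ N := by
        intro hle
        have hq1 : IsPGroup (q : ℕ) (Cfsg.pCore (q : ℕ) G) := pCore_isPGroup' (q : ℕ) G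
        have hq2 : IsPGroup (p : ℕ) (Cfsg.pCore (q : ℕ) G) := hNp.to_le hle
        have := IsPGroup.disjoint_of_ne (q : ℕ) (p : ℕ) hne _ _ hq1 hq2
        exact hbot (disjoint_self.1 this)
      have hNq := isPGroup_of_pCore_not_le N heq (q : ℕ) hnle
      have := IsPGroup.disjoint_of_ne (q : ℕ) (p : ℕ) hne _ _ hNq hNp
      exact hN1 (disjoint_self.1 this)
    have hFeq : Cfsg.fittingSubgroup G = Cfsg.pCore (p : ℕ) G := by
      apply le_antisymm
      · rw [hF]
        apply iSup_le
        intro q
        by_cases hqp : q = p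
        · rw [hqp]
        · rw [hothers q hqp]; exact bot_le
      · exact hpF p
    have hFp : IsPGroup (p : ℕ) (Cfsg.fittingSubgroup G) := by
      rw [hFeq]; exact pCore_isPGroup' (p : ℕ) G
    obtain ⟨k, hk⟩ := IsPGroup.iff_card.1 hFp
    rw [hk]
    have hk0 : k ≠ 0 := by
      rintro rfl
      rw [pow_zero] at hk
      have hbot : Cfsg.fittingSubgroup G = ⊥ := Subgroup.card_eq_one.1 hk
      rw [hbot] at hlt
      exact not_lt_bot hlt
    exact (Nat.Prime.isPrimePow p.2).pow hk0

end Cfsg.Agent.S4107
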