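import Mathlib
import Cfsg.Statements.S4108

set_option autoImplicit false
open Cfsg
open scoped Pointwise

namespace Cfsg.Agent.S4108

section core
variable {G : Type*} [Group G] [Finite G] (N : Subgroup G) [N.Normal]
  (p : ℕ) [Fact p.Prime] (H : Subgroup G)

theorem disj (hNp : IsPGroup p N) (hH : (Nat.card H).Coprime p) :
    ∀ z : G, z ∈ N → z ∈ H → z = 1 := by
  intro z hzN hzH
  obtain ⟨k, hk⟩ := hNp ⟨z, hzN⟩
  have hk' : z ^ (p ^ k) = 1 := by
    have := congrArg Subtype.val hk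
    simpa using this
  have h1 : orderOf z ∣ p ^ k := orderOf_dvd_of_pow_eq_one hk'
  have h2 : orderOf z ∣ Nat.card H := Subgroup.orderOf_dvd_natCard H hzH
  have hcop : Nat.Coprime (Nat.card H) (p ^ k) := Nat.Coprime.pow_right k hH
  have : orderOf z ∣ 1 := by
    have := Nat.dvd_gcd h2 h1
    rwa [hcop.gcd_eq_one] at this
  exact orderOf_eq_one_iff.1 (Nat.dvd_one.1 this)

theorem fpf (heq : ∀ x : G, x ∉ N → ∀ n ∈ N, orderOf (x * n) = orderOf x)
    (hNp : IsPGroup p N) (hH : (Nat.card H).Coprime p) :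
    ∀ h ∈ H, h ≠ 1 → ∀ n ∈ N, h * n = n * h → n = 1 := by
  intro h hh h1 n hn hcomm
  have hhN : h ∉ N := fun hhN => h1 (disj N p H hNp hH h hhN hh)
  have ho := heq h hhN n hn
  obtain ⟨k, hk⟩ := hNp ⟨n, hn⟩
  have hk' : n ^ (p ^ k) = 1 := by
    have := congrArg Subtype.val hk
    simpa using this
  have h1' : orderOf n ∣ p ^ k := orderOf_dvd_of_pow_eq_one hk'
  have h2 : orderOf h ∣ Nat.card H := Subgroup.orderOf_dvd_natCard H hh
  have hcop : Nat.Coprime (orderOf h) (orderOf n) :=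
    Nat.Coprime.coprime_dvd_left h2 (Nat.Coprime.coprime_dvd_right h1' (Nat.Coprime.pow_right k hH))
  have hc : Commute h n := hcomm
  rw [hc.orderOf_mul_eq_mul_orderOf_of_coprime hcop] at ho
  have hpos : 0 < orderOf h := orderOf_pos h
  have : orderOf n = 1 := by
    have h3 : orderOf h * orderOf n = orderOf h * 1 := by rw [ho, mul_one]
    exact Nat.eq_of_mul_eq_mul_left hpos h3
  exact orderOf_eq_one_iff.1 this

theorem conj_exists (hfpf : ∀ h ∈ H, h ≠ 1 → ∀ n ∈ N, h * n = n * h → n = 1) :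
    ∀ h ∈ H, h ≠ 1 → ∀ n ∈ N, ∃ m ∈ N, m * h * m⁻¹ = n * h := by
  intro h hh h1 n hn
  let φ : N → N := fun m' =>
    ⟨(m' : G) * h * (m' : G)⁻¹ * h⁻¹, by
      have h1 : h * (m' : G)⁻¹ * h⁻¹ ∈ N := ‹N.Normal›.conj_mem _ (N.inv_mem m'.2) h
      have : (m' : G) * h * (m' : G)⁻¹ * h⁻¹ = (m' : G) * (h * (m' : G)⁻¹ * h⁻¹) := by group
      rw [this]
      exact N.mul_mem m'.2 h1⟩
  have hinj : Function.Injective φ := by
    intro m1 m2 h12
    have h12' : (m1 : G) * h * (m1 : G)⁻¹ * h⁻¹ = (m2 : G) * h * (m2 : G)⁻¹ * h⁻¹ :=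
      congrArg Subtype.val h12
    have h3 : (m1 : G) * h * (m1 : G)⁻¹ = (m2 : G) * h * (m2 : G)⁻¹ := mul_right_cancel h12'
    have hcomm : h * ((m2 : G)⁻¹ * (m1 : G)) = ((m2 : G)⁻¹ * (m1 : G)) * h := by
      have : h = (m2 : G)⁻¹ * ((m1 : G) * h * (m1 : G)⁻¹) * (m2 : G) := by
        rw [h3]; group
      calc h * ((m2 : G)⁻¹ * (m1 : G))
          = ((m2 : G)⁻¹ * ((m1 : G) * h * (m1 : G)⁻¹) * (m2 : G)) * ((m2 : G)⁻¹ * (m1 : G)) := by
            rw [← this]
        _ = ((m2 : G)⁻¹ * (m1 : G)) * h := by group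
    have hmem : (m2 : G)⁻¹ * (m1 : G) ∈ N := N.mul_mem (N.inv_mem m2.2) m1.2
    have := hfpf h hh h1 _ hmem hcomm
    apply Subtype.ext
    exact (inv_mul_eq_one.1 this).symm
  have hsurj : Function.Surjective φ := Finite.injective_iff_surjective.1 hinj
  obtain ⟨m', hm'⟩ := hsurj ⟨n, hn⟩
  have hm'' : (m' : G) * h * (m' : G)⁻¹ * h⁻¹ = n := congrArg Subtype.val hm'
  refine ⟨m', m'.2, ?_⟩
  rw [← hm'']; group

theorem ti_core (hdisj : ∀ z : G, z ∈ N → z ∈ H → z = 1)
    (hfpf : ∀ h ∈ H, h ≠ 1 → ∀ n ∈ N, h * n = n * h → n = 1) :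
    ∀ n ∈ N, ∀ h ∈ H, ∀ y' ∈ H, (n * h) * y' * (n * h)⁻¹ ∈ H → y' ≠ 1 → n = 1 := by
  intro n hn h hh y' hy' hy hy1
  set y'' := h * y' * h⁻¹ with hy''
  have hy''H : y'' ∈ H := H.mul_mem (H.mul_mem hh hy') (H.inv_mem hh)
  have hyeq : (n * h) * y' * (n * h)⁻¹ = n * y'' * n⁻¹ := by rw [hy'']; group
  rw [hyeq] at hy
  have hN' : (n * y'' * n⁻¹) * y''⁻¹ ∈ N := by
    have h1 : y'' * n⁻¹ * y''⁻¹ ∈ N := ‹N.Normal›.conj_mem _ (N.inv_mem hn) y''
    have : (n * y'' * n⁻¹) * y''⁻¹ = n * (y'' * n⁻¹ * y''⁻¹) := by group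
    rw [this]; exact N.mul_mem hn h1
  have hH' : (n * y'' * n⁻¹) * y''⁻¹ ∈ H := H.mul_mem hy (H.inv_mem hy''H)
  have h1 := hdisj _ hN' hH'
  have hcomm : y'' * n = n * y'' := by
    have : n * y'' * n⁻¹ = y'' := by
      have := congrArg (· * y'') h1
      simpa using this
    calc y'' * n = (n * y'' * n⁻¹) * n := by rw [this]
      _ = n * y'' := by group
  have hy''1 : y'' ≠ 1 := by
    intro h0
    apply hy1
    have : y' = h⁻¹ * y'' * h := by rw [hy'']; group
    rw [this, h0]; group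
  exact hfpf y'' hy''H hy''1 n hn hcomm

end core

/-- Let G be a finite group, p a prime and N a proper non-trivial normal p-subgroup such that for every x outside N all elements of the coset xN have the same order as x. Then every non-trivial subgroup H of G of order prime to p acts fixed-point-freely on N: NH is a Frobenius group with complement H and kernel N. -/
theorem result {G : Type*} [Group G] [Finite G] (N : Subgroup G) [N.Normal] (hN1 : N ≠ ⊥) (hN2 : N ≠ ⊤)
    (heq : ∀ x : G, x ∉ N → ∀ n ∈ N, orderOf (x * n) = orderOf x)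
    (p : ℕ) [Fact p.Prime] (hNp : IsPGroup p N) :
    ∀ H : Subgroup G, H ≠ ⊥ → (Nat.card H).Coprime p →
      Cfsg.IsFrobeniusComplement (H.subgroupOf (N ⊔ H)) ∧ Cfsg.frobeniusKernel (H.subgroupOf (N ⊔ H)) = (N.subgroupOf (N ⊔ H) : Set ↥(N ⊔ H)) := by
  intro H hH1 hHcop
  have hdisj := disj N p H hNp hHcop
  have hfpf := fpf N p H heq hNp hHcop
  have hconj := conj_exists N H hfpf
  have hti := ti_core N H hdisj hfpf
  have hdecomp : ∀ k : ↥(N ⊔ H), ∃ n ∈ N, ∃ h ∈ H, (k : G) = n * h := by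
    intro k
    have hk : (k : G) ∈ ((N ⊔ H : Subgroup G) : Set G) := k.2
    rw [Subgroup.normal_mul] at hk
    obtain ⟨n, hn, h, hh, hnh⟩ := Set.mem_mul.1 hk
    exact ⟨n, hn, h, hh, hnh.symm⟩
  have hHK : H ≤ N ⊔ H := le_sup_right
  have hNK : N ≤ N ⊔ H := le_sup_left
  constructor
  · refine ⟨?_, ?_, ?_⟩
    · rw [Ne, Subgroup.subgroupOf_eq_bot, disjoint_iff, inf_eq_left.2 hHK]
      exact hH1
    · rw [Ne, Subgroup.subgroupOf_eq_top]
      intro hle
      apply hN1
      rw [eq_bot_iff]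
      intro z hz
      exact Subgroup.mem_bot.2 (hdisj z hz (hle (hNK hz)))
    · intro g hg
      rw [eq_bot_iff]
      intro y hy
      obtain ⟨hy1, hy2⟩ := hy
      rw [Subgroup.mem_bot]
      by_contra hyne
      obtain ⟨y', hy', hyy'⟩ := (Subgroup.mem_smul_pointwise_iff_exists _ _ _).1 hy2
      have hyy'' : g * y' * g⁻¹ = y := by simpa [MulAut.smul_def] using hyy'
      obtain ⟨n, hn, h, hh, hgnh⟩ := hdecomp g
      have hy'H : (y' : G) ∈ H := Subgroup.mem_subgroupOf.1 hy'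
      have hyH : (y : G) ∈ H := Subgroup.mem_subgroupOf.1 hy1
      have hyG : (n * h) * (y' : G) * (n * h)⁻¹ = (y : G) := by
        rw [← hgnh, ← hyy'']; simp
      have hy'ne : (y' : G) ≠ 1 := by
        intro h0
        apply hyne
        have : y' = 1 := Subtype.ext h0
        rw [← hyy'', this]; simp
      have hn1 : n = 1 := hti n hn h hh (y' : G) hy'H (by rw [hyG]; exact hyH) hy'ne
      apply hg
      rw [Subgroup.mem_subgroupOf, hgnh, hn1, one_mul]
      exact hh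
  · ext x
    simp only [Cfsg.frobeniusKernel, Set.mem_setOf_eq, SetLike.mem_coe, Subgroup.mem_subgroupOf]
    constructor
    · rintro (rfl | hx)
      · simp
      · obtain ⟨n, hn, h, hh, hxnh⟩ := hdecomp x
        by_cases h1 : h = 1
        · rw [hxnh, h1, mul_one]; exact hn
        · exfalso
          obtain ⟨m, hm, hmh⟩ := hconj h hh h1 n hn
          apply hx ⟨m, hNK hm⟩
          rw [Subgroup.mem_smul_pointwise_iff_exists]
          refine ⟨⟨h, hHK hh⟩, Subgroup.mem_subgroupOf.2 hh, ?_⟩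
          apply Subtype.ext
          simp only [MulAut.smul_def, MulAut.conj_apply, Subgroup.coe_mul, Subgroup.coe_inv]
          rw [hxnh, ← hmh]
    · intro hxN
      by_cases hx1 : x = 1
      · left; exact hx1
      · right
        intro g hxg
        obtain ⟨y, hy, hyx⟩ := (Subgroup.mem_smul_pointwise_iff_exists _ _ _).1 hxg
        have hyx' : g * y * g⁻¹ = x := by simpa [MulAut.smul_def] using hyx
        have hyH : (y : G) ∈ H := Subgroup.mem_subgroupOf.1 hy
        have hyN : (y : G) ∈ N := by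
          have : (y : G) = (g : G)⁻¹ * (x : G) * ((g : G)⁻¹)⁻¹ := by
            rw [← hyx']; simp; group
          rw [this]
          exact ‹N.Normal›.conj_mem _ hxN _
        have hy1 : (y : G) = 1 := hdisj _ hyN hyH
        apply hx1
        have : y = 1 := Subtype.ext hy1
        rw [← hyx', this]; simp

end Cfsg.Agent.S4108
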