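import Mathlib
import Cfsg.Statements.S4112

set_option autoImplicit false
open Cfsg
open scoped Pointwise

namespace Cfsg.Agent.S4112

/-- A group of order divisible by `p` with a normal subgroup `K` of index prime to `p` has a proper
supplement to `K`. -/
theorem exists_proper_supplement {G : Type*} [Group G] [Finite G] (K : Subgroup G) [K.Normal]
    (p : ℕ) [Fact p.Prime] (hp : p ∣ Nat.card G) (hpK : ¬ p ∣ K.index) :
    ∃ L : Subgroup G, L ≠ ⊤ ∧ L ⊔ K = ⊤ := by
  have hpp : p.Prime := Fact.out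
  have hpK' : p ∣ Nat.card K := by
    rw [← K.card_mul_index] at hp
    exact (hpp.dvd_mul.1 hp).resolve_right hpK
  let P : Sylow p K := default
  have hPne : (P : Subgroup K) ≠ ⊥ := P.ne_bot_of_dvd_card hpK'
  set P' : Subgroup G := (P : Subgroup K).map K.subtype with hP'
  have hfr : Subgroup.normalizer (P' : Set G) ⊔ K = ⊤ := Sylow.normalizer_sup_eq_top P
  have hP'K : P' ≤ K := Subgroup.map_subtype_le _
  by_cases hnorm : Subgroup.normalizer (P' : Set G) = ⊤
  · have hP'n : P'.Normal := Subgroup.normalizer_eq_top_iff.1 hnorm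
    have hcard : Nat.card P' = Nat.card (P : Subgroup K) := by
      rw [hP']
      exact Nat.card_congr ((P : Subgroup K).equivMapOfInjective K.subtype K.subtype_injective).symm.toEquiv
    have hidx : P'.index = (P : Subgroup K).index * K.index := Subgroup.index_map_subtype _
    have hnd : ¬ p ∣ P'.index := by
      rw [hidx]
      intro h
      rcases hpp.dvd_mul.1 h with h | h
      · exact P.not_dvd_index h
      · exact hpK h
    obtain ⟨n, hn⟩ := IsPGroup.iff_card.1 P.isPGroup'
    have hcop : Nat.Coprime (Nat.card P') P'.index := by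
      rw [hcard, hn]
      exact Nat.Coprime.pow_left n ((Nat.Prime.coprime_iff_not_dvd hpp).2 hnd)
    obtain ⟨L, hL⟩ := Subgroup.exists_right_complement'_of_coprime hcop
    refine ⟨L, ?_, ?_⟩
    · rintro rfl
      have := hL.disjoint
      rw [disjoint_iff, inf_top_eq] at this
      apply hPne
      rw [hP'] at this
      exact (Subgroup.map_eq_bot_iff_of_injective _ K.subtype_injective).1 this
    · have h1 : P' ⊔ L = ⊤ := hL.sup_eq_top
      rw [eq_top_iff, ← h1]
      exact sup_le (hP'K.trans le_sup_right) le_sup_left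
  · exact ⟨_, hnorm, hfr⟩

/-- If `H` supplements the normal subgroup `N` and a prime `p ∤ [G:N]` divides `|H|`, then a proper
subgroup of `H` still supplements `N`. -/
theorem exists_smaller_supplement {G : Type*} [Group G] [Finite G] (N : Subgroup G) [N.Normal]
    (H : Subgroup G) (hHN : H ⊔ N = ⊤) (p : ℕ) [Fact p.Prime] (hp : p ∣ Nat.card H)
    (hpN : ¬ p ∣ N.index) : ∃ H₁ : Subgroup G, H₁ < H ∧ H₁ ⊔ N = ⊤ := by
  have hidx : (N.subgroupOf H).index = N.index := by
    have h1 : N.relIndex (H ⊔ N) = N.relIndex H := Subgroup.relIndex_sup_right H N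
    rw [hHN, Subgroup.relIndex_top_right] at h1
    exact h1.symm
  obtain ⟨L, hL1, hL2⟩ := exists_proper_supplement (N.subgroupOf H) p hp (by rw [hidx]; exact hpN)
  refine ⟨L.map H.subtype, ?_, ?_⟩
  · refine lt_of_le_of_ne (Subgroup.map_subtype_le _) ?_
    intro heq
    apply hL1
    have : L.map H.subtype = (⊤ : Subgroup H).map H.subtype := by
      rw [heq, ← MonoidHom.range_eq_map, Subgroup.range_subtype]
    exact Subgroup.map_injective H.subtype_injective this
  · have h1 : (L ⊔ N.subgroupOf H).map H.subtype = H := by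
      rw [hL2, ← MonoidHom.range_eq_map, Subgroup.range_subtype]
    rw [Subgroup.map_sup, Subgroup.subgroupOf_map_subtype] at h1
    have h2 : H ≤ L.map H.subtype ⊔ N := by
      have h3 : L.map H.subtype ⊔ N ⊓ H ≤ L.map H.subtype ⊔ N :=
        sup_le le_sup_left (inf_le_left.trans le_sup_right)
      exact h1.symm.le.trans h3
    rw [eq_top_iff, ← hHN]
    exact sup_le h2 le_sup_right

/-- A supplement of `N` all of whose prime divisors divide `[G:N]`. -/
theorem exists_supplement {G : Type*} [Group G] [Finite G] (N : Subgroup G) [N.Normal] :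
    ∃ H : Subgroup G, H ⊔ N = ⊤ ∧ ∀ p : ℕ, p.Prime → p ∣ Nat.card H → p ∣ N.index := by
  let S : Set (Subgroup G) := {H | H ⊔ N = ⊤}
  have hne : S.Nonempty := ⟨⊤, top_sup_eq N⟩
  have hwf : WellFounded ((· < ·) : Subgroup G → Subgroup G → Prop) := wellFounded_lt
  refine ⟨hwf.min S hne, hwf.min_mem S hne, ?_⟩
  intro p hp hdvd
  by_contra hnd
  haveI : Fact p.Prime := ⟨hp⟩
  obtain ⟨H₁, hlt, hsup⟩ := exists_smaller_supplement N (hwf.min S hne) (hwf.min_mem S hne) p hdvd hnd
  exact hwf.not_lt_min S (x := H₁) hsup hlt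

theorem mem_centralizer_singleton {G : Type*} [Group G] (x c : G) :
    c ∈ Subgroup.centralizer ({x} : Set G) ↔ x * c = c * x := by
  simp [Subgroup.mem_centralizer_iff]

theorem one_imp_two {G : Type*} [Group G] [Finite G] (N M : Subgroup G) [N.Normal] [M.Normal]
    (h1 : ∀ x ∈ M, x ≠ 1 → Subgroup.centralizer ({x} : Set G) ≤ N) :
    N.index.Coprime (Nat.card M) := by
  by_contra hnc
  obtain ⟨p, hp, hpN, hpM⟩ := Nat.Prime.not_coprime_iff_dvd.1 hnc
  haveI : Fact p.Prime := ⟨hp⟩
  let P : Sylow p G := default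
  -- action of P on M by conjugation
  letI act : MulAction (P : Subgroup G) M :=
    MulAction.compHom M ((MulAut.conjNormal (H := M)).comp (P : Subgroup G).subtype)
  have hfix1 : (1 : M) ∈ MulAction.fixedPoints (P : Subgroup G) M := by
    intro g
    change (MulAut.conjNormal (g : G) : MulAut M) 1 = 1
    simp
  obtain ⟨b, hb, hb1⟩ := P.isPGroup'.exists_fixed_point_of_prime_dvd_card_of_fixed_point M hpM hfix1
  have hbne : (b : G) ≠ 1 := by
    intro h0
    apply hb1
    exact (Subtype.ext h0).symm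
  have hPle : (P : Subgroup G) ≤ Subgroup.centralizer ({(b : G)} : Set G) := by
    intro g hg
    rw [mem_centralizer_singleton]
    have := hb ⟨g, hg⟩
    have h2 : (MulAut.conjNormal (g : G) : MulAut M) b = b := this
    have h3 : g * (b : G) * g⁻¹ = (b : G) := by
      have := congrArg Subtype.val h2
      simpa using this
    calc (b : G) * g = (g * (b : G) * g⁻¹) * g := by rw [h3]
      _ = g * (b : G) := by group
  have hPN : (P : Subgroup G) ≤ N := hPle.trans (h1 b b.2 hbne)
  have hdvd : N.index ∣ (P : Subgroup G).index := Subgroup.index_dvd_of_le hPN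
  exact P.not_dvd_index (hpN.trans hdvd)

theorem two_imp_one {G : Type*} [Group G] [Finite G] (N M : Subgroup G) [N.Normal] [M.Normal]
    (hcam : ∀ g : G, g ∉ N → ∀ m ∈ M, ∃ x : G, x * g * x⁻¹ = g * m)
    (h2 : N.index.Coprime (Nat.card M)) :
    ∀ x ∈ M, x ≠ 1 → Subgroup.centralizer ({x} : Set G) ≤ N := by
  intro x hx hx1 c hc
  rw [mem_centralizer_singleton] at hc
  by_contra hcN
  -- a prime dividing the order of x
  have hox1 : orderOf x ≠ 1 := by rw [Ne, orderOf_eq_one_iff]; exact hx1
  obtain ⟨p, hp, hpx⟩ := Nat.exists_prime_and_dvd hox1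
  have hox0 : orderOf x ≠ 0 := (orderOf_pos x).ne'
  set x' := x ^ (orderOf x / p) with hx'
  have hx'o : orderOf x' = p := orderOf_pow_orderOf_div hox0 hpx
  have hx'M : x' ∈ M := M.pow_mem hx _
  have hpM : p ∣ Nat.card M := by
    rw [← hx'o]; exact Subgroup.orderOf_dvd_natCard M hx'M
  have hpN : ¬ p ∣ N.index := by
    intro h
    have := Nat.dvd_gcd h hpM
    rw [h2.gcd_eq_one] at this
    exact hp.one_lt.ne' (Nat.dvd_one.1 this)
  have hcx' : Commute c x' := by
    have : Commute c x := hc.symm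
    exact this.pow_right _
  -- split the order of c
  have hoc0 : orderOf c ≠ 0 := (orderOf_pos c).ne'
  obtain ⟨a, r, hpr, hcr⟩ := Nat.exists_eq_pow_mul_and_not_dvd hoc0 p hp.ne_one
  have hpa0 : p ^ a ≠ 0 := pow_ne_zero _ hp.ne_zero
  have hr0 : r ≠ 0 := by
    rintro rfl
    rw [mul_zero] at hcr
    exact hoc0 hcr
  set h := c ^ (p ^ a) with hh
  have hho : orderOf h = r := by
    rw [hh, orderOf_pow_of_dvd hpa0 (by rw [hcr]; exact dvd_mul_right _ _), hcr]
    exact Nat.mul_div_cancel_left r (Nat.pos_of_ne_zero hpa0)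
  have hhN : h ∉ N := by
    intro hhN
    apply hcN
    have h3 : ((c : G) : G ⧸ N) ^ (p ^ a) = 1 := by
      rw [← QuotientGroup.mk_pow]
      exact (QuotientGroup.eq_one_iff _).2 hhN
    have h4 : orderOf ((c : G) : G ⧸ N) ∣ p ^ a := orderOf_dvd_of_pow_eq_one h3
    have h5 : orderOf ((c : G) : G ⧸ N) ∣ N.index := by
      rw [Subgroup.index_eq_card]; exact orderOf_dvd_natCard _
    have hcop : Nat.Coprime (p ^ a) N.index :=
      Nat.Coprime.pow_left a ((Nat.Prime.coprime_iff_not_dvd hp).2 hpN)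
    have h6 : orderOf ((c : G) : G ⧸ N) ∣ 1 := by
      have := Nat.dvd_gcd h4 h5
      rwa [hcop.gcd_eq_one] at this
    have h7 : ((c : G) : G ⧸ N) = 1 := orderOf_eq_one_iff.1 (Nat.dvd_one.1 h6)
    exact (QuotientGroup.eq_one_iff _).1 h7
  have hhx' : Commute h x' := hcx'.pow_left _
  have hcop : Nat.Coprime (orderOf h) (orderOf x') := by
    rw [hho, hx'o]
    exact ((Nat.Prime.coprime_iff_not_dvd hp).2 hpr).symm
  have ho1 : orderOf (h * x') = r * p := by
    rw [hhx'.orderOf_mul_eq_mul_orderOf_of_coprime hcop, hho, hx'o]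
  obtain ⟨y, hy⟩ := hcam h hhN x' hx'M
  have ho2 : orderOf (h * x') = r := by
    rw [← hy, ← hho]
    have : y * h * y⁻¹ = MulAut.conj y h := by simp
    rw [this]
    exact MulEquiv.orderOf_eq _ _
  rw [ho1] at ho2
  have : p = 1 := by
    have h3 : r * p = r * 1 := by rw [ho2, mul_one]
    exact Nat.eq_of_mul_eq_mul_left (Nat.pos_of_ne_zero hr0) h3
  exact hp.ne_one this

/-- Let G be a finite group and M ≤ N non-trivial proper normal subgroups such that for every g outside N the conjugacy class of g is a union of cosets of M (equivalently gm is conjugate to g for every m ∈ M). Then (1) and (2) below are equivalent, and they imply (3): (1) every g outside N acts fixed-point-freely on M, that is C_G(x) ≤ N for every x ∈ M, x ≠ 1; (2) the index of N in G is coprime to the order of M; (3) there is a subgroup H of G with HN = G and H ∩ M = 1. -/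
theorem result {G : Type*} [Group G] [Finite G] (N M : Subgroup G) [N.Normal] [M.Normal] (hMN : M ≤ N) (hM1 : M ≠ ⊥) (hN2 : N ≠ ⊤)
    (hcam : ∀ g : G, g ∉ N → ∀ m ∈ M, ∃ x : G, x * g * x⁻¹ = g * m) :
    ((∀ x ∈ M, x ≠ 1 → Subgroup.centralizer ({x} : Set G) ≤ N) ↔ N.index.Coprime (Nat.card M)) ∧
    ((∀ x ∈ M, x ≠ 1 → Subgroup.centralizer ({x} : Set G) ≤ N) → ∃ H : Subgroup G, H ⊔ N = ⊤ ∧ H ⊓ M = ⊥) := by
  refine ⟨⟨one_imp_two N M, two_imp_one N M hcam⟩, ?_⟩
  intro h1
  have h2 := one_imp_two N M h1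
  obtain ⟨H, hH1, hH2⟩ := exists_supplement N
  refine ⟨H, hH1, ?_⟩
  by_contra hne
  have hcard : Nat.card ↥(H ⊓ M) ≠ 1 := by
    intro hc
    exact hne (Subgroup.card_eq_one.1 hc)
  obtain ⟨p, hp, hpd⟩ := Nat.exists_prime_and_dvd hcard
  have hpH : p ∣ Nat.card H := hpd.trans (Subgroup.card_dvd_of_le inf_le_left)
  have hpM : p ∣ Nat.card M := hpd.trans (Subgroup.card_dvd_of_le inf_le_right)
  have hpN := hH2 p hp hpH
  have := Nat.dvd_gcd hpN hpM
  rw [h2.gcd_eq_one] at this
  exact hp.one_lt.ne' (Nat.dvd_one.1 this)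

end Cfsg.Agent.S4112
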