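import Mathlib
import Cfsg.Statements.S4113

set_option autoImplicit false
open Cfsg

namespace Cfsg.Agent.S4113

theorem exists_mul_of_sup_eq_top {G : Type*} [Group G] (H M : Subgroup G) [M.Normal]
    (hHM : H ⊔ M = ⊤) (g : G) : ∃ h ∈ H, ∃ m ∈ M, g = h * m := by
  have hg : g ∈ ((H ⊔ M : Subgroup G) : Set G) := by rw [hHM]; trivial
  rw [Subgroup.mul_normal] at hg
  obtain ⟨h, hh, m, hm, rfl⟩ := Set.mem_mul.1 hg
  exact ⟨h, hh, m, hm, rfl⟩

theorem mem_centralizer_singleton {G : Type*} [Group G] (x c : G) :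
    c ∈ Subgroup.centralizer ({x} : Set G) ↔ x * c = c * x := by
  simp [Subgroup.mem_centralizer_iff]

/-- Let G be a finite group, M ≤ N non-trivial proper normal subgroups, and H a subgroup with HM = G and H ∩ M = 1. Then every element of G outside N acts fixed-point-freely on M (C_G(x) ≤ N for every x ∈ M, x ≠ 1) if and only if H ∩ gHg⁻¹ ≤ H ∩ N for every g outside H, with H proper and non-trivial and H ∩ N proper in H. -/
theorem result {G : Type*} [Group G] [Finite G] (N M : Subgroup G) [N.Normal] [M.Normal] (hMN : M ≤ N) (hM1 : M ≠ ⊥) (hN2 : N ≠ ⊤)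
    (H : Subgroup G) (hHM : H ⊔ M = ⊤) (hHM' : H ⊓ M = ⊥) :
    (∀ x ∈ M, x ≠ 1 → Subgroup.centralizer ({x} : Set G) ≤ N) ↔
      (H ≠ ⊥ ∧ H ≠ ⊤ ∧ H ⊓ N < H ∧ ∀ g : G, g ∉ H → H ⊓ H.map (MulAut.conj g).toMonoidHom ≤ N) := by
  have hdisj : ∀ z : G, z ∈ H → z ∈ M → z = 1 := by
    intro z hz1 hz2
    have : z ∈ H ⊓ M := ⟨hz1, hz2⟩
    rw [hHM'] at this
    exact Subgroup.mem_bot.1 this
  constructor
  · intro hC
    refine ⟨?_, ?_, ?_, ?_⟩
    · rintro rfl
      rw [bot_sup_eq] at hHM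
      apply hN2
      rw [eq_top_iff, ← hHM]
      exact hMN
    · rintro rfl
      rw [top_inf_eq] at hHM'
      exact hM1 hHM'
    · refine lt_of_le_of_ne inf_le_left ?_
      intro heq
      have hHN : H ≤ N := by rw [← heq]; exact inf_le_right
      apply hN2
      rw [eq_top_iff, ← hHM]
      exact sup_le hHN hMN
    · intro g hg y hy
      obtain ⟨hy1, hy2⟩ := hy
      obtain ⟨y', hy', hyy⟩ := Subgroup.mem_map.1 hy2
      have hyy' : g * y' * g⁻¹ = y := by simpa using hyy
      obtain ⟨h, hh, m, hm, rfl⟩ := exists_mul_of_sup_eq_top H M hHM g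
      have hm1 : m ≠ 1 := by
        rintro rfl
        apply hg
        simpa using hh
      -- y'' = h⁻¹ y h = m y' m⁻¹
      have hy'' : h⁻¹ * y * h = m * y' * m⁻¹ := by
        rw [← hyy']; group
      have hy''H : h⁻¹ * y * h ∈ H := H.mul_mem (H.mul_mem (H.inv_mem hh) hy1) hh
      have hM' : (m * y' * m⁻¹) * y'⁻¹ ∈ M := by
        have h1 : y' * m⁻¹ * y'⁻¹ ∈ M := ‹M.Normal›.conj_mem _ (M.inv_mem hm) y'
        have h2 : m * (y' * m⁻¹ * y'⁻¹) ∈ M := M.mul_mem hm h1
        have : (m * y' * m⁻¹) * y'⁻¹ = m * (y' * m⁻¹ * y'⁻¹) := by group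
        rw [this]; exact h2
      have hH' : (m * y' * m⁻¹) * y'⁻¹ ∈ H := by
        rw [← hy'']
        exact H.mul_mem hy''H (H.inv_mem hy')
      have h1 := hdisj _ hH' hM'
      have hcomm : m * y' = y' * m := by
        have : m * y' * m⁻¹ = y' := by
          have := congrArg (· * y') h1
          simpa using this
        calc m * y' = (m * y' * m⁻¹) * m := by group
          _ = y' * m := by rw [this]
      have hy'N : y' ∈ N := hC m hm hm1 ((mem_centralizer_singleton m y').2 hcomm)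
      rw [← hyy']
      exact ‹N.Normal›.conj_mem _ hy'N _
  · rintro ⟨_, _, _, hW⟩
    -- Step A
    have hA : ∀ h ∈ H, ∀ x ∈ M, x ≠ 1 → h * x = x * h → h ∈ N := by
      intro h hh x hx hx1 hcomm
      have hxH : x ∉ H := fun hxH => hx1 (hdisj x hxH hx)
      apply hW x hxH
      refine ⟨hh, Subgroup.mem_map.2 ⟨h, hh, ?_⟩⟩
      change x * h * x⁻¹ = h
      rw [← hcomm]; group
    intro x hx hx1 c hc
    rw [mem_centralizer_singleton] at hc
    obtain ⟨h, hh, m, hm, rfl⟩ := exists_mul_of_sup_eq_top H M hHM c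
    by_cases hhN : h ∈ N
    · exact N.mul_mem hhN (hMN hm)
    · exfalso
      -- the map φ on M
      let φ : M → M := fun m' =>
        ⟨(m' : G) * h * (m' : G)⁻¹ * h⁻¹, by
          have h1 : h * (m' : G)⁻¹ * h⁻¹ ∈ M := ‹M.Normal›.conj_mem _ (M.inv_mem m'.2) h
          have : (m' : G) * h * (m' : G)⁻¹ * h⁻¹ = (m' : G) * (h * (m' : G)⁻¹ * h⁻¹) := by group
          rw [this]
          exact M.mul_mem m'.2 h1⟩
      have hinj : Function.Injective φ := by
        intro m1 m2 h12
        have h12' : (m1 : G) * h * (m1 : G)⁻¹ * h⁻¹ = (m2 : G) * h * (m2 : G)⁻¹ * h⁻¹ :=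
          congrArg Subtype.val h12
        have h3 : (m1 : G) * h * (m1 : G)⁻¹ = (m2 : G) * h * (m2 : G)⁻¹ := mul_right_cancel h12'
        have hcomm : h * ((m2 : G)⁻¹ * (m1 : G)) = ((m2 : G)⁻¹ * (m1 : G)) * h := by
          have : h = (m2 : G)⁻¹ * ((m1 : G) * h * (m1 : G)⁻¹) * (m2 : G) := by
            rw [h3]; group
          calc h * ((m2 : G)⁻¹ * (m1 : G))
              = ((m2 : G)⁻¹ * ((m1 : G) * h * (m1 : G)⁻¹) * (m2 : G)) * ((m2 : G)⁻¹ * (m1 : G)) := by
                rw [← this]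
            _ = ((m2 : G)⁻¹ * (m1 : G)) * h := by group
        have hmem : (m2 : G)⁻¹ * (m1 : G) ∈ M := M.mul_mem (M.inv_mem m2.2) m1.2
        by_contra hne
        have hne' : (m2 : G)⁻¹ * (m1 : G) ≠ 1 := by
          intro h1
          apply hne
          apply Subtype.ext
          have := inv_mul_eq_one.1 h1
          exact this.symm
        exact hhN (hA h hh _ hmem hne' hcomm)
      have hsurj : Function.Surjective φ := Finite.injective_iff_surjective.1 hinj
      have hmt : h * m * h⁻¹ ∈ M := ‹M.Normal›.conj_mem _ hm h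
      obtain ⟨m', hm'⟩ := hsurj ⟨h * m * h⁻¹, hmt⟩
      have hm'' : (m' : G) * h * (m' : G)⁻¹ * h⁻¹ = h * m * h⁻¹ := congrArg Subtype.val hm'
      have hc' : h * m = (m' : G) * h * (m' : G)⁻¹ := by
        have := mul_right_cancel hm''
        exact this.symm
      rw [hc'] at hc
      -- h commutes with m'⁻¹ x m'
      have hcomm : h * ((m' : G)⁻¹ * x * (m' : G)) = ((m' : G)⁻¹ * x * (m' : G)) * h := by
        have e1 : h * ((m' : G)⁻¹ * x * (m' : G)) =
            (m' : G)⁻¹ * (((m' : G) * h * (m' : G)⁻¹) * x) * (m' : G) := by group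
        have e2 : ((m' : G)⁻¹ * x * (m' : G)) * h =
            (m' : G)⁻¹ * (x * ((m' : G) * h * (m' : G)⁻¹)) * (m' : G) := by group
        rw [e1, e2, hc]
      have hmem : (m' : G)⁻¹ * x * (m' : G) ∈ M := by
        have := ‹M.Normal›.conj_mem x hx (m' : G)⁻¹
        simpa using this
      have hne : (m' : G)⁻¹ * x * (m' : G) ≠ 1 := by
        intro h1
        apply hx1
        have : x = (m' : G) * ((m' : G)⁻¹ * x * (m' : G)) * (m' : G)⁻¹ := by group
        rw [this, h1]; group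
      exact hhN (hA h hh _ hmem hne hcomm)

end Cfsg.Agent.S4113
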