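-- Statement S4115: TI Hall subgroup of its normalizer: normal complement in the normalizer iff in G,
-- and then H is a Frobenius complement.
import Cfsg.Statements.S4115
import Cfsg.Agent.S0877
import Cfsg.Agent.Lib.Helper86.UniformFix

set_option autoImplicit false
set_option linter.style.haveILetI false
universe u
open Cfsg

namespace Cfsg.Agent.S4115

open Subgroup
open Cfsg.Agent.Lib.Helper33
open scoped Pointwise

variable {G : Type u} [Group G]

/-- TI: an element conjugating a nonidentity element of `H` into `H` normalizes `H`. -/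
theorem mem_normalizer_of_TI (H : Subgroup G) (hTI : Cfsg.IsTISubset (H : Set G)) {g x : G}
    (hx : x ∈ H) (hx1 : x ≠ 1) (hgx : g * x * g⁻¹ ∈ H) : g ∈ normalizer (H : Set G) := by
  by_contra hg
  exact hx1 (hTI g hg x hx hgx)

theorem card_normalizer_eq (H : Subgroup G) :
    Nat.card (normalizer (H : Set G)) =
      Nat.card H * (H.subgroupOf (normalizer (H : Set G))).index := by
  rw [← Subgroup.card_mul_index (H.subgroupOf (normalizer (H : Set G))),
    Nat.card_congr (subgroupOfEquivOfLe (le_normalizer : H ≤ normalizer (H : Set G))).toEquiv]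

/-- `H` is a Hall subgroup of `G`. -/
theorem hall [Finite G] (H : Subgroup G) (hTI : Cfsg.IsTISubset (H : Set G))
    (hHall : (Nat.card H).Coprime (H.subgroupOf (normalizer (H : Set G))).index) :
    (Nat.card H).Coprime H.index := by
  apply Nat.coprime_of_dvd
  intro p hp hpH hpI
  haveI := Fact.mk hp
  obtain ⟨P₁⟩ : Nonempty (Sylow p H) := inferInstance
  set n := (Nat.card H).factorization p with hn
  have hcard₁ : Nat.card (P₁ : Subgroup H) = p ^ n := Sylow.card_eq_multiplicity P₁
  set P : Subgroup G := (P₁ : Subgroup H).map H.subtype with hP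
  have hcardP : Nat.card P = p ^ n := by
    rw [hP, card_map_of_injective H.subtype_injective, hcard₁]
  have hn1 : 1 ≤ n := (hp.dvd_iff_one_le_factorization (Nat.card_pos.ne')).mp hpH
  have hPH : P ≤ H := map_subtype_le _
  have hPne : P ≠ ⊥ := by
    intro h0
    rw [h0, Subgroup.card_bot] at hcardP
    have : 1 < p ^ n := Nat.one_lt_pow (by omega) hp.one_lt
    omega
  obtain ⟨⟨x, hx⟩, hx1'⟩ := (ne_bot_iff_exists_ne_one).mp hPne
  have hx1 : x ≠ 1 := fun h0 => hx1' (Subtype.ext h0)
  have hdvdG : p ^ (n + 1) ∣ Nat.card G := by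
    rw [← Subgroup.card_mul_index H, pow_succ]
    exact mul_dvd_mul (Nat.ordProj_dvd _ p) hpI
  have h1 := Sylow.prime_pow_dvd_card_normalizer hdvdG hcardP
  have hNM : normalizer (P : Set G) ≤ normalizer (H : Set G) := by
    intro g hg
    exact mem_normalizer_of_TI H hTI (hPH hx) hx1 (hPH ((mem_normalizer_iff.mp hg x).mp hx))
  have h2 : p ^ (n + 1) ∣ Nat.card (normalizer (H : Set G)) := dvd_trans h1 (card_dvd_of_le hNM)
  rw [card_normalizer_eq] at h2
  have hcopp : (p ^ (n + 1)).Coprime ((H.subgroupOf (normalizer (H : Set G))).index) :=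
    Nat.Coprime.pow_left _ (Nat.Coprime.coprime_dvd_left hpH hHall)
  have h3 : p ^ (n + 1) ∣ Nat.card H := hcopp.dvd_of_dvd_mul_right h2
  exact Nat.pow_succ_factorization_not_dvd (Nat.card_pos.ne') hp h3

/-- An element of `N_G(H)` whose order divides `|H|` lies in `H`. -/
theorem mem_of_orderOf_dvd [Finite G] (H : Subgroup G)
    (hHall : (Nat.card H).Coprime (H.subgroupOf (normalizer (H : Set G))).index) {e : G}
    (heM : e ∈ normalizer (H : Set G)) (he : orderOf e ∣ Nat.card H) : e ∈ H := by
  set M := normalizer (H : Set G) with hM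
  have h1 : orderOf (QuotientGroup.mk' (H.subgroupOf M) ⟨e, heM⟩) ∣ orderOf e := by
    have h0 := orderOf_map_dvd (QuotientGroup.mk' (H.subgroupOf M)) (⟨e, heM⟩ : M)
    rwa [Subgroup.orderOf_mk] at h0
  have h2 : orderOf (QuotientGroup.mk' (H.subgroupOf M) ⟨e, heM⟩) ∣ (H.subgroupOf M).index := by
    rw [Subgroup.index_eq_card]; exact orderOf_dvd_natCard _
  have h3 : orderOf (QuotientGroup.mk' (H.subgroupOf M) ⟨e, heM⟩) = 1 :=
    Nat.eq_one_of_dvd_coprimes hHall (dvd_trans h1 he) h2
  rw [orderOf_eq_one_iff] at h3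
  have h4 : (⟨e, heM⟩ : M) ∈ H.subgroupOf M := by
    rw [← QuotientGroup.eq_one_iff]; exact h3
  exact mem_subgroupOf.mp h4

/-- Control of fusion in `H`, given a normal complement in the normalizer. -/
theorem fusion (H : Subgroup G) (hTI : Cfsg.IsTISubset (H : Set G))
    (K : Subgroup (normalizer (H : Set G))) (hKn : K.Normal)
    (hKc : K.IsComplement' (H.subgroupOf (normalizer (H : Set G)))) :
    ∀ x ∈ H, ∀ y ∈ H, IsConj x y → ∃ h ∈ H, h * x * h⁻¹ = y := by
  intro x hx y hy hxy
  obtain ⟨g, hg⟩ := isConj_iff.mp hxy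
  by_cases hx1 : x = 1
  · refine ⟨1, H.one_mem, ?_⟩
    rw [hx1] at hg ⊢
    rw [← hg]; group
  · have hgM : g ∈ normalizer (H : Set G) :=
      mem_normalizer_of_TI H hTI hx hx1 (by rw [hg]; exact hy)
    obtain ⟨⟨⟨k, hk⟩, ⟨h, hh⟩⟩, hkh⟩ := (hKc.existsUnique ⟨g, hgM⟩).exists
    have hkh' : k * h = ⟨g, hgM⟩ := hkh
    have hh' : (h : G) ∈ H := mem_subgroupOf.mp hh
    refine ⟨(h : G), hh', ?_⟩
    set xM : normalizer (H : Set G) := ⟨x, le_normalizer hx⟩ with hxM
    have hz : h * xM * h⁻¹ ∈ H.subgroupOf (normalizer (H : Set G)) := by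
      rw [mem_subgroupOf]
      exact H.mul_mem (H.mul_mem hh' hx) (H.inv_mem hh')
    have hcomm : Commute k (h * xM * h⁻¹) :=
      Subgroup.commute_of_normal_of_disjoint K (H.subgroupOf (normalizer (H : Set G))) hKn
        inferInstance hKc.disjoint k (h * xM * h⁻¹) hk hz
    have h1 : (k * h) * xM * (k * h)⁻¹ = h * xM * h⁻¹ := by
      calc (k * h) * xM * (k * h)⁻¹ = k * (h * xM * h⁻¹) * k⁻¹ := by group
        _ = (h * xM * h⁻¹) * k * k⁻¹ := by rw [hcomm.eq]
        _ = h * xM * h⁻¹ := by group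
    rw [hkh'] at h1
    have h2 := congrArg Subtype.val h1
    simp only [Subgroup.coe_mul, Subgroup.coe_inv, hxM] at h2
    rw [← h2]; exact hg

/-- Elementary subgroups of order dividing `|H|` are conjugate into `H`. -/
theorem elem [Finite G] (H : Subgroup G) (hTI : Cfsg.IsTISubset (H : Set G))
    (hHall : (Nat.card H).Coprime (H.subgroupOf (normalizer (H : Set G))).index)
    (hHall' : (Nat.card H).Coprime H.index) :
    ∀ (E : Subgroup G) (p : ℕ), p.Prime → Cfsg.IsElementary p E → Nat.card E ∣ Nat.card H →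
      ∃ g : G, E.map (MulAut.conj g).toMonoidHom ≤ H := by
  intro E p hp hE hdvd
  haveI := Fact.mk hp
  by_cases hE1 : E = ⊥
  · exact ⟨1, by rw [hE1, Subgroup.map_bot]; exact bot_le⟩
  have hnil : Group.IsNilpotent E := by
    obtain ⟨x, hxc, hxp, k, hk⟩ := hE
    have hle : zpowers x ≤ center E := zpowers_le.mpr hxc
    haveI : (zpowers x).Normal :=
      ⟨fun y hy w => by
        have : w * y * w⁻¹ = y := by
          have h1 := mem_center_iff.mp (hle hy) w
          rw [h1]; group
        rw [this]; exact hy⟩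
    haveI : Group.IsNilpotent (E ⧸ zpowers x) := by
      have h1 : IsPGroup p (E ⧸ zpowers x) :=
        IsPGroup.of_card (n := k) (by rw [← hk, Subgroup.index_eq_card])
      exact h1.isNilpotent
    apply Subgroup.isNilpotent_of_ker_le_center (QuotientGroup.mk' (zpowers x))
    rw [QuotientGroup.ker_mk']; exact hle
  have hcardE : Nat.card E ≠ 1 := by
    intro h0; exact hE1 (Subgroup.card_eq_one.mp h0)
  obtain ⟨r, hr, hrE⟩ := Nat.exists_prime_and_dvd hcardE
  haveI := Fact.mk hr
  obtain ⟨R⟩ : Nonempty (Sylow r E) := inferInstance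
  haveI hRn : (R : Subgroup E).Normal := inferInstance
  set R' : Subgroup G := (R : Subgroup E).map E.subtype with hR'
  have hR'E : R' ≤ E := map_subtype_le _
  have hR'r : IsPGroup r R' := R.isPGroup'.map E.subtype
  have hR'ne : R' ≠ ⊥ := by
    intro h0
    have h1 : (R : Subgroup E) = ⊥ := (map_eq_bot_iff_of_injective _ E.subtype_injective).mp h0
    exact Sylow.ne_bot_of_dvd_card R hrE h1
  have hER' : E ≤ normalizer (R' : Set G) := by
    intro e he
    rw [mem_normalizer_iff]
    intro z
    constructor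
    · rintro ⟨w, hw, rfl⟩
      exact ⟨⟨e, he⟩ * w * ⟨e, he⟩⁻¹, hRn.conj_mem w hw ⟨e, he⟩, by simp⟩
    · rintro ⟨w, hw, hwz⟩
      have h1 := hRn.conj_mem w hw ⟨e, he⟩⁻¹
      refine ⟨_, h1, ?_⟩
      have h2 : E.subtype w = e * z * e⁻¹ := hwz
      simp only [map_mul, map_inv, Subgroup.subtype_apply] at h2 ⊢
      rw [h2]; group
  -- a Sylow `r`-subgroup of `G` inside `H`
  have hrH : r ∣ Nat.card H := dvd_trans hrE hdvd
  obtain ⟨P₁⟩ : Nonempty (Sylow r H) := inferInstance
  set P : Subgroup G := (P₁ : Subgroup H).map H.subtype with hP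
  have hPH : P ≤ H := map_subtype_le _
  have hPr : IsPGroup r P := P₁.isPGroup'.map H.subtype
  have hPi : ¬ r ∣ P.index := by
    rw [hP, Subgroup.index_map_subtype]
    intro h0
    rcases (Nat.Prime.dvd_mul hr).mp h0 with h1 | h1
    · exact Sylow.not_dvd_index P₁ h1
    · have h2 : r ∣ Nat.gcd (Nat.card H) H.index := Nat.dvd_gcd hrH h1
      rw [hHall'] at h2
      exact hr.one_lt.ne' (Nat.dvd_one.mp h2)
  set PS : Sylow r G := hPr.toSylow hPi with hPS
  obtain ⟨Q, hQ⟩ := hR'r.exists_le_sylow
  obtain ⟨g, hg⟩ := MulAction.exists_smul_eq G Q PS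
  refine ⟨g, ?_⟩
  rw [← cj_def]
  have h1 : cj g R' ≤ H := by
    have h2 : cj g R' ≤ cj g (Q : Subgroup G) := cj_mono hQ
    rw [← sylow_coe_smul, hg, hPS, IsPGroup.toSylow_coe] at h2
    exact le_trans h2 hPH
  obtain ⟨⟨y, hy⟩, hy1'⟩ := (ne_bot_iff_exists_ne_one).mp (fun h0 => hR'ne (cj_eq_bot_iff.mp h0) :
    cj g R' ≠ ⊥)
  have hy1 : y ≠ 1 := fun h0 => hy1' (Subtype.ext h0)
  intro e he
  have hnorm : e ∈ normalizer ((cj g R' : Subgroup G) : Set G) := by
    rw [normalizer_cj]
    exact cj_mono hER' he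
  have heM : e ∈ normalizer (H : Set G) :=
    mem_normalizer_of_TI H hTI (h1 hy) hy1 (h1 ((mem_normalizer_iff.mp hnorm y).mp hy))
  apply mem_of_orderOf_dvd H hHall heM
  have h3 : orderOf e ∣ Nat.card (cj g E) := Subgroup.orderOf_dvd_natCard _ he
  rw [card_cj] at h3
  exact dvd_trans h3 hdvd

/-- Let G be a finite group and H a subgroup that meets each of its conjugates by elements outside N_G(H) trivially and whose order is coprime to its index in N_G(H). Then H has a normal complement in N_G(H) if and only if H has a normal complement in G. Moreover, if H is not normal in G and has a normal complement in N_G(H), then H is isomorphic to a Frobenius complement of some finite Frobenius group. -/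
theorem result {G : Type u} [Group G] [Finite G] (H : Subgroup G)
    (hTI : Cfsg.IsTISubset (H : Set G)) (hHall : (Nat.card H).Coprime (H.subgroupOf (Subgroup.normalizer (H : Set G))).index) :
    ((∃ K : Subgroup (Subgroup.normalizer (H : Set G)), K.Normal ∧ K.IsComplement' (H.subgroupOf (Subgroup.normalizer (H : Set G)))) ↔
      (∃ N : Subgroup G, N.Normal ∧ N.IsComplement' H)) ∧
    (¬ H.Normal → (∃ K : Subgroup (Subgroup.normalizer (H : Set G)), K.Normal ∧ K.IsComplement' (H.subgroupOf (Subgroup.normalizer (H : Set G)))) →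
      ∃ (F : Type u) (_ : Group F) (_ : Finite F) (C : Subgroup F), Cfsg.IsFrobeniusComplement C ∧ Nonempty (H ≃* C)) := by
  classical
  have hHall' := hall H hTI hHall
  have part1 : (∃ K : Subgroup (Subgroup.normalizer (H : Set G)), K.Normal ∧
      K.IsComplement' (H.subgroupOf (Subgroup.normalizer (H : Set G)))) ↔
      (∃ N : Subgroup G, N.Normal ∧ N.IsComplement' H) := by
    constructor
    · rintro ⟨K, hKn, hKc⟩
      obtain ⟨N, hNn, hsup, hinf⟩ := Cfsg.Agent.S0877.result H hHall'
        (fusion H hTI K hKn hKc) (elem H hTI hHall hHall')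
      refine ⟨N, hNn, ?_⟩
      apply isComplement'_of_disjoint_and_mul_eq_univ (disjoint_iff.mpr hinf)
      haveI := hNn
      rw [← Subgroup.normal_mul, hsup, Subgroup.coe_top]
    · rintro ⟨N, hNn, hNc⟩
      refine ⟨N.subgroupOf (normalizer (H : Set G)), hNn.subgroupOf _, ?_⟩
      apply isComplement'_of_disjoint_and_mul_eq_univ
      · rw [disjoint_def]
        intro z hzN hzH
        apply Subtype.ext
        exact (disjoint_def.mp hNc.disjoint) (mem_subgroupOf.mp hzN) (mem_subgroupOf.mp hzH)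
      · rw [Set.eq_univ_iff_forall]
        intro m
        obtain ⟨⟨⟨n, hn⟩, ⟨h, hh⟩⟩, hnh⟩ := (hNc.existsUnique (m : G)).exists
        have hnh' : n * h = (m : G) := hnh
        have hhM : h ∈ normalizer (H : Set G) := le_normalizer hh
        have hnM : n ∈ normalizer (H : Set G) := by
          have : n = (m : G) * h⁻¹ := by rw [← hnh']; group
          rw [this]
          exact (normalizer (H : Set G)).mul_mem m.2 ((normalizer (H : Set G)).inv_mem hhM)
        refine Set.mem_mul.mpr ⟨⟨n, hnM⟩, mem_subgroupOf.mpr hn, ⟨h, hhM⟩, mem_subgroupOf.mpr hh,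
          Subtype.ext hnh'⟩
  refine ⟨part1, ?_⟩
  intro hnn hK
  obtain ⟨N, hNn, hNc⟩ := part1.mp hK
  have hdisj : ∀ z : G, z ∈ N → z ∈ H → z = 1 := fun z h1 h2 =>
    (disjoint_def.mp hNc.disjoint) h1 h2
  -- elements of `N` normalizing `H` centralize `H`
  have hcentr : ∀ n ∈ N, n ∈ normalizer (H : Set G) → n ∈ centralizer (H : Set G) := by
    intro n hn hnM
    rw [mem_centralizer_iff]
    intro y hy
    have h1 : n * y * n⁻¹ * y⁻¹ ∈ N := by
      have h2 : y * n⁻¹ * y⁻¹ ∈ N := hNn.conj_mem _ (N.inv_mem hn) y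
      have h3 : n * y * n⁻¹ * y⁻¹ = n * (y * n⁻¹ * y⁻¹) := by group
      rw [h3]; exact N.mul_mem hn h2
    have h2 : n * y * n⁻¹ * y⁻¹ ∈ H :=
      H.mul_mem ((mem_normalizer_iff.mp hnM y).mp hy) (H.inv_mem hy)
    have h3 := hdisj _ h1 h2
    have h4 : n * y = (n * y * n⁻¹ * y⁻¹) * (y * n) := by group
    rw [h4, h3, one_mul]
  have hctx : Cfsg.Agent.Lib.Helper86.UniformFix.Ctx H N :=
    { nN := hNn
      cop := by rw [← hNc.index_eq_card]; exact hHall'
      fix := by
        intro h hh hh1 n hn hc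
        apply hcentr n hn
        apply mem_normalizer_of_TI H hTI hh hh1
        have : n * h * n⁻¹ = h := by rw [hc]; group
        rw [this]; exact hh
      ne := by
        intro hle
        apply hnn
        rw [← normalizer_eq_top_iff, eq_top_iff]
        intro g _
        obtain ⟨⟨⟨n, hn⟩, ⟨h, hh⟩⟩, hnh⟩ := (hNc.existsUnique g).exists
        have hnh' : n * h = g := hnh
        rw [← hnh']
        exact (normalizer (H : Set G)).mul_mem (centralizer_le_normalizer _ (hle hn))
          (le_normalizer hh) }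
  exact hctx.frob

end Cfsg.Agent.S4115
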