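import Mathlib
import Cfsg.Statements.S4116

set_option autoImplicit false
open Cfsg

namespace Cfsg.Agent.S4116

theorem arith {ι : Type*} [Fintype ι] [Nonempty ι] (n : ℕ) (hn : 0 < n) (s : ι → ℕ)
    (hs : ∀ i, s i ∣ n)
    (hsum : (∑ _i : ι, n) + 1 = (∑ i : ι, n / s i) + n) : ∃ i, s i = n := by
  classical
  by_contra hcon
  rw [not_exists] at hcon
  have hspos : ∀ i, 0 < s i := fun i => Nat.pos_of_dvd_of_pos (hs i) hn
  -- d i = n / s i, with 2 ≤ d i, d i ∣ n
  have hd2 : ∀ i, 2 ≤ n / s i := by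
    intro i
    obtain ⟨c, hc⟩ := hs i
    have hc0 : c ≠ 0 := by
      rintro rfl; rw [mul_zero] at hc; omega
    have hc1 : c ≠ 1 := by
      rintro rfl; rw [mul_one] at hc; exact hcon i hc.symm
    have : n / s i = c := by
      rw [hc]; exact Nat.mul_div_cancel_left c (hspos i)
    rw [this]; omega
  have hdn : ∀ i, n / s i ≤ n := fun i => Nat.div_le_self _ _
  -- 2 * (n - d i) ≥ n whenever d i < n
  have hhalf : ∀ i, n / s i < n → n ≤ 2 * (n - n / s i) := by
    intro i hi
    have hsi : 2 ≤ s i := by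
      by_contra h
      have : s i = 1 := by have := hspos i; omega
      rw [this, Nat.div_one] at hi; omega
    have : n / s i * s i ≤ n := Nat.div_mul_le_self n (s i)
    have : n / s i * 2 ≤ n / s i * s i := Nat.mul_le_mul_left _ hsi
    omega
  -- the key identity
  have hkey : ∑ i : ι, (n - n / s i) + 1 = n := by
    have h1 : ∑ i : ι, (n - n / s i) + ∑ i : ι, n / s i = ∑ _i : ι, n := by
      rw [← Finset.sum_add_distrib]
      apply Finset.sum_congr rfl
      intro i _
      exact Nat.sub_add_cancel (hdn i)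
    omega
  let A : Finset ι := Finset.univ.filter (fun i => n / s i < n)
  have hA : ∑ i : ι, (n - n / s i) = ∑ i ∈ A, (n - n / s i) := by
    symm
    apply Finset.sum_subset (Finset.subset_univ A)
    intro i _ hi
    have : ¬ n / s i < n := by
      intro h; exact hi (Finset.mem_filter.2 ⟨Finset.mem_univ i, h⟩)
    have := hdn i
    omega
  have hAcard : A.card * n ≤ 2 * ∑ i ∈ A, (n - n / s i) := by
    rw [Finset.mul_sum, ← smul_eq_mul, ← Finset.sum_const]
    apply Finset.sum_le_sum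
    intro i hi
    exact hhalf i (Finset.mem_filter.1 hi).2
  have hAle : A.card ≤ 1 := by
    by_contra h
    have h2 : 2 ≤ A.card := by omega
    have : 2 * n ≤ A.card * n := Nat.mul_le_mul_right n h2
    omega
  have hn2 : 2 ≤ n := by
    obtain ⟨i⟩ := ‹Nonempty ι›
    have := hd2 i
    have := hdn i
    omega
  rcases Nat.le_one_iff_eq_zero_or_eq_one.1 hAle with h0 | h1
  · have : A = ∅ := Finset.card_eq_zero.1 h0
    rw [this, Finset.sum_empty] at hA
    omega
  · obtain ⟨i0, hi0⟩ := Finset.card_eq_one.1 h1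
    rw [hi0, Finset.sum_singleton] at hA
    have := hd2 i0
    omega


open MulAction in
theorem global_fixed_point {K Ω : Type*} [Group K] [Finite K] [MulAction K Ω] [Finite Ω] [Nonempty Ω]
    (h : ∀ k : K, k ≠ 1 → ∃! ω : Ω, k • ω = ω) : ∃ ω : Ω, ∀ k : K, k • ω = ω := by
  classical
  haveI : Fintype K := Fintype.ofFinite K
  haveI : Fintype Ω := Fintype.ofFinite Ω
  haveI : Fintype (Quotient (orbitRel K Ω)) := Fintype.ofFinite _
  haveI : Nonempty (Quotient (orbitRel K Ω)) := by
    obtain ⟨ω⟩ := ‹Nonempty Ω›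
    exact ⟨Quotient.mk'' ω⟩
  have hburn := sum_card_fixedBy_eq_card_orbits_mul_card_group K Ω
  have hclass := card_eq_sum_card_group_div_card_stabilizer K Ω
  have hfix : ∀ k : K, Fintype.card (fixedBy Ω k) = if k = 1 then Fintype.card Ω else 1 := by
    intro k
    split_ifs with hk
    · subst hk
      have : fixedBy Ω (1 : K) = Set.univ := by
        ext ω; simp [mem_fixedBy]
      rw [Fintype.card_congr (Equiv.setCongr this), Fintype.card_congr (Equiv.Set.univ Ω)]
    · obtain ⟨ω, hω, huniq⟩ := h k hk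
      rw [Fintype.card_eq_one_iff]
      refine ⟨⟨ω, hω⟩, ?_⟩
      rintro ⟨ω', hω'⟩
      exact Subtype.ext (huniq ω' hω')
  have hsum1 : (∑ k : K, Fintype.card (fixedBy Ω k)) + 1 = Fintype.card Ω + Fintype.card K := by
    simp_rw [hfix]
    rw [Finset.sum_ite, Finset.sum_const, Finset.sum_const]
    have h1 : (Finset.univ.filter (fun k : K => k = 1)) = {1} := by
      ext k; simp
    have h2 : (Finset.univ.filter (fun k : K => ¬ k = 1)).card + 1 = Fintype.card K := by
      have := Finset.card_filter_add_card_filter_not (s := (Finset.univ : Finset K)) (fun k : K => k = 1)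
      rw [h1, Finset.card_singleton, Finset.card_univ] at this
      omega
    rw [h1, Finset.card_singleton]
    simp only [smul_eq_mul, one_mul, mul_one]
    omega
  have hn : 0 < Fintype.card K := Fintype.card_pos
  obtain ⟨ω, hω⟩ := arith (ι := Quotient (orbitRel K Ω)) (Fintype.card K) hn
    (fun ω => Fintype.card (stabilizer K ω.out))
    (fun ω => by
      have := Subgroup.card_subgroup_dvd_card (stabilizer K ω.out)
      simpa [Nat.card_eq_fintype_card] using this)
    (by
      rw [Finset.sum_const, Finset.card_univ, smul_eq_mul, ← hclass, ← hburn]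
      exact hsum1)
  refine ⟨ω.out, fun k => ?_⟩
  have htop : stabilizer K ω.out = ⊤ := by
    apply Subgroup.eq_top_of_card_eq
    simpa [Nat.card_eq_fintype_card] using hω
  have : k ∈ stabilizer K ω.out := by rw [htop]; trivial
  exact this


section ti
variable {G : Type*} [Group G] [Finite G] (H : Subgroup G)

theorem mem_of_mem_normalizer (y : G) (hy : y ∈ Subgroup.normalizer (H : Set G))
    (hcop : (orderOf y).Coprime H.index) : y ∈ H := by
  set Nm := Subgroup.normalizer (H : Set G) with hNm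
  let H' : Subgroup Nm := H.subgroupOf Nm
  haveI : H'.Normal := Subgroup.normal_in_normalizer
  let y' : Nm := ⟨y, hy⟩
  have h1 : orderOf (QuotientGroup.mk' H' y') ∣ orderOf y := by
    have := orderOf_map_dvd (QuotientGroup.mk' H') y'
    rwa [Subgroup.orderOf_mk] at this
  have h2 : orderOf (QuotientGroup.mk' H' y') ∣ H.index := by
    have h3 : orderOf (QuotientGroup.mk' H' y') ∣ Nat.card (Nm ⧸ H') := orderOf_dvd_natCard _
    have h4 : Nat.card (Nm ⧸ H') = H.relIndex Nm := rfl
    rw [h4] at h3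
    exact h3.trans (Subgroup.relIndex_dvd_index_of_le Subgroup.le_normalizer)
  have h5 : orderOf (QuotientGroup.mk' H' y') ∣ 1 := by
    have := Nat.dvd_gcd h1 h2
    rwa [hcop.gcd_eq_one] at this
  have h6 : QuotientGroup.mk' H' y' = 1 := orderOf_eq_one_iff.1 (Nat.dvd_one.1 h5)
  have h7 : y' ∈ H' := (QuotientGroup.eq_one_iff _).1 h6
  exact h7

theorem mem_normalizer_of_ti (hTI : Cfsg.IsTISubset (H : Set G)) (g x : G) (hx : x ∈ H)
    (hx1 : x ≠ 1) (hgx : g * x * g⁻¹ ∈ H) : g ∈ Subgroup.normalizer (H : Set G) := by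
  by_contra hg
  exact hx1 (hTI g hg x hx hgx)

theorem exists_conj_mem (hTI : Cfsg.IsTISubset (H : Set G)) (y : G) (hy1 : y ≠ 1)
    (hcop : (orderOf y).Coprime H.index) : ∃ a : G, a⁻¹ * y * a ∈ H := by
  have hox1 : orderOf y ≠ 1 := by rw [Ne, orderOf_eq_one_iff]; exact hy1
  obtain ⟨q, hq, hqy⟩ := Nat.exists_prime_and_dvd hox1
  haveI : Fact q.Prime := ⟨hq⟩
  have hoy0 : orderOf y ≠ 0 := (orderOf_pos y).ne'
  set z := y ^ (orderOf y / q) with hz
  have hzo : orderOf z = q := orderOf_pow_orderOf_div hoy0 hqy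
  have hz1 : z ≠ 1 := by
    intro h; rw [h, orderOf_one] at hzo; exact hq.ne_one hzo.symm
  have hqidx : ¬ q ∣ H.index := by
    intro h
    have := Nat.dvd_gcd hqy h
    rw [hcop.gcd_eq_one] at this
    exact hq.one_lt.ne' (Nat.dvd_one.1 this)
  have hQ : IsPGroup q (Subgroup.zpowers z) := by
    apply IsPGroup.of_card (n := 1)
    rw [Nat.card_zpowers, hzo, pow_one]
  have hidx : ¬ q ∣ Nat.card (G ⧸ H) := hqidx
  obtain ⟨ω, hω⟩ := hQ.nonempty_fixed_point_of_prime_not_dvd_card (G ⧸ H) hidx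
  obtain ⟨a, rfl⟩ := QuotientGroup.mk_surjective ω
  have hza : (⟨z, Subgroup.mem_zpowers z⟩ : Subgroup.zpowers z) • (a : G ⧸ H) = (a : G ⧸ H) :=
    hω _
  have hza' : ((z * a : G) : G ⧸ H) = (a : G ⧸ H) := hza
  have hz' : a⁻¹ * z * a ∈ H := by
    have := QuotientGroup.eq.1 hza'
    have h2 : (a⁻¹ * z * a)⁻¹ ∈ H := by
      have e : (a⁻¹ * z * a)⁻¹ = (z * a)⁻¹ * a := by group
      rw [e]; exact this
    exact (Subgroup.inv_mem_iff H).1 h2
  have hz'1 : a⁻¹ * z * a ≠ 1 := by
    intro h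
    apply hz1
    have : z = a * (a⁻¹ * z * a) * a⁻¹ := by group
    rw [this, h]; group
  refine ⟨a, ?_⟩
  have hcomm : Commute y z := (Commute.refl y).pow_right _
  have hconj : (a⁻¹ * y * a) * (a⁻¹ * z * a) * (a⁻¹ * y * a)⁻¹ = a⁻¹ * z * a := by
    have : y * z * y⁻¹ = z := by rw [hcomm.eq]; group
    calc (a⁻¹ * y * a) * (a⁻¹ * z * a) * (a⁻¹ * y * a)⁻¹ = a⁻¹ * (y * z * y⁻¹) * a := by group
      _ = a⁻¹ * z * a := by rw [this]
  have hnorm : a⁻¹ * y * a ∈ Subgroup.normalizer (H : Set G) :=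
    mem_normalizer_of_ti H hTI _ _ hz' hz'1 (by rw [hconj]; exact hz')
  have hord : orderOf (a⁻¹ * y * a) = orderOf y := by
    have : a⁻¹ * y * a = MulAut.conj a⁻¹ y := by simp
    rw [this]; exact MulEquiv.orderOf_eq _ _
  exact mem_of_mem_normalizer H _ hnorm (by rw [hord]; exact hcop)

theorem conj_unique (hTI : Cfsg.IsTISubset (H : Set G)) (y : G) (hy1 : y ≠ 1) (a b : G)
    (ha : a⁻¹ * y * a ∈ H) (hb : b⁻¹ * y * b ∈ H) : a⁻¹ * b ∈ Subgroup.normalizer (H : Set G) := by
  apply mem_normalizer_of_ti H hTI (a⁻¹ * b) (b⁻¹ * y * b) hb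
  · intro h
    apply hy1
    have : y = b * (b⁻¹ * y * b) * b⁻¹ := by group
    rw [this, h]; group
  · have : a⁻¹ * b * (b⁻¹ * y * b) * (a⁻¹ * b)⁻¹ = a⁻¹ * y * a := by group
    rw [this]; exact ha

end ti

/-- Let G be a finite group with a subgroup H whose order is coprime to its index (a Hall subgroup) and which meets each of its conjugates by elements outside N_G(H) trivially. Then every subgroup of G whose order is divisible only by primes dividing the order of H lies in a conjugate of H. -/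
theorem result {G : Type*} [Group G] [Finite G] (H : Subgroup G)
    (hHall : (Nat.card H).Coprime H.index) (hTI : Cfsg.IsTISubset (H : Set G))
    (K : Subgroup G) (hK : ∀ q : ℕ, q.Prime → q ∣ Nat.card K → q ∣ Nat.card H) :
    ∃ g : G, K ≤ H.map (MulAut.conj g).toMonoidHom := by
  have hKcop : (Nat.card K).Coprime H.index := by
    by_contra hnc
    obtain ⟨q, hq, hqK, hqI⟩ := Nat.Prime.not_coprime_iff_dvd.1 hnc
    have hqH := hK q hq hqK
    have := Nat.dvd_gcd hqH hqI
    rw [hHall.gcd_eq_one] at this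
    exact hq.one_lt.ne' (Nat.dvd_one.1 this)
  have hkcop : ∀ k ∈ K, (orderOf k).Coprime H.index := fun k hk =>
    Nat.Coprime.coprime_dvd_left (Subgroup.orderOf_dvd_natCard K hk) hKcop
  set Nm := Subgroup.normalizer (H : Set G) with hNm
  have hfixiff : ∀ (k : K) (a : G), k • (a : G ⧸ Nm) = (a : G ⧸ Nm) ↔ a⁻¹ * (k : G) * a ∈ H := by
    intro k a
    have h1 : k • (a : G ⧸ Nm) = (((k : G) * a : G) : G ⧸ Nm) := rfl
    rw [h1, QuotientGroup.eq]
    have e : ((k : G) * a)⁻¹ * a = (a⁻¹ * (k : G) * a)⁻¹ := by group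
    rw [e, Subgroup.inv_mem_iff]
    constructor
    · intro h
      have hord : orderOf (a⁻¹ * (k : G) * a) = orderOf (k : G) := by
        have : a⁻¹ * (k : G) * a = MulAut.conj a⁻¹ (k : G) := by simp
        rw [this]; exact MulEquiv.orderOf_eq _ _
      exact mem_of_mem_normalizer H _ h (by rw [hord]; exact hkcop k k.2)
    · intro h
      exact Subgroup.le_normalizer h
  have huniq : ∀ k : K, k ≠ 1 → ∃! ω : G ⧸ Nm, k • ω = ω := by
    intro k hk1
    have hk1' : (k : G) ≠ 1 := fun h => hk1 (Subtype.ext h)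
    obtain ⟨a, ha⟩ := exists_conj_mem H hTI (k : G) hk1' (hkcop k k.2)
    refine ⟨(a : G ⧸ Nm), (hfixiff k a).2 ha, ?_⟩
    intro ω hω
    obtain ⟨b, rfl⟩ := QuotientGroup.mk_surjective ω
    have hb := (hfixiff k b).1 hω
    have := conj_unique H hTI (k : G) hk1' a b ha hb
    exact (QuotientGroup.eq.2 this).symm
  obtain ⟨ω, hω⟩ := global_fixed_point (K := K) (Ω := G ⧸ Nm) huniq
  obtain ⟨a, rfl⟩ := QuotientGroup.mk_surjective ω
  refine ⟨a, ?_⟩
  intro k hk
  have := (hfixiff ⟨k, hk⟩ a).1 (hω ⟨k, hk⟩)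
  refine Subgroup.mem_map.2 ⟨a⁻¹ * k * a, this, ?_⟩
  simp only [MulEquiv.coe_toMonoidHom, MulAut.conj_apply]
  group

end Cfsg.Agent.S4116
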