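import Cfsg.Statements.S4117
import Cfsg.Agent.Lib.Helper24.Coprime
import Cfsg.Agent.Lib.Helper24.CoprimeAbelian
import Cfsg.Agent.Lib.Helper46.UniqueOrderP
import Cfsg.Agent.Lib.Helper86.Ess

set_option autoImplicit false
open Cfsg

namespace Cfsg.Agent.S4117

open scoped commutatorElement

variable {G A : Type*} [Group G] [Group A] [MulDistribMulAction A G]

/-- The subgroup `[G, A]`. -/
def commGA (G A : Type*) [Group G] [Group A] [MulDistribMulAction A G] : Subgroup G :=
  Subgroup.closure {y : G | ∃ (a : A) (g : G), y = g⁻¹ * a • g}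

theorem gen_mem (a : A) (g : G) : g⁻¹ * a • g ∈ commGA G A :=
  Subgroup.subset_closure ⟨a, g, rfl⟩

theorem commGA_normal : (commGA G A).Normal := by
  refine ⟨fun n hn g => ?_⟩
  induction hn using Subgroup.closure_induction with
  | mem y hy =>
    obtain ⟨a, x, rfl⟩ := hy
    have h1 : g * (x⁻¹ * a • x) * g⁻¹ =
        ((x * g⁻¹)⁻¹ * a • (x * g⁻¹)) * ((g⁻¹)⁻¹ * a • g⁻¹)⁻¹ := by
      rw [smul_mul', smul_inv']
      group
    rw [h1]
    exact (commGA G A).mul_mem (gen_mem a _) ((commGA G A).inv_mem (gen_mem a _))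
  | one => simp
  | mul x y _ _ hx hy =>
    have : g * (x * y) * g⁻¹ = (g * x * g⁻¹) * (g * y * g⁻¹) := by group
    rw [this]; exact (commGA G A).mul_mem hx hy
  | inv x _ hx =>
    have : g * x⁻¹ * g⁻¹ = (g * x * g⁻¹)⁻¹ := by group
    rw [this]; exact (commGA G A).inv_mem hx

/-- Two endomorphisms preserving a cyclic subgroup commute on its generator. -/
theorem endo_comm (t : G) (θ₁ θ₂ : G →* G) (h1 : θ₁ t ∈ Subgroup.zpowers t)
    (h2 : θ₂ t ∈ Subgroup.zpowers t) : θ₁ (θ₂ t) = θ₂ (θ₁ t) := by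
  obtain ⟨m1, hm1⟩ := Subgroup.mem_zpowers_iff.mp h1
  obtain ⟨m2, hm2⟩ := Subgroup.mem_zpowers_iff.mp h2
  rw [← hm1, ← hm2, map_zpow, map_zpow, ← hm1, ← hm2, ← zpow_mul, ← zpow_mul, mul_comm]

theorem smul_mem_commutator (a : A) (x : G) (hx : x ∈ commutator G) : a • x ∈ commutator G := by
  have hchar : (commutator G).Characteristic := inferInstance
  have := Subgroup.characteristic_iff_map_eq.mp hchar (MulDistribMulAction.toMulAut A G a)
  rw [← this]
  exact Subgroup.mem_map.mpr ⟨x, hx, rfl⟩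

theorem commGA_le_centralizer [Finite G] (hcyc : IsCyclic (commutator G)) :
    commGA G A ≤ Subgroup.centralizer ((commutator G : Subgroup G) : Set G) := by
  obtain ⟨t, ht⟩ := hcyc.exists_generator
  have htG : ∀ c ∈ commutator G, c ∈ Subgroup.zpowers (t : G) := by
    intro c hc
    obtain ⟨k, hk⟩ := Subgroup.mem_zpowers_iff.mp (ht ⟨c, hc⟩)
    exact Subgroup.mem_zpowers_iff.mpr ⟨k, by
      have := congrArg Subtype.val hk
      simpa using this⟩
  unfold commGA
  rw [Subgroup.closure_le]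
  rintro y ⟨a, g, rfl⟩
  rw [SetLike.mem_coe, Subgroup.mem_centralizer_iff]
  -- it suffices to commute with t
  have key : (g⁻¹ * a • g) * (t : G) = (t : G) * (g⁻¹ * a • g) := by
    -- θ₁ = conj g, θ₂ = action of a
    set θ₁ : G →* G := (MulAut.conj g).toMonoidHom with hθ₁
    set θ₂ : G →* G := (MulDistribMulAction.toMulAut A G a).toMonoidHom with hθ₂
    have hn : (commutator G).Normal := inferInstance
    have h1 : θ₁ (t : G) ∈ Subgroup.zpowers (t : G) :=
      htG _ (by simpa [hθ₁] using hn.conj_mem _ t.2 g)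
    have h2 : θ₂ (t : G) ∈ Subgroup.zpowers (t : G) :=
      htG _ (by simpa [hθ₂] using smul_mem_commutator a _ t.2)
    -- s = a⁻¹ • t is a power of t
    have hs : a⁻¹ • (t : G) ∈ Subgroup.zpowers (t : G) := htG _ (smul_mem_commutator a⁻¹ _ t.2)
    obtain ⟨k, hk⟩ := Subgroup.mem_zpowers_iff.mp hs
    have hcomm := endo_comm (t : G) θ₁ θ₂ h1 h2
    -- (a • g) * t * (a • g)⁻¹ = θ₂ (θ₁ (a⁻¹ • t))
    have e1 : (a • g) * (t : G) * (a • g)⁻¹ = θ₂ (θ₁ (a⁻¹ • (t : G))) := by
      simp [hθ₁, hθ₂, smul_mul', smul_inv']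
    have e2 : θ₂ (θ₁ (a⁻¹ • (t : G))) = θ₁ (θ₂ (a⁻¹ • (t : G))) := by
      rw [← hk, map_zpow, map_zpow, map_zpow, map_zpow, hcomm]
    have e3 : θ₂ (a⁻¹ • (t : G)) = (t : G) := by simp [hθ₂]
    have e4 : (a • g) * (t : G) * (a • g)⁻¹ = g * (t : G) * g⁻¹ := by
      rw [e1, e2, e3]; simp [hθ₁]
    have : (a • g) * (t : G) = g * (t : G) * g⁻¹ * (a • g) := by
      rw [← e4]; group
    calc (g⁻¹ * a • g) * (t : G) = g⁻¹ * ((a • g) * (t : G)) := by group
      _ = g⁻¹ * (g * (t : G) * g⁻¹ * (a • g)) := by rw [this]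
      _ = (t : G) * (g⁻¹ * a • g) := by group
  intro c hc
  obtain ⟨k, hk⟩ := Subgroup.mem_zpowers_iff.mp (htG c hc)
  rw [← hk]
  exact ((Commute.zpow_right (show Commute (g⁻¹ * a • g) (t : G) from key) k).eq).symm


theorem isZGroup_of (hcyc : ∀ (p : ℕ) [Fact p.Prime] (P : Sylow p G), IsCyclic (P : Subgroup G)) :
    IsZGroup G :=
  ⟨fun p hp P => by haveI := Fact.mk hp; exact hcyc p P⟩

theorem commGA_isCyclic [Finite G] [IsZGroup G] : IsCyclic (commGA G A) := by
  have hcycC : IsCyclic (commutator G) := IsZGroup.isCyclic_commutator G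
  set Cn : Subgroup G := Subgroup.centralizer ((commutator G : Subgroup G) : Set G) with hCn
  have hle : commGA G A ≤ Cn := commGA_le_centralizer hcycC
  -- Cn is nilpotent
  have hnil : Group.IsNilpotent Cn := by
    haveI : Group.IsNilpotent (Cn ⧸ commutator Cn) :=
      CommGroup.isNilpotent (G := Abelianization Cn)
    refine Subgroup.isNilpotent_of_ker_le_center (QuotientGroup.mk' (commutator Cn)) ?_
    rw [QuotientGroup.ker_mk']
    intro x hx
    rw [Subgroup.mem_center_iff]
    intro y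
    have hxG : (x : G) ∈ commutator G := by
      have h1 : (x : G) ∈ (commutator Cn).map Cn.subtype := Subgroup.mem_map.mpr ⟨x, hx, rfl⟩
      rw [Subgroup.map_subtype_commutator] at h1
      rw [commutator_def]
      exact Subgroup.commutator_mono le_top le_top h1
    have := (Subgroup.mem_centralizer_iff.mp y.2) (x : G) hxG
    exact Subtype.ext this.symm
  haveI := hnil
  have hcycCn : IsCyclic Cn := inferInstance
  have h2 : IsCyclic ((commGA G A).subgroupOf Cn) := inferInstance
  exact (Subgroup.subgroupOfEquivOfLe hle).isCyclic.mp h2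


theorem coprime_facts [Finite G] [Finite A] [IsZGroup G]
    (hcop : (Nat.card A).Coprime (Nat.card G)) :
    commGA G A ⊔ FixedPoints.subgroup A G = ⊤ ∧ commGA G A ⊓ FixedPoints.subgroup A G = ⊥ := by
  set φ : A →* MulAut G := MulDistribMulAction.toMulAut A G with hφ
  haveI : Finite (G ⋊[φ] A) := Finite.of_equiv _ SemidirectProduct.equivProd.symm
  set il : G →* G ⋊[φ] A := SemidirectProduct.inl with hil
  set ir : A →* G ⋊[φ] A := SemidirectProduct.inr with hir
  set K : Subgroup (G ⋊[φ] A) := il.range with hK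
  set A' : Subgroup (G ⋊[φ] A) := ir.range with hA'
  have hilinj : Function.Injective il := SemidirectProduct.inl_injective
  have hirinj : Function.Injective ir := SemidirectProduct.inr_injective
  have hKn : K.Normal := by
    rw [hK, hil, SemidirectProduct.range_inl_eq_ker_rightHom]; infer_instance
  have hAK : A' ≤ Subgroup.normalizer (K : Set (G ⋊[φ] A)) := by
    rw [Subgroup.normalizer_eq_top]; exact le_top
  have hcardK : Nat.card K = Nat.card G :=
    (Nat.card_congr (MonoidHom.ofInjective hilinj).toEquiv).symm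
  have hcardA : Nat.card A' = Nat.card A :=
    (Nat.card_congr (MonoidHom.ofInjective hirinj).toEquiv).symm
  have hcop' : (Nat.card A').Coprime (Nat.card K) := by rw [hcardK, hcardA]; exact hcop
  have hKsolv : Group.IsSolvable K :=
    Group.isSolvable_of_isSolvable_injective (f := (MonoidHom.ofInjective hilinj).symm.toMonoidHom)
      (MonoidHom.ofInjective hilinj).symm.injective
  have hsolv : Group.IsSolvable A' ∨ Group.IsSolvable K := Or.inr hKsolv
  have haut : ∀ (a : A) (g : G), ir a * il g * (ir a)⁻¹ = il (a • g) := by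
    intro a g
    rw [← map_inv]
    exact (SemidirectProduct.inl_aut a g).symm
  have hDmap : (commGA G A).map il = ⁅K, A'⁆ := by
    apply le_antisymm
    · rw [Subgroup.map_le_iff_le_comap]
      unfold commGA
      rw [Subgroup.closure_le]
      rintro y ⟨a, g, rfl⟩
      show il (g⁻¹ * a • g) ∈ ⁅K, A'⁆
      have h1 : il (g⁻¹ * a • g) = ⁅(il g)⁻¹, ir a⁆ := by
        rw [commutatorElement_def, map_mul, map_inv, ← haut]; group
      rw [h1]
      exact Subgroup.commutator_mem_commutator (K.inv_mem ⟨g, rfl⟩) ⟨a, rfl⟩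
    · rw [Subgroup.commutator_le]
      rintro k ⟨g, rfl⟩ a' ⟨a, rfl⟩
      have h1 : ⁅il g, ir a⁆ = il ((g⁻¹)⁻¹ * a • g⁻¹) := by
        rw [commutatorElement_def, map_mul, ← haut, map_inv, map_inv]; group
      rw [h1]
      exact Subgroup.mem_map_of_mem _ (gen_mem a g⁻¹)
  have hFmap : (FixedPoints.subgroup A G).map il =
      K ⊓ Subgroup.centralizer (A' : Set (G ⋊[φ] A)) := by
    ext x
    constructor
    · rintro ⟨g, hg, rfl⟩
      refine ⟨⟨g, rfl⟩, ?_⟩
      show il g ∈ Subgroup.centralizer (A' : Set (G ⋊[φ] A))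
      rw [Subgroup.mem_centralizer_iff]
      rintro h ⟨a, rfl⟩
      have h1 := haut a g
      rw [(FixedPoints.mem_subgroup A G g).mp hg a] at h1
      calc ir a * il g = (ir a * il g * (ir a)⁻¹) * ir a := by group
        _ = il g * ir a := by rw [h1]
    · rintro ⟨⟨g, rfl⟩, hc⟩
      refine ⟨g, ?_, rfl⟩
      rw [SetLike.mem_coe, FixedPoints.mem_subgroup]
      intro a
      have h1 := (Subgroup.mem_centralizer_iff.mp hc) (ir a) ⟨a, rfl⟩
      apply hilinj
      rw [← haut, h1]; group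
  constructor
  · have h := Cfsg.Agent.Lib.Helper24.commutator_sup_centralizer_eq A' K hAK hcop' hsolv
    rw [← hDmap, ← hFmap, ← Subgroup.map_sup] at h
    have h2 : K = (⊤ : Subgroup G).map il := by rw [hK, MonoidHom.range_eq_map]
    rw [h2] at h
    exact Subgroup.map_injective hilinj h
  · set V : Subgroup (G ⋊[φ] A) := ⁅K, A'⁆ with hV
    have hVK : V ≤ K := Cfsg.Agent.Lib.Helper24.commutator_le_of_le_normalizer K A' hAK
    haveI hVcomm : IsMulCommutative V := by
      have hD : IsCyclic (commGA G A) := commGA_isCyclic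
      refine ⟨⟨fun x y => ?_⟩⟩
      have hx : (x : G ⋊[φ] A) ∈ (commGA G A).map il := by rw [hDmap]; exact x.2
      have hy : (y : G ⋊[φ] A) ∈ (commGA G A).map il := by rw [hDmap]; exact y.2
      obtain ⟨d1, hd1, hx'⟩ := hx
      obtain ⟨d2, hd2, hy'⟩ := hy
      haveI : IsMulCommutative (commGA G A) := IsCyclic.isMulCommutative
      have hc : (⟨d1, hd1⟩ : commGA G A) * ⟨d2, hd2⟩ = ⟨d2, hd2⟩ * ⟨d1, hd1⟩ :=
        mul_comm' _ _
      have hc' : d1 * d2 = d2 * d1 := congrArg Subtype.val hc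
      apply Subtype.ext
      show (x : G ⋊[φ] A) * y = y * x
      rw [← hx', ← hy', ← map_mul, ← map_mul, hc']
    have hAV : A' ≤ Subgroup.normalizer (V : Set (G ⋊[φ] A)) :=
      Cfsg.Agent.Lib.Helper24.le_normalizer_commutator_right K A' hAK
    have hcopV : (Nat.card A').Coprime (Nat.card V) :=
      Nat.Coprime.coprime_dvd_right (Subgroup.card_dvd_of_le hVK) hcop'
    have h1 := Cfsg.Agent.Lib.Helper24.commutator_commutator_eq A' K hAK hcop' hsolv
    have h2 := Cfsg.Agent.Lib.Helper24.commutator_inf_centralizer_eq_bot_of_abelian V A' hAV hcopV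
    rw [h1] at h2
    rw [eq_bot_iff]
    intro y hy
    rw [Subgroup.mem_bot]
    apply hilinj
    rw [map_one, ← Subgroup.mem_bot, ← h2]
    refine ⟨?_, ?_⟩
    · show il y ∈ V
      rw [← hDmap]; exact Subgroup.mem_map_of_mem _ hy.1
    · have : il y ∈ K ⊓ Subgroup.centralizer (A' : Set (G ⋊[φ] A)) := by
        rw [← hFmap]; exact Subgroup.mem_map_of_mem _ hy.2
      exact this.2


omit [Group A] [MulDistribMulAction A G] in
theorem coprime_card [Finite G]
    (hcyc : ∀ (p : ℕ) [Fact p.Prime] (P : Sylow p G), IsCyclic (P : Subgroup G))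
    (D F : Subgroup G) [hDn : D.Normal] (hinf : D ⊓ F = ⊥) :
    (Nat.card F).Coprime (Nat.card D) := by
  by_contra hnc
  obtain ⟨p, hp, hpF, hpD⟩ := Nat.Prime.not_coprime_iff_dvd.mp hnc
  haveI := Fact.mk hp
  obtain ⟨x0, hx0⟩ := exists_prime_orderOf_dvd_card' p hpF
  obtain ⟨y0, hy0⟩ := exists_prime_orderOf_dvd_card' p hpD
  have hx0G : orderOf (x0 : G) = p := by rw [Subgroup.orderOf_coe]; exact hx0
  have hy0G : orderOf (y0 : G) = p := by rw [Subgroup.orderOf_coe]; exact hy0
  have hpx : IsPGroup p (Subgroup.zpowers (x0 : G)) :=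
    IsPGroup.of_card (n := 1) (by rw [Nat.card_zpowers, hx0G, pow_one])
  have hpy : IsPGroup p (Subgroup.zpowers (y0 : G)) :=
    IsPGroup.of_card (n := 1) (by rw [Nat.card_zpowers, hy0G, pow_one])
  obtain ⟨Q, hQ⟩ := hpx.exists_le_sylow
  obtain ⟨P', hP'⟩ := hpy.exists_le_sylow
  obtain ⟨g, hg⟩ := MulAction.exists_smul_eq G P' Q
  have hx0Q : (x0 : G) ∈ (Q : Subgroup G) := hQ (Subgroup.mem_zpowers _)
  have hy0P : (y0 : G) ∈ (P' : Subgroup G) := hP' (Subgroup.mem_zpowers _)
  set y1 : G := g * (y0 : G) * g⁻¹ with hy1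
  have hy1Q : y1 ∈ (Q : Subgroup G) := by
    rw [← hg, Sylow.coe_subgroup_smul]
    exact Subgroup.smul_mem_pointwise_smul (y0 : G) (MulAut.conj g) P' hy0P
  have hy1D : y1 ∈ D := hDn.conj_mem _ y0.2 g
  have hy1ord : orderOf y1 = p := by
    rw [← hy0G]
    have hs : SemiconjBy g (y0 : G) y1 := by
      show g * (y0 : G) = y1 * g
      rw [hy1]; group
    exact (hs.orderOf_eq).symm
  haveI hcQ : IsCyclic (Q : Subgroup G) := hcyc p Q
  haveI : Nontrivial (Q : Subgroup G) := by
    refine ⟨⟨⟨(x0 : G), hx0Q⟩, 1, ?_⟩⟩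
    intro h
    have : (x0 : G) = 1 := congrArg Subtype.val h
    rw [this, orderOf_one] at hx0G
    exact hp.one_lt.ne hx0G
  obtain ⟨z, hz, hzall⟩ := Cfsg.Agent.Lib.Helper46.cyclic_unique_order_p
    (T := (Q : Subgroup G)) Q.isPGroup'
  have hxz : (⟨(x0 : G), hx0Q⟩ : (Q : Subgroup G)) ∈ Subgroup.zpowers z := by
    apply hzall
    apply Subtype.ext
    show (x0 : G) ^ p = 1
    rw [← hx0G]; exact pow_orderOf_eq_one _
  have hyz : (⟨y1, hy1Q⟩ : (Q : Subgroup G)) ∈ Subgroup.zpowers z := by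
    apply hzall
    apply Subtype.ext
    show y1 ^ p = 1
    rw [← hy1ord]; exact pow_orderOf_eq_one _
  have hzcard : Nat.card (Subgroup.zpowers z) = p := by rw [Nat.card_zpowers, hz]
  have hle : Subgroup.zpowers (⟨y1, hy1Q⟩ : (Q : Subgroup G)) ≤ Subgroup.zpowers z :=
    Subgroup.zpowers_le.mpr hyz
  have hne : Subgroup.zpowers (⟨y1, hy1Q⟩ : (Q : Subgroup G)) ≠ ⊥ := by
    intro h
    rw [Subgroup.zpowers_eq_bot] at h
    have : y1 = 1 := congrArg Subtype.val h
    rw [this, orderOf_one] at hy1ord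
    exact hp.one_lt.ne hy1ord
  have heq := Cfsg.Agent.Lib.Helper86.eq_of_le_of_prime_card hp hle hne hzcard
  rw [← heq] at hxz
  obtain ⟨k, hk⟩ := Subgroup.mem_zpowers_iff.mp hxz
  have hk' : y1 ^ k = (x0 : G) := by
    have := congrArg Subtype.val hk
    simpa using this
  have hx0D : (x0 : G) ∈ D := by rw [← hk']; exact D.zpow_mem hy1D k
  have : (x0 : G) ∈ D ⊓ F := ⟨hx0D, x0.2⟩
  rw [hinf, Subgroup.mem_bot] at this
  rw [this, orderOf_one] at hx0G
  exact hp.one_lt.ne hx0G

/-- Let A be a finite group acting on the finite group G by automorphisms with the orders of A and G coprime, and suppose every Sylow subgroup of G is cyclic. Then the fixed-point subgroup C_G(A) is a Hall subgroup of G (its order is coprime to its index), the subgroup [G, A] generated by the elements g⁻¹·a(g) is cyclic and normal with [G, A] ∩ C_G(A) = 1 and [G, A]·C_G(A) = G. -/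
theorem result {G A : Type*} [Group G] [Finite G] [Group A] [Finite A]
    [MulDistribMulAction A G] (hcop : (Nat.card A).Coprime (Nat.card G))
    (hcyc : ∀ (p : ℕ) [Fact p.Prime] (P : Sylow p G), IsCyclic (P : Subgroup G)) :
    (Nat.card (MulAction.fixedPoints A G : Set G)).Coprime (Nat.card G / Nat.card (MulAction.fixedPoints A G : Set G)) ∧
    IsCyclic (Subgroup.closure {y : G | ∃ (a : A) (g : G), y = g⁻¹ * a • g}) ∧
    (Subgroup.closure {y : G | ∃ (a : A) (g : G), y = g⁻¹ * a • g}).Normal ∧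
    (Subgroup.closure {y : G | ∃ (a : A) (g : G), y = g⁻¹ * a • g} : Set G) ∩ MulAction.fixedPoints A G = {1} ∧
    Subgroup.closure {y : G | ∃ (a : A) (g : G), y = g⁻¹ * a • g} ⊔ Subgroup.closure (MulAction.fixedPoints A G) = ⊤ := by
  haveI hZ : IsZGroup G := isZGroup_of hcyc
  obtain ⟨hsup, hinf⟩ := coprime_facts (G := G) (A := A) hcop
  haveI hn : (commGA G A).Normal := commGA_normal
  have hcycD : IsCyclic (commGA G A) := commGA_isCyclic
  have hFix : (MulAction.fixedPoints A G : Set G) =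
      ((FixedPoints.subgroup A G : Subgroup G) : Set G) := rfl
  refine ⟨?_, hcycD, hn, ?_, ?_⟩
  · have hcompl : Subgroup.IsComplement' (commGA G A) (FixedPoints.subgroup A G) := by
      apply Subgroup.isComplement'_of_disjoint_and_mul_eq_univ (disjoint_iff.mpr hinf)
      rw [← Subgroup.normal_mul, hsup]; rfl
    have hcard := hcompl.card_mul_card
    have hF : Nat.card (MulAction.fixedPoints A G : Set G) =
        Nat.card (FixedPoints.subgroup A G) := rfl
    rw [hF]
    have hdiv : Nat.card G / Nat.card (FixedPoints.subgroup A G) = Nat.card (commGA G A) :=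
      Nat.div_eq_of_eq_mul_left Nat.card_pos hcard.symm
    rw [hdiv]
    exact coprime_card hcyc _ _ hinf
  · ext y
    constructor
    · rintro ⟨h1, h2⟩
      have : y ∈ commGA G A ⊓ FixedPoints.subgroup A G := ⟨h1, h2⟩
      rw [hinf] at this
      exact this
    · intro hy
      rw [Set.mem_singleton_iff] at hy
      rw [hy]
      exact ⟨(commGA G A).one_mem, (FixedPoints.subgroup A G).one_mem⟩
  · rw [hFix, Subgroup.closure_eq]
    exact hsup

end Cfsg.Agent.S4117
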