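import Mathlib
import Cfsg.Statements.S4126
import Cfsg.Agent.Lib.Helper68.PowerIndex

set_option autoImplicit false
open Cfsg

namespace Cfsg.Agent.S4126

open Cfsg.Agent.Lib.Helper68 Cfsg.Agent.Lib.Helper2 Cfsg.Agent.Lib.Helper24
open Subgroup
open scoped commutatorElement

theorem centralizes {G : Type*} [Group G] [Finite G] (p : ℕ) [Fact p.Prime]
    (h : ∀ x : G, (orderOf x = p ∨ (p = 2 ∧ orderOf x = 4)) → ∃ a : ℕ, (Subgroup.centralizer ({x} : Set G)).index = p ^ a)
    (y : G) (hyo : (orderOf y).Coprime p) :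
    ∀ n : ℕ, ∀ Q : Subgroup G, Nat.card Q = n → IsPGroup p Q → y ∈ normalizer (Q : Set G) →
      y ∈ centralizer (Q : Set G) := by
  have hp : p.Prime := Fact.out
  intro n
  induction n using Nat.strong_induction_on with
  | _ n ih =>
  intro Q hn hQ hyN
  by_contra hcon
  set A : Subgroup G := zpowers y with hA
  have hAQ : A ≤ normalizer (Q : Set G) := by rw [hA, zpowers_le]; exact hyN
  have hyA : y ∈ A := mem_zpowers y
  have hcop : (Nat.card A).Coprime (Nat.card Q) := by
    obtain ⟨k, hk⟩ := hQ.exists_card_eq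
    rw [hk, hA, Nat.card_zpowers]
    exact Nat.Coprime.pow_right k hyo
  have hsolv : Group.IsSolvable A ∨ Group.IsSolvable Q := by
    right
    haveI : Group.IsNilpotent Q := hQ.isNilpotent
    infer_instance
  have IH : ∀ M : Subgroup G, M ≤ Q → M ≠ Q → y ∈ normalizer (M : Set G) →
      y ∈ centralizer (M : Set G) := by
    intro M hMQ hne hyM
    have hlt : Nat.card M < n := by
      rw [← hn]
      have h1 : Nat.card M ≤ Nat.card Q := Subgroup.card_le_of_le hMQ
      rcases lt_or_eq_of_le h1 with h' | h'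
      · exact h'
      · exact absurd (Subgroup.eq_of_le_of_card_ge hMQ h'.ge) hne
    exact ih _ hlt M rfl (hQ.to_le hMQ) hyM
  have hcentA : ∀ M : Subgroup G, y ∈ centralizer (M : Set G) → M ≤ centralizer (A : Set G) := by
    intro M hM
    rw [le_centralizer_iff, hA, zpowers_le]
    exact hM
  -- [Q, A] = Q
  have hQA : ⁅Q, A⁆ = Q := by
    by_contra hne
    have h1 := IH ⁅Q, A⁆ (commutator_le_of_le_normalizer Q A hAQ) hne
      (le_normalizer_commutator_right Q A hAQ hyA)
    have h2 : ⁅⁅Q, A⁆, A⁆ = ⊥ := commutator_eq_bot_iff_le_centralizer.2 (hcentA _ h1)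
    rw [commutator_commutator_eq A Q hAQ hcop hsolv] at h2
    have h3 : Q ≤ centralizer (A : Set G) := commutator_eq_bot_iff_le_centralizer.1 h2
    rw [le_centralizer_iff] at h3
    exact hcon (h3 hyA)
  -- an element of order p or 4 not centralized
  have hex : ∃ x ∈ Q, (orderOf x = p ∨ (p = 2 ∧ orderOf x = 4)) ∧ y * x ≠ x * y := by
    by_contra hno
    apply hcon
    apply omega_theorem Q hQ y hyo hyN
    intro x hx hxo
    by_contra hne
    exact hno ⟨x, hx, hxo, hne⟩
  obtain ⟨x, hxQ, hxo, hxy⟩ := hex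
  obtain ⟨a, ha⟩ := h x hxo
  have hxk : ∃ k : ℕ, orderOf x = p ^ k := by
    rcases hxo with h1 | ⟨h1, h2⟩
    · exact ⟨1, by rw [pow_one]; exact h1⟩
    · exact ⟨2, by rw [h1, h2]; norm_num⟩
  obtain ⟨k, hk⟩ := hxk
  have hx1 : x ≠ 1 := by
    rintro rfl
    exact hxy (by rw [mul_one, one_mul])
  set X := normalClosure ({x} : Set G) with hX
  have hxX : x ∈ X := subset_normalClosure rfl
  have hyX : y ∈ normalizer (X : Set G) := by rw [normalizer_eq_top]; exact mem_top y
  -- Q ≤ X
  have hQX : Q ⊓ X = Q := by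
    by_contra hne
    have h1 := IH (Q ⊓ X) inf_le_left hne (mem_normalizer_inf hyN hyX)
    rw [mem_centralizer_iff] at h1
    exact hxy (h1 x ⟨hxQ, hxX⟩).symm
  have hQX' : Q ≤ X := by rw [← hQX]; exact inf_le_right
  -- a Sylow subgroup containing x
  have hxp : IsPGroup p (zpowers x) := by
    apply IsPGroup.of_card (n := k)
    rw [Nat.card_zpowers, ← hk]
  obtain ⟨P, hP⟩ := hxp.exists_le_sylow
  have hxP : x ∈ (P : Subgroup G) := hP (mem_zpowers x)
  have hle : ⁅Q, A⁆ ≤ ⁅X, (P : Subgroup G)⁆ := by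
    rw [commutator_le]
    intro w hw z _
    exact commutator_normalClosure_mem x a ha P hxP w (hQX' hw) z
  rw [hQA] at hle
  exact not_mem_commutator_normalClosure x a k ha hk hx1 P hxP (hle hxQ)

/-- Let G be a finite group and p a prime. Suppose every element of order p, and when p = 2 also every element of order 4, has a conjugacy class of p-power size. Then G has a normal p-complement. -/
theorem result {G : Type*} [Group G] [Finite G] (p : ℕ) [Fact p.Prime]
    (h : ∀ x : G, (orderOf x = p ∨ (p = 2 ∧ orderOf x = 4)) → ∃ a : ℕ, (Subgroup.centralizer ({x} : Set G)).index = p ^ a) :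
    Cfsg.HasNormalPComplement p G := by
  apply hasNormalPComplement_of_frobCond
  intro Q hQ g hg hgo
  exact centralizes p h g hgo _ Q rfl hQ hg

end Cfsg.Agent.S4126
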