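import Mathlib
import Cfsg.Statements.S4127
import Cfsg.Agent.Lib.Helper68.PNilp

set_option autoImplicit false
open Cfsg

namespace Cfsg.Agent.S4127

open Cfsg.Agent.Lib.Helper68 Cfsg.Agent.Lib.Helper2 Cfsg.Agent.Lib.Helper24

/-- key step: a `p'`-element centralizing `x` and normalizing a `p`-subgroup centralizes it. -/
theorem centralizes {G : Type*} [Group G] [Finite G] (p : ℕ) [Fact p.Prime] (a : ℕ)
    (hmax : ∀ y : G, ¬ p ^ (a + 1) ∣ (Subgroup.centralizer ({y} : Set G)).index)
    (x : G) (k : ℕ) (hxo : orderOf x = p ^ k)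
    (hx : (Subgroup.centralizer ({x} : Set G)).index = p ^ a)
    (Q : Subgroup G) (hQ : IsPGroup p Q) (g : G) (hgx : Commute x g)
    (hgN : g ∈ Subgroup.normalizer (Q : Set G)) (hgo : (orderOf g).Coprime p) :
    g ∈ Subgroup.centralizer (Q : Set G) := by
  have hp : p.Prime := Fact.out
  set H := Subgroup.centralizer ({x} : Set G) with hH
  have memH : ∀ u : G, Commute x u → u ∈ H := by
    intro u hu
    rw [hH, Subgroup.mem_centralizer_iff]
    intro z hz
    rw [Set.mem_singleton_iff] at hz
    rw [hz]; exact hu.eq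
  -- Claim A
  have hA : ∀ y : ↥H, (orderOf y).Coprime p →
      ¬ p ∣ (Subgroup.centralizer ({y} : Set ↥H)).index := by
    intro y hy hdvd
    have hcomm : Commute x (y : G) := by
      have h' : (y : G) ∈ Subgroup.centralizer ({x} : Set G) := y.2
      rw [Subgroup.mem_centralizer_iff] at h'
      exact h' x rfl
    have hcop : (orderOf x).Coprime (orderOf (y : G)) := by
      rw [hxo, Subgroup.orderOf_coe]
      exact Nat.Coprime.pow_left k hy.symm
    obtain ⟨hxm, hym⟩ := mem_zpowers_mul_of_coprime x (y : G) hcomm hcop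
    set D := Subgroup.centralizer ({x * (y : G)} : Set G) with hD
    have hDc : ∀ d ∈ D, ∀ w ∈ Subgroup.zpowers (x * (y : G)), Commute d w := by
      intro d hd w hw
      rw [hD, Subgroup.mem_centralizer_iff] at hd
      have h1 : Commute d (x * (y : G)) := (hd _ rfl).symm
      obtain ⟨i, rfl⟩ := Subgroup.mem_zpowers_iff.1 hw
      exact h1.zpow_right i
    have hDH : D ≤ H := by
      intro d hd
      exact memH d (hDc d hd x hxm).symm
    have hrel := Subgroup.relIndex_mul_index hDH
    have hle : D.subgroupOf H ≤ Subgroup.centralizer ({y} : Set ↥H) := by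
      intro d hd
      rw [Subgroup.mem_subgroupOf] at hd
      rw [Subgroup.mem_centralizer_iff]
      intro z hz
      rw [Set.mem_singleton_iff] at hz
      rw [hz]
      apply Subtype.ext
      exact (hDc _ hd _ hym).eq.symm
    have h2 : (Subgroup.centralizer ({y} : Set ↥H)).index ∣ D.relIndex H :=
      Subgroup.index_dvd_of_le hle
    have h3 : p ^ (a + 1) ∣ D.index := by
      rw [← hrel, hx, pow_succ, mul_comm]
      exact Nat.mul_dvd_mul_right (hdvd.trans h2) _
    exact hmax _ h3
  -- Claim B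
  have hB := commute_of_p'_index hA
  -- the normal p-subgroup generated by x
  set X := Subgroup.normalClosure ({x} : Set G) with hXdef
  have hX : IsPGroup p X := isPGroup_normalClosure_of_index_pow x a k hx hxo
  have hxX : x ∈ X := Subgroup.subset_normalClosure rfl
  set Q1 := Q ⊔ X with hQ1def
  have hQ1 : IsPGroup p Q1 := hQ.to_sup_of_normal_right hX
  have hxQ1 : x ∈ Q1 := (le_sup_right : X ≤ Q ⊔ X) hxX
  have hgQ1 : g ∈ Subgroup.normalizer ((Q1 : Subgroup G) : Set G) := by
    apply mem_normalizer_sup hgN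
    rw [Subgroup.normalizer_eq_top]; exact Subgroup.mem_top g
  have hxp : IsPGroup p (Subgroup.zpowers x) := by
    apply IsPGroup.of_card (n := k)
    rw [Nat.card_zpowers, ← hxo]
  have hcz : ∀ u : G, Commute u g → u ∈ Subgroup.centralizer ((Subgroup.zpowers g : Subgroup G) : Set G) := by
    intro u hu
    rw [Subgroup.mem_centralizer_iff]
    intro z hz
    obtain ⟨i, rfl⟩ := Subgroup.mem_zpowers_iff.1 hz
    exact (hu.zpow_right i).eq.symm
  have hmain := thompson_PxQ (Subgroup.zpowers x) (Subgroup.zpowers g) Q1 hxp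
    (by rw [Nat.card_zpowers]; exact hgo) hQ1
    (by
      rw [Subgroup.zpowers_le]
      exact hcz x hgx)
    (by
      rw [Subgroup.zpowers_le]
      exact Subgroup.le_normalizer hxQ1)
    (by
      rw [Subgroup.zpowers_le]
      exact hgQ1)
    (by
      intro u hu
      obtain ⟨hu1, hu2⟩ := Subgroup.mem_inf.1 hu
      rw [Subgroup.mem_centralizer_iff] at hu2
      have hxu : Commute x u := hu2 x (Subgroup.mem_zpowers x)
      have huH : u ∈ H := memH u hxu
      have hgH : g ∈ H := memH g hgx
      obtain ⟨j, hj⟩ := (IsPGroup.iff_orderOf.1 hQ1) ⟨u, hu1⟩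
      rw [Subgroup.orderOf_mk] at hj
      have hc := hB ⟨u, huH⟩ ⟨g, hgH⟩ ⟨j, by rw [Subgroup.orderOf_mk]; exact hj⟩
        (by rw [Subgroup.orderOf_mk]; exact hgo)
      have hc' : u * g = g * u := congrArg Subtype.val hc.eq
      exact hcz u hc')
  have hg1 : g ∈ Subgroup.centralizer ((Q1 : Subgroup G) : Set G) := hmain (Subgroup.mem_zpowers g)
  exact Subgroup.centralizer_le (SetLike.coe_subset_coe.2 (le_sup_left : Q ≤ Q ⊔ X)) hg1

/-- Let G be a finite group, p a prime and p^a the largest power of p dividing the size of any conjugacy class of G. If some element of p-power order has a conjugacy class of size exactly p^a, then G has a normal p-complement. -/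
theorem result {G : Type*} [Group G] [Finite G] (p : ℕ) [Fact p.Prime]
    (a : ℕ) (hmax : ∀ y : G, ¬ p ^ (a + 1) ∣ (Subgroup.centralizer ({y} : Set G)).index)
    (hx : ∃ x : G, (∃ k : ℕ, orderOf x = p ^ k) ∧ (Subgroup.centralizer ({x} : Set G)).index = p ^ a) :
    Cfsg.HasNormalPComplement p G := by
  have hp : p.Prime := Fact.out
  obtain ⟨x, ⟨k, hxo⟩, hx⟩ := hx
  apply hasNormalPComplement_of_frobCond
  apply frobCond_of_primePow
  intro Q hQ g hgN q j hq hqp hgo
  haveI : Fact q.Prime := ⟨hq⟩
  set H := Subgroup.centralizer ({x} : Set G) with hH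
  have hg' : IsPGroup q (Subgroup.zpowers g) := by
    apply IsPGroup.of_card (n := j)
    rw [Nat.card_zpowers, ← hgo]
  have hnd : ¬ q ∣ Nat.card (G ⧸ H) := by
    change ¬ q ∣ H.index
    rw [hx]
    intro hd
    exact hqp ((Nat.prime_dvd_prime_iff_eq hq hp).1 (hq.dvd_of_dvd_pow hd))
  obtain ⟨cH, hfix⟩ := hg'.nonempty_fixed_point_of_prime_not_dvd_card (G ⧸ H) hnd
  induction cH using QuotientGroup.induction_on with
  | H c =>
  have h1 := hfix ⟨g, Subgroup.mem_zpowers g⟩
  have h2 : ((g * c : G) : G ⧸ H) = (c : G ⧸ H) := h1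
  rw [QuotientGroup.eq] at h2
  -- h2 : (g * c)⁻¹ * c ∈ H
  have h3 : c⁻¹ * g * c ∈ H := by
    have := H.inv_mem h2
    have e : ((g * c)⁻¹ * c)⁻¹ = c⁻¹ * g * c := by group
    rwa [e] at this
  rw [hH, Subgroup.mem_centralizer_iff] at h3
  have h4 : x * (c⁻¹ * g * c) = c⁻¹ * g * c * x := h3 x rfl
  have hcomm : Commute (c * x * c⁻¹) g := by
    change c * x * c⁻¹ * g = g * (c * x * c⁻¹)
    calc c * x * c⁻¹ * g = c * (x * (c⁻¹ * g * c)) * c⁻¹ := by group
      _ = c * (c⁻¹ * g * c * x) * c⁻¹ := by rw [h4]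
      _ = g * (c * x * c⁻¹) := by group
  have hcop : (orderOf g).Coprime p := by
    rw [hgo]
    exact Nat.Coprime.pow_left j ((Nat.coprime_primes hq hp).2 hqp)
  exact centralizes p a hmax (c * x * c⁻¹) k (by rw [Cfsg.Agent.S4106.orderOf_conj']; exact hxo)
    (by rw [index_centralizer_conj]; exact hx) Q hQ g hcomm hgN hcop

end Cfsg.Agent.S4127
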