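import Cfsg.Statements.S4134
import Cfsg.Agent.Lib.Helper21.ItoTwo

set_option autoImplicit false
set_option linter.style.haveILetI false
open Cfsg

namespace Cfsg.Agent.S4134

open Subgroup
open Cfsg.Agent.Lib.Helper21

theorem result {G : Type*} [Group G] [Finite G] (n : ℕ) (hn : 1 < n)
    (h : ∀ x : G, (Subgroup.centralizer ({x} : Set G)).index = 1 ∨ (Subgroup.centralizer ({x} : Set G)).index = n) (hex : ∃ x : G, (Subgroup.centralizer ({x} : Set G)).index = n) :
    ∃ (p : ℕ) (_ : Fact p.Prime) (a : ℕ), n = p ^ a ∧ ∀ P : Sylow p G, (P : Subgroup G).Normal ∧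
      (∃ N : Subgroup G, N.Normal ∧ N.IsComplement' (P : Subgroup G) ∧ IsMulCommutative N ∧
        ∀ x ∈ N, ∀ y ∈ (P : Subgroup G), x * y = y * x) ∧
      ∃ A : Subgroup (P : Subgroup G), A.Normal ∧ IsMulCommutative A ∧ ∀ y : (P : Subgroup G), y ^ p ∈ A := by
  have hI : ItoHyp G n := ⟨hn, h⟩
  have hex' : ∃ x : G, x ∉ center G := by
    obtain ⟨x, hx⟩ := hex
    refine ⟨x, fun hxc => ?_⟩
    rw [← ito_cent_eq_top_iff] at hxc
    rw [hxc, index_top] at hx
    exact hn.ne hx
  obtain ⟨p, hp, a, b, hna, hcard⟩ := ito_quot_prime_pow hI hex'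
  haveI hpf : Fact p.Prime := ⟨hp⟩
  refine ⟨p, hpf, a, hna, ?_⟩
  intro P
  -- elements of order prime to `p` are central
  have hcentral : ∀ g : G, (orderOf g).Coprime p → g ∈ center G := by
    intro g hg
    rw [← ito_mk_eq_one_iff, ← orderOf_eq_one_iff]
    have h1 : orderOf ((QuotientGroup.mk' (center G)) g) ∣ orderOf g := orderOf_map_dvd _ g
    have h2 : orderOf ((QuotientGroup.mk' (center G)) g) ∣ p ^ b := by
      rw [← hcard]; exact orderOf_dvd_natCard _
    exact Nat.eq_one_of_dvd_coprimes (Nat.Coprime.pow_right b hg) h1 h2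
  -- `P` is normal
  have hPn : (P : Subgroup G).Normal := by
    have htop : (P : Subgroup G) ⊔ center G = ⊤ := by
      rw [← index_eq_one]
      have h1 : ((P : Subgroup G) ⊔ center G).index ∣ (P : Subgroup G).index :=
        index_dvd_of_le le_sup_left
      have h2 : ((P : Subgroup G) ⊔ center G).index ∣ p ^ b := by
        have : (center G).index = p ^ b := hcard
        rw [← this]
        exact index_dvd_of_le le_sup_right
      obtain ⟨c, -, hc⟩ := (Nat.dvd_prime_pow hp).1 h2
      rcases Nat.eq_zero_or_pos c with h0 | h0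
      · rw [hc, h0, pow_zero]
      · exfalso
        apply P.not_dvd_index
        refine dvd_trans ?_ h1
        rw [hc]
        exact dvd_pow_self p h0.ne'
    rw [← normalizer_eq_top_iff, eq_top_iff, ← htop]
    apply sup_le le_normalizer
    intro z hz
    rw [mem_normalizer_iff]
    intro x
    have : z * x * z⁻¹ = x := by
      rw [← mem_center_iff.1 hz x, mul_assoc, mul_inv_cancel, mul_one]
    rw [this]
  refine ⟨hPn, ?_, ?_⟩
  · -- the complement
    haveI := hPn
    have hcop : Nat.Coprime (Nat.card (P : Subgroup G)) (P : Subgroup G).index := by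
      obtain ⟨k, hk⟩ := P.2.exists_card_eq
      rw [hk]
      exact Nat.Coprime.pow_left k ((Nat.Prime.coprime_iff_not_dvd hp).2 P.not_dvd_index)
    obtain ⟨N, hN⟩ := Subgroup.exists_left_complement'_of_coprime hcop
    have hNcard : Nat.card N = (P : Subgroup G).index := hN.index_eq_card.symm
    have hNZ : N ≤ center G := by
      intro x hx
      apply hcentral
      have h1 : orderOf x ∣ Nat.card N := Subgroup.orderOf_dvd_natCard _ hx
      rw [hNcard] at h1
      exact Nat.Coprime.coprime_dvd_left h1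
        ((Nat.Prime.coprime_iff_not_dvd hp).2 P.not_dvd_index).symm
    refine ⟨N, ?_, hN, ?_, ?_⟩
    · constructor
      intro x hx g
      have : g * x * g⁻¹ = x := by
        rw [mem_center_iff.1 (hNZ hx) g, mul_assoc, mul_inv_cancel, mul_one]
      rw [this]
      exact hx
    · refine ⟨⟨fun x y => ?_⟩⟩
      apply Subtype.ext
      exact (mem_center_iff.1 (hNZ x.2) y).symm
    · intro x hx y _
      exact (mem_center_iff.1 (hNZ hx) y).symm
  · -- the abelian normal subgroup
    obtain ⟨A, hAn, hAab, hAp⟩ := ito_exists_abelian_normal hI hcard hex'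
    refine ⟨A.subgroupOf (P : Subgroup G), hAn.subgroupOf _, ?_, ?_⟩
    · refine ⟨⟨fun x y => ?_⟩⟩
      apply Subtype.ext
      apply Subtype.ext
      exact hAab _ (mem_subgroupOf.1 x.2) _ (mem_subgroupOf.1 y.2)
    · intro y
      rw [mem_subgroupOf, Subgroup.coe_pow]
      exact hAp _

end Cfsg.Agent.S4134
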