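import Cfsg.Statements.S4135
import Cfsg.Agent.Lib.Helper66.TwoIdx

set_option autoImplicit false
set_option linter.style.haveILetI false
open Cfsg

namespace Cfsg.Agent.S4135

open Subgroup
open Cfsg.Agent.Lib.Helper21
open Cfsg.Agent.Lib.Helper66.TwoIdx

/-- All Sylow `r`-subgroups lie in the normal subgroup `N` if one does. -/
theorem sylow_le_normal {G : Type*} [Group G] [Finite G] (r : ℕ) [Fact r.Prime]
    (R Q : Sylow r G) (N : Subgroup G) [N.Normal] (hRN : (R : Subgroup G) ≤ N) :
    (Q : Subgroup G) ≤ N := by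
  obtain ⟨g, rfl⟩ := MulAction.exists_smul_eq G R Q
  intro s hs
  rw [Sylow.coe_subgroup_smul, Subgroup.mem_pointwise_smul_iff_inv_smul_mem] at hs
  rw [MulAut.smul_def, MulAut.conj_inv_apply] at hs
  have h1 : g⁻¹ * s * g ∈ N := hRN hs
  have := (inferInstance : N.Normal).conj_mem _ h1 g
  simpa [mul_assoc] using this

theorem sylow_not_le_center {G : Type*} [Group G] [Finite G] (r : ℕ) [Fact r.Prime]
    (R Q : Sylow r G) (hR : ¬ (R : Subgroup G) ≤ center G) : ¬ (Q : Subgroup G) ≤ center G := by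
  obtain ⟨g, rfl⟩ := MulAction.exists_smul_eq G R Q
  intro hle
  apply hR
  intro s hs
  have h1 : g * s * g⁻¹ ∈ ((g • R : Sylow r G) : Subgroup G) := by
    rw [Sylow.coe_subgroup_smul, Subgroup.mem_pointwise_smul_iff_inv_smul_mem,
      MulAut.smul_def, MulAut.conj_inv_apply]
    simpa [mul_assoc] using hs
  have h2 := hle h1
  by_contra hsZ
  exact Cfg.conj_not_center hsZ h2


/-- A noncentral element of `N` commutes with a noncentral `r`-element of `N`. -/
theorem exists_r_elt {G : Type*} [Group G] [Finite G] (r : ℕ) [hr : Fact r.Prime]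
    (R : Sylow r G) (hR : ¬ (R : Subgroup G) ≤ center G) (N : Subgroup G) [N.Normal]
    (hRN : (R : Subgroup G) ≤ N) (m : ℕ) (h : Hyp N m) {y : G} (hyN : y ∈ N)
    (hyZ : y ∉ center G) :
    ∃ x ∈ N, x ∉ center G ∧ (∃ k : ℕ, x ^ (r ^ k) = 1) ∧ x * y = y * x := by
  by_contra hcon
  push Not at hcon
  set Cy := centralizer ({y} : Set G) with hCy
  obtain ⟨S⟩ : Nonempty (Sylow r ↥Cy) := inferInstance
  set S' : Subgroup G := (S : Subgroup ↥Cy).map Cy.subtype with hS'
  have hS'card : Nat.card ↥S' = r ^ (Nat.card ↥Cy).factorization r := by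
    rw [hS', card_map_of_injective Cy.subtype_injective]
    exact S.card_eq_multiplicity
  have hS'p : IsPGroup r ↥S' := IsPGroup.of_card hS'card
  obtain ⟨Q, hQ⟩ := hS'p.exists_le_sylow
  have hQN : (Q : Subgroup G) ≤ N := sylow_le_normal r R Q N hRN
  have hS'Z : S' ≤ center G := by
    intro s hs
    by_contra hsZ
    have hsC : s ∈ Cy := by
      obtain ⟨s', -, rfl⟩ := hs
      exact s'.2
    obtain ⟨k, hk⟩ := hS'p ⟨s, hs⟩
    have hk' : s ^ (r ^ k) = 1 := by simpa using congrArg Subtype.val hk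
    exact hcon s (hQN (hQ hs)) hsZ ⟨k, hk'⟩ (mem_centralizer_singleton_iff.1 hsC)
  obtain ⟨x₀, hx₀Q, hx₀Z⟩ := Set.not_subset.1 (sylow_not_le_center r R Q hR)
  have hx₀N : x₀ ∈ N := hQN hx₀Q
  set T₀ := S' ⊔ zpowers x₀ with hT₀
  have hT₀Q : T₀ ≤ Q := sup_le hQ (zpowers_le.2 hx₀Q)
  have hT₀p : IsPGroup r ↥T₀ := Q.2.to_le hT₀Q
  have hT₀C : T₀ ≤ centralizer ({x₀} : Set G) := by
    apply sup_le
    · intro s hs
      rw [mem_centralizer_singleton_iff]
      exact (mem_center_iff.1 (hS'Z hs) x₀).symm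
    · rw [zpowers_le, mem_centralizer_singleton_iff]
  have hm : 0 < m := by
    rw [← idx_of_not_mem h hyN hyZ]
    exact Nat.pos_of_ne_zero Subgroup.index_ne_zero_of_finite
  have hcardC : Nat.card ↥(centralizer ({x₀} : Set G)) = Nat.card ↥Cy := by
    have h1 := (centralizer ({x₀} : Set G)).card_mul_index
    have h2 := Cy.card_mul_index
    rw [idx_of_not_mem h hx₀N hx₀Z] at h1
    rw [hCy, idx_of_not_mem h hyN hyZ] at h2
    exact Nat.eq_of_mul_eq_mul_right hm (h1.trans h2.symm)
  obtain ⟨t, ht⟩ := hT₀p.exists_card_eq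
  have htle : t ≤ (Nat.card ↥Cy).factorization r := by
    rw [← Nat.Prime.pow_dvd_iff_le_factorization hr.out Nat.card_pos.ne', ← ht, ← hcardC]
    exact card_dvd_of_le hT₀C
  have hle : Nat.card ↥T₀ ≤ Nat.card ↥S' := by
    rw [ht, hS'card]; exact Nat.pow_le_pow_right hr.out.pos htle
  have heq : S' = T₀ := Subgroup.eq_of_le_of_card_ge le_sup_left hle
  apply hx₀Z
  apply hS'Z
  rw [heq]
  exact (le_sup_right : zpowers x₀ ≤ T₀) (mem_zpowers x₀)


/-- Case A: all `r'`-elements of prime power order in `N` are central. -/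
theorem nilpotent_caseA {G : Type*} [Group G] [Finite G] (r : ℕ) [hr : Fact r.Prime]
    (N : Subgroup G) [N.Normal]
    (hA : ∀ y ∈ N, ∀ (q j : ℕ), q.Prime → q ≠ r → orderOf y = q ^ j → y ∈ center G) :
    Group.IsNilpotent ↥N := by
  set Z' : Subgroup ↥N := (center G).subgroupOf N with hZ'
  haveI : Z'.Normal := by rw [hZ']; infer_instance
  have hZ'le : Z' ≤ center ↥N := by
    intro z hz
    rw [hZ', mem_subgroupOf] at hz
    rw [mem_center_iff]
    intro g
    exact Subtype.ext (mem_center_iff.1 hz (g : G))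
  have hPG : IsPGroup r (↥N ⧸ Z') := by
    intro g
    obtain ⟨w, rfl⟩ := QuotientGroup.mk_surjective g
    obtain ⟨a, b, ha, hb, hab, ⟨k, hak⟩, hbcop⟩ := ito_exists_parts r (w : G)
    have hzN : zpowers (w : G) ≤ N := zpowers_le.2 w.2
    have hbZ : b ∈ center G := by
      apply Cfsg.Agent.Lib.Helper63.mem_of_prime_power_parts
      intro s k' j hs hord
      by_cases hsr : s = r
      · subst hsr
        have h1 : s ^ j ∣ orderOf b := by rw [← hord]; exact orderOf_pow_dvd k'
        have h2 : Nat.Coprime (s ^ j) s := Nat.Coprime.coprime_dvd_left h1 hbcop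
        have hj : j = 0 := by
          by_contra hj
          have h3 : s ∣ s ^ j := dvd_pow_self s hj
          have h4 : Nat.Coprime s s := Nat.Coprime.coprime_dvd_left h3 h2
          rw [Nat.coprime_self] at h4
          exact hs.one_lt.ne' h4
        rw [hj, pow_zero, orderOf_eq_one_iff] at hord
        rw [hord]
        exact (center G).one_mem
      · exact hA _ (N.pow_mem (hzN hb) k') s j hs hsr hord
    refine ⟨k, ?_⟩
    rw [← QuotientGroup.mk_pow, QuotientGroup.eq_one_iff, hZ', mem_subgroupOf]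
    have hcomm : Commute a b := by
      obtain ⟨i, rfl⟩ := mem_zpowers_iff.1 ha
      obtain ⟨i', rfl⟩ := mem_zpowers_iff.1 hb
      exact (Commute.refl (w : G)).zpow_zpow i i'
    have : ((w ^ r ^ k : ↥N) : G) = b ^ r ^ k := by
      rw [Subgroup.coe_pow, hab, hcomm.mul_pow, hak, one_mul]
    rw [this]
    exact (center G).pow_mem hbZ _
  haveI : Group.IsNilpotent (↥N ⧸ Z') := hPG.isNilpotent
  exact Subgroup.isNilpotent_of_ker_le_center (QuotientGroup.mk' Z')
    (by rw [QuotientGroup.ker_mk']; exact hZ'le)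

theorem main {G : Type*} [Group G] [Finite G] (r : ℕ) [hr : Fact r.Prime]
    (R : Sylow r G) (hR : ¬ (R : Subgroup G) ≤ Subgroup.center G) (N : Subgroup G) [N.Normal]
    (hRN : (R : Subgroup G) ≤ N) (m : ℕ) (h : Hyp N m) : Group.IsNilpotent N := by
  by_cases hA : ∀ y ∈ N, ∀ (q j : ℕ), q.Prime → q ≠ r → orderOf y = q ^ j → y ∈ center G
  · exact nilpotent_caseA r N hA
  push Not at hA
  obtain ⟨y, hyN, q, j, hq, hqr, hoy, hyZ⟩ := hA
  haveI : Fact q.Prime := ⟨hq⟩
  obtain ⟨x, hxN, hxZ, ⟨k, hxk⟩, hxy⟩ := exists_r_elt r R hR N hRN m h hyN hyZ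
  obtain ⟨i, -, hox⟩ := (Nat.dvd_prime_pow hr.out).1 (orderOf_dvd_of_pow_eq_one hxk)
  have hcop : (orderOf x).Coprime (orderOf y) := by
    rw [hox, hoy]
    exact Nat.Coprime.pow _ _ ((Nat.coprime_primes hr.out hq).2 (Ne.symm hqr))
  have hle1 := cent_le_of_coprime h hxN hxZ hyN (show Commute x y from hxy) hcop
  have hle2 := cent_le_of_coprime h hyN hyZ hxN (show Commute y x from hxy.symm) hcop.symm
  have hCeq : centralizer ({x} : Set G) = centralizer ({y} : Set G) := le_antisymm hle1 hle2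
  set C := centralizer ({x} : Set G) with hC
  set M := C ⊓ N with hM
  have hcentral : ∀ u ∈ M, ∀ c ∈ C, c * u = u * c := by
    intro u hu c hc
    obtain ⟨a, b, ha, hb, hab, ⟨k', hak⟩, hbcop⟩ := ito_exists_parts r u
    have hzu : zpowers u ≤ M := zpowers_le.2 hu
    have haM := hzu ha
    have hbM := hzu hb
    -- `b` is centralized by `C = cent x`
    have hb' : C ≤ centralizer ({b} : Set G) := by
      apply cent_le_of_coprime h hxN hxZ hbM.2
      · exact ((mem_centralizer_singleton_iff.1 hbM.1)).symm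
      · rw [hox]
        exact (Nat.Coprime.pow_right i hbcop).symm
    -- `a` is centralized by `C = cent y`
    have ha' : C ≤ centralizer ({a} : Set G) := by
      rw [hCeq]
      apply cent_le_of_coprime h hyN hyZ haM.2
      · have : a ∈ centralizer ({y} : Set G) := hCeq ▸ haM.1
        exact ((mem_centralizer_singleton_iff.1 this)).symm
      · rw [hoy]
        have hd : orderOf a ∣ r ^ k' := orderOf_dvd_of_pow_eq_one hak
        apply Nat.Coprime.coprime_dvd_right hd
        exact Nat.Coprime.pow _ _ ((Nat.coprime_primes hq hr.out).2 hqr)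
    have h1 : c * b = b * c := mem_centralizer_singleton_iff.1 (hb' hc)
    have h2 : c * a = a * c := mem_centralizer_singleton_iff.1 (ha' hc)
    rw [hab, ← mul_assoc, h2, mul_assoc, h1, mul_assoc]
  have cf : Cfg N m C M := by
    refine ⟨h, hM, hcentral, ?_⟩
    intro u hu huZ
    symm
    apply cent_eq_of_le h hxN hxZ hu.2 huZ
    intro c hc
    rw [mem_centralizer_singleton_iff]
    exact hcentral u hu c hc
  have hyM : y ∈ M := by
    refine ⟨?_, hyN⟩
    show y ∈ C
    rw [hCeq, mem_centralizer_singleton_iff]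
  have hxM : x ∈ M := by
    refine ⟨?_, hxN⟩
    exact (mem_centralizer_singleton_iff.2 rfl : x ∈ centralizer ({x} : Set G))
  have hyq : y ∈ cf.pPart q := ⟨hyM, j, by rw [← hoy]; exact pow_orderOf_eq_one y⟩
  have hxr : x ∈ cf.pPart r := ⟨hxM, k, hxk⟩
  exact cf.isNilpotent hqr hyq hyZ hxr hxZ


/-- Let G be a finite group, r a prime and R a Sylow r-subgroup of G that is not central, N a normal subgroup of G containing R, and m a natural number such that every element of N has a conjugacy class in G of size 1 or m. Then N is nilpotent. -/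
theorem result {G : Type*} [Group G] [Finite G] (r : ℕ) [Fact r.Prime]
    (R : Sylow r G) (hR : ¬ (R : Subgroup G) ≤ Subgroup.center G) (N : Subgroup G) [N.Normal] (hRN : (R : Subgroup G) ≤ N)
    (m : ℕ) (h : ∀ x ∈ N, (Subgroup.centralizer ({x} : Set G)).index = 1 ∨ (Subgroup.centralizer ({x} : Set G)).index = m) : Group.IsNilpotent N := by
  exact main r R hR N hRN m h

end Cfsg.Agent.S4135
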