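import Cfsg.Statements.S4138
import Cfsg.Agent.Lib.Helper21.TwoLargest8

set_option autoImplicit false
open Cfsg

namespace Cfsg.Agent.S4138

open Cfsg.Agent.Lib.Helper21 Subgroup
open scoped Pointwise

/-- Let G be a finite group whose two largest conjugacy class sizes m > n > 1 are coprime, and let x, y ∈ G have classes of sizes n and m respectively. Then C_G(x) and C_G(y) are abelian, and G/Z(G) is a Frobenius group with kernel C_G(x)/Z(G) and complement C_G(y)/Z(G). -/
theorem result {G : Type*} [Group G] [Finite G] (m n : ℕ) (hmn : n < m) (hn : 1 < n)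
    (hcop : m.Coprime n) (htop : ∀ z : G, (Subgroup.centralizer ({z} : Set G)).index ≤ m) (hsecond : ∀ z : G, (Subgroup.centralizer ({z} : Set G)).index < m → (Subgroup.centralizer ({z} : Set G)).index ≤ n)
    (x y : G) (hx : (Subgroup.centralizer ({x} : Set G)).index = n) (hy : (Subgroup.centralizer ({y} : Set G)).index = m) :
    IsMulCommutative (Subgroup.centralizer ({x} : Set G)) ∧ IsMulCommutative (Subgroup.centralizer ({y} : Set G)) ∧
    Cfsg.IsFrobeniusComplement ((Subgroup.centralizer ({y} : Set G)).map (QuotientGroup.mk' (Subgroup.center G))) ∧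
    Cfsg.frobeniusKernel ((Subgroup.centralizer ({y} : Set G)).map (QuotientGroup.mk' (Subgroup.center G))) =
      ((Subgroup.centralizer ({x} : Set G)).map (QuotientGroup.mk' (Subgroup.center G)) : Set (G ⧸ Subgroup.center G)) := by
  have H0 : TLHyp G m n := ⟨hmn, hn, hcop, htop, hsecond⟩
  have hx' : tlCs x = n := hx
  have hy' : tlCs y = m := hy
  have hxc : (tlCs x).Coprime m := by rw [hx']; exact hcop.symm
  obtain ⟨z, hz, u, huM, hxzu⟩ := tl_mem_center_mul H0 hy' hxc
  have hu : tlCs u = n := by rw [← hx', hxzu, tlCs_central_mul hz]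
  have D : TLCtx G m n y u := ⟨H0, hy', hu, huM⟩
  have hCx : centralizer ({x} : Set G) = centralizer ({u} : Set G) := by
    rw [hxzu, tl_cent_central_mul hz]
  rw [hCx]
  have hm1 : 1 < m := lt_trans hn hmn
  have hyz : y ∉ center G := by
    intro h
    have := (tlCs_eq_one_iff y).2 h
    omega
  have hπ1 : ∀ g : G, (QuotientGroup.mk' (center G)) g = 1 ↔ g ∈ center G :=
    fun g => ito_mk_eq_one_iff
  have hπeq : ∀ a b : G, (QuotientGroup.mk' (center G)) a = (QuotientGroup.mk' (center G)) b →
      a⁻¹ * b ∈ center G := by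
    intro a b h
    rw [← hπ1, map_mul, map_inv, h, inv_mul_cancel]
  have hsmul : ∀ (g : G) (t : G ⧸ center G),
      t ∈ MulAut.conj ((QuotientGroup.mk' (center G)) g) •
        (centralizer ({y} : Set G)).map (QuotientGroup.mk' (center G)) ↔
      ∃ h ∈ centralizer ({y} : Set G), t = (QuotientGroup.mk' (center G)) (g * h * g⁻¹) := by
    intro g t
    rw [Subgroup.mem_smul_pointwise_iff_exists]
    constructor
    · rintro ⟨s, ⟨h, hh, rfl⟩, rfl⟩
      refine ⟨h, hh, ?_⟩
      rw [MulAut.smul_def, MulAut.conj_apply, map_mul, map_mul, map_inv]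
    · rintro ⟨h, hh, rfl⟩
      refine ⟨_, mem_map_of_mem _ hh, ?_⟩
      rw [MulAut.smul_def, MulAut.conj_apply, map_mul, map_mul, map_inv]
  refine ⟨?_, ?_, ⟨?_, ?_, ?_⟩, ?_⟩
  · -- K abelian
    refine ⟨⟨fun a b => Subtype.ext ?_⟩⟩
    have ha := a.2
    have hb := b.2
    rw [mem_centralizer_singleton_iff] at ha hb
    exact tl_small_comm D (tl_K_small D ha) (tl_K_small D hb)
  · -- H abelian
    exact ⟨⟨fun a b => Subtype.ext (tl_H_comm D a.2 b.2)⟩⟩
  · -- H/Z ≠ ⊥
    intro hbot
    have h1 : (QuotientGroup.mk' (center G)) y ∈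
        (centralizer ({y} : Set G)).map (QuotientGroup.mk' (center G)) :=
      mem_map_of_mem _ (mem_centralizer_singleton_iff.2 rfl)
    rw [hbot, mem_bot, hπ1] at h1
    exact hyz h1
  · -- H/Z ≠ ⊤
    intro htop'
    have h1 : centralizer ({y} : Set G) = ⊤ := by
      rw [eq_top_iff]
      intro g _
      have h2 : (QuotientGroup.mk' (center G)) g ∈
          (centralizer ({y} : Set G)).map (QuotientGroup.mk' (center G)) := by
        rw [htop']; exact mem_top _
      obtain ⟨h, hh, hhg⟩ := h2
      have h3 := hπeq h g hhg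
      have h4 : g = h * (h⁻¹ * g) := by group
      rw [h4]
      exact mul_mem hh (ito_center_le_cent y h3)
    rw [h1, index_top] at hy
    omega
  · -- Frobenius property
    intro g' hg'
    obtain ⟨g, rfl⟩ := QuotientGroup.mk'_surjective (center G) g'
    have hgH : g ∉ centralizer ({y} : Set G) := fun h => hg' (mem_map_of_mem _ h)
    rw [eq_bot_iff]
    rintro t ⟨ht1, ht2⟩
    have ht2' := (hsmul g t).1 ht2
    obtain ⟨h2, hh2, rfl⟩ := ht2'
    obtain ⟨h1, hh1, he⟩ := ht1
    have h3 := hπeq h1 _ he
    have h4 : g * h2 * g⁻¹ ∈ centralizer ({y} : Set G) := by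
      have e : g * h2 * g⁻¹ = h1 * (h1⁻¹ * (g * h2 * g⁻¹)) := by group
      rw [e]
      exact mul_mem hh1 (ito_center_le_cent y h3)
    have h5 := tl_P15 D hgH hh2 h4
    rw [mem_bot, hπ1]
    exact (inferInstance : (center G).Normal).conj_mem h2 h5 g
  · -- the kernel
    ext t
    obtain ⟨g, rfl⟩ := QuotientGroup.mk'_surjective (center G) t
    constructor
    · rintro (h1 | h2)
      · rw [h1]; exact one_mem _
      · by_cases hg : tlCs g = m
        · exfalso
          obtain ⟨v, hv, h, hh, rfl⟩ := tl_P17 D hg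
          exact h2 ((QuotientGroup.mk' (center G)) v) ((hsmul v _).2 ⟨h, hh, rfl⟩)
        · exact mem_map_of_mem _ (mem_centralizer_singleton_iff.2 (tl_small_mem_K D hg))
    · rintro ⟨k, hk, hkt⟩
      by_cases hkz : k ∈ center G
      · left
        rw [← hkt, hπ1]; exact hkz
      · right
        intro g' hmem
        obtain ⟨g0, rfl⟩ := QuotientGroup.mk'_surjective (center G) g'
        obtain ⟨h, hh, he⟩ := (hsmul g0 _).1 hmem
        rw [← hkt] at he
        have hc := hπeq _ _ he
        -- k = c * (g0 h g0⁻¹)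
        set c := k⁻¹ * (g0 * h * g0⁻¹) with hc_def
        have hk_small : tlCs k ≠ m := by
          have hk' : k * u = u * k := mem_centralizer_singleton_iff.1 hk
          exact tl_K_small D hk'
        have e1 : g0 * h * g0⁻¹ = k * c := by rw [hc_def]; group
        have e2 : k * c = c * k := mem_center_iff.1 hc k
        have h_small : tlCs h ≠ m := by
          have : tlCs h = tlCs k := by
            rw [← tlCs_conj h g0, e1, e2, tlCs_central_mul hc]
          rw [this]; exact hk_small
        have hhy : h * y = y * h := mem_centralizer_singleton_iff.1 hh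
        have hhz : h ∈ center G := tl_small_comm_large D h_small hy' hhy
        have hconj : g0 * h * g0⁻¹ ∈ center G :=
          (inferInstance : (center G).Normal).conj_mem h hhz g0
        apply hkz
        have e3 : k = (g0 * h * g0⁻¹) * c⁻¹ := by rw [e1]; group
        rw [e3]
        exact mul_mem hconj (inv_mem hc)

end Cfsg.Agent.S4138
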