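import Cfsg.Statements.S4142
import Cfsg.Agent.Lib.Helper69.Basic

set_option autoImplicit false
open Cfsg

namespace Cfsg.Agent.S4142

theorem per_element {G : Type*} [Group G] [Finite G] (N : Subgroup G) [N.Normal] (g : G) :
    (∀ n ∈ N, ∃ x : G, x * g * x⁻¹ = g * n) ↔
      Nat.card (Subgroup.centralizer ({g} : Set G)) =
        Nat.card (Subgroup.centralizer ({(QuotientGroup.mk g : G ⧸ N)} : Set (G ⧸ N))) := by
  classical
  set cl : Set G := {y | IsConj g y} with hcl_def
  set clb : Set (G ⧸ N) := {q | IsConj (QuotientGroup.mk g : G ⧸ N) q} with hclb_def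
  set S : Set G := QuotientGroup.mk ⁻¹' clb with hS_def
  have hsub : cl ⊆ S := fun y hy => (QuotientGroup.mk' N).map_isConj hy
  have hSfin : S.Finite := Set.toFinite _
  have hcl : cl.ncard * Nat.card (Subgroup.centralizer ({g} : Set G)) = Nat.card G := by
    rw [← Subgroup.index_mul_card (Subgroup.centralizer ({g} : Set G)),
      Cfsg.Agent.Lib.Helper69.index_centralizer_eq_card_isConj, ← Nat.card_coe_set_eq]
    rfl
  have hclb : clb.ncard * Nat.card (Subgroup.centralizer ({(QuotientGroup.mk g : G ⧸ N)} : Set (G ⧸ N)))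
      = Nat.card (G ⧸ N) := by
    rw [← Subgroup.index_mul_card (Subgroup.centralizer ({(QuotientGroup.mk g : G ⧸ N)} : Set (G ⧸ N))),
      Cfsg.Agent.Lib.Helper69.index_centralizer_eq_card_isConj, ← Nat.card_coe_set_eq]
    rfl
  have hScard : S.ncard = Nat.card N * clb.ncard := by
    rw [← Nat.card_coe_set_eq, ← Nat.card_coe_set_eq, ← Nat.card_prod]
    exact Nat.card_congr (QuotientGroup.preimageMkEquivSubgroupProdSet N clb)
  have hS : S.ncard * Nat.card (Subgroup.centralizer ({(QuotientGroup.mk g : G ⧸ N)} : Set (G ⧸ N)))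
      = Nat.card G := by
    rw [hScard, mul_assoc, hclb, mul_comm, ← Subgroup.card_eq_card_quotient_mul_card_subgroup]
  have hclpos : 0 < cl.ncard := by
    rw [Set.ncard_pos (Set.toFinite _)]
    exact ⟨g, IsConj.refl g⟩
  have hGpos : 0 < Nat.card G := Nat.card_pos
  constructor
  · intro hcam
    have hSsub : S ⊆ cl := by
      intro z hz
      have hz' : IsConj (QuotientGroup.mk g : G ⧸ N) (QuotientGroup.mk z) := hz
      rw [isConj_iff] at hz'
      obtain ⟨q, hq⟩ := hz'
      obtain ⟨x, rfl⟩ := QuotientGroup.mk_surjective q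
      have h1 : ((x * g * x⁻¹ : G) : G ⧸ N) = (z : G ⧸ N) := by
        rw [← hq]; rfl
      rw [QuotientGroup.eq] at h1
      -- n' = (x g x⁻¹)⁻¹ z ∈ N
      have h2 : x⁻¹ * ((x * g * x⁻¹)⁻¹ * z) * x ∈ N := by
        have := ‹N.Normal›.conj_mem _ h1 x⁻¹
        simpa using this
      obtain ⟨x', hx'⟩ := hcam _ h2
      show IsConj g z
      rw [isConj_iff]
      refine ⟨x * x', ?_⟩
      have : x * x' * g * (x * x')⁻¹ = x * (x' * g * x'⁻¹) * x⁻¹ := by group
      rw [this, hx']; group
    have heq : cl = S := Set.Subset.antisymm hsub hSsub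
    rw [← heq] at hS
    have := hcl.trans hS.symm
    exact Nat.eq_of_mul_eq_mul_left hclpos this
  · intro hcard n hn
    have h1 : S.ncard * Nat.card (Subgroup.centralizer ({g} : Set G)) = cl.ncard * Nat.card (Subgroup.centralizer ({g} : Set G)) := by
      rw [hcl, hcard, hS]
    have hCpos : 0 < Nat.card (Subgroup.centralizer ({g} : Set G)) := Nat.card_pos
    have h2 : S.ncard = cl.ncard := Nat.eq_of_mul_eq_mul_right hCpos h1
    have heq : cl = S := Set.eq_of_subset_of_ncard_le hsub (le_of_eq h2) hSfin
    have hmem : g * n ∈ S := by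
      show IsConj (QuotientGroup.mk g : G ⧸ N) (QuotientGroup.mk (g * n))
      have : (QuotientGroup.mk (g * n) : G ⧸ N) = QuotientGroup.mk g := by
        rw [QuotientGroup.eq]
        have : (g * n)⁻¹ * g = n⁻¹ := by group
        rw [this]; exact N.inv_mem hn
      rw [this]
    rw [← heq] at hmem
    have hmem' : IsConj g (g * n) := hmem
    rw [isConj_iff] at hmem'
    exact hmem'

/-- Let G be a finite group and N a normal subgroup. Then the conjugacy class of every element g outside N is a union of cosets of N (gn is conjugate to g for all n ∈ N) if and only if for every g outside N the centralizer of g in G has the same order as the centralizer of gN in G/N. -/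
theorem result {G : Type*} [Group G] [Finite G] (N : Subgroup G) [N.Normal] :
    (∀ g : G, g ∉ N → ∀ n ∈ N, ∃ x : G, x * g * x⁻¹ = g * n) ↔
      ∀ g : G, g ∉ N → Nat.card (Subgroup.centralizer ({g} : Set G)) =
        Nat.card (Subgroup.centralizer ({(QuotientGroup.mk g : G ⧸ N)} : Set (G ⧸ N))) := by
  constructor
  · intro h g hg
    exact (per_element N g).1 (h g hg)
  · intro h g hg
    exact (per_element N g).2 (h g hg)

end Cfsg.Agent.S4142
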