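import Cfsg.Statements.S4145
import Cfsg.Agent.Lib.Helper78.PNilpotent
import Cfsg.Agent.Lib.Helper55.CyclicSylow
import Cfsg.Agent.Lib.Helper32.Burnside

set_option autoImplicit false
open Cfsg

namespace Cfsg.Agent.S4145

open Subgroup Cfsg.Agent.Lib.Helper33 Cfsg.Agent.Lib.Helper55 Cfsg.Agent.Lib.Helper32
  Cfsg.Agent.Lib.Helper78
open scoped commutatorElement

/-- Let G be a finite group with a cyclic Sylow p-subgroup and H a normal subgroup such that p divides both the order of H and the index of H. Then H has a normal p-complement and G is p-solvable. -/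
theorem result {G : Type*} [Group G] [Finite G] (p : ℕ) [Fact p.Prime]
    (P : Sylow p G) (hP : IsCyclic (P : Subgroup G)) (H : Subgroup G) [H.Normal] (h1 : p ∣ Nat.card H) (h2 : p ∣ H.index) :
    Cfsg.HasNormalPComplement p H ∧ Cfsg.IsPSolvable p G := by
  classical
  have hpp : p.Prime := Fact.out
  have hHn : H.Normal := inferInstance
  -- P commutative
  have hcommP : ∀ a ∈ (P : Subgroup G), ∀ b ∈ (P : Subgroup G), a * b = b * a := by
    intro a ha b hb
    let _ : CommGroup (P : Subgroup G) := IsCyclic.commGroup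
    exact congrArg Subtype.val (mul_comm (⟨a, ha⟩ : (P : Subgroup G)) ⟨b, hb⟩)
  set Q : Subgroup G := (P : Subgroup G) ⊓ H with hQ
  have hQP : Q ≤ P := inf_le_left
  have hQH : Q ≤ H := inf_le_right
  have hQp : IsPGroup p Q := P.isPGroup'.to_le hQP
  have hQidx : ¬ p ∣ Q.relIndex H := not_dvd_relIndex_inf_normal P H
  have hQbot : Q ≠ ⊥ := by
    intro h
    rw [h, Subgroup.relIndex_bot_left] at hQidx
    exact hQidx h1
  obtain ⟨x₀, hx₀Q, hx₀1⟩ : ∃ x, x ∈ Q ∧ x ≠ 1 := by
    by_contra hall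
    push Not at hall
    exact hQbot ((Subgroup.eq_bot_iff_forall Q).mpr hall)
  have hPH : ¬ (P : Subgroup G) ≤ H := by
    intro h
    exact P.not_dvd_index (h2.trans (Subgroup.index_dvd_of_le h))
  set C := Subgroup.centralizer (Q : Set G) with hC
  set K := Subgroup.normalizer (Q : Set G) with hK
  have hPC : (P : Subgroup G) ≤ C := by
    intro y hy
    rw [hC, Subgroup.mem_centralizer_iff]
    intro q hq
    exact hcommP q (hQP hq) y hy
  have hCK : C ≤ K := Subgroup.centralizer_le_normalizer (Q : Set G)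
  have hcjKC : ∀ k ∈ K, cj k C = C := by
    intro k hk
    have : cj k Q = Q := cj_eq_self_iff.mpr hk
    rw [hC, ← centralizer_cj, this]
  have hPCidx : ¬ p ∣ (P : Subgroup G).relIndex C :=
    fun h => P.not_dvd_index (h.trans (Subgroup.relIndex_dvd_index_of_le hPC))
  have hNC : Subgroup.normalizer ((P : Subgroup G) : Set G) ⊓ C ≤
      Subgroup.centralizer ((P : Subgroup G) : Set G) := by
    rintro g ⟨hgN, hgC⟩
    refine mem_centralizer_of_cyclic_sylow p P hP g hgN x₀ (hQP hx₀Q) hx₀1 ?_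
    have hgC' : g ∈ Subgroup.centralizer (Q : Set G) := hgC
    rw [Subgroup.mem_centralizer_iff] at hgC'
    exact (hgC' x₀ hx₀Q).symm
  obtain ⟨P'C, KC, -, -, -, hLcop, hLsup, hLmem, hLcomm, hLcard⟩ :=
    pComplement_of_subgroup C P hPC P.isPGroup' hPCidx hNC
  set L := KC.map C.subtype with hL
  have hLC : L ≤ C := by rw [← hLsup]; exact le_sup_left
  have hcjKL : ∀ k ∈ K, cj k L = L :=
    fun k hk => cj_eq_of_mem_iff_coprime C L hLC hLmem k (hcjKC k hk)
  obtain ⟨a, ha⟩ := IsPGroup.iff_card.mp P.isPGroup'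
  obtain ⟨b, hb⟩ := IsPGroup.iff_card.mp hQp
  -- key claim
  have hkey : K ⊓ H ≤ C := by
    rintro m ⟨hmK, hmH⟩
    by_contra hmC
    have hc1 : cj m (P : Subgroup G) ≤ C := by
      have := cj_mono (g := m) hPC
      rwa [hcjKC m hmK] at this
    obtain ⟨c, hcC, hc⟩ := sylow_sub hPC P.isPGroup' hPCidx hc1 (isPGroup_cj P.isPGroup')
    have hcm : cj (c * m) (P : Subgroup G) = P := by
      rw [cj_mul]
      exact Subgroup.eq_of_le_of_card_ge hc (by rw [card_cj, card_cj])
    set n := c * m with hn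
    have hnN : n ∈ Subgroup.normalizer ((P : Subgroup G) : Set G) := cj_eq_self_iff.mp hcm
    have hnC : n ∉ C := by
      intro h
      apply hmC
      have : m = c⁻¹ * n := by rw [hn]; group
      rw [this]
      exact C.mul_mem (C.inv_mem hcC) h
    have hfpf : ∀ x ∈ (P : Subgroup G), n * x = x * n → x = 1 := by
      intro x hx hnx
      by_contra hx1
      have hnCP := mem_centralizer_of_cyclic_sylow p P hP n hnN x hx hx1 hnx
      apply hnC
      rw [hC]
      exact Subgroup.centralizer_le (show (Q : Set G) ⊆ (P : Subgroup G) from hQP) hnCP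
    have hconjP : ∀ w ∈ (P : Subgroup G), n * w * n⁻¹ ∈ (P : Subgroup G) := by
      intro w hw
      have := conj_mem_cj (g := n) hw
      rwa [hcm] at this
    let δ : ↥(P : Subgroup G) → ↥(P : Subgroup G) := fun w =>
      ⟨(w : G)⁻¹ * (n * w * n⁻¹),
        (P : Subgroup G).mul_mem ((P : Subgroup G).inv_mem w.2) (hconjP w w.2)⟩
    have hδinj : Function.Injective δ := by
      intro w₁ w₂ h
      have h' : (w₁ : G)⁻¹ * (n * w₁ * n⁻¹) = (w₂ : G)⁻¹ * (n * w₂ * n⁻¹) :=
        congrArg Subtype.val h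
      have e1 : (w₂ : G) * (w₁ : G)⁻¹ = n * ((w₂ : G) * (w₁ : G)⁻¹) * n⁻¹ := by
        have e0 : (w₂ : G) * ((w₁ : G)⁻¹ * (n * w₁ * n⁻¹)) = n * w₂ * n⁻¹ := by
          rw [h']; group
        calc (w₂ : G) * (w₁ : G)⁻¹
            = ((w₂ : G) * ((w₁ : G)⁻¹ * (n * w₁ * n⁻¹))) * (n * w₁ * n⁻¹)⁻¹ := by group
          _ = (n * w₂ * n⁻¹) * (n * w₁ * n⁻¹)⁻¹ := by rw [e0]
          _ = n * ((w₂ : G) * (w₁ : G)⁻¹) * n⁻¹ := by group
      have hu : n * ((w₂ : G) * (w₁ : G)⁻¹) = ((w₂ : G) * (w₁ : G)⁻¹) * n := by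
        calc n * ((w₂ : G) * (w₁ : G)⁻¹) = (n * ((w₂ : G) * (w₁ : G)⁻¹) * n⁻¹) * n := by group
          _ = ((w₂ : G) * (w₁ : G)⁻¹) * n := by rw [← e1]
      have := hfpf _ ((P : Subgroup G).mul_mem w₂.2 ((P : Subgroup G).inv_mem w₁.2)) hu
      apply Subtype.ext
      exact (mul_inv_eq_one.mp this).symm
    have hδsurj : Function.Surjective δ := Finite.surjective_of_injective hδinj
    have hPle : (P : Subgroup G) ≤ L ⊔ (H ⊓ C) := by
      intro y hy
      obtain ⟨w, hw⟩ := hδsurj ⟨y, hy⟩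
      have hy' : y = (w : G)⁻¹ * (n * w * n⁻¹) := (congrArg Subtype.val hw).symm
      obtain ⟨v, hvP⟩ := w
      change y = v⁻¹ * (n * v * n⁻¹) at hy'
      have hvC : v ∈ C := hPC hvP
      have hhH : m * v * m⁻¹ * v⁻¹ ∈ H := by
        have : v * m⁻¹ * v⁻¹ ∈ H := hHn.conj_mem m⁻¹ (H.inv_mem hmH) v
        have e : m * v * m⁻¹ * v⁻¹ = m * (v * m⁻¹ * v⁻¹) := by group
        rw [e]; exact H.mul_mem hmH this
      have hhC : m * v * m⁻¹ * v⁻¹ ∈ C := by
        have : m * v * m⁻¹ ∈ C := by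
          have := conj_mem_cj (g := m) hvC
          rwa [hcjKC m hmK] at this
        exact C.mul_mem this (C.inv_mem hvC)
      have e : y = ⁅v⁻¹, c⁆ * ((c * v⁻¹) * (m * v * m⁻¹ * v⁻¹) * (c * v⁻¹)⁻¹) := by
        rw [hy', hn, commutatorElement_def]; group
      rw [e]
      apply Subgroup.mul_mem_sup
      · exact hLcomm _ (C.inv_mem hvC) _ hcC
      · have hkC : c * v⁻¹ ∈ C := C.mul_mem hcC (C.inv_mem hvC)
        refine ⟨hHn.conj_mem _ hhH _, ?_⟩
        have := conj_mem_cj (g := c * v⁻¹) hhC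
        rwa [hcjKC _ (hCK hkC)] at this
    have hYcard : Nat.card (L ⊔ (H ⊓ C) : Subgroup G) ∣
        Nat.card L * Nat.card (H ⊓ C : Subgroup G) := by
      have hnorm : H ⊓ C ≤ Subgroup.normalizer (L : Set G) := by
        intro k hk
        exact cj_eq_self_iff.mp (hcjKL k (hCK hk.2))
      have e1 := relIndex_sup_right_of_le_normalizer hnorm
      have e2 := card_mul_relIndex_eq (le_sup_right : L ≤ (H ⊓ C) ⊔ L)
      rw [sup_comm, ← e2, e1]
      exact Nat.mul_dvd_mul_left _ (Subgroup.relIndex_dvd_card L (H ⊓ C))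
    have hPdvd : Nat.card (P : Subgroup G) ∣ Nat.card L * Nat.card (H ⊓ C : Subgroup G) :=
      (Subgroup.card_dvd_of_le hPle).trans hYcard
    have hcop : (Nat.card (P : Subgroup G)).Coprime (Nat.card L) := by
      rw [ha]; exact Nat.Coprime.pow_left a hLcop.symm
    have hPdvd2 : Nat.card (P : Subgroup G) ∣ Nat.card (H ⊓ C : Subgroup G) :=
      hcop.dvd_of_dvd_mul_left hPdvd
    have hPdvd3 : Nat.card (P : Subgroup G) ∣ Nat.card H :=
      hPdvd2.trans (Subgroup.card_dvd_of_le inf_le_left)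
    have e3 := card_mul_relIndex_eq hQH
    rw [← e3, ha, hb] at hPdvd3
    have hcop2 : (p ^ a).Coprime (Q.relIndex H) :=
      Nat.Coprime.pow_left a ((Nat.Prime.coprime_iff_not_dvd hpp).mpr hQidx)
    have h4 : p ^ a ∣ p ^ b := hcop2.dvd_of_dvd_mul_right hPdvd3
    have h5 : a ≤ b := (Nat.pow_dvd_pow_iff_le_right hpp.one_lt).mp h4
    apply hPH
    have : Q = P := Subgroup.eq_of_le_of_card_ge hQP
      (by rw [ha, hb]; exact Nat.pow_le_pow_right hpp.pos h5)
    rw [← this]; exact hQH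
  -- H has a normal p-complement
  obtain ⟨Q', M', hQ'coe, hM'n, hM'c, hMcop, hMsup, hMmem, hMcomm, hMcard⟩ :=
    pComplement_of_subgroup H Q hQH hQp hQidx hkey
  refine ⟨⟨Q', M', hM'n, hM'c⟩, ?_⟩
  set M := M'.map H.subtype with hM
  have hMH : M ≤ H := by rw [← hMsup]; exact le_sup_left
  have hHcj : ∀ g, cj g H = H := fun g => cj_eq_self_iff.mpr (by
    rw [Subgroup.normalizer_eq_top]; exact Subgroup.mem_top g)
  have hMn : M.Normal :=
    normal_of_forall_cj M (fun g => cj_eq_of_mem_iff_coprime H M hMH hMmem g (hHcj g))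
  have hfrat : K ⊔ H = ⊤ := by
    have := Sylow.normalizer_sup_eq_top Q'
    rw [hQ'coe, Subgroup.subgroupOf_map_subtype, inf_eq_left.mpr hQH] at this
    exact this
  have hnormal_of : ∀ Y : Subgroup G, H ≤ Y → (∀ k ∈ K, cj k Y = Y) → Y.Normal := by
    intro Y hHY hKY
    have : Subgroup.normalizer (Y : Set G) = ⊤ := by
      rw [eq_top_iff, ← hfrat]
      apply sup_le
      · intro k hk; exact cj_eq_self_iff.mp (hKY k hk)
      · exact hHY.trans Subgroup.le_normalizer
    exact Subgroup.normalizer_eq_top_iff.mp this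
  have hHLn : (H ⊔ L).Normal :=
    hnormal_of _ le_sup_left (fun k hk => by rw [cj_sup, hHcj, hcjKL k hk])
  have hHCn : (H ⊔ C).Normal :=
    hnormal_of _ le_sup_left (fun k hk => by rw [cj_sup, hHcj, hcjKC k hk])
  refine ⟨5, ![⊥, M, H, H ⊔ L, H ⊔ C, ⊤], rfl, rfl, ?_, ?_, ?_⟩
  · rw [Fin.monotone_iff_le_succ]
    intro i
    fin_cases i
    · exact bot_le
    · exact hMH
    · exact le_sup_left
    · exact sup_le_sup_left hLC H
    · exact le_top
  · intro i
    fin_cases i
    · exact Subgroup.normal_bot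
    · exact hMn
    · exact hHn
    · exact hHLn
    · exact hHCn
    · exact Subgroup.normal_top
  · intro i
    fin_cases i
    · right
      change ((⊥ : Subgroup G).relIndex M).Coprime p
      rw [Subgroup.relIndex_bot_left]; exact hMcop
    · left
      change ∃ m, M.relIndex H = p ^ m
      refine ⟨b, ?_⟩
      have e := card_mul_relIndex_eq hMH
      rw [← hMcard] at e
      have := Nat.eq_of_mul_eq_mul_left Nat.card_pos e
      rw [this, hb]
    · right
      change (H.relIndex (H ⊔ L)).Coprime p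
      rw [Subgroup.relIndex_sup_left]
      exact Nat.Coprime.coprime_dvd_left (Subgroup.relIndex_dvd_card H L) hLcop
    · left
      change ∃ m, (H ⊔ L).relIndex (H ⊔ C) = p ^ m
      have e : H ⊔ C = (H ⊔ L) ⊔ (P : Subgroup G) := by rw [sup_assoc, hLsup]
      rw [e, Subgroup.relIndex_sup_left]
      have hd : (H ⊔ L).relIndex (P : Subgroup G) ∣ p ^ a := by
        rw [← ha]; exact Subgroup.relIndex_dvd_card _ _
      obtain ⟨m, -, hm⟩ := (Nat.dvd_prime_pow hpp).mp hd
      exact ⟨m, hm⟩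
    · right
      change ((H ⊔ C).relIndex ⊤).Coprime p
      rw [Subgroup.relIndex_top_right]
      have hd : (H ⊔ C).index ∣ (P : Subgroup G).index :=
        Subgroup.index_dvd_of_le (hPC.trans le_sup_right)
      exact Nat.Coprime.coprime_dvd_left hd
        ((Nat.Prime.coprime_iff_not_dvd hpp).mpr P.not_dvd_index).symm

end Cfsg.Agent.S4145
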