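import Cfsg.Statements.S4152
import Cfsg.Agent.Lib.Helper24.PiClasses

set_option autoImplicit false
open Cfsg

namespace Cfsg.Agent.S4152

open Cfsg.Agent.Lib.Helper67 Cfsg.Agent.Lib.Helper24.PiCl

theorem pred_iff {H : Type*} [Group H] (π : Set ℕ) (C : ConjClasses H) :
    (∀ q : ℕ, q.Prime → (∃ g : H, ConjClasses.mk g = C ∧ q ∣ orderOf g) → q ∈ π) ↔
      (∀ g : H, ConjClasses.mk g = C → PiNat π (orderOf g)) := by
  constructor
  · intro h g hg q hq hqd
    exact h q hq ⟨g, hg, hqd⟩
  · rintro h q hq ⟨g, hg, hqd⟩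
    exact h g hg q hq hqd

/-- Let G be a finite group, N a normal subgroup and π a set of primes. Then the number of conjugacy classes of π-elements of G (elements whose order is divisible only by primes in π) is at most the number of conjugacy classes of π-elements of N (under conjugation by N) times the number of conjugacy classes of π-elements of G/N. -/
theorem result {G : Type*} [Group G] [Finite G] (N : Subgroup G) [N.Normal] (π : Set ℕ) :
    Nat.card {C : ConjClasses G // ∀ q : ℕ, q.Prime → (∃ g : G, ConjClasses.mk g = C ∧ q ∣ orderOf g) → q ∈ π} ≤ Nat.card {C : ConjClasses N // ∀ q : ℕ, q.Prime → (∃ g : N, ConjClasses.mk g = C ∧ q ∣ orderOf g) → q ∈ π} * Nat.card {C : ConjClasses (G ⧸ N) // ∀ q : ℕ, q.Prime → (∃ g : (G ⧸ N), ConjClasses.mk g = C ∧ q ∣ orderOf g) → q ∈ π} := by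
  rw [Nat.card_congr (Equiv.subtypeEquivRight (pred_iff (H := G) π)),
    Nat.card_congr (Equiv.subtypeEquivRight (pred_iff (H := N) π)),
    Nat.card_congr (Equiv.subtypeEquivRight (pred_iff (H := G ⧸ N) π))]
  exact card_piClasses_le (π := π) N

end Cfsg.Agent.S4152
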