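import Cfsg.Statements.S4153

set_option autoImplicit false
open Cfsg

namespace Cfsg.Agent.S4153

open scoped Pointwise

section
variable {G : Type*} [Group G] [Finite G] (p : ℕ) [Fact p.Prime] (N : Subgroup G) [N.Normal]

theorem lemmaA (P Q : Sylow p G) (Pbar : Sylow p (G ⧸ N)) :
    Nat.card (N.subgroupOf (Q : Subgroup G)) * Nat.card (Pbar : Subgroup (G ⧸ N))
      = Nat.card (P : Subgroup G) := by
  have h1 : Nat.card (N.subgroupOf (Q : Subgroup G)) * N.relIndex (Q : Subgroup G)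
      = Nat.card (Q : Subgroup G) := Subgroup.card_mul_index _
  have h2 : N.relIndex (Q : Subgroup G) = Nat.card ((Q : Subgroup G).map (QuotientGroup.mk' N)) := by
    have := Subgroup.relIndex_ker (K := (Q : Subgroup G)) (QuotientGroup.mk' N)
    rwa [QuotientGroup.ker_mk'] at this
  have h3 : Nat.card ((Q : Subgroup G).map (QuotientGroup.mk' N)) = Nat.card (Pbar : Subgroup (G ⧸ N)) := by
    have e1 := (Q.mapSurjective (QuotientGroup.mk'_surjective N)).card_eq_multiplicity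
    have e2 := Pbar.card_eq_multiplicity
    rw [Sylow.coe_mapSurjective] at e1
    rw [e1, e2]
  have h4 : Nat.card (Q : Subgroup G) = Nat.card (P : Subgroup G) := by
    rw [Q.card_eq_multiplicity, P.card_eq_multiplicity]
  rw [← h3, ← h2, h1, h4]

theorem lemmaB (q : G ⧸ N) (hq : ∃ k : ℕ, orderOf q = p ^ k) :
    ∃ Q : Sylow p G, ∃ s ∈ (Q : Subgroup G), (QuotientGroup.mk s : G ⧸ N) = q := by
  obtain ⟨k, hk⟩ := hq
  have hpg : IsPGroup p (Subgroup.zpowers q) := by
    rw [IsPGroup.iff_card, Nat.card_zpowers, hk]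
    exact ⟨k, rfl⟩
  obtain ⟨R, hR⟩ := hpg.exists_le_sylow
  obtain ⟨Q, hQ⟩ := Sylow.mapSurjective_surjective (QuotientGroup.mk'_surjective N) p R
  have hqR : q ∈ (R : Subgroup (G ⧸ N)) := hR (Subgroup.mem_zpowers q)
  rw [← hQ, Sylow.coe_mapSurjective, Subgroup.mem_map] at hqR
  obtain ⟨s, hs, hsq⟩ := hqR
  exact ⟨Q, s, hs, hsq⟩

omit [Finite G] in
theorem isPElement_of_mem_sylow (Q : Sylow p G) (g : G) (hg : g ∈ (Q : Subgroup G)) :
    ∃ k : ℕ, orderOf g = p ^ k := by
  obtain ⟨k, hk⟩ := (IsPGroup.iff_orderOf.mp Q.isPGroup') ⟨g, hg⟩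
  exact ⟨k, by rw [← hk]; exact (Subgroup.orderOf_mk g hg).symm⟩

/-- the p-elements of `G` -/
abbrev U (p : ℕ) (G : Type*) [Group G] := {g : G // ∃ k : ℕ, orderOf g = p ^ k}

/-- the p-elements in a coset -/
abbrev F (q : G ⧸ N) := {u : U p G // (QuotientGroup.mk u.1 : G ⧸ N) = q}

theorem lemmaC (P : Sylow p G) (Pbar : Sylow p (G ⧸ N)) (q : G ⧸ N)
    (hq : ∃ k : ℕ, orderOf q = p ^ k) :
    Nat.card (P : Subgroup G) ≤ Nat.card (F p N q) * Nat.card (Pbar : Subgroup (G ⧸ N)) := by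
  obtain ⟨Q, s, hs, hsq⟩ := lemmaB p N q hq
  rw [← lemmaA p N P Q Pbar]
  apply Nat.mul_le_mul_right
  apply Nat.card_le_card_of_injective
    (fun n : N.subgroupOf (Q : Subgroup G) =>
      (⟨⟨s * n.1.1, isPElement_of_mem_sylow p Q _ (mul_mem hs n.1.2)⟩, by
        show (QuotientGroup.mk (s * n.1.1) : G ⧸ N) = q
        rw [← hsq, QuotientGroup.eq]
        have : (s * n.1.1)⁻¹ * s = (n.1.1)⁻¹ := by group
        rw [this]
        exact N.inv_mem n.2⟩ : F p N q))
  intro n n' hnn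
  have h1 : s * n.1.1 = s * n'.1.1 := congrArg (fun z : F p N q => z.1.1) hnn
  exact Subtype.ext (Subtype.ext (mul_left_cancel h1))

theorem lemmaC' (hcent : N ≤ Subgroup.center G) (P : Sylow p G) (Pbar : Sylow p (G ⧸ N)) (q : G ⧸ N)
    (hq : ∃ k : ℕ, orderOf q = p ^ k) :
    Nat.card (F p N q) * Nat.card (Pbar : Subgroup (G ⧸ N)) = Nat.card (P : Subgroup G) := by
  apply le_antisymm _ (lemmaC p N P Pbar q hq)
  obtain ⟨Q, s, hs, hsq⟩ := lemmaB p N q hq
  rw [← lemmaA p N P Q Pbar]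
  apply Nat.mul_le_mul_right
  -- every p-element of the coset is s * n with n in Q ∩ N
  have key : ∀ u : F p N q, s⁻¹ * u.1.1 ∈ N ∧ s⁻¹ * u.1.1 ∈ (Q : Subgroup G) := by
    intro u
    have hN : s⁻¹ * u.1.1 ∈ N := by
      have : (QuotientGroup.mk s : G ⧸ N) = QuotientGroup.mk u.1.1 := by rw [hsq, u.2]
      rwa [QuotientGroup.eq] at this
    refine ⟨hN, ?_⟩
    set n := s⁻¹ * u.1.1 with hn
    have hncent : n ∈ Subgroup.center G := hcent hN
    -- n is a p-element
    obtain ⟨k1, hk1⟩ := isPElement_of_mem_sylow p Q s hs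
    obtain ⟨k2, hk2⟩ := u.1.2
    have hcomm : Commute s⁻¹ u.1.1 := by
      have h1 : u.1.1 = s * n := by rw [hn]; group
      have h2 : Commute s n := Subgroup.mem_center_iff.mp hncent s
      rw [h1]
      exact (Commute.refl s).inv_left.mul_right h2.inv_left
    have hpow : n ^ (p ^ (k1 + k2)) = 1 := by
      rw [hn, hcomm.mul_pow, inv_pow, pow_add, pow_mul, ← hk1, pow_orderOf_eq_one, one_pow, inv_one,
        one_mul, mul_comm, pow_mul, ← hk2, pow_orderOf_eq_one, one_pow]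
    have hpgn : IsPGroup p (Subgroup.zpowers n) := by
      rw [IsPGroup.iff_card, Nat.card_zpowers]
      obtain ⟨j, -, hj⟩ := (Nat.dvd_prime_pow (Fact.out)).mp (orderOf_dvd_of_pow_eq_one hpow)
      exact ⟨j, hj⟩
    obtain ⟨Q', hQ'⟩ := hpgn.exists_le_sylow
    obtain ⟨c, hc⟩ := MulAction.exists_smul_eq G Q Q'
    have hnQ' : n ∈ (Q' : Subgroup G) := hQ' (Subgroup.mem_zpowers n)
    rw [← hc, Sylow.coe_subgroup_smul] at hnQ'
    obtain ⟨n', hn', hnn'⟩ := hnQ'
    have : n' = n := by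
      have h1 : c * n' * c⁻¹ = n := hnn'
      have h2 : n' = c⁻¹ * n * c := by rw [← h1]; group
      rw [h2, mul_assoc, ← Subgroup.mem_center_iff.mp hncent c, inv_mul_cancel_left]
    rw [← this]; exact hn'
  apply Nat.card_le_card_of_injective
    (fun u : F p N q => (⟨⟨s⁻¹ * u.1.1, (key u).2⟩, (key u).1⟩ : N.subgroupOf (Q : Subgroup G)))
  intro u u' huu
  have h1 : s⁻¹ * u.1.1 = s⁻¹ * u'.1.1 := congrArg (fun z : N.subgroupOf (Q : Subgroup G) => z.1.1) huu
  exact Subtype.ext (Subtype.ext (mul_left_cancel h1))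

omit [Finite G] in
theorem lemmaD (q : G ⧸ N) (hq : ¬ ∃ k : ℕ, orderOf q = p ^ k) : Nat.card (F p N q) = 0 := by
  have : IsEmpty (F p N q) := by
    constructor
    rintro ⟨⟨g, k, hk⟩, hg⟩
    apply hq
    have h1 : orderOf q ∣ p ^ k := by
      rw [← hk]
      have : q = (QuotientGroup.mk' N) g := hg.symm
      rw [this]
      exact orderOf_map_dvd _ g
    obtain ⟨j, -, hj⟩ := (Nat.dvd_prime_pow (Fact.out)).mp h1
    exact ⟨j, hj⟩
  exact Nat.card_of_isEmpty

omit [Fact p.Prime] [N.Normal] in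
theorem card_U_eq_sum [Fintype (G ⧸ N)] :
    Nat.card (U p G) = ∑ q : G ⧸ N, Nat.card (F p N q) := by
  rw [← Nat.card_sigma]
  exact Nat.card_congr (Equiv.sigmaFiberEquiv (fun u : U p G => (QuotientGroup.mk u.1 : G ⧸ N))).symm

end

/-- Let G be a finite group, p a prime, N a normal subgroup, P a Sylow p-subgroup of G and P̄ a Sylow p-subgroup of G/N. Count the elements of p-power order, the identity included. Then (number of such elements of G/N)/#P̄ ≤ (number of such elements of G)/#P, stated as a cross-multiplied inequality, with equality when N is central. -/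
theorem result {G : Type*} [Group G] [Finite G] (p : ℕ) [Fact p.Prime] (N : Subgroup G) [N.Normal]
    (P : Sylow p G) (Pbar : Sylow p (G ⧸ N)) :
    Nat.card {g : (G ⧸ N) // ∃ k : ℕ, orderOf g = p ^ k} * Nat.card (P : Subgroup G) ≤ Nat.card {g : G // ∃ k : ℕ, orderOf g = p ^ k} * Nat.card (Pbar : Subgroup (G ⧸ N)) ∧
    (N ≤ Subgroup.center G → Nat.card {g : (G ⧸ N) // ∃ k : ℕ, orderOf g = p ^ k} * Nat.card (P : Subgroup G) = Nat.card {g : G // ∃ k : ℕ, orderOf g = p ^ k} * Nat.card (Pbar : Subgroup (G ⧸ N))) := by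
  classical
  have : Fintype (G ⧸ N) := Fintype.ofFinite _
  have hsum : Nat.card {g : G // ∃ k : ℕ, orderOf g = p ^ k} * Nat.card (Pbar : Subgroup (G ⧸ N))
      = ∑ q : G ⧸ N, Nat.card (F p N q) * Nat.card (Pbar : Subgroup (G ⧸ N)) := by
    rw [← Finset.sum_mul]
    congr 1
    exact card_U_eq_sum p N
  have hleft : Nat.card {g : (G ⧸ N) // ∃ k : ℕ, orderOf g = p ^ k} * Nat.card (P : Subgroup G)
      = ∑ q : G ⧸ N, if (∃ k : ℕ, orderOf q = p ^ k) then Nat.card (P : Subgroup G) else 0 := by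
    rw [← Finset.sum_filter, Finset.sum_const, smul_eq_mul, Nat.card_eq_fintype_card,
      Fintype.card_subtype]
  rw [hsum, hleft]
  constructor
  · apply Finset.sum_le_sum
    intro q _
    split_ifs with hq
    · exact lemmaC p N P Pbar q hq
    · exact Nat.zero_le _
  · intro hcent
    apply Finset.sum_congr rfl
    intro q _
    split_ifs with hq
    · exact (lemmaC' p N hcent P Pbar q hq).symm
    · rw [lemmaD p N q hq, zero_mul]

end Cfsg.Agent.S4153
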