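import Cfsg.Statements.S4154

set_option autoImplicit false
open Cfsg

namespace Cfsg.Agent.S4154

/-- The fixed-point subgroup of an automorphism. -/
def fixedSubgroup {G : Type*} [Group G] (α : MulAut G) : Subgroup G where
  carrier := {c | α c = c}
  mul_mem' := by
    intro a b ha hb
    simp only [Set.mem_ofPred_eq] at *
    rw [map_mul, ha, hb]
  one_mem' := map_one α
  inv_mem' := by
    intro a ha
    simp only [Set.mem_ofPred_eq] at *
    rw [map_inv, ha]

theorem mem_fixedSubgroup {G : Type*} [Group G] (α : MulAut G) (c : G) :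
    c ∈ fixedSubgroup α ↔ α c = c := Iff.rfl

/-- The map `g ↦ g * (α g)⁻¹` on left cosets of the fixed subgroup. -/
def twist {G : Type*} [Group G] (α : MulAut G) : G ⧸ fixedSubgroup α → G :=
  Quotient.lift (fun g : G => g * (α g)⁻¹) (by
    intro a b hab
    have h : a⁻¹ * b ∈ fixedSubgroup α := QuotientGroup.leftRel_apply.mp hab
    rw [mem_fixedSubgroup, map_mul, map_inv] at h
    show a * (α a)⁻¹ = b * (α b)⁻¹
    have : α b = α a * (a⁻¹ * b) := by rw [← h]; group
    rw [this]; group)

theorem twist_mk {G : Type*} [Group G] (α : MulAut G) (g : G) :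
    twist α (QuotientGroup.mk g) = g * (α g)⁻¹ := rfl

theorem twist_injective {G : Type*} [Group G] (α : MulAut G) : Function.Injective (twist α) := by
  intro q q'
  induction q using QuotientGroup.induction_on with
  | H a =>
    induction q' using QuotientGroup.induction_on with
    | H b =>
      intro h
      rw [twist_mk, twist_mk] at h
      rw [QuotientGroup.eq, mem_fixedSubgroup, map_mul, map_inv]
      have : α b = (b⁻¹ * (a * (α a)⁻¹))⁻¹ := by rw [h]; group
      rw [this]; group

theorem unique_factor {G : Type*} [Group G] [Finite G] (α : MulAut G)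
    (hccp : ∀ x : G, ∃ c g : G, α c = c ∧ x = c * (g⁻¹ * α g))
    (c c' : G) (hc : α c = c) (hc' : α c' = c') (q q' : G ⧸ fixedSubgroup α)
    (h : c * twist α q = c' * twist α q') : c = c' ∧ q = q' := by
  classical
  choose cf gf hcf hx using hccp
  let Ψ : G → fixedSubgroup α × (G ⧸ fixedSubgroup α) :=
    fun x => (⟨cf x, hcf x⟩, QuotientGroup.mk (gf x)⁻¹)
  have hΨ : ∀ x, x = ((Ψ x).1 : G) * twist α (Ψ x).2 := by
    intro x
    show x = cf x * twist α (QuotientGroup.mk (gf x)⁻¹)
    rw [twist_mk, map_inv, inv_inv]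
    exact hx x
  have hinj : Function.Injective Ψ := by
    intro x y hxy
    rw [hΨ x, hΨ y, hxy]
  have hcard : Nat.card (fixedSubgroup α × (G ⧸ fixedSubgroup α)) ≤ Nat.card G := by
    rw [Nat.card_prod, mul_comm, ← Subgroup.card_eq_card_quotient_mul_card_subgroup]
  have hbij := hinj.bijective_of_nat_card_le hcard
  obtain ⟨x, hx1⟩ := hbij.2 (⟨c, hc⟩, q)
  obtain ⟨x', hx2⟩ := hbij.2 (⟨c', hc'⟩, q')
  have e1 : x = c * twist α q := by rw [hΨ x, hx1]
  have e2 : x' = c' * twist α q' := by rw [hΨ x', hx2]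
  have : x = x' := by rw [e1, e2, h]
  rw [this, hx2] at hx1
  have h1 := congrArg (fun z => (z.1 : G)) hx1
  have h2 := congrArg (fun z => z.2) hx1
  exact ⟨h1.symm, h2.symm⟩

/-- Let G be a finite group and α an automorphism of G such that every element of G is the product of an element fixed by α and an element of the form g⁻¹α(g). If N is a normal α-invariant subgroup, then the automorphism ᾱ induced on G/N has the same property, and every coset fixed by ᾱ contains an element fixed by α (so the fixed points of ᾱ are the images of the fixed points of α). -/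
theorem result {G : Type*} [Group G] [Finite G] (α : MulAut G)
    (hccp : ∀ x : G, ∃ c g : G, α c = c ∧ x = c * (g⁻¹ * α g))
    (N : Subgroup G) [N.Normal] (hN : ∀ n ∈ N, α n ∈ N) :
    (∀ x : G, ∃ c g : G, c⁻¹ * α c ∈ N ∧ x⁻¹ * (c * (g⁻¹ * α g)) ∈ N) ∧
    (∀ x : G, x⁻¹ * α x ∈ N → ∃ c : G, α c = c ∧ c⁻¹ * x ∈ N) := by
  classical
  refine ⟨?_, ?_⟩
  · intro x
    obtain ⟨c, g, hc, hx⟩ := hccp x
    exact ⟨c, g, by rw [hc]; simp, by rw [← hx]; simp⟩
  · -- S: cosets q with twist q in D
    let S := {q : G ⧸ fixedSubgroup α // (twist α q)⁻¹ * α (twist α q) ∈ N}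
    have key : ∀ t : G, twist α (QuotientGroup.mk t⁻¹) = t⁻¹ * α t := by
      intro t
      rw [twist_mk, map_inv, inv_inv]
    let Φ : S → S := fun q => ⟨QuotientGroup.mk (twist α q.1)⁻¹, by
      rw [key]
      have h1 := q.2
      have h2 := hN _ h1
      have := N.mul_mem (N.inv_mem h1) h2
      exact this⟩
    have hΦinj : Function.Injective Φ := by
      intro q q' hqq
      have h1 : (QuotientGroup.mk (twist α q.1)⁻¹ : G ⧸ fixedSubgroup α)
          = QuotientGroup.mk (twist α q'.1)⁻¹ := congrArg Subtype.val hqq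
      rw [QuotientGroup.eq, inv_inv] at h1
      have h2 : (1 : G) * twist α q.1 = (twist α q.1 * (twist α q'.1)⁻¹) * twist α q'.1 := by group
      have := unique_factor α hccp 1 _ (map_one α) ((mem_fixedSubgroup α _).mp h1) _ _ h2
      exact Subtype.ext this.2
    have hΦsurj : Function.Surjective Φ := Finite.injective_iff_surjective.mp hΦinj
    intro x hxD
    obtain ⟨c, g, hc, hx⟩ := hccp x
    refine ⟨c, hc, ?_⟩
    have hx' : c⁻¹ * x = twist α (QuotientGroup.mk g⁻¹) := by
      rw [key, hx]; group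
    have hmem : (twist α (QuotientGroup.mk g⁻¹))⁻¹ * α (twist α (QuotientGroup.mk g⁻¹)) ∈ N := by
      rw [← hx', map_mul, map_inv, hc]
      have : (c⁻¹ * x)⁻¹ * (c⁻¹ * α x) = x⁻¹ * α x := by group
      rw [this]; exact hxD
    obtain ⟨q₀, hq₀⟩ := hΦsurj ⟨QuotientGroup.mk g⁻¹, hmem⟩
    have h3 : (QuotientGroup.mk (twist α q₀.1)⁻¹ : G ⧸ fixedSubgroup α) = QuotientGroup.mk g⁻¹ :=
      congrArg Subtype.val hq₀
    rw [hx', ← h3, key]
    exact q₀.2

end Cfsg.Agent.S4154
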