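import Cfsg.Statements.S4155
import Mathlib
import Cfsg.Agent.S0016
import Cfsg.Agent.Lib.Helper48.CoprimeGen

set_option autoImplicit false
open Cfsg

namespace Cfsg.Agent.S4155

/-- The Sylow `p`-part of a normal nilpotent subgroup, as a normal subgroup of the big group. -/
theorem exists_sylow_part {G : Type*} [Group G] [Finite G] (N : Subgroup G) [N.Normal]
    (hnil : Group.IsNilpotent N) (p : ℕ) [hp : Fact p.Prime] :
    ∃ Np : Subgroup G, Np.Normal ∧ Np ≤ N ∧ IsPGroup p Np ∧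
      (∀ x ∈ N, (∃ k : ℕ, x ^ p ^ k = 1) → x ∈ Np) ∧ (p ∣ Nat.card N → Np ≠ ⊥) := by
  obtain ⟨P⟩ : Nonempty (Sylow p N) := inferInstance
  have hPn : (P : Subgroup N).Normal := inferInstance
  have hchar : (P : Subgroup N).Characteristic := P.characteristic_of_normal hPn
  have huniq := Sylow.unique_of_normal P hPn
  refine ⟨(P : Subgroup N).map N.subtype, ?_, ?_, ?_, ?_, ?_⟩
  · exact ConjAct.normal_of_characteristic_of_normal
  · exact Subgroup.map_subtype_le _
  · exact P.isPGroup'.map _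
  · intro x hxN ⟨k, hk⟩
    refine ⟨⟨x, hxN⟩, ?_, rfl⟩
    have hz : IsPGroup p (Subgroup.zpowers (⟨x, hxN⟩ : N)) := by
      intro y
      obtain ⟨y, hy⟩ := y
      obtain ⟨n, rfl⟩ := Subgroup.mem_zpowers_iff.mp hy
      refine ⟨k, ?_⟩
      apply Subtype.ext
      apply Subtype.ext
      simp only [Subgroup.coe_pow, Subgroup.coe_zpow, Subgroup.coe_one]
      rw [← zpow_natCast, ← zpow_mul, mul_comm, zpow_mul, zpow_natCast, hk, one_zpow]
    obtain ⟨P', hP'⟩ := hz.exists_le_sylow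
    have : P' = P := Subsingleton.elim _ _
    rw [this] at hP'
    exact hP' (Subgroup.mem_zpowers _)
  · intro hdvd hbot
    have h1 : Nat.card ((P : Subgroup N).map N.subtype) = Nat.card (P : Subgroup N) :=
      Subgroup.card_map_of_injective N.subtype_injective
    rw [hbot, Subgroup.card_bot] at h1
    have h2 := P.card_eq_multiplicity
    rw [← h1] at h2
    have h3 : Nat.factorization (Nat.card N) p = 0 := by
      by_contra h
      have : 1 < p ^ (Nat.card N).factorization p := Nat.one_lt_pow h hp.out.one_lt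
      omega
    have h4 : 0 < Nat.factorization (Nat.card N) p :=
      hp.out.factorization_pos_of_dvd Nat.card_pos.ne' hdvd
    omega

theorem eq_one_of_pow_pow {G : Type*} [Group G] {q r : ℕ} (hq : q.Prime) (hr : r.Prime)
    (hqr : q ≠ r) {c : G} {a b : ℕ} (h1 : c ^ q ^ a = 1) (h2 : c ^ r ^ b = 1) : c = 1 := by
  have d1 := orderOf_dvd_of_pow_eq_one h1
  have d2 := orderOf_dvd_of_pow_eq_one h2
  have hcop : (q ^ a).Coprime (r ^ b) :=
    Nat.Coprime.pow _ _ ((Nat.coprime_primes hq hr).mpr hqr)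
  have := Nat.dvd_gcd d1 d2
  rw [hcop.gcd_eq_one, Nat.dvd_one] at this
  exact orderOf_eq_one_iff.mp this

theorem eq_one_of_commute {G : Type*} [Group G] [Finite G] (N : Subgroup G)
    (heq : ∀ x : G, x ∉ N → ∀ n ∈ N, orderOf (x * n) = orderOf x)
    {q r : ℕ} (hq : q.Prime) (hr : r.Prime) (hqr : q ≠ r) {x k : G} (hx : x ∉ N) (hk : k ∈ N)
    (hxq : ∃ a, x ^ q ^ a = 1) (hkr : ∃ b, k ^ r ^ b = 1) (hc : Commute x k) : k = 1 := by
  obtain ⟨a, ha⟩ := hxq
  obtain ⟨b, hb⟩ := hkr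
  have h1 := heq x hx k hk
  have d1 := orderOf_dvd_of_pow_eq_one ha
  have d2 := orderOf_dvd_of_pow_eq_one hb
  have hcop0 : (q ^ a).Coprime (r ^ b) :=
    Nat.Coprime.pow _ _ ((Nat.coprime_primes hq hr).mpr hqr)
  have hcop : (orderOf x).Coprime (orderOf k) :=
    Nat.Coprime.coprime_dvd_left d1 (Nat.Coprime.coprime_dvd_right d2 hcop0)
  rw [hc.orderOf_mul_eq_mul_orderOf_of_coprime hcop] at h1
  have hpos : 0 < orderOf x := orderOf_pos x
  have : orderOf k = 1 := by
    have : orderOf x * orderOf k = orderOf x * 1 := by rw [h1, mul_one]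
    exact Nat.eq_of_mul_eq_mul_left hpos this
  exact orderOf_eq_one_iff.mp this

/-- an element outside a subgroup has a prime-power-order power outside the subgroup -/
theorem exists_prime_pow_part {G : Type*} [Group G] [Finite G] (N : Subgroup G) :
    ∀ (n : ℕ) (x : G), orderOf x = n → x ∉ N →
      ∃ q : ℕ, q.Prime ∧ ∃ e : ℕ, x ^ e ∉ N ∧ ∃ a : ℕ, (x ^ e) ^ q ^ a = 1 := by
  intro n
  induction n using Nat.strong_induction_on with
  | _ n ih =>
    intro x hxn hxN
    have hn0 : 0 < n := hxn ▸ orderOf_pos x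
    have hn1 : n ≠ 1 := by
      intro h
      rw [h, orderOf_eq_one_iff] at hxn
      exact hxN (hxn ▸ one_mem N)
    set q := n.minFac with hq
    have hqp : q.Prime := Nat.minFac_prime hn1
    set a := n.factorization q with ha
    set m := n / q ^ a with hm
    have hnm : q ^ a * m = n := Nat.ordProj_mul_ordCompl_eq_self n q
    by_cases hm1 : m = 1
    · refine ⟨q, hqp, 1, by simpa using hxN, a, ?_⟩
      rw [pow_one]
      rw [hm1, mul_one] at hnm
      rw [hnm, ← hxn]
      exact pow_orderOf_eq_one x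
    · have hcop : (q ^ a).Coprime m := by
        have := Nat.coprime_ordCompl hqp hn0.ne'
        exact Nat.Coprime.pow_left _ this
      have ha0 : a ≠ 0 := by
        intro h
        have : q ∣ n := Nat.minFac_dvd n
        have := hqp.factorization_pos_of_dvd hn0.ne' this
        omega
      have hu1 : 1 < q ^ a := Nat.one_lt_pow ha0 hqp.one_lt
      have hm0 : 0 < m := by
        rcases Nat.eq_zero_or_pos m with h | h
        · rw [h, mul_zero] at hnm; omega
        · exact h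
      have hmlt : m < n := by nlinarith
      have hult : q ^ a < n := by
        have : 2 ≤ m := by omega
        nlinarith
      -- orders of the two powers
      have ho1 : orderOf (x ^ q ^ a) = m := by
        rw [orderOf_pow' x (by positivity), hxn, ← hnm, Nat.gcd_mul_right_left]
        exact Nat.mul_div_cancel_left m (by positivity)
      have ho2 : orderOf (x ^ m) = q ^ a := by
        rw [orderOf_pow' x hm0.ne', hxn, ← hnm, Nat.gcd_mul_left_left]
        exact Nat.mul_div_cancel (q ^ a) hm0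
      by_cases h1 : x ^ q ^ a ∈ N
      · by_cases h2 : x ^ m ∈ N
        · exfalso
          apply hxN
          have hb := Nat.gcd_eq_gcd_ab (q ^ a) m
          rw [hcop.gcd_eq_one] at hb
          have : x = (x ^ q ^ a) ^ (Nat.gcdA (q ^ a) m) * (x ^ m) ^ (Nat.gcdB (q ^ a) m) := by
            rw [← zpow_natCast, ← zpow_natCast, ← zpow_mul, ← zpow_mul, ← zpow_add, ← hb]
            simp
          rw [this]
          exact N.mul_mem (N.zpow_mem h1 _) (N.zpow_mem h2 _)
        · obtain ⟨q', hq', e, he, a', ha'⟩ := ih _ hult (x ^ m) ho2 h2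
          refine ⟨q', hq', m * e, ?_, a', ?_⟩
          · rwa [pow_mul]
          · rwa [pow_mul]
      · obtain ⟨q', hq', e, he, a', ha'⟩ := ih _ hmlt (x ^ q ^ a) ho1 h1
        refine ⟨q', hq', q ^ a * e, ?_, a', ?_⟩
        · rwa [pow_mul]
        · rwa [pow_mul]

theorem exists_pair {P : Type*} [Group P] [Finite P] {p : ℕ} [hp : Fact p.Prime] (hP : IsPGroup p P)
    (H₁ K₁ : Subgroup P) (h1 : Nat.card H₁ = p) (hk1 : Nat.card K₁ = p) (hne : H₁ ≠ K₁) :
    ∃ a b : P, a ^ p = 1 ∧ b ^ p = 1 ∧ a * b = b * a ∧ b ≠ 1 ∧ ∀ n : ℕ, a * b ^ n ≠ 1 := by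
  have hp1 := hp.out
  have hPnt : Nontrivial P := by
    have : Nontrivial H₁ := by
      rw [← Finite.one_lt_card_iff_nontrivial, h1]; exact hp1.one_lt
    obtain ⟨x, hx⟩ := exists_ne (1 : H₁)
    exact ⟨⟨x, 1, fun h => hx (Subtype.ext h)⟩⟩
  have hZnt : Nontrivial (Subgroup.center P) := hP.center_nontrivial
  have hZp : IsPGroup p (Subgroup.center P) := hP.to_subgroup _
  obtain ⟨k, hk0, hk⟩ := hZp.nontrivial_iff_card.mp hZnt
  obtain ⟨z, hz⟩ := exists_prime_orderOf_dvd_card' p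
    (show p ∣ Nat.card (Subgroup.center P) by rw [hk]; exact dvd_pow_self p hk0.ne')
  have hzo : orderOf (z : P) = p := by rw [Subgroup.orderOf_coe]; exact hz
  have hzp : (z : P) ^ p = 1 := by rw [← hzo]; exact pow_orderOf_eq_one _
  have hzcard : Nat.card (Subgroup.zpowers (z : P)) = p := by rw [Nat.card_zpowers]; exact hzo
  -- a subgroup L of order p different from ⟨z⟩
  obtain ⟨L, hL, hLz⟩ : ∃ L : Subgroup P, Nat.card L = p ∧ L ≠ Subgroup.zpowers (z : P) := by
    by_cases h : H₁ = Subgroup.zpowers (z : P)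
    · exact ⟨K₁, hk1, fun h' => hne (h.trans h'.symm)⟩
    · exact ⟨H₁, h1, h⟩
  have hLnt : Nontrivial L := by
    rw [← Finite.one_lt_card_iff_nontrivial, hL]; exact hp1.one_lt
  obtain ⟨y, hy⟩ := exists_ne (1 : L)
  have hyp : (y : P) ^ p = 1 := by
    have : y ^ Nat.card L = 1 := pow_card_eq_one'
    rw [hL] at this
    exact congrArg Subtype.val this
  have hy1 : (y : P) ≠ 1 := fun h => hy (Subtype.ext h)
  refine ⟨z, y, hzp, hyp, ?_, hy1, ?_⟩
  · exact (Subgroup.mem_center_iff.mp z.2 y).symm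
  · intro n hn
    apply hLz
    symm
    apply Subgroup.eq_of_le_of_card_ge
    · rw [Subgroup.zpowers_le]
      have : (z : P) = ((y : P) ^ n)⁻¹ := eq_inv_of_mul_eq_one_left hn
      rw [this]
      exact L.inv_mem (L.pow_mem y.2 n)
    · rw [hL, hzcard]

/-- another prime dividing the order of `N` -/
theorem exists_other_prime {n : ℕ} (hn1 : n ≠ 1) (hn0 : n ≠ 0) (hnpp : ¬ IsPrimePow n) (q : ℕ) :
    ∃ r : ℕ, r.Prime ∧ r ∣ n ∧ r ≠ q := by
  by_contra hcon
  push Not at hcon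
  have h := Nat.eq_prime_pow_of_unique_prime_dvd hn0 (p := q) (fun {d} hd hdn => hcon d hd hdn)
  apply hnpp
  have hlen : n.primeFactorsList.length ≠ 0 := by
    intro h0
    rw [h0, pow_zero] at h
    exact hn1 h
  have hqp : q.Prime := by
    obtain ⟨d, hd, hdn⟩ := Nat.exists_prime_and_dvd hn1
    rw [← hcon d hd hdn]; exact hd
  rw [h]
  exact hqp.isPrimePow.pow hlen

/-- elements of a `p`-subgroup are `p`-elements -/
theorem exists_pow_of_mem {G : Type*} [Group G] {p : ℕ} {Q : Subgroup G} (hQ : IsPGroup p Q)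
    {x : G} (hx : x ∈ Q) : ∃ k : ℕ, x ^ p ^ k = 1 := by
  obtain ⟨k, hk⟩ := hQ ⟨x, hx⟩
  exact ⟨k, congrArg Subtype.val hk⟩

/-- commuting from nilpotency -/
theorem commute_of_nilpotent {G : Type*} [Group G] [Finite G] (M K : Subgroup G) [M.Normal]
    [K.Normal] (hMnil : Group.IsNilpotent M) {q r : ℕ} [hq : Fact q.Prime] [hr : Fact r.Prime]
    (hqr : q ≠ r) (hK : IsPGroup r K) {y k : G} (hy : y ∈ M) (hyq : ∃ a, y ^ q ^ a = 1)
    (hk : k ∈ K) : Commute y k := by
  obtain ⟨Mq, hMqn, hMqM, hMqq, hMqall, -⟩ := exists_sylow_part M hMnil q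
  obtain ⟨Mr, hMrn, hMrM, hMrr, hMrall, -⟩ := exists_sylow_part M hMnil r
  obtain ⟨a, ha⟩ := hyq
  set c := k * y * k⁻¹ * y⁻¹ with hc
  have hcK : c ∈ K := by
    have : c = k * (y * k⁻¹ * y⁻¹) := by rw [hc]; group
    rw [this]
    exact K.mul_mem hk ((inferInstance : K.Normal).conj_mem _ (K.inv_mem hk) y)
  have hcM : c ∈ M :=
    M.mul_mem ((inferInstance : M.Normal).conj_mem _ hy k) (M.inv_mem hy)
  obtain ⟨b, hb⟩ := exists_pow_of_mem hK hcK
  have hcMr : c ∈ Mr := hMrall c hcM ⟨b, hb⟩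
  have hyMq : y ∈ Mq := hMqall y hy ⟨a, ha⟩
  have hdisj : Disjoint Mq Mr := IsPGroup.disjoint_of_ne q r hqr Mq Mr hMqq hMrr
  have hcomm : Commute y c := Subgroup.commute_of_normal_of_disjoint Mq Mr hMqn hMrn hdisj y c hyMq hcMr
  have h1 : (c * y) ^ q ^ a = 1 := by
    have : c * y = k * y * k⁻¹ := by rw [hc]; group
    rw [this, conj_pow, ha]; group
  rw [hcomm.symm.mul_pow, ha, mul_one] at h1
  have hc1 : c = 1 := eq_one_of_pow_pow hq.out hr.out hqr h1 hb
  have : k * y = y * k := by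
    have h2 : k * y * k⁻¹ * y⁻¹ = 1 := hc1
    calc k * y = (k * y * k⁻¹ * y⁻¹) * (y * k) := by group
      _ = y * k := by rw [h2, one_mul]
  exact this.symm

/-- the Fitting subgroup part -/
theorem fitting_part {G : Type*} [Group G] [Finite G] (N : Subgroup G) [N.Normal] (hN1 : N ≠ ⊥)
    (heq : ∀ x : G, x ∉ N → ∀ n ∈ N, orderOf (x * n) = orderOf x)
    (hnil : Group.IsNilpotent N) (hnpp : ¬ IsPrimePow (Nat.card N)) :
    N = Cfsg.fittingSubgroup G := by
  have hcard1 : Nat.card N ≠ 1 := by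
    intro h
    exact hN1 (Subgroup.card_eq_one.mp h)
  apply le_antisymm
  · exact le_sSup ⟨inferInstance, hnil⟩
  · apply sSup_le
    rintro M ⟨hMn, hMnil⟩ x hxM
    by_contra hxN
    obtain ⟨q, hq, e, hyN, hyq⟩ := exists_prime_pow_part N _ x rfl hxN
    have hyM : x ^ e ∈ M := M.pow_mem hxM e
    obtain ⟨r, hr, hrN, hrq⟩ := exists_other_prime hcard1 Nat.card_pos.ne' hnpp q
    have : Fact q.Prime := ⟨hq⟩
    have : Fact r.Prime := ⟨hr⟩
    obtain ⟨K, hKn, hKN, hKr, hKall, hKne⟩ := exists_sylow_part N hnil r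
    have hKne' := hKne hrN
    obtain ⟨⟨k, hkK⟩, hk1⟩ := (Subgroup.ne_bot_iff_exists_ne_one.mp hKne')
    have hcomm : Commute (x ^ e) k :=
      commute_of_nilpotent M K hMnil hrq.symm hKr hyM hyq hkK
    have := eq_one_of_commute N heq hq hr hrq.symm hyN (hKN hkK) hyq
      (exists_pow_of_mem hKr hkK) hcomm
    exact hk1 (Subtype.ext this)

/-- the Sylow part: uniqueness of subgroups of order `q` -/
theorem sylow_part {G : Type*} [Group G] [Finite G] (N : Subgroup G) [N.Normal] (hN1 : N ≠ ⊥)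
    (heq : ∀ x : G, x ∉ N → ∀ n ∈ N, orderOf (x * n) = orderOf x)
    (hnil : Group.IsNilpotent N) (hnpp : ¬ IsPrimePow (Nat.card N))
    (q : ℕ) [hqF : Fact q.Prime] (Qb : Sylow q (G ⧸ N))
    (H₁ K₁ : Subgroup (Qb : Subgroup (G ⧸ N))) (h1 : Nat.card H₁ = q) (hk1 : Nat.card K₁ = q) :
    H₁ = K₁ := by
  have hq : q.Prime := hqF.out
  have hcard1 : Nat.card N ≠ 1 := by
    intro h
    exact hN1 (Subgroup.card_eq_one.mp h)
  by_contra hne
  obtain ⟨a, b, hap, hbp, hab, hb1, habn⟩ := exists_pair Qb.isPGroup' H₁ K₁ h1 hk1 hne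
  obtain ⟨Q, hQ⟩ := Sylow.mapSurjective_surjective (QuotientGroup.mk'_surjective N) q Qb
  have hQmap : (Q : Subgroup G).map (QuotientGroup.mk' N) = Qb := by
    rw [← hQ, Sylow.coe_mapSurjective]
  obtain ⟨s1, hs1Q, hs1⟩ : ∃ s ∈ (Q : Subgroup G), QuotientGroup.mk' N s = (a : G ⧸ N) := by
    have : (a : G ⧸ N) ∈ (Q : Subgroup G).map (QuotientGroup.mk' N) := by rw [hQmap]; exact a.2
    exact this
  obtain ⟨s2, hs2Q, hs2⟩ : ∃ s ∈ (Q : Subgroup G), QuotientGroup.mk' N s = (b : G ⧸ N) := by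
    have : (b : G ⧸ N) ∈ (Q : Subgroup G).map (QuotientGroup.mk' N) := by rw [hQmap]; exact b.2
    exact this
  obtain ⟨r, hr, hrN, hrq⟩ := exists_other_prime hcard1 Nat.card_pos.ne' hnpp q
  have : Fact r.Prime := ⟨hr⟩
  obtain ⟨K, hKn, hKN, hKr, hKall, hKne⟩ := exists_sylow_part N hnil r
  obtain ⟨Nq, hNqn, hNqN, hNqq, hNqall, -⟩ := exists_sylow_part N hnil q
  have hKne' := hKne hrN
  -- q-elements of N ∩ Q lie in Nq
  have hQN : ∀ x ∈ (Q : Subgroup G), x ∈ N → x ∈ Nq := fun x hxQ hxN =>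
    hNqall x hxN (exists_pow_of_mem Q.isPGroup' hxQ)
  have hmemN : ∀ x : G, x ∈ N ↔ QuotientGroup.mk' N x = 1 := fun x =>
    (QuotientGroup.eq_one_iff x).symm
  set π := QuotientGroup.mk' Nq with hπ
  have hπ1 : ∀ x : G, π x = 1 ↔ x ∈ Nq := fun x => QuotientGroup.eq_one_iff x
  have hKhn : (K.map π).Normal := hKn.map π (QuotientGroup.mk'_surjective Nq)
  have ha : (π s1) ^ q = 1 := by
    rw [← map_pow, hπ1]
    apply hQN _ (Subgroup.pow_mem _ hs1Q q)
    rw [hmemN, map_pow, hs1, ← Subgroup.coe_pow, hap]; rfl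
  have hb : (π s2) ^ q = 1 := by
    rw [← map_pow, hπ1]
    apply hQN _ (Subgroup.pow_mem _ hs2Q q)
    rw [hmemN, map_pow, hs2, ← Subgroup.coe_pow, hbp]; rfl
  have hcomm : π s1 * π s2 = π s2 * π s1 := by
    rw [← map_mul, ← map_mul]
    have : s1 * s2 * (s2 * s1)⁻¹ ∈ Nq := by
      apply hQN _ (Subgroup.mul_mem _ (Subgroup.mul_mem _ hs1Q hs2Q)
        (Subgroup.inv_mem _ (Subgroup.mul_mem _ hs2Q hs1Q)))
      rw [hmemN, map_mul, map_inv, map_mul, map_mul, hs1, hs2, ← Subgroup.coe_mul,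
        ← Subgroup.coe_mul, hab, mul_inv_cancel]
    rw [← hπ1, map_mul, map_inv, mul_inv_eq_one] at this
    exact this
  have hKq : ¬ q ∣ Nat.card (K.map π) := by
    intro hdvd
    have h2 : Nat.card (K.map π) ∣ Nat.card K := Subgroup.card_map_dvd K π
    obtain ⟨m, hm⟩ := IsPGroup.iff_card.mp hKr
    rw [hm] at h2
    have := hq.dvd_of_dvd_pow (hdvd.trans h2)
    exact hrq ((Nat.prime_dvd_prime_iff_eq hq hr).mp this).symm
  have hgen := Cfsg.Agent.Lib.Helper48.coprime_gen (K.map π) (π s1) (π s2) ha hb hcomm hKq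
  have hbot : Cfsg.Agent.Lib.Helper48.genSub (K.map π) (π s1) (π s2) = ⊥ := by
    rw [eq_bot_iff]
    unfold Cfsg.Agent.Lib.Helper48.genSub
    apply iSup₂_le
    intro c hc
    obtain ⟨c0, hc0, rfl⟩ := Cfsg.Agent.Lib.Helper48.exists_of_mem_genSet_map π hc
    have hc0Q : c0 ∈ (Q : Subgroup G) := by
      rcases hc0 with rfl | ⟨n, rfl⟩
      · exact hs2Q
      · exact Subgroup.mul_mem _ hs1Q (Subgroup.pow_mem _ hs2Q n)
    have hc0N : c0 ∉ N := by
      rw [hmemN]
      rcases hc0 with rfl | ⟨n, rfl⟩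
      · rw [hs2]
        intro h
        exact hb1 (Subtype.ext h)
      · rw [map_mul, map_pow, hs1, hs2]
        intro h
        apply habn n
        apply Subtype.ext
        rw [Subgroup.coe_mul, Subgroup.coe_pow]
        exact h
    intro xh hxh
    rw [Subgroup.mem_inf] at hxh
    obtain ⟨⟨k, hkK, rfl⟩, hcen⟩ := hxh
    rw [Subgroup.mem_bot]
    rw [Subgroup.mem_centralizer_iff] at hcen
    have h3 := hcen (π c0) rfl
    -- the commutator lies in Nq ⊓ K
    have h4 : c0 * k * c0⁻¹ * k⁻¹ ∈ Nq := by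
      rw [← hπ1, map_mul, map_mul, map_mul, map_inv, map_inv, h3]
      group
    have h5 : c0 * k * c0⁻¹ * k⁻¹ ∈ K :=
      K.mul_mem (hKn.conj_mem k hkK c0) (K.inv_mem hkK)
    have hdisj : Disjoint Nq K := IsPGroup.disjoint_of_ne q r hrq.symm Nq K hNqq hKr
    have h6 : c0 * k * c0⁻¹ * k⁻¹ = 1 := by
      have := Subgroup.disjoint_def.mp hdisj h4 h5
      exact this
    have h7 : Commute c0 k := by
      show c0 * k = k * c0
      calc c0 * k = (c0 * k * c0⁻¹ * k⁻¹) * (k * c0) := by group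
        _ = k * c0 := by rw [h6, one_mul]
    have := eq_one_of_commute N heq hq hr hrq.symm hc0N (hKN hkK)
      (exists_pow_of_mem Q.isPGroup' hc0Q) (exists_pow_of_mem hKr hkK) h7
    rw [this, map_one]
  rw [hbot, le_bot_iff] at hgen
  apply hKne'
  rw [eq_bot_iff]
  intro k hk
  have h8 : π k ∈ K.map π := Subgroup.mem_map_of_mem π hk
  rw [hgen, Subgroup.mem_bot, hπ1] at h8
  have hdisj : Disjoint Nq K := IsPGroup.disjoint_of_ne q r hrq.symm Nq K hNqq hKr
  rw [Subgroup.mem_bot]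
  exact Subgroup.disjoint_def.mp hdisj h8 hk

/-- Let G be a finite group and N a proper non-trivial normal nilpotent subgroup whose order is not a prime power, such that for every x outside N all elements of the coset xN have the same order as x. Then N is the Fitting subgroup of G, and for every prime q every Sylow q-subgroup of G/N is cyclic or generalized quaternion. -/
theorem result {G : Type*} [Group G] [Finite G] (N : Subgroup G) [N.Normal] (hN1 : N ≠ ⊥) (hN2 : N ≠ ⊤)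
    (heq : ∀ x : G, x ∉ N → ∀ n ∈ N, orderOf (x * n) = orderOf x)
    (hnil : Group.IsNilpotent N) (hnpp : ¬ IsPrimePow (Nat.card N)) :
    N = Cfsg.fittingSubgroup G ∧
    ∀ (q : ℕ) [Fact q.Prime] (Q : Sylow q (G ⧸ N)), IsCyclic (Q : Subgroup (G ⧸ N)) ∨ ∃ n : ℕ, Nonempty ((Q : Subgroup (G ⧸ N)) ≃* QuaternionGroup (2 ^ n)) := by
  refine ⟨fitting_part N hN1 heq hnil hnpp, ?_⟩
  intro q _ Q
  rcases Cfsg.Agent.S0016.result q Q.isPGroup'
    (fun H K hH hK => sylow_part N hN1 heq hnil hnpp q Q H K hH hK) with h | ⟨-, h⟩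
  · exact Or.inl h
  · exact Or.inr h

end Cfsg.Agent.S4155
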