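import Cfsg.Statements.S4156

set_option autoImplicit false
open Cfsg

namespace Cfsg.Agent.S4156

section Aux

variable (n : ℕ) (F : Type*) [Field F]

/-- sum functional -/
noncomputable def sumF : (Fin (n + 1) → F) →ₗ[F] F where
  toFun v := ∑ i, v i
  map_add' v w := by simp [Finset.sum_add_distrib]
  map_smul' c v := by simp [Finset.mul_sum]

/-- sum-zero submodule -/
noncomputable def W : Submodule F (Fin (n + 1) → F) := LinearMap.ker (sumF n F)

theorem mem_W (v : Fin (n + 1) → F) : v ∈ W n F ↔ ∑ i, v i = 0 := by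
  rw [W, LinearMap.mem_ker]; rfl

theorem finrank_W : Module.finrank F (W n F) = n := by
  have h := LinearMap.finrank_range_add_finrank_ker (sumF n F)
  have hsurj : Function.Surjective (sumF n F) := by
    intro c
    refine ⟨Pi.single 0 c, ?_⟩
    change ∑ i, (Pi.single 0 c : Fin (n + 1) → F) i = c
    simp
  rw [LinearMap.range_eq_top.mpr hsurj, finrank_top, Module.finrank_self, Module.finrank_fin_fun] at h
  rw [W]; omega

/-- perm action on functions -/
noncomputable def rho0 (σ : Equiv.Perm (Fin (n + 1))) : (Fin (n + 1) → F) →ₗ[F] (Fin (n + 1) → F) :=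
  LinearMap.funLeft F F (σ⁻¹ : Equiv.Perm (Fin (n + 1)))

theorem rho0_apply (σ : Equiv.Perm (Fin (n + 1))) (v : Fin (n + 1) → F) (i : Fin (n + 1)) :
    rho0 n F σ v i = v (σ⁻¹ i) := rfl

theorem rho0_mem (σ : Equiv.Perm (Fin (n + 1))) (v : Fin (n + 1) → F) (hv : v ∈ W n F) :
    rho0 n F σ v ∈ W n F := by
  rw [mem_W] at hv ⊢
  rw [← hv]
  exact Equiv.sum_comp (σ⁻¹ : Equiv.Perm (Fin (n + 1))) v

noncomputable def rho : Equiv.Perm (Fin (n + 1)) →* Module.End F (W n F) where
  toFun σ := (rho0 n F σ).restrict (rho0_mem n F σ)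
  map_one' := by
    ext v i
    simp [rho0_apply]
  map_mul' σ τ := by
    ext v i
    simp [rho0_apply, mul_inv_rev]

theorem rho_apply (σ : Equiv.Perm (Fin (n + 1))) (v : W n F) (i : Fin (n + 1)) :
    (rho n F σ v : Fin (n + 1) → F) i = (v : Fin (n + 1) → F) (σ⁻¹ i) := rfl

noncomputable def bas : Module.Basis (Fin n) F (W n F) :=
  Module.finBasisOfFinrankEq F (W n F) (finrank_W n F)

noncomputable def matHom : Equiv.Perm (Fin (n + 1)) →* Matrix (Fin n) (Fin n) F :=
  ((LinearMap.toMatrixAlgEquiv (bas n F)).toAlgHom.toRingHom.toMonoidHom).comp (rho n F)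

theorem matHom_apply (σ : Equiv.Perm (Fin (n + 1))) :
    matHom n F σ = LinearMap.toMatrixAlgEquiv (bas n F) (rho n F σ) := rfl

theorem det_matHom (hn : 5 ≤ n) (σ : Equiv.Perm (Fin (n + 1))) (hσ : σ ∈ alternatingGroup (Fin (n + 1))) :
    (matHom n F σ).det = 1 := by
  let d : Equiv.Perm (Fin (n + 1)) →* Fˣ := (Matrix.detMonoidHom.comp (matHom n F)).toHomUnits
  have h1 : commutator (Equiv.Perm (Fin (n + 1))) ≤ d.ker := Abelianization.commutator_subset_ker d
  have h2 : commutator (Equiv.Perm (Fin (n + 1))) = alternatingGroup (Fin (n + 1)) :=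
    alternatingGroup.commutator_perm_eq (by simp; omega)
  rw [h2] at h1
  have h3 := h1 hσ
  rw [MonoidHom.mem_ker] at h3
  have h4 := congrArg Units.val h3
  simpa [d] using h4

noncomputable def slHom (hn : 5 ≤ n) : alternatingGroup (Fin (n + 1)) →* Matrix.SpecialLinearGroup (Fin n) F where
  toFun σ := ⟨matHom n F σ, det_matHom n F hn σ σ.2⟩
  map_one' := by
    apply Subtype.ext
    simp
  map_mul' σ τ := by
    apply Subtype.ext
    change matHom n F ((σ * τ : alternatingGroup (Fin (n + 1))) : Equiv.Perm (Fin (n + 1))) =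
      matHom n F σ * matHom n F τ
    simp

theorem slHom_coe (hn : 5 ≤ n) (σ : alternatingGroup (Fin (n + 1))) :
    (slHom n F hn σ : Matrix (Fin n) (Fin n) F) = matHom n F σ := rfl

/-- difference of two basis vectors -/
noncomputable def dvec (a b : Fin (n + 1)) : W n F :=
  ⟨Pi.single a 1 - Pi.single b 1, by
    rw [mem_W]
    simp [Finset.sum_sub_distrib]⟩

theorem eq_one_of_scalar (hn : 5 ≤ n) (σ : Equiv.Perm (Fin (n + 1))) (r : F)
    (h : ∀ v : W n F, rho n F σ v = r • v) : σ = 1 := by
  ext a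
  by_contra hne
  change ¬ ((σ a : Fin (n + 1)) : ℕ) = ((1 : Equiv.Perm (Fin (n + 1))) a : ℕ) at hne
  have hne' : σ a ≠ a := by
    intro h'
    apply hne
    rw [h']; rfl
  -- pick b ≠ a, b ≠ σ a
  obtain ⟨b, hb⟩ : ∃ b : Fin (n + 1), b ≠ a ∧ b ≠ σ a := by
    by_contra hcon
    push Not at hcon
    have : (Finset.univ : Finset (Fin (n + 1))) ⊆ {a, σ a} := by
      intro b _
      by_cases hba : b = a
      · simp [hba]
      · simp [hcon b hba]
    have := Finset.card_le_card this
    have h2 : ({a, σ a} : Finset (Fin (n + 1))).card ≤ 2 := Finset.card_le_two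
    simp at this
    omega
  have h1 := h (dvec n F a b)
  have h2 := congrArg (fun w : W n F => (w : Fin (n + 1) → F) (σ a)) h1
  simp only [rho_apply, dvec] at h2
  simp [hne', hb.2.symm, Ne.symm hb.1] at h2

theorem main (hn : 5 ≤ n) : ∃ f : alternatingGroup (Fin (n + 1)) →*
    Matrix.ProjectiveSpecialLinearGroup (Fin n) F, Function.Injective f := by
  refine ⟨(QuotientGroup.mk' _).comp (slHom n F hn), ?_⟩
  rw [injective_iff_map_eq_one]
  intro σ hσ
  rw [MonoidHom.comp_apply, QuotientGroup.mk'_apply, QuotientGroup.eq_one_iff,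
    Matrix.SpecialLinearGroup.mem_center_iff] at hσ
  obtain ⟨r, -, hr⟩ := hσ
  have h1 : rho n F σ = r • (1 : Module.End F (W n F)) := by
    apply (LinearMap.toMatrixAlgEquiv (bas n F)).injective
    rw [map_smul, map_one, ← matHom_apply, ← slHom_coe n F hn, ← hr]
    ext i j
    simp [Matrix.scalar_apply, Matrix.diagonal_apply, Matrix.one_apply]
  have h2 : (σ : Equiv.Perm (Fin (n + 1))) = 1 :=
    eq_one_of_scalar n F hn σ r (fun v => by rw [h1]; simp)
  exact Subtype.ext h2


end Aux

/-- Let n ≥ 5 and F a finite field. Then the projective special linear group PSL_n(F) contains a subgroup isomorphic to the alternating group of degree n + 1. -/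
theorem result (n : ℕ) (hn : 5 ≤ n) (F : Type*) [Field F] [Finite F] :
    ∃ f : alternatingGroup (Fin (n + 1)) →* Matrix.ProjectiveSpecialLinearGroup (Fin n) F, Function.Injective f := by
  exact main n F hn

end Cfsg.Agent.S4156
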