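import Mathlib
import Cfsg.Statements.S4157
import Cfsg.Agent.Lib.Helper34.KulTwoB
import Cfsg.Agent.S0115

set_option autoImplicit false
set_option linter.unusedSectionVars false
set_option linter.style.haveILetI false
set_option linter.unusedVariables false
open Cfsg

namespace Cfsg.Agent.S4157

open Subgroup Cfsg.Agent.Lib.Helper70 Cfsg.Agent.Lib.Helper73 Cfsg.Agent.Lib.Helper34.KulTwo

universe u

/-- the number of subgroups of order `2 ^ a` of a noncyclic group of order `2 ^ n`, modulo 4 -/
theorem two_count : ∀ n, ∀ (X : Type u) [Group X] [Finite X], Nat.card X = 2 ^ n → ¬ IsCyclic X →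
    ∀ a, 1 ≤ a → a + 1 ≤ n →
    ((MC X ∧ a + 2 ≤ n) → Nat.card {H : Subgroup X // Nat.card H = 2 ^ a} ≡ 1 [MOD 4]) ∧
    (¬ (MC X ∧ a + 2 ≤ n) → Nat.card {H : Subgroup X // Nat.card H = 2 ^ a} ≡ 3 [MOD 4]) := by
  intro n
  induction n using Nat.strong_induction_on with
  | _ n IH =>
  intro X _ _ hP hnc a ha1 han
  haveI : Fact (Nat.Prime 2) := ⟨Nat.prime_two⟩
  have hPg : IsPGroup 2 X := IsPGroup.of_card hP
  have h22 : (2 : ℕ) ^ 2 = 4 := by norm_num
  by_cases hlast : a + 1 = n
  · have h1 : Nat.card {H : Subgroup X // Nat.card H = 2 ^ a} =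
        Nat.card {M : Subgroup X // M.index = 2 ∧ (⊥ : Subgroup X) ≤ M} := by
      apply Nat.card_congr
      refine Equiv.subtypeEquivRight ?_
      intro H
      constructor
      · intro h
        have := kk_index_of_card hP (k := 1) (by omega) H (by rw [h]; congr 1; omega)
        rw [pow_one] at this
        exact ⟨this, bot_le⟩
      · intro h
        have := kk_card_of_index hP (k := 1) (by omega) H (by rw [pow_one]; exact h.1)
        rw [this]; congr 1; omega
    have hcount : Nat.card {H : Subgroup X // Nat.card H = 2 ^ a} ≡ 1 + 2 [MOD 2 ^ 2] := by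
      rw [h1]
      obtain ⟨e, he⟩ := kk_mu_formula hPg (⊥ : Subgroup X)
      apply kk_nt_modEq (le_refl 2) he
      obtain ⟨M₁, M₂, hM₁, hM₂, hne⟩ := kk_exists_two hPg hnc
      have : 1 < Nat.card {M : Subgroup X // M.index = 2 ∧ (⊥ : Subgroup X) ≤ M} :=
        Finite.one_lt_card_iff_nontrivial.mpr
          ⟨⟨⟨M₁, hM₁, bot_le⟩, ⟨M₂, hM₂, bot_le⟩, fun h => hne (congrArg Subtype.val h)⟩⟩
      exact this
    rw [h22] at hcount
    constructor
    · rintro ⟨-, h⟩; omega
    · intro _; exact hcount
  · have han2 : a + 2 ≤ n := by omega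
    classical
    haveI : Fintype (Subgroup X) := Fintype.ofFinite _
    have hcardM : ∀ M : Subgroup X, M.index = 2 → Nat.card M = 2 ^ (n - 1) := by
      intro M hM
      exact kk_card_of_index hP (by omega) M (by rw [pow_one]; exact hM)
    have hcardD : ∀ D : Subgroup X, D.index = 2 ^ 2 → Nat.card D = 2 ^ (n - 2) := by
      intro D hD
      exact kk_card_of_index hP (by omega) D hD
    have hμ₀ : 2 ≤ (kkM X 2).card := by
      obtain ⟨M₁, M₂, h1, h2, h3⟩ := kk_exists_two hPg hnc
      exact Finset.one_lt_card.mpr ⟨M₁, mem_kkM.mpr h1, M₂, mem_kkM.mpr h2, h3⟩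
    have hpos : ∀ H ∈ kkS X (2 ^ a), 1 ≤ kkmu 2 H := by
      intro H hH
      rw [mem_kkS] at hH
      have hne : H ≠ ⊤ := by
        intro h
        rw [h, Subgroup.card_top, hP] at hH
        have := Nat.pow_right_injective (le_refl 2) hH
        omega
      obtain ⟨M, hM, hHM⟩ := kk_exists_index_p hPg H hne
      unfold kkmu
      exact Finset.card_pos.mpr ⟨M, Finset.mem_filter.mpr ⟨mem_kkM.mpr hM, hHM⟩⟩
    have hσ : ∀ D : Subgroup X, D.index = 2 ^ 2 → kksig (2 ^ a) D ≡ 1 [MOD 2] := by
      intro D hD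
      rw [kksig_eq, kk_card_le_eq]
      apply Cfsg.Agent.Lib.Helper66.card_subgroups_modEq_one
      rw [hcardD D hD]
      exact pow_dvd_pow 2 (by omega)
    have hrec := kk_recursion_sum hPg (2 ^ a) hμ₀ hpos hσ
    rw [h22] at hrec
    -- the terms
    have hterm : ∀ M ∈ kkM X 2, kksig (2 ^ a) M ≡
        (if (IsCyclic M ∨ (MC ↥M ∧ a + 3 ≤ n)) then 1 else 3) [MOD 4] := by
      intro M hM
      rw [mem_kkM] at hM
      rw [kksig_eq, kk_card_le_eq]
      have hMcard := hcardM M hM
      by_cases hc : IsCyclic M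
      · rw [if_pos (Or.inl hc)]
        haveI := hc
        rw [kk_cyclic_count hMcard (by omega)]
      · obtain ⟨h1, h3⟩ := IH (n - 1) (by omega) M hMcard hc a ha1 (by omega)
        by_cases hg : MC ↥M ∧ a + 3 ≤ n
        · rw [if_pos (Or.inr hg)]
          exact h1 ⟨hg.1, by omega⟩
        · rw [if_neg (not_or.mpr ⟨hc, hg⟩)]
          exact h3 (fun h => hg ⟨h.1, by omega⟩)
    have hsum := Nat.ModEq.sum hterm
    rw [Finset.sum_ite, Finset.sum_const, Finset.sum_const, smul_eq_mul, smul_eq_mul] at hsum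
    have hee' := Finset.card_filter_add_card_filter_not (s := kkM X 2)
      (fun M : Subgroup X => IsCyclic M ∨ (MC ↥M ∧ a + 3 ≤ n))
    -- the number of maximal subgroups
    have hμmod : (kkM X 2).card ≡ 1 + 2 [MOD 2 ^ 2] := by
      obtain ⟨e, he⟩ := kk_mu_formula hPg (⊥ : Subgroup X)
      rw [← kkmu_eq, kkmu_bot] at he
      exact kk_nt_modEq (le_refl 2) he hμ₀
    rw [h22] at hμmod
    -- the number of good maximal subgroups
    have hecard : ((kkM X 2).filter (fun M : Subgroup X => IsCyclic M ∨ (MC ↥M ∧ a + 3 ≤ n))).card =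
        Nat.card {M : Subgroup X // M.index = 2 ∧ (IsCyclic M ∨ (MC ↥M ∧ a + 3 ≤ n))} := by
      rw [Nat.card_eq_fintype_card]
      symm
      apply Fintype.card_of_subtype
      intro M
      rw [Finset.mem_filter, mem_kkM]
    have hn3 : 3 ≤ n := by omega
    have hnt : Nontrivial X := by
      apply (Finite.one_lt_card_iff_nontrivial).mp
      rw [hP]
      exact Nat.one_lt_two_pow (by omega)
    have hparity : (MC X → Odd (Nat.card
        {M : Subgroup X // M.index = 2 ∧ (IsCyclic M ∨ (MC ↥M ∧ a + 3 ≤ n))})) ∧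
        (¬ MC X → Even (Nat.card
        {M : Subgroup X // M.index = 2 ∧ (IsCyclic M ∨ (MC ↥M ∧ a + 3 ≤ n))})) := by
      by_cases ha3 : a + 3 ≤ n
      · have e : {M : Subgroup X // M.index = 2 ∧ (IsCyclic M ∨ (MC ↥M ∧ a + 3 ≤ n))} ≃
            {M : Subgroup X // M.index = 2 ∧ (IsCyclic M ∨ MC ↥M)} :=
          Equiv.subtypeEquivRight (fun M => and_congr_right (fun _ =>
            or_congr_right ⟨fun h => h.1, fun h => ⟨h, ha3⟩⟩))
        rw [Nat.card_congr e]
        constructor
        · intro hMC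
          have h16 : 16 ≤ Nat.card X := by
            rw [hP]
            calc 16 = 2 ^ 4 := by norm_num
              _ ≤ 2 ^ n := Nat.pow_le_pow_right (by norm_num) (by omega)
          have e' : {M : Subgroup X // M.index = 2 ∧ (IsCyclic M ∨ MC ↥M)} ≃
              {M : Subgroup X // M.index = 2} :=
            Equiv.subtypeEquivRight (fun M =>
              ⟨fun h => h.1, fun h => ⟨h, cyclic_or_MC_of_MC hPg hMC h16 M h⟩⟩)
          rw [Nat.card_congr e']
          exact odd_card_max_all hPg hnt
        · intro hMC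
          exact even_card_cyclic_or_MC_max hPg hnc hMC hP hn3
      · have e : {M : Subgroup X // M.index = 2 ∧ (IsCyclic M ∨ (MC ↥M ∧ a + 3 ≤ n))} ≃
            {M : Subgroup X // M.index = 2 ∧ IsCyclic M} :=
          Equiv.subtypeEquivRight (fun M => and_congr_right (fun _ =>
            ⟨fun h => h.resolve_right (fun h' => ha3 h'.2), Or.inl⟩))
        rw [Nat.card_congr e]
        constructor
        · intro hMC
          exact odd_card_cyclic_max_of_MC hPg hMC
        · intro hMC
          exact even_card_cyclic_max hPg hnc hMC hP hn3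
    rw [← hecard] at hparity
    rw [← kkS_card]
    have hrec' := hrec.trans hsum
    unfold Nat.ModEq at hrec' hμmod ⊢
    constructor
    · rintro ⟨hMC, -⟩
      obtain ⟨r, hr⟩ := hparity.1 hMC
      omega
    · intro hnot
      have hMC : ¬ MC X := fun h => hnot ⟨h, han2⟩
      obtain ⟨r, hr⟩ := hparity.2 hMC
      omega


/-- Let G be a finite p-group of order p^m that is not cyclic and, when p = 2, not of maximal class (nilpotency class m − 1). Then for every 1 ≤ k < m the number of subgroups of G of order p^k is congruent to 1 + p modulo p². -/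
theorem result {G : Type*} [Group G] [Finite G] {p : ℕ} [Fact p.Prime] (m : ℕ)
    (hG : Nat.card G = p ^ m) (hnc : ¬ IsCyclic G) (h2 : p = 2 → Group.nilpotencyClass G ≠ m - 1)
    (k : ℕ) (hk1 : 1 ≤ k) (hk2 : k < m) :
    Nat.card {H : Subgroup G // Nat.card H = p ^ k} ≡ 1 + p [MOD p ^ 2] := by
  by_cases hp2 : p = 2
  · subst hp2
    have hcl := h2 rfl
    by_cases hm3 : 3 ≤ m
    · have hnotMC : ¬ MC G := by
        intro hMC
        exact hcl (Cfsg.Agent.S0115.class_of_index_four m hm3 hG hMC.1)
      obtain ⟨-, h3⟩ := two_count m G hG hnc k hk1 (by omega)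
      have := h3 (fun h => hnotMC h.1)
      have e1 : (1 + 2 : ℕ) = 3 := rfl
      have e2 : (2 : ℕ) ^ 2 = 4 := by norm_num
      rw [e1, e2]
      exact this
    · exfalso
      have hm : m = 2 := by omega
      subst hm
      apply hcl
      have hPg : IsPGroup 2 G := IsPGroup.of_card hG
      haveI : Group.IsNilpotent G := hPg.isNilpotent
      have hc : IsMulCommutative G := IsPGroup.isMulCommutative_of_card_eq_prime_sq (p := 2) hG
      have h1 : Group.nilpotencyClass G ≤ 1 :=
        Group.IsNilpotent.nilpotencyClass_le_one_iff.mpr hc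
      have h0 : Group.nilpotencyClass G ≠ 0 := by
        intro h
        rw [Group.nilpotencyClass_zero_iff_subsingleton] at h
        have := Nat.card_eq_one_iff_unique.mpr ⟨h, ⟨1⟩⟩
        rw [hG] at this
        norm_num at this
      omega
  · exact kk_pgroup p hp2 m G hG hnc k hk1 (by omega)

end Cfsg.Agent.S4157
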