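import Cfsg.Statements.S4160
import Cfsg.Agent.Lib.Helper69.ClassSize

set_option autoImplicit false
open Cfsg

namespace Cfsg.Agent.S4160

open Cfsg.Agent.Lib.Helper69

/-- counting bound for one prime -/
theorem count_bound {G : Type*} [Group G] [Finite G] {p : ℕ} [Fact p.Prime] (P : Sylow p G)
    (hne : ¬ Subgroup.normalizer ((P : Subgroup G) : Set G) ≤ Subgroup.centralizer ((P : Subgroup G) : Set G)) :
    2 * {x : G | x ≠ 1 ∧ ∃ g : G, g⁻¹ * x * g ∈ Subgroup.centralizer ((P : Subgroup G) : Set G)}.ncard + 2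
      ≤ Nat.card G := by
  set C := Subgroup.centralizer ((P : Subgroup G) : Set G) with hC
  set Nm := Subgroup.normalizer ((P : Subgroup G) : Set G) with hNm
  have hCN : C ≤ Nm := Subgroup.centralizer_le_normalizer _
  have hnorm : ∀ n ∈ Nm, ∀ c ∈ C, n⁻¹ * c * n ∈ C := by
    intro n hn c hc
    rw [hC, Subgroup.mem_centralizer_iff] at hc ⊢
    intro u hu
    have hn' : n * u * n⁻¹ ∈ ((P : Subgroup G) : Set G) :=
      (Subgroup.mem_set_normalizer_iff.mp hn u).mp hu
    have h1 := hc _ hn'
    calc u * (n⁻¹ * c * n) = n⁻¹ * (n * u * n⁻¹ * c) * n := by group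
      _ = n⁻¹ * (c * (n * u * n⁻¹)) * n := by rw [h1]
      _ = n⁻¹ * c * n * u := by group
  have hbound := ncard_conj_union_le C Nm hnorm
  -- |Nm| ≥ 2 |C|
  have hlt : C < Nm := lt_of_le_of_ne hCN (fun h => hne (h ▸ le_refl _))
  have hrel : 2 ≤ C.relIndex Nm := by
    have h1 : C.relIndex Nm ≠ 1 := by
      rw [Ne, Subgroup.relIndex_eq_one]
      exact fun h => hne h
    have h0 : C.relIndex Nm ≠ 0 := by
      intro h0
      have := Subgroup.relIndex_mul_index hCN
      rw [h0, zero_mul] at this
      exact Subgroup.index_ne_zero_of_finite this.symm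
    omega
  have hmul : C.relIndex Nm * Nm.index = C.index := Subgroup.relIndex_mul_index hCN
  have hCcard : Nat.card C * C.index = Nat.card G := Subgroup.card_mul_index C
  have hCpos : 1 ≤ Nat.card C := Nat.card_pos
  have hidx : 1 ≤ Nm.index := Nat.pos_of_ne_zero Subgroup.index_ne_zero_of_finite
  -- 2 * Nm.index * card C ≤ card G
  have h2 : 2 * (Nm.index * Nat.card C) ≤ Nat.card G := by
    rw [← hCcard, ← hmul]
    calc 2 * (Nm.index * Nat.card C) = Nat.card C * (2 * Nm.index) := by ring
      _ ≤ Nat.card C * (C.relIndex Nm * Nm.index) := by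
        apply Nat.mul_le_mul_left
        exact Nat.mul_le_mul_right _ hrel
  have h3 : Nm.index * (Nat.card C - 1) + Nm.index = Nm.index * Nat.card C := by
    rw [← Nat.mul_succ]
    congr 1
    omega
  omega

/-- Let G be a finite group and p ≠ q primes each dividing the size of some conjugacy class of G, such that no conjugacy class size is divisible by pq. Then G has a normal p-complement or a normal q-complement. -/
theorem result {G : Type*} [Group G] [Finite G] (p q : ℕ) (hp : p.Prime) (hq : q.Prime) (hpq : p ≠ q)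
    (hp' : ∃ x : G, p ∣ (Subgroup.centralizer ({x} : Set G)).index) (hq' : ∃ x : G, q ∣ (Subgroup.centralizer ({x} : Set G)).index) (h : ∀ x : G, ¬ p * q ∣ (Subgroup.centralizer ({x} : Set G)).index) :
    Cfsg.HasNormalPComplement p G ∨ Cfsg.HasNormalPComplement q G := by
  classical
  have : Fact p.Prime := ⟨hp⟩
  have : Fact q.Prime := ⟨hq⟩
  obtain ⟨P⟩ : Nonempty (Sylow p G) := inferInstance
  obtain ⟨Q⟩ : Nonempty (Sylow q G) := inferInstance
  by_cases hP : Subgroup.normalizer ((P : Subgroup G) : Set G) ≤ Subgroup.centralizer ((P : Subgroup G) : Set G)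
  · left
    exact ⟨P, (MonoidHom.transferSylow P hP).ker, inferInstance,
      MonoidHom.ker_transferSylow_isComplement' P hP⟩
  by_cases hQ : Subgroup.normalizer ((Q : Subgroup G) : Set G) ≤ Subgroup.centralizer ((Q : Subgroup G) : Set G)
  · right
    exact ⟨Q, (MonoidHom.transferSylow Q hQ).ker, inferInstance,
      MonoidHom.ker_transferSylow_isComplement' Q hQ⟩
  exfalso
  have hbP := count_bound P hP
  have hbQ := count_bound Q hQ
  set A := {x : G | x ≠ 1 ∧ ∃ g : G, g⁻¹ * x * g ∈ Subgroup.centralizer ((P : Subgroup G) : Set G)} with hA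
  set B := {x : G | x ≠ 1 ∧ ∃ g : G, g⁻¹ * x * g ∈ Subgroup.centralizer ((Q : Subgroup G) : Set G)} with hB
  have hcover : {x : G | x ≠ 1} ⊆ A ∪ B := by
    intro x hx
    have hx1 : x ≠ 1 := hx
    have hcop : Nat.Coprime p q := (Nat.coprime_primes hp hq).mpr hpq
    have hnot : ¬ p ∣ (Subgroup.centralizer ({x} : Set G)).index ∨ ¬ q ∣ (Subgroup.centralizer ({x} : Set G)).index := by
      by_contra hcon
      push Not at hcon
      exact h x (hcop.mul_dvd_of_dvd_of_dvd hcon.1 hcon.2)
    rcases hnot with hnp | hnq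
    · left
      obtain ⟨P', hP'⟩ := exists_sylow_le_of_not_dvd_index _ hnp
      exact ⟨hx1, exists_conj_mem_centralizer_sylow P P' x hP'⟩
    · right
      obtain ⟨Q', hQ'⟩ := exists_sylow_le_of_not_dvd_index _ hnq
      exact ⟨hx1, exists_conj_mem_centralizer_sylow Q Q' x hQ'⟩
  have hcard : {x : G | x ≠ 1}.ncard = Nat.card G - 1 := by
    have : Fintype G := Fintype.ofFinite G
    rw [← Nat.card_coe_set_eq, Nat.card_eq_fintype_card, Nat.card_eq_fintype_card]
    exact Set.card_ne_eq (1 : G)
  have h1 : {x : G | x ≠ 1}.ncard ≤ A.ncard + B.ncard :=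
    (Set.ncard_le_ncard hcover (Set.toFinite _)).trans (Set.ncard_union_le A B)
  have hGpos : 1 ≤ Nat.card G := Nat.card_pos
  omega

end Cfsg.Agent.S4160
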