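import Cfsg.Statements.S4169
import Cfsg.Agent.Lib.Helper55.SmallClasses
import Cfsg.Agent.Lib.Helper53.NormalAbelian

set_option autoImplicit false
open Cfsg

namespace Cfsg.Agent.S4169

open scoped commutatorElement

/-- Let P be a finite p-group whose conjugacy classes have exactly two sizes (1 and one other value). Then P has nilpotency class at most 3. -/
theorem result {P : Type*} [Group P] [Finite P] {p : ℕ} [Fact p.Prime] (hP : IsPGroup p P)
    (m : ℕ) (hm : 1 < m) (h : ∀ x : P, (Subgroup.centralizer ({x} : Set P)).index = 1 ∨ (Subgroup.centralizer ({x} : Set P)).index = m) :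
    upperCentralSeries P 3 = ⊤ := by
  obtain ⟨A, -, hAn, hA, hmax⟩ := Cfsg.Agent.Lib.Helper53.exists_max_normal_abelian
    (⊥ : Subgroup P) inferInstance (by
      intro x hx y hy
      rw [Subgroup.mem_bot] at hx hy
      rw [hx, hy])
  haveI := hAn
  have hCA := Cfsg.Agent.Lib.Helper53.centralizer_eq_of_max_normal_abelian hP A hA hmax
  have hmin : ∀ y : P, 1 < (Subgroup.centralizer ({y} : Set P)).index →
      m ≤ (Subgroup.centralizer ({y} : Set P)).index := by
    intro y hy
    rcases h y with h1 | h1
    · omega
    · omega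
  apply Cfsg.Agent.Lib.Helper55.ucs_three_eq_top_of_comm
  intro x y z w
  have hmem : ∀ t : P, t ∈ Subgroup.closure {x : P | (Subgroup.centralizer ({x} : Set P)).index = 1 ∨
        (Subgroup.centralizer ({x} : Set P)).index = m} := fun t => Subgroup.subset_closure (h t)
  exact Cfsg.Agent.Lib.Helper55.small_classes_comm_eq_one A hA hCA m hmin (hmem x) (hmem y) (hmem z)

end Cfsg.Agent.S4169
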