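import Cfsg.Statements.S4172
import Cfsg.Agent.Lib.Helper73.FStarMinE

set_option autoImplicit false
open Cfsg

namespace Cfsg.Agent.S4172

/-- Let p be a prime and G a finite group with a non-commutative Sylow p-subgroup P whose Frattini subgroup has index p² in P (P is generated by two elements). Suppose G has no nontrivial normal subgroup of order prime to p and the Frattini subgroup of P contains no nontrivial normal subgroup of G. Then the generalized Fitting subgroup F*(G) is the unique minimal normal subgroup of G, the image of P in G/F*(G) is cyclic, and if F*(G) is not commutative then P permutes the components of G transitively by conjugation. -/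
theorem result {G : Type*} [Group G] [Finite G] (p : ℕ) [Fact p.Prime] (P : Sylow p G) (hna : ¬ IsMulCommutative (P : Subgroup G)) (hgen : (frattini ↥(P : Subgroup G)).index = p ^ 2) (hcore : Cfsg.pPrimeCore p G = ⊥) (hfrat : ((frattini ↥(P : Subgroup G)).map (P : Subgroup G).subtype).normalCore = ⊥) [hFn : (Cfsg.generalizedFittingSubgroup G).Normal] :
    (Cfsg.generalizedFittingSubgroup G ≠ ⊥ ∧ ∀ K : Subgroup G, K.Normal → K ≠ ⊥ → Cfsg.generalizedFittingSubgroup G ≤ K) ∧
      IsCyclic ↥((P : Subgroup G).map (QuotientGroup.mk' (Cfsg.generalizedFittingSubgroup G))) ∧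
      (¬ IsMulCommutative (Cfsg.generalizedFittingSubgroup G) → ∀ K L : Subgroup G, Cfsg.IsComponent K → Cfsg.IsComponent L → ∃ x ∈ (P : Subgroup G), L = K.map (MulAut.conj x).toMonoidHom) := by
  classical
  obtain ⟨M, hMn, hM0, hMmin⟩ :=
    Cfsg.Agent.Lib.Helper73.FStarMin.exists_min_normal P hna hgen hcore hfrat
  have := hMn
  have hFne := Cfsg.Agent.Lib.Helper73.FStarMin.generalizedFitting_ne_bot P hna
  have hMF : M ≤ Cfsg.generalizedFittingSubgroup G := hMmin _ hFn hFne
  have hFM : Cfsg.generalizedFittingSubgroup G = M ∧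
      (Cfsg.pCore p G = ⊥ ∨ Cfsg.generalizedFittingSubgroup G = Cfsg.pCore p G) := by
    by_cases hV : Cfsg.pCore p G = ⊥
    · have hF : Cfsg.fittingSubgroup G = ⊥ := by
        rw [Cfsg.Agent.Lib.Helper91.fittingSubgroup_eq_pCore_of_pPrimeCore_eq_bot (G := G) hcore, hV]
      have h1 := Cfsg.Agent.Lib.Helper73.FStarMin.layer_le_min_of_pCore_eq_bot hcore M hM0 hMmin hV
      refine ⟨le_antisymm ?_ hMF, Or.inl hV⟩
      unfold Cfsg.generalizedFittingSubgroup
      rw [hF, sup_bot_eq]
      exact h1
    · have hE := Cfsg.Agent.Lib.Helper73.FStarMin.layer_eq_bot_of_pCore_ne_bot P hcore hfrat M hM0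
        hMmin hV
      have hF := Cfsg.Agent.Lib.Helper91.fittingSubgroup_eq_pCore_of_pPrimeCore_eq_bot (G := G) hcore
      have hVn : (Cfsg.pCore p G).Normal := Cfsg.Agent.Lib.Helper22.pCore_normal' p G
      have hMV : M ≤ Cfsg.pCore p G := hMmin _ hVn hV
      have h1 := Cfsg.Agent.Lib.Helper73.FStarMin.pCore_le_min P hgen hcore hfrat M hM0 hMmin hMV
      have h2 : Cfsg.generalizedFittingSubgroup G = Cfsg.pCore p G := by
        unfold Cfsg.generalizedFittingSubgroup
        rw [hE, hF, bot_sup_eq]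
      refine ⟨?_, Or.inr h2⟩
      rw [h2]
      exact le_antisymm h1 hMV
  obtain ⟨hFeq, hcase⟩ := hFM
  refine ⟨⟨hFne, ?_⟩, ?_, ?_⟩
  · intro K hKn hK0
    rw [hFeq]
    exact hMmin K hKn hK0
  · exact Cfsg.Agent.Lib.Helper73.FStarMin.isCyclic_map_mk P hgen _
      (Cfsg.Agent.Lib.Helper73.FStarMin.not_inf_le_of_normal P hcore hfrat _ hFne)
  · intro hnc K L hK hL
    rcases hcase with hV | hV
    · exact Cfsg.Agent.Lib.Helper73.FStarMin.exists_conj_component P hna hgen hcore hV hK hL
    · exfalso
      apply hnc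
      have hcomm := Cfsg.Agent.Lib.Helper73.FStarMin.pCore_comm P hfrat
      refine ⟨⟨fun a b => Subtype.ext ?_⟩⟩
      have ha : (a : G) ∈ Cfsg.pCore p G := hV ▸ a.2
      have hb : (b : G) ∈ Cfsg.pCore p G := hV ▸ b.2
      exact hcomm a ha b hb

end Cfsg.Agent.S4172
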