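import Cfsg.Statements.S4177
import Cfsg.Agent.Lib.Helper69.Orbit

set_option autoImplicit false
open Cfsg

namespace Cfsg.Agent.S4177

section
variable {k V K : Type*} [Field k] [AddCommGroup V] [Module k V] [Group K] [Fintype K]

/-- the sum operator of a representation -/
noncomputable def sumOp (τ : Representation k K V) : V →ₗ[k] V := ∑ κ : K, τ κ

theorem sumOp_apply (τ : Representation k K V) (v : V) : sumOp τ v = ∑ κ : K, τ κ v := by
  simp [sumOp, LinearMap.sum_apply]

theorem sumOp_comp (τ : Representation k K V) (g : K) (v : V) :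
    sumOp τ (τ g v) = sumOp τ v := by
  rw [sumOp_apply, sumOp_apply]
  apply Fintype.sum_equiv (Equiv.mulRight g)
  intro κ
  simp [map_mul]

theorem comp_sumOp (τ : Representation k K V) (g : K) (v : V) :
    τ g (sumOp τ v) = sumOp τ v := by
  rw [sumOp_apply, map_sum]
  apply Fintype.sum_equiv (Equiv.mulLeft g)
  intro κ
  simp [map_mul]

theorem sumOp_fixed (τ : Representation k K V) (v : V) (hv : ∀ κ : K, τ κ v = v) :
    sumOp τ v = (Fintype.card K : k) • v := by
  rw [sumOp_apply]
  simp [hv, Finset.sum_const, Nat.cast_smul_eq_nsmul]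

theorem sumOp_span (τ : Representation k K V) (a : V) (Gen : Set V)
    (hGen : ∀ x ∈ Gen, sumOp τ x = sumOp τ a) (v : V) (hv : v ∈ Submodule.span k Gen) :
    ∃ c : k, sumOp τ v = c • sumOp τ a := by
  induction hv using Submodule.span_induction with
  | mem x hx => exact ⟨1, by rw [hGen x hx, one_smul]⟩
  | zero => exact ⟨0, by simp⟩
  | add x y _ _ hx hy =>
    obtain ⟨c, hc⟩ := hx
    obtain ⟨d, hd⟩ := hy
    exact ⟨c + d, by rw [map_add, hc, hd, add_smul]⟩
  | smul r x _ hx =>
    obtain ⟨c, hc⟩ := hx
    exact ⟨r * c, by rw [map_smul, hc, smul_smul]⟩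

end

/-- Let k be a field whose characteristic does not divide the order of the finite group H (for instance a field of characteristic zero), and ρ a k-linear representation of H on V. Let a be a vector whose H-orbit spans V. Then the space of H-fixed vectors has dimension at most 1, and every vector b whose H-orbit has size coprime to the size of the orbit of a is fixed by H. -/
theorem result {k V H : Type*} [Field k] [AddCommGroup V] [Module k V] [Group H] [Finite H]
    (hchar : ¬ ringChar k ∣ Nat.card H) (ρ : Representation k H V) (a : V)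
    (hspan : Submodule.span k {u : V | ∃ h : H, ρ h a = u} = ⊤) :
    Module.finrank k ρ.invariants ≤ 1 ∧
    ∀ b : V, (Nat.card {u : V | ∃ h : H, ρ h a = u}).Coprime (Nat.card {u : V | ∃ h : H, ρ h b = u}) → ∀ h : H, ρ h b = b := by
  classical
  have : Fintype H := Fintype.ofFinite H
  have hcardH : (Fintype.card H : k) ≠ 0 := by
    rw [← Nat.card_eq_fintype_card]
    intro h0
    exact hchar ((ringChar.spec k _).mp h0)
  have hGenH : ∀ x ∈ {u : V | ∃ h : H, ρ h a = u}, sumOp ρ x = sumOp ρ a := by
    rintro x ⟨h, rfl⟩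
    exact sumOp_comp ρ h a
  constructor
  · have hinv : sumOp ρ a ∈ ρ.invariants := by
      rw [Representation.mem_invariants]
      intro g
      exact comp_sumOp ρ g a
    apply finrank_le_one (⟨sumOp ρ a, hinv⟩ : ρ.invariants)
    rintro ⟨w, hw⟩
    rw [Representation.mem_invariants] at hw
    obtain ⟨c, hc⟩ := sumOp_span ρ a _ hGenH w (by rw [hspan]; trivial)
    rw [sumOp_fixed ρ w hw] at hc
    refine ⟨(Fintype.card H : k)⁻¹ * c, ?_⟩
    apply Subtype.ext
    show ((Fintype.card H : k)⁻¹ * c) • sumOp ρ a = w
    rw [mul_smul, ← hc, smul_smul, inv_mul_cancel₀ hcardH, one_smul]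
  · intro b hcop
    letI : MulAction H V := MulAction.compHom V ρ
    have hsmul : ∀ (h : H) (v : V), h • v = ρ h v := fun h v => rfl
    have horb : ∀ v : V, Nat.card {u : V | ∃ h : H, ρ h v = u} = (MulAction.orbit H v).ncard := by
      intro v
      rw [← Nat.card_coe_set_eq]
      rfl
    rw [horb, horb] at hcop
    have htrans := Cfsg.Agent.Lib.Helper69.exists_smul_eq_of_coprime_orbits a b hcop
    -- the stabilizer of b
    let B : Subgroup H := MulAction.stabilizer H b
    let τ : Representation k B V := ρ.comp B.subtype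
    have hτ : ∀ (β : B) (v : V), τ β v = ρ β.1 v := fun β v => rfl
    have hGenB : ∀ x ∈ {u : V | ∃ h : H, ρ h a = u}, sumOp τ x = sumOp τ a := by
      rintro x ⟨h, rfl⟩
      obtain ⟨g, hg1, hg2⟩ := htrans h
      have hgB : g ∈ B := hg2
      rw [hsmul, hsmul] at hg1
      rw [← hg1]
      exact sumOp_comp τ ⟨g, hgB⟩ a
    have hbfix : ∀ β : B, τ β b = b := fun β => β.2
    obtain ⟨c, hc⟩ := sumOp_span τ a _ hGenB b (by rw [hspan]; trivial)
    rw [sumOp_fixed τ b hbfix] at hc
    -- relation between the two sums
    have hrel : (Fintype.card H : k) • sumOp τ a = (Fintype.card B : k) • sumOp ρ a := by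
      have e1 : ∑ h : H, sumOp τ (ρ h a) = (Fintype.card H : k) • sumOp τ a := by
        have : ∀ h : H, sumOp τ (ρ h a) = sumOp τ a := fun h => hGenB _ ⟨h, rfl⟩
        simp [this, Finset.sum_const, Nat.cast_smul_eq_nsmul]
      have e2 : ∑ h : H, sumOp τ (ρ h a) = (Fintype.card B : k) • sumOp ρ a := by
        rw [← map_sum, ← sumOp_apply ρ a]
        apply sumOp_fixed τ
        intro β
        exact comp_sumOp ρ β.1 a
      rw [← e1, e2]
    have hcardB : (Fintype.card B : k) ≠ 0 := by
      intro h0
      apply hcardH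
      have hdvd : Fintype.card B ∣ Fintype.card H := by
        rw [← Nat.card_eq_fintype_card, ← Nat.card_eq_fintype_card]
        exact Subgroup.card_subgroup_dvd_card B
      obtain ⟨d, hd⟩ := hdvd
      rw [hd, Nat.cast_mul, h0, zero_mul]
    -- (|H| |B|) b = (c |B|) S_H a
    have hfinal : ((Fintype.card H : k) * (Fintype.card B : k)) • b
        = (c * (Fintype.card B : k)) • sumOp ρ a := by
      rw [mul_smul, hc, smul_comm, hrel, smul_smul]
    intro g
    have h1 : ρ g (((Fintype.card H : k) * (Fintype.card B : k)) • b)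
        = ((Fintype.card H : k) * (Fintype.card B : k)) • b := by
      rw [hfinal, map_smul, comp_sumOp]
    rw [map_smul] at h1
    exact smul_right_injective V (mul_ne_zero hcardH hcardB) h1

end Cfsg.Agent.S4177
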