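import Cfsg.Statements.S4176
import Cfsg.Agent.S4177
import Cfsg.Agent.Lib.Helper69.Orbit2
import Cfsg.Agent.Lib.Helper69.PSolvable

set_option autoImplicit false
open Cfsg

namespace Cfsg.Agent.S4176

open Cfsg.Agent.S4177 (sumOp sumOp_apply sumOp_comp comp_sumOp sumOp_fixed sumOp_span)
open Cfsg.Agent.Lib.Helper69

section
variable {k V K : Type*} [Field k] [AddCommGroup V] [Module k V] [Group K] [Fintype K]

/-- fibre counting: the sum over the group is a multiple of the sum over the orbit -/
theorem sum_orbit (τ : Representation k K V) (a : V) (O : Set V) [Fintype O]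
    (hO : ∀ x, x ∈ O ↔ ∃ κ : K, τ κ a = x) {M : Type*} [AddCommMonoid M] (g : V → M) :
    ∑ κ : K, g (τ κ a) = Nat.card {κ : K // τ κ a = a} • ∑ x : O, g x := by
  classical
  let f : K → O := fun κ => ⟨τ κ a, (hO _).2 ⟨κ, rfl⟩⟩
  have h1 := Fintype.sum_fiberwise' f (fun x : O => g x.1)
  have h2 : ∑ κ : K, g (τ κ a) = ∑ κ : K, (fun x : O => g x.1) (f κ) := rfl
  rw [h2, ← h1, Finset.smul_sum]
  apply Finset.sum_congr rfl
  intro x _
  rw [Finset.sum_const, Finset.card_univ]
  congr 1
  obtain ⟨κ₀, hκ₀⟩ := (hO x.1).1 x.2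
  rw [← Nat.card_eq_fintype_card]
  apply Nat.card_congr
  exact
    { toFun := fun κ => ⟨κ₀⁻¹ * κ.1, by
        have h3 : τ κ.1 a = x.1 := congrArg Subtype.val κ.2
        rw [map_mul, Module.End.mul_apply, h3, ← hκ₀, ← Module.End.mul_apply, ← map_mul]
        simp⟩
      invFun := fun s => ⟨κ₀ * s.1, by
        apply Subtype.ext
        show τ (κ₀ * s.1) a = x.1
        rw [map_mul, Module.End.mul_apply, s.2, hκ₀]⟩
      left_inv := fun κ => by simp
      right_inv := fun s => by simp }

/-- a vector fixed by a group of invertible order acting transitively on a spanning orbit is a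
multiple of the orbit sum -/
theorem fixed_eq_smul_orbit_sum (τ : Representation k K V) (hK : (Fintype.card K : k) ≠ 0) (a : V)
    (O : Set V) [Fintype O] (hO : ∀ x, x ∈ O ↔ ∃ κ : K, τ κ a = x)
    (hspan : Submodule.span k O = ⊤) (w : V) (hw : ∀ κ : K, τ κ w = w) :
    ∃ c : k, w = c • ∑ x : O, (x : V) := by
  have hGen : ∀ x ∈ O, sumOp τ x = sumOp τ a := by
    intro x hx
    obtain ⟨κ, rfl⟩ := (hO x).1 hx
    exact sumOp_comp τ κ a
  obtain ⟨c, hc⟩ := sumOp_span τ a O hGen w (by rw [hspan]; trivial)
  rw [sumOp_fixed τ w hw, sumOp_apply τ a, sum_orbit τ a O hO (fun x => x)] at hc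
  refine ⟨(Fintype.card K : k)⁻¹ * c * (Nat.card {κ : K // τ κ a = a} : k), ?_⟩
  have : w = (Fintype.card K : k)⁻¹ • ((Fintype.card K : k) • w) := by
    rw [smul_smul, inv_mul_cancel₀ hK, one_smul]
  rw [this, hc, ← Nat.cast_smul_eq_nsmul k, smul_smul, smul_smul, mul_assoc]

end

/-- Let k be a field of prime characteristic p, H a finite p-soluble group and ρ a k-linear representation of H on V. Let a be a vector that is fixed by some Sylow p-subgroup of H and whose H-orbit spans V. Then the space of H-fixed vectors has dimension at most 1, and every vector b whose H-orbit has size coprime to the size of the orbit of a is fixed by H. -/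
theorem result {k V H : Type*} [Field k] (p : ℕ) [Fact p.Prime] [CharP k p] [AddCommGroup V] [Module k V]
    [Group H] [Finite H] (hsol : Cfsg.IsPSolvable p H) (ρ : Representation k H V) (a : V)
    (hfix : ∃ P : Sylow p H, ∀ x : H, x ∈ (P : Subgroup H) → ρ x a = a)
    (hspan : Submodule.span k {u : V | ∃ h : H, ρ h a = u} = ⊤) :
    Module.finrank k ρ.invariants ≤ 1 ∧
    ∀ b : V, (Nat.card {u : V | ∃ h : H, ρ h a = u}).Coprime (Nat.card {u : V | ∃ h : H, ρ h b = u}) → ∀ h : H, ρ h b = b := by
  classical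
  have hp : p.Prime := Fact.out
  letI : MulAction H V := MulAction.compHom V ρ
  have hsmul : ∀ (h : H) (v : V), h • v = ρ h v := fun h v => rfl
  set O : Set V := {u : V | ∃ h : H, ρ h a = u} with hOdef
  have hOorb : O = MulAction.orbit H a := rfl
  have hOfin : Finite O := by
    rw [hOorb]; exact Set.finite_range _
  have : Fintype O := Fintype.ofFinite O
  have horb : ∀ v : V, Nat.card {u : V | ∃ h : H, ρ h v = u} = (MulAction.orbit H v).ncard := by
    intro v
    rw [← Nat.card_coe_set_eq]
    rfl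
  -- the orbit sum is invariant
  set σ : V := ∑ x : O, (x : V) with hσ
  have hσinv : ∀ h : H, ρ h σ = σ := by
    intro h
    rw [hσ, map_sum]
    let e : O ≃ O :=
      { toFun := fun x => ⟨ρ h x.1, by
          obtain ⟨g, hg⟩ := x.2
          exact ⟨h * g, by rw [map_mul, Module.End.mul_apply, hg]⟩⟩
        invFun := fun x => ⟨ρ h⁻¹ x.1, by
          obtain ⟨g, hg⟩ := x.2
          exact ⟨h⁻¹ * g, by rw [map_mul, Module.End.mul_apply, hg]⟩⟩
        left_inv := fun x => by
          apply Subtype.ext
          show ρ h⁻¹ (ρ h x.1) = x.1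
          rw [← Module.End.mul_apply, ← map_mul]; simp
        right_inv := fun x => by
          apply Subtype.ext
          show ρ h (ρ h⁻¹ x.1) = x.1
          rw [← Module.End.mul_apply, ← map_mul]; simp }
    exact Fintype.sum_equiv e _ _ (fun x => rfl)
  -- the orbit size is prime to p
  obtain ⟨P, hP⟩ := hfix
  have hOcop : ((MulAction.orbit H a).ncard).Coprime p := by
    rw [← MulAction.index_stabilizer]
    have hle : (P : Subgroup H) ≤ MulAction.stabilizer H a := fun x hx => hP x hx
    have h1 : (MulAction.stabilizer H a).index ∣ (P : Subgroup H).index := Subgroup.index_dvd_of_le hle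
    have h2 : ¬ p ∣ (P : Subgroup H).index := P.not_dvd_index
    have h3 : Nat.Coprime (P : Subgroup H).index p := ((Nat.Prime.coprime_iff_not_dvd hp).2 h2).symm
    exact Nat.Coprime.coprime_dvd_left h1 h3
  have hcast : ∀ n : ℕ, n.Coprime p → (n : k) ≠ 0 := by
    intro n hn h0
    rw [CharP.cast_eq_zero_iff k p] at h0
    exact (Nat.Prime.coprime_iff_not_dvd hp).1 hn.symm h0
  constructor
  · -- dimension of invariants
    obtain ⟨Q, hQ1, m, hQ2⟩ := exists_pComplement p hsol
    have : Fintype Q := Fintype.ofFinite Q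
    let τ : Representation k Q V := ρ.comp Q.subtype
    have hτ : ∀ (q : Q) (v : V), τ q v = ρ q.1 v := fun q v => rfl
    have hOQ : ∀ x, x ∈ O ↔ ∃ q : Q, τ q a = x := by
      intro x
      constructor
      · rintro ⟨h, rfl⟩
        have hc : ((MulAction.orbit H a).ncard).Coprime Q.index := by
          rw [hQ2]; exact Nat.Coprime.pow_right m hOcop
        obtain ⟨g, hgQ, hg⟩ := exists_mem_smul_eq_of_coprime_index a Q hc h
        exact ⟨⟨g, hgQ⟩, hg⟩
      · rintro ⟨q, rfl⟩
        exact ⟨q.1, rfl⟩
    have hQk : (Fintype.card Q : k) ≠ 0 := by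
      apply hcast
      rw [← Nat.card_eq_fintype_card]; exact hQ1
    have hσmem : σ ∈ ρ.invariants := by
      rw [Representation.mem_invariants]; exact hσinv
    apply finrank_le_one (⟨σ, hσmem⟩ : ρ.invariants)
    rintro ⟨w, hw⟩
    rw [Representation.mem_invariants] at hw
    obtain ⟨c, hc⟩ := fixed_eq_smul_orbit_sum τ hQk a O hOQ hspan w (fun q => hw q.1)
    exact ⟨c, Subtype.ext hc.symm⟩
  · intro b hcop
    rw [horb, horb] at hcop
    have htrans := exists_smul_eq_of_coprime_orbits' a b hcop
    let B : Subgroup H := MulAction.stabilizer H b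
    have hBsol : Cfsg.IsPSolvable p B := isPSolvable_subgroup p hsol B
    obtain ⟨Q, hQ1, m, hQ2⟩ := exists_pComplement p hBsol
    have : Fintype Q := Fintype.ofFinite Q
    -- B-orbit of a is O
    have hBorb : MulAction.orbit B a = MulAction.orbit H a := by
      ext x
      constructor
      · rintro ⟨β, rfl⟩
        exact ⟨β.1, rfl⟩
      · rintro ⟨h, rfl⟩
        obtain ⟨g, hg1, hg2⟩ := htrans h
        exact ⟨⟨g, hg2⟩, hg1⟩
    let τ : Representation k Q V := ρ.comp (B.subtype.comp Q.subtype)
    have hτ : ∀ (q : Q) (v : V), τ q v = ρ q.1.1 v := fun q v => rfl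
    have hOQ : ∀ x, x ∈ O ↔ ∃ q : Q, τ q a = x := by
      intro x
      constructor
      · rintro ⟨h, rfl⟩
        obtain ⟨g, hg1, hg2⟩ := htrans h
        have hc : ((MulAction.orbit B a).ncard).Coprime Q.index := by
          rw [hBorb, hQ2]; exact Nat.Coprime.pow_right m hOcop
        obtain ⟨g', hgQ, hg'⟩ := exists_mem_smul_eq_of_coprime_index a Q hc ⟨g, hg2⟩
        refine ⟨⟨g', hgQ⟩, ?_⟩
        have h1 : (g' : H) • a = g • a := hg'
        rw [hτ, ← hsmul, h1, hg1]; rfl
      · rintro ⟨q, rfl⟩
        exact ⟨q.1.1, rfl⟩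
    have hQk : (Fintype.card Q : k) ≠ 0 := by
      apply hcast
      rw [← Nat.card_eq_fintype_card]; exact hQ1
    have hbfix : ∀ q : Q, τ q b = b := fun q => q.1.2
    obtain ⟨c, hc⟩ := fixed_eq_smul_orbit_sum τ hQk a O hOQ hspan b hbfix
    intro h
    rw [hc, map_smul, hσinv]

end Cfsg.Agent.S4176
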