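import Cfsg.Statements.S4178

set_option autoImplicit false
open Cfsg

namespace Cfsg.Agent.S4178

theorem index_le_of_fibers {H X : Type*} [Group H] [Finite X] (R : Subgroup H) (f : H → X)
    (hf : ∀ h h' : H, f h = f h' → h⁻¹ * h' ∈ R) : R.index ≤ Nat.card X := by
  unfold Subgroup.index
  apply Nat.card_le_card_of_injective (fun q : H ⧸ R => f q.out)
  intro q q' hqq
  have := hf _ _ hqq
  rw [← QuotientGroup.eq] at this
  simpa using this

theorem card_ne_zero_eq (F X : Type*) [Field F] [Fintype F] [AddCommGroup X] [Module F X]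
    [FiniteDimensional F X] :
    Nat.card {u : X // u ≠ 0} = Fintype.card F ^ Module.finrank F X - 1 := by
  classical
  have : Finite X := Module.finite_of_finite F
  have : Fintype X := Fintype.ofFinite X
  rw [Nat.card_eq_fintype_card, Fintype.card_subtype_compl, Fintype.card_subtype_eq,
    Module.card_eq_pow_finrank (K := F)]

theorem real_ineq (q n d idx : ℕ) (hq : 1 ≤ q) (hnd : 2 * n ≤ d) (hidx : idx ≤ q ^ n - 1) :
    (idx : ℝ) ≤ Real.sqrt ((q : ℝ) ^ d) - 1 := by
  have h1 : 1 ≤ q ^ n := Nat.one_le_pow _ _ hq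
  have h2 : (idx : ℝ) ≤ (q : ℝ) ^ n - 1 := by
    have : ((q ^ n - 1 : ℕ) : ℝ) = (q : ℝ) ^ n - 1 := by
      rw [Nat.cast_sub h1]; simp
    rw [← this]
    exact_mod_cast hidx
  have h3 : (q : ℝ) ^ n ≤ Real.sqrt ((q : ℝ) ^ d) := by
    apply Real.le_sqrt_of_sq_le
    rw [← pow_mul]
    apply pow_le_pow_right₀
    · exact_mod_cast hq
    · omega
  linarith

/-- Let F be a finite field with q elements, V a non-zero finite-dimensional F-space of dimension d, H a group of invertible linear maps of V, and R the subgroup of H generated by the elements of H that fix some non-zero vector (have eigenvalue 1). Then the index of R in H is at most q^d − 1; and if H leaves invariant some proper non-zero subspace, the index is at most q^(d/2) − 1. -/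
theorem result {F V : Type*} [Field F] [Fintype F] [AddCommGroup V] [Module F V] [FiniteDimensional F V] [Nontrivial V]
    (H : Subgroup (V ≃ₗ[F] V)) :
    (Subgroup.closure {h : ↥H | ∃ v : V, v ≠ 0 ∧ (h : V ≃ₗ[F] V) v = v}).index ≤ Fintype.card F ^ Module.finrank F V - 1 ∧
    ((∃ W : Submodule F V, W ≠ ⊥ ∧ W ≠ ⊤ ∧ ∀ h ∈ H, ∀ w ∈ W, h w ∈ W) →
      ((Subgroup.closure {h : ↥H | ∃ v : V, v ≠ 0 ∧ (h : V ≃ₗ[F] V) v = v}).index : ℝ) ≤ Real.sqrt ((Fintype.card F : ℝ) ^ Module.finrank F V) - 1) := by
  classical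
  have hVfin : Finite V := Module.finite_of_finite F
  set R := Subgroup.closure {h : ↥H | ∃ v : V, v ≠ 0 ∧ (h : V ≃ₗ[F] V) v = v} with hR
  have hmemR : ∀ k : ↥H, (∃ v : V, v ≠ 0 ∧ (k : V ≃ₗ[F] V) v = v) → k ∈ R :=
    fun k hk => Subgroup.subset_closure hk
  have hcoe : ∀ (h h' : ↥H) (u : V), ((h⁻¹ * h' : ↥H) : V ≃ₗ[F] V) u
      = (h : V ≃ₗ[F] V).symm ((h' : V ≃ₗ[F] V) u) := by
    intro h h' u
    rfl
  constructor
  · obtain ⟨v, hv⟩ := exists_ne (0 : V)
    rw [← card_ne_zero_eq F V]
    apply index_le_of_fibers R (fun h : ↥H => (⟨(h : V ≃ₗ[F] V) v, by simpa using hv⟩ : {u : V // u ≠ 0}))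
    intro h h' hh
    apply hmemR
    refine ⟨v, hv, ?_⟩
    have : (h : V ≃ₗ[F] V) v = (h' : V ≃ₗ[F] V) v := congrArg Subtype.val hh
    rw [hcoe, ← this]
    simp
  · rintro ⟨W, hWbot, hWtop, hWinv⟩
    have hq : 1 ≤ Fintype.card F := Fintype.card_pos
    have hdim := Submodule.finrank_quotient_add_finrank W
    by_cases hcase : 2 * Module.finrank F W ≤ Module.finrank F V
    · apply real_ineq _ (Module.finrank F W) _ _ hq hcase
      obtain ⟨w₀, hw₀W, hw₀⟩ := Submodule.exists_mem_ne_zero_of_ne_bot hWbot
      rw [← card_ne_zero_eq F W]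
      apply index_le_of_fibers R (fun h : ↥H =>
        (⟨⟨(h : V ≃ₗ[F] V) w₀, hWinv h h.2 w₀ hw₀W⟩, by
          intro h0
          have := congrArg Subtype.val h0
          simp at this
          exact hw₀ this⟩ : {u : W // u ≠ 0}))
      intro h h' hh
      apply hmemR
      refine ⟨w₀, hw₀, ?_⟩
      have : (h : V ≃ₗ[F] V) w₀ = (h' : V ≃ₗ[F] V) w₀ := by
        have := congrArg (fun z => ((z : {u : W // u ≠ 0}) : W).1) hh
        exact this
      rw [hcoe, ← this]
      simp
    · apply real_ineq _ (Module.finrank F (V ⧸ W)) _ _ hq (by omega)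
      obtain ⟨v, hvW⟩ : ∃ v : V, v ∉ W := by
        by_contra hcon
        push Not at hcon
        exact hWtop (eq_top_iff.mpr fun x _ => hcon x)
      rw [← card_ne_zero_eq F (V ⧸ W)]
      have hQfin : Finite (V ⧸ W) := Module.finite_of_finite F
      have hinvmem : ∀ (h : ↥H) (u : V), (h : V ≃ₗ[F] V).symm u ∈ W ↔ u ∈ W := by
        intro h u
        constructor
        · intro hu
          have := hWinv h h.2 _ hu
          simpa using this
        · intro hu
          exact hWinv (h⁻¹ : ↥H) (h⁻¹).2 u hu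
      apply index_le_of_fibers R (fun h : ↥H =>
        (⟨Submodule.Quotient.mk ((h : V ≃ₗ[F] V) v), by
          intro h0
          rw [Submodule.Quotient.mk_eq_zero] at h0
          apply hvW
          have := (hinvmem h _).2 h0
          simpa using this⟩ : {u : V ⧸ W // u ≠ 0}))
      intro h h' hh
      apply hmemR
      have h1 : (Submodule.Quotient.mk ((h : V ≃ₗ[F] V) v) : V ⧸ W)
          = Submodule.Quotient.mk ((h' : V ≃ₗ[F] V) v) := congrArg Subtype.val hh
      rw [Submodule.Quotient.eq] at h1
      set k : ↥H := h⁻¹ * h' with hk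
      have h2 : v - (k : V ≃ₗ[F] V) v ∈ W := by
        have := (hinvmem h _).2 h1
        rw [map_sub] at this
        rw [hcoe]
        simpa using this
      by_contra hcon
      push Not at hcon
      let T : V →ₗ[F] V := (k : V ≃ₗ[F] V).toLinearMap - LinearMap.id
      have hTapp : ∀ u, T u = (k : V ≃ₗ[F] V) u - u := fun u => rfl
      have hTinj : Function.Injective T := by
        rw [← LinearMap.ker_eq_bot, LinearMap.ker_eq_bot']
        intro u hu
        by_contra hu0
        apply hcon u hu0
        rw [hTapp, sub_eq_zero] at hu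
        exact hu
      have hTW : ∀ w ∈ W, T w ∈ W := by
        intro w hw
        rw [hTapp]
        exact W.sub_mem (hWinv k k.2 w hw) hw
      let TW : W →ₗ[F] W := T.restrict hTW
      have hTWinj : Function.Injective TW := by
        intro a b hab
        apply Subtype.ext
        apply hTinj
        exact congrArg Subtype.val hab
      have hTWsurj : Function.Surjective TW := LinearMap.injective_iff_surjective.mp hTWinj
      have hTv : T v ∈ W := by
        rw [hTapp]
        have := W.neg_mem h2
        simpa using this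
      obtain ⟨w, hw⟩ := hTWsurj ⟨T v, hTv⟩
      have : T w.1 = T v := congrArg Subtype.val hw
      have := hTinj this
      exact hvW (this ▸ w.2)

end Cfsg.Agent.S4178
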