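import Mathlib
import Cfsg.Statements.S4182
import Cfsg.Agent.Lib.Helper33.Conj

set_option autoImplicit false
open Cfsg

namespace Cfsg.Agent.S4182

open Subgroup Cfsg.Agent.Lib.Helper33

universe u v

/-- the set of `p`-elements -/
def pEl (p : ℕ) (G : Type*) [Group G] : Set G := {g | ∃ k : ℕ, orderOf g = p ^ k}

/-- a subgroup generated by `p`-elements -/
def PG (p : ℕ) {G : Type*} [Group G] (H : Subgroup G) : Prop :=
  ∃ s : Set G, s ⊆ pEl p G ∧ closure s = H

/-- the subgroup generated by the `p`-elements of `K` -/
def pgen (p : ℕ) {G : Type*} [Group G] (K : Subgroup G) : Subgroup G :=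
  closure {g | g ∈ K ∧ g ∈ pEl p G}

variable {p : ℕ} {G : Type*} [Group G]

theorem pgen_le (K : Subgroup G) : pgen p K ≤ K := by
  unfold pgen; rw [closure_le]; intro g hg; exact hg.1

theorem PG_pgen (K : Subgroup G) : PG p (pgen p K) := ⟨_, fun _ hg => hg.2, rfl⟩

theorem PG.le_pgen {H K : Subgroup G} (hH : PG p H) (hHK : H ≤ K) : H ≤ pgen p K := by
  obtain ⟨s, hs, rfl⟩ := hH
  unfold pgen
  apply Subgroup.closure_mono
  intro g hg
  exact ⟨hHK (Subgroup.subset_closure hg), hs hg⟩

theorem PG_zpowers {x : G} (hx : x ∈ pEl p G) : PG p (zpowers x) :=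
  ⟨{x}, by intro g hg; rw [Set.mem_singleton_iff] at hg; rw [hg]; exact hx,
    (zpowers_eq_closure x).symm⟩

theorem PG_cj (g : G) {H : Subgroup G} (hH : PG p H) : PG p (cj g H) := by
  obtain ⟨s, hs, rfl⟩ := hH
  refine ⟨(MulAut.conj g).toMonoidHom '' s, ?_, ?_⟩
  · rintro _ ⟨y, hy, rfl⟩
    obtain ⟨k, hk⟩ := hs hy
    refine ⟨k, ?_⟩
    rw [← hk]
    exact MulEquiv.orderOf_eq (MulAut.conj g) y
  · rw [cj_def, MonoidHom.map_closure]

theorem top_of_PG {H : Subgroup G} (hH : PG p H) :
    closure {h : ↥H | ∃ k : ℕ, orderOf h = p ^ k} = ⊤ := by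
  obtain ⟨s, hs, hsH⟩ := hH
  rw [eq_top_iff]
  rintro ⟨x, hx⟩ -
  have hx' : x ∈ closure s := by rw [hsH]; exact hx
  have key : ∀ (y : G) (_ : y ∈ closure s), ∀ hyH : y ∈ H,
      (⟨y, hyH⟩ : ↥H) ∈ closure {h : ↥H | ∃ k : ℕ, orderOf h = p ^ k} := by
    intro y hy
    induction hy using closure_induction with
    | mem y hy =>
      intro hyH
      apply Subgroup.subset_closure
      obtain ⟨k, hk⟩ := hs hy
      exact ⟨k, by rw [Subgroup.orderOf_mk]; exact hk⟩
    | one => intro _; exact one_mem _
    | mul a b ha hb iha ihb =>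
      intro _
      have haH : a ∈ H := by rw [← hsH]; exact ha
      have hbH : b ∈ H := by rw [← hsH]; exact hb
      exact mul_mem (iha haH) (ihb hbH)
    | inv a ha iha =>
      intro _
      have haH : a ∈ H := by rw [← hsH]; exact ha
      exact inv_mem (iha haH)
  exact key x hx' hx

theorem cj_top (g : G) : cj g (⊤ : Subgroup G) = ⊤ := by
  ext y; simp [mem_cj]

theorem cj_one (M : Subgroup G) : cj 1 M = M := by
  ext y; simp [mem_cj]

theorem cj_pow_eq {y : G} {M : Subgroup G} (h : cj y M = M) (m : ℕ) : cj (y ^ m) M = M := by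
  induction m with
  | zero => rw [pow_zero, cj_one]
  | succ m ih => rw [pow_succ, cj_mul, h, ih]

theorem aux (p : ℕ) [Fact p.Prime] : ∀ n : ℕ, ∀ (G : Type u) [Group G] [Finite G], Nat.card G = n →
    closure (pEl p G) = ⊤ → ∀ (ι : Type v) [Fintype ι] (K : ι → Subgroup G), (∀ i, K i ≠ ⊤) →
    (∀ g : G, g ∈ pEl p G → ∃ i, g ∈ K i) → p + 1 ≤ Fintype.card ι := by
  intro n
  induction n using Nat.strong_induction_on with
  | _ n ih =>
    intro G _ _ hn hgen ι _ K hK hcov
    have hp : p.Prime := Fact.out
    by_contra hcard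
    push Not at hcard
    -- Step 2: proper p-generated subgroups are inside some K i
    have hstep2 : ∀ H : Subgroup G, PG p H → H ≠ ⊤ → ∃ i, H ≤ K i := by
      intro H hPG hHtop
      by_contra hno
      push Not at hno
      have hlt : Nat.card H < n := by
        rw [← hn]
        exact lt_of_le_of_ne (Subgroup.card_le_card_group H)
          (mt (Subgroup.card_eq_iff_eq_top H).1 hHtop)
      have := ih (Nat.card H) hlt H rfl (top_of_PG hPG) ι (fun i => (K i).subgroupOf H) ?_ ?_
      · omega
      · intro i h
        rw [subgroupOf_eq_top] at h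
        exact hno i h
      · intro h hh
        obtain ⟨k, hk⟩ := hh
        obtain ⟨i, hi⟩ := hcov (h : G) ⟨k, by rw [Subgroup.orderOf_coe]; exact hk⟩
        exact ⟨i, mem_subgroupOf.2 hi⟩
    set PP : Set (Subgroup G) := {H | PG p H ∧ H ≠ ⊤} with hPP
    have hfin : PP.Finite := Set.toFinite _
    have hinj : ∀ N N' : Subgroup G, Maximal (· ∈ PP) N → Maximal (· ∈ PP) N' →
        ∀ i, N ≤ K i → N' ≤ K i → N = N' := by
      intro N N' hN hN' i h1 h2
      have hmem : pgen p (K i) ∈ PP :=
        ⟨PG_pgen _, fun h => hK i (top_le_iff.1 (h ▸ pgen_le (K i)))⟩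
      have e1 : N = pgen p (K i) :=
        le_antisymm (hN.1.1.le_pgen h1) (hN.2 hmem (hN.1.1.le_pgen h1))
      have e2 : N' = pgen p (K i) :=
        le_antisymm (hN'.1.1.le_pgen h2) (hN'.2 hmem (hN'.1.1.le_pgen h2))
      rw [e1, e2]
    have hmemcj : ∀ (g : G) (H : Subgroup G), H ∈ PP → cj g H ∈ PP := by
      intro g H hH
      refine ⟨PG_cj g hH.1, ?_⟩
      intro h
      apply hH.2
      have := cj_eq_iff.1 h
      rw [this, cj_top]
    have hcjmax : ∀ (g : G) (N : Subgroup G), Maximal (· ∈ PP) N → Maximal (· ∈ PP) (cj g N) := by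
      intro g N hN
      refine ⟨hmemcj g N hN.1, ?_⟩
      intro H' hH' hle
      have h1 : N ≤ cj g⁻¹ H' := cj_le_iff.1 hle
      have h2 := hN.2 (hmemcj g⁻¹ H' hH') h1
      have := (cj_le_iff (g := g⁻¹) (H := H') (K := N)).1 h2
      rwa [inv_inv] at this
    have hnormal : ∀ M : Subgroup G, Maximal (· ∈ PP) M → ∀ x ∈ pEl p G, cj x M = M := by
      intro M hM x hx
      by_contra hne
      have hzx : zpowers x ∈ PP := by
        refine ⟨PG_zpowers hx, ?_⟩
        intro htop
        obtain ⟨i, hi⟩ := hcov x hx
        apply hK i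
        rw [eq_top_iff, ← htop, zpowers_le]
        exact hi
      obtain ⟨Mx, hxMx, hMx⟩ := hfin.exists_le_maximal hzx
      have hxMx' : x ∈ Mx := hxMx (mem_zpowers x)
      have hA : ∀ a b : ℕ, a < b → b < p → cj (x ^ a) M ≠ cj (x ^ b) M := by
        intro a b hab hbp heq
        have e : x ^ b = x ^ a * x ^ (b - a) := by rw [← pow_add]; congr 1; omega
        rw [e, cj_mul] at heq
        have h1 : M = cj (x ^ (b - a)) M := cj_injective _ heq
        obtain ⟨k, hk⟩ := hx
        have hcop : (b - a).Coprime (orderOf x) := by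
          rw [hk]
          apply Nat.Coprime.pow_right
          apply Nat.Coprime.symm
          rw [Nat.Prime.coprime_iff_not_dvd hp]
          exact Nat.not_dvd_of_pos_of_lt (by omega) (by omega)
        obtain ⟨m, hm⟩ := exists_pow_eq_self_of_coprime hcop
        apply hne
        rw [← hm]
        exact cj_pow_eq h1.symm m
      have hB : ∀ a : ℕ, cj (x ^ a) M ≠ Mx := by
        intro a heq
        have h1 : cj x Mx = Mx := cj_eq_self_of_mem hxMx'
        rw [← heq, ← cj_mul] at h1
        have e : x * x ^ a = x ^ a * x := by rw [← pow_succ, ← pow_succ']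
        rw [e, cj_mul] at h1
        exact hne (cj_injective _ h1)
      let N : Fin (p + 1) → Subgroup G :=
        fun j => if (j : ℕ) < p then cj (x ^ (j : ℕ)) M else Mx
      have hNmax : ∀ j, Maximal (· ∈ PP) (N j) := by
        intro j
        simp only [N]
        split_ifs
        · exact hcjmax _ _ hM
        · exact hMx
      choose f hf using fun j => hstep2 (N j) (hNmax j).1.1 (hNmax j).1.2
      have hNinj : Function.Injective N := by
        intro j l hjl
        simp only [N] at hjl
        by_contra hne'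
        have hne'' : (j : ℕ) ≠ (l : ℕ) := fun h => hne' (Fin.ext h)
        split_ifs at hjl with h1 h2 h2
        · rcases lt_or_gt_of_ne hne'' with h | h
          · exact hA _ _ h h2 hjl
          · exact hA _ _ h h1 hjl.symm
        · exact hB _ hjl
        · exact hB _ hjl.symm
        · have := j.2
          have := l.2
          omega
      have hfinj : Function.Injective f := by
        intro j l hjl
        apply hNinj
        exact hinj _ _ (hNmax j) (hNmax l) (f j) (hf j) (by rw [hjl]; exact hf l)
      have := Fintype.card_le_of_injective f hfinj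
      rw [Fintype.card_fin] at this
      omega
    have hnorm' : ∀ M : Subgroup G, Maximal (· ∈ PP) M → ∀ g : G, cj g M = M := by
      intro M hM g
      have hg : g ∈ closure (pEl p G) := by rw [hgen]; exact mem_top g
      induction hg using closure_induction with
      | mem y hy => exact hnormal M hM y hy
      | one => exact cj_one M
      | mul a b _ _ iha ihb => rw [cj_mul, ihb, iha]
      | inv a _ iha =>
        have := cj_eq_iff.1 iha
        exact this.symm
    let S : Sylow p G := default
    by_cases hS : (S : Subgroup G) = ⊤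
    · -- the p-group case: counting
      classical
      haveI : Fintype G := Fintype.ofFinite G
      have hG : IsPGroup p G := by
        intro g
        obtain ⟨k, hk⟩ := S.2 ⟨g, by rw [hS]; exact mem_top g⟩
        exact ⟨k, by simpa using congrArg Subtype.val hk⟩
      have hcovall : ∀ g : G, ∃ i, g ∈ K i := fun g => hcov g (IsPGroup.iff_orderOf.1 hG g)
      have hidx : ∀ i, Nat.card (K i) * p ≤ Nat.card G := by
        intro i
        obtain ⟨k, hk⟩ := hG.index (K i)
        have hk0 : k ≠ 0 := by
          intro h0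
          rw [h0, pow_zero, Subgroup.index_eq_one] at hk
          exact hK i hk
        have hpd : p ≤ (K i).index := by
          rw [hk]
          calc p = p ^ 1 := (pow_one p).symm
            _ ≤ p ^ k := Nat.pow_le_pow_right hp.pos (Nat.one_le_iff_ne_zero.2 hk0)
        rw [← Subgroup.card_mul_index (K i)]
        exact Nat.mul_le_mul_left _ hpd
      have hsub : (Finset.univ : Finset G).erase 1 ⊆ Finset.univ.biUnion
          (fun i : ι => ((Finset.univ : Finset G).filter (· ∈ K i)).erase 1) := by
        intro g hg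
        rw [Finset.mem_erase] at hg
        obtain ⟨i, hi⟩ := hcovall g
        rw [Finset.mem_biUnion]
        exact ⟨i, Finset.mem_univ _,
          Finset.mem_erase.2 ⟨hg.1, Finset.mem_filter.2 ⟨Finset.mem_univ _, hi⟩⟩⟩
      have h1 := (Finset.card_le_card hsub).trans Finset.card_biUnion_le
      have hpiece : ∀ i, (((Finset.univ : Finset G).filter (· ∈ K i)).erase 1).card =
          Nat.card (K i) - 1 := by
        intro i
        rw [Finset.card_erase_of_mem (by simp [one_mem])]
        congr 1
        rw [Nat.card_eq_fintype_card, Fintype.card_subtype]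
      rw [Finset.card_erase_of_mem (Finset.mem_univ _), Finset.card_univ,
        ← Nat.card_eq_fintype_card] at h1
      simp only [hpiece] at h1
      obtain ⟨i0, -⟩ := hcovall 1
      have hN0 := hidx i0
      have hpos : 0 < Nat.card (K i0) := Nat.card_pos
      have hbound : ∀ i ∈ (Finset.univ : Finset ι), p * (Nat.card (K i) - 1) ≤ Nat.card G - p := by
        intro i _
        have := hidx i
        have hpos' : 0 < Nat.card (K i) := Nat.card_pos
        rw [Nat.mul_sub, mul_one]
        apply Nat.sub_le_sub_right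
        rw [mul_comm]; exact this
      have h2 : p * ∑ i : ι, (Nat.card (K i) - 1) ≤ Fintype.card ι * (Nat.card G - p) := by
        rw [Finset.mul_sum]
        calc ∑ i : ι, p * (Nat.card (K i) - 1) ≤ ∑ _i : ι, (Nat.card G - p) :=
              Finset.sum_le_sum hbound
          _ = Fintype.card ι * (Nat.card G - p) := by
              rw [Finset.sum_const, smul_eq_mul, Finset.card_univ]
      have h3 : p * (Nat.card G - 1) ≤ p * (Nat.card G - p) := by
        calc p * (Nat.card G - 1) ≤ p * ∑ i : ι, (Nat.card (K i) - 1) :=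
              Nat.mul_le_mul_left _ h1
          _ ≤ Fintype.card ι * (Nat.card G - p) := h2
          _ ≤ p * (Nat.card G - p) := Nat.mul_le_mul_right _ (by omega)
      have h4 : Nat.card G - 1 ≤ Nat.card G - p := Nat.le_of_mul_le_mul_left h3 hp.pos
      have hp2 := hp.two_le
      have : p ≤ Nat.card G := by nlinarith
      omega
    · have hSPP : (S : Subgroup G) ∈ PP := by
        refine ⟨⟨((S : Subgroup G) : Set G), ?_, closure_eq _⟩, hS⟩
        intro y hy
        obtain ⟨k, hk⟩ := IsPGroup.iff_orderOf.1 S.2 ⟨y, hy⟩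
        exact ⟨k, by rwa [Subgroup.orderOf_mk] at hk⟩
      obtain ⟨M, hSM, hM⟩ := hfin.exists_le_maximal hSPP
      apply hM.1.2
      rw [eq_top_iff, ← hgen, closure_le]
      intro y hy
      obtain ⟨k, hk⟩ := hy
      have hyp : IsPGroup p (zpowers y) := IsPGroup.of_card (n := k) (by rw [Nat.card_zpowers, hk])
      obtain ⟨S', hS'⟩ := hyp.exists_le_sylow
      obtain ⟨g, hg⟩ := MulAction.exists_smul_eq G S S'
      have hyS' : y ∈ (S' : Subgroup G) := hS' (mem_zpowers y)
      rw [← hg, sylow_coe_smul] at hyS'
      have := cj_mono (g := g) hSM hyS'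
      rw [hnorm' M hM g] at this
      exact this

/-- Let p be a prime and G a finite group generated by its p-elements. If a finite family of proper subgroups of G covers the set of p-elements of G (every element of p-power order lies in one of them), then the family has at least p + 1 members. -/
theorem result {G : Type*} [Group G] [Finite G] (p : ℕ) [Fact p.Prime] (hgen : Subgroup.closure {g : G | ∃ k : ℕ, orderOf g = p ^ k} = ⊤)
    {ι : Type*} [Fintype ι] (K : ι → Subgroup G) (hK : ∀ i, K i ≠ ⊤)
    (hcov : ∀ g : G, (∃ k : ℕ, orderOf g = p ^ k) → ∃ i, g ∈ K i) :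
    p + 1 ≤ Fintype.card ι :=
  aux p (Nat.card G) G rfl hgen ι K hK hcov

end Cfsg.Agent.S4182
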