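import Cfsg.Statements.S4186

set_option autoImplicit false
open Cfsg

namespace Cfsg.Agent.S4186

/-- Let T and X be subgroups of a group with T a finite 2-group normalizing X but not centralizing it. Then some element of T inverts some non-identity element of X under conjugation. -/
theorem result {G : Type*} [Group G] (T X : Subgroup G) [Finite ↥T] (hT : IsPGroup 2 ↥T) (hTN : T ≤ Subgroup.normalizer (X : Set G)) (hTC : ¬ T ≤ Subgroup.centralizer (X : Set G)) : ∃ t ∈ T, ∃ x ∈ X, x ≠ 1 ∧ t * x * t⁻¹ = x⁻¹ := by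
  classical
  rw [SetLike.not_le_iff_exists] at hTC
  obtain ⟨t₀, ht₀T, ht₀C⟩ := hTC
  obtain ⟨n, hn⟩ := hT ⟨t₀, ht₀T⟩
  have hn' : t₀ ^ (2 ^ n) = 1 := by
    have := congrArg Subtype.val hn
    simpa using this
  have hex : ∃ k, t₀ ^ (2 ^ k) ∈ Subgroup.centralizer (X : Set G) := ⟨n, by rw [hn']; exact one_mem _⟩
  have hk0 : Nat.find hex ≠ 0 := by
    intro h0
    have := Nat.find_spec hex
    rw [h0] at this
    simp at this
    exact ht₀C this
  obtain ⟨k, hk⟩ := Nat.exists_eq_succ_of_ne_zero hk0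
  have hspec := Nat.find_spec hex
  have hmin : t₀ ^ (2 ^ k) ∉ Subgroup.centralizer (X : Set G) := Nat.find_min hex (by omega)
  rw [hk] at hspec
  set t := t₀ ^ (2 ^ k) with ht
  have htT : t ∈ T := pow_mem ht₀T _
  have ht2 : t * t ∈ Subgroup.centralizer (X : Set G) := by
    have : t * t = t₀ ^ (2 ^ (k + 1)) := by
      rw [ht, ← pow_add, pow_succ, mul_two]
    rw [this]; exact hspec
  rw [Subgroup.mem_centralizer_iff] at hmin
  push Not at hmin
  obtain ⟨y, hyX, hy⟩ := hmin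
  have htN := hTN htT
  rw [Subgroup.mem_normalizer_iff] at htN
  refine ⟨t, htT, y⁻¹ * (t * y * t⁻¹), X.mul_mem (X.inv_mem hyX) ((htN y).1 hyX), ?_, ?_⟩
  · intro h
    apply hy
    have : t * y * t⁻¹ = y := by
      have := congrArg (fun z => y * z) h
      simpa using this
    calc y * t = (t * y * t⁻¹) * t := by rw [this]
      _ = t * y := by group
  · rw [Subgroup.mem_centralizer_iff] at ht2
    have h2 := ht2 y hyX
    have h3 : t * (t * y * t⁻¹) * t⁻¹ = y := by
      have : t * (t * y * t⁻¹) * t⁻¹ = (t * t * y) * (t⁻¹ * t⁻¹) := by group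
      rw [this, ← h2]; group
    calc t * (y⁻¹ * (t * y * t⁻¹)) * t⁻¹ = (t * y * t⁻¹)⁻¹ * (t * (t * y * t⁻¹) * t⁻¹) := by group
      _ = (t * y * t⁻¹)⁻¹ * y := by rw [h3]
      _ = (y⁻¹ * (t * y * t⁻¹))⁻¹ := by group

end Cfsg.Agent.S4186
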