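import Cfsg.Statements.S4189
import Cfsg.Agent.Lib.Helper73.CyclicMax
import Cfsg.Agent.Lib.Helper87.Chain
import Cfsg.Agent.S0016

set_option autoImplicit false
open Cfsg

namespace Cfsg.Agent.S4189

/-- An odd-order automorphism of a 2-group that maps the generator of a cyclic subgroup of index two
into that subgroup is trivial. -/
theorem aut_eq_one_of_cyclic_index_two {P : Type*} [Group P] [Finite P] (hP : IsPGroup 2 P) (a : P)
    (hidx : (Subgroup.zpowers a).index = 2) (α : MulAut P) (hαa : α a ∈ Subgroup.zpowers a)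
    (r : ℕ) (hr : Odd r) (hαr : α ^ r = 1) : α = 1 := by
  have hp2 : Fact (Nat.Prime 2) := ⟨Nat.prime_two⟩
  obtain ⟨t, ht⟩ := (IsPGroup.iff_orderOf.1 hP) a
  -- α maps A onto A
  have hmap_le : (Subgroup.zpowers a).map α.toMonoidHom ≤ Subgroup.zpowers a := by
    rw [MonoidHom.map_zpowers]
    exact Subgroup.zpowers_le.2 hαa
  have hmap_eq : (Subgroup.zpowers a).map α.toMonoidHom = Subgroup.zpowers a := by
    apply Subgroup.eq_of_le_of_card_ge hmap_le
    rw [Subgroup.card_map_of_injective α.injective]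
  have hmem_iff : ∀ x : P, α x ∈ Subgroup.zpowers a ↔ x ∈ Subgroup.zpowers a := by
    intro x
    constructor
    · intro h
      rw [← hmap_eq] at h
      obtain ⟨y, hy, hyx⟩ := h
      have : y = x := α.injective hyx
      rw [← this]; exact hy
    · intro h
      rw [← hmap_eq]
      exact ⟨x, h, rfl⟩
  -- α a = a * (a^2)^s
  have key : ∃ s : ℤ, α a = a * (a ^ 2) ^ s := by
    by_cases ha1 : a = 1
    · exact ⟨0, by rw [ha1, map_one]; simp⟩
    have hfin : IsOfFinOrder a := isOfFinOrder_of_finite a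
    have hαa' := hαa
    rw [← hfin.mem_powers_iff_mem_zpowers] at hαa'
    obtain ⟨j, hj⟩ := hαa'
    change a ^ j = α a at hj
    rcases Nat.even_or_odd' j with ⟨s, hs | hs⟩
    · exfalso
      -- α a = (a^s)^2, so a = (α⁻¹ (a^s))^2
      have h1 : α a = (a ^ s) ^ 2 := by rw [← hj, hs, ← pow_mul, mul_comm]
      obtain ⟨y, hy, hyx⟩ : a ^ s ∈ (Subgroup.zpowers a).map α.toMonoidHom := by
        rw [hmap_eq]; exact Subgroup.pow_mem _ (Subgroup.mem_zpowers a) s
      have hyx' : α y = a ^ s := hyx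
      have h2 : α a = α (y ^ 2) := by rw [map_pow, hyx', h1]
      have h3 : a = y ^ 2 := α.injective h2
      exact Cfsg.Agent.S0016.not_pth_power a t ht ha1 y hy h3
    · refine ⟨(s : ℤ), ?_⟩
      rw [← hj, hs, pow_succ', pow_mul, zpow_natCast]
  obtain ⟨s, hs⟩ := key
  let C : ℕ → Subgroup P := fun i =>
    match i with
    | 0 => ⊤
    | (i + 1) => Subgroup.zpowers (a ^ (2 ^ i))
  have hcop : r.Coprime 2 := Nat.Coprime.symm (Nat.coprime_two_left.2 hr)
  refine Cfsg.Agent.Lib.Helper87.aut_eq_one_of_chain hP α r hcop hαr (t + 1) C rfl ?_ ?_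
  · show Subgroup.zpowers (a ^ 2 ^ t) = ⊥
    rw [Subgroup.zpowers_eq_bot, ← ht, pow_orderOf_eq_one]
  · intro i hi x hx
    cases i with
    | zero =>
      show x⁻¹ * α x ∈ Subgroup.zpowers (a ^ 2 ^ 0)
      rw [pow_zero, pow_one, Subgroup.mul_mem_iff_of_index_two hidx, inv_mem_iff, hmem_iff]
    | succ i =>
      have hx' : x ∈ Subgroup.zpowers (a ^ 2 ^ i) := hx
      show x⁻¹ * α x ∈ Subgroup.zpowers (a ^ 2 ^ (i + 1))
      obtain ⟨u, rfl⟩ := hx'
      refine ⟨s * u, ?_⟩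
      show (a ^ 2 ^ (i + 1)) ^ (s * u) = ((a ^ 2 ^ i) ^ u)⁻¹ * α ((a ^ 2 ^ i) ^ u)
      rw [map_zpow, map_pow, hs]
      have hc : Commute a ((a ^ 2) ^ s) := ((Commute.refl a).pow_right 2).zpow_right s
      rw [hc.mul_pow, hc.pow_pow _ _ |>.mul_zpow]
      rw [← mul_assoc, inv_mul_cancel, one_mul]
      rw [← zpow_natCast a (2 ^ (i + 1)), ← zpow_natCast ((a ^ 2) ^ s) (2 ^ i),
        ← zpow_natCast a 2, ← zpow_mul, ← zpow_mul, ← zpow_mul, ← zpow_mul]
      congr 1
      push_cast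
      ring


/-- Elements outside a cyclic subgroup of index two, in the three normal forms. -/
theorem pow_four_eq_one_of_not_mem {P : Type*} [Group P] (a b : P) (m : ℕ)
    (ham : a ^ (2 * m) = 1)
    (hidx : (Subgroup.zpowers a).index = 2) (hb : b ∉ Subgroup.zpowers a)
    (hcases : (b * a * b⁻¹ = a⁻¹ ∧ b * b = 1) ∨ (b * a * b⁻¹ = a⁻¹ ∧ b * b = a ^ m) ∨
       (b * a * b⁻¹ = a⁻¹ * a ^ m ∧ b * b = 1 ∧ 4 ≤ m))
    (x : P) (hx : x ∉ Subgroup.zpowers a) :
    x ^ 4 = 1 ∧ ((b * a * b⁻¹ = a⁻¹ ∧ b * b = 1) → x ^ 2 = 1) := by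
  have hbx : b⁻¹ * x ∈ Subgroup.zpowers a := by
    rw [Subgroup.mul_mem_iff_of_index_two hidx, inv_mem_iff]
    exact ⟨fun h => absurd h hb, fun h => absurd h hx⟩
  obtain ⟨i, hi⟩ := hbx
  have hxy : x = b * a ^ i := by
    have : a ^ i = b⁻¹ * x := hi
    rw [this, mul_inv_cancel_left]
  have hsq : x ^ 2 = (b * a ^ i * b⁻¹) * (b * b) * a ^ i := by
    rw [hxy, pow_two]; group
  have hamm : a ^ m * a ^ m = 1 := by rw [← pow_add, ← two_mul]; exact ham
  have hcomm : ∀ k : ℤ, a ^ m * a ^ k = a ^ k * a ^ m := by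
    intro k
    have : Commute (a ^ m) (a ^ k) := ((Commute.refl a).pow_left m).zpow_right k
    exact this.eq
  rcases hcases with ⟨hconj, hbb⟩ | ⟨hconj, hbb⟩ | ⟨hconj, hbb, -⟩
  · have h1 : b * a ^ i * b⁻¹ = (a ^ i)⁻¹ := by
      rw [← conj_zpow, hconj, inv_zpow]
    have h2 : x ^ 2 = 1 := by rw [hsq, h1, hbb, mul_one, inv_mul_cancel]
    refine ⟨?_, fun _ => h2⟩
    have : x ^ 4 = (x ^ 2) ^ 2 := by rw [← pow_mul]
    rw [this, h2, one_pow]
  · have h1 : b * a ^ i * b⁻¹ = (a ^ i)⁻¹ := by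
      rw [← conj_zpow, hconj, inv_zpow]
    have h2 : x ^ 2 = a ^ m := by
      rw [hsq, h1, hbb, mul_assoc, hcomm i, inv_mul_cancel_left]
    refine ⟨?_, ?_⟩
    · have : x ^ 4 = (x ^ 2) ^ 2 := by rw [← pow_mul]
      rw [this, h2, pow_two, hamm]
    · rintro ⟨-, hbb'⟩
      rw [h2, ← hbb, hbb']
  · have hc : Commute a⁻¹ (a ^ m) := ((Commute.refl a).inv_left).pow_right m
    have h1 : b * a ^ i * b⁻¹ = (a ^ i)⁻¹ * (a ^ m) ^ i := by
      rw [← conj_zpow, hconj, hc.mul_zpow, inv_zpow]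
    have h2 : x ^ 2 = (a ^ m) ^ i := by
      rw [hsq, h1, hbb, mul_one]
      have : Commute ((a ^ m) ^ i) (a ^ i) := (((Commute.refl a).pow_left m).zpow_left i).zpow_right i
      rw [mul_assoc, this.eq, inv_mul_cancel_left]
    refine ⟨?_, ?_⟩
    · have : x ^ 4 = (x ^ 2) ^ 2 := by rw [← pow_mul]
      rw [this, h2, pow_two, ← (Commute.refl (a ^ m)).mul_zpow, hamm, one_zpow]
    · rintro ⟨hconj', -⟩
      -- then a^m = 1, contradiction is not needed: derive x^2 = 1 directly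
      have : a ^ m = 1 := by
        have := hconj.symm.trans hconj'
        exact mul_eq_left.mp this
      rw [h2, this, one_zpow]

/-- Let P be a finite non-abelian 2-group whose commutator subgroup has index 4 and whose automorphism group is not a 2-group (some automorphism has order that is not a power of 2). Then P is isomorphic to the quaternion group of order 8. -/
theorem result {P : Type*} [Group P] [Finite P] (hP : IsPGroup 2 P) (hna : ¬ IsMulCommutative P) (h4 : (commutator P).index = 4) (haut : ¬ IsPGroup 2 (MulAut P)) : Nonempty (P ≃* QuaternionGroup 2) := by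
  have hc : commutator P ≠ ⊥ := by
    intro h
    apply hna
    rw [commutator_def, Subgroup.commutator_eq_bot_iff_le_centralizer] at h
    refine ⟨⟨fun x y => ?_⟩⟩
    have := h (Subgroup.mem_top x)
    rw [Subgroup.mem_centralizer_iff] at this
    exact (this y (Subgroup.mem_top y)).symm
  obtain ⟨a, b, m, hm, hcard, hm2, hidx, hb, hcases⟩ :=
    Cfsg.Agent.Lib.Helper73.exists_generators hP h4 hc
  -- an odd-order nontrivial automorphism
  obtain ⟨α, r, hr, hαr, hα1⟩ : ∃ α : MulAut P, ∃ r : ℕ, Odd r ∧ α ^ r = 1 ∧ α ≠ 1 := by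
    unfold IsPGroup at haut
    simp only [not_forall, not_exists] at haut
    obtain ⟨β, hβ⟩ := haut
    have hN : orderOf β ≠ 0 := (orderOf_pos β).ne'
    obtain ⟨k, r, hr, hkr⟩ := Nat.exists_eq_two_pow_mul_odd hN
    refine ⟨β ^ (2 ^ k), r, hr, ?_, hβ k⟩
    rw [← pow_mul, ← hkr, pow_orderOf_eq_one]
  have ham : a ^ (2 * m) = 1 := by rw [← hm]; exact pow_orderOf_eq_one a
  have hout := pow_four_eq_one_of_not_mem a b m ham hidx hb hcases
  -- the generic contradiction
  have hcontra : α a ∈ Subgroup.zpowers a → False := fun h =>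
    hα1 (aut_eq_one_of_cyclic_index_two hP a hidx α h r hr hαr)
  have hord : orderOf (α a) = 2 * m := by rw [MulEquiv.orderOf_eq, hm]
  by_cases hQ8 : (b * a * b⁻¹ = a⁻¹ ∧ b * b = a ^ m) ∧ m = 2
  · obtain ⟨⟨hconj, hbb⟩, rfl⟩ := hQ8
    have hinv : ∀ x ∈ Subgroup.zpowers a, x * b = b * x⁻¹ := by
      rintro x ⟨i, rfl⟩
      have h0 : b * a⁻¹ * b⁻¹ = a := by
        rw [← inv_inj, mul_inv_rev, mul_inv_rev, inv_inv, inv_inv, ← mul_assoc]; exact hconj
      have h1 : b * (a ^ i)⁻¹ * b⁻¹ = a ^ i := by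
        rw [← inv_zpow, ← conj_zpow, h0]
      show a ^ i * b = b * (a ^ i)⁻¹
      calc a ^ i * b = (b * (a ^ i)⁻¹ * b⁻¹) * b := by rw [h1]
        _ = b * (a ^ i)⁻¹ := by group
    have hgen : ∀ x : P, x ∈ Subgroup.zpowers a ∨ b⁻¹ * x ∈ Subgroup.zpowers a := by
      intro x
      by_cases hx : x ∈ Subgroup.zpowers a
      · exact Or.inl hx
      · right
        rw [Subgroup.mul_mem_iff_of_index_two hidx, inv_mem_iff]
        exact ⟨fun h => absurd h hb, fun h => absurd h hx⟩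
    exact Cfsg.Agent.S0016.quat_recognition 2 a b hm hbb hinv hb hgen
  · exfalso
    apply hcontra
    by_contra hαa
    obtain ⟨h4', h2'⟩ := hout (α a) hαa
    have hdvd4 : 2 * m ∣ 4 := by rw [← hord]; exact orderOf_dvd_of_pow_eq_one h4'
    have hm_le : m ≤ 2 := by
      have := Nat.le_of_dvd (by norm_num) hdvd4
      omega
    have hm_eq : m = 2 := le_antisymm hm_le hm2
    rcases hcases with hD | hQ | ⟨-, -, hm4⟩
    · have := h2' hD
      have hdvd2 : 2 * m ∣ 2 := by rw [← hord]; exact orderOf_dvd_of_pow_eq_one this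
      have := Nat.le_of_dvd (by norm_num) hdvd2
      omega
    · exact hQ8 ⟨hQ, hm_eq⟩
    · omega

end Cfsg.Agent.S4189
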