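import Cfsg.Statements.S4194
import Cfsg.Agent.Lib.Helper71.OddClassC

set_option autoImplicit false
open Cfsg

namespace Cfsg.Agent.S4194

/-- A finite group G has commutative Sylow 2-subgroups if and only if every 2-element of G (element of order a power of 2) is 2-central, that is, its centralizer contains a Sylow 2-subgroup of G. -/
theorem result {G : Type*} [Group G] [Finite G] (P : Sylow 2 G) :
    IsMulCommutative (P : Subgroup G) ↔ ∀ x : G, (∃ k : ℕ, orderOf x = 2 ^ k) → (∃ Q : Sylow 2 G, (Q : Subgroup G) ≤ Subgroup.centralizer ({x} : Set G)) := by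
  constructor
  · intro hP x hx
    obtain ⟨k, hk⟩ := hx
    have hz : IsPGroup 2 (Subgroup.zpowers x) :=
      IsPGroup.of_card (n := k) (by rw [Nat.card_zpowers, hk])
    obtain ⟨Q, hQ⟩ := hz.exists_le_sylow
    obtain ⟨g, hg⟩ := MulAction.exists_smul_eq G P Q
    refine ⟨Q, fun q hq => ?_⟩
    have hxQ : x ∈ (Q : Subgroup G) := hQ (Subgroup.mem_zpowers x)
    rw [← hg] at hq hxQ
    rw [Sylow.coe_subgroup_smul, Subgroup.mem_pointwise_smul_iff_inv_smul_mem] at hq hxQ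
    have hc := hP.is_comm.comm (⟨_, hq⟩ : (P : Subgroup G)) ⟨_, hxQ⟩
    have hc' : ((MulAut.conj g)⁻¹ • q) * ((MulAut.conj g)⁻¹ • x) =
        ((MulAut.conj g)⁻¹ • x) * ((MulAut.conj g)⁻¹ • q) := congrArg Subtype.val hc
    rw [Cfsg.Agent.Lib.Helper71.OddClass.mem_centralizer_singleton_iff_commute]
    simp only [MulAut.smul_def, ← map_inv, MulAut.conj_apply] at hc'
    have e1 : x * q = g * ((g⁻¹ * x * g⁻¹⁻¹) * (g⁻¹ * q * g⁻¹⁻¹)) * g⁻¹ := by group
    have e2 : q * x = g * ((g⁻¹ * q * g⁻¹⁻¹) * (g⁻¹ * x * g⁻¹⁻¹)) * g⁻¹ := by group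
    show x * q = q * x
    rw [e1, e2, hc']
  · intro h
    have h' : ∀ x : G, (∃ k : ℕ, orderOf x = 2 ^ k) →
        ¬ 2 ∣ (Subgroup.centralizer ({x} : Set G)).index := by
      intro x hx hdvd
      obtain ⟨Q, hQ⟩ := h x hx
      exact Q.not_dvd_index (hdvd.trans (Subgroup.index_dvd_of_le hQ))
    refine ⟨⟨fun a b => Subtype.ext ?_⟩⟩
    exact Cfsg.Agent.Lib.Helper71.OddClass.sylow_commute h' P b.1 b.2 a.1 a.2

end Cfsg.Agent.S4194
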