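import Cfsg.Statements.S4195
import Cfsg.Agent.Lib.Helper69.Basic

set_option autoImplicit false
open Cfsg

namespace Cfsg.Agent.S4195

theorem odd_index_centralizer {G : Type*} [Group G] [Finite G] (x : G) (P : Sylow 2 G)
    (hP : (P : Subgroup G) ≤ Subgroup.centralizer ({x} : Set G)) :
    ¬ 2 ∣ Nat.card {y : G // IsConj x y} := by
  have : Fact (Nat.Prime 2) := ⟨Nat.prime_two⟩
  have h1 : (Subgroup.centralizer ({x} : Set G)).index ∣ (P : Subgroup G).index :=
    Subgroup.index_dvd_of_le hP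
  have h2 : ¬ 2 ∣ (P : Subgroup G).index := P.not_dvd_index
  intro h
  exact h2 (dvd_trans (Cfsg.Agent.Lib.Helper69.index_centralizer_eq_card_isConj x ▸ h) h1)

/-- Let x be a non-identity element of a finite group G whose centralizer contains a Sylow 2-subgroup of G. If x is conjugate to its inverse, then x has order 2. -/
theorem result {G : Type*} [Group G] [Finite G] (x : G) (hx : x ≠ 1) (P : Sylow 2 G) (hP : (P : Subgroup G) ≤ Subgroup.centralizer ({x} : Set G)) (hreal : IsConj x x⁻¹) : orderOf x = 2 := by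
  classical
  have : Fact (Nat.Prime 2) := ⟨Nat.prime_two⟩
  have : Fintype {y : G // IsConj x y} := Fintype.ofFinite _
  have hodd := odd_index_centralizer x P hP
  rw [Nat.card_eq_fintype_card] at hodd
  have hinv : ∀ y : G, IsConj x y → IsConj x y⁻¹ := by
    intro y hy
    refine hreal.trans ?_
    obtain ⟨c, hc⟩ := isConj_iff.mp hy
    exact isConj_iff.mpr ⟨c, by rw [← hc]; group⟩
  let σ : Equiv.Perm {y : G // IsConj x y} :=
    { toFun := fun y => ⟨y.1⁻¹, hinv y.1 y.2⟩
      invFun := fun y => ⟨y.1⁻¹, hinv y.1 y.2⟩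
      left_inv := fun y => by simp
      right_inv := fun y => by simp }
  have hσ : σ ^ 2 ^ 1 = 1 := by
    ext y
    simp [σ, pow_two]
  obtain ⟨y, hy⟩ := Equiv.Perm.exists_fixed_point_of_prime hodd hσ
  have hy' : y.1⁻¹ = y.1 := congrArg Subtype.val hy
  obtain ⟨c, hc⟩ := isConj_iff.mp y.2
  have hxx : x⁻¹ = x := by
    have h1 : x = c⁻¹ * y.1 * c := by rw [← hc]; group
    have h2 : x⁻¹ = c⁻¹ * y.1⁻¹ * c := by rw [← hc]; group
    rw [h2, hy', ← h1]
  have hx2 : x ^ 2 = 1 := by
    rw [pow_two]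
    nth_rewrite 1 [← hxx]
    simp
  exact orderOf_eq_prime hx2 hx

end Cfsg.Agent.S4195
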