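import Cfsg.Statements.S4198
import Cfsg.Agent.Lib.Helper69.SymClasses

set_option autoImplicit false
open Cfsg

namespace Cfsg.Agent.S4198

open Cfsg.Agent.Lib.Helper69

/-- For n ≥ 5 the alternating group of degree n has strictly fewer conjugacy classes than the symmetric group of degree n, and the symmetric group of degree n (whose classes correspond to the partitions of n) has at most 2^(n−2) conjugacy classes. -/
theorem result (n : ℕ) (hn : 5 ≤ n) : Nat.card (ConjClasses (alternatingGroup (Fin n))) < Nat.card (ConjClasses (Equiv.Perm (Fin n))) ∧ Nat.card (ConjClasses (Equiv.Perm (Fin n))) ≤ 2 ^ (n - 2) := by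
  classical
  rw [card_conjClasses_perm]
  refine ⟨?_, card_cycTypes_le n hn⟩
  have h1 := card_conjClasses_alt_le n
  have h2 := card_DO_lt n hn
  have h3 := Finset.card_filter_add_card_filter_not (s := cycTypes n)
    (fun m => Even (m.sum + Multiset.card m))
  convert lt_of_le_of_lt h1 (by omega : _ < (cycTypes n).card) using 2

end Cfsg.Agent.S4198
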