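import Cfsg.Statements.S4200
import Mathlib

set_option autoImplicit false
open Cfsg

namespace Cfsg.Agent.S4200

section
variable {X : Type*} [Group X]

theorem stabilizer_mk_one (C Y : Subgroup X) :
    MulAction.stabilizer C ((1 : X) : X ⧸ Y) = Y.subgroupOf C := by
  ext c
  rw [MulAction.mem_stabilizer_iff, Subgroup.mem_subgroupOf]
  show ((c : X) • ((1 : X) : X ⧸ Y)) = _ ↔ _
  rw [MulAction.Quotient.smul_mk, QuotientGroup.eq]
  simp

theorem relIndex_eq_ncard_orbit (C Y : Subgroup X) :
    Y.relIndex C = (MulAction.orbit C ((1 : X) : X ⧸ Y)).ncard := by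
  rw [← MulAction.index_stabilizer, stabilizer_mk_one]
  rfl

theorem card_le_index_mul [Finite X] (C Y : Subgroup X) :
    Nat.card C ≤ Y.index * Nat.card (Y.subgroupOf C) := by
  rw [← Subgroup.index_mul_card (Y.subgroupOf C)]
  apply Nat.mul_le_mul_right
  show Y.relIndex C ≤ Y.index
  rw [relIndex_eq_ncard_orbit, Subgroup.index, ← Set.ncard_univ]
  exact Set.ncard_le_ncard (Set.subset_univ _) (Set.toFinite _)

theorem card_lt_index_mul [Finite X] (C Y : Subgroup X) (g : X)
    (hg : ∀ c ∈ C, ∀ y ∈ Y, g ≠ c * y) :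
    Nat.card C < Y.index * Nat.card (Y.subgroupOf C) := by
  rw [← Subgroup.index_mul_card (Y.subgroupOf C)]
  apply Nat.mul_lt_mul_of_pos_right _ Nat.card_pos
  show Y.relIndex C < Y.index
  rw [relIndex_eq_ncard_orbit, Subgroup.index, ← Set.ncard_univ]
  apply Set.ncard_lt_ncard _ (Set.toFinite _)
  rw [Set.ssubset_univ_iff]
  intro h
  have : ((g : X) : X ⧸ Y) ∈ MulAction.orbit C ((1 : X) : X ⧸ Y) := by rw [h]; trivial
  obtain ⟨c, hc⟩ := this
  have hc' : (((c : X) * 1 : X) : X ⧸ Y) = (g : X ⧸ Y) := hc
  rw [QuotientGroup.eq] at hc'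
  apply hg c c.2 _ hc'
  group

/-- elements commuting with `x` form the centralizer -/
theorem card_commute_eq (x : X) :
    Nat.card {b : X // Commute x b} = Nat.card (Subgroup.centralizer ({x} : Set X)) := by
  apply Nat.card_congr
  apply Equiv.subtypeEquivRight
  intro b
  rw [Subgroup.mem_centralizer_iff]
  simp only [Set.mem_singleton_iff, forall_eq]
  exact Iff.rfl

theorem card_commute_sub_eq (Y : Subgroup X) (x : X) :
    Nat.card {y : Y // Commute x (y : X)}
      = Nat.card (Y.subgroupOf (Subgroup.centralizer ({x} : Set X))) := by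
  have hiff : ∀ b : X, b ∈ Subgroup.centralizer ({x} : Set X) ↔ Commute x b := by
    intro b
    rw [Subgroup.mem_centralizer_iff]
    simp only [Set.mem_singleton_iff, forall_eq]
    exact Iff.rfl
  apply Nat.card_congr
  exact
    { toFun := fun y => ⟨⟨y.1.1, (hiff _).2 y.2⟩, y.1.2⟩
      invFun := fun c => ⟨⟨c.1.1, c.2⟩, (hiff _).1 c.1.2⟩
      left_inv := fun y => rfl
      right_inv := fun c => rfl }

end

/-- Let Y be a subgroup of the finite group X, of index m. Then the numbers of conjugacy classes satisfy k(Y) ≤ m·k(X) and k(X) ≤ m·k(Y), and the second inequality is strict unless Y is normal in X. -/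
theorem result {X : Type*} [Group X] [Finite X] (Y : Subgroup X) : Nat.card (ConjClasses Y) ≤ Y.index * Nat.card (ConjClasses X) ∧ Nat.card (ConjClasses X) ≤ Y.index * Nat.card (ConjClasses Y) ∧ (¬ Y.Normal → Nat.card (ConjClasses X) < Y.index * Nat.card (ConjClasses Y)) := by
  classical
  have : Fintype X := Fintype.ofFinite X
  have : Fintype Y := Fintype.ofFinite Y
  set m := Y.index with hm
  have hXY : Nat.card X = m * Nat.card Y := by rw [hm, mul_comm]; exact (Subgroup.card_mul_index Y).symm
  have hXpos : 0 < Nat.card X := Nat.card_pos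
  have hYpos : 0 < Nat.card Y := Nat.card_pos
  have hmpos : 0 < m := Nat.pos_of_ne_zero Y.index_ne_zero_of_finite
  -- class number times order = number of commuting pairs
  have hkX : Nat.card (ConjClasses X) * Nat.card X = ∑ x : X, Nat.card {b : X // Commute x b} := by
    rw [← card_comm_eq_card_conjClasses_mul_card,
      Nat.card_congr (Equiv.subtypeProdEquivSigmaSubtype (Commute : X → X → Prop)), Nat.card_sigma]
  have hkY : Nat.card (ConjClasses Y) * Nat.card Y = ∑ y : Y, Nat.card {b : Y // Commute y b} := by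
    rw [← card_comm_eq_card_conjClasses_mul_card,
      Nat.card_congr (Equiv.subtypeProdEquivSigmaSubtype (Commute : Y → Y → Prop)), Nat.card_sigma]
  -- mixed pairs
  have hM : ∑ x : X, Nat.card {y : Y // Commute x (y : X)}
      = ∑ y : Y, Nat.card {x : X // Commute (y : X) x} := by
    rw [← Nat.card_sigma, ← Nat.card_sigma]
    rw [← Nat.card_congr (Equiv.subtypeProdEquivSigmaSubtype (fun (x : X) (y : Y) => Commute x (y : X))),
      ← Nat.card_congr (Equiv.subtypeProdEquivSigmaSubtype (fun (y : Y) (x : X) => Commute (y : X) x))]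
    apply Nat.card_congr
    exact
      { toFun := fun p => ⟨(p.1.2, p.1.1), p.2.symm⟩
        invFun := fun p => ⟨(p.1.2, p.1.1), p.2.symm⟩
        left_inv := fun p => rfl
        right_inv := fun p => rfl }
  have hYY : ∀ y : Y, Nat.card {b : Y // Commute y b} = Nat.card {b : Y // Commute (y : X) (b : X)} := by
    intro y
    apply Nat.card_congr
    apply Equiv.subtypeEquivRight
    intro b
    constructor
    · intro h
      exact congrArg Subtype.val h
    · intro h
      exact Subtype.ext h
  -- first inequality: from Mathlib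
  have h1 : Nat.card (ConjClasses Y) ≤ m * Nat.card (ConjClasses X) := by
    have hcp := Subgroup.commProb_subgroup_le Y
    rw [commProb_def', commProb_def'] at hcp
    have hXq : (0 : ℚ) < Nat.card X := by exact_mod_cast hXpos
    have hYq : (0 : ℚ) < Nat.card Y := by exact_mod_cast hYpos
    rw [div_le_iff₀ hYq] at hcp
    have : (Nat.card (ConjClasses Y) : ℚ) ≤ (m : ℚ) * Nat.card (ConjClasses X) := by
      calc (Nat.card (ConjClasses Y) : ℚ) ≤ (Nat.card (ConjClasses X) : ℚ) / Nat.card X * (m : ℚ) ^ 2 * Nat.card Y := hcp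
        _ = (m : ℚ) * Nat.card (ConjClasses X) := by
          rw [hXY]
          push_cast
          field_simp
    exact_mod_cast this
  have key1 : Nat.card (ConjClasses X) * Nat.card X ≤ m * ∑ x : X, Nat.card {y : Y // Commute x (y : X)} := by
    rw [hkX, Finset.mul_sum]
    apply Finset.sum_le_sum
    intro x _
    rw [card_commute_eq, card_commute_sub_eq]
    exact card_le_index_mul _ _
  have key2le : ∀ y : Y, Nat.card {x : X // Commute (y : X) x} ≤ m * Nat.card {b : Y // Commute y b} := by
    intro y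
    rw [hYY, card_commute_eq, card_commute_sub_eq]
    exact card_le_index_mul _ _
  have key2 : ∑ y : Y, Nat.card {x : X // Commute (y : X) x} ≤ m * (Nat.card (ConjClasses Y) * Nat.card Y) := by
    rw [hkY, Finset.mul_sum]
    exact Finset.sum_le_sum fun y _ => key2le y
  have cancel : ∀ a b : ℕ, a * Nat.card X ≤ m * (m * (b * Nat.card Y)) → a ≤ m * b := by
    intro a b h
    have : a * Nat.card X ≤ (m * b) * Nat.card X := by
      rw [hXY]
      calc a * (m * Nat.card Y) = a * Nat.card X := by rw [hXY]
        _ ≤ m * (m * (b * Nat.card Y)) := h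
        _ = m * b * (m * Nat.card Y) := by ring
    exact Nat.le_of_mul_le_mul_right this hXpos
  have cancel' : ∀ a b : ℕ, a * Nat.card X < m * (m * (b * Nat.card Y)) → a < m * b := by
    intro a b h
    have : a * Nat.card X < (m * b) * Nat.card X := by
      rw [hXY]
      calc a * (m * Nat.card Y) = a * Nat.card X := by rw [hXY]
        _ < m * (m * (b * Nat.card Y)) := h
        _ = m * b * (m * Nat.card Y) := by ring
    exact Nat.lt_of_mul_lt_mul_right this
  refine ⟨h1, ?_, ?_⟩
  · apply cancel
    calc Nat.card (ConjClasses X) * Nat.card X ≤ m * ∑ x : X, Nat.card {y : Y // Commute x (y : X)} := key1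
      _ = m * ∑ y : Y, Nat.card {x : X // Commute (y : X) x} := by rw [hM]
      _ ≤ m * (m * (Nat.card (ConjClasses Y) * Nat.card Y)) := Nat.mul_le_mul_left _ key2
  · intro hnorm
    -- find y ∈ Y and g with g y g⁻¹ ∉ Y
    have : ∃ y ∈ Y, ∃ g : X, g * y * g⁻¹ ∉ Y := by
      by_contra hcon
      push Not at hcon
      exact hnorm ⟨fun y hy g => hcon y hy g⟩
    obtain ⟨y₀, hy₀, g, hg⟩ := this
    have key2lt : Nat.card {x : X // Commute ((⟨y₀, hy₀⟩ : Y) : X) x}
        < m * Nat.card {b : Y // Commute (⟨y₀, hy₀⟩ : Y) b} := by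
      rw [hYY, card_commute_eq, card_commute_sub_eq]
      apply card_lt_index_mul _ _ g⁻¹
      intro c hc y hy hgcy
      apply hg
      rw [Subgroup.mem_centralizer_iff] at hc
      have hc' := hc y₀ rfl
      have hg' : g = y⁻¹ * c⁻¹ := by
        rw [← inv_inv g, hgcy]; group
      have : g * y₀ * g⁻¹ = y⁻¹ * y₀ * y := by
        rw [hg']
        have : y⁻¹ * c⁻¹ * y₀ * (y⁻¹ * c⁻¹)⁻¹ = y⁻¹ * (c⁻¹ * (y₀ * c)) * y := by group
        rw [this, hc']; group
      rw [this]
      exact Y.mul_mem (Y.mul_mem (Y.inv_mem hy) hy₀) hy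
    have key2' : ∑ y : Y, Nat.card {x : X // Commute (y : X) x} < m * (Nat.card (ConjClasses Y) * Nat.card Y) := by
      rw [hkY, Finset.mul_sum]
      exact Finset.sum_lt_sum (fun y _ => key2le y) ⟨⟨y₀, hy₀⟩, Finset.mem_univ _, key2lt⟩
    apply cancel'
    calc Nat.card (ConjClasses X) * Nat.card X ≤ m * ∑ x : X, Nat.card {y : Y // Commute x (y : X)} := key1
      _ = m * ∑ y : Y, Nat.card {x : X // Commute (y : X) x} := by rw [hM]
      _ < m * (m * (Nat.card (ConjClasses Y) * Nat.card Y)) := Nat.mul_lt_mul_of_pos_left key2' hmpos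

end Cfsg.Agent.S4200
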