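import Cfsg.Statements.S4201
import Mathlib

set_option autoImplicit false
open Cfsg

namespace Cfsg.Agent.S4201

open scoped Classical in
theorem fiber_bound {X : Type*} [Group X] [Fintype X] (N : Subgroup X) [N.Normal] (s t : X ⧸ N) :
    (Finset.univ.filter (fun p : X × X =>
      Commute p.1 p.2 ∧ ((p.1 : X ⧸ N), (p.2 : X ⧸ N)) = (s, t))).card
      ≤ (Finset.univ.filter (fun p : X × X => p.1 ∈ N ∧ p.2 ∈ N ∧ Commute p.1 p.2)).card := by
  classical
  -- choice functions
  let y0 : X → X := fun x => if h : ∃ y : X, (y : X ⧸ N) = t ∧ Commute x y then h.choose else 1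
  let x0 : X → X := fun n => if h : ∃ x : X, (x : X ⧸ N) = s ∧ Commute x n then h.choose else 1
  have hy0 : ∀ x y : X, (y : X ⧸ N) = t → Commute x y → ((y0 x : X) : X ⧸ N) = t ∧ Commute x (y0 x) := by
    intro x y h1 h2
    have h : ∃ y : X, (y : X ⧸ N) = t ∧ Commute x y := ⟨y, h1, h2⟩
    simp only [y0, dif_pos h]
    exact h.choose_spec
  have hx0 : ∀ x n : X, (x : X ⧸ N) = s → Commute x n → ((x0 n : X) : X ⧸ N) = s ∧ Commute (x0 n) n := by
    intro x n h1 h2
    have h : ∃ x : X, (x : X ⧸ N) = s ∧ Commute x n := ⟨x, h1, h2⟩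
    simp only [x0, dif_pos h]
    exact h.choose_spec
  apply Finset.card_le_card_of_injOn (fun p => ((x0 ((y0 p.1)⁻¹ * p.2))⁻¹ * p.1, (y0 p.1)⁻¹ * p.2))
  · rintro ⟨x, y⟩ hxy
    simp only [Finset.coe_filter, Finset.mem_univ, true_and, Set.mem_ofPred_eq, Prod.mk.injEq] at hxy ⊢
    obtain ⟨hc, hs, ht⟩ := hxy
    obtain ⟨h1, h2⟩ := hy0 x y ht hc
    have hn : (y0 x)⁻¹ * y ∈ N := by
      rw [← QuotientGroup.eq, h1, ht]
    have hcn : Commute x ((y0 x)⁻¹ * y) := (h2.inv_right).mul_right hc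
    obtain ⟨h3, h4⟩ := hx0 x _ hs hcn
    refine ⟨?_, hn, ?_⟩
    · rw [← QuotientGroup.eq, h3, hs]
    · exact (h4.inv_left).mul_left hcn
  · rintro ⟨x, y⟩ hxy ⟨x', y'⟩ hxy' heq
    simp only [Prod.mk.injEq] at heq
    obtain ⟨e1, e2⟩ := heq
    rw [e2] at e1
    have hx : x = x' := mul_left_cancel e1
    subst hx
    have hy : y = y' := mul_left_cancel e2
    rw [hy]

open scoped Classical in
theorem card_N_pairs {X : Type*} [Group X] [Fintype X] (N : Subgroup X) :
    (Finset.univ.filter (fun p : X × X => p.1 ∈ N ∧ p.2 ∈ N ∧ Commute p.1 p.2)).card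
      ≤ Nat.card {p : N × N // Commute p.1 p.2} := by
  classical
  rw [← Fintype.card_coe, ← Nat.card_eq_fintype_card]
  apply Nat.card_le_card_of_injective
    (fun p : {p : X × X // p ∈ Finset.univ.filter (fun p : X × X => p.1 ∈ N ∧ p.2 ∈ N ∧ Commute p.1 p.2)} =>
      (⟨(⟨p.1.1, (Finset.mem_filter.mp p.2).2.1⟩, ⟨p.1.2, (Finset.mem_filter.mp p.2).2.2.1⟩), by
        have := (Finset.mem_filter.mp p.2).2.2.2
        rw [commute_iff_eq] at this ⊢
        exact Subtype.ext this⟩ : {p : N × N // Commute p.1 p.2}))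
  rintro ⟨⟨x, y⟩, h⟩ ⟨⟨x', y'⟩, h'⟩ heq
  simp only [Subtype.mk.injEq, Prod.mk.injEq] at heq
  apply Subtype.ext
  simp only [Prod.mk.injEq]
  exact heq

theorem comm_bound {X : Type*} [Group X] [Finite X] (N : Subgroup X) [N.Normal] :
    Nat.card {p : X × X // Commute p.1 p.2} ≤
      Nat.card {p : N × N // Commute p.1 p.2} * Nat.card {p : (X ⧸ N) × (X ⧸ N) // Commute p.1 p.2} := by
  classical
  have : Fintype X := Fintype.ofFinite X
  have h1 : Nat.card {p : X × X // Commute p.1 p.2} =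
      (Finset.univ.filter (fun p : X × X => Commute p.1 p.2)).card := by
    rw [Nat.card_eq_fintype_card, Fintype.card_subtype]
  have h2 : Nat.card {p : (X ⧸ N) × (X ⧸ N) // Commute p.1 p.2} =
      (Finset.univ.filter (fun p : (X ⧸ N) × (X ⧸ N) => Commute p.1 p.2)).card := by
    rw [Nat.card_eq_fintype_card, Fintype.card_subtype]
  rw [h1, h2]
  apply Finset.card_le_mul_card_image_of_maps_to
    (f := fun p : X × X => (((p.1 : X ⧸ N)), ((p.2 : X ⧸ N))))
  · rintro ⟨x, y⟩ hxy
    simp only [Finset.mem_filter, Finset.mem_univ, true_and] at hxy ⊢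
    rw [commute_iff_eq] at hxy ⊢
    rw [← QuotientGroup.mk_mul, ← QuotientGroup.mk_mul, hxy]
  · rintro ⟨s, t⟩ _
    rw [Finset.filter_filter]
    exact le_trans (fiber_bound N s t) (card_N_pairs N)

/-- If N is a normal subgroup of the finite group X then k(X) ≤ k(N)·k(X ⧸ N), where k denotes the number of conjugacy classes. -/
theorem result {X : Type*} [Group X] [Finite X] (N : Subgroup X) [N.Normal] : Nat.card (ConjClasses X) ≤ Nat.card (ConjClasses N) * Nat.card (ConjClasses (X ⧸ N)) := by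
  have h := comm_bound N
  rw [card_comm_eq_card_conjClasses_mul_card, card_comm_eq_card_conjClasses_mul_card,
    card_comm_eq_card_conjClasses_mul_card] at h
  have hcard : Nat.card X = Nat.card (X ⧸ N) * Nat.card N := Subgroup.card_eq_card_quotient_mul_card_subgroup N
  have hpos : 0 < Nat.card X := Nat.card_pos
  have : Nat.card (ConjClasses X) * Nat.card X ≤
      (Nat.card (ConjClasses N) * Nat.card (ConjClasses (X ⧸ N))) * Nat.card X := by
    calc Nat.card (ConjClasses X) * Nat.card X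
        ≤ Nat.card (ConjClasses ↥N) * Nat.card ↥N * (Nat.card (ConjClasses (X ⧸ N)) * Nat.card (X ⧸ N)) := h
      _ = (Nat.card (ConjClasses N) * Nat.card (ConjClasses (X ⧸ N))) * Nat.card X := by
          rw [hcard]; ring
  exact Nat.le_of_mul_le_mul_right this hpos

end Cfsg.Agent.S4201
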