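import Cfsg.Statements.S4203
import Cfsg.Agent.Lib.Helper70.PermFour

set_option autoImplicit false
open Cfsg

namespace Cfsg.Agent.S4203

open Cfsg.Agent.Lib.Helper70

universe u

theorem relIndex_ne_zero' {L : Type*} [Group L] [Finite L] (A B : Subgroup L) : A.relIndex B ≠ 0 := by
  unfold Subgroup.relIndex
  exact Subgroup.index_ne_zero_of_finite

theorem relIndex_sup_eq {L : Type*} [Group L] [Finite L] (H K : Subgroup L) [H.Normal] :
    K.relIndex (K ⊔ H) = K.relIndex H := by
  have h2 : (H ⊓ K).relIndex K * K.relIndex (K ⊔ H) = (H ⊓ K).relIndex (K ⊔ H) :=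
    Subgroup.relIndex_mul_relIndex _ _ _ inf_le_right le_sup_left
  have h3 : (H ⊓ K).relIndex H * H.relIndex (K ⊔ H) = (H ⊓ K).relIndex (K ⊔ H) :=
    Subgroup.relIndex_mul_relIndex _ _ _ inf_le_left le_sup_right
  have h4 : H.relIndex (K ⊔ H) = H.relIndex K := Subgroup.relIndex_sup_right K H
  have h5 : (H ⊓ K).relIndex K = H.relIndex K := Subgroup.inf_relIndex_right H K
  have h6 : (H ⊓ K).relIndex H = K.relIndex H := Subgroup.inf_relIndex_left H K
  rw [h4, h6] at h3
  rw [h5, ← h3, mul_comm] at h2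
  exact Nat.eq_of_mul_eq_mul_right (Nat.pos_of_ne_zero (relIndex_ne_zero' H K)) h2

theorem sylow_index_modEq {L : Type*} [Group L] [Finite L] {p : ℕ} [Fact p.Prime] (P : Sylow p L)
    (M : Subgroup L) (h : Subgroup.normalizer ((P : Subgroup L) : Set L) ≤ M) : M.index ≡ 1 [MOD p] := by
  have hPM : (P : Subgroup L) ≤ M := le_trans Subgroup.le_normalizer h
  have e1 : Nat.card (Sylow p L) = (Subgroup.normalizer ((P : Subgroup L) : Set L)).index :=
    P.card_eq_index_normalizer
  have e2 : Nat.card (Sylow p M) = (Subgroup.normalizer ((P : Subgroup L) : Set L)).relIndex M := by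
    rw [(P.subtype hPM).card_eq_index_normalizer]
    change (Subgroup.normalizer (((P : Subgroup L).subgroupOf M : Subgroup M) : Set M)).index = _
    rw [← Subgroup.subgroupOf_normalizer_eq hPM]
    rfl
  have e3 := Subgroup.relIndex_mul_index h
  have m1 : Nat.card (Sylow p L) ≡ 1 [MOD p] := card_sylow_modEq_one p L
  have m2 : Nat.card (Sylow p M) ≡ 1 [MOD p] := card_sylow_modEq_one p M
  rw [e1, ← e3] at m1
  rw [e2] at m2
  have := Nat.ModEq.mul_right M.index m2
  rw [one_mul] at this
  exact this.symm.trans m1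

theorem arith (p q idx : ℕ) (hp : p.Prime) (hq : q.Prime) (hqp : q ≤ p) (hidx : idx = q ∨ idx = q ^ 2)
    (hmod : idx ≡ 1 [MOD p]) : idx = 4 := by
  have hp2 := hp.two_le
  have hq2 := hq.two_le
  have hqltp : q < p := by
    rcases Nat.lt_or_ge q p with h | h
    · exact h
    · exfalso
      have hqp' : q = p := le_antisymm hqp h
      subst hqp'
      have : idx ≡ 0 [MOD q] := by
        rcases hidx with h | h
        · rw [h]; exact (Nat.modEq_zero_iff_dvd).mpr dvd_rfl
        · rw [h]; exact (Nat.modEq_zero_iff_dvd).mpr (dvd_pow_self q (by norm_num))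
      have h01 : 0 ≡ 1 [MOD q] := this.symm.trans hmod
      have := (Nat.modEq_zero_iff_dvd).mp h01.symm
      have := Nat.le_of_dvd (by norm_num) this
      omega
  rcases hidx with h | h
  · exfalso
    rw [h] at hmod
    have := Nat.ModEq.eq_of_lt_of_lt hmod hqltp (by omega)
    omega
  · rw [h] at hmod
    have h1 : 1 ≤ q ^ 2 := Nat.one_le_pow _ _ (by omega)
    have hd : p ∣ q ^ 2 - 1 := (Nat.modEq_iff_dvd' h1).mp hmod.symm
    have hfac : q ^ 2 - 1 = (q - 1) * (q + 1) := by
      obtain ⟨k, rfl⟩ : ∃ k, q = k + 1 := ⟨q - 1, by omega⟩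
      simp only [Nat.add_sub_cancel]
      ring_nf
      omega
    rw [hfac] at hd
    rcases (Nat.Prime.dvd_mul hp).mp hd with h' | h'
    · exfalso
      have := Nat.le_of_dvd (by omega) h'
      omega
    · have hle := Nat.le_of_dvd (by omega) h'
      have hpq : p = q + 1 := by omega
      have hq2' : q = 2 := by
        rcases Nat.Prime.eq_two_or_odd hq with h2 | hodd
        · exact h2
        · exfalso
          have heven : 2 ∣ p := by omega
          have := (Nat.prime_dvd_prime_iff_eq Nat.prime_two hp).mp heven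
          omega
      rw [h, hq2']; norm_num

theorem main (n : ℕ) : ∀ (G : Type u) [Group G] [Finite G], Nat.card G = n →
    (∀ M : Subgroup G, IsCoatom M → ∃ p : ℕ, p.Prime ∧ (M.index = p ∨ M.index = p ^ 2)) →
    Group.IsSolvable G := by
  induction n using Nat.strong_induction_on with
  | _ n ih =>
  intro G _ _ hcard h
  -- quotients
  have hquot : ∀ (N : Subgroup G) [N.Normal], N ≠ ⊥ → Group.IsSolvable (G ⧸ N) := by
    intro N hN hNbot
    have hlt : Nat.card (G ⧸ N) < n := by
      rw [← hcard, Subgroup.card_eq_card_quotient_mul_card_subgroup N]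
      have h1 : 1 < Nat.card N := by
        rw [Finite.one_lt_card_iff_nontrivial, Subgroup.nontrivial_iff_ne_bot]
        exact hNbot
      have h2 : 0 < Nat.card (G ⧸ N) := Nat.card_pos
      nlinarith
    apply ih _ hlt (G ⧸ N) rfl
    intro M hM
    have hM' := Subgroup.isCoatom_comap_of_surjective (QuotientGroup.mk'_surjective N) hM
    obtain ⟨p, hp, hidx⟩ := h _ hM'
    rw [Subgroup.index_comap_of_surjective _ (QuotientGroup.mk'_surjective N)] at hidx
    exact ⟨p, hp, hidx⟩
  by_cases htriv : Subsingleton G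
  · infer_instance
  rw [not_subsingleton_iff_nontrivial] at htriv
  by_cases h2 : ∃ N₁ N₂ : Subgroup G, N₁.Normal ∧ N₂.Normal ∧ N₁ ≠ ⊥ ∧ N₂ ≠ ⊥ ∧ N₁ ⊓ N₂ = ⊥
  · obtain ⟨N₁, N₂, hn1, hn2, hb1, hb2, hinf⟩ := h2
    have s1 := hquot N₁ hb1
    have s2 := hquot N₂ hb2
    refine Group.isSolvable_of_isSolvable_injective
      (f := (QuotientGroup.mk' N₁).prod (QuotientGroup.mk' N₂)) ?_
    rw [← MonoidHom.ker_eq_bot_iff, MonoidHom.ker_prod, QuotientGroup.ker_mk', QuotientGroup.ker_mk', hinf]
  push Not at h2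
  -- minimal normal subgroup
  let S : Set (Subgroup G) := {N | N.Normal ∧ N ≠ ⊥}
  have hSne : S.Nonempty := ⟨⊤, inferInstance, top_ne_bot⟩
  obtain ⟨N, ⟨hNn, hNbot⟩, hNmin⟩ := wellFounded_lt.has_min S hSne
  have hNle : ∀ N' : Subgroup G, N'.Normal → N' ≠ ⊥ → N ≤ N' := by
    intro N' hN'n hN'bot
    have hne : N ⊓ N' ≠ ⊥ := h2 N N' hNn hN'n hNbot hN'bot
    have hnorm : (N ⊓ N').Normal := Subgroup.normal_inf_normal N N'
    have := hNmin (N ⊓ N') ⟨hnorm, hne⟩
    have heq : N ⊓ N' = N := by
      by_contra hcon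
      exact this (lt_of_le_of_ne inf_le_left hcon)
    exact inf_eq_left.mp heq
  have sQ := hquot N hNbot
  by_cases hNsolv : Group.IsSolvable N
  · exact (Group.isSolvable_iff_subgroup_quotient N).mpr ⟨hNsolv, sQ⟩
  exfalso
  -- largest prime divisor of |N|
  have hNcard : 1 < Nat.card N := by
    rw [Finite.one_lt_card_iff_nontrivial, Subgroup.nontrivial_iff_ne_bot]
    exact hNbot
  have hpf : (Nat.card N).primeFactors.Nonempty := by
    rw [Nat.nonempty_primeFactors]; exact hNcard
  set p := (Nat.card N).primeFactors.max' hpf with hpdef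
  have hpmem : p ∈ (Nat.card N).primeFactors := Finset.max'_mem _ _
  have hpprime : p.Prime := Nat.prime_of_mem_primeFactors hpmem
  have hpdvd : p ∣ Nat.card N := Nat.dvd_of_mem_primeFactors hpmem
  have hpmax : ∀ q : ℕ, q.Prime → q ∣ Nat.card N → q ≤ p := by
    intro q hq hqd
    apply Finset.le_max'
    rw [Nat.mem_primeFactors]
    exact ⟨hq, hqd, by omega⟩
  have : Fact p.Prime := ⟨hpprime⟩
  obtain ⟨P⟩ : Nonempty (Sylow p N) := inferInstance
  set Q : Subgroup G := (P : Subgroup N).map N.subtype with hQ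
  have hPbot : (P : Subgroup N) ≠ ⊥ := P.ne_bot_of_dvd_card hpdvd
  have hQbot : Q ≠ ⊥ := by
    rw [hQ, Ne, Subgroup.map_eq_bot_iff_of_injective _ N.subtype_injective]
    exact hPbot
  have hQN : Q ≤ N := by
    rw [hQ]; exact Subgroup.map_subtype_le _
  -- normalizer of Q is proper
  have hA : Subgroup.normalizer (Q : Set G) ≠ ⊤ := by
    intro htop
    have hQn : Q.Normal := Subgroup.normalizer_eq_top_iff.mp htop
    have hNQ : N ≤ Q := hNle Q hQn hQbot
    apply hNsolv
    have hpg : IsPGroup p N := by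
      intro x
      have hx : (x : G) ∈ Q := hNQ x.2
      rw [hQ] at hx
      obtain ⟨y, hy, hyx⟩ := hx
      have hyx' : y = x := Subtype.ext hyx
      obtain ⟨k, hk⟩ := P.isPGroup' ⟨y, hy⟩
      refine ⟨k, ?_⟩
      rw [← hyx']
      have := congrArg Subtype.val hk
      simpa using this
    have : Group.IsNilpotent N := hpg.isNilpotent
    infer_instance
  obtain ⟨M, hMco, hQM⟩ := (eq_top_or_exists_le_coatom (Subgroup.normalizer (Q : Set G))).resolve_left hA
  have hfrat : Subgroup.normalizer (Q : Set G) ⊔ N = ⊤ := Sylow.normalizer_sup_eq_top P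
  have hMN : M ⊔ N = ⊤ := by
    rw [eq_top_iff, ← hfrat]
    exact sup_le_sup_right hQM N
  have hNM : ¬ N ≤ M := by
    intro hle
    rw [sup_eq_left.mpr hle] at hMN
    exact hMco.1 hMN
  -- index
  have hidx1 : M.index = M.relIndex N := by
    rw [← relIndex_sup_eq N M, hMN, Subgroup.relIndex_top_right]
  have hidx2 : M.relIndex N ≡ 1 [MOD p] := by
    apply sylow_index_modEq P (M.subgroupOf N)
    intro x hx
    rw [Subgroup.mem_subgroupOf]
    apply hQM
    have := Subgroup.le_normalizer_map (H := (P : Subgroup N)) N.subtype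
    apply this
    exact ⟨x, hx, rfl⟩
  obtain ⟨q, hq, hidxq⟩ := h M hMco
  have hqd : q ∣ Nat.card N := by
    have h1 : M.relIndex N ∣ Nat.card N := Subgroup.relIndex_dvd_card M N
    rw [← hidx1] at h1
    rcases hidxq with h' | h'
    · rw [h'] at h1; exact h1
    · rw [h'] at h1; exact dvd_trans (dvd_pow_self q (by norm_num)) h1
  have h4 : M.index = 4 := by
    apply arith p q M.index hpprime hq (hpmax q hq hqd) hidxq
    rw [hidx1]; exact hidx2
  -- core of M is trivial
  have hcore : M.normalCore = ⊥ := by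
    by_contra hne
    have := hNle M.normalCore (Subgroup.normalCore_normal M) hne
    exact hNM (le_trans this (Subgroup.normalCore_le M))
  have hsolvG : Group.IsSolvable G := solvable_of_index_four_core_free M h4 hcore
  apply hNsolv
  infer_instance

/-- A finite group in which every maximal subgroup has index a prime or the square of a prime is solvable. -/
theorem result {G : Type*} [Group G] [Finite G] (h : ∀ M : Subgroup G, IsCoatom M → ∃ p : ℕ, p.Prime ∧ (M.index = p ∨ M.index = p ^ 2)) : Group.IsSolvable G :=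
  main (Nat.card G) G rfl h

end Cfsg.Agent.S4203
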