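import Cfsg.Statements.S4204

set_option autoImplicit false
open Cfsg

namespace Cfsg.Agent.S4204

theorem comm_le_iff {G : Type*} [Group G] (C : Subgroup G) [C.Normal] (A B : Subgroup G) :
    ⁅A, B⁆ ≤ C ↔ A ≤ (Subgroup.centralizer ((B.map (QuotientGroup.mk' C) : Subgroup (G ⧸ C)) : Set (G ⧸ C))).comap
      (QuotientGroup.mk' C) := by
  rw [← Subgroup.map_le_iff_le_comap, ← Subgroup.commutator_eq_bot_iff_le_centralizer,
    ← Subgroup.map_commutator, Subgroup.map_eq_bot_iff, QuotientGroup.ker_mk']

theorem comm_iSup_le {G : Type*} [Group G] (C : Subgroup G) [C.Normal] {ι : Sort*} (A : ι → Subgroup G)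
    (B : Subgroup G) (h : ∀ k, ⁅A k, B⁆ ≤ C) : ⁅⨆ k, A k, B⁆ ≤ C := by
  rw [comm_le_iff]
  apply iSup_le
  intro k
  rw [← comm_le_iff]
  exact h k

theorem comm_sup_right_le {G : Type*} [Group G] (C : Subgroup G) [C.Normal] (A B₁ B₂ : Subgroup G)
    (h1 : ⁅A, B₁⁆ ≤ C) (h2 : ⁅A, B₂⁆ ≤ C) : ⁅A, B₁ ⊔ B₂⁆ ≤ C := by
  rw [Subgroup.commutator_comm, comm_le_iff]
  apply sup_le
  · rw [← comm_le_iff, Subgroup.commutator_comm]; exact h1
  · rw [← comm_le_iff, Subgroup.commutator_comm]; exact h2

/-- shifted lower central series, with term `0` the whole group -/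
def Gam {G : Type*} [Group G] (S : Subgroup G) : ℕ → Subgroup G
  | 0 => ⊤
  | (i + 1) => S.lowerCentralSeries i

instance Gam_normal {G : Type*} [Group G] (S : Subgroup G) [S.Normal] (i : ℕ) : (Gam S i).Normal := by
  cases i with
  | zero => exact (inferInstance : (⊤ : Subgroup G).Normal)
  | succ i => exact (inferInstance : (S.lowerCentralSeries i).Normal)

theorem Gam_comm {G : Type*} [Group G] (S : Subgroup G) [S.Normal] (i : ℕ) : ⁅Gam S i, S⁆ ≤ Gam S (i + 1) := by
  cases i with
  | zero => exact Subgroup.commutator_le_right _ _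
  | succ i => exact le_rfl

/-- the join of the mixed terms of weight `n + 1` -/
def D {G : Type*} [Group G] (H K : Subgroup G) (n : ℕ) : Subgroup G :=
  ⨆ (i : ℕ) (j : ℕ) (_ : i + j = n + 1), Gam H i ⊓ Gam K j

instance D_normal {G : Type*} [Group G] (H K : Subgroup G) [H.Normal] [K.Normal] (n : ℕ) : (D H K n).Normal := by
  unfold D
  infer_instance

theorem lcs_le_D {G : Type*} [Group G] (H K : Subgroup G) [H.Normal] [K.Normal] (n : ℕ) :
    (H ⊔ K).lowerCentralSeries n ≤ D H K n := by
  induction n with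
  | zero =>
    rw [Subgroup.lowerCentralSeries_zero]
    apply sup_le
    · have : Gam H 1 ⊓ Gam K 0 ≤ D H K 0 := by
        unfold D
        exact le_iSup_of_le 1 (le_iSup_of_le 0 (le_iSup_of_le (by norm_num) le_rfl))
      refine le_trans ?_ this
      simp [Gam]
    · have : Gam H 0 ⊓ Gam K 1 ≤ D H K 0 := by
        unfold D
        exact le_iSup_of_le 0 (le_iSup_of_le 1 (le_iSup_of_le (by norm_num) le_rfl))
      refine le_trans ?_ this
      simp [Gam]
  | succ n ih =>
    rw [Subgroup.lowerCentralSeries_succ]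
    refine le_trans (Subgroup.commutator_mono ih le_rfl) ?_
    unfold D
    apply comm_iSup_le
    intro i
    apply comm_iSup_le
    intro j
    apply comm_iSup_le
    intro hij
    apply comm_sup_right_le
    · have h1 : ⁅Gam H i ⊓ Gam K j, H⁆ ≤ Gam H (i + 1) ⊓ Gam K j := by
        apply le_inf
        · exact le_trans (Subgroup.commutator_mono inf_le_left le_rfl) (Gam_comm H i)
        · exact le_trans (Subgroup.commutator_mono inf_le_right le_rfl) (Subgroup.commutator_le_left _ _)
      refine le_trans h1 ?_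
      exact le_iSup_of_le (i + 1) (le_iSup_of_le j (le_iSup_of_le (by omega) le_rfl))
    · have h1 : ⁅Gam H i ⊓ Gam K j, K⁆ ≤ Gam H i ⊓ Gam K (j + 1) := by
        apply le_inf
        · exact le_trans (Subgroup.commutator_mono inf_le_left le_rfl) (Subgroup.commutator_le_left _ _)
        · exact le_trans (Subgroup.commutator_mono inf_le_right le_rfl) (Gam_comm K j)
      refine le_trans h1 ?_
      exact le_iSup_of_le i (le_iSup_of_le (j + 1) (le_iSup_of_le (by omega) le_rfl))

theorem Gam_eq_bot {G : Type*} [Group G] (S : Subgroup G) (c i : ℕ) (h : S.lowerCentralSeries c = ⊥)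
    (hi : c + 1 ≤ i) : Gam S i = ⊥ := by
  obtain ⟨k, rfl⟩ : ∃ k, i = k + 1 := ⟨i - 1, by omega⟩
  show S.lowerCentralSeries k = ⊥
  rw [eq_bot_iff, ← h]
  exact Subgroup.lowerCentralSeries_antitone S (by omega)

/-- If `H` and `K` are normal subgroups of a finite group with `H` nilpotent of class at most `c` and `K` nilpotent of class at most `d` (the terms with index `c`, respectively `d`, of their lower central series are trivial, indices starting at `0`), then `HK` is nilpotent of class at most `c + d`. -/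
theorem result {G : Type*} [Group G] [Finite G] (H K : Subgroup G) [H.Normal] [K.Normal] (c d : ℕ) (hH : H.lowerCentralSeries c = ⊥) (hK : K.lowerCentralSeries d = ⊥) : (H ⊔ K).lowerCentralSeries (c + d) = ⊥ := by
  rw [eq_bot_iff]
  refine le_trans (lcs_le_D H K (c + d)) ?_
  unfold D
  apply iSup_le; intro i
  apply iSup_le; intro j
  apply iSup_le; intro hij
  by_cases hi : c + 1 ≤ i
  · rw [Gam_eq_bot H c i hH hi]; exact inf_le_left
  · have hj : d + 1 ≤ j := by omega
    rw [Gam_eq_bot K d j hK hj]; exact inf_le_right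

end Cfsg.Agent.S4204
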