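import Cfsg.Statements.S4208
import Cfsg.Agent.S4207

set_option autoImplicit false
open Cfsg

namespace Cfsg.Agent.S4208

open Module

/-! ### maximal subgroups of a finite `p`-group -/

theorem coatom_normal {P : Type*} [Group P] [Finite P] {p : ℕ} [Fact p.Prime] (hP : IsPGroup p P)
    (M : Subgroup P) (hM : IsCoatom M) : M.Normal := by
  have hnil : Group.IsNilpotent P := hP.isNilpotent
  exact Subgroup.NormalizerCondition.normal_of_coatom M Group.normalizerCondition_of_isNilpotent hM

theorem coatom_card_quotient {P : Type*} [Group P] [Finite P] {p : ℕ} [hp : Fact p.Prime]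
    (hP : IsPGroup p P) (M : Subgroup P) [M.Normal] (hM : IsCoatom M) : Nat.card (P ⧸ M) = p := by
  have hQ : IsPGroup p (P ⧸ M) := hP.to_quotient M
  have hnt : Nontrivial (P ⧸ M) := by
    rw [← not_subsingleton_iff_nontrivial]
    intro hs
    apply hM.1
    rw [eq_top_iff]
    intro g _
    have : (QuotientGroup.mk' M g) = 1 := Subsingleton.elim _ _
    exact (QuotientGroup.eq_one_iff g).mp this
  obtain ⟨n, hn0, hn⟩ := hQ.nontrivial_iff_card.mp hnt
  have hdvd : p ∣ Nat.card (P ⧸ M) := by rw [hn]; exact dvd_pow_self p hn0.ne'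
  obtain ⟨x, hx⟩ := exists_prime_orderOf_dvd_card' (G := P ⧸ M) p hdvd
  have hx1 : x ≠ 1 := by
    intro h; rw [h, orderOf_one] at hx; exact hp.out.one_lt.ne hx
  obtain ⟨g, rfl⟩ := QuotientGroup.mk'_surjective M x
  have hle : M ≤ (Subgroup.zpowers (QuotientGroup.mk' M g)).comap (QuotientGroup.mk' M) := by
    intro m hm
    rw [Subgroup.mem_comap]
    have : QuotientGroup.mk' M m = 1 := (QuotientGroup.eq_one_iff m).mpr hm
    rw [this]; exact Subgroup.one_mem _
  have hg : g ∈ (Subgroup.zpowers (QuotientGroup.mk' M g)).comap (QuotientGroup.mk' M) :=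
    Subgroup.mem_zpowers _
  have hgM : g ∉ M := fun h => hx1 ((QuotientGroup.eq_one_iff g).mpr h)
  have hlt : M < (Subgroup.zpowers (QuotientGroup.mk' M g)).comap (QuotientGroup.mk' M) :=
    lt_of_le_of_ne hle (fun h => hgM (h ▸ hg))
  have htop := hM.2 _ hlt
  have hz : Subgroup.zpowers (QuotientGroup.mk' M g) = ⊤ := by
    rw [eq_top_iff]
    intro q _
    obtain ⟨a, rfl⟩ := QuotientGroup.mk'_surjective M q
    have : a ∈ (Subgroup.zpowers (QuotientGroup.mk' M g)).comap (QuotientGroup.mk' M) := by
      rw [htop]; trivial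
    exact this
  rw [← hx, ← Nat.card_zpowers, hz, Subgroup.card_top]

theorem pow_mem_coatom {P : Type*} [Group P] [Finite P] {p : ℕ} [hp : Fact p.Prime]
    (hP : IsPGroup p P) (M : Subgroup P) (hM : IsCoatom M) (x : P) : x ^ p ∈ M := by
  have := coatom_normal hP M hM
  have hc := coatom_card_quotient hP M hM
  rw [← QuotientGroup.eq_one_iff, QuotientGroup.mk_pow, ← hc]
  exact pow_card_eq_one'

theorem commutator_le_coatom {P : Type*} [Group P] [Finite P] {p : ℕ} [hp : Fact p.Prime]
    (hP : IsPGroup p P) (M : Subgroup P) (hM : IsCoatom M) : commutator P ≤ M := by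
  have := coatom_normal hP M hM
  have hc := coatom_card_quotient hP M hM
  have hcyc : IsCyclic (P ⧸ M) := isCyclic_of_prime_card hc
  apply Subgroup.Normal.quotient_commutative_iff_commutator_le.mp
  exact IsCyclic.isMulCommutative

theorem mem_frattini_iff {P : Type*} [Group P] (x : P) :
    x ∈ frattini P ↔ ∀ M : Subgroup P, IsCoatom M → x ∈ M := by
  unfold frattini Order.radical
  simp [Subgroup.mem_iInf]

theorem pow_mem_frattini {P : Type*} [Group P] [Finite P] {p : ℕ} [hp : Fact p.Prime]
    (hP : IsPGroup p P) (x : P) : x ^ p ∈ frattini P := by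
  rw [mem_frattini_iff]
  intro M hM
  exact pow_mem_coatom hP M hM x

theorem commutator_le_frattini {P : Type*} [Group P] [Finite P] {p : ℕ} [hp : Fact p.Prime]
    (hP : IsPGroup p P) : commutator P ≤ frattini P := by
  intro x hx
  rw [mem_frattini_iff]
  intro M hM
  exact commutator_le_coatom hP M hM hx

/-! ### counting generating tuples of an elementary abelian group -/

theorem span_eq_top_iff_closure {p : ℕ} {V : Type*} [AddCommGroup V] [Module (ZMod p) V] (s : Set V) :
    Submodule.span (ZMod p) s = ⊤ ↔ AddSubgroup.closure s = ⊤ := by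
  have h : (Submodule.span (ZMod p) s).toAddSubgroup = AddSubgroup.closure s := by
    apply le_antisymm
    · have : Submodule.span (ZMod p) s ≤ AddSubgroup.toZModSubmodule p (AddSubgroup.closure s) := by
        rw [Submodule.span_le]
        exact AddSubgroup.subset_closure
      exact this
    · rw [AddSubgroup.closure_le]
      exact Submodule.subset_span
  rw [← h]
  constructor
  · intro h1; rw [h1]; rfl
  · intro h1
    rw [eq_top_iff]
    intro x _
    have : x ∈ (Submodule.span (ZMod p) s).toAddSubgroup := by rw [h1]; trivial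
    exact this

theorem card_gen_add {V : Type*} [AddCommGroup V] [Finite V] {p r : ℕ} [hp : Fact p.Prime]
    [Module (ZMod p) V] (hcard : Nat.card V = p ^ r) :
    Nat.card {y : Fin r → V // AddSubgroup.closure (Set.range y) = ⊤} =
      ∏ i ∈ Finset.range r, (p ^ r - p ^ i) := by
  classical
  have : Fintype V := Fintype.ofFinite _
  have hfin : finrank (ZMod p) V = r := by
    have h1 := Module.card_eq_pow_finrank (K := ZMod p) (V := V)
    rw [ZMod.card, ← Nat.card_eq_fintype_card, hcard] at h1
    exact (Nat.pow_right_injective hp.out.two_le h1).symm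
  have key : ∀ y : Fin r → V, AddSubgroup.closure (Set.range y) = ⊤ ↔
      LinearIndependent (ZMod p) y := by
    intro y
    rw [← span_eq_top_iff_closure (p := p)]
    constructor
    · intro h
      apply linearIndependent_of_top_le_span_of_card_eq_finrank h.ge
      rw [Fintype.card_fin, hfin]
    · intro h
      apply h.span_eq_top_of_card_eq_finrank'
      rw [Fintype.card_fin, hfin]
  have e : {y : Fin r → V // AddSubgroup.closure (Set.range y) = ⊤} ≃
      {s : Fin r → V // LinearIndependent (ZMod p) s} :=
    Equiv.subtypeEquivRight key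
  rw [Nat.card_congr e, card_linearIndependent (K := ZMod p) (V := V) (k := r) (by rw [hfin])]
  rw [hfin, ZMod.card, Fin.prod_univ_eq_prod_range (fun i => p ^ r - p ^ i) r]

theorem card_gen_tuples_comm {Q : Type*} [CommGroup Q] [Finite Q] {p r : ℕ} [hp : Fact p.Prime]
    (hexp : ∀ a : Q, a ^ p = 1) (hcard : Nat.card Q = p ^ r) :
    Nat.card {y : Fin r → Q // Subgroup.closure (Set.range y) = ⊤} = ∏ i ∈ Finset.range r, (p ^ r - p ^ i) := by
  classical
  let _ : Module (ZMod p) (Additive Q) := AddCommGroup.zmodModule (fun x => by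
    rw [← ofMul_toMul x, ← ofMul_pow, hexp]; rfl)
  have key : ∀ y : Fin r → Q, Subgroup.closure (Set.range y) = ⊤ ↔
      AddSubgroup.closure (Set.range (fun i => Additive.ofMul (y i))) = ⊤ := by
    intro y
    have := Subgroup.toAddSubgroup_closure (Set.range y)
    have hpre : Additive.toMul ⁻¹' (Set.range y) = Set.range (fun i => Additive.ofMul (y i)) := by
      ext v
      simp only [Set.mem_preimage, Set.mem_range]
      constructor
      · rintro ⟨i, hi⟩; exact ⟨i, by rw [hi]; rfl⟩
      · rintro ⟨i, hi⟩; exact ⟨i, by rw [← hi]; rfl⟩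
    rw [hpre] at this
    rw [← this]
    constructor
    · intro h; rw [h]; rfl
    · intro h
      apply Subgroup.toAddSubgroup.injective
      rw [h]; rfl
  have e : {y : Fin r → Q // Subgroup.closure (Set.range y) = ⊤} ≃
      {s : Fin r → Additive Q // AddSubgroup.closure (Set.range s) = ⊤} :=
    Equiv.subtypeEquiv (Equiv.arrowCongr (Equiv.refl (Fin r)) Additive.ofMul) (fun y => key y)
  rw [Nat.card_congr e]
  exact card_gen_add (V := Additive Q) hcard

/-- The number of generating `r`-tuples of an elementary abelian group of order `p ^ r`. -/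
theorem card_gen_tuples {Q : Type*} [Group Q] [Finite Q] {p r : ℕ} [hp : Fact p.Prime]
    (hcomm : ∀ a b : Q, a * b = b * a)
    (hexp : ∀ a : Q, a ^ p = 1) (hcard : Nat.card Q = p ^ r) :
    Nat.card {y : Fin r → Q // Subgroup.closure (Set.range y) = ⊤} = ∏ i ∈ Finset.range r, (p ^ r - p ^ i) := by
  let _ : CommGroup Q := { ‹Group Q› with mul_comm := hcomm }
  exact card_gen_tuples_comm hexp hcard


/-! ### generating tuples of `P` -/

theorem gen_iff {P : Type*} [Group P] [Finite P] {r : ℕ} (y : Fin r → P) :
    Subgroup.closure (Set.range y) = ⊤ ↔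
      Subgroup.closure (Set.range (fun i => (QuotientGroup.mk (y i) : P ⧸ frattini P))) = ⊤ := by
  have hmap : (Subgroup.closure (Set.range y)).map (QuotientGroup.mk' (frattini P)) =
      Subgroup.closure (Set.range (fun i => (QuotientGroup.mk (y i) : P ⧸ frattini P))) := by
    rw [MonoidHom.map_closure, ← Set.range_comp]
    rfl
  constructor
  · intro h
    rw [← hmap, h]
    exact Subgroup.map_top_of_surjective _ (QuotientGroup.mk'_surjective _)
  · intro h
    apply frattini_nongenerating
    have := Subgroup.comap_map_eq (QuotientGroup.mk' (frattini P)) (Subgroup.closure (Set.range y))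
    rw [hmap, h, Subgroup.comap_top, QuotientGroup.ker_mk'] at this
    exact this.symm

/-- generating `r`-tuples of a group -/
def X (P : Type*) [Group P] (r : ℕ) : Type _ := {y : Fin r → P // Subgroup.closure (Set.range y) = ⊤}

/-- generating tuples of `P` correspond to generating tuples of the Frattini quotient together with
a tuple of elements of the Frattini subgroup -/
noncomputable def Xequiv (P : Type*) [Group P] [Finite P] (r : ℕ) :
    X P r ≃ X (P ⧸ frattini P) r × (Fin r → frattini P) where
  toFun y := (⟨fun i => (QuotientGroup.mk (y.1 i) : P ⧸ frattini P), (gen_iff y.1).mp y.2⟩,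
    fun i => ⟨(Quotient.out (QuotientGroup.mk (y.1 i) : P ⧸ frattini P))⁻¹ * y.1 i, by
      rw [← QuotientGroup.eq]
      exact QuotientGroup.out_eq' _⟩)
  invFun z := ⟨fun i => Quotient.out (z.1.1 i) * (z.2 i : P), by
    rw [gen_iff]
    have : (fun i => (QuotientGroup.mk (Quotient.out (z.1.1 i) * (z.2 i : P)) : P ⧸ frattini P)) = z.1.1 := by
      funext i
      rw [QuotientGroup.mk_mul_of_mem _ (z.2 i).2]
      exact QuotientGroup.out_eq' _
    rw [this]
    exact z.1.2⟩
  left_inv y := by
    apply Subtype.ext
    funext i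
    simp
  right_inv z := by
    have h1 : ∀ i, (QuotientGroup.mk (Quotient.out (z.1.1 i) * (z.2 i : P)) : P ⧸ frattini P) = z.1.1 i := by
      intro i
      rw [QuotientGroup.mk_mul_of_mem _ (z.2 i).2]
      exact QuotientGroup.out_eq' _
    apply Prod.ext
    · apply Subtype.ext
      funext i
      exact h1 i
    · funext i
      apply Subtype.ext
      simp only
      rw [h1 i]
      simp

/-- the action of the automorphism group on generating tuples -/
@[instance_reducible] def actX (P : Type*) [Group P] (r : ℕ) : MulAction (MulAut P) (X P r) where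
  smul α y := ⟨fun i => α (y.1 i), by
    have h1 : Set.range (fun i => α (y.1 i)) = (α : P ≃* P).toMonoidHom '' (Set.range y.1) := by
      rw [← Set.range_comp]; rfl
    rw [h1, ← MonoidHom.map_closure, y.2]
    exact Subgroup.map_top_of_surjective _ (α : P ≃* P).surjective⟩
  one_smul y := by
    apply Subtype.ext
    funext i
    rfl
  mul_smul a b y := by
    apply Subtype.ext
    funext i
    rfl

theorem actX_free (P : Type*) [Group P] (r : ℕ) (y : X P r) :
    (letI := actX P r; MulAction.stabilizer (MulAut P) y) = ⊥ := by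
  letI := actX P r
  rw [eq_bot_iff]
  intro a ha
  rw [MulAction.mem_stabilizer_iff] at ha
  rw [Subgroup.mem_bot]
  have h1 : (a : P ≃* P).toMonoidHom = (MonoidHom.id P) := by
    apply MonoidHom.eq_of_eqOn_dense y.2
    rintro _ ⟨i, rfl⟩
    have := congrArg (fun z : X P r => z.1 i) ha
    exact this
  apply MulEquiv.ext
  intro z
  have := congrArg (fun f : P →* P => f z) h1
  exact this

/-- Let `P` be a group of order `p^n` whose Frattini subgroup has index `p^r`. Then the order of the automorphism group of `P` divides `p^(r(n-r)) · (p^r - 1)(p^r - p) ⋯ (p^r - p^(r-1))`. -/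
theorem result {P : Type*} [Group P] [Finite P] {p n r : ℕ} [Fact p.Prime] (hP : Nat.card P = p ^ n) (hr : (frattini P).index = p ^ r) : Nat.card (MulAut P) ∣ p ^ (r * (n - r)) * ∏ i ∈ Finset.range r, (p ^ r - p ^ i) := by
  have hp : p.Prime := Fact.out
  have hPg : IsPGroup p P := IsPGroup.of_card hP
  have hQ : Nat.card (P ⧸ frattini P) = p ^ r := hr
  have hcomm : ∀ a b : P ⧸ frattini P, a * b = b * a := by
    have : IsMulCommutative (P ⧸ frattini P) :=
      Subgroup.Normal.quotient_commutative_iff_commutator_le.mpr (commutator_le_frattini hPg)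
    intro a b
    exact mul_comm' a b
  have hexp : ∀ a : P ⧸ frattini P, a ^ p = 1 := by
    intro a
    obtain ⟨x, rfl⟩ := QuotientGroup.mk_surjective a
    rw [← QuotientGroup.mk_pow, QuotientGroup.eq_one_iff]
    exact pow_mem_frattini hPg x
  have hXq : Nat.card (X (P ⧸ frattini P) r) = ∏ i ∈ Finset.range r, (p ^ r - p ^ i) :=
    card_gen_tuples hcomm hexp hQ
  have hX : Nat.card (X P r) = (∏ i ∈ Finset.range r, (p ^ r - p ^ i)) * (p ^ (n - r)) ^ r := by
    rw [Nat.card_congr (Xequiv P r), Nat.card_prod, hXq, Nat.card_fun, Nat.card_fin,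
      (Cfsg.Agent.S4207.card_frattini hp hP hr).2]
  letI := actX P r
  have hdvd := Cfsg.Agent.S4207.card_dvd_of_free (actX_free P r)
  rw [hX, ← pow_mul, mul_comm, mul_comm (n - r) r] at hdvd
  exact hdvd

end Cfsg.Agent.S4208
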