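import Cfsg.Statements.S4211
import Cfsg.Agent.Lib.Helper70.Dedekind
import Cfsg.Agent.Lib.Helper70.QuatLift

set_option autoImplicit false
open Cfsg

namespace Cfsg.Agent.S4211

open Cfsg.Agent.Lib.Helper70 Subgroup

/-- A finite non-abelian group in which every subgroup is normal is the internal direct product of a subgroup isomorphic to the quaternion group of order `8`, an elementary abelian `2`-subgroup and an abelian subgroup of odd order. -/
theorem result {G : Type*} [Group G] [Finite G] (hna : ¬ IsMulCommutative G) (hn : ∀ H : Subgroup G, H.Normal) : ∃ Q E A : Subgroup G, Nonempty (Q ≃* QuaternionGroup 2) ∧ Cfsg.IsElementaryAbelian 2 E ∧ IsMulCommutative A ∧ Odd (Nat.card A) ∧ E ⊓ A = ⊥ ∧ Q ⊓ (E ⊔ A) = ⊥ ∧ Q ⊔ (E ⊔ A) = ⊤ := by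
  classical
  have hna' : ∃ x y : G, x * y ≠ y * x := by
    by_contra h
    push Not at h
    exact hna ⟨⟨h⟩⟩
  obtain ⟨x, y, hx, hy, hxx, hxyx, hxy⟩ := dk_exists_quat hn hna'
  have hx4 : x ^ 4 = 1 := by rw [← hx]; exact pow_orderOf_eq_one x
  have hy4 : y ^ 4 = 1 := by rw [← hy]; exact pow_orderOf_eq_one y
  have hxns : x ∉ zpowers y := fun h => hxy ((dk_commute_of_mem_zpowers h).eq)
  have hfinj := Quat.quatLift_injective x y 2 (by rw [hy]) hxx hxyx hxns
  set f := Quat.quatLift x y 2 hy4 hxx hxyx with hf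
  -- basic facts on c = y ^ 2
  have hcx : y ^ 2 = x ^ 2 := by rw [pow_two x]; exact hxx.symm
  have hc2 : (y ^ 2) ^ 2 = 1 := by rw [← pow_mul]; exact hy4
  have hc1 : y ^ 2 ≠ 1 := by
    intro h
    have := orderOf_dvd_of_pow_eq_one h
    rw [hy] at this
    omega
  have hcc : y ^ 2 * y ^ 2 = 1 := by rw [← pow_two]; exact hc2
  -- semiconjugation relations
  have Sx_x : SemiconjBy x x x := Commute.refl x
  have Sy_y : SemiconjBy y y y := Commute.refl y
  have Sx_y : SemiconjBy x y y⁻¹ := by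
    unfold SemiconjBy
    rw [← hxyx]; group
  have Sy_x : SemiconjBy y x x⁻¹ := by
    have h1 : x * y⁻¹ = y * x := by
      have := Sx_y.inv_right
      rw [inv_inv] at this
      exact this.eq
    unfold SemiconjBy
    have h2 : x⁻¹ = x * (y ^ 2)⁻¹ := by
      rw [hcx]; group
    rw [h2, ← h1]; group
  -- conjugates of x and y
  have hx1 : x ≠ 1 := by
    intro h; apply hxy; rw [h]; simp
  have hy1 : y ≠ 1 := by
    intro h; apply hxy; rw [h]; simp
  have hx2 : x ^ 2 ≠ 1 := by rw [← hcx]; exact hc1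
  have hconj : ∀ (z : G), z ^ 4 = 1 → z ^ 2 ≠ 1 → ∀ g : G,
      SemiconjBy g z z ∨ SemiconjBy g z z⁻¹ := by
    intro z hz4 hz2 g
    have h1 : g * z * g⁻¹ ∈ zpowers z := (hn (zpowers z)).conj_mem _ (mem_zpowers z) g
    obtain ⟨t, ht, h2⟩ := dk_exists_lt_pow (by norm_num : 0 < 4) hz4 h1
    have hz1 : z ≠ 1 := by
      intro h; apply hz2; rw [h]; simp
    interval_cases t
    · exfalso
      apply hz1
      rw [pow_zero] at h2
      have : z = g⁻¹ * (g * z * g⁻¹) * g := by group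
      rw [this, ← h2]; group
    · left
      unfold SemiconjBy
      rw [pow_one] at h2
      nth_rewrite 2 [h2]
      group
    · exfalso
      apply hz2
      have h3 : (g * z * g⁻¹) ^ 2 = 1 := by
        rw [← h2, ← pow_mul]; exact hz4
      rw [conj_pow] at h3
      have : z ^ 2 = g⁻¹ * (g * z ^ 2 * g⁻¹) * g := by group
      rw [this, h3]; group
    · right
      unfold SemiconjBy
      have h3 : z⁻¹ = z ^ 3 := by
        have : z ^ 3 * z = 1 := by rw [← pow_succ]; exact hz4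
        exact (eq_inv_of_mul_eq_one_left this).symm ▸ rfl
      rw [h3, h2]
      group
  -- the centralizer
  have hcover : ∀ g : G, ∃ q ∈ f.range, Commute (q⁻¹ * g) x ∧ Commute (q⁻¹ * g) y := by
    have hxQ : x ∈ f.range := by
      refine ⟨QuaternionGroup.xa 0, ?_⟩
      rw [hf, Quat.quatLift_xa]; simp
    have hyQ : y ∈ f.range := by
      refine ⟨QuaternionGroup.a 1, ?_⟩
      rw [hf, Quat.quatLift_a]
      have : (((1 : ZMod (2 * 2)).cast : ℤ)) = 1 := rfl
      rw [this, zpow_one]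
    intro g
    rcases hconj x hx4 hx2 g with hgx | hgx <;> rcases hconj y hy4 hc1 g with hgy | hgy
    · refine ⟨1, one_mem _, ?_, ?_⟩
      · rw [inv_one, one_mul]; exact hgx
      · rw [inv_one, one_mul]; exact hgy
    · exact ⟨x, hxQ, (Sx_x.inv_symm_left).mul_left hgx, (Sx_y.inv_symm_left).mul_left hgy⟩
    · exact ⟨y, hyQ, (Sy_x.inv_symm_left).mul_left hgx, (Sy_y.inv_symm_left).mul_left hgy⟩
    · refine ⟨x * y, mul_mem hxQ hyQ, ?_, ?_⟩
      · exact (((Sx_x.inv_right).mul_left Sy_x).inv_symm_left).mul_left hgx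
      · exact ((Sx_y.mul_left Sy_y).inv_symm_left).mul_left hgy
  -- no elements of order four centralize x and y
  have hfour : ∀ g : G, Commute g x → Commute g y → g ^ 4 = 1 → g ^ 2 = 1 := by
    intro g hgx hgy hg4
    have hS : SemiconjBy y (g * x) (g * x⁻¹) := SemiconjBy.mul_right (hgy.symm : SemiconjBy y g g) Sy_x
    have h1 : y * (g * x) * y⁻¹ ∈ zpowers (g * x) :=
      (hn (zpowers (g * x))).conj_mem _ (mem_zpowers _) y
    have h2 : y * (g * x) * y⁻¹ = g * x⁻¹ := by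
      rw [hS.eq]; group
    rw [h2] at h1
    have h3 : (g * x)⁻¹ * (g * x⁻¹) ∈ zpowers (g * x) := mul_mem (inv_mem (mem_zpowers _)) h1
    have h4 : (g * x)⁻¹ * (g * x⁻¹) = x ^ 2 := by
      have : x ^ 2 = (x ^ 2)⁻¹ := by
        have : x ^ 2 * x ^ 2 = 1 := by rw [← pow_add]; exact hx4
        exact eq_inv_of_mul_eq_one_left this
      rw [this]; group
    rw [h4] at h3
    have hw4 : (g * x) ^ 4 = 1 := by rw [hgx.mul_pow, hg4, hx4, one_mul]
    obtain ⟨t, ht, h5⟩ := dk_exists_lt_pow (by norm_num : 0 < 4) hw4 h3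
    rw [hgx.mul_pow] at h5
    interval_cases t
    · exfalso; apply hx2; rw [← h5]; simp
    · exfalso
      rw [pow_one, pow_one, pow_two] at h5
      have : g = x := mul_right_cancel h5
      rw [this] at hgy
      exact hxy hgy.eq
    · exact mul_right_cancel (b := x ^ 2) (by rw [h5, one_mul])
    · exfalso
      have h6 : g ^ 3 = x⁻¹ := by
        calc g ^ 3 = g ^ 3 * x ^ 3 * (x ^ 3)⁻¹ := by group
          _ = x ^ 2 * (x ^ 3)⁻¹ := by rw [h5]
          _ = x⁻¹ := by group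
      have h7 : Commute (g ^ 3) y := hgy.pow_left 3
      rw [h6] at h7
      exact hxy (Commute.inv_left_iff.mp h7).eq
  -- the centralizer subgroup
  set C : Subgroup G := centralizer ({x, y} : Set G) with hC
  have hCmem : ∀ g : G, g ∈ C ↔ Commute g x ∧ Commute g y := by
    intro g
    rw [hC, mem_centralizer_iff]
    constructor
    · intro h
      exact ⟨(h x (by simp)).symm, (h y (by simp)).symm⟩
    · rintro ⟨h1, h2⟩ z hz
      rcases hz with rfl | rfl
      · exact h1.eq.symm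
      · exact h2.eq.symm
  have hCfour : ∀ g ∈ C, g ^ 4 = 1 → g ^ 2 = 1 := fun g hg =>
    hfour g ((hCmem g).mp hg).1 ((hCmem g).mp hg).2
  -- C is abelian
  have hnC : ∀ K : Subgroup C, K.Normal := by
    intro K
    have h1 := hn (K.map C.subtype)
    have h2 : ((K.map C.subtype).comap C.subtype).Normal := h1.comap _
    rwa [comap_map_eq_self_of_injective C.subtype_injective] at h2
  have hCc : ∀ g ∈ C, ∀ h ∈ C, g * h = h * g := by
    by_contra hcon
    push Not at hcon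
    obtain ⟨g, hg, h, hh, hne⟩ := hcon
    have hnaC : ∃ a b : C, a * b ≠ b * a := by
      refine ⟨⟨g, hg⟩, ⟨h, hh⟩, ?_⟩
      intro heq
      apply hne
      exact congrArg Subtype.val heq
    obtain ⟨a, b, ha, -, -, -, -⟩ := dk_exists_quat hnC hnaC
    have ha' : orderOf (a : G) = 4 := by rw [Subgroup.orderOf_coe]; exact ha
    have h4 : (a : G) ^ 4 = 1 := by rw [← ha']; exact pow_orderOf_eq_one _
    have h2 := hCfour a a.2 h4
    have := orderOf_dvd_of_pow_eq_one h2
    rw [ha'] at this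
    omega
  have hCcomm : ∀ g ∈ C, ∀ h ∈ C, Commute g h := hCc
  -- the subgroup of squares and the subgroup of involutions
  let A : Subgroup G :=
    { carrier := {a | ∃ g ∈ C, g ^ 2 = a}
      mul_mem' := by
        rintro _ _ ⟨g, hg, rfl⟩ ⟨h, hh, rfl⟩
        exact ⟨g * h, mul_mem hg hh, (hCcomm g hg h hh).mul_pow 2⟩
      one_mem' := ⟨1, one_mem _, one_pow 2⟩
      inv_mem' := by
        rintro _ ⟨g, hg, rfl⟩
        exact ⟨g⁻¹, inv_mem hg, inv_pow g 2⟩ }
  let C2 : Subgroup G :=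
    { carrier := {g | g ∈ C ∧ g ^ 2 = 1}
      mul_mem' := by
        rintro g h ⟨hg, hg2⟩ ⟨hh, hh2⟩
        exact ⟨mul_mem hg hh, by rw [(hCcomm g hg h hh).mul_pow 2, hg2, hh2, one_mul]⟩
      one_mem' := ⟨one_mem _, one_pow 2⟩
      inv_mem' := by
        rintro g ⟨hg, hg2⟩
        exact ⟨inv_mem hg, by rw [inv_pow, hg2, inv_one]⟩ }
  have hAmem : ∀ a : G, a ∈ A ↔ ∃ g ∈ C, g ^ 2 = a := fun a => Iff.rfl
  have hC2mem : ∀ g : G, g ∈ C2 ↔ g ∈ C ∧ g ^ 2 = 1 := fun g => Iff.rfl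
  have hAC : A ≤ C := by
    rintro _ ⟨g, hg, rfl⟩
    exact pow_mem hg 2
  have hC2C : C2 ≤ C := fun g hg => hg.1
  have hsq1 : ∀ a ∈ A, a ^ 2 = 1 → a = 1 := by
    rintro _ ⟨g, hg, rfl⟩ h
    rw [← pow_mul] at h
    exact hCfour g hg h
  have hsqinj : ∀ a ∈ A, ∀ b ∈ A, a ^ 2 = b ^ 2 → a = b := by
    intro a ha b hb h
    have h1 : (a * b⁻¹) ^ 2 = 1 := by
      rw [(hCcomm a (hAC ha) b⁻¹ (inv_mem (hAC hb))).mul_pow, h, inv_pow, mul_inv_cancel]
    have h2 := hsq1 _ (mul_mem ha (inv_mem hb)) h1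
    exact mul_inv_eq_one.mp h2
  have hdecomp : ∀ h ∈ C, ∃ t ∈ C2, ∃ a ∈ A, h = t * a := by
    intro h hh
    let sq : A → A := fun a => ⟨(a : G) ^ 2, pow_mem a.2 2⟩
    have hinj : Function.Injective sq := by
      intro a b hab
      have : (a : G) ^ 2 = (b : G) ^ 2 := congrArg Subtype.val hab
      exact Subtype.ext (hsqinj a a.2 b b.2 this)
    have hsurj : Function.Surjective sq := Finite.injective_iff_surjective.mp hinj
    obtain ⟨a, ha⟩ := hsurj ⟨h ^ 2, ⟨h, hh, rfl⟩⟩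
    have ha2 : (a : G) ^ 2 = h ^ 2 := congrArg Subtype.val ha
    refine ⟨h * (a : G)⁻¹, ⟨mul_mem hh (inv_mem (hAC a.2)), ?_⟩, a, a.2, by group⟩
    rw [(hCcomm h hh _ (inv_mem (hAC a.2))).mul_pow, inv_pow, ha2, mul_inv_cancel]
  have hcC : y ^ 2 ∈ C := by
    rw [hCmem]
    refine ⟨?_, (Commute.refl y).pow_left 2⟩
    rw [hcx]; exact (Commute.refl x).pow_left 2
  have hcC2 : y ^ 2 ∈ C2 := ⟨hcC, hc2⟩
  -- a complement to c in C2
  obtain ⟨E, -, hEmax⟩ := Finite.exists_le_maximal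
    (p := fun E : Subgroup G => E ≤ C2 ∧ y ^ 2 ∉ E) (a := ⊥)
    ⟨bot_le, fun h => hc1 (mem_bot.mp h)⟩
  have hEC2 : E ≤ C2 := hEmax.prop.1
  have hcE : y ^ 2 ∉ E := hEmax.prop.2
  have hEcover : ∀ t ∈ C2, t ∈ E ∨ y ^ 2 * t ∈ E := by
    intro t ht
    by_cases hte : t ∈ E
    · exact Or.inl hte
    right
    have hle : E ⊔ zpowers t ≤ C2 := sup_le hEC2 (zpowers_le.mpr ht)
    have hnle : ¬ (E ⊔ zpowers t ≤ E) := fun h => hte (h (le_sup_right (a := E) (mem_zpowers t)))
    have hcin : y ^ 2 ∈ E ⊔ zpowers t := by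
      by_contra hcn
      exact hnle (hEmax.le_of_ge ⟨hle, hcn⟩ le_sup_left)
    have _ := hn (zpowers t)
    obtain ⟨e, he, z, hz, hez⟩ := mem_sup_of_normal_right.mp hcin
    obtain ⟨s, hs, rfl⟩ := dk_exists_lt_pow (by norm_num : 0 < 2) ht.2 hz
    interval_cases s
    · exfalso; apply hcE; rw [← hez]; simpa using he
    · rw [pow_one] at hez
      have : y ^ 2 * t = e := by
        rw [← hez, mul_assoc, ← pow_two, ht.2, mul_one]
      rw [this]; exact he
  have hEC : E ≤ C := hEC2.trans hC2C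
  have hEAC : E ⊔ A ≤ C := sup_le hEC hAC
  -- elements of Q centralizing x and y
  have hQC : ∀ q ∈ f.range, q ∈ C → q = 1 ∨ q = y ^ 2 := by
    rintro _ ⟨u, rfl⟩ hq
    rw [hCmem] at hq
    rcases u with i | i
    · rw [hf, Quat.quatLift_a] at hq ⊢
      obtain ⟨t, ht, h5⟩ := dk_exists_lt_pow (by norm_num : 0 < 4) hy4
        (zpow_mem (mem_zpowers y) (i.cast : ℤ))
      rw [← h5] at hq ⊢
      interval_cases t
      · left; simp
      · exfalso; rw [pow_one] at hq; exact hxy hq.1.eq.symm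
      · right; rfl
      · exfalso
        have h3 : y ^ 3 = y⁻¹ := by
          have : y ^ 3 * y = 1 := by rw [← pow_succ]; exact hy4
          exact eq_inv_of_mul_eq_one_left this
        rw [h3] at hq
        exact hxy (Commute.inv_left_iff.mp hq.1).eq.symm
    · exfalso
      rw [hf, Quat.quatLift_xa] at hq
      have h1 : Commute (y ^ (i.cast : ℤ)) y := (Commute.refl y).zpow_left _
      have h2 : x * y ^ (i.cast : ℤ) * y = y * (x * y ^ (i.cast : ℤ)) := hq.2.eq
      apply hxy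
      have h3 : x * y * y ^ (i.cast : ℤ) = y * x * y ^ (i.cast : ℤ) := by
        rw [mul_assoc x y, ← h1.eq, ← mul_assoc, h2, mul_assoc]
      exact mul_right_cancel h3
  have hyQ : y ^ 2 ∈ f.range := by
    refine ⟨QuaternionGroup.a 2, ?_⟩
    rw [hf, Quat.quatLift_a]
    have : (((2 : ZMod (2 * 2)).cast : ℤ)) = 2 := rfl
    rw [this]; exact zpow_ofNat y 2
  refine ⟨f.range, E, A, ⟨(MonoidHom.ofInjective hfinj).symm⟩, ⟨⟨⟨fun a b => ?_⟩⟩, ?_⟩,
    ⟨⟨fun a b => ?_⟩⟩, ?_, ?_, ?_, ?_⟩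
  · exact Subtype.ext (hCc a (hEC a.2) b (hEC b.2))
  · intro a ha
    exact (hEC2 ha).2
  · exact Subtype.ext (hCc a (hAC a.2) b (hAC b.2))
  · by_contra hodd
    rw [Nat.not_odd_iff_even, even_iff_two_dvd] at hodd
    have _ : Fact (Nat.Prime 2) := ⟨Nat.prime_two⟩
    obtain ⟨a, ha⟩ := exists_prime_orderOf_dvd_card' (G := A) 2 hodd
    have ha' : orderOf (a : G) = 2 := by rw [Subgroup.orderOf_coe]; exact ha
    have h2 : (a : G) ^ 2 = 1 := by rw [← ha']; exact pow_orderOf_eq_one _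
    have h1 := hsq1 a a.2 h2
    rw [h1, orderOf_one] at ha'
    omega
  · rw [eq_bot_iff]
    rintro g ⟨hgE, hgA⟩
    exact mem_bot.mpr (hsq1 g hgA (hEC2 hgE).2)
  · rw [eq_bot_iff]
    rintro g ⟨hgQ, hgEA⟩
    rw [mem_bot]
    rcases hQC g hgQ (hEAC hgEA) with h | h
    · exact h
    · exfalso
      have _ := hn A
      obtain ⟨e, he, a, ha, hea⟩ := mem_sup_of_normal_right.mp hgEA
      have h1 : (e * a) ^ 2 = 1 := by rw [hea, h]; exact hc2
      rw [(hCcomm e (hEC he) a (hAC ha)).mul_pow, (hEC2 he).2, one_mul] at h1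
      have h2 := hsq1 a ha h1
      rw [h2, mul_one] at hea
      apply hcE
      rw [← h, ← hea]; exact he
  · rw [eq_top_iff]
    intro g _
    obtain ⟨q, hq, hqx, hqy⟩ := hcover g
    have hh : q⁻¹ * g ∈ C := (hCmem _).mpr ⟨hqx, hqy⟩
    obtain ⟨t, ht, a, ha, hta⟩ := hdecomp _ hh
    have hg : g = q * (t * a) := by rw [← hta]; group
    rcases hEcover t ht with hte | hte
    · rw [hg]
      exact mul_mem (le_sup_left (a := f.range) hq)
        (le_sup_right (a := f.range) (mul_mem (le_sup_left (a := E) hte) (le_sup_right (a := E) ha)))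
    · have hg' : g = (q * y ^ 2) * ((y ^ 2 * t) * a) := by
        rw [hg]
        calc q * (t * a) = q * (1 * t * a) := by group
          _ = q * (y ^ 2 * y ^ 2 * t * a) := by rw [hcc]
          _ = (q * y ^ 2) * ((y ^ 2 * t) * a) := by group
      rw [hg']
      exact mul_mem (le_sup_left (a := f.range) (mul_mem hq hyQ))
        (le_sup_right (a := f.range) (mul_mem (le_sup_left (a := E) hte) (le_sup_right (a := E) ha)))

end Cfsg.Agent.S4211
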