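import Cfsg.Statements.S4212
import Cfsg.Agent.Lib.Helper70.HallFrob

set_option autoImplicit false
open Cfsg

namespace Cfsg.Agent.S4212

open Cfsg.Agent.Lib.Helper70 Subgroup

/-- Let `G` be a finite group of order `g`, `c` an element whose conjugacy class has `h` elements, and `n` a natural number. Then the number of elements `x` of `G` with `x^n` conjugate to `c` is a multiple of `gcd(hn, g)`. -/
theorem result {G : Type*} [Group G] [Finite G] (c : G) (n : ℕ) : Nat.gcd (Nat.card {y : G // IsConj c y} * n) (Nat.card G) ∣ Nat.card {x : G // IsConj c (x ^ n)} := by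
  classical
  have _ : Fintype {y : G // IsConj c y} := Fintype.ofFinite _
  -- (1) the count as a sum over the class
  have h1 : Nat.card {x : G // IsConj c (x ^ n)} = Nat.card {y : G // IsConj c y} * hfSol G n c := by
    have e : {x : G // IsConj c (x ^ n)} ≃ Σ y : {y : G // IsConj c y}, {x : G // x ^ n = y.1} :=
      (Equiv.sigmaSubtypeFiberEquivSubtype (fun x : G => x ^ n) (p := fun x => IsConj c (x ^ n))
        (q := fun y => IsConj c y) (fun x => Iff.rfl)).symm
    rw [Nat.card_congr e, Nat.card_sigma]
    have h2 : ∀ y : {y : G // IsConj c y}, Nat.card {x : G // x ^ n = y.1} = hfSol G n c := by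
      rintro ⟨y, hy⟩
      obtain ⟨g, hg⟩ := isConj_iff.mp hy
      show hfSol G n y = hfSol G n c
      rw [← hg]; exact hfSol_conj n c g
    rw [Finset.sum_congr rfl (fun y _ => h2 y), Finset.sum_const, Finset.card_univ, smul_eq_mul,
      Nat.card_eq_fintype_card]
  -- (2) orbit-stabilizer
  have h3 : Nat.card {y : G // IsConj c y} * Nat.card (centralizer ({c} : Set G)) = Nat.card G := by
    rw [← hf_orbit_mul_card c, ← Nat.card_coe_set_eq]
    congr 1
    apply Nat.card_congr
    apply Equiv.subtypeEquivRight
    intro y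
    rw [ConjAct.mem_orbit_conjAct]
    exact ⟨fun h => h.symm, fun h => h.symm⟩
  rw [h1, ← h3, Nat.gcd_mul_left]
  exact Nat.mul_dvd_mul_left _ (hf_main _ G rfl n c)

end Cfsg.Agent.S4212
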