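import Cfsg.Statements.S4213
import Cfsg.Agent.Lib.Helper66.Frobenius
import Cfsg.Agent.Lib.Helper70.H1Basic

set_option autoImplicit false
open Cfsg

namespace Cfsg.Agent.S4213

open Subgroup

universe u

/-- Frobenius' theorem (from helper66's library). -/
theorem frob {G : Type u} [Group G] [Finite G] (m : ℕ) (hm : m ∣ Nat.card G) :
    m ∣ Nat.card {g : G // g ^ m = 1} :=
  Cfsg.Agent.Lib.Helper66.frobenius_main (Nat.card G) G rfl m hm

/-- A subgroup of order `n` is the set of solutions of `x ^ n = 1` if there are only `n` of them. -/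
theorem eq_of_card {G : Type u} [Group G] [Finite G] (n : ℕ) (H : Subgroup G)
    (hH : Nat.card H = n) (hcount : Nat.card {x : G // x ^ n = 1} = n) :
    H.Normal ∧ (H : Set G) = {x : G | x ^ n = 1} := by
  have hsub : (H : Set G) ⊆ {x : G | x ^ n = 1} := by
    intro x hx
    have : (⟨x, hx⟩ : H) ^ Nat.card H = 1 := pow_card_eq_one'
    rw [hH] at this
    exact congrArg Subtype.val this
  have heq : (H : Set G) = {x : G | x ^ n = 1} := by
    apply Set.eq_of_subset_of_ncard_le hsub _ (Set.toFinite _)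
    rw [← Nat.card_coe_set_eq, ← Nat.card_coe_set_eq]
    have h1 : Nat.card ((H : Set G)) = n := hH
    have h2 : Nat.card ({x : G | x ^ n = 1} : Set G) = n := hcount
    rw [h1, h2]
  refine ⟨⟨fun x hx g => ?_⟩, heq⟩
  have hx' : x ∈ (H : Set G) := hx
  rw [heq] at hx'
  have : g * x * g⁻¹ ∈ (H : Set G) := by
    rw [heq]
    show (g * x * g⁻¹) ^ n = 1
    rw [conj_pow, show x ^ n = 1 from hx', mul_one, mul_inv_cancel]
  exact this

theorem exists_subgroup : ∀ (G : Type u) [Group G] [Finite G], Group.IsSolvable G → ∀ n : ℕ,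
    n ∣ Nat.card G → Nat.card {x : G // x ^ n = 1} = n → ∃ H : Subgroup G, Nat.card H = n := by
  intro G _ _
  refine Cfsg.Agent.Lib.Helper70.H1.finite_group_induction (fun G _ => Group.IsSolvable G →
    ∀ n : ℕ, n ∣ Nat.card G → Nat.card {x : G // x ^ n = 1} = n →
      ∃ H : Subgroup G, Nat.card H = n) ?_ G
  intro G _ _ IH hsolv n hn hcount
  by_cases hn1 : n = 1
  · exact ⟨⊥, by rw [hn1]; exact Subgroup.card_bot⟩
  have hnpos : 0 < n := Nat.pos_of_dvd_of_pos hn Nat.card_pos
  have hnt : (⊤ : Subgroup G) ≠ ⊥ := by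
    intro h
    have : Nat.card G = 1 := by rw [← Subgroup.card_top, h, Subgroup.card_bot]
    rw [this] at hn
    exact hn1 (Nat.dvd_one.mp hn)
  obtain ⟨p, R, hp, -, hRn, hRne, -, hRp⟩ :=
    Cfsg.Agent.Lib.Helper70.H1.exists_normal_elementary_le (⊤ : Subgroup G) inferInstance hnt
  have _ : Fact p.Prime := ⟨hp⟩
  have hRpg : IsPGroup p R := fun x => ⟨1, by
    rw [pow_one]; exact Subtype.ext (by rw [Subgroup.coe_pow]; exact hRp x x.2)⟩
  obtain ⟨k, hk⟩ := hRpg.exists_card_eq
  have hk0 : k ≠ 0 := by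
    intro h
    rw [h, pow_zero] at hk
    exact hRne (Subgroup.card_eq_one.mp hk)
  have hcardG : Nat.card G = Nat.card (G ⧸ R) * Nat.card R :=
    card_eq_card_quotient_mul_card_subgroup R
  have hR1 : 1 < Nat.card R := by
    rw [hk]; exact Nat.one_lt_pow hk0 hp.one_lt
  have hQpos : 0 < Nat.card (G ⧸ R) := Nat.card_pos
  have hlt : Nat.card (G ⧸ R) < Nat.card G := by
    rw [hcardG]; nlinarith
  have hsolvQ : Group.IsSolvable (G ⧸ R) := inferInstance
  by_cases hpn : p ∣ n
  · -- p divides n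
    set n₂ := Nat.gcd (n / p) (Nat.card (G ⧸ R)) with hn₂def
    have hn₂ : n₂ ∣ Nat.card (G ⧸ R) := Nat.gcd_dvd_right _ _
    have hfrob := frob (G := G ⧸ R) n₂ hn₂
    have hpre := QuotientGroup.card_preimage_mk R {y : G ⧸ R | y ^ n₂ = 1}
    have hsubset : (QuotientGroup.mk ⁻¹' {y : G ⧸ R | y ^ n₂ = 1} : Set G) ⊆ {x : G | x ^ n = 1} := by
      intro y hy
      have hy' : ((y : G ⧸ R)) ^ n₂ = 1 := hy
      have h1 : ((y : G ⧸ R)) ^ (n / p) = 1 := by
        obtain ⟨c, hc⟩ := Nat.gcd_dvd_left (n / p) (Nat.card (G ⧸ R))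
        rw [hc, pow_mul, hy', one_pow]
      have h2 : y ^ (n / p) ∈ R := by
        rw [← QuotientGroup.eq_one_iff, QuotientGroup.mk_pow]; exact h1
      show y ^ n = 1
      rw [← Nat.div_mul_cancel hpn, pow_mul]
      exact hRp _ h2
    have hle : Nat.card R * Nat.card {y : G ⧸ R // y ^ n₂ = 1} ≤ n := by
      have h3 : Nat.card ({y : G ⧸ R | y ^ n₂ = 1} : Set (G ⧸ R))
          = Nat.card {y : G ⧸ R // y ^ n₂ = 1} := rfl
      rw [← h3, ← hpre, ← hcount]
      exact Nat.card_mono (Set.toFinite _) hsubset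
    have hLpos : 0 < Nat.card {y : G ⧸ R // y ^ n₂ = 1} := by
      have : Nonempty {y : G ⧸ R // y ^ n₂ = 1} := ⟨⟨1, one_pow _⟩⟩
      exact Nat.card_pos
    have hdiv : n ∣ Nat.card R * n₂ := by
      rw [hn₂def, ← Nat.gcd_mul_left]
      apply Nat.dvd_gcd
      · rw [hk]
        obtain ⟨k', rfl⟩ := Nat.exists_eq_succ_of_ne_zero hk0
        rw [pow_succ, mul_assoc, Nat.mul_div_cancel' hpn]
        exact Dvd.intro_left _ rfl
      · rw [mul_comm, ← hcardG]; exact hn
    have hn₂pos : 0 < n₂ := Nat.pos_of_dvd_of_pos hn₂ hQpos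
    have h3 : n ≤ Nat.card R * n₂ := Nat.le_of_dvd (Nat.mul_pos (by omega) hn₂pos) hdiv
    obtain ⟨c, hc⟩ := hfrob
    have hc1 : c = 1 := by
      rcases c with _ | _ | c
      · rw [mul_zero] at hc; omega
      · rfl
      · exfalso
        rw [hc] at hle
        have : Nat.card R * n₂ * 2 ≤ Nat.card R * (n₂ * (c + 1 + 1)) := by
          rw [← mul_assoc]; exact Nat.mul_le_mul_left _ (by omega)
        have h4 : 0 < Nat.card R * n₂ := Nat.mul_pos (by omega) hn₂pos
        omega
    have hLcard : Nat.card {y : G ⧸ R // y ^ n₂ = 1} = n₂ := by rw [hc, hc1, mul_one]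
    have hRn₂ : Nat.card R * n₂ = n := by
      rw [hLcard] at hle; omega
    obtain ⟨Hbar, hHbar⟩ := IH (G ⧸ R) hlt hsolvQ n₂ hn₂ hLcard
    refine ⟨Hbar.comap (QuotientGroup.mk' R), ?_⟩
    have h5 := QuotientGroup.card_preimage_mk R (Hbar : Set (G ⧸ R))
    have h6 : Nat.card ((Hbar : Set (G ⧸ R))) = n₂ := hHbar
    rw [h6, hRn₂] at h5
    exact h5
  · -- p does not divide n
    have hcop : Nat.Coprime (Nat.card R) n := by
      rw [hk]; exact Nat.Coprime.pow_left k ((Nat.Prime.coprime_iff_not_dvd hp).mpr hpn)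
    have hnQ : n ∣ Nat.card (G ⧸ R) := by
      rw [hcardG] at hn
      exact hcop.symm.dvd_of_dvd_mul_right hn
    have hsurj : Nat.card {y : G ⧸ R // y ^ n = 1} ≤ n := by
      refine le_of_le_of_eq ?_ hcount
      have hn2 : 1 < n := by omega
      obtain ⟨u, -, hu⟩ := Nat.exists_mul_mod_eq_one_of_coprime hcop hn2
      let f : {x : G // x ^ n = 1} → {y : G ⧸ R // y ^ n = 1} := fun x =>
        ⟨(x.1 : G ⧸ R), by rw [← QuotientGroup.mk_pow, x.2]; rfl⟩
      apply Nat.card_le_card_of_surjective f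
      rintro ⟨y, hy⟩
      obtain ⟨g, rfl⟩ := QuotientGroup.mk_surjective y
      have hgn : g ^ n ∈ R := by
        rw [← QuotientGroup.eq_one_iff, QuotientGroup.mk_pow]; exact hy
      refine ⟨⟨g ^ (Nat.card R * u), ?_⟩, ?_⟩
      · rw [← pow_mul, mul_comm, pow_mul, pow_mul]
        have : (g ^ n) ^ (Nat.card R) = 1 := by
          have := pow_card_eq_one' (x := (⟨g ^ n, hgn⟩ : R))
          exact congrArg Subtype.val this
        rw [this, one_pow]
      · apply Subtype.ext
        show ((g ^ (Nat.card R * u) : G) : G ⧸ R) = (g : G ⧸ R)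
        rw [QuotientGroup.mk_pow]
        have hE : Nat.card R * u = n * (Nat.card R * u / n) + 1 := by
          have := Nat.div_add_mod (Nat.card R * u) n
          rw [hu] at this
          omega
        rw [hE, pow_succ, pow_mul, hy, one_pow, one_mul]
    have hfrob := frob (G := G ⧸ R) n hnQ
    have hLpos : 0 < Nat.card {y : G ⧸ R // y ^ n = 1} := by
      have : Nonempty {y : G ⧸ R // y ^ n = 1} := ⟨⟨1, one_pow _⟩⟩
      exact Nat.card_pos
    have hLcard : Nat.card {y : G ⧸ R // y ^ n = 1} = n :=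
      le_antisymm hsurj (Nat.le_of_dvd hLpos hfrob)
    obtain ⟨Hbar, hHbar⟩ := IH (G ⧸ R) hlt hsolvQ n hnQ hLcard
    set H := Hbar.comap (QuotientGroup.mk' R) with hH
    have hHcard : Nat.card H = Nat.card R * n := by
      have h5 := QuotientGroup.card_preimage_mk R (Hbar : Set (G ⧸ R))
      have h6 : Nat.card ((Hbar : Set (G ⧸ R))) = n := hHbar
      rw [h6] at h5
      exact h5
    have hRH : R ≤ H := by
      intro r hr
      show QuotientGroup.mk' R r ∈ Hbar
      have : QuotientGroup.mk' R r = 1 := (QuotientGroup.eq_one_iff r).mpr hr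
      rw [this]; exact one_mem _
    have hcardR' : Nat.card (R.subgroupOf H) = Nat.card R :=
      Nat.card_congr (subgroupOfEquivOfLe hRH).toEquiv
    have hHpos : 0 < Nat.card R := by omega
    have hidx : (R.subgroupOf H).index = n := by
      have := Subgroup.card_mul_index (R.subgroupOf H)
      rw [hcardR', hHcard] at this
      exact Nat.eq_of_mul_eq_mul_left hHpos this
    obtain ⟨K', hK'⟩ := Subgroup.exists_right_complement'_of_coprime (N := R.subgroupOf H)
      (by rw [hcardR', hidx]; exact hcop)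
    have hK'card : Nat.card K' = n := by
      have := hK'.card_mul_card
      rw [hcardR', hHcard] at this
      exact Nat.eq_of_mul_eq_mul_left hHpos this
    exact ⟨K'.map H.subtype, by
      rw [Subgroup.card_map_of_injective H.subtype_injective, hK'card]⟩

/-- If `G` is a finite solvable group and `n` divides the order of `G` and exactly `n` elements `x` of `G` satisfy `x^n = 1`, then these elements form a normal subgroup. -/
theorem result {G : Type*} [Group G] [Finite G] [Group.IsSolvable G] (n : ℕ) (hn : n ∣ Nat.card G) (hcount : Nat.card {x : G // x ^ n = 1} = n) : ∃ H : Subgroup G, H.Normal ∧ (H : Set G) = {x : G | x ^ n = 1} := by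
  obtain ⟨H, hH⟩ := exists_subgroup G inferInstance n hn hcount
  exact ⟨H, eq_of_card n H hH hcount⟩

end Cfsg.Agent.S4213
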