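import Cfsg.Statements.S4216
import Cfsg.Agent.Lib.Helper70.Grun

set_option autoImplicit false
open Cfsg

namespace Cfsg.Agent.S4216

open Cfsg.Agent.Lib.Helper70 Subgroup
open scoped commutatorElement

/-- Grün's first Theorem: if `P` is a Sylow `p`-subgroup of the finite group `G`, then `P ∩ G'` is the subgroup generated by `P ∩ N_G(P)'` together with the subgroups `P ∩ z P' z⁻¹` for all `z ∈ G`, where `'` denotes the derived subgroup and `N_G(P)` the normalizer of `P`. -/
theorem result {G : Type*} [Group G] [Finite G] {p : ℕ} [Fact p.Prime] (P : Sylow p G) : (P : Subgroup G) ⊓ commutator G = ((P : Subgroup G) ⊓ ⁅Subgroup.normalizer ((P : Subgroup G) : Set G), Subgroup.normalizer ((P : Subgroup G) : Set G)⁆) ⊔ ⨆ z : G, (P : Subgroup G) ⊓ (⁅(P : Subgroup G), (P : Subgroup G)⁆).map (MulAut.conj z).toMonoidHom := by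
  set D : Subgroup G := ((P : Subgroup G) ⊓ ⁅Subgroup.normalizer ((P : Subgroup G) : Set G), Subgroup.normalizer ((P : Subgroup G) : Set G)⁆) ⊔ ⨆ z : G, (P : Subgroup G) ⊓ (⁅(P : Subgroup G), (P : Subgroup G)⁆).map (MulAut.conj z).toMonoidHom with hD
  apply le_antisymm
  · intro u hu
    have hD1 : (P : Subgroup G) ⊓ ⁅Subgroup.normalizer ((P : Subgroup G) : Set G), Subgroup.normalizer ((P : Subgroup G) : Set G)⁆ ≤ D := le_sup_left
    have hD2 : ∀ z : G, (P : Subgroup G) ⊓ (⁅(P : Subgroup G), (P : Subgroup G)⁆).map (MulAut.conj z).toMonoidHom ≤ D :=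
      fun z => le_sup_of_le_right (le_iSup (fun z : G => (P : Subgroup G) ⊓ (⁅(P : Subgroup G), (P : Subgroup G)⁆).map (MulAut.conj z).toMonoidHom) z)
    have hPD : ⁅(P : Subgroup G), (P : Subgroup G)⁆ ≤ D := by
      refine le_trans ?_ (hD2 1)
      refine le_inf (Subgroup.commutator_le_self _) ?_
      intro a ha
      exact ⟨a, ha, by simp⟩
    have hcomm_le : commutator (P : Subgroup G) ≤ D.subgroupOf (P : Subgroup G) := by
      intro a ha
      rw [mem_subgroupOf]
      apply hPD
      rw [← Subgroup.map_subtype_commutator]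
      exact ⟨a, ha, rfl⟩
    have hN : (D.subgroupOf (P : Subgroup G)).Normal := by
      constructor
      intro n hn g
      have h1 : g * n * g⁻¹ = ⁅g, n⁆ * n := by rw [commutatorElement_def]; group
      rw [h1]
      exact mul_mem (hcomm_le (Subgroup.commutator_mem_commutator (mem_top g) (mem_top n))) hn
    have hcomm : IsMulCommutative ((P : Subgroup G) ⧸ D.subgroupOf (P : Subgroup G)) :=
      Subgroup.Normal.quotient_commutative_iff_commutator_le.mpr hcomm_le
    let _ : CommGroup ((P : Subgroup G) ⧸ D.subgroupOf (P : Subgroup G)) := IsMulCommutative.instCommGroup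
    have key := gr_final P (QuotientGroup.mk' (D.subgroupOf (P : Subgroup G))) ?_ ?_ ⟨u, hu.1⟩ hu.2
    · rw [QuotientGroup.mk'_apply, QuotientGroup.eq_one_iff, mem_subgroupOf] at key
      exact key
    · intro a ha
      rw [QuotientGroup.mk'_apply, QuotientGroup.eq_one_iff, mem_subgroupOf]
      exact hD1 ⟨a.2, ha⟩
    · intro z a ha
      rw [QuotientGroup.mk'_apply, QuotientGroup.eq_one_iff, mem_subgroupOf]
      exact hD2 z ⟨a.2, ha⟩
  · refine sup_le (inf_le_inf_left _ ?_) (iSup_le fun z => inf_le_inf_left _ ?_)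
    · rw [commutator_def]
      exact Subgroup.commutator_mono le_top le_top
    · rw [Subgroup.map_commutator, commutator_def]
      exact Subgroup.commutator_mono le_top le_top

end Cfsg.Agent.S4216
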