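import Cfsg.Statements.S4217
import Cfsg.Agent.Lib.Helper70.Gaschutz

set_option autoImplicit false
open Cfsg

namespace Cfsg.Agent.S4217

open Cfsg.Agent.Lib.Helper70 Subgroup

/-- Let `A` be an abelian normal subgroup of the finite group `G`. Then `A` has a complement in `G` if and only if, for every prime `p` dividing the index of `A`, there are a Sylow `p`-subgroup `S` of `G/A` and a subgroup `K` of `G` with `K ∩ A = 1` and `KA` equal to the preimage of `S` (that is, `A` has a complement in the preimage of a Sylow `p`-subgroup of `G/A`). -/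
theorem result {G : Type*} [Group G] [Finite G] (A : Subgroup G) [A.Normal] (hA : IsMulCommutative A) : (∃ K : Subgroup G, K.IsComplement' A) ↔ ∀ p : ℕ, p.Prime → p ∣ A.index → ∃ (S : Sylow p (G ⧸ A)) (K : Subgroup G), K ⊓ A = ⊥ ∧ K ⊔ A = (S : Subgroup (G ⧸ A)).comap (QuotientGroup.mk' A) := by
  constructor
  · rintro ⟨K, hK⟩ p hp _
    have _ : Fact p.Prime := ⟨hp⟩
    obtain ⟨S⟩ : Nonempty (Sylow p (G ⧸ A)) := inferInstance
    refine ⟨S, K ⊓ (S : Subgroup (G ⧸ A)).comap (QuotientGroup.mk' A), ?_, ?_⟩
    · rw [inf_right_comm, hK.disjoint.eq_bot, bot_inf_eq]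
    · apply le_antisymm
      · refine sup_le inf_le_right ?_
        intro a ha
        rw [mem_comap]
        have : QuotientGroup.mk' A a = 1 := (QuotientGroup.eq_one_iff a).mpr ha
        rw [this]
        exact one_mem _
      · intro g hg
        have hg' : g ∈ (⊤ : Subgroup G) := mem_top g
        rw [← hK.sup_eq_top] at hg'
        obtain ⟨k, hk, a, ha, rfl⟩ := mem_sup_of_normal_right.mp hg'
        have hka : QuotientGroup.mk' A (k * a) = QuotientGroup.mk' A k := by
          have h1 : QuotientGroup.mk' A a = 1 := (QuotientGroup.eq_one_iff a).mpr ha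
          rw [map_mul, h1, mul_one]
        rw [mem_comap, hka] at hg
        exact mul_mem (mem_sup_left ⟨hk, hg⟩) (mem_sup_right ha)
  · intro h
    apply gs_gaschutz A
    intro p hp hpd
    have _ : Fact p.Prime := ⟨hp⟩
    obtain ⟨S, K, h1, h2⟩ := h p hp hpd
    refine ⟨K, _, h1, h2, ?_, ?_⟩
    · rw [index_comap_of_surjective _ (QuotientGroup.mk'_surjective A), index_eq_card A]
      exact Subgroup.index_dvd_card _
    · rw [index_comap_of_surjective _ (QuotientGroup.mk'_surjective A)]
      exact S.not_dvd_index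

end Cfsg.Agent.S4217
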