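import Cfsg.Statements.S4218
import Cfsg.Agent.Lib.Helper76.HH125

set_option autoImplicit false
open Cfsg

namespace Cfsg.Agent.S4218

open Cfsg.Agent.Lib.Helper76 Cfsg.Agent.Lib.Helper55

section
variable {G : Type*} [Group G] (p : ℕ)

/-- the restriction `O_{p',p}(G) → O_p(G / O_{p'}(G))` of the quotient map -/
def phi : ↥(pPrimePCore p G) →* ↥(pCore p (G ⧸ pPrimeCore p G)) :=
  ((QuotientGroup.mk' (pPrimeCore p G)).comp (pPrimePCore p G).subtype).codRestrict
    (pCore p (G ⧸ pPrimeCore p G)) (fun r => r.2)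

theorem phi_coe (r : ↥(pPrimePCore p G)) :
    ((phi p r : ↥(pCore p (G ⧸ pPrimeCore p G))) : G ⧸ pPrimeCore p G) =
      QuotientGroup.mk' (pPrimeCore p G) (r : G) := rfl

theorem mem_pPrimePCore_iff (x : G) :
    x ∈ pPrimePCore p G ↔ QuotientGroup.mk' (pPrimeCore p G) x ∈ pCore p (G ⧸ pPrimeCore p G) :=
  Iff.rfl

theorem phi_surjective : Function.Surjective (phi (G := G) p) := by
  rintro ⟨kb, hk⟩
  obtain ⟨r, rfl⟩ := QuotientGroup.mk'_surjective (pPrimeCore p G) kb
  exact ⟨⟨r, hk⟩, Subtype.ext rfl⟩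

theorem phi_ker : (phi (G := G) p).ker = (pPrimeCore p G).subgroupOf (pPrimePCore p G) := by
  ext r
  rw [MonoidHom.mem_ker, Subgroup.mem_subgroupOf, ← QuotientGroup.eq_one_iff (N := pPrimeCore p G)]
  constructor
  · intro h
    have := congrArg Subtype.val h
    exact this
  · intro h
    exact Subtype.ext h

/-- the induced surjection on the quotient -/
def phiBar : (↥(pPrimePCore p G) ⧸ (pPrimeCore p G).subgroupOf (pPrimePCore p G)) →*
    ↥(pCore p (G ⧸ pPrimeCore p G)) :=
  QuotientGroup.lift _ (phi p) (fun r hr => by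
    have : r ∈ (phi (G := G) p).ker := by rw [phi_ker]; exact hr
    exact this)

theorem phiBar_mk (r : ↥(pPrimePCore p G)) :
    phiBar p (QuotientGroup.mk' ((pPrimeCore p G).subgroupOf (pPrimePCore p G)) r) = phi p r :=
  rfl

theorem phiBar_bijective : Function.Bijective (phiBar (G := G) p) := by
  constructor
  · rw [injective_iff_map_eq_one]
    intro q hq
    obtain ⟨r, rfl⟩ := QuotientGroup.mk'_surjective _ q
    rw [phiBar_mk] at hq
    have : r ∈ (phi (G := G) p).ker := hq
    rw [phi_ker] at this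
    exact (QuotientGroup.eq_one_iff r).2 this
  · intro k
    obtain ⟨r, rfl⟩ := phi_surjective p k
    exact ⟨QuotientGroup.mk' _ r, rfl⟩

theorem mem_frattini_iff (r : ↥(pPrimePCore p G)) :
    QuotientGroup.mk' ((pPrimeCore p G).subgroupOf (pPrimePCore p G)) r ∈
      frattini (↥(pPrimePCore p G) ⧸ (pPrimeCore p G).subgroupOf (pPrimePCore p G)) ↔
    phi p r ∈ frattini ↥(pCore p (G ⧸ pPrimeCore p G)) := by
  let e := MulEquiv.ofBijective (phiBar (G := G) p) (phiBar_bijective p)
  constructor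
  · intro h
    have := frattini_le_comap_frattini_of_surjective (φ := e.toMonoidHom) e.surjective h
    exact this
  · intro h
    have := frattini_le_comap_frattini_of_surjective (φ := e.symm.toMonoidHom) e.symm.surjective h
    rw [Subgroup.mem_comap] at this
    have h2 : e.symm.toMonoidHom (phi p r) =
        QuotientGroup.mk' ((pPrimeCore p G).subgroupOf (pPrimePCore p G)) r := by
      show e.symm (phi p r) = _
      rw [MulEquiv.symm_apply_eq]
      rfl
    rwa [h2] at this

/-- membership in the subgroup `F` of the statement, in terms of the quotient `G / O_{p'}(G)` -/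
theorem mem_F_iff (x : G) :
    x ∈ ((frattini (↥(pPrimePCore p G) ⧸ (pPrimeCore p G).subgroupOf (pPrimePCore p G))).comap
        (QuotientGroup.mk' ((pPrimeCore p G).subgroupOf (pPrimePCore p G)))).map
          (pPrimePCore p G).subtype ↔
    QuotientGroup.mk' (pPrimeCore p G) x ∈
      (frattini ↥(pCore p (G ⧸ pPrimeCore p G))).map (pCore p (G ⧸ pPrimeCore p G)).subtype := by
  constructor
  · rintro ⟨y, hy, rfl⟩
    rw [SetLike.mem_coe, Subgroup.mem_comap, mem_frattini_iff] at hy
    exact ⟨phi p y, hy, rfl⟩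
  · rintro ⟨z, hz, hzx⟩
    have hxR : x ∈ pPrimePCore p G := by
      rw [mem_pPrimePCore_iff, ← hzx]
      exact z.2
    have hphi : phi p ⟨x, hxR⟩ = z := Subtype.ext hzx.symm
    refine ⟨⟨x, hxR⟩, ?_, rfl⟩
    rw [SetLike.mem_coe, Subgroup.mem_comap, mem_frattini_iff, hphi]
    exact hz

end

/-- Let `G` be a finite `p`-solvable group, `N₀ = O_{p'}(G)`, `P₁ = O_{p',p}(G)`, and let `F ≤ P₁` be the preimage of the Frattini subgroup of `P₁/N₀`. Then an element `g` of `G` induces the identity on `P₁/F` by conjugation (that is, `g x g⁻¹ x⁻¹ ∈ F` for all `x ∈ P₁`) if and only if `g ∈ P₁`: the group `G/P₁` acts faithfully on `P₁/F`. -/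
theorem result {G : Type*} [Group G] [Finite G] {p : ℕ} [Fact p.Prime] (hG : Cfsg.IsPSolvable p G) (g : G) : (∀ x ∈ Cfsg.pPrimePCore p G, g * x * g⁻¹ * x⁻¹ ∈ ((frattini (↥(Cfsg.pPrimePCore p G) ⧸ (Cfsg.pPrimeCore p G).subgroupOf (Cfsg.pPrimePCore p G))).comap (QuotientGroup.mk' ((Cfsg.pPrimeCore p G).subgroupOf (Cfsg.pPrimePCore p G)))).map (Cfsg.pPrimePCore p G).subtype) ↔ g ∈ Cfsg.pPrimePCore p G := by
  have hbot : pPrimeCore p (G ⧸ pPrimeCore p G) = ⊥ := pPrimeCore_quotient_eq_bot p
  have hsolv' : IsPSolvable p (G ⧸ pPrimeCore p G) := isPSolvable_quotient _ hG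
  have key := hallHigman_125 hsolv' hbot (QuotientGroup.mk' (pPrimeCore p G) g)
  rw [mem_pPrimePCore_iff, ← key]
  constructor
  · intro h xb hxb
    obtain ⟨x, rfl⟩ := QuotientGroup.mk'_surjective (pPrimeCore p G) xb
    have := (mem_F_iff p _).1 (h x hxb)
    simpa using this
  · intro h x hx
    rw [mem_F_iff]
    have := h (QuotientGroup.mk' (pPrimeCore p G) x) hx
    simpa using this

end Cfsg.Agent.S4218
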