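import Cfsg.Statements.S4219

set_option autoImplicit false
open Cfsg

namespace Cfsg.Agent.S4219

open scoped Pointwise

theorem L {G : Type*} [Group G] [Finite G] {p : ℕ} [Fact p.Prime] (H : Subgroup G) (P : Sylow p H) (g : G)
    (hg : ((P : Subgroup H).map H.subtype).map (MulAut.conj g).toMonoidHom ≤ H) :
    ∃ h ∈ H, h * g ∈ Subgroup.normalizer (((P : Subgroup H).map H.subtype : Subgroup G) : Set G) := by
  set Q := (P : Subgroup H).map H.subtype with hQ
  set Q' := Q.map (MulAut.conj g).toMonoidHom with hQ'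
  have hcard : Nat.card (Q'.subgroupOf H) = Nat.card P := by
    rw [Nat.card_congr (Subgroup.subgroupOfEquivOfLe hg).toEquiv]
    rw [hQ', Subgroup.card_map_of_injective (MulAut.conj g).injective]
    rw [hQ, Subgroup.card_map_of_injective H.subtype_injective]
  let S : Sylow p H := Sylow.ofCard (Q'.subgroupOf H) (hcard.trans P.card_eq_multiplicity)
  obtain ⟨h, hh⟩ := MulAction.exists_smul_eq H S P
  refine ⟨h, h.2, ?_⟩
  rw [Subgroup.mem_normalizer_iff_map_conj_eq]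
  apply Subgroup.eq_of_le_of_card_ge
  · rintro _ ⟨y, hy, rfl⟩
    have h1 : g * y * g⁻¹ ∈ Q' := ⟨y, hy, by simp⟩
    have h2 : g * y * g⁻¹ ∈ H := hg h1
    have h3 : (⟨g * y * g⁻¹, h2⟩ : H) ∈ (S : Subgroup H) := by
      show (⟨g * y * g⁻¹, h2⟩ : H) ∈ Q'.subgroupOf H
      rw [Subgroup.mem_subgroupOf]; exact h1
    have h4 : h * ⟨g * y * g⁻¹, h2⟩ * h⁻¹ ∈ ((h • S : Sylow p H) : Subgroup H) := by
      rw [Sylow.coe_subgroup_smul, Subgroup.mem_pointwise_smul_iff_inv_smul_mem]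
      simp only [MulAut.smul_def, MulAut.conj_inv_apply]
      have : h⁻¹ * (h * ⟨g * y * g⁻¹, h2⟩ * h⁻¹) * h = ⟨g * y * g⁻¹, h2⟩ := by group
      rw [this]; exact h3
    rw [hh] at h4
    refine ⟨_, h4, ?_⟩
    simp [mul_assoc]
  · exact le_of_eq (Subgroup.card_map_of_injective (MulAut.conj _).injective).symm

theorem aux {G : Type*} [Group G] [Finite G] {α : Type*} [MulAction G α] {t : ℕ} (hG : MulAction.IsMultiplyPretransitive G α t) (x : Fin t ↪ α) {p : ℕ} [Fact p.Prime] (H : Subgroup G) (hH : ∀ g : G, g ∈ H ↔ g • x = x) (P : Sylow p H) (a b : Fin t ↪ α) (ha : ∀ i, a i ∈ MulAction.fixedPoints ((P : Subgroup H).map H.subtype) α) (hb : ∀ i, b i ∈ MulAction.fixedPoints ((P : Subgroup H).map H.subtype) α) : ∃ g ∈ Subgroup.normalizer ((((P : Subgroup H).map H.subtype) : Subgroup G) : Set G), g • a = b := by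
  set Q := (P : Subgroup H).map H.subtype with hQ
  have hfix : ∀ c : Fin t ↪ α, (∀ i, c i ∈ MulAction.fixedPoints Q α) → ∀ g : G, g • x = c →
      Q.map (MulAut.conj g⁻¹).toMonoidHom ≤ H := by
    intro c hc g hgc
    rintro _ ⟨y, hy, rfl⟩
    rw [hH]
    have hyc : y • c = c := by
      ext i
      have := hc i
      rw [MulAction.mem_fixedPoints] at this
      exact this ⟨y, hy⟩
    simp only [MulEquiv.coe_toMonoidHom, MulAut.conj_apply, inv_inv]
    rw [mul_smul, mul_smul, hgc, hyc, ← hgc, inv_smul_smul]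
  obtain ⟨g₁, hg₁⟩ := MulAction.exists_smul_eq G x a
  obtain ⟨g₂, hg₂⟩ := MulAction.exists_smul_eq G x b
  obtain ⟨h₁, hh₁, hn₁⟩ := L H P g₁⁻¹ (hfix a ha g₁ hg₁)
  obtain ⟨h₂, hh₂, hn₂⟩ := L H P g₂⁻¹ (hfix b hb g₂ hg₂)
  refine ⟨(h₂ * g₂⁻¹)⁻¹ * (h₁ * g₁⁻¹), Subgroup.mul_mem _ (Subgroup.inv_mem _ hn₂) hn₁, ?_⟩
  rw [hH] at hh₁ hh₂
  rw [mul_smul, mul_smul, ← hg₁, inv_smul_smul, hh₁, mul_inv_rev, inv_inv, mul_smul, inv_smul_eq_iff.mpr hh₂.symm, hg₂]

theorem result {G : Type*} [Group G] [Finite G] {α : Type*} [Fintype α] [MulAction G α] {t : ℕ} (hG : MulAction.IsMultiplyPretransitive G α t) (x : Fin t ↪ α) {p : ℕ} [Fact p.Prime] (P : Sylow p (MulAction.stabilizer G x)) (a b : Fin t ↪ α) (ha : ∀ i, a i ∈ MulAction.fixedPoints ((P : Subgroup (MulAction.stabilizer G x)).map (MulAction.stabilizer G x).subtype) α) (hb : ∀ i, b i ∈ MulAction.fixedPoints ((P : Subgroup (MulAction.stabilizer G x)).map (MulAction.stabilizer G x).subtype)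 α) : ∃ g ∈ Subgroup.normalizer ((((P : Subgroup (MulAction.stabilizer G x)).map (MulAction.stabilizer G x).subtype) : Subgroup G) : Set G), g • a = b :=
  aux hG x (MulAction.stabilizer G x) (fun _ => MulAction.mem_stabilizer_iff) P a b ha hb

end Cfsg.Agent.S4219
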