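import Cfsg.Statements.S4221
import Cfsg.Agent.Lib.Helper61.HM9

set_option autoImplicit false
open Cfsg

namespace Cfsg.Agent.S4221

open Cfsg.Agent.Lib.Helper61.Miller Cfsg.Agent.Lib.Helper61.KAlt Cfsg.Agent.Lib.Helper61.LW
  Cfsg.Agent.Lib.Helper61.HC Cfsg.Agent.Lib.Helper61.HM

theorem card_stab {α : Type*} [Fintype α] [DecidableEq α] (G : Subgroup (Equiv.Perm α))
    (x : Fin 4 ↪ α) :
    Nat.card (MulAction.stabilizer G x) = Nat.card (fixG G {x 0, x 1, x 2, x 3}) := by
  have h1 : (MulAction.stabilizer G x).map G.subtype = fixG G {x 0, x 1, x 2, x 3} := by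
    ext k
    rw [Subgroup.mem_map, mem_fixG]
    constructor
    · rintro ⟨g, hg, rfl⟩
      rw [MulAction.mem_stabilizer_iff] at hg
      refine ⟨g.2, fun a ha => ?_⟩
      simp only [Finset.mem_insert, Finset.mem_singleton] at ha
      have key : ∀ i, (g : Equiv.Perm α) (x i) = x i := by
        intro i
        have := congrArg (fun e : Fin 4 ↪ α => e i) hg
        simpa [Function.Embedding.smul_apply, Subgroup.smul_def, Equiv.Perm.smul_def] using this
      rcases ha with rfl | rfl | rfl | rfl
      · exact key 0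
      · exact key 1
      · exact key 2
      · exact key 3
    · rintro ⟨hkG, hfix⟩
      refine ⟨⟨k, hkG⟩, ?_, rfl⟩
      rw [MulAction.mem_stabilizer_iff]
      ext i
      have e2 : k (x i) = x i := by
        apply hfix
        fin_cases i <;> simp
      simpa [Function.Embedding.smul_apply, Subgroup.smul_def, Equiv.Perm.smul_def] using e2
  rw [← h1, Subgroup.card_map_of_injective G.subtype_injective]

/-- Let `G` be a `4`-fold transitive permutation group on a finite set of `n` points in which the pointwise stabilizer of some four distinct points has odd order. Then `n = 4` or `n = 5` with `G` the full symmetric group, or `n = 6` or `n = 7` with `G` the alternating group, or `n = 11` and `G` has order `7920`. -/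
theorem result {α : Type*} [Fintype α] [DecidableEq α] (G : Subgroup (Equiv.Perm α)) (hG : MulAction.IsMultiplyPretransitive G α 4) (x : Fin 4 ↪ α) (hodd : Odd (Nat.card (MulAction.stabilizer G x))) : ((Fintype.card α = 4 ∨ Fintype.card α = 5) ∧ G = ⊤) ∨ ((Fintype.card α = 6 ∨ Fintype.card α = 7) ∧ G = alternatingGroup α) ∨ (Fintype.card α = 11 ∧ Nat.card G = 7920) := by
  classical
  have hn4 : 4 ≤ Fintype.card α := by
    have := Fintype.card_le_of_embedding x
    simpa using this
  have hE : Ext G 4 := ext_of_pretransitive G 4 hG hn4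
  have hinj : ∀ i j : Fin 4, i ≠ j → x i ≠ x j := fun i j hij h => hij (x.injective h)
  have h01 : x 0 ≠ x 1 := hinj 0 1 (by decide)
  have h02 : x 0 ≠ x 2 := hinj 0 2 (by decide)
  have h03 : x 0 ≠ x 3 := hinj 0 3 (by decide)
  have h12 : x 1 ≠ x 2 := hinj 1 2 (by decide)
  have h13 : x 1 ≠ x 3 := hinj 1 3 (by decide)
  have h23 : x 2 ≠ x 3 := hinj 2 3 (by decide)
  have hΔ : ({x 0, x 1, x 2, x 3} : Finset α).card = 4 := by
    rw [Finset.card_insert_of_notMem, Finset.card_insert_of_notMem, Finset.card_pair h23]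
    · simp [h12, h13]
    · simp [h01, h02, h03]
  rw [card_stab] at hodd
  have hyp : Hyp G := ⟨hE, fun Δ hΔ' => by
    rw [card_fixG_hom (hom_of_ext hE) hΔ' hΔ]; exact hodd⟩
  by_cases h5 : Fintype.card α ≤ 5
  · left
    exact ⟨by omega, ext_top hE (by omega)⟩
  · right
    obtain ⟨s, t, hs, ht, hss, htt, hst, s1, s2, s3, s4, t1, t2, t3, t4⟩ :=
      hyp.exists_four h01 h02 h03 h12 h13 h23
    have C : Conf G s t (x 0) (x 1) (x 2) (x 3) :=
      ⟨h01, h02, h03, h12, h13, h23, hs, ht, hss, htt, hst, s1, s2, s3, s4, t1, t2, t3, t4⟩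
    by_cases h7 : Fintype.card α ≤ 7
    · left
      have hn : Fintype.card α = 6 ∨ Fintype.card α = 7 := by omega
      exact ⟨hn, hyp.small C hn⟩
    · right
      exact C.final hyp (by omega)

end Cfsg.Agent.S4221
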