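import Cfsg.Statements.S4223
import Cfsg.Agent.Lib.Helper70.KRS

set_option autoImplicit false
open Cfsg

namespace Cfsg.Agent.S4223

open Cfsg.Agent.Lib.Helper70

/-- the product over `Fin m` as a product over the subtype of `Finset.univ`. -/
def univPi {ι : Type*} [Fintype ι] (A : ι → Type*) [∀ i, Group (A i)] :
    ((i : ι) → A i) ≃* ((i : (Finset.univ : Finset ι)) → A i) where
  toFun f := fun i => f i.1
  invFun g := fun i => g ⟨i, Finset.mem_univ i⟩
  left_inv _ := rfl
  right_inv _ := rfl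
  map_mul' _ _ := rfl

/-- If a finite group is isomorphic both to a direct product of `m` directly indecomposable nontrivial groups and to a direct product of `n` such groups (a group is directly indecomposable when it is not the internal direct product of two nontrivial normal subgroups), then `m = n` and the factors are isomorphic in pairs after a suitable matching. -/
theorem result {m n : ℕ} {A : Fin m → Type*} {B : Fin n → Type*} [∀ i, Group (A i)] [∀ j, Group (B j)] [∀ i, Finite (A i)] [∀ j, Finite (B j)] (hA : ∀ i, Nontrivial (A i) ∧ ∀ H K : Subgroup (A i), H.Normal → K.Normal → H ⊓ K = ⊥ → H ⊔ K = ⊤ → H = ⊥ ∨ K = ⊥) (hB : ∀ j, Nontrivial (B j) ∧ ∀ H K : Subgroup (B j), H.Normal → K.Normal → H ⊓ K = ⊥ → H ⊔ K = ⊤ → H = ⊥ ∨ K = ⊥) (e : ((i : Fin m) → A i) ≃* ((j : Fin n) → B j)) : ∃ σ : Fin m ≃ Fin n, ∀ i, Nonempty (A i ≃* B (σ i)) := by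
  have e' : (((i : (Finset.univ : Finset (Fin m))) → A i) ≃*
      ((j : (Finset.univ : Finset (Fin n))) → B j)) :=
    ((univPi A).symm.trans e).trans (univPi B)
  obtain ⟨σ, hσ⟩ := krs_finset (A := A) (B := B) hA hB _ Finset.univ Finset.univ rfl e'
  let u1 : (Finset.univ : Finset (Fin m)) ≃ Fin m :=
    ⟨fun i => i.1, fun i => ⟨i, Finset.mem_univ i⟩, fun _ => rfl, fun _ => rfl⟩
  let u2 : (Finset.univ : Finset (Fin n)) ≃ Fin n :=
    ⟨fun i => i.1, fun i => ⟨i, Finset.mem_univ i⟩, fun _ => rfl, fun _ => rfl⟩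
  refine ⟨(u1.symm.trans σ).trans u2, fun i => ?_⟩
  exact hσ ⟨i, Finset.mem_univ i⟩

end Cfsg.Agent.S4223
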