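import Cfsg.Statements.S4230

set_option autoImplicit false
open Cfsg

namespace Cfsg.Agent.S4230

open Polynomial

theorem key (p : ℕ) [hp : Fact p.Prime] (a : ZMod p) (m j : ℕ) (hm : ¬ p ∣ m) :
    (cyclotomic (p ^ j * m) (ZMod p)).eval a = 0 ↔ orderOf a = m := by
  have hne : NeZero ((m : ℕ) : ZMod p) := ⟨by
    intro h
    exact hm ((ZMod.natCast_eq_zero_iff m p).mp h)⟩
  have base : (cyclotomic m (ZMod p)).eval a = 0 ↔ orderOf a = m := by
    have := isRoot_cyclotomic_iff (n := m) (R := ZMod p) (μ := a)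
    rw [IsRoot.def] at this
    rw [this]
    constructor
    · intro h; exact h.eq_orderOf.symm
    · intro h
      rw [← h]
      apply IsPrimitiveRoot.orderOf
  rcases Nat.eq_zero_or_pos j with hj | hj
  · subst hj; simpa using base
  · rw [cyclotomic_mul_prime_pow_eq (ZMod p) hm hj, eval_pow, pow_eq_zero_iff, base]
    have : p ^ (j - 1) < p ^ j := Nat.pow_lt_pow_right hp.out.one_lt (by omega)
    omega

/-- Let p be an odd prime, q a natural number not divisible by p, and e the multiplicative order of q modulo p. For a natural number f, p divides the value at q of the f-th cyclotomic polynomial if and only if f = e·p^j for some j ≥ 0. -/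
theorem result (p q f : ℕ) (hp : p.Prime) (hp2 : p ≠ 2) (hpq : ¬ p ∣ q) :
    ((p : ℤ) ∣ (Polynomial.cyclotomic f ℤ).eval (q : ℤ)) ↔ ∃ j : ℕ, f = orderOf (q : ZMod p) * p ^ j := by
  haveI : Fact p.Prime := ⟨hp⟩
  have hq0 : (q : ZMod p) ≠ 0 := by
    intro h; exact hpq ((ZMod.natCast_eq_zero_iff q p).mp h)
  have hord : orderOf (q : ZMod p) ∣ p - 1 :=
    orderOf_dvd_of_pow_eq_one (ZMod.pow_card_sub_one_eq_one hq0)
  have hp1 : 0 < p - 1 := by have := hp.two_le; omega
  have hepos : 0 < orderOf (q : ZMod p) := Nat.pos_of_dvd_of_pos hord hp1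
  have hele : orderOf (q : ZMod p) ≤ p - 1 := Nat.le_of_dvd hp1 hord
  have hpe : ¬ p ∣ orderOf (q : ZMod p) := by
    intro h
    have := Nat.le_of_dvd hepos h
    omega
  have trans : ((p : ℤ) ∣ (cyclotomic f ℤ).eval (q : ℤ)) ↔ (cyclotomic f (ZMod p)).eval (q : ZMod p) = 0 := by
    rw [← ZMod.intCast_zmod_eq_zero_iff_dvd, ← map_cyclotomic_int f (ZMod p)]
    have := Polynomial.eval_map_apply (p := cyclotomic f ℤ) (Int.castRingHom (ZMod p)) (q : ℤ)
    simp only [eq_intCast, Int.cast_natCast] at this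
    rw [this]
  rw [trans]
  constructor
  · intro h
    rcases Nat.eq_zero_or_pos f with hf | hf
    · subst hf; simp at h
    · obtain ⟨j, m, hm, hfm⟩ := Nat.exists_eq_pow_mul_and_not_dvd hf.ne' p hp.ne_one
      rw [hfm, key p _ m j hm] at h
      exact ⟨j, by rw [hfm, h, mul_comm]⟩
  · rintro ⟨j, hj⟩
    rw [hj, mul_comm, key p _ _ j hpe]

end Cfsg.Agent.S4230
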