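import Cfsg.Statements.S4236
import Cfsg.Agent.Lib.Helper49.TwoPPlusOne

set_option autoImplicit false
open Cfsg

namespace Cfsg.Agent.S4236

open Cfsg.Agent.Lib.Helper49.TwoPPlusOne Cfsg.Agent.Lib.Helper17 Subgroup

/-- No finite group has exactly 35 Sylow 17-subgroups. -/
theorem result {G : Type*} [Group G] [Finite G] : Nat.card (Sylow 17 G) ≠ 35 := by
  intro hG
  have : Fact (Nat.Prime 17) := ⟨by norm_num⟩
  have : Fact (Nat.Prime 7) := ⟨by norm_num⟩
  obtain ⟨H, hHg, hHf, hn17, hodd, ⟨m, hm, hcard⟩, hP17, hC17⟩ :=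
    exists_small 17 (by norm_num) G (by rw [hG])
  -- `m = 1`
  have hm1 : m = 1 := by
    have hmodd : Odd m := by
      rw [hcard] at hodd
      exact (Nat.odd_mul.mp (Nat.odd_mul.mp hodd).2).2
    have hmle : m ∈ Nat.divisors 16 := Nat.mem_divisors.mpr ⟨hm, by norm_num⟩
    have : ∀ d ∈ Nat.divisors 16, Odd d → d = 1 := by decide
    exact this m hmle hmodd
  subst hm1
  have hcard' : Nat.card H = 595 := by rw [hcard]
  obtain ⟨P⟩ : Nonempty (Sylow 17 H) := inferInstance
  -- Sylow 7
  have h7 : Nat.card H = 7 ^ 1 * 85 := by rw [hcard']; norm_num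
  have hQcard : ∀ Q : Sylow 7 H, Nat.card ↥(Q : Subgroup H) = 7 := fun Q => by
    simpa using card_sylow_of_card_eq Q h7 (by norm_num)
  have hdvd : Nat.card (Sylow 7 H) ∣ 85 := card_sylow_dvd_of_card_eq h7 (by norm_num)
  have hmod : Nat.card (Sylow 7 H) % 7 = 1 := card_sylow_modEq_one 7 H
  have hcases : ∀ d ∈ Nat.divisors 85, d % 7 = 1 → d = 1 ∨ d = 85 := by decide
  rcases hcases _ (Nat.mem_divisors.mpr ⟨hdvd, by norm_num⟩) hmod with h1 | h85
  · -- normal Sylow 7-subgroup
    obtain ⟨Q⟩ : Nonempty (Sylow 7 H) := inferInstance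
    have hPQ := le_normalizer_of_card_sylow_eq_one h1 Q (P : Subgroup H)
    have := card_modEq_one_of_normalizes P (hP17 P) (hC17 P) (Q : Subgroup H) hPQ
      (by rw [hQcard Q]; norm_num)
    rw [hQcard Q] at this
    exact absurd this (by decide)
  · -- too many elements
    have c7 := card_orderOf_eq_prime (p := 7) hQcard
    have c17 := card_orderOf_eq_prime (p := 17) hP17
    have hle := card_orderOf_add_le (H := H) 7 17 (by norm_num)
    rw [c7, c17, h85, hn17, hcard'] at hle
    omega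

end Cfsg.Agent.S4236
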