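import Cfsg.Statements.S4237
import Cfsg.Agent.Lib.Helper70.Kulakoff4
import Cfsg.Agent.Lib.Helper70.Kulakoff6

set_option autoImplicit false
open Cfsg

namespace Cfsg.Agent.S4237

/-- Let G be a finite group, p a prime and a a natural number such that p^(a+1) divides the order of G. Then the number of subgroups of G of order p^a is congruent to 1 or to 1 + p modulo p². -/
theorem result {G : Type*} [Group G] [Finite G] (p a : ℕ) (hp : p.Prime) (hdvd : p ^ (a + 1) ∣ Nat.card G) :
    Nat.card {H : Subgroup G // Nat.card H = p ^ a} ≡ 1 [MOD p ^ 2] ∨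
      Nat.card {H : Subgroup G // Nat.card H = p ^ a} ≡ 1 + p [MOD p ^ 2] := by
  have : Fact p.Prime := ⟨hp⟩
  by_cases h2 : p = 2
  · subst h2
    have hd : 2 ^ a ∣ Nat.card G := dvd_trans (pow_dvd_pow 2 (Nat.le_succ a)) hdvd
    have h := Cfsg.Agent.Lib.Helper66.card_subgroups_modEq_one (G := G) 2 a hd
    unfold Nat.ModEq at h ⊢
    omega
  · have hpos : Nat.card G ≠ 0 := Nat.card_pos.ne'
    set n := (Nat.card G).factorization p with hn
    have han : a + 1 ≤ n := (hp.pow_dvd_iff_le_factorization hpos).mp hdvd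
    obtain ⟨k, hk⟩ : ∃ k, n = k + 1 := ⟨n - 1, by omega⟩
    let P : Sylow p G := default
    have hP : Nat.card (P : Subgroup G) = p ^ (k + 1) := by
      rw [Sylow.card_eq_multiplicity, ← hn, hk]
    have hmax : ¬ p ^ (k + 1 + 1) ∣ Nat.card G := by
      rw [← hk, hn]
      exact Nat.pow_succ_factorization_not_dvd hpos hp
    have h1 := Cfsg.Agent.Lib.Helper70.kk_sylow_reduction (a := a) (P : Subgroup G) hP hmax (by omega)
    rcases Cfsg.Agent.Lib.Helper70.kk_pgroup_all p h2 (P := (P : Subgroup G)) hP (a := a) (by omega) with h | h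
    · left; exact h1.trans h
    · right; exact h1.trans h

end Cfsg.Agent.S4237
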