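import Cfsg.Statements.S4238
import Cfsg.Agent.S0071
import Cfsg.Agent.Lib.Helper55.Cores

set_option autoImplicit false
set_option linter.unusedSectionVars false
set_option linter.style.haveILetI false
open Cfsg
open scoped commutatorElement

namespace Cfsg.Agent.S4238

open Cfsg.Agent.Lib.Helper55

/-- A finite `p`-group has an element whose order is the exponent. -/
theorem exists_orderOf_eq_exponent_of_isPGroup {K : Type*} [Group K] [Finite K] (p : ℕ)
    [hp : Fact p.Prime] (h : IsPGroup p K) : ∃ k : K, orderOf k = Monoid.exponent K := by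
  obtain ⟨k, hk⟩ := Finite.exists_max (fun x : K => orderOf x)
  refine ⟨k, Nat.dvd_antisymm (Monoid.order_dvd_exponent k) ?_⟩
  apply Monoid.exponent_dvd_of_forall_pow_eq_one
  intro x
  obtain ⟨i, hi⟩ := (IsPGroup.iff_orderOf.mp h) x
  obtain ⟨j, hj⟩ := (IsPGroup.iff_orderOf.mp h) k
  have hle : orderOf x ≤ orderOf k := hk x
  rw [hi, hj] at hle
  have hij : i ≤ j := (Nat.pow_le_pow_iff_right hp.out.one_lt).mp hle
  have : orderOf x ∣ orderOf k := by rw [hi, hj]; exact pow_dvd_pow p hij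
  exact orderOf_dvd_iff_pow_eq_one.mp this

/-- Core: a group `K = A ⋊ ⟨y⟩` with `A` an abelian normal `p`-subgroup, `y` a `p'`-element
with `C_A(y) = 1`, `A ≠ 1`, has no element whose order is the exponent. -/
theorem core {K : Type*} [Group K] [Finite K] (p : ℕ) [hp : Fact p.Prime] (A : Subgroup K)
    [hAn : A.Normal] (hAc : ∀ a ∈ A, ∀ b ∈ A, a * b = b * a) (hAp : IsPGroup p A) (hA1 : A ≠ ⊥)
    (y : K) (hy : (orderOf y).Coprime p) (hsup : A ⊔ Subgroup.zpowers y = ⊤)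
    (hfix : ∀ a ∈ A, a * y = y * a → a = 1) :
    ¬ ∃ k : K, orderOf k = Monoid.exponent K := by
  rintro ⟨k, hk⟩
  set n := orderOf y with hn
  obtain ⟨m, hm⟩ := IsPGroup.iff_card.mp hAp
  have hcop : (Nat.card A).Coprime n := by
    rw [hm]; exact (Nat.Coprime.pow_left m hy.symm)
  -- |K| divides |A| * n
  have hcardK : Nat.card K ∣ Nat.card A * n := by
    have h1 := card_sup_dvd_mul (Subgroup.zpowers y) A
    rw [sup_comm, hsup, Subgroup.card_top, Nat.card_zpowers, mul_comm] at h1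
    exact h1
  have hquot : Nat.card (K ⧸ A) ∣ n := by
    have h2 := Subgroup.card_eq_card_quotient_mul_card_subgroup A
    rw [h2, mul_comm] at hcardK
    exact Nat.dvd_of_mul_dvd_mul_left Nat.card_pos hcardK
  have hkn : k ^ n ∈ A := by
    have h3 : (QuotientGroup.mk k : K ⧸ A) ^ n = 1 := by
      obtain ⟨c, hc⟩ := hquot
      rw [hc, pow_mul, pow_card_eq_one', one_pow]
    rw [← QuotientGroup.mk_pow] at h3
    exact (QuotientGroup.eq_one_iff _).mp h3
  -- p divides the exponent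
  have hpE : p ∣ Monoid.exponent K := by
    obtain ⟨a, ha, ha1⟩ : ∃ a ∈ A, a ≠ 1 := by
      by_contra hcon
      push Not at hcon
      exact hA1 ((Subgroup.eq_bot_iff_forall A).mpr hcon)
    obtain ⟨j, hj⟩ := (IsPGroup.iff_orderOf.mp hAp) ⟨a, ha⟩
    rw [Subgroup.orderOf_mk] at hj
    have hj0 : j ≠ 0 := by
      rintro rfl
      rw [pow_zero, orderOf_eq_one_iff] at hj
      exact ha1 hj
    have : p ∣ orderOf a := by rw [hj]; exact dvd_pow_self p hj0
    exact this.trans (Monoid.order_dvd_exponent a)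
  have hnE : n ∣ Monoid.exponent K := Monoid.order_dvd_exponent y
  have hb1 : k ^ n ≠ 1 := by
    intro hb
    have h4 : orderOf k ∣ n := orderOf_dvd_of_pow_eq_one hb
    rw [hk] at h4
    have : p ∣ n := hpE.trans h4
    have h5 := Nat.Coprime.eq_one_of_dvd hy.symm this
    exact hp.out.one_lt.ne' h5
  -- T = A ⊔ ⟨k⟩ = ⊤
  have hT : A ⊔ Subgroup.zpowers k = ⊤ := by
    apply Subgroup.eq_top_of_card_eq
    apply Nat.dvd_antisymm (Subgroup.card_subgroup_dvd_card _)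
    refine hcardK.trans ?_
    apply Nat.Coprime.mul_dvd_of_dvd_of_dvd hcop
    · exact Subgroup.card_dvd_of_le le_sup_left
    · have h6 : Nat.card (Subgroup.zpowers k) ∣ Nat.card (A ⊔ Subgroup.zpowers k : Subgroup K) :=
        Subgroup.card_dvd_of_le le_sup_right
      rw [Nat.card_zpowers, hk] at h6
      exact hnE.trans h6
  have hcent : A ⊔ Subgroup.zpowers k ≤ Subgroup.centralizer {k ^ n} := by
    apply sup_le
    · intro a ha
      rw [Subgroup.mem_centralizer_singleton_iff]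
      exact hAc a ha _ hkn
    · rw [Subgroup.zpowers_le]
      rw [Subgroup.mem_centralizer_singleton_iff]
      rw [← pow_succ', ← pow_succ]
  have hyc : y ∈ Subgroup.centralizer {k ^ n} := by
    apply hcent
    rw [hT]; exact Subgroup.mem_top y
  rw [Subgroup.mem_centralizer_singleton_iff] at hyc
  exact hb1 (hfix _ hkn hyc.symm)

/-- The core lemma transferred to a quotient by a normal `p'`-subgroup. -/
theorem core_quot {X : Type*} [Group X] [Finite X] (p : ℕ) [hp : Fact p.Prime] (A : Subgroup X)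
    [hAn : A.Normal] (hAc : ∀ a ∈ A, ∀ b ∈ A, a * b = b * a) (hAp : IsPGroup p A) (hA1 : A ≠ ⊥)
    (y : X) (hy : (orderOf y).Coprime p) (hsup : A ⊔ Subgroup.zpowers y = ⊤)
    (hfix : ∀ a ∈ A, a * y = y * a → a = 1)
    (L : Subgroup X) [hLn : L.Normal] (hL : (Nat.card L).Coprime p) :
    ¬ ∃ k : X ⧸ L, orderOf k = Monoid.exponent (X ⧸ L) := by
  have hsurj : Function.Surjective (QuotientGroup.mk' L) := QuotientGroup.mk'_surjective L
  have hAL : A ⊓ L = ⊥ := by
    apply Disjoint.eq_bot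
    apply Subgroup.disjoint_of_coprime_natCard
    obtain ⟨m, hm⟩ := IsPGroup.iff_card.mp hAp
    rw [hm]
    exact Nat.Coprime.pow_left m hL.symm
  haveI : (A.map (QuotientGroup.mk' L)).Normal := hAn.map _ hsurj
  apply core p (A.map (QuotientGroup.mk' L)) ?_ (hAp.map _) ?_ (QuotientGroup.mk' L y) ?_ ?_ ?_
  · rintro _ ⟨a, ha, rfl⟩ _ ⟨b, hb, rfl⟩
    rw [← map_mul, ← map_mul, hAc a ha b hb]
  · intro hbot
    apply hA1
    rw [eq_bot_iff, ← hAL]
    refine le_inf le_rfl ?_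
    intro a ha
    have h1 : QuotientGroup.mk' L a ∈ A.map (QuotientGroup.mk' L) := Subgroup.mem_map_of_mem _ ha
    rw [hbot, Subgroup.mem_bot] at h1
    exact (QuotientGroup.eq_one_iff a).mp h1
  · exact Nat.Coprime.coprime_dvd_left (orderOf_map_dvd _ y) hy
  · rw [← MonoidHom.map_zpowers, ← Subgroup.map_sup, hsup]
    exact Subgroup.map_top_of_surjective _ hsurj
  · rintro _ ⟨a, ha, rfl⟩ hcomm
    have hc : (y * a)⁻¹ * (a * y) ∈ A ⊓ L := by
      refine ⟨?_, ?_⟩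
      · have : (y * a)⁻¹ * (a * y) = a⁻¹ * (y⁻¹ * a * y⁻¹⁻¹) := by group
        rw [this]
        exact A.mul_mem (A.inv_mem ha) (hAn.conj_mem a ha y⁻¹)
      · apply (QuotientGroup.eq_one_iff _).mp
        have h2 : (QuotientGroup.mk' L (y * a))⁻¹ * (QuotientGroup.mk' L (a * y)) = 1 := by
          rw [map_mul, map_mul, hcomm, inv_mul_cancel]
        rw [← map_inv, ← map_mul] at h2
        exact h2
    rw [hAL, Subgroup.mem_bot, inv_mul_eq_one] at hc
    rw [hfix a ha hc.symm, map_one]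

/-- `C_A(y) = 1` from `A = [A, y]` for an abelian normal subgroup `A`. -/
theorem fix_trivial {X : Type*} [Group X] [Finite X] (A : Subgroup X) [hAn : A.Normal]
    (hAc : ∀ a ∈ A, ∀ b ∈ A, a * b = b * a) (y : X)
    (hgen : ∀ a ∈ A, a ∈ Subgroup.closure {x | ∃ b ∈ A, x = ⁅b, y⁆}) :
    ∀ a ∈ A, a * y = y * a → a = 1 := by
  have hmem : ∀ a ∈ A, ⁅a, y⁆ ∈ A := by
    intro a ha
    rw [commutatorElement_def, mul_assoc, mul_assoc, ← mul_assoc y]
    exact A.mul_mem ha (hAn.conj_mem _ (A.inv_mem ha) y)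
  have hconj : ∀ a ∈ A, y * a⁻¹ * y⁻¹ ∈ A := fun a ha => hAn.conj_mem _ (A.inv_mem ha) y
  let φ : ↥A →* ↥A := MonoidHom.mk' (fun a => ⟨⁅a.1, y⁆, hmem a.1 a.2⟩) (by
    intro a b
    apply Subtype.ext
    change ⁅a.1 * b.1, y⁆ = ⁅a.1, y⁆ * ⁅b.1, y⁆
    have h1 : ⁅a.1 * b.1, y⁆ = a.1 * (⁅b.1, y⁆ * (y * a.1⁻¹ * y⁻¹)) := by
      simp only [commutatorElement_def]; group
    have h2 : ⁅a.1, y⁆ * ⁅b.1, y⁆ = a.1 * ((y * a.1⁻¹ * y⁻¹) * ⁅b.1, y⁆) := by
      simp only [commutatorElement_def]; group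
    rw [h1, h2, hAc _ (hmem b.1 b.2) _ (hconj a.1 a.2)])
  have hφ : ∀ a : ↥A, (φ a : X) = ⁅a.1, y⁆ := fun a => rfl
  have hsurj : Function.Surjective φ := by
    intro x
    have hx := hgen x.1 x.2
    have hle : Subgroup.closure {x | ∃ b ∈ A, x = ⁅b, y⁆} ≤ (φ.range).map A.subtype := by
      rw [Subgroup.closure_le]
      rintro _ ⟨b, hb, rfl⟩
      exact ⟨φ ⟨b, hb⟩, ⟨⟨b, hb⟩, rfl⟩, rfl⟩
    obtain ⟨z, ⟨w, rfl⟩, hz⟩ := hle hx
    exact ⟨w, Subtype.ext hz⟩
  have hinj : Function.Injective φ := Finite.injective_iff_surjective.mpr hsurj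
  intro a ha hcomm
  have h1 : φ ⟨a, ha⟩ = φ 1 := by
    apply Subtype.ext
    rw [hφ, hφ]
    change ⁅a, y⁆ = ⁅(1 : X), y⁆
    rw [commutatorElement_one_left, commutatorElement_eq_one_iff_mul_comm]
    exact hcomm
  have h2 := hinj h1
  exact congrArg Subtype.val h2

/-- The bad section inside `H = Q ⋊ ⟨y⟩`. -/
theorem sect.{u} {H : Type u} [Group H] [Finite H] (p : ℕ) [hp : Fact p.Prime] (Q : Subgroup H)
    [hQn : Q.Normal] (hQp : IsPGroup p Q) (hQ1 : Q ≠ ⊥) (y : H) (hy : (orderOf y).Coprime p)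
    (hsup : Q ⊔ Subgroup.zpowers y = ⊤)
    (hgen : ∀ a ∈ Q, a ∈ Subgroup.closure {x | ∃ b ∈ Q, x = ⁅b, y⁆})
    (hyp : ∀ (K : Type u) [Group K] (f : H →* K), Function.Surjective f →
      Cfsg.pPrimeCore p K = ⊥ → ∃ k : K, orderOf k = Monoid.exponent K) : False := by
  haveI hMn : (⁅Q, Q⁆ : Subgroup H).Normal := Subgroup.commutator_normal Q Q
  have hsurj : Function.Surjective (QuotientGroup.mk' ⁅Q, Q⁆) := QuotientGroup.mk'_surjective _
  have hMlt : ⁅Q, Q⁆ < Q := by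
    haveI : Nontrivial ↥Q := (Subgroup.nontrivial_iff_ne_bot Q).mpr hQ1
    haveI : Group.IsNilpotent ↥Q := hQp.isNilpotent
    have h1 := Group.IsSolvable.commutator_lt_top_of_nontrivial ↥Q
    rw [← Subgroup.map_subtype_lt_map_subtype, Subgroup.map_subtype_commutator,
      ← MonoidHom.range_eq_map, Subgroup.range_subtype] at h1
    exact h1
  haveI hAn : (Q.map (QuotientGroup.mk' ⁅Q, Q⁆)).Normal := hQn.map _ hsurj
  have hAc : ∀ a ∈ Q.map (QuotientGroup.mk' ⁅Q, Q⁆), ∀ b ∈ Q.map (QuotientGroup.mk' ⁅Q, Q⁆),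
      a * b = b * a := by
    rintro _ ⟨a, ha, rfl⟩ _ ⟨b, hb, rfl⟩
    rw [← map_mul, ← map_mul]
    apply (QuotientGroup.eq).mpr
    have : (a * b)⁻¹ * (b * a) = ⁅b⁻¹, a⁻¹⁆ := by rw [commutatorElement_def]; group
    rw [this]
    exact Subgroup.commutator_mem_commutator (Q.inv_mem hb) (Q.inv_mem ha)
  have hA1 : Q.map (QuotientGroup.mk' ⁅Q, Q⁆) ≠ ⊥ := by
    intro hbot
    rw [Subgroup.map_eq_bot_iff, QuotientGroup.ker_mk'] at hbot
    exact absurd hMlt (not_lt_of_ge hbot)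
  have hy' : (orderOf (QuotientGroup.mk' ⁅Q, Q⁆ y)).Coprime p :=
    Nat.Coprime.coprime_dvd_left (orderOf_map_dvd _ y) hy
  have hsup' : Q.map (QuotientGroup.mk' ⁅Q, Q⁆) ⊔ Subgroup.zpowers (QuotientGroup.mk' ⁅Q, Q⁆ y) = ⊤ := by
    rw [← MonoidHom.map_zpowers, ← Subgroup.map_sup, hsup]
    exact Subgroup.map_top_of_surjective _ hsurj
  have hgen' : ∀ a ∈ Q.map (QuotientGroup.mk' ⁅Q, Q⁆), a ∈ Subgroup.closure
      {x | ∃ b ∈ Q.map (QuotientGroup.mk' ⁅Q, Q⁆), x = ⁅b, QuotientGroup.mk' ⁅Q, Q⁆ y⁆} := by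
    rintro _ ⟨a, ha, rfl⟩
    have h1 := Subgroup.mem_map_of_mem (QuotientGroup.mk' ⁅Q, Q⁆) (hgen a ha)
    rw [MonoidHom.map_closure] at h1
    refine Subgroup.closure_mono ?_ h1
    rintro _ ⟨_, ⟨b, hb, rfl⟩, rfl⟩
    exact ⟨_, Subgroup.mem_map_of_mem _ hb, map_commutatorElement _ _ _⟩
  have hfix := fix_trivial (Q.map (QuotientGroup.mk' ⁅Q, Q⁆)) hAc _ hgen'
  haveI hLn : (Cfsg.pPrimeCore p (H ⧸ ⁅Q, Q⁆)).Normal := pPrimeCore_normal' p
  have hbad := core_quot p (Q.map (QuotientGroup.mk' ⁅Q, Q⁆)) hAc (hQp.map _) hA1 _ hy' hsup' hfix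
    (Cfsg.pPrimeCore p (H ⧸ ⁅Q, Q⁆)) (pPrimeCore_card_coprime p)
  apply hbad
  apply hyp _ ((QuotientGroup.mk' (Cfsg.pPrimeCore p (H ⧸ ⁅Q, Q⁆))).comp (QuotientGroup.mk' ⁅Q, Q⁆))
  · exact (QuotientGroup.mk'_surjective _).comp hsurj
  · exact pPrimeCore_quotient_eq_bot p

/-- A minimal `y`-invariant `p`-subgroup `Q` not centralised by the `p'`-element `y`
satisfies `Q = [Q, y]`. -/
theorem gen_of_minimal {G : Type*} [Group G] [Finite G] (p : ℕ) [hp : Fact p.Prime] (y : G)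
    (hy : (orderOf y).Coprime p) (Q : Subgroup G) (hQp : IsPGroup p Q)
    (hyN : y ∈ Subgroup.normalizer (Q : Set G)) (hyC : y ∉ Subgroup.centralizer (Q : Set G))
    (hmin : ∀ R : Subgroup G, R < Q → y ∈ Subgroup.normalizer (R : Set G) →
      y ∈ Subgroup.centralizer (R : Set G)) :
    ∀ a ∈ Q, a ∈ Subgroup.closure {x | ∃ b ∈ Q, x = ⁅b, y⁆} := by
  set R := Subgroup.closure {x | ∃ b ∈ Q, x = ⁅b, y⁆} with hR
  have hconj : ∀ a ∈ Q, y * a * y⁻¹ ∈ Q := fun a ha => (Subgroup.mem_normalizer_iff.mp hyN a).mp ha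
  have hconj' : ∀ a ∈ Q, y⁻¹ * a * y ∈ Q :=
    fun a ha => (Subgroup.mem_normalizer_iff''.mp hyN a).mp ha
  have hRQ : R ≤ Q := by
    rw [hR, Subgroup.closure_le]
    rintro _ ⟨b, hb, rfl⟩
    rw [commutatorElement_def, mul_assoc, mul_assoc, ← mul_assoc y]
    exact Q.mul_mem hb (hconj _ (Q.inv_mem hb))
  by_contra hcon
  have hlt : R < Q := by
    refine lt_of_le_of_ne hRQ ?_
    intro heq
    apply hcon
    intro a ha
    rw [heq]; exact ha
  -- y normalises R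
  have hyR : y ∈ Subgroup.normalizer (R : Set G) := by
    have key : ∀ z : G, (∀ a ∈ Q, z * a * z⁻¹ ∈ Q) → z * y = y * z → ∀ h ∈ R, z * h * z⁻¹ ∈ R := by
      intro z hz hzy h hh
      have hmap : R.map (MulAut.conj z).toMonoidHom ≤ R := by
        rw [hR, MonoidHom.map_closure, Subgroup.closure_le]
        rintro _ ⟨_, ⟨b, hb, rfl⟩, rfl⟩
        apply Subgroup.subset_closure
        refine ⟨z * b * z⁻¹, hz b hb, ?_⟩
        change z * ⁅b, y⁆ * z⁻¹ = ⁅z * b * z⁻¹, y⁆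
        have hy2 : y = z * y * z⁻¹ := by rw [hzy]; group
        conv_rhs => rw [hy2]
        simp only [commutatorElement_def]; group
      exact hmap ⟨h, hh, rfl⟩
    rw [Subgroup.mem_normalizer_iff]
    intro h
    constructor
    · exact key y hconj rfl h
    · intro hh
      have := key y⁻¹ (fun a ha => by simpa using hconj' a ha) (by group) _ hh
      simpa [mul_assoc] using this
  have hyCR := hmin R hlt hyR
  apply hyC
  rw [Subgroup.mem_centralizer_iff]
  intro a ha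
  have hcR : ⁅a, y⁆ ∈ R := Subgroup.subset_closure ⟨a, ha, rfl⟩
  have hcy : ⁅a, y⁆ * y = y * ⁅a, y⁆ := (Subgroup.mem_centralizer_iff.mp hyCR) _ hcR
  have h1 : a * y * a⁻¹ = ⁅a, y⁆ * y := by rw [commutatorElement_def]; group
  have h2 : (a * y * a⁻¹) ^ orderOf y = 1 := by rw [conj_pow, pow_orderOf_eq_one]; group
  rw [h1, (show Commute ⁅a, y⁆ y from hcy).mul_pow, pow_orderOf_eq_one, mul_one] at h2
  have h3 : orderOf ⁅a, y⁆ ∣ orderOf y := orderOf_dvd_of_pow_eq_one h2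
  obtain ⟨j, hj⟩ := (IsPGroup.iff_orderOf.mp hQp) ⟨⁅a, y⁆, hRQ hcR⟩
  rw [Subgroup.orderOf_mk] at hj
  have h4 : orderOf ⁅a, y⁆ = 1 :=
    Nat.eq_one_of_dvd_coprimes (Nat.Coprime.pow_right j hy) h3 (by rw [hj])
  rw [orderOf_eq_one_iff, commutatorElement_eq_one_iff_mul_comm] at h4
  exact h4

theorem hyp_of_surjective.{u} {H : Type u} [Group H] [Finite H] (p : ℕ) [Fact p.Prime]
    (hyp : ∀ (N : Subgroup H) [N.Normal], Cfsg.pPrimeCore p (H ⧸ N) = ⊥ →
      ∃ k : H ⧸ N, orderOf k = Monoid.exponent (H ⧸ N))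
    (K : Type u) [Group K] (f : H →* K) (hf : Function.Surjective f)
    (hK : Cfsg.pPrimeCore p K = ⊥) : ∃ k : K, orderOf k = Monoid.exponent K := by
  let e : H ⧸ f.ker ≃* K := QuotientGroup.quotientKerEquivOfSurjective f hf
  have hbot : Cfsg.pPrimeCore p (H ⧸ f.ker) = ⊥ := by
    haveI hLn : (Cfsg.pPrimeCore p (H ⧸ f.ker)).Normal := pPrimeCore_normal' p
    haveI : ((Cfsg.pPrimeCore p (H ⧸ f.ker)).map e.toMonoidHom).Normal :=
      hLn.map _ e.surjective
    have h1 : (Cfsg.pPrimeCore p (H ⧸ f.ker)).map e.toMonoidHom ≤ Cfsg.pPrimeCore p K := by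
      apply le_pPrimeCore
      exact Nat.Coprime.coprime_dvd_left (Subgroup.card_map_dvd _ _) (pPrimeCore_card_coprime p)
    rw [hK, le_bot_iff] at h1
    exact (Subgroup.map_eq_bot_iff_of_injective _ (f := e.toMonoidHom) e.injective).mp h1
  obtain ⟨k, hk⟩ := hyp f.ker hbot
  exact ⟨e k, by rw [MulEquiv.orderOf_eq, hk, Monoid.exponent_eq_of_mulEquiv e]⟩

/-- Let G be a finite group and p a prime. Then G has a normal p-complement if and only if every section K = H/N of G (N a normal subgroup of a subgroup H) whose largest normal subgroup of order prime to p is trivial contains an element whose order equals the exponent of K. -/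
theorem result {G : Type*} [Group G] [Finite G] (p : ℕ) [Fact p.Prime] :
    Cfsg.HasNormalPComplement p G ↔
      ∀ (H : Subgroup G) (N : Subgroup H) [N.Normal], Cfsg.pPrimeCore p (H ⧸ N) = ⊥ →
        ∃ k : H ⧸ N, orderOf k = Monoid.exponent (H ⧸ N) := by
  have hp : Fact p.Prime := inferInstance
  constructor
  · rintro ⟨P, N, hNn, hc⟩ H N₁ _ hbot
    haveI := hNn
    have hNcop : (Nat.card N).Coprime p := by
      have h2 : Nat.card N = (P : Subgroup G).index := hc.index_eq_card.symm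
      rw [h2]
      exact (Nat.Coprime.symm ((Nat.Prime.coprime_iff_not_dvd hp.out).mpr P.not_dvd_index))
    obtain ⟨k, hk⟩ : ∃ k, N.index = p ^ k := by
      have h3 := hc.symm.index_eq_card
      obtain ⟨k, hk⟩ := IsPGroup.iff_card.mp P.isPGroup'
      exact ⟨k, by rw [h3, hk]⟩
    haveI hNHn : (N.subgroupOf H).Normal := inferInstance
    have hNHc : (Nat.card (N.subgroupOf H)).Coprime p := by
      have h4 : Nat.card (N.subgroupOf H) = Nat.card (N ⊓ H : Subgroup G) := by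
        rw [← Subgroup.inf_subgroupOf_right]
        exact Nat.card_congr (Subgroup.subgroupOfEquivOfLe inf_le_right).toEquiv
      rw [h4]
      exact Nat.Coprime.coprime_dvd_left (Subgroup.card_dvd_of_le inf_le_left) hNcop
    have hsurj : Function.Surjective (QuotientGroup.mk' N₁) := QuotientGroup.mk'_surjective N₁
    haveI : ((N.subgroupOf H).map (QuotientGroup.mk' N₁)).Normal := hNHn.map _ hsurj
    have h5 : (N.subgroupOf H).map (QuotientGroup.mk' N₁) ≤ Cfsg.pPrimeCore p (H ⧸ N₁) := by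
      apply le_pPrimeCore
      exact Nat.Coprime.coprime_dvd_left (Subgroup.card_map_dvd _ _) hNHc
    rw [hbot, le_bot_iff, Subgroup.map_eq_bot_iff, QuotientGroup.ker_mk'] at h5
    have hpg : IsPGroup p (H ⧸ N₁) := by
      apply IsPGroup.of_card_dvd_pow (n := k)
      rw [← hk, ← Subgroup.index_eq_card]
      refine (Subgroup.index_dvd_of_le h5).trans ?_
      exact Subgroup.relIndex_dvd_index_of_normal N H
    exact exists_orderOf_eq_exponent_of_isPGroup p hpg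
  · intro hyp
    by_contra hnot
    obtain ⟨P⟩ : Nonempty (Sylow p G) := inferInstance
    have hF := Cfsg.Agent.S0071.result P
    have h1 : ¬ ∃ N : Subgroup G, N.Normal ∧ N.IsComplement' (P : Subgroup G) := by
      rintro ⟨N, hN, hc⟩; exact hnot ⟨P, N, hN, hc⟩
    rw [hF] at h1
    push Not at h1
    obtain ⟨Q₀, hQ₀P, y, hyN₀, hy, hyC₀⟩ := h1
    let 𝒮 : Set (Subgroup G) := {R | IsPGroup p R ∧ y ∈ Subgroup.normalizer (R : Set G) ∧
      y ∉ Subgroup.centralizer (R : Set G)}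
    have hne : 𝒮.Nonempty := ⟨Q₀, P.isPGroup'.to_le hQ₀P, hyN₀, hyC₀⟩
    obtain ⟨Q, hQ⟩ := (Set.toFinite 𝒮).exists_minimal hne
    obtain ⟨hQp, hyN, hyC⟩ := hQ.prop
    have hmin : ∀ R : Subgroup G, R < Q → y ∈ Subgroup.normalizer (R : Set G) →
        y ∈ Subgroup.centralizer (R : Set G) := by
      intro R hlt hRN
      by_contra hRC
      have hR𝒮 : R ∈ 𝒮 := ⟨hQp.to_le hlt.le, hRN, hRC⟩
      exact absurd (hQ.le_of_le hR𝒮 hlt.le) (not_le_of_gt hlt)
    have hgen := gen_of_minimal p y hy Q hQp hyN hyC hmin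
    have hQH : Q ≤ Q ⊔ Subgroup.zpowers y := le_sup_left
    have hyH : y ∈ Q ⊔ Subgroup.zpowers y := (le_sup_right : _ ≤ Q ⊔ Subgroup.zpowers y)
      (Subgroup.mem_zpowers y)
    have hHN : Q ⊔ Subgroup.zpowers y ≤ Subgroup.normalizer (Q : Set G) :=
      sup_le Subgroup.le_normalizer ((Subgroup.zpowers_le).mpr hyN)
    haveI : (Q.subgroupOf (Q ⊔ Subgroup.zpowers y)).Normal :=
      Subgroup.normal_subgroupOf_of_le_normalizer hHN
    apply sect p (Q.subgroupOf (Q ⊔ Subgroup.zpowers y)) (hQp.comap_subtype) ?_ ⟨y, hyH⟩ ?_ ?_ ?_ ?_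
    · intro hbot
      apply hyC
      rw [Subgroup.mem_centralizer_iff]
      intro a ha
      have h2 : (⟨a, hQH ha⟩ : ↥(Q ⊔ Subgroup.zpowers y)) ∈ Q.subgroupOf (Q ⊔ Subgroup.zpowers y) :=
        Subgroup.mem_subgroupOf.mpr ha
      rw [hbot, Subgroup.mem_bot] at h2
      have h3 : a = 1 := congrArg Subtype.val h2
      rw [h3, one_mul, mul_one]
    · rw [Subgroup.orderOf_mk]; exact hy
    · rw [eq_top_iff]
      intro x _
      have hx2 : (x : G) ∈ ((Q ⊔ Subgroup.zpowers y : Subgroup G) : Set G) := x.2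
      rw [Subgroup.coe_mul_of_right_le_normalizer_left Q (Subgroup.zpowers y)
        ((Subgroup.zpowers_le).mpr hyN)] at hx2
      obtain ⟨a, ha, z, hz, hx⟩ := Set.mem_mul.mp hx2
      obtain ⟨i, rfl⟩ := Subgroup.mem_zpowers_iff.mp hz
      have h4 : x = (⟨a, hQH ha⟩ : ↥(Q ⊔ Subgroup.zpowers y)) * (⟨y, hyH⟩ : ↥(Q ⊔ Subgroup.zpowers y)) ^ i := by
        apply Subtype.ext
        rw [Subgroup.coe_mul, Subgroup.coe_zpow]
        exact hx.symm
      rw [h4]
      exact Subgroup.mul_mem _ (Subgroup.mem_sup_left (Subgroup.mem_subgroupOf.mpr ha))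
        (Subgroup.mem_sup_right (Subgroup.zpow_mem _ (Subgroup.mem_zpowers _) i))
    · intro a ha
      have h5 := hgen a.1 (Subgroup.mem_subgroupOf.mp ha)
      have hS : {x | ∃ b ∈ Q, x = ⁅b, y⁆} = (Q ⊔ Subgroup.zpowers y).subtype ''
          {x | ∃ b ∈ Q.subgroupOf (Q ⊔ Subgroup.zpowers y), x = ⁅b, ⟨y, hyH⟩⁆} := by
        ext x
        constructor
        · rintro ⟨b, hb, rfl⟩
          exact ⟨⁅(⟨b, hQH hb⟩ : ↥(Q ⊔ Subgroup.zpowers y)), ⟨y, hyH⟩⁆,
            ⟨⟨b, hQH hb⟩, Subgroup.mem_subgroupOf.mpr hb, rfl⟩, rfl⟩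
        · rintro ⟨_, ⟨b, hb, rfl⟩, rfl⟩
          exact ⟨b.1, Subgroup.mem_subgroupOf.mp hb, rfl⟩
      rw [hS, ← MonoidHom.map_closure] at h5
      obtain ⟨a', ha', haa⟩ := h5
      have : a' = a := Subtype.ext haa
      rw [← this]; exact ha'
    · intro K _ f hf hK
      exact hyp_of_surjective p (fun N _ hb => hyp (Q ⊔ Subgroup.zpowers y) N hb) K f hf hK

end Cfsg.Agent.S4238
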