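import Cfsg.Statements.S4242
import Cfsg.Agent.S0072
import Cfsg.Agent.Lib.Helper96.Wielandt
import Cfsg.Agent.Lib.Helper96.Schmidt
import Cfsg.Agent.Lib.Helper78.CNBasics
import Cfsg.Agent.Lib.Helper22.FStar
import Cfsg.Agent.Lib.Helper22.Fitting
import Cfsg.Agent.Lib.Helper24.InvCompl
import Cfsg.Agent.Lib.Helper24.SylowInv
import Cfsg.Agent.Lib.Helper86.Ess

set_option autoImplicit false
open Cfsg

namespace Cfsg.Agent.S4242

open Cfsg.Agent.Lib.Helper2
open scoped commutatorElement Pointwise

variable {G : Type*} [Group G]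

theorem comm_of_nilp [Finite G] (L : Subgroup G) (hL : Group.IsNilpotent L) {x y : G}
    (hx : x ∈ L) (hy : y ∈ L) (h : (orderOf x).Coprime (orderOf y)) : x * y = y * x := by
  have := Cfsg.Agent.Lib.Helper96.commute_of_coprime_orderOf hL (x := ⟨x, hx⟩) (y := ⟨y, hy⟩)
    (by rwa [Subgroup.orderOf_mk, Subgroup.orderOf_mk])
  exact congrArg Subtype.val this.eq

theorem sup_ne_top (M Z Q : Subgroup G) (hQM : Q ≤ M) (hQ : Q ≠ M) (hZM : Z ⊓ M = ⊥)
    (hZQ : Z ≤ Subgroup.normalizer (Q : Set G)) : Q ⊔ Z ≠ ⊤ := by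
  intro h
  apply hQ
  apply le_antisymm hQM
  intro m hm
  have hm' : m ∈ Z ⊔ Q := by rw [sup_comm, h]; trivial
  obtain ⟨a, ha, n, hn, rfl⟩ :=
    Cfsg.Agent.Lib.Helper24.exists_mul_of_mem_sup_of_le_normalizer Z Q hZQ m hm'
  have haM : a ∈ M := by
    have : a = (a * n) * n⁻¹ := by group
    rw [this]; exact M.mul_mem hm (M.inv_mem (hQM hn))
  have : a ∈ Z ⊓ M := ⟨ha, haM⟩
  rw [hZM, Subgroup.mem_bot] at this
  rw [this, one_mul]; exact hn

theorem exists_coatom_ge [Finite G] (H : Subgroup G) (hH : H ≠ ⊤) :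
    ∃ L : Subgroup G, IsCoatom L ∧ H ≤ L :=
  (eq_top_or_exists_le_coatom H).resolve_left hH

theorem forward [Finite G] (p : ℕ) (hp : p.Prime) (hpG : p ∣ Nat.card G)
    (hmax : ∀ M : Subgroup G, IsCoatom M → p ∣ Nat.card M → Group.IsNilpotent M)
    (M : Subgroup G) (hM : IsCoatom M) (hMn : ¬ Group.IsNilpotent M) :
    ∃ Z K : Subgroup G, Z.Normal ∧ K.Normal ∧ Z ⊓ K = ⊥ ∧ Z ⊔ K = ⊤ ∧ Nat.card Z = p ∧
      Cfsg.IsMinimalNonNilpotent K ∧ ¬ p ∣ Nat.card K := by
  haveI := Fact.mk hp
  have hpM : ¬ p ∣ Nat.card M := fun h => hMn (hmax M hM h)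
  have hMcop : ∀ m ∈ M, (orderOf m).Coprime p := by
    intro m hm
    have h1 : orderOf m ∣ Nat.card M := by
      have := orderOf_dvd_natCard (⟨m, hm⟩ : M)
      rwa [Subgroup.orderOf_mk] at this
    exact Nat.Coprime.coprime_dvd_left h1 ((Nat.Prime.coprime_iff_not_dvd hp).mpr hpM).symm
  -- every proper subgroup of order divisible by p is nilpotent
  have hprop : ∀ H : Subgroup G, H ≠ ⊤ → p ∣ Nat.card H → Group.IsNilpotent H := by
    intro H hH hpH
    obtain ⟨L, hL, hHL⟩ := exists_coatom_ge H hH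
    exact Cfsg.Agent.Lib.Helper78.isNilpotent_of_le hHL
      (hmax L hL (dvd_trans hpH (Subgroup.card_dvd_of_le hHL)))
  -- Step 1: Frobenius condition
  have hfrob : FrobCond p G := by
    intro Q hQ g hgN hgc
    by_cases hQbot : Q = ⊥
    · rw [hQbot, Subgroup.mem_centralizer_iff]
      intro x hx
      rw [SetLike.mem_coe, Subgroup.mem_bot] at hx
      rw [hx]; simp
    have hpQ : p ∣ Nat.card Q := by
      obtain ⟨n, hn⟩ := IsPGroup.iff_card.mp hQ
      rw [hn]
      rcases Nat.eq_zero_or_pos n with h0 | h0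
      · rw [h0, pow_zero] at hn
        exact absurd (Subgroup.card_eq_one.mp hn) hQbot
      · exact dvd_pow_self p h0.ne'
    have hK : Q ⊔ Subgroup.zpowers g ≠ ⊤ := by
      intro htop
      apply hMn
      -- Q normal, G/Q cyclic, M embeds in G/Q
      have hQn : Q.Normal := by
        have : Subgroup.normalizer (Q : Set G) = ⊤ := by
          apply top_unique
          rw [← htop]
          exact sup_le Subgroup.le_normalizer ((Subgroup.zpowers_le).mpr hgN)
        exact Subgroup.normalizer_eq_top_iff.mp this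
      have hquot : Subgroup.zpowers (QuotientGroup.mk' Q g) = ⊤ := by
        rw [← MonoidHom.map_zpowers, ← Subgroup.map_top_of_surjective (QuotientGroup.mk' Q)
          (QuotientGroup.mk'_surjective Q), ← htop, Subgroup.map_sup, QuotientGroup.map_mk'_self,
          bot_sup_eq]
      have hcomm : ∀ x y : G, ⁅x, y⁆ ∈ Q := by
        intro x y
        rw [← QuotientGroup.eq_one_iff (N := Q), ← QuotientGroup.mk'_apply, map_commutatorElement]
        have hx : QuotientGroup.mk' Q x ∈ Subgroup.zpowers (QuotientGroup.mk' Q g) := by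
          rw [hquot]; trivial
        have hy : QuotientGroup.mk' Q y ∈ Subgroup.zpowers (QuotientGroup.mk' Q g) := by
          rw [hquot]; trivial
        obtain ⟨a, ha⟩ := Subgroup.mem_zpowers_iff.mp hx
        obtain ⟨b, hb⟩ := Subgroup.mem_zpowers_iff.mp hy
        rw [← ha, ← hb, commutatorElement_eq_one_iff_commute]
        exact (Commute.refl _).zpow_zpow a b
      have hdisj : M ⊓ Q = ⊥ := by
        rw [eq_bot_iff]
        intro x hx
        rw [Subgroup.mem_bot]
        have h1 := hMcop x hx.1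
        obtain ⟨k, hk⟩ := (IsPGroup.iff_orderOf.mp hQ) ⟨x, hx.2⟩
        rw [Subgroup.orderOf_mk] at hk
        rw [hk] at h1
        have h2 : (p ^ k).Coprime (p ^ k) := Nat.Coprime.pow_right k h1
        rw [Nat.coprime_self] at h2
        rw [h2] at hk
        exact orderOf_eq_one_iff.mp hk
      have hMcomm : ∀ a b : M, a * b = b * a := by
        intro a b
        have h1 : ⁅(a : G), (b : G)⁆ ∈ M ⊓ Q :=
          ⟨M.mul_mem (M.mul_mem (M.mul_mem a.2 b.2) (M.inv_mem a.2)) (M.inv_mem b.2),
            hcomm a b⟩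
        rw [hdisj, Subgroup.mem_bot, commutatorElement_eq_one_iff_mul_comm] at h1
        exact Subtype.ext h1
      letI : CommGroup M := { (inferInstance : Group M) with mul_comm := hMcomm }
      exact CommGroup.isNilpotent
    have hKp : p ∣ Nat.card (Q ⊔ Subgroup.zpowers g : Subgroup G) :=
      dvd_trans hpQ (Subgroup.card_dvd_of_le le_sup_left)
    have hKn := hprop _ hK hKp
    rw [Subgroup.mem_centralizer_iff]
    intro x hx
    have hxK : x ∈ Q ⊔ Subgroup.zpowers g := (le_sup_left : Q ≤ _) hx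
    have hgK : g ∈ Q ⊔ Subgroup.zpowers g :=
      (le_sup_right : Subgroup.zpowers g ≤ _) (Subgroup.mem_zpowers g)
    obtain ⟨k, hk⟩ := (IsPGroup.iff_orderOf.mp hQ) ⟨x, hx⟩
    rw [Subgroup.orderOf_mk] at hk
    apply comm_of_nilp _ hKn hxK hgK
    rw [hk]
    exact (Nat.Coprime.pow_right k hgc).symm
  -- Step 2: the normal p-complement is M
  obtain ⟨P, K, hKn, hcompl⟩ := (Cfsg.Agent.S0072.hasNormalPComplement_iff_frobCond p).mpr hfrob
  have hMK : M ≤ K := by
    intro m hm
    rw [← QuotientGroup.eq_one_iff (N := K), ← QuotientGroup.mk'_apply, ← orderOf_eq_one_iff]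
    have h1 : orderOf (QuotientGroup.mk' K m) ∣ orderOf m := orderOf_map_dvd _ m
    have h2 : orderOf (QuotientGroup.mk' K m) ∣ Nat.card (P : Subgroup G) := by
      rw [← hcompl.symm.index_eq_card, Subgroup.index_eq_card]
      exact orderOf_dvd_natCard _
    obtain ⟨n, hn⟩ := IsPGroup.iff_card.mp P.isPGroup'
    rw [hn] at h2
    have h3 : (orderOf m).Coprime (p ^ n) := Nat.Coprime.pow_right n (hMcop m hm)
    exact Nat.eq_one_of_dvd_coprimes h3 h1 h2
  have hKtop : K ≠ ⊤ := by
    intro hK
    have h1 := hcompl.symm.index_eq_card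
    rw [hK, Subgroup.index_top] at h1
    have h2 : p ∣ Nat.card (P : Subgroup G) := P.dvd_card_of_dvd_card hpG
    rw [← h1] at h2
    exact hp.one_lt.ne' (Nat.dvd_one.mp h2)
  have hKM : K = M := (hM.le_iff_eq hKtop).mp hMK
  have hMnorm : M.Normal := by rw [← hKM]; exact hKn
  -- an element of order p
  obtain ⟨x, hx⟩ := exists_prime_orderOf_dvd_card' p hpG
  set Z : Subgroup G := Subgroup.zpowers x with hZ
  have hZcard : Nat.card Z = p := by rw [hZ, Nat.card_zpowers, hx]
  have hxZ : x ∈ Z := Subgroup.mem_zpowers x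
  have hxM : x ∉ M := by
    intro h
    have := hMcop x h
    rw [hx, Nat.coprime_self] at this
    exact hp.one_lt.ne' this
  have hZM : Z ⊓ M = ⊥ := by
    by_contra hne
    have h1 : Z ⊓ M = Z :=
      Cfsg.Agent.Lib.Helper86.eq_of_le_of_prime_card hp inf_le_left hne hZcard
    have : x ∈ Z ⊓ M := by rw [h1]; exact hxZ
    exact hxM this.2
  have hsup : Z ⊔ M = ⊤ := by
    apply hM.2
    refine lt_of_le_of_ne le_sup_right ?_
    intro h
    apply hxM
    rw [h]
    exact (le_sup_left : Z ≤ Z ⊔ M) hxZ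
  -- Step 3: x centralizes M
  have hZnormM : Z ≤ Subgroup.normalizer (M : Set G) := by
    rw [Subgroup.normalizer_eq_top]; exact le_top
  have hcopZM : (Nat.card Z).Coprime (Nat.card M) := by
    rw [hZcard]; exact (Nat.Prime.coprime_iff_not_dvd hp).mpr hpM
  have hZsolv : Group.IsSolvable Z := by
    haveI : IsCyclic Z := by rw [hZ]; infer_instance
    haveI : IsMulCommutative Z := IsCyclic.isMulCommutative
    exact Group.isSolvable_of_comm mul_comm'
  have hpZx : ∀ H : Subgroup G, Z ≤ H → p ∣ Nat.card H := by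
    intro H hH
    rw [← hZcard]; exact Subgroup.card_dvd_of_le hH
  have hcentM : ∀ m ∈ M, m * x = x * m := by
    have htop : (Subgroup.centralizer ({x} : Set G)).subgroupOf M = ⊤ := by
      apply Cfsg.Agent.Lib.Helper96.eq_top_of_forall_sylow_le
      intro q hq
      obtain ⟨Qs, hQs⟩ := Cfsg.Agent.Lib.Helper24.exists_invariant_sylow (p := q) Z M hZnormM
        hcopZM (Or.inl hZsolv)
      refine ⟨Qs, ?_⟩
      set Q : Subgroup G := (Qs : Subgroup M).map M.subtype with hQ
      have hQM : Q ≤ M := Subgroup.map_subtype_le _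
      have hQne : Q ≠ M := by
        intro hQM'
        apply hMn
        have hMq : IsPGroup q M := by
          intro m
          have hm : (m : G) ∈ Q := by rw [hQM']; exact m.2
          obtain ⟨m', hm', hmm⟩ := Subgroup.mem_map.mp hm
          have : m' = m := Subtype.ext hmm
          rw [this] at hm'
          obtain ⟨k, hk⟩ := Qs.isPGroup' ⟨m, hm'⟩
          exact ⟨k, by
            have := congrArg Subtype.val hk
            simpa using this⟩
        exact hMq.isNilpotent
      have hne := sup_ne_top M Z Q hQM hQne hZM hQs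
      have hnil := hprop _ hne (hpZx _ le_sup_right)
      intro y hy
      rw [Subgroup.mem_subgroupOf, Subgroup.mem_centralizer_iff]
      intro z hz
      rw [Set.mem_singleton_iff] at hz
      rw [hz]
      have hyQ : (y : G) ∈ Q := Subgroup.mem_map.mpr ⟨y, hy, rfl⟩
      apply comm_of_nilp _ hnil ((le_sup_right : Z ≤ Q ⊔ Z) hxZ) ((le_sup_left : Q ≤ Q ⊔ Z) hyQ)
      rw [hx]
      exact (hMcop _ y.2).symm
    intro m hm
    have : (⟨m, hm⟩ : M) ∈ (Subgroup.centralizer ({x} : Set G)).subgroupOf M := by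
      rw [htop]; trivial
    rw [Subgroup.mem_subgroupOf, Subgroup.mem_centralizer_iff] at this
    exact (this x rfl).symm
  -- Step 4: x is central
  have hxc : ∀ g : G, g * x = x * g := by
    have : Subgroup.centralizer ({x} : Set G) = ⊤ := by
      apply top_unique
      rw [← hsup]
      apply sup_le
      · rw [hZ, Subgroup.zpowers_le, Subgroup.mem_centralizer_iff]
        intro z hz
        rw [Set.mem_singleton_iff] at hz
        rw [hz]
      · intro m hm
        rw [Subgroup.mem_centralizer_iff]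
        intro z hz
        rw [Set.mem_singleton_iff] at hz
        rw [hz]
        exact (hcentM m hm).symm
    intro g
    have hg : g ∈ Subgroup.centralizer ({x} : Set G) := by rw [this]; trivial
    exact ((Subgroup.mem_centralizer_iff.mp hg) x rfl).symm
  have hZn : Z.Normal := by
    refine ⟨fun n hn g => ?_⟩
    obtain ⟨k, rfl⟩ := Subgroup.mem_zpowers_iff.mp hn
    have hc : Commute g (x ^ k) := Commute.zpow_right (hxc g) k
    have : g * x ^ k * g⁻¹ = x ^ k := by rw [hc.eq]; group
    rw [this]; exact hn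
  refine ⟨Z, M, hZn, hMnorm, hZM, hsup, hZcard, ⟨hMn, ?_⟩, hpM⟩
  intro H1 hH1
  set H1' : Subgroup G := H1.map M.subtype with hH1'
  have hle : H1' ≤ M := Subgroup.map_subtype_le _
  have hne : H1' ≠ M := by
    intro h
    apply hH1
    rw [eq_top_iff]
    intro m _
    have hm : (m : G) ∈ H1' := by rw [h]; exact m.2
    obtain ⟨m', hm', hmm⟩ := Subgroup.mem_map.mp hm
    have : m' = m := Subtype.ext hmm
    rw [← this]; exact hm'
  have hZN : Z ≤ Subgroup.normalizer (H1' : Set G) := by
    rw [hZ, Subgroup.zpowers_le, Subgroup.mem_normalizer_iff]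
    intro h
    have : x * h * x⁻¹ = h := by rw [← hxc h]; group
    rw [this]
  have hne' := sup_ne_top M Z H1' hle hne hZM hZN
  have hnil := hprop _ hne' (hpZx _ le_sup_right)
  have hnil' : Group.IsNilpotent H1' := Cfsg.Agent.Lib.Helper78.isNilpotent_of_le le_sup_left hnil
  exact Cfsg.Agent.Lib.Helper22.isNilpotent_of_injective'
    (Subgroup.equivMapOfInjective H1 M.subtype M.subtype_injective).toMonoidHom
    (Subgroup.equivMapOfInjective H1 M.subtype M.subtype_injective).injective hnil'


theorem backward [Finite G] (p : ℕ) (hp : p.Prime)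
    (Z K : Subgroup G) (hZn : Z.Normal) (hKn : K.Normal) (hinf : Z ⊓ K = ⊥) (hsup : Z ⊔ K = ⊤)
    (hZcard : Nat.card Z = p) (hKmin : Cfsg.IsMinimalNonNilpotent K) (hpK : ¬ p ∣ Nat.card K)
    (M : Subgroup G) (hM : IsCoatom M) (hpM : p ∣ Nat.card M) : Group.IsNilpotent M := by
  haveI := Fact.mk hp
  have hmul : ((Z : Set G) * (K : Set G)) = Set.univ := by
    rw [← Subgroup.normal_mul, hsup]; rfl
  have hcompl : Subgroup.IsComplement' Z K :=
    Subgroup.isComplement'_of_disjoint_and_mul_eq_univ (disjoint_iff.mpr hinf) hmul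
  obtain ⟨y, hy⟩ := exists_prime_orderOf_dvd_card' p hpM
  have hyG : orderOf (y : G) = p := by rw [Subgroup.orderOf_coe]; exact hy
  have hyZ : (y : G) ∈ Z := by
    rw [← QuotientGroup.eq_one_iff (N := Z), ← QuotientGroup.mk'_apply, ← orderOf_eq_one_iff]
    have h1 : orderOf (QuotientGroup.mk' Z (y : G)) ∣ p := by
      rw [← hyG]; exact orderOf_map_dvd _ _
    have h2 : orderOf (QuotientGroup.mk' Z (y : G)) ∣ Nat.card K := by
      rw [← hcompl.symm.index_eq_card, Subgroup.index_eq_card]
      exact orderOf_dvd_natCard _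
    exact Nat.eq_one_of_dvd_coprimes ((Nat.Prime.coprime_iff_not_dvd hp).mpr hpK) h1 h2
  have hZM : Z ≤ M := by
    have hle : Subgroup.zpowers (y : G) ≤ Z := Subgroup.zpowers_le.mpr hyZ
    have hne : Subgroup.zpowers (y : G) ≠ ⊥ := by
      intro h
      rw [Subgroup.zpowers_eq_bot] at h
      rw [h, orderOf_one] at hyG
      exact hp.one_lt.ne hyG
    rw [← Cfsg.Agent.Lib.Helper86.eq_of_le_of_prime_card hp hle hne hZcard]
    exact Subgroup.zpowers_le.mpr y.2
  have hN1n : (Z.subgroupOf M).Normal := hZn.subgroupOf M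
  have hN2n : (K.subgroupOf M).Normal := hKn.subgroupOf M
  have hsupM : Z.subgroupOf M ⊔ K.subgroupOf M = ⊤ := by
    rw [eq_top_iff]
    intro m _
    have hm : (m : G) ∈ (Z : Set G) * (K : Set G) := by rw [hmul]; trivial
    obtain ⟨z, hz, k, hk, hzk⟩ := Set.mem_mul.mp hm
    have hkM : k ∈ M := by
      have : k = z⁻¹ * (m : G) := by rw [← hzk]; group
      rw [this]; exact M.mul_mem (M.inv_mem (hZM hz)) m.2
    have : m = (⟨z, hZM hz⟩ : M) * ⟨k, hkM⟩ := Subtype.ext hzk.symm
    rw [this]
    exact Subgroup.mul_mem_sup (by rw [Subgroup.mem_subgroupOf]; exact hz)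
      (by rw [Subgroup.mem_subgroupOf]; exact hk)
  have hN1nil : Group.IsNilpotent (Z.subgroupOf M) := by
    have hZnil : Group.IsNilpotent Z :=
      (IsPGroup.of_card (n := 1) (by rw [hZcard, pow_one])).isNilpotent
    exact Cfsg.Agent.Lib.Helper22.isNilpotent_of_injective'
      (Subgroup.subgroupOfEquivOfLe hZM).toMonoidHom (Subgroup.subgroupOfEquivOfLe hZM).injective hZnil
  have hMK : M.subgroupOf K ≠ ⊤ := by
    intro h
    have hKM : K ≤ M := Subgroup.subgroupOf_eq_top.mp h
    exact hM.1 (top_unique (hsup ▸ sup_le hZM hKM))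
  have hMKnil := hKmin.2 _ hMK
  have hN2nil : Group.IsNilpotent (K.subgroupOf M) := by
    let f : K.subgroupOf M →* M.subgroupOf K :=
      { toFun := fun x => ⟨⟨(x : M), x.2⟩, (x : M).2⟩
        map_one' := rfl
        map_mul' := fun _ _ => rfl }
    refine Cfsg.Agent.Lib.Helper22.isNilpotent_of_injective' f ?_ hMKnil
    intro a b hab
    apply Subtype.ext
    apply Subtype.ext
    have := congrArg (fun t : M.subgroupOf K => ((t : K) : G)) hab
    exact this
  have hF : Cfsg.fittingSubgroup M = ⊤ := by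
    apply top_unique
    rw [← hsupM]
    exact sup_le (Cfsg.Agent.Lib.Helper22.le_fittingSubgroup hN1n hN1nil)
      (Cfsg.Agent.Lib.Helper22.le_fittingSubgroup hN2n hN2nil)
  have hFn : Group.IsNilpotent (Cfsg.fittingSubgroup M) :=
    Cfsg.Agent.Lib.Helper22.fittingSubgroup_isNilpotent
  rw [hF] at hFn
  exact (Group.isNilpotent_congr Subgroup.topEquiv).mp hFn

/-- Let G be a finite group and p a prime dividing its order. Every maximal subgroup of G of order divisible by p is nilpotent if and only if G is nilpotent, or G is a minimal non-nilpotent group, or G is the internal direct product of a normal subgroup of order p and a normal minimal non-nilpotent subgroup of order prime to p. -/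
theorem result {G : Type*} [Group G] [Finite G] (p : ℕ) (hp : p.Prime) (hpG : p ∣ Nat.card G) :
    (∀ M : Subgroup G, IsCoatom M → p ∣ Nat.card M → Group.IsNilpotent M) ↔
      (Group.IsNilpotent G ∨ Cfsg.IsMinimalNonNilpotent G ∨
        ∃ Z K : Subgroup G, Z.Normal ∧ K.Normal ∧ Z ⊓ K = ⊥ ∧ Z ⊔ K = ⊤ ∧ Nat.card Z = p ∧
          Cfsg.IsMinimalNonNilpotent K ∧ ¬ p ∣ Nat.card K) := by
  constructor
  · intro hmax
    by_cases hnil : Group.IsNilpotent G
    · exact Or.inl hnil
    by_cases hmin : ∀ H : Subgroup G, H ≠ ⊤ → Group.IsNilpotent H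
    · exact Or.inr (Or.inl ⟨hnil, hmin⟩)
    push Not at hmin
    obtain ⟨H, hH, hHn⟩ := hmin
    obtain ⟨M, hM, hHM⟩ := exists_coatom_ge H hH
    have hMn : ¬ Group.IsNilpotent M := fun h =>
      hHn (Cfsg.Agent.Lib.Helper78.isNilpotent_of_le hHM h)
    exact Or.inr (Or.inr (forward p hp hpG hmax M hM hMn))
  · rintro (hnil | hmin | ⟨Z, K, hZn, hKn, hinf, hsup, hZcard, hKmin, hpK⟩)
    · intro M _ _
      haveI := hnil
      infer_instance
    · intro M hM _
      exact hmin.2 M hM.1
    · intro M hM hpM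
      exact backward p hp Z K hZn hKn hinf hsup hZcard hKmin hpK M hM hpM

end Cfsg.Agent.S4242
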