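import Cfsg.Statements.S4244

set_option autoImplicit false
open Cfsg

namespace Cfsg.Agent.S4244

theorem relIndex_ne_zero' {L : Type*} [Group L] [Finite L] (A B : Subgroup L) : A.relIndex B ≠ 0 := by
  unfold Subgroup.relIndex
  exact Subgroup.index_ne_zero_of_finite

theorem normal_case {L : Type*} [Group L] [Finite L] (H K : Subgroup L) [H.Normal] :
    K.relIndex H ∣ K.index := by
  have h1 : K.relIndex (K ⊔ H) ∣ K.index := Subgroup.relIndex_dvd_index_of_le le_sup_left
  have h2 : (H ⊓ K).relIndex K * K.relIndex (K ⊔ H) = (H ⊓ K).relIndex (K ⊔ H) :=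
    Subgroup.relIndex_mul_relIndex _ _ _ inf_le_right le_sup_left
  have h3 : (H ⊓ K).relIndex H * H.relIndex (K ⊔ H) = (H ⊓ K).relIndex (K ⊔ H) :=
    Subgroup.relIndex_mul_relIndex _ _ _ inf_le_left le_sup_right
  have h4 : H.relIndex (K ⊔ H) = H.relIndex K := Subgroup.relIndex_sup_right K H
  have h5 : (H ⊓ K).relIndex K = H.relIndex K := Subgroup.inf_relIndex_right H K
  have h6 : (H ⊓ K).relIndex H = K.relIndex H := Subgroup.inf_relIndex_left H K
  rw [h4, h6] at h3
  rw [h5, ← h3, mul_comm] at h2
  have h7 : K.relIndex (K ⊔ H) = K.relIndex H :=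
    Nat.eq_of_mul_eq_mul_right (Nat.pos_of_ne_zero (relIndex_ne_zero' H K)) h2
  rw [← h7]; exact h1

/-- Let H be a subnormal subgroup of a finite group G. Then for every subgroup K of G the index of H ∩ K in H divides the index of K in G. -/
theorem result {G : Type*} [Group G] [Finite G] (H : Subgroup G) (hH : H.IsSubnormal) (K : Subgroup G) :
    (H ⊓ K).relIndex H ∣ K.index := by
  rw [Subgroup.inf_relIndex_left]
  induction hH with
  | top => rw [Subgroup.relIndex_top_right]
  | step H L h_le hSubn hN ih =>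
    refine dvd_trans ?_ ih
    have := normal_case (H.subgroupOf L) (K.subgroupOf L)
    rw [Subgroup.relIndex_subgroupOf h_le] at this
    exact this

end Cfsg.Agent.S4244
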