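import Cfsg.Statements.S4249
import Cfsg.Agent.Lib.Helper19.Kegel4
import Cfsg.Agent.Lib.Helper10.Nilpotent

set_option autoImplicit false
set_option linter.style.haveILetI false
open Cfsg

namespace Cfsg.Agent.S4249

open Cfsg.Agent.Lib.Helper19

variable {G : Type*} [Group G]

/-- the Hughes subgroup is normal -/
theorem hughes_normal (p : ℕ) : (Subgroup.closure {g : G | g ^ p ≠ 1}).Normal := by
  set H := Subgroup.closure {g : G | g ^ p ≠ 1} with hH
  have key : ∀ g : G, H ≤ H.comap (MulAut.conj g).toMonoidHom := by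
    intro g
    rw [hH, Subgroup.closure_le]
    intro x hx
    apply Subgroup.subset_closure
    show (g * x * g⁻¹) ^ p ≠ 1
    intro h
    apply hx
    rw [conj_pow] at h
    have : x ^ p = g⁻¹ * (g * x ^ p * g⁻¹) * g := by group
    rw [this, h]; group
  exact ⟨fun n hn g => key g hn⟩

/-- elements outside the Hughes subgroup have order dividing `p` -/
theorem pow_eq_one_of_not_mem (p : ℕ) {g : G} (hg : g ∉ Subgroup.closure {g : G | g ^ p ≠ 1}) :
    g ^ p = 1 := by
  by_contra h
  exact hg (Subgroup.subset_closure h)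

/-- conjugation by an element of order dividing `p` all of whose translates by `H` have order
dividing `p` is a splitting automorphism of `H` -/
theorem split_conj {p : ℕ} (H : Subgroup G) [hHn : H.Normal] (y : G) (hy : y ^ p = 1)
    (hH : ∀ h ∈ H, (h * y) ^ p = 1) : Split p (MulAut.conjNormal y : MulAut ↥H) := by
  have hpow : ∀ (n : ℕ) (h : ↥H), ((((MulAut.conjNormal y : MulAut ↥H) ^ n) h : ↥H) : G) =
      y ^ n * h * (y ^ n)⁻¹ := by
    intro n h
    rw [← map_pow, MulAut.conjNormal_apply]
  constructor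
  · rw [← map_pow, hy, map_one]
  · intro h
    have key : ∀ n : ℕ, ((nrm (MulAut.conjNormal y : MulAut ↥H) n h : ↥H) : G) * y ^ n =
        ((h : G) * y) ^ n := by
      intro n
      induction n with
      | zero => simp [nrm_zero]
      | succ n ih =>
        rw [nrm_succ, Subgroup.coe_mul, hpow, pow_succ ((h : G) * y), ← ih, pow_succ y]
        group
    have h1 := key p
    rw [hy, mul_one, hH h h.2] at h1
    exact Subtype.ext h1

/-- if every element of the centre of `H` has order dividing `p ^ 2` then the nilpotent group `H`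
is a `p`-group -/
theorem isPGroup_of_center_exponent {H : Type*} [Group H] [Finite H] (hnil : Group.IsNilpotent H)
    {p : ℕ} (hp : p.Prime) (hZ : ∀ x ∈ Subgroup.center H, x ^ (p ^ 2) = 1) : IsPGroup p H := by
  by_contra hnot
  have hex : ∃ q : ℕ, q.Prime ∧ q ≠ p ∧ q ∣ Nat.card H := by
    by_contra hno
    push Not at hno
    apply hnot
    have h2 : Nat.card H = p ^ (Nat.card H).primeFactorsList.length := by
      apply Nat.eq_prime_pow_of_unique_prime_dvd Nat.card_pos.ne'
      intro d hd hdd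
      by_contra hne
      exact hno d hd hne hdd
    haveI : Fact p.Prime := ⟨hp⟩
    exact IsPGroup.of_card h2
  obtain ⟨q, hq, hqp, hqd⟩ := hex
  haveI : Fact q.Prime := ⟨hq⟩
  let Q : Sylow q H := default
  haveI hQn : (Q : Subgroup H).Normal := inferInstance
  have hQne : (Q : Subgroup H) ≠ ⊥ := Q.ne_bot_of_dvd_card hqd
  have h1 := Cfsg.Agent.Lib.Helper10.normal_inf_center_ne_bot (Q : Subgroup H) hQne
  obtain ⟨⟨x, hxm⟩, hx1⟩ := (Subgroup.ne_bot_iff_exists_ne_one).mp h1
  have hx1' : x ≠ 1 := fun h => hx1 (Subtype.ext h)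
  have hxQ : x ∈ (Q : Subgroup H) := hxm.1
  have hxZ : x ∈ Subgroup.center H := hxm.2
  have h2 := hZ x hxZ
  obtain ⟨k, hk⟩ := (IsPGroup.iff_orderOf.mp Q.2) ⟨x, hxQ⟩
  have hk' : orderOf x = q ^ k := by
    rw [← hk]
    exact (Subgroup.orderOf_mk x hxQ).symm
  have h3 : orderOf x ∣ p ^ 2 := orderOf_dvd_of_pow_eq_one h2
  have hcop : Nat.Coprime (q ^ k) (p ^ 2) :=
    Nat.Coprime.pow k 2 ((Nat.coprime_primes hq hp).mpr hqp)
  rw [hk'] at h3
  have h4 : q ^ k ∣ Nat.gcd (q ^ k) (p ^ 2) := Nat.dvd_gcd dvd_rfl h3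
  rw [hcop, Nat.dvd_one] at h4
  rw [h4, orderOf_eq_one_iff] at hk'
  exact hx1' hk'

/-- Let G be a finite group and p a prime such that G is not a p-group, and suppose the Hughes subgroup H_p(G), generated by all elements g with g^p ≠ 1, is a proper subgroup. Then H_p(G) is nilpotent and has index p in G. -/
theorem result {G : Type*} [Group G] [Finite G] (p : ℕ) (hp : p.Prime) (hG : ¬ IsPGroup p G)
    (hH : Subgroup.closure {g : G | g ^ p ≠ 1} ≠ ⊤) :
    Group.IsNilpotent (Subgroup.closure {g : G | g ^ p ≠ 1}) ∧ (Subgroup.closure {g : G | g ^ p ≠ 1}).index = p := by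
  classical
  set H := Subgroup.closure {g : G | g ^ p ≠ 1} with hHdef
  haveI hHn : H.Normal := hughes_normal p
  haveI : Fact p.Prime := ⟨hp⟩
  have hout : ∀ g, g ∉ H → g ^ p = 1 := fun g hg => pow_eq_one_of_not_mem p hg
  obtain ⟨y, hy⟩ : ∃ y, y ∉ H := by
    by_contra hall
    push Not at hall
    exact hH (eq_top_iff.mpr fun g _ => hall g)
  have hmul_out : ∀ h ∈ H, ∀ g, g ∉ H → h * g ∉ H := by
    intro h hh g hg hc
    apply hg
    have := H.mul_mem (H.inv_mem hh) hc
    simpa using this
  have hsplit : Split p (MulAut.conjNormal y : MulAut ↥H) :=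
    split_conj H y (hout y hy) (fun h hh => hout _ (hmul_out h hh y hy))
  have hnil : Group.IsNilpotent ↥H := kegel hp _ hsplit
  refine ⟨hnil, ?_⟩
  -- the quotient is a `p`-group
  have hQp : IsPGroup p (G ⧸ H) := by
    intro x
    obtain ⟨g, rfl⟩ := QuotientGroup.mk_surjective x
    refine ⟨1, ?_⟩
    rw [pow_one, ← QuotientGroup.mk_pow]
    by_cases hg : g ∈ H
    · exact (QuotientGroup.eq_one_iff _).mpr (H.pow_mem hg p)
    · rw [hout g hg]; rfl
  obtain ⟨e, he⟩ := IsPGroup.iff_card.mp hQp
  have hidx : H.index = p ^ e := by rw [Subgroup.index_eq_card]; exact he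
  by_contra hne
  have he2 : 2 ≤ e := by
    rcases e with _ | _ | e
    · exact absurd (Subgroup.index_eq_one.mp (by rw [hidx, pow_zero])) hH
    · exact absurd (by rw [hidx, pow_one]) hne
    · omega
  -- a central element of order `p` in the quotient and an independent element
  have hcard2 : p ^ 2 ≤ Nat.card (G ⧸ H) := by
    rw [he]; exact Nat.pow_le_pow_right hp.pos he2
  haveI : Nontrivial (G ⧸ H) := by
    rw [← Finite.one_lt_card_iff_nontrivial]
    have : 1 < p ^ 2 := Nat.one_lt_pow (by norm_num) hp.one_lt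
    omega
  haveI := hQp.center_nontrivial
  obtain ⟨⟨abar, habar⟩, habar1⟩ := exists_ne (1 : Subgroup.center (G ⧸ H))
  have habar1' : abar ≠ 1 := fun h => habar1 (Subtype.ext h)
  have hexp : ∀ x : G ⧸ H, x ^ p = 1 := by
    intro x
    obtain ⟨g, rfl⟩ := QuotientGroup.mk_surjective x
    rw [← QuotientGroup.mk_pow]
    by_cases hg : g ∈ H
    · exact (QuotientGroup.eq_one_iff _).mpr (H.pow_mem hg p)
    · rw [hout g hg]; rfl
  have hord : orderOf abar = p := by
    have h1 : orderOf abar ∣ p := orderOf_dvd_of_pow_eq_one (hexp abar)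
    rcases (Nat.dvd_prime hp).mp h1 with h2 | h2
    · exact absurd (orderOf_eq_one_iff.mp h2) habar1'
    · exact h2
  obtain ⟨bbar, hbbar⟩ : ∃ bbar : G ⧸ H, bbar ∉ Subgroup.zpowers abar := by
    by_contra hall
    push Not at hall
    have htop : Subgroup.zpowers abar = ⊤ := eq_top_iff.mpr (fun x _ => hall x)
    have hc : Nat.card (Subgroup.zpowers abar) = Nat.card (G ⧸ H) := by
      rw [htop, Subgroup.card_top]
    rw [Nat.card_zpowers, hord] at hc
    have : p < p ^ 2 := by
      have := hp.one_lt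
      nlinarith
    omega
  obtain ⟨a, rfl⟩ := QuotientGroup.mk_surjective abar
  obtain ⟨b, rfl⟩ := QuotientGroup.mk_surjective bbar
  have ha : a ∉ H := fun h => habar1' ((QuotientGroup.eq_one_iff _).mpr h)
  have hab : ∀ j : ℕ, a ^ j * b ∉ H := by
    intro j hc
    apply hbbar
    have h1 : (QuotientGroup.mk (a ^ j * b) : G ⧸ H) = 1 := (QuotientGroup.eq_one_iff _).mpr hc
    rw [QuotientGroup.mk_mul, QuotientGroup.mk_pow] at h1
    have h2 : (QuotientGroup.mk b : G ⧸ H) = ((QuotientGroup.mk a : G ⧸ H) ^ j)⁻¹ :=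
      eq_inv_of_mul_eq_one_right h1
    rw [h2]
    exact (Subgroup.zpowers _).inv_mem ((Subgroup.zpowers _).pow_mem (Subgroup.mem_zpowers _) j)
  have hcomm : (b * a)⁻¹ * (a * b) ∈ H := by
    apply QuotientGroup.eq.mp
    rw [QuotientGroup.mk_mul, QuotientGroup.mk_mul]
    exact Subgroup.mem_center_iff.mp habar _
  -- the centre of `H` as a normal subgroup of `G`
  set A : Subgroup G := (Subgroup.center ↥H).map H.subtype with hA
  haveI hAn : A.Normal := ConjAct.normal_of_characteristic_of_normal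
  have hAH : A ≤ H := by
    rintro _ ⟨x, _, rfl⟩
    exact x.2
  have hAc : ∀ x ∈ A, ∀ h ∈ H, h * x = x * h := by
    rintro _ ⟨x, hx, rfl⟩ h hh
    have := Subgroup.mem_center_iff.mp hx ⟨h, hh⟩
    exact congrArg Subtype.val this
  letI : CommGroup ↥A :=
    { (inferInstance : Group ↥A) with
      mul_comm := fun x y => Subtype.ext (hAc y y.2 x (hAH x.2)) }
  have hconj : ∀ (g : G) (w : ↥A), (((MulAut.conjNormal g : MulAut ↥A) w : ↥A) : G) =
      g * w * g⁻¹ := fun g w => MulAut.conjNormal_apply g w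
  let z : MulAut ↥A := MulAut.conjNormal a
  let yb : MulAut ↥A := MulAut.conjNormal b
  have hyz : yb * z = z * yb := by
    show (MulAut.conjNormal b : MulAut ↥A) * MulAut.conjNormal a =
      MulAut.conjNormal a * MulAut.conjNormal b
    rw [← map_mul, ← map_mul]
    ext w
    rw [hconj, hconj]
    have hc := hAc w w.2 _ hcomm
    have e : a * b = (b * a) * ((b * a)⁻¹ * (a * b)) := by group
    calc b * a * (w : G) * (b * a)⁻¹
        = b * a * ((w : G) * ((b * a)⁻¹ * (a * b))) * (a * b)⁻¹ := by group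
      _ = b * a * (((b * a)⁻¹ * (a * b)) * (w : G)) * (a * b)⁻¹ := by rw [hc]
      _ = a * b * (w : G) * (a * b)⁻¹ := by group
  have hzp : z ^ p = 1 := by
    show (MulAut.conjNormal a : MulAut ↥A) ^ p = 1
    rw [← map_pow, hout a ha, map_one]
  -- fixed points of outer elements have exponent `p`
  have hfix : ∀ g, g ∉ H → ∀ u : ↥A, (MulAut.conjNormal g : MulAut ↥A) u = u → u ^ p = 1 := by
    intro g hg u hu
    have h1 : g * (u : G) * g⁻¹ = u := by
      rw [← hconj, hu]
    have hc : Commute (u : G) g := by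
      have : g * (u : G) = (u : G) * g := by
        calc g * (u : G) = (g * (u : G) * g⁻¹) * g := by group
          _ = (u : G) * g := by rw [h1]
      exact this.symm
    have h2 : ((u : G) * g) ^ p = 1 := hout _ (hmul_out _ (hAH u.2) g hg)
    rw [hc.mul_pow, hout g hg, mul_one] at h2
    exact Subtype.ext h2
  have hnorm : ∀ g, g ∉ H → ∀ w : ↥A,
      (∏ k ∈ Finset.range p, ((MulAut.conjNormal g : MulAut ↥A) ^ k) w) ^ p = 1 := by
    intro g hg w
    apply hfix g hg
    apply map_prod_pow_eq
    rw [← map_pow, hout g hg, map_one]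
  -- the identity
  have hexpA : ∀ w : ↥A, w ^ (p ^ 2) = 1 := by
    intro w
    have hid := zp2_identity hp yb z hyz hzp w
    have h1 : (∏ j ∈ Finset.range p, ∏ k ∈ Finset.range p, ((z ^ j * yb) ^ k) w) ^ p = 1 := by
      rw [← Finset.prod_pow]
      apply Finset.prod_eq_one
      intro j _
      have e : z ^ j * yb = (MulAut.conjNormal (a ^ j * b) : MulAut ↥A) := by
        show (MulAut.conjNormal a : MulAut ↥A) ^ j * MulAut.conjNormal b = _
        rw [← map_pow, ← map_mul]
      rw [e]
      exact hnorm _ (hab j) w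
    have h2 : (∏ i ∈ Finset.range p, (z ^ i) w) ^ p = 1 := hnorm a ha w
    have h3 : (∏ k ∈ Finset.range p, (yb ^ k) (∏ i ∈ Finset.range p, (z ^ i) w)) ^ p = 1 := by
      have := hab 0
      rw [pow_zero, one_mul] at this
      exact hnorm b this _
    have h4 := congrArg (fun u : ↥A => u ^ p) hid
    simp only [mul_pow] at h4
    rw [h1, h2, h3, one_mul, mul_one, ← pow_mul, ← pow_two] at h4
    exact h4.symm
  -- hence `H` is a `p`-group, and so is `G`
  have hHp : IsPGroup p ↥H := by
    apply isPGroup_of_center_exponent hnil hp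
    intro x hx
    have hxA : (x : G) ∈ A := ⟨x, hx, rfl⟩
    have h1 := hexpA ⟨(x : G), hxA⟩
    have h2 : ((x : G)) ^ (p ^ 2) = 1 := congrArg Subtype.val h1
    apply Subtype.ext
    exact h2
  apply hG
  intro g
  by_cases hg : g ∈ H
  · obtain ⟨k, hk⟩ := hHp ⟨g, hg⟩
    exact ⟨k, congrArg Subtype.val hk⟩
  · exact ⟨1, by rw [pow_one]; exact hout g hg⟩

end Cfsg.Agent.S4249
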