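import Mathlib
import Cfsg.Statements.S4250
import Cfsg.Agent.Lib.Helper2.AlperinTame
import Cfsg.Agent.Lib.Helper33.Transfer
import Cfsg.Agent.Lib.Helper33.Control
import Cfsg.Agent.Lib.Helper33.SylowSub

set_option autoImplicit false
open Cfsg

namespace Cfsg.Agent.S4250

open Cfsg.Agent.Lib.Helper2 Cfsg.Agent.Lib.Helper33
open Subgroup
open scoped commutatorElement

variable {G : Type*} [Group G]

theorem rc_eq_of_mem_normalizer {x : G} {T : Subgroup G} (hx : x ∈ normalizer (T : Set G)) :
    rc x (T : Set G) = (T : Set G) := by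
  apply Set.Subset.antisymm (rc_subset_of_mem_normalizer hx subset_rfl)
  intro a ha
  rw [mem_rc]
  exact (mem_normalizer_iff.1 hx a).1 ha

theorem commutator_le_left_of_le_normalizer {H K : Subgroup G}
    (h : K ≤ normalizer (H : Set G)) : ⁅H, K⁆ ≤ H := by
  rw [commutator_le]
  intro a ha x hx
  have h1 : x * a⁻¹ * x⁻¹ ∈ H := (mem_normalizer_iff.1 (h hx) a⁻¹).1 (inv_mem ha)
  have e : ⁅a, x⁆ = a * (x * a⁻¹ * x⁻¹) := by rw [commutatorElement_def]; group
  rw [e]; exact mul_mem ha h1

/-- a reach of a subgroup only passes through members of the family which are at least as big -/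
theorem reach_big [Finite G] {𝓕 : Set (Subgroup G)} {A : Set G} {g : G} (h : Reach 𝓕 A g) :
    ∀ S : Subgroup G, A = (S : Set G) →
      Reach {T | T ∈ 𝓕 ∧ Nat.card S ≤ Nat.card T} A g := by
  induction h with
  | nil A => intro S _; exact Reach.nil A
  | cons A T x g hT hx hAT hr ih =>
    intro S hS
    have hST : S ≤ T := by
      intro s hs
      apply hAT
      rw [hS]; exact hs
    have hcard : Nat.card S ≤ Nat.card T := Subgroup.card_le_of_le hST
    have h1 := ih (cj x⁻¹ S) (by rw [hS, rc_coe])
    rw [card_cj] at h1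
    exact Reach.cons A T x g ⟨hT, hcard⟩ hx hAT h1

theorem step [Finite G] {p : ℕ} [Fact p.Prime] (P : Sylow p G) (F0 : Subgroup G)
    (hP : ⁅(P : Subgroup G), normalizer ((P : Subgroup G) : Set G)⁆ ≤ F0)
    (hQ : ∀ Q : Sylow p G, IsTame P Q →
      ∀ x ∈ normalizer ((((P : Subgroup G) ⊓ (Q : Subgroup G)) : Subgroup G) : Set G),
        (∃ k : ℕ, orderOf x = p ^ k) → ⁅(P : Subgroup G) ⊓ (Q : Subgroup G), zpowers x⁆ ≤ F0) :
    ∀ d : ℕ, ∀ T ∈ tameFamily P, Nat.card (P : Subgroup G) - Nat.card T = d →
      ∀ x ∈ normalizer (T : Set G), GoodT F0 (T : Set G) x := by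
  intro d
  induction d using Nat.strong_induction_on with
  | _ d ih =>
    intro T hT hd x hx
    have hTP : T ≤ (P : Subgroup G) := tameFamily_le P T hT
    by_cases hTeq : T = (P : Subgroup G)
    · intro a ha
      have e : a⁻¹ * (x⁻¹ * a * x) = ⁅a⁻¹, x⁻¹⁆ := by
        rw [commutatorElement_def]; group
      rw [e]
      apply hP
      rw [hTeq] at ha hx
      exact commutator_mem_commutator (inv_mem ha) (inv_mem hx)
    · have hlt : T < (P : Subgroup G) := lt_of_le_of_ne hTP hTeq
      obtain ⟨Q, hTQ, htame⟩ := hT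
      set N := normalizer (T : Set G) with hN
      set S := (P : Subgroup G) ⊓ N with hS
      have hSp : IsPGroup p S := P.2.to_le inf_le_left
      have hSN : S ≤ N := inf_le_right
      have hSP : S ≤ (P : Subgroup G) := inf_le_left
      have hSidx : ¬ p ∣ S.relIndex N := by
        have h1 : ¬ p ∣ ((P : Subgroup G) ⊓ normalizer ((((P : Subgroup G) ⊓ (Q : Subgroup G)) : Subgroup G) : Set G)).relIndex
            (normalizer ((((P : Subgroup G) ⊓ (Q : Subgroup G)) : Subgroup G) : Set G)) := htame.1
        rw [← hTQ] at h1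
        exact h1
      have hTS : T < S := normalizer_growth P.2 hlt
      set M := closure {y : G | y ∈ N ∧ ∃ k : ℕ, orderOf y = p ^ k} with hM
      have hMN : M ≤ N := by
        rw [hM, closure_le]
        intro y hy
        exact hy.1
      have hRM : ∀ R : Subgroup G, R ≤ N → IsPGroup p R → R ≤ M := by
        intro R hRN hR y hy
        apply Subgroup.subset_closure
        refine ⟨hRN hy, ?_⟩
        obtain ⟨k, hk⟩ := IsPGroup.iff_orderOf.1 hR ⟨y, hy⟩
        exact ⟨k, by rwa [Subgroup.orderOf_mk] at hk⟩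
      have hidxM : ∀ R : Subgroup G, R ≤ M → ¬ p ∣ R.relIndex N → ¬ p ∣ R.relIndex M := by
        intro R hRM' hR hd'
        apply hR
        rw [← Subgroup.relIndex_mul_relIndex R M N hRM' hMN]
        exact Dvd.dvd.mul_right hd' _
      have hSM : S ≤ M := hRM S hSN hSp
      -- the conjugate of S
      have hxN : cj x N = N := cj_eq_self_of_mem hx
      have hcSN : cj x S ≤ N := by
        have := cj_mono (g := x) hSN
        rwa [hxN] at this
      have hcSp : IsPGroup p (cj x S) := isPGroup_cj hSp
      have hcSM : cj x S ≤ M := hRM _ hcSN hcSp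
      have hcSidx : ¬ p ∣ (cj x S).relIndex N := by
        have := relIndex_cj x S N
        rw [hxN] at this
        rw [this]; exact hSidx
      obtain ⟨c, hcM, hc⟩ := sylow_sub_eq hSM hSp (hidxM S hSM hSidx) hcSM hcSp
        (hidxM _ hcSM hcSidx)
      -- the two factors
      have hcN : c ∈ N := hMN hcM
      set n := c⁻¹ * x with hn
      have hnN : n ∈ N := mul_mem (inv_mem hcN) hx
      have hnS : cj n S = S := by
        rw [hn, cj_mul, ← hc, ← cj_mul, inv_mul_cancel]
        ext y; rw [mem_cj]; simp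
      have hnS' : cj n⁻¹ S = S := by
        have := cj_eq_iff.1 hnS
        exact this.symm
      -- the part in M
      have hgoodM : ∀ m ∈ M, GoodT F0 (T : Set G) m := by
        intro m hm
        induction hm using closure_induction with
        | mem y hy =>
          obtain ⟨hyN, k, hk⟩ := hy
          intro a ha
          have e : a⁻¹ * (y⁻¹ * a * y) = ⁅a⁻¹, y⁻¹⁆ := by
            rw [commutatorElement_def]; group
          rw [e]
          have hyN' : y ∈ normalizer ((((P : Subgroup G) ⊓ (Q : Subgroup G)) : Subgroup G) : Set G) := by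
            rw [← hTQ]; exact hyN
          apply hQ Q htame y hyN' ⟨k, hk⟩
          rw [← hTQ]
          exact commutator_mem_commutator (inv_mem ha) (inv_mem (mem_zpowers y))
        | one => exact GoodT.one F0 _
        | mul c1 c2 h1 h2 ih1 ih2 =>
          have hc1 : c1 ∈ N := hMN h1
          exact ih1.trans (ih2.mono (rc_subset_of_mem_normalizer hc1 subset_rfl))
        | inv c1 h1 ih1 =>
          have hc1 : c1 ∈ N := hMN h1
          exact ih1.symm.cast (rc_eq_of_mem_normalizer hc1) rfl
      -- the part normalizing S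
      have hgoodn : GoodT F0 (S : Set G) n := by
        have hr : Reach (tameFamily P) (S : Set G) n := by
          apply reach_tame P (S : Set G) n
          · intro s hs; exact hSP hs
          · rw [rc_coe, hnS']
            intro s hs; exact hSP hs
        have hr' := reach_big hr S rfl
        apply goodT_of_reach _ hr'
        intro T' x' A hT' hx' hA
        have hT'P : T' ≤ (P : Subgroup G) := tameFamily_le P T' hT'.1
        have h1 : Nat.card T' ≤ Nat.card (P : Subgroup G) := Subgroup.card_le_of_le hT'P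
        have h2 : Nat.card T < Nat.card S := card_lt_of_lt' hTS
        have h3 : Nat.card S ≤ Nat.card T' := hT'.2
        have hdlt : Nat.card (P : Subgroup G) - Nat.card T' < d := by omega
        exact (ih _ hdlt T' hT'.1 rfl x' hx').mono hA
      have hgoodn' : GoodT F0 (T : Set G) n := hgoodn.mono (fun a ha => hTS.le ha)
      have hfin : GoodT F0 (T : Set G) (c * n) :=
        (hgoodM c hcM).trans (hgoodn'.mono (rc_subset_of_mem_normalizer hcN subset_rfl))
      have hx_eq : c * n = x := by rw [hn]; group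
      rw [hx_eq] at hfin
      exact hfin

theorem main_le [Finite G] {p : ℕ} [Fact p.Prime] (P : Sylow p G) (F0 : Subgroup G)
    (hP : ⁅(P : Subgroup G), normalizer ((P : Subgroup G) : Set G)⁆ ≤ F0)
    (hQ : ∀ Q : Sylow p G, IsTame P Q →
      ∀ x ∈ normalizer ((((P : Subgroup G) ⊓ (Q : Subgroup G)) : Subgroup G) : Set G),
        (∃ k : ℕ, orderOf x = p ^ k) → ⁅(P : Subgroup G) ⊓ (Q : Subgroup G), zpowers x⁆ ≤ F0) :
    (P : Subgroup G) ⊓ commutator G ≤ F0 := by
  rw [inf_comm, Subgroup.commutator_inf_eq_focalSubgroup P, focalSubgroup_def, closure_le]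
  rintro g ⟨hgP, a, haP, u, rfl⟩
  have hA : ({a⁻¹} : Set G) ⊆ (P : Subgroup G) := by
    intro b hb
    rw [Set.mem_singleton_iff] at hb
    rw [hb]; exact inv_mem haP
  have hAg : rc u⁻¹ ({a⁻¹} : Set G) ⊆ (P : Subgroup G) := by
    rintro _ ⟨b, hb, rfl⟩
    rw [Set.mem_singleton_iff] at hb
    rw [hb]
    have e : u⁻¹⁻¹ * a⁻¹ * u⁻¹ = a⁻¹ * ⁅a, u⁆ := by rw [commutatorElement_def]; group
    change u⁻¹⁻¹ * a⁻¹ * u⁻¹ ∈ (P : Subgroup G)
    rw [e]
    exact mul_mem (inv_mem haP) hgP
  have hr := reach_tame P _ _ hA hAg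
  have hgood : GoodT F0 ({a⁻¹} : Set G) u⁻¹ := by
    apply goodT_of_reach _ hr
    intro T x A hT hx hAT
    exact (step P F0 hP hQ _ T hT rfl x hx).mono hAT
  have := hgood a⁻¹ rfl
  have e : ⁅a, u⁆ = a⁻¹⁻¹ * (u⁻¹⁻¹ * a⁻¹ * u⁻¹) := by rw [commutatorElement_def]; group
  rw [SetLike.mem_coe, e]
  exact this

/-- Let P be a Sylow p-subgroup of a finite group G. Call an intersection H = P ∩ Q with a Sylow p-subgroup Q tame when N_P(H) and N_Q(H) are Sylow p-subgroups of N_G(H). Then P ∩ G′ is generated by [P, N_G(P)] together with the commutator subgroups [P ∩ Q, ⟨x⟩] for all tame intersections P ∩ Q and all p-elements x of N_G(P ∩ Q). -/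
theorem result {G : Type*} [Group G] [Finite G] (p : ℕ) [Fact p.Prime] (P : Sylow p G) :
    (P : Subgroup G) ⊓ commutator G =
      ⁅(P : Subgroup G), Subgroup.normalizer ((P : Subgroup G) : Set G)⁆ ⊔
        ⨆ (Q : Sylow p G) (_ : (¬ p ∣ ((P : Subgroup G) ⊓ Subgroup.normalizer (((P : Subgroup G) ⊓ (Q : Subgroup G) : Subgroup G) : Set G)).relIndex (Subgroup.normalizer (((P : Subgroup G) ⊓ (Q : Subgroup G) : Subgroup G) : Set G)) ∧ ¬ p ∣ ((Q : Subgroup G) ⊓ Subgroup.normalizer (((P : Subgroup G) ⊓ (Q : Subgroup G) : Subgroup G) : Set G)).relIndex (Subgroup.normalizer (((P : Subgroup G) ⊓ (Q : Subgroup G) : Subgroup G) : Set G))))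
          (x : G) (_ : x ∈ Subgroup.normalizer (((P : Subgroup G) ⊓ (Q : Subgroup G) : Subgroup G) : Set G) ∧ ∃ k : ℕ, orderOf x = p ^ k),
          ⁅(P : Subgroup G) ⊓ (Q : Subgroup G), Subgroup.zpowers x⁆ := by
  apply le_antisymm
  · apply main_le P
    · exact le_sup_left
    · intro Q htame x hx hk
      apply le_sup_of_le_right
      exact le_iSup_of_le Q (le_iSup_of_le htame (le_iSup_of_le x (le_iSup_of_le ⟨hx, hk⟩ le_rfl)))
  · have hcomm : ∀ H K : Subgroup G, ⁅H, K⁆ ≤ commutator G := by
      intro H K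
      rw [commutator_def]
      exact commutator_mono le_top le_top
    apply sup_le
    · exact le_inf (commutator_le_left_of_le_normalizer le_rfl) (hcomm _ _)
    · refine iSup_le fun Q => iSup_le fun _ => iSup_le fun x => iSup_le fun hx => ?_
      refine le_inf ?_ (hcomm _ _)
      refine (commutator_le_left_of_le_normalizer ?_).trans inf_le_left
      rw [zpowers_le]
      exact hx.1

end Cfsg.Agent.S4250
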