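import Mathlib
import Cfsg.Statements.S4251
import Cfsg.Agent.S1946
import Cfsg.Agent.Lib.Helper2.AlperinTame

set_option autoImplicit false
open Cfsg

namespace Cfsg.Agent.S4251

open Cfsg.Agent.Lib.Helper2 Cfsg.Agent.Lib.Helper33
open Subgroup

/-- if `N_G(T)/C_G(T)` is a `p`-group and `N_P(T)` has index prime to `p` in `N_G(T)`, then
`N_G(T) = C_G(T) N_P(T)` -/
theorem exists_factor {G : Type*} [Group G] [Finite G] (p : ℕ) [Fact p.Prime] (P T : Subgroup G)
    (hidx : ¬ p ∣ (P ⊓ normalizer (T : Set G)).relIndex (normalizer (T : Set G)))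
    (hpg : IsPGroup p (normalizer (T : Set G) ⧸
      (centralizer (T : Set G)).subgroupOf (normalizer (T : Set G))))
    (x : G) (hx : x ∈ normalizer (T : Set G)) :
    ∃ u ∈ P ⊓ normalizer (T : Set G), u⁻¹ * x ∈ centralizer (T : Set G) := by
  have hp : p.Prime := Fact.out
  set N := normalizer (T : Set G) with hN
  set C' := (centralizer (T : Set G)).subgroupOf N with hC'
  set R := (P ⊓ N).subgroupOf N with hR
  let π := QuotientGroup.mk' C'
  have hsurj : Function.Surjective π := QuotientGroup.mk'_surjective C'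
  have h1 : (R.map π).index ∣ R.index := Subgroup.index_map_dvd R hsurj
  have h2 : ¬ p ∣ (R.map π).index := fun hd => hidx (hd.trans h1)
  obtain ⟨k, hk⟩ := hpg.index (R.map π)
  have h3 : (R.map π).index = 1 := by
    rcases Nat.eq_zero_or_pos k with h0 | h0
    · rw [hk, h0, pow_zero]
    · exfalso
      apply h2
      rw [hk]
      exact dvd_pow_self p h0.ne'
  rw [Subgroup.index_eq_one] at h3
  have h4 : π ⟨x, hx⟩ ∈ R.map π := by rw [h3]; exact Subgroup.mem_top _
  obtain ⟨u, hu, hue⟩ := h4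
  refine ⟨(u : G), hu, ?_⟩
  have h5 : (u : ↥N)⁻¹ * ⟨x, hx⟩ ∈ C' := by
    rw [← QuotientGroup.eq]
    exact hue
  exact h5

theorem fusion {G : Type*} [Group G] [Finite G] (p : ℕ) [Fact p.Prime] (P : Sylow p G)
    (h : ∀ Q : Sylow p G, (P : Subgroup G) ⊓ (Q : Subgroup G) ≠ ⊥ → (¬ p ∣ ((P : Subgroup G) ⊓ Subgroup.normalizer (((P : Subgroup G) ⊓ (Q : Subgroup G) : Subgroup G) : Set G)).relIndex (Subgroup.normalizer (((P : Subgroup G) ⊓ (Q : Subgroup G) : Subgroup G) : Set G)) ∧ ¬ p ∣ ((Q : Subgroup G) ⊓ Subgroup.normalizer (((P : Subgroup G) ⊓ (Q : Subgroup G) : Subgroup G) : Set G)).relIndex (Subgroup.normalizer (((P : Subgroup G) ⊓ (Q : Subgroup G) : Subgroup G) : Set G))) →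
      IsPGroup p (Subgroup.normalizer (((P : Subgroup G) ⊓ (Q : Subgroup G) : Subgroup G) : Set G) ⧸
        (Subgroup.centralizer (((P : Subgroup G) ⊓ (Q : Subgroup G) : Subgroup G) : Set G)).subgroupOf
          (Subgroup.normalizer (((P : Subgroup G) ⊓ (Q : Subgroup G) : Subgroup G) : Set G))))
    (A : Set G) (g : G) (hr : Reach (tameFamily P) A g) :
    A ⊆ (P : Subgroup G) → ∀ a ∈ A, ∃ w ∈ (P : Subgroup G), g⁻¹ * a * g = w⁻¹ * a * w := by
  induction hr with
  | nil A =>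
    intro _ a _
    exact ⟨1, one_mem _, by group⟩
  | cons A T x g hT hx hAT hr ih =>
    intro hAP a ha
    obtain ⟨Q, rfl, htame⟩ := hT
    have hsub : rc x A ⊆ (P : Subgroup G) :=
      (rc_subset_of_mem_normalizer hx hAT).trans inf_le_left
    by_cases hbot : (P : Subgroup G) ⊓ (Q : Subgroup G) = ⊥
    · have ha1 : a = 1 := by
        have := hAT ha
        rw [hbot] at this
        exact this
      subst ha1
      exact ⟨1, one_mem _, by group⟩
    · have hpg := h Q hbot htame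
      obtain ⟨u, hu, huc⟩ := exists_factor p (P : Subgroup G) _ htame.1 hpg x hx
      have haT : a ∈ (P : Subgroup G) ⊓ (Q : Subgroup G) := hAT ha
      rw [mem_centralizer_iff] at huc
      have hbT : u⁻¹ * a * u ∈ (P : Subgroup G) ⊓ (Q : Subgroup G) := by
        have := (mem_normalizer_iff.1 (inv_mem hu.2) a).1 haT
        rwa [inv_inv] at this
      have h1 : u⁻¹ * a * u * (u⁻¹ * x) = u⁻¹ * x * (u⁻¹ * a * u) := huc _ hbT
      have h2 : x⁻¹ * a * x = u⁻¹ * a * u := by
        calc x⁻¹ * a * x = (u⁻¹ * x)⁻¹ * (u⁻¹ * a * u * (u⁻¹ * x)) := by group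
          _ = (u⁻¹ * x)⁻¹ * (u⁻¹ * x * (u⁻¹ * a * u)) := by rw [h1]
          _ = u⁻¹ * a * u := by group
      have hmem : x⁻¹ * a * x ∈ rc x A := conj_mem_rc ha
      obtain ⟨w', hw', hwe⟩ := ih hsub _ hmem
      refine ⟨u * w', mul_mem hu.1 hw', ?_⟩
      calc (x * g)⁻¹ * a * (x * g) = g⁻¹ * (x⁻¹ * a * x) * g := by group
        _ = w'⁻¹ * (x⁻¹ * a * x) * w' := hwe
        _ = w'⁻¹ * (u⁻¹ * a * u) * w' := by rw [h2]
        _ = (u * w')⁻¹ * a * (u * w') := by group

/-- Let P be a Sylow p-subgroup of a finite group G. Call an intersection H = P ∩ Q with a Sylow p-subgroup Q tame when N_P(H) and N_Q(H) are Sylow p-subgroups of N_G(H). If N_G(H)/C_G(H) is a p-group for every nontrivial tame intersection H = P ∩ Q, then G has a normal p-complement. -/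
theorem result {G : Type*} [Group G] [Finite G] (p : ℕ) [Fact p.Prime] (P : Sylow p G)
    (h : ∀ Q : Sylow p G, (P : Subgroup G) ⊓ (Q : Subgroup G) ≠ ⊥ → (¬ p ∣ ((P : Subgroup G) ⊓ Subgroup.normalizer (((P : Subgroup G) ⊓ (Q : Subgroup G) : Subgroup G) : Set G)).relIndex (Subgroup.normalizer (((P : Subgroup G) ⊓ (Q : Subgroup G) : Subgroup G) : Set G)) ∧ ¬ p ∣ ((Q : Subgroup G) ⊓ Subgroup.normalizer (((P : Subgroup G) ⊓ (Q : Subgroup G) : Subgroup G) : Set G)).relIndex (Subgroup.normalizer (((P : Subgroup G) ⊓ (Q : Subgroup G) : Subgroup G) : Set G))) →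
      IsPGroup p (Subgroup.normalizer (((P : Subgroup G) ⊓ (Q : Subgroup G) : Subgroup G) : Set G) ⧸
        (Subgroup.centralizer (((P : Subgroup G) ⊓ (Q : Subgroup G) : Subgroup G) : Set G)).subgroupOf
          (Subgroup.normalizer (((P : Subgroup G) ⊓ (Q : Subgroup G) : Subgroup G) : Set G)))) :
    Cfsg.HasNormalPComplement p G := by
  rw [Cfsg.Agent.S1946.result P]
  intro a ha _ g hg
  have hA : ({a} : Set G) ⊆ (P : Subgroup G) := by
    intro b hb; rw [Set.mem_singleton_iff] at hb; rw [hb]; exact ha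
  have hAg : rc g⁻¹ ({a} : Set G) ⊆ (P : Subgroup G) := by
    rintro b ⟨c, hc, rfl⟩
    rw [Set.mem_singleton_iff] at hc
    rw [hc, inv_inv]; exact hg
  have hr := reach_tame P ({a} : Set G) g⁻¹ hA hAg
  obtain ⟨w, hw, hwe⟩ := fusion p P h _ _ hr hA a rfl
  refine ⟨w⁻¹, inv_mem hw, ?_⟩
  rw [inv_inv] at hwe ⊢
  exact hwe

end Cfsg.Agent.S4251
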