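import Cfsg.Statements.S4255
import Cfsg.Agent.Lib.Helper70.ClassGraph4

set_option autoImplicit false
open Cfsg

namespace Cfsg.Agent.S4255

open Cfsg.Agent.Lib.Helper70 Subgroup

/-- a splitting in which some side dominates gives the Frobenius structure -/
theorem of_split {G : Type*} [Group G] [Finite G] {X : Set G} (h : CGSplit X)
    {x₀ y₀ : G} (hx₀ : x₀ ∈ X) (hy₀ : y₀ ∈ CGOther X) :
    ∃ H : Subgroup (G ⧸ Subgroup.center G), Cfsg.IsFrobeniusComplement H ∧ IsMulCommutative H ∧
      ∀ x ∈ Cfsg.frobeniusKernel H, ∀ y ∈ Cfsg.frobeniusKernel H, x * y = y * x := by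
  obtain ⟨g₀, hg₀⟩ := Finite.exists_max (fun g : G => cgs g)
  have hg₀z : g₀ ∉ center G := by
    intro hz
    have h1 := hg₀ x₀
    rw [cgs_eq_one_iff.mpr hz] at h1
    have := one_lt_cgs (h.notCentral x₀ hx₀)
    omega
  by_cases hgX : g₀ ∈ X
  · have hmax : ∀ y ∈ CGOther X, cgs y < cgs g₀ := by
      intro y hy
      have h1 := hg₀ y
      have h2 : cgs y ≠ cgs g₀ := by
        intro he
        have h3 := h.cop' hgX hy
        rw [← he, Nat.coprime_self] at h3
        exact hy.1 (cgs_eq_one_iff.mp h3)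
      omega
    have hlt : ∀ x ∈ X, ∀ y ∈ CGOther X, cgs y < cgs x :=
      fun x hx y hy => h.lt_of_dom hgX hmax hx hy
    exact h.frobenius hlt hgX hy₀
  · have hgY : g₀ ∈ CGOther X := ⟨hg₀z, hgX⟩
    have h' := h.other
    have hoo := h.other_other
    have hmax : ∀ y ∈ CGOther (CGOther X), cgs y < cgs g₀ := by
      intro y hy
      rw [hoo] at hy
      have h1 := hg₀ y
      have h2 : cgs y ≠ cgs g₀ := by
        intro he
        have h3 := h.cop' hy hgY
        rw [he, Nat.coprime_self] at h3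
        exact hg₀z (cgs_eq_one_iff.mp h3)
      omega
    have hlt : ∀ x ∈ CGOther X, ∀ y ∈ CGOther (CGOther X), cgs y < cgs x :=
      fun x hx y hy => h'.lt_of_dom hgY hmax hx hy
    have hx₀' : x₀ ∈ CGOther (CGOther X) := by rw [hoo]; exact hx₀
    exact h'.frobenius hlt hgY hx₀'

/-- Let G be a finite group. Call a prime a vertex if it divides some conjugacy class size of G, and two distinct vertices adjacent if their product divides some class size. Suppose this graph is disconnected: the vertices split into two nonempty parts with no vertex of one part adjacent to a vertex of the other. Then G/Z(G) is a Frobenius group with abelian Frobenius complement and with a Frobenius kernel all of whose elements commute. -/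
theorem result {G : Type*} [Group G] [Finite G] (S : Set ℕ) (hS : ∃ p ∈ S, (p.Prime ∧ ∃ g : G, p ∣ (Subgroup.centralizer ({g} : Set G)).index)) (hS' : ∃ q ∉ S, (q.Prime ∧ ∃ g : G, q ∣ (Subgroup.centralizer ({g} : Set G)).index))
    (hdisc : ∀ p q : ℕ, (p.Prime ∧ ∃ g : G, p ∣ (Subgroup.centralizer ({g} : Set G)).index) → (q.Prime ∧ ∃ g : G, q ∣ (Subgroup.centralizer ({g} : Set G)).index) → p ∈ S → q ∉ S → ¬ (∃ g : G, p * q ∣ (Subgroup.centralizer ({g} : Set G)).index)) :
    ∃ H : Subgroup (G ⧸ Subgroup.center G), Cfsg.IsFrobeniusComplement H ∧ IsMulCommutative H ∧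
      ∀ x ∈ Cfsg.frobeniusKernel H, ∀ y ∈ Cfsg.frobeniusKernel H, x * y = y * x := by
  -- no class size is divisible by a prime of `S` and a prime outside `S`
  have hmix : ∀ (g : G) (p q : ℕ), p.Prime → q.Prime → p ∈ S → q ∉ S → p ∣ cgs g → q ∣ cgs g →
      False := by
    intro g p q hp hq hpS hqS hpg hqg
    have hne : p ≠ q := by
      rintro rfl
      exact hqS hpS
    have hcop : Nat.Coprime p q := (Nat.coprime_primes hp hq).mpr hne
    exact hdisc p q ⟨hp, g, hpg⟩ ⟨hq, g, hqg⟩ hpS hqS ⟨g, hcop.mul_dvd_of_dvd_of_dvd hpg hqg⟩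
  set X : Set G := {g | g ∉ center G ∧ ∀ p : ℕ, p.Prime → p ∣ cgs g → p ∈ S} with hX
  have hsplit : CGSplit X := by
    refine ⟨fun x hx => hx.1, ?_⟩
    intro x hx y hyz hyX
    apply Nat.coprime_of_dvd
    intro k hk hkx hky
    have hkS : k ∈ S := hx.2 k hk hkx
    have : ∃ q : ℕ, q.Prime ∧ q ∣ cgs y ∧ q ∉ S := by
      by_contra hcon
      push Not at hcon
      exact hyX ⟨hyz, fun p hp hpy => hcon p hp hpy⟩
    obtain ⟨q, hq, hqy, hqS⟩ := this
    exact hmix y k q hk hq hkS hqS hky hqy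
  obtain ⟨p, hpS, hp, g, hpg⟩ := hS
  obtain ⟨q, hqS, hq, g', hqg'⟩ := hS'
  have hgz : g ∉ center G := by
    intro hz
    have : cgs g = 1 := cgs_eq_one_iff.mpr hz
    have h1 : p ∣ 1 := this ▸ hpg
    exact hp.one_lt.ne' (Nat.dvd_one.mp h1)
  have hgX : g ∈ X := by
    refine ⟨hgz, fun s hs hsg => ?_⟩
    by_contra hsS
    exact hmix g p s hp hs hpS hsS hpg hsg
  have hg'z : g' ∉ center G := by
    intro hz
    have : cgs g' = 1 := cgs_eq_one_iff.mpr hz
    have h1 : q ∣ 1 := this ▸ hqg'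
    exact hq.one_lt.ne' (Nat.dvd_one.mp h1)
  have hg'Y : g' ∈ CGOther X := by
    refine ⟨hg'z, fun h1 => ?_⟩
    exact hqS (h1.2 q hq hqg')
  exact of_split hsplit hgX hg'Y

end Cfsg.Agent.S4255
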