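import Cfsg.Statements.S4260

set_option autoImplicit false
open Cfsg

namespace Cfsg.Agent.S4260

theorem mem_iff {G : Type*} [Group G] [Finite G] (H : Subgroup G) (hHall : (Nat.card H).Coprime H.index)
    (hexp : ∀ x : G, x ^ H.index ∈ H) (x : G) : x ∈ H ↔ x ^ Nat.card H = 1 := by
  constructor
  · intro hx
    have h1 : (⟨x, hx⟩ : H) ^ Nat.card H = 1 := pow_card_eq_one'
    have h2 := congrArg Subtype.val h1
    rw [Subgroup.coe_pow] at h2
    exact h2
  · intro hx
    have hord : orderOf x ∣ Nat.card H := orderOf_dvd_of_pow_eq_one hx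
    have hcop : (orderOf x).Coprime H.index := Nat.Coprime.coprime_dvd_left hord hHall
    obtain ⟨m, hm⟩ := exists_pow_eq_self_of_coprime (Nat.Coprime.symm hcop) (x := x)
    rw [← hm]
    exact H.pow_mem (hexp x) m

/-- Let H be a Hall subgroup of a finite group G (the order of H is coprime to its index) such that x^[G : H] lies in H for every x in G. Then H is normal in G. -/
theorem result {G : Type*} [Group G] [Finite G] (H : Subgroup G) (hHall : (Nat.card H).Coprime H.index)
    (hexp : ∀ x : G, x ^ H.index ∈ H) : H.Normal := by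
  constructor
  intro n hn g
  rw [mem_iff H hHall hexp] at hn ⊢
  rw [conj_pow, hn]; simp

end Cfsg.Agent.S4260
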