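import Cfsg.Statements.S4261

set_option autoImplicit false
open Cfsg

namespace Cfsg.Agent.S4261

theorem pow_mul_mem_commutator {G : Type*} [Group G] (x y : G) (n : ℕ) :
    (x * y) ^ n * (x ^ n * y ^ n)⁻¹ ∈ commutator G := by
  rw [← Abelianization.ker_of, MonoidHom.mem_ker]
  simp [mul_pow]

theorem relIndex_sup_eq {G : Type*} [Group G] [Finite G] (H A : Subgroup G) [A.Normal] :
    H.relIndex (H ⊔ A) = H.relIndex A := by
  have e1 : (H ⊓ A).relIndex H * H.relIndex (H ⊔ A) = (H ⊓ A).relIndex (H ⊔ A) :=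
    Subgroup.relIndex_mul_relIndex _ _ _ inf_le_left le_sup_left
  have e2 : (H ⊓ A).relIndex A * A.relIndex (H ⊔ A) = (H ⊓ A).relIndex (H ⊔ A) :=
    Subgroup.relIndex_mul_relIndex _ _ _ inf_le_right le_sup_right
  have e3 : A.relIndex (H ⊔ A) = (H ⊓ A).relIndex H := by
    rw [Subgroup.relIndex_sup_right, Subgroup.inf_relIndex_left]
  have e4 : (H ⊓ A).relIndex A = H.relIndex A := Subgroup.inf_relIndex_right H A
  have hne : (H ⊓ A).relIndex H ≠ 0 := Subgroup.index_ne_zero_of_finite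
  rw [e3, e4] at e2
  rw [← e2, mul_comm] at e1
  exact Nat.eq_of_mul_eq_mul_right (Nat.pos_of_ne_zero hne) e1

/-- The subgroup `{x ∈ D | x ^ p ∈ K}` when `D / K` is abelian. -/
def powSub {G : Type*} [Group G] (D K : Subgroup G) (p : ℕ) (hDK : ⁅D, D⁆ ≤ K) : Subgroup G where
  carrier := {x | x ∈ D ∧ x ^ p ∈ K}
  one_mem' := ⟨D.one_mem, by rw [one_pow]; exact K.one_mem⟩
  mul_mem' := by
    rintro x y ⟨hx, hxp⟩ ⟨hy, hyp⟩
    refine ⟨D.mul_mem hx hy, ?_⟩
    have h1 := pow_mul_mem_commutator (⟨x, hx⟩ : D) ⟨y, hy⟩ p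
    have h2 : D.subtype ((⟨x, hx⟩ * ⟨y, hy⟩ : D) ^ p * ((⟨x, hx⟩ : D) ^ p * (⟨y, hy⟩ : D) ^ p)⁻¹) ∈
        (commutator D).map D.subtype := Subgroup.mem_map_of_mem _ h1
    rw [Subgroup.map_subtype_commutator] at h2
    have h3 : (x * y) ^ p * (x ^ p * y ^ p)⁻¹ ∈ K := by
      have := hDK h2
      simpa using this
    have h4 : (x * y) ^ p = ((x * y) ^ p * (x ^ p * y ^ p)⁻¹) * (x ^ p * y ^ p) := by group
    rw [h4]
    exact K.mul_mem h3 (K.mul_mem hxp hyp)
  inv_mem' := by
    rintro x ⟨hx, hxp⟩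
    refine ⟨D.inv_mem hx, ?_⟩
    rw [inv_pow]
    exact K.inv_mem hxp

theorem mem_powSub {G : Type*} [Group G] (D K : Subgroup G) (p : ℕ) (hDK : ⁅D, D⁆ ≤ K) (x : G) :
    x ∈ powSub D K p hDK ↔ x ∈ D ∧ x ^ p ∈ K := Iff.rfl

theorem powSub_normal {G : Type*} [Group G] (D K : Subgroup G) [D.Normal] [K.Normal] (p : ℕ)
    (hDK : ⁅D, D⁆ ≤ K) : (powSub D K p hDK).Normal := by
  constructor
  rintro x ⟨hx, hxp⟩ g
  refine ⟨Subgroup.Normal.conj_mem inferInstance x hx g, ?_⟩
  rw [conj_pow]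
  exact Subgroup.Normal.conj_mem inferInstance _ hxp g

theorem index_primePow_of_isCoatom {G : Type*} [Group G] [Finite G] (hG : Group.IsSolvable G)
    (M : Subgroup G) (hM : IsCoatom M) : ∃ p k : ℕ, p.Prime ∧ M.index = p ^ k := by
  classical
  obtain ⟨n, hn⟩ := hG.solvable
  have hex : ∃ k, derivedSeries G k ≤ M := ⟨n, by rw [hn]; exact bot_le⟩
  let k := Nat.find hex
  have hk : derivedSeries G k ≤ M := Nat.find_spec hex
  have hk0 : k ≠ 0 := by
    intro h0
    rw [h0, derivedSeries_zero] at hk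
    exact hM.1 (top_le_iff.mp hk)
  obtain ⟨j, hj⟩ := Nat.exists_eq_succ_of_ne_zero hk0
  set D := derivedSeries G j with hD
  have hDM : ¬ D ≤ M := by
    have := Nat.find_min hex (m := j) (by omega)
    exact this
  have hD'M : ⁅D, D⁆ ≤ M := by
    have : derivedSeries G (j + 1) = ⁅D, D⁆ := derivedSeries_succ G j
    rw [← this]
    have hk' := hk
    rw [hj] at hk'
    exact hk'
  have hDn : D.Normal := derivedSeries_normal G j
  have hD'n : (⁅D, D⁆).Normal := by
    have : derivedSeries G (j + 1) = ⁅D, D⁆ := derivedSeries_succ G j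
    rw [← this]
    exact derivedSeries_normal G (j + 1)
  set K := M.normalCore ⊓ D with hK
  have hDK : ⁅D, D⁆ ≤ K := le_inf (Subgroup.normal_le_normalCore.mpr hD'M) (Subgroup.commutator_le_self D)
  have hKD : K ≤ D := inf_le_right
  have hKM : K ≤ M := inf_le_left.trans (Subgroup.normalCore_le M)
  have hKn : K.Normal := inferInstance
  have hKneD : K ≠ D := by
    intro h
    apply hDM
    rw [← h]
    exact hKM
  -- choose prime p dividing [D : K]
  have hrel : K.relIndex D ≠ 1 := by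
    intro h
    apply hKneD
    exact le_antisymm hKD (Subgroup.relIndex_eq_one.mp h)
  obtain ⟨p, hp, hpdvd⟩ := Nat.exists_prime_and_dvd hrel
  have : Fact p.Prime := ⟨hp⟩
  set E := powSub D K p hDK with hE
  have hEn : E.Normal := powSub_normal D K p hDK
  have hKE : K ≤ E := fun x hx => ⟨hKD hx, K.pow_mem hx p⟩
  have hED : E ≤ D := fun x hx => hx.1
  -- Cauchy: an element of E outside K
  have hEK : ¬ E ≤ K := by
    have hcard : p ∣ Nat.card (D ⧸ K.subgroupOf D) := by
      have : Nat.card (D ⧸ K.subgroupOf D) = K.relIndex D := rfl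
      rw [this]; exact hpdvd
    obtain ⟨g, hg⟩ := exists_prime_orderOf_dvd_card' (G := D ⧸ K.subgroupOf D) p hcard
    obtain ⟨x, rfl⟩ := QuotientGroup.mk_surjective g
    intro hle
    have h1 : (x : G) ∈ E := by
      refine ⟨x.2, ?_⟩
      have h2 : ((x : D ⧸ K.subgroupOf D)) ^ p = 1 := by rw [← hg]; exact pow_orderOf_eq_one _
      rw [← QuotientGroup.mk_pow, QuotientGroup.eq_one_iff, Subgroup.mem_subgroupOf] at h2
      simpa using h2
    have h3 : (x : G) ∈ K := hle h1
    have h4 : (x : D ⧸ K.subgroupOf D) = 1 := by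
      rw [QuotientGroup.eq_one_iff, Subgroup.mem_subgroupOf]; exact h3
    rw [h4, orderOf_one] at hg
    exact hp.one_lt.ne hg
  have hEM : ¬ E ≤ M := by
    intro hle
    apply hEK
    exact le_inf (Subgroup.normal_le_normalCore.mpr hle) hED
  have hsup : M ⊔ E = ⊤ := by
    by_contra hne
    have h1 : M < M ⊔ E := lt_of_le_of_ne le_sup_left (fun h => hEM (h ▸ le_sup_right))
    exact hne (hM.2 _ h1)
  -- index computation
  have hidx : M.index = (M ⊓ E).relIndex E := by
    rw [← Subgroup.relIndex_top_right, ← hsup, relIndex_sup_eq, Subgroup.inf_relIndex_right]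
  have hdvd : (M ⊓ E).relIndex E ∣ K.relIndex E :=
    Subgroup.relIndex_dvd_of_le_left E (le_inf hKM hKE)
  -- E / K is a p-group
  have hpg : IsPGroup p (E ⧸ K.subgroupOf E) := by
    intro g
    obtain ⟨x, rfl⟩ := QuotientGroup.mk_surjective g
    refine ⟨1, ?_⟩
    rw [pow_one, ← QuotientGroup.mk_pow, QuotientGroup.eq_one_iff, Subgroup.mem_subgroupOf]
    have := x.2.2
    simpa using this
  obtain ⟨m, hm⟩ := IsPGroup.iff_card.mp hpg
  have hKE' : K.relIndex E = p ^ m := hm
  rw [hKE'] at hdvd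
  obtain ⟨i, -, hi⟩ := (Nat.dvd_prime_pow hp).mp hdvd
  exact ⟨p, i, hp, by rw [hidx, hi]⟩

/-- Let M be a maximal subgroup of a finite solvable group G such that x^[G : M] lies in M for every x in G. Then M is normal in G. -/
theorem result {G : Type*} [Group G] [Finite G] (hG : Group.IsSolvable G) (M : Subgroup G) (hM : IsCoatom M)
    (hexp : ∀ x : G, x ^ M.index ∈ M) : M.Normal := by
  obtain ⟨p, k, hp, hidx⟩ := index_primePow_of_isCoatom hG M hM
  have : Fact p.Prime := ⟨hp⟩
  set N := M.normalCore with hN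
  have hexpN : ∀ x : G, x ^ (p ^ k) ∈ N := by
    intro x b
    rw [← conj_pow, ← hidx]
    exact hexp _
  have hpg : IsPGroup p (G ⧸ N) := by
    intro g
    obtain ⟨x, rfl⟩ := QuotientGroup.mk_surjective g
    refine ⟨k, ?_⟩
    rw [← QuotientGroup.mk_pow, QuotientGroup.eq_one_iff]
    exact hexpN x
  have : Group.IsNilpotent (G ⧸ N) := hpg.isNilpotent
  have hnc : NormalizerCondition (G ⧸ N) := Group.normalizerCondition_of_isNilpotent
  rw [normalizerCondition_iff_only_full_group_self_normalizing] at hnc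
  have hNM : N ≤ M := Subgroup.normalCore_le M
  have hcomap : (M.map (QuotientGroup.mk' N)).comap (QuotientGroup.mk' N) = M := by
    rw [Subgroup.comap_map_eq, QuotientGroup.ker_mk', sup_of_le_left hNM]
  have hne : Subgroup.normalizer ((M.map (QuotientGroup.mk' N) : Subgroup (G ⧸ N)) : Set (G ⧸ N)) ≠
      M.map (QuotientGroup.mk' N) := by
    intro h
    have h1 := hnc _ h
    have h2 : M = ⊤ := by
      rw [← hcomap, h1, Subgroup.comap_top]
    exact hM.1 h2
  have hnorm : Subgroup.normalizer (M : Set G) ≠ M := by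
    intro h
    apply hne
    apply Subgroup.comap_injective (QuotientGroup.mk'_surjective N)
    rw [Subgroup.comap_normalizer_eq_of_surjective _ (QuotientGroup.mk'_surjective N), hcomap, h]
  have hlt : M < Subgroup.normalizer (M : Set G) :=
    lt_of_le_of_ne Subgroup.le_normalizer (Ne.symm hnorm)
  exact Subgroup.normalizer_eq_top_iff.mp (hM.2 _ hlt)

end Cfsg.Agent.S4261
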