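import Cfsg.Statements.S4262
import Cfsg.Agent.Lib.Helper71.MaxCentCount

set_option autoImplicit false
open Cfsg

namespace Cfsg.Agent.S4262

open Cfsg.Agent.Lib.Helper71.MaxCent

universe u

theorem main : ∀ n : ℕ, ∀ (G : Type u) [Group G] [Finite G], Nat.card G = n →
    (∀ g : G, g ∉ Subgroup.center G → IsCoatom (Subgroup.centralizer ({g} : Set G))) →
    Group.IsSolvable G := by
  intro n
  induction n using Nat.strong_induction_on with
  | _ n ih =>
  intro G _ _ hn h
  by_cases hZ : Subgroup.center G = ⊥
  · apply solvable_of_forall_isCoatom
    intro g hg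
    exact h g (by rw [hZ, Subgroup.mem_bot]; exact hg)
  · have hlt : Nat.card (G ⧸ Subgroup.center G) < n := by
      have h1 := Subgroup.card_eq_card_quotient_mul_card_subgroup (Subgroup.center G)
      have h2 : 1 < Nat.card (Subgroup.center G) :=
        (Subgroup.one_lt_card_iff_ne_bot _).mpr hZ
      have h3 : 0 < Nat.card (G ⧸ Subgroup.center G) := Nat.card_pos
      rw [← hn, h1]; nlinarith
    have hquot : ∀ q : G ⧸ Subgroup.center G, q ∉ Subgroup.center (G ⧸ Subgroup.center G) →
        IsCoatom (Subgroup.centralizer ({q} : Set (G ⧸ Subgroup.center G))) := by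
      intro q hq
      obtain ⟨g, rfl⟩ := QuotientGroup.mk'_surjective (Subgroup.center G) q
      have hsurj := QuotientGroup.mk'_surjective (Subgroup.center G)
      have hg : g ∉ Subgroup.center G := by
        intro hg
        apply hq
        have : (QuotientGroup.mk' (Subgroup.center G)) g = 1 := by
          rw [← MonoidHom.mem_ker, QuotientGroup.ker_mk']; exact hg
        rw [this]; exact Subgroup.one_mem _
      have hc := h g hg
      obtain ⟨D, hD⟩ : ∃ D : Subgroup (G ⧸ Subgroup.center G),
          D = Subgroup.centralizer ({(QuotientGroup.mk' (Subgroup.center G)) g} :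
            Set (G ⧸ Subgroup.center G)) := ⟨_, rfl⟩
      rw [← hD]
      have hDtop : D ≠ ⊤ := by
        intro h0
        apply hq
        rw [Subgroup.mem_center_iff]
        intro b
        have hb : b ∈ D := h0 ▸ Subgroup.mem_top b
        rw [hD, Subgroup.mem_centralizer_singleton_iff] at hb
        exact hb
      have hle : Subgroup.centralizer ({g} : Set G) ≤
          D.comap (QuotientGroup.mk' (Subgroup.center G)) := by
        intro m hm
        rw [Subgroup.mem_centralizer_singleton_iff] at hm
        rw [Subgroup.mem_comap, hD, Subgroup.mem_centralizer_singleton_iff, ← map_mul, ← map_mul, hm]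
      have hcomapD : D.comap (QuotientGroup.mk' (Subgroup.center G)) =
          Subgroup.centralizer ({g} : Set G) := by
        refine (hc.le_iff_eq ?_).mp hle
        intro h0
        apply hDtop
        rw [← Subgroup.map_comap_eq_self_of_surjective hsurj D, h0,
          Subgroup.map_top_of_surjective _ hsurj]
      refine ⟨hDtop, fun B hB => ?_⟩
      have hle2 : Subgroup.centralizer ({g} : Set G) ≤
          B.comap (QuotientGroup.mk' (Subgroup.center G)) := by
        rw [← hcomapD]; exact Subgroup.comap_mono hB.le
      rcases hc.le_iff.mp hle2 with h1 | h1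
      · rw [← Subgroup.map_comap_eq_self_of_surjective hsurj B, h1,
          Subgroup.map_top_of_surjective _ hsurj]
      · exfalso
        apply hB.ne
        rw [← Subgroup.map_comap_eq_self_of_surjective hsurj B, h1, ← hcomapD,
          Subgroup.map_comap_eq_self_of_surjective hsurj D]
    have hsolvQ : Group.IsSolvable (G ⧸ Subgroup.center G) := ih _ hlt _ rfl hquot
    have hsolvZ : Group.IsSolvable (Subgroup.center G) :=
      Group.isSolvable_of_comm (fun a b => Subtype.ext (Subgroup.mem_center_iff.mp b.2 a.1))
    exact Group.isSolvable_of_ker_le_range (Subgroup.center G).subtype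
      (QuotientGroup.mk' (Subgroup.center G)) (by simp)

/-- Let G be a finite group in which the centralizer of every non-central element is a maximal subgroup of G. Then G is solvable. -/
theorem result {G : Type*} [Group G] [Finite G]
    (h : ∀ g : G, g ∉ Subgroup.center G → IsCoatom (Subgroup.centralizer ({g} : Set G))) :
    Group.IsSolvable G := by
  exact main (Nat.card G) G rfl h

end Cfsg.Agent.S4262
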