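-- Statement S4263: Baer-type characterisation of the Fitting subgroup.
import Cfsg.Statements.S4263

set_option autoImplicit false
open Cfsg

namespace Cfsg.Agent.S4263

section Cyclic

variable {G : Type*} [Group G]

/-- reduction to elements of prime power order inside a cyclic group -/
theorem cyclic_induction [Finite G] (P : G → Prop)
    (hmul : ∀ a b : G, Commute a b → P a → P b → P (a * b))
    (hzpow : ∀ (a : G) (k : ℤ), P a → P (a ^ k)) (x : G)
    (hpp : ∀ y ∈ Subgroup.zpowers x, ∀ p k : ℕ, p.Prime → orderOf y = p ^ k → P y) : P x := by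
  suffices h : ∀ n : ℕ, ∀ y ∈ Subgroup.zpowers x, orderOf y = n → P y from
    h (orderOf x) x (Subgroup.mem_zpowers x) rfl
  intro n
  induction n using Nat.strong_induction_on with
  | _ n ih =>
    intro y hy hn
    have hpos : 0 < n := hn ▸ orderOf_pos y
    by_cases h1 : n = 1
    · exact hpp y hy 2 0 Nat.prime_two (by rw [hn, h1, pow_zero])
    have hp : (n.minFac).Prime := Nat.minFac_prime h1
    obtain ⟨k, m, hpm, hnkm⟩ :=
      Nat.exists_eq_pow_mul_and_not_dvd hpos.ne' n.minFac hp.ne_one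
    set p := n.minFac with hpdef
    have hk : k ≠ 0 := by
      rintro rfl
      rw [pow_zero, one_mul] at hnkm
      exact hpm (hnkm ▸ Nat.minFac_dvd n)
    have hm0 : m ≠ 0 := by
      rintro rfl
      rw [mul_zero] at hnkm
      exact hpos.ne' hnkm
    by_cases hm1 : m = 1
    · exact hpp y hy p k hp (by rw [hn, hnkm, hm1, mul_one])
    have hcop : Nat.Coprime (p ^ k) m :=
      Nat.Coprime.pow_left k ((Nat.Prime.coprime_iff_not_dvd hp).mpr hpm)
    have hpk1 : 1 < p ^ k := Nat.one_lt_pow hk hp.one_lt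
    have hm2 : 1 < m := by omega
    -- the two parts
    have ha : orderOf (y ^ (p ^ k)) = m := by
      rw [orderOf_pow_of_dvd (by positivity) (by rw [hn, hnkm]; exact Dvd.intro _ rfl), hn, hnkm,
        Nat.mul_div_cancel_left _ (by positivity)]
    have hb : orderOf (y ^ m) = p ^ k := by
      rw [orderOf_pow_of_dvd hm0 (by rw [hn, hnkm]; exact Dvd.intro_left _ rfl), hn, hnkm,
        Nat.mul_div_cancel _ (Nat.pos_of_ne_zero hm0)]
    have hmn : m < n := by
      rw [hnkm]
      calc m = 1 * m := (one_mul m).symm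
        _ < p ^ k * m := Nat.mul_lt_mul_of_pos_right hpk1 (Nat.pos_of_ne_zero hm0)
    have hpkn : p ^ k < n := by
      rw [hnkm]
      calc p ^ k = p ^ k * 1 := (mul_one _).symm
        _ < p ^ k * m := Nat.mul_lt_mul_of_pos_left hm2 (by positivity)
    have hPa : P (y ^ (p ^ k)) := ih m hmn _ (Subgroup.pow_mem _ hy _) ha
    have hPb : P (y ^ m) := ih (p ^ k) hpkn _ (Subgroup.pow_mem _ hy _) hb
    -- Bezout
    have hbez := Nat.gcd_eq_gcd_ab (p ^ k) m
    rw [hcop.gcd_eq_one] at hbez
    have hy1 : y = (y ^ (p ^ k)) ^ (Nat.gcdA (p ^ k) m) * (y ^ m) ^ (Nat.gcdB (p ^ k) m) := by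
      rw [← zpow_natCast y (p ^ k), ← zpow_natCast y m, ← zpow_mul, ← zpow_mul, ← zpow_add,
        ← hbez]
      simp
    rw [hy1]
    refine hmul _ _ ?_ (hzpow _ _ hPa) (hzpow _ _ hPb)
    exact ((Commute.refl y).pow_pow _ _).zpow_zpow _ _

end Cyclic

section Core

variable {G : Type*} [Group G] [Finite G]

/-- the intersection of all Sylow `p`-subgroups -/
def K (p : ℕ) (G : Type*) [Group G] : Subgroup G := ⨅ P : Sylow p G, (P : Subgroup G)

theorem mem_K {p : ℕ} {x : G} : x ∈ K p G ↔ ∀ P : Sylow p G, x ∈ (P : Subgroup G) := by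
  rw [K, Subgroup.mem_iInf]

theorem K_isPGroup (p : ℕ) [Fact p.Prime] : IsPGroup p (K p G) := by
  have P : Sylow p G := default
  exact P.isPGroup'.to_le (iInf_le _ P)

theorem K_normal (p : ℕ) [Fact p.Prime] : (K p G).Normal := by
  refine ⟨fun x hx g => ?_⟩
  rw [mem_K] at hx ⊢
  intro P
  have h : x ∈ ((g⁻¹ • P : Sylow p G) : Subgroup G) := hx (g⁻¹ • P)
  rw [Sylow.coe_subgroup_smul, Subgroup.mem_pointwise_smul_iff_inv_smul_mem] at h
  simpa [MulAut.smul_def, MulAut.conj_apply] using h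

/-- a normal `p`-subgroup lies in every Sylow `p`-subgroup -/
theorem le_K {p : ℕ} [Fact p.Prime] {Q : Subgroup G} (hQn : Q.Normal) (hQ : IsPGroup p Q) :
    Q ≤ K p G := by
  intro x hx
  rw [mem_K]
  intro P
  haveI := hQn
  exact hQ.le_sylow_of_normal P hx

theorem K_le_fitting (p : ℕ) [Fact p.Prime] : K p G ≤ Cfsg.fittingSubgroup G := by
  apply le_sSup
  exact ⟨K_normal p, (K_isPGroup p).isNilpotent⟩

/-- elements of prime power order of a normal nilpotent subgroup lie in the `p`-core -/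
theorem mem_K_of_mem_nilpotent {p : ℕ} [Fact p.Prime] {N : Subgroup G} (hNn : N.Normal)
    (hN : Group.IsNilpotent N) {y : G} (hy : y ∈ N) {k : ℕ} (hk : orderOf y = p ^ k) :
    y ∈ K p G := by
  have P : Sylow p N := default
  have hPn : (P : Subgroup N).Normal := inferInstance
  have hPc : (P : Subgroup N).Characteristic := Sylow.characteristic_of_normal P hPn
  have hQn : ((P : Subgroup N).map N.subtype).Normal := inferInstance
  have hQ : IsPGroup p ((P : Subgroup N).map N.subtype) := P.isPGroup'.map _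
  apply le_K hQn hQ
  -- `y` is in the unique Sylow subgroup of `N`
  have hyp : IsPGroup p (Subgroup.zpowers (⟨y, hy⟩ : N)) := by
    apply IsPGroup.of_card (n := k)
    rw [Nat.card_zpowers, ← hk, ← Subgroup.orderOf_coe]
  obtain ⟨P', hP'⟩ := hyp.exists_le_sylow
  haveI := Sylow.unique_of_normal P hPn
  have hPP' : P' = P := Subsingleton.elim _ _
  refine ⟨⟨y, hy⟩, ?_, rfl⟩
  rw [← hPP']
  exact hP' (Subgroup.mem_zpowers _)

/-- elements of a normal `p`-subgroup: the index-th power lies in any subgroup -/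
theorem pow_index_mem_of_mem_normal_pGroup {p : ℕ} [Fact p.Prime] {Q : Subgroup G}
    (hQn : Q.Normal) (hQ : IsPGroup p Q) {x : G} (hx : x ∈ Q) (H : Subgroup G) :
    x ^ H.index ∈ H := by
  classical
  haveI := hQn
  -- the base point of the coset space
  set a : G ⧸ H := ((1 : G) : G ⧸ H) with ha
  -- the orbit of the base point under `Q` is a block of `p`-power size
  have hblock : MulAction.IsBlock G (MulAction.orbit Q a) := MulAction.IsBlock.orbit_of_normal a
  have hdvd : (MulAction.orbit Q a).ncard ∣ Nat.card (G ⧸ H) :=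
    hblock.ncard_dvd_card ⟨a, MulAction.mem_orbit_self a⟩
  obtain ⟨b, hb⟩ := hQ.card_orbit a
  rw [Nat.card_coe_set_eq] at hb
  -- the cyclic group generated by `x`
  set C : Subgroup G := Subgroup.zpowers x with hC
  have hCQ : C ≤ Q := by
    rw [hC, Subgroup.zpowers_le]; exact hx
  have hCp : IsPGroup p C := hQ.to_le hCQ
  obtain ⟨c, hc⟩ := hCp.card_orbit a
  rw [Nat.card_coe_set_eq] at hc
  have hsub : MulAction.orbit C a ⊆ MulAction.orbit Q a := by
    rintro _ ⟨⟨g, hg⟩, rfl⟩
    exact ⟨⟨g, hCQ hg⟩, rfl⟩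
  have hle : p ^ c ≤ p ^ b := by
    rw [← hc, ← hb]
    exact Set.ncard_le_ncard hsub (Set.toFinite _)
  have hcb : p ^ c ∣ p ^ b :=
    Nat.pow_dvd_pow p ((Nat.pow_le_pow_iff_right (Fact.out : p.Prime).one_lt).mp hle)
  -- the stabiliser of the base point in `C` has index `p ^ c` and contains `x ^ (p ^ c)`
  have hidx : (MulAction.stabilizer C a).index = p ^ c := by
    rw [MulAction.index_stabilizer, hc]
  have hxs : (⟨x, Subgroup.mem_zpowers x⟩ : C) ^ (p ^ c) ∈ MulAction.stabilizer C a := by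
    have hcomm : IsMulCommutative C := inferInstance
    haveI : (MulAction.stabilizer C a).Normal := inferInstance
    rw [← hidx]
    exact Subgroup.pow_index_mem _ _
  have hxH : x ^ (p ^ c) ∈ H := by
    rw [MulAction.mem_stabilizer_iff] at hxs
    have h1 : ((x ^ (p ^ c) : G) : G ⧸ H) = ((1 : G) : G ⧸ H) := by
      have : ((⟨x, Subgroup.mem_zpowers x⟩ : C) ^ (p ^ c)) • a = ((x ^ (p ^ c) * 1 : G) : G ⧸ H) := rfl
      rw [this, mul_one] at hxs
      exact hxs
    have := QuotientGroup.eq.mp h1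
    simpa using this
  have hfin : p ^ c ∣ H.index := by
    have : Nat.card (G ⧸ H) = H.index := rfl
    rw [← this]
    exact (hcb.trans (hb ▸ dvd_rfl)).trans hdvd
  obtain ⟨m, hm⟩ := hfin
  rw [hm, pow_mul]
  exact H.pow_mem hxH m

end Core

section PPrime

variable {G : Type*} [Group G] [Finite G]

/-- the largest normal subgroup of order prime to `p` -/
def M (p : ℕ) (G : Type*) [Group G] : Subgroup G :=
  sSup {N : Subgroup G | N.Normal ∧ (Nat.card N).Coprime p}

theorem card_sup_dvd (A B : Subgroup G) [B.Normal] :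
    Nat.card (A ⊔ B : Subgroup G) ∣ Nat.card A * Nat.card B := by
  have h1 : Nat.card (B.subgroupOf (A ⊔ B)) * (B.subgroupOf (A ⊔ B)).index =
      Nat.card (A ⊔ B : Subgroup G) := Subgroup.card_mul_index _
  have h2 : Nat.card (B.subgroupOf (A ⊔ B)) = Nat.card B :=
    Nat.card_congr (Subgroup.subgroupOfEquivOfLe le_sup_right).toEquiv
  have h3 : (B.subgroupOf (A ⊔ B)).index = B.relIndex A := Subgroup.relIndex_sup_right A B
  have h4 : B.relIndex A ∣ Nat.card A := Subgroup.relIndex_dvd_card B A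
  rw [← h1, h2, h3, mul_comm]
  exact Nat.mul_dvd_mul h4 dvd_rfl

theorem M_spec (p : ℕ) : (M p G).Normal ∧ (Nat.card (M p G)).Coprime p := by
  have hs : SupClosed {N : Subgroup G | N.Normal ∧ (Nat.card N).Coprime p} := by
    rintro A ⟨hAn, hA⟩ B ⟨hBn, hB⟩
    haveI := hAn
    haveI := hBn
    exact ⟨inferInstance, Nat.Coprime.coprime_dvd_left (card_sup_dvd A B) (Nat.Coprime.mul_left hA hB)⟩
  exact hs.sSup_mem (Set.toFinite _) ⟨inferInstance, by simp⟩ le_rfl

theorem K_le_M {p q : ℕ} [Fact p.Prime] [Fact q.Prime] (hne : q ≠ p) : K q G ≤ M p G := by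
  apply le_sSup
  refine ⟨K_normal q, ?_⟩
  obtain ⟨n, hn⟩ := IsPGroup.iff_card.mp (K_isPGroup (G := G) q)
  rw [hn]
  exact Nat.Coprime.pow_left n ((Nat.coprime_primes Fact.out Fact.out).mpr hne)

theorem fitting_le_sup (p : ℕ) [Fact p.Prime] : Cfsg.fittingSubgroup G ≤ K p G ⊔ M p G := by
  apply sSup_le
  rintro N ⟨hNn, hN⟩ x hx
  refine cyclic_induction (fun z => z ∈ K p G ⊔ M p G) (fun a b _ ha hb => Subgroup.mul_mem _ ha hb)
    (fun a k ha => Subgroup.zpow_mem _ ha k) x ?_
  intro z hz q j hq hj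
  haveI := Fact.mk hq
  have hzN : z ∈ N := (Subgroup.zpowers_le.mpr hx) hz
  have hzK : z ∈ K q G := mem_K_of_mem_nilpotent hNn hN hzN hj
  by_cases hqp : q = p
  · subst hqp
    exact (le_sup_left : K q G ≤ K q G ⊔ M q G) hzK
  · exact (le_sup_right : M p G ≤ K p G ⊔ M p G) (K_le_M hqp hzK)

/-- elements of prime power order of the Fitting subgroup lie in the `p`-core -/
theorem mem_K_of_mem_fitting {p : ℕ} [Fact p.Prime] {y : G} (hy : y ∈ Cfsg.fittingSubgroup G)
    {k : ℕ} (hk : orderOf y = p ^ k) : y ∈ K p G := by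
  haveI hKn : (K p G).Normal := K_normal p
  obtain ⟨hMn, hMc⟩ := M_spec (G := G) p
  obtain ⟨a, ha, b, hb, rfl⟩ := Subgroup.mem_sup_of_normal_left.mp (fitting_le_sup p hy)
  obtain ⟨n, hn⟩ := IsPGroup.iff_card.mp (K_isPGroup (G := G) p)
  have hcop : (Nat.card (K p G)).Coprime (Nat.card (M p G)) := by
    rw [hn]
    exact Nat.Coprime.pow_left n hMc.symm
  have hdis : Disjoint (K p G) (M p G) := Subgroup.disjoint_of_coprime_natCard hcop
  have hcomm : Commute a b := Subgroup.commute_of_normal_of_disjoint _ _ hKn hMn hdis a b ha hb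
  have h1 : (a * b) ^ (p ^ k) = 1 := by rw [← hk]; exact pow_orderOf_eq_one _
  rw [hcomm.mul_pow] at h1
  have h2 : b ^ (p ^ k) = (a ^ (p ^ k))⁻¹ := eq_inv_of_mul_eq_one_right h1
  have h3 : b ^ (p ^ k) ∈ K p G ⊓ M p G :=
    ⟨h2 ▸ (K p G).inv_mem ((K p G).pow_mem ha _), (M p G).pow_mem hb _⟩
  rw [hdis.eq_bot, Subgroup.mem_bot] at h3
  have h4 : orderOf b ∣ p ^ k := orderOf_dvd_of_pow_eq_one h3
  have h5 : orderOf b ∣ Nat.card (M p G) := (M p G).orderOf_dvd_natCard hb
  have h6 : orderOf b = 1 := Nat.eq_one_of_dvd_coprimes (Nat.Coprime.pow_right k hMc) h5 h4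
  rw [orderOf_eq_one_iff] at h6
  rw [h6, mul_one]
  exact ha

end PPrime

/-- Let G be a finite group. An element x lies in the Fitting subgroup F(G) if and only if, for every subgroup H of G, the power x^[G : H] lies in H. -/
theorem result {G : Type*} [Group G] [Finite G] (x : G) :
    x ∈ Cfsg.fittingSubgroup G ↔ ∀ H : Subgroup G, x ^ H.index ∈ H := by
  constructor
  · intro hx H
    refine cyclic_induction (fun y => y ^ H.index ∈ H) ?_ ?_ x ?_
    · intro a b hab ha hb
      show (a * b) ^ H.index ∈ H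
      rw [hab.mul_pow]
      exact H.mul_mem ha hb
    · intro a k ha
      show (a ^ k) ^ H.index ∈ H
      rw [← zpow_natCast, ← zpow_mul, mul_comm, zpow_mul, zpow_natCast]
      exact H.zpow_mem ha k
    · intro y hy p k hp hk
      haveI := Fact.mk hp
      have hyF : y ∈ Cfsg.fittingSubgroup G := (Subgroup.zpowers_le.mpr hx) hy
      exact pow_index_mem_of_mem_normal_pGroup (K_normal p) (K_isPGroup p)
        (mem_K_of_mem_fitting hyF hk) H
  · intro hx
    refine cyclic_induction (fun y => y ∈ Cfsg.fittingSubgroup G)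
      (fun a b _ ha hb => Subgroup.mul_mem _ ha hb) (fun a k ha => Subgroup.zpow_mem _ ha k) x ?_
    intro y hy p k hp hk
    haveI := Fact.mk hp
    apply K_le_fitting p
    rw [mem_K]
    intro P
    obtain ⟨j, rfl⟩ := Subgroup.mem_zpowers_iff.mp hy
    have h1 : (x ^ j) ^ (P : Subgroup G).index ∈ (P : Subgroup G) := by
      rw [← zpow_natCast, ← zpow_mul, mul_comm, zpow_mul, zpow_natCast]
      exact (P : Subgroup G).zpow_mem (hx P) j
    have hcop : Nat.Coprime (P : Subgroup G).index (orderOf (x ^ j)) := by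
      rw [hk]
      exact Nat.Coprime.pow_right k ((Nat.Prime.coprime_iff_not_dvd hp).mpr P.not_dvd_index).symm
    obtain ⟨m, hm⟩ := exists_pow_eq_self_of_coprime hcop
    rw [← hm]
    exact (P : Subgroup G).pow_mem h1 m

end Cfsg.Agent.S4263
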