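import Cfsg.Statements.S4269
import Mathlib

set_option autoImplicit false
open Cfsg

namespace Cfsg.Agent.S4269

open scoped Pointwise commutatorElement

variable {G : Type*} [Group G]

theorem map_conj_mul (H : Subgroup G) (a b : G) :
    H.map (MulAut.conj (a * b)).toMonoidHom =
      (H.map (MulAut.conj b).toMonoidHom).map (MulAut.conj a).toMonoidHom := by
  rw [Subgroup.map_map]
  congr 1
  ext x
  simp [mul_assoc]

theorem map_conj_one (H : Subgroup G) : H.map (MulAut.conj (1 : G)).toMonoidHom = H := by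
  ext x
  simp

theorem mem_normalizer_iff_map_conj (H : Subgroup G) (g : G) :
    g ∈ Subgroup.normalizer (H : Set G) ↔ H.map (MulAut.conj g).toMonoidHom = H :=
  Subgroup.mem_normalizer_iff_map_conj_eq

theorem map_conj_of_mem_normalizer (H : Subgroup G) {g : G}
    (hg : g ∈ Subgroup.normalizer (H : Set G)) : H.map (MulAut.conj g).toMonoidHom = H :=
  (mem_normalizer_iff_map_conj H g).mp hg

theorem map_conj_of_mem (H : Subgroup G) {g : G} (hg : g ∈ H) :
    H.map (MulAut.conj g).toMonoidHom = H :=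
  map_conj_of_mem_normalizer H (Subgroup.le_normalizer hg)

theorem map_conj_of_normal (N : Subgroup G) [N.Normal] (g : G) :
    N.map (MulAut.conj g).toMonoidHom = N :=
  map_conj_of_mem_normalizer N (by rw [Subgroup.normalizer_eq_top_iff.mpr inferInstance]; trivial)

theorem mem_map_conj (H : Subgroup G) (g x : G) :
    x ∈ H.map (MulAut.conj g).toMonoidHom ↔ ∃ h ∈ H, g * h * g⁻¹ = x := by
  simp [Subgroup.mem_map]

section main

variable (V : Subgroup G) [V.Normal] (hV : IsMulCommutative ↥V) (H : Subgroup G)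
  (hHV : H ⊔ V = ⊤)

omit [V.Normal] in
include hV in
theorem comm_of_mem {x y : G} (hx : x ∈ V) (hy : y ∈ V) : x * y = y * x := by
  have := hV.is_comm.comm (⟨x, hx⟩ : V) ⟨y, hy⟩
  exact congrArg Subtype.val this

omit [V.Normal] in
include hV hHV in
theorem normal_of_invariant (U : Subgroup G) (hUV : U ≤ V)
    (hU : ∀ h ∈ H, U.map (MulAut.conj h).toMonoidHom = U) : U.Normal := by
  rw [← Subgroup.normalizer_eq_top_iff, eq_top_iff, ← hHV]
  apply sup_le
  · intro h hh
    exact (mem_normalizer_iff_map_conj U h).mpr (hU h hh)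
  · intro v hv
    apply (mem_normalizer_iff_map_conj U v).mpr
    ext x
    rw [mem_map_conj]
    constructor
    · rintro ⟨u, hu, rfl⟩
      have : v * u * v⁻¹ = u := by
        rw [comm_of_mem V hV hv (hUV hu)]; group
      rw [this]; exact hu
    · intro hx
      refine ⟨x, hx, ?_⟩
      rw [comm_of_mem V hV hv (hUV hx)]; group

omit [V.Normal] in
include hV hHV in
theorem commutator_normal_of_invariant (U : Subgroup G) (hUV : U ≤ V)
    (hU : ∀ h ∈ H, U.map (MulAut.conj h).toMonoidHom = U) :
    (⁅H, U⁆).Normal ∧ ⁅H, U⁆ ≤ U := by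
  have hUn : U.Normal := normal_of_invariant V hV H hHV U hUV hU
  have hle : ⁅H, U⁆ ≤ U := Subgroup.commutator_le_right H U
  refine ⟨?_, hle⟩
  apply normal_of_invariant V hV H hHV _ (hle.trans hUV)
  intro h hh
  rw [Subgroup.map_commutator, map_conj_of_mem H hh, hU h hh]

end main

/-- Let G be a finite group, V an abelian normal subgroup and H a subgroup with HV = G. Then H is pronormal in G (H and gHg⁻¹ are conjugate inside the subgroup they generate, for every g) if and only if every H-invariant subgroup U of V satisfies U = N_U(H)·[H, U], that is, U is the join of U ∩ N_G(H) and the commutator subgroup [H, U]. -/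
theorem result {G : Type*} [Group G] [Finite G]
    (V : Subgroup G) [V.Normal] (hV : IsMulCommutative ↥V) (H : Subgroup G) (hHV : H ⊔ V = ⊤) :
    Cfsg.IsPronormal H ↔
      ∀ U : Subgroup G, U ≤ V → (∀ h ∈ H, U.map (MulAut.conj h).toMonoidHom = U) →
        U = (U ⊓ Subgroup.normalizer (H : Set G)) ⊔ ⁅H, U⁆ := by
  constructor
  · intro hpro U hUV hU
    obtain ⟨hCn, hCU⟩ := commutator_normal_of_invariant V hV H hHV U hUV hU
    apply le_antisymm
    · intro u hu
      obtain ⟨x, hx, hxe⟩ := hpro u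
      have hJ : H ⊔ H.map (MulAut.conj u).toMonoidHom ≤ ⁅H, U⁆ ⊔ H := by
        apply sup_le le_sup_right
        intro y hy
        rw [mem_map_conj] at hy
        obtain ⟨h, hh, rfl⟩ := hy
        have e : u * h * u⁻¹ = ⁅h, u⁆⁻¹ * h := by
          rw [commutatorElement_def]; group
        rw [e]
        exact Subgroup.mul_mem _
          (Subgroup.mem_sup_left (Subgroup.inv_mem _ (Subgroup.commutator_mem_commutator hh hu)))
          (Subgroup.mem_sup_right hh)
      have hx' : x ∈ ((⁅H, U⁆ ⊔ H : Subgroup G) : Set G) := hJ hx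
      rw [Subgroup.normal_mul, Set.mem_mul] at hx'
      obtain ⟨c, hc, h, hh, rfl⟩ := hx'
      rw [map_conj_mul, map_conj_of_mem H hh] at hxe
      -- hxe : H^u = H^c
      have hn : c⁻¹ * u ∈ Subgroup.normalizer (H : Set G) := by
        apply (mem_normalizer_iff_map_conj H _).mpr
        rw [map_conj_mul, hxe, ← map_conj_mul, inv_mul_cancel, map_conj_one]
      have hcu : c⁻¹ * u ∈ U := U.mul_mem (U.inv_mem (hCU hc)) hu
      have hcomm : c * (c⁻¹ * u) = (c⁻¹ * u) * c :=
        comm_of_mem V hV (hUV (hCU hc)) (hUV hcu)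
      have hu' : u = (c⁻¹ * u) * c := by rw [← hcomm]; group
      rw [hu']
      exact Subgroup.mul_mem _ (Subgroup.mem_sup_left ⟨hcu, hn⟩) (Subgroup.mem_sup_right hc)
    · exact sup_le inf_le_left hCU
  · intro hcond g
    have hg : g ∈ ((V ⊔ H : Subgroup G) : Set G) := by
      rw [sup_comm, hHV]; trivial
    rw [Subgroup.normal_mul, Set.mem_mul] at hg
    obtain ⟨v, hv, h, hh, rfl⟩ := hg
    have e1 : H.map (MulAut.conj (v * h)).toMonoidHom = H.map (MulAut.conj v).toMonoidHom := by
      rw [map_conj_mul, map_conj_of_mem H hh]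
    rw [e1]
    set U := Subgroup.normalClosure ({v} : Set G) with hUdef
    have hUV : U ≤ V := Subgroup.normalClosure_le_normal (Set.singleton_subset_iff.mpr hv)
    have hUinv : ∀ h ∈ H, U.map (MulAut.conj h).toMonoidHom = U := fun h _ =>
      map_conj_of_normal U h
    have hvU : v ∈ U := Subgroup.subset_normalClosure rfl
    set J := H ⊔ H.map (MulAut.conj v).toMonoidHom with hJdef
    have hHJ : H ≤ J := le_sup_left
    have hbase : ∀ m ∈ H, ⁅m, v⁆ ∈ J := by
      intro m hm
      have : ⁅m, v⁆ = m * (v * m⁻¹ * v⁻¹) := by rw [commutatorElement_def]; group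
      rw [this]
      exact J.mul_mem (hHJ hm) (Subgroup.mem_sup_right ((mem_map_conj H v _).mpr ⟨m⁻¹, H.inv_mem hm, rfl⟩))
    have hC : ⁅H, U⁆ ≤ J := by
      rw [Subgroup.commutator_le]
      intro k hk u hu
      have key : u ∈ V ∧ ∀ k ∈ H, ⁅k, u⁆ ∈ J := by
        rw [hUdef, Subgroup.normalClosure] at hu
        induction hu using Subgroup.closure_induction with
        | mem u hu =>
          rw [Group.mem_conjugatesOfSet_iff] at hu
          obtain ⟨a, ha, hconj⟩ := hu
          rw [Set.mem_singleton_iff] at ha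
          subst ha
          rw [isConj_iff] at hconj
          obtain ⟨g, rfl⟩ := hconj
          have hg : g ∈ ((V ⊔ H : Subgroup G) : Set G) := by
            rw [sup_comm, hHV]; trivial
          rw [Subgroup.normal_mul, Set.mem_mul] at hg
          obtain ⟨w, hw, k', hk', rfl⟩ := hg
          have hkv : k' * a * k'⁻¹ ∈ V := Subgroup.Normal.conj_mem inferInstance a hv k'
          have e2 : w * k' * a * (w * k')⁻¹ = k' * a * k'⁻¹ := by
            have := comm_of_mem V hV hw hkv
            calc w * k' * a * (w * k')⁻¹ = (w * (k' * a * k'⁻¹)) * w⁻¹ := by group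
              _ = ((k' * a * k'⁻¹) * w) * w⁻¹ := by rw [this]
              _ = k' * a * k'⁻¹ := by group
          rw [e2]
          refine ⟨hkv, ?_⟩
          intro k hk
          have e3 : ⁅k, k' * a * k'⁻¹⁆ = k' * ⁅k'⁻¹ * k * k', a⁆ * k'⁻¹ := by
            rw [commutatorElement_def, commutatorElement_def]; group
          rw [e3]
          exact J.mul_mem (J.mul_mem (hHJ hk') (hbase _ (H.mul_mem (H.mul_mem (H.inv_mem hk') hk) hk')))
            (J.inv_mem (hHJ hk'))
        | one =>
          refine ⟨V.one_mem, fun k _ => ?_⟩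
          rw [commutatorElement_one_right]
          exact J.one_mem
        | mul u₁ u₂ _ _ ih₁ ih₂ =>
          obtain ⟨h1V, h1⟩ := ih₁
          obtain ⟨h2V, h2⟩ := ih₂
          refine ⟨V.mul_mem h1V h2V, fun k hk => ?_⟩
          have hb : k * u₂ * k⁻¹ * u₂⁻¹ ∈ V :=
            V.mul_mem (Subgroup.Normal.conj_mem inferInstance u₂ h2V k) (V.inv_mem h2V)
          have hc := comm_of_mem V hV hb (V.inv_mem h1V)
          have e4 : ⁅k, u₁ * u₂⁆ = ⁅k, u₁⁆ * ⁅k, u₂⁆ := by
            rw [commutatorElement_def, commutatorElement_def, commutatorElement_def]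
            calc k * (u₁ * u₂) * k⁻¹ * (u₁ * u₂)⁻¹
                = k * u₁ * k⁻¹ * ((k * u₂ * k⁻¹ * u₂⁻¹) * u₁⁻¹) := by group
              _ = k * u₁ * k⁻¹ * (u₁⁻¹ * (k * u₂ * k⁻¹ * u₂⁻¹)) := by rw [hc]
              _ = k * u₁ * k⁻¹ * u₁⁻¹ * (k * u₂ * k⁻¹ * u₂⁻¹) := by group
          rw [e4]
          exact J.mul_mem (h1 k hk) (h2 k hk)
        | inv u _ ih =>
          obtain ⟨h1V, h1⟩ := ih
          refine ⟨V.inv_mem h1V, fun k hk => ?_⟩
          have ha : k * u * k⁻¹ ∈ V := Subgroup.Normal.conj_mem inferInstance u h1V k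
          have hc := comm_of_mem V hV (V.inv_mem ha) h1V
          have e5 : ⁅k, u⁻¹⁆ = ⁅k, u⁆⁻¹ := by
            rw [commutatorElement_def, commutatorElement_def]
            calc k * u⁻¹ * k⁻¹ * u⁻¹⁻¹ = (k * u * k⁻¹)⁻¹ * u := by group
              _ = u * (k * u * k⁻¹)⁻¹ := hc
              _ = (k * u * k⁻¹ * u⁻¹)⁻¹ := by group
          rw [e5]
          exact J.inv_mem (h1 k hk)
      exact key.2 k hk
    have hUeq := hcond U hUV hUinv
    obtain ⟨hCn, hCU⟩ := commutator_normal_of_invariant V hV H hHV U hUV hUinv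
    have hvmem : v ∈ (((U ⊓ Subgroup.normalizer (H : Set G)) ⊔ ⁅H, U⁆ : Subgroup G) : Set G) := by
      rw [← hUeq]; exact hvU
    rw [Subgroup.mul_normal, Set.mem_mul] at hvmem
    obtain ⟨n, hn, c, hc, hnc⟩ := hvmem
    refine ⟨c, hC hc, ?_⟩
    have hcomm : n * c = c * n := comm_of_mem V hV (hUV hn.1) (hUV (hCU hc))
    rw [← hnc, hcomm, map_conj_mul, map_conj_of_mem_normalizer H hn.2]

end Cfsg.Agent.S4269
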