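import Cfsg.Statements.S4275

set_option autoImplicit false
open Cfsg

namespace Cfsg.Agent.S4275

/-- Let G be a transitive group of permutations of a finite set Ω, let o ∈ Ω, and let α be an automorphism of G. Then α is induced by conjugation by a permutation of Ω normalizing G if and only if the image under α of the stabilizer of o fixes some point of Ω. -/
theorem result {Ω : Type*} [Fintype Ω] (G : Subgroup (Equiv.Perm Ω)) (htr : MulAction.IsPretransitive G Ω) (o : Ω) (α : G ≃* G) : (∃ σ : Equiv.Perm Ω, σ ∈ Subgroup.normalizer (G : Set (Equiv.Perm Ω)) ∧ ∀ g : G, ((α g : G) : Equiv.Perm Ω) = σ * (g : Equiv.Perm Ω) * σ⁻¹) ↔ ∃ ω : Ω, ∀ g ∈ (MulAction.stabilizer G o).map α.toMonoidHom, g • ω = ω := by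
  constructor
  · rintro ⟨σ, -, hσ⟩
    refine ⟨σ o, ?_⟩
    rintro g' ⟨g, hg, rfl⟩
    have hg' : (g : Equiv.Perm Ω) o = o := hg
    change ((α g : G) : Equiv.Perm Ω) (σ o) = σ o
    rw [hσ g]
    simp [hg']
  · rintro ⟨ω, hω⟩
    -- key property of the stabilizer
    have hstab : ∀ g : G, (g : Equiv.Perm Ω) o = o → ((α g : G) : Equiv.Perm Ω) ω = ω := by
      intro g hg
      exact hω (α g) ⟨g, hg, rfl⟩
    have hchoose : ∀ y : Ω, ∃ g : G, (g : Equiv.Perm Ω) o = y := fun y =>
      MulAction.exists_smul_eq G o y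
    choose c hc using hchoose
    let f : Ω → Ω := fun y => ((α (c y) : G) : Equiv.Perm Ω) ω
    have hf : ∀ g : G, f ((g : Equiv.Perm Ω) o) = ((α g : G) : Equiv.Perm Ω) ω := by
      intro g
      have h1 : (((c ((g : Equiv.Perm Ω) o))⁻¹ * g : G) : Equiv.Perm Ω) o = o := by
        simp only [Subgroup.coe_mul, Subgroup.coe_inv, Equiv.Perm.coe_mul, Function.comp_apply]
        rw [Equiv.Perm.inv_eq_iff_eq]
        exact (hc _).symm
      have h2 := hstab _ h1
      simp only [map_mul, map_inv, Subgroup.coe_mul, Subgroup.coe_inv, Equiv.Perm.coe_mul,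
        Function.comp_apply] at h2
      change ((α (c ((g : Equiv.Perm Ω) o)) : G) : Equiv.Perm Ω) ω = _
      exact (Equiv.Perm.inv_eq_iff_eq.mp h2).symm
    have hfg : ∀ (g : G) (y : Ω), f ((g : Equiv.Perm Ω) y) = ((α g : G) : Equiv.Perm Ω) (f y) := by
      intro g y
      obtain ⟨h, rfl⟩ := MulAction.exists_smul_eq G o y
      change f ((g : Equiv.Perm Ω) ((h : Equiv.Perm Ω) o)) = ((α g : G) : Equiv.Perm Ω) (f ((h : Equiv.Perm Ω) o))
      rw [hf h]
      have : (g : Equiv.Perm Ω) ((h : Equiv.Perm Ω) o) = ((g * h : G) : Equiv.Perm Ω) o := by simp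
      rw [this, hf (g * h)]
      simp
    have hsurj : Function.Surjective f := by
      intro y
      obtain ⟨h, hh⟩ := MulAction.exists_smul_eq G ω y
      refine ⟨((α.symm h : G) : Equiv.Perm Ω) o, ?_⟩
      rw [hf]
      have hh' : (h : Equiv.Perm Ω) ω = y := hh
      simpa using hh'
    have hbij : Function.Bijective f := ⟨Finite.injective_iff_surjective.mpr hsurj, hsurj⟩
    let σ : Equiv.Perm Ω := Equiv.ofBijective f hbij
    have hσ : ∀ g : G, ((α g : G) : Equiv.Perm Ω) = σ * (g : Equiv.Perm Ω) * σ⁻¹ := by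
      intro g
      ext y
      obtain ⟨z, rfl⟩ := σ.surjective y
      have e1 : σ⁻¹ (σ z) = z := by simp
      simp only [Equiv.Perm.coe_mul, Function.comp_apply, e1]
      exact (hfg g z).symm
    refine ⟨σ, ?_, hσ⟩
    rw [Subgroup.mem_normalizer_iff]
    intro τ
    constructor
    · intro hτ
      have := hσ ⟨τ, hτ⟩
      rw [← this]
      exact (α ⟨τ, hτ⟩).2
    · intro hτ
      obtain ⟨g, hg⟩ := α.surjective ⟨σ * τ * σ⁻¹, hτ⟩
      have h1 := hσ g
      rw [hg] at h1
      have h2 : τ = (g : Equiv.Perm Ω) := by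
        have : σ * τ * σ⁻¹ = σ * (g : Equiv.Perm Ω) * σ⁻¹ := h1
        simpa using this
      rw [h2]
      exact g.2

end Cfsg.Agent.S4275
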