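import Cfsg.Statements.S4276
import Cfsg.Agent.Lib.Helper71.TwoTransAut

set_option autoImplicit false
open Cfsg

namespace Cfsg.Agent.S4276

/-- Let G be a doubly transitive group of permutations of a finite set Ω of size n, let o ∈ Ω, and let α be an automorphism of G of odd order. Suppose that the image under α of the stabilizer of o has an orbit on Ω whose length k is coprime to n. Then α is induced by conjugation by a permutation of Ω normalizing G, and k = 1 or k = n − 1. -/
theorem result {Ω : Type*} [Fintype Ω] (G : Subgroup (Equiv.Perm Ω)) (h2 : MulAction.IsMultiplyPretransitive G Ω 2) (o : Ω) (α : MulAut G) (hα : Odd (orderOf α)) (ω : Ω) (hk : (Nat.card (MulAction.orbit ((MulAction.stabilizer G o).map α.toMonoidHom) ω)).Coprime (Fintype.card Ω)) : (∃ σ : Equiv.Perm Ω, σ ∈ Subgroup.normalizer (G : Set (Equiv.Perm Ω)) ∧ ∀ g : G, ((α g : G) : Equiv.Perm Ω) = σ * (g : Equiv.Perm Ω) * σ⁻¹) ∧ (Nat.card (MulAction.orbit ((MulAction.stabilizer G o).map α.toMonoidHom) ω) =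 1 ∨ Nat.card (MulAction.orbit ((MulAction.stabilizer G o).map α.toMonoidHom) ω) = Fintype.card Ω - 1) := by
  classical
  have hne : (MulAction.orbit ((MulAction.stabilizer G o).map α.toMonoidHom) ω).Nonempty :=
    ⟨ω, MulAction.mem_orbit_self ω⟩
  have hΔ : ∀ h ∈ MulAction.stabilizer G o,
      ∀ z ∈ MulAction.orbit ((MulAction.stabilizer G o).map α.toMonoidHom) ω,
      α h • z ∈ MulAction.orbit ((MulAction.stabilizer G o).map α.toMonoidHom) ω := by
    intro h hh z hz
    obtain ⟨κ, rfl⟩ := hz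
    have hmem : α h ∈ (MulAction.stabilizer G o).map α.toMonoidHom :=
      Subgroup.mem_map_of_mem _ hh
    refine ⟨⟨α h, hmem⟩ * κ, ?_⟩
    simp only [mul_smul]
    rfl
  have hcard := Cfsg.Agent.Lib.Helper71.TwoTransAut.card_eq_one_or h2 o α hα _ hne hΔ hk
  have htr : MulAction.IsPretransitive G Ω :=
    @MulAction.isPretransitive_of_is_two_pretransitive G Ω _ _ h2
  obtain ⟨ω', hω'⟩ := Cfsg.Agent.Lib.Helper71.TwoTransAut.exists_fixed o α _ hne hΔ hcard
  obtain ⟨σ, hσ⟩ := Cfsg.Agent.Lib.Helper71.TwoTransAut.exists_perm o ω' α hω'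
  have hconj : ∀ g : G, ((α g : G) : Equiv.Perm Ω) = σ * (g : Equiv.Perm Ω) * σ⁻¹ := by
    intro g
    ext z
    have := hσ g (σ⁻¹ z)
    rw [Subgroup.smul_def, Subgroup.smul_def, Equiv.Perm.smul_def, Equiv.Perm.smul_def] at this
    simp only [Equiv.Perm.coe_mul, Function.comp_apply]
    rw [this]
    simp
  refine ⟨⟨σ, ?_, hconj⟩, ?_⟩
  · rw [Subgroup.mem_normalizer_iff]
    intro h
    constructor
    · intro hh
      have := hconj ⟨h, hh⟩
      have h' : σ * h * σ⁻¹ = ((α ⟨h, hh⟩ : G) : Equiv.Perm Ω) := this.symm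
      show σ * h * σ⁻¹ ∈ G
      rw [h']; exact (α ⟨h, hh⟩).2
    · intro hh
      have hh' : σ * h * σ⁻¹ ∈ G := hh
      have := hconj (α.symm ⟨_, hh'⟩)
      rw [MulEquiv.apply_symm_apply] at this
      have e : h = ((α.symm ⟨_, hh'⟩ : G) : Equiv.Perm Ω) :=
        mul_left_cancel (mul_right_cancel this)
      show h ∈ G
      rw [e]; exact (α.symm ⟨_, hh'⟩).2
  · rcases hcard with h | h
    · left; exact h
    · right; omega

end Cfsg.Agent.S4276
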