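import Cfsg.Statements.S4277
import Cfsg.Agent.S4290
import Cfsg.Agent.S0675
import Cfsg.Agent.Lib.Helper95.PrimeDegree
import Cfsg.Agent.Lib.Helper71.SolvTools

set_option autoImplicit false
open Cfsg

namespace Cfsg.Agent.S4277

open MulAction
open scoped Pointwise commutatorElement

/-- `Out` of a cyclic group is solvable. -/
theorem out_solvable_of_cyclic {G : Type*} [Group G] [IsCyclic G] :
    Group.IsSolvable (Cfsg.Out G) := by
  have h1 : Group.IsSolvable (MulAut G) :=
    Group.isSolvable_of_isSolvable_injective (f := (IsCyclic.mulAutMulEquiv G).toMonoidHom)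
      (IsCyclic.mulAutMulEquiv G).injective
  exact Group.isSolvable_of_surjective (QuotientGroup.mk'_surjective (Cfsg.Inn G))

/-- `p ^ 2` does not divide `p !`. -/
theorem not_sq_dvd_factorial {p : ℕ} (hp : p.Prime) : ¬ p * p ∣ p.factorial := by
  intro h
  have h1 : p.factorial = p * (p - 1).factorial := (Nat.mul_factorial_pred hp.ne_zero).symm
  rw [h1] at h
  have h2 : p ∣ (p - 1).factorial := Nat.dvd_of_mul_dvd_mul_left hp.pos h
  have h3 := (hp.dvd_factorial).mp h2
  have := hp.pos
  omega

/-- The order of a group of permutations of `p` points is not divisible by `p ^ 2`. -/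
theorem not_sq_dvd_card {Ω : Type*} [Fintype Ω] (hp : (Fintype.card Ω).Prime)
    (K : Subgroup (Equiv.Perm Ω)) : ¬ Fintype.card Ω * Fintype.card Ω ∣ Nat.card K := by
  classical
  intro h
  have h1 : Nat.card K ∣ Nat.card (Equiv.Perm Ω) := Subgroup.card_subgroup_dvd_card K
  rw [Nat.card_eq_fintype_card (α := Equiv.Perm Ω), Fintype.card_perm] at h1
  exact not_sq_dvd_factorial hp (h.trans h1)

/-- In a transitive group of prime degree the point stabilizer is a Hall subgroup. -/
theorem hall_of_prime_degree {Ω : Type*} [Fintype Ω] (hp : (Fintype.card Ω).Prime)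
    (K : Subgroup (Equiv.Perm Ω)) [IsPretransitive K Ω] (o : Ω) :
    (Nat.card (stabilizer K o)).Coprime (stabilizer K o).index := by
  have hidx : (stabilizer K o).index = Fintype.card Ω := by
    rw [index_stabilizer_of_transitive, Nat.card_eq_fintype_card]
  rw [hidx, Nat.coprime_comm, hp.coprime_iff_not_dvd]
  intro hdvd
  have hmul := Subgroup.card_mul_index (stabilizer K o)
  rw [hidx] at hmul
  apply not_sq_dvd_card hp K
  rw [← hmul]
  exact Nat.mul_dvd_mul_right hdvd _

/-- An automorphism of odd order fixing an element of order `p` of a doubly transitive group of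
prime degree `p` is conjugation by a power of that element. -/
theorem eq_conj_of_fix {G : Type*} [Group G] {Ω : Type*} [Fintype Ω] (φ : G →* Equiv.Perm Ω)
    (hφ : Function.Injective φ) (hp : (Fintype.card Ω).Prime)
    (h2 : IsMultiplyPretransitive φ.range Ω 2) (β : MulAut G) (hβ : Odd (orderOf β)) (x : G)
    (hx : orderOf x = Fintype.card Ω) (hfix : β x = x) :
    ∃ y ∈ Subgroup.zpowers x, β = MulAut.conj y := by
  classical
  have htr : IsPretransitive φ.range Ω :=
    @isPretransitive_of_is_two_pretransitive φ.range Ω _ _ h2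
  obtain ⟨o⟩ : Nonempty Ω := Fintype.card_pos_iff.mp hp.pos
  let e : G ≃* φ.range := MonoidHom.ofInjective hφ
  have he : ∀ g : G, ((e g : φ.range) : Equiv.Perm Ω) = φ g := fun g => rfl
  have hβ' : Odd (orderOf (MulAut.congr e β)) := by
    rw [MulEquiv.orderOf_eq]; exact hβ
  obtain ⟨σ, -, hσ⟩ := Cfsg.Agent.S4290.result φ.range h2 o (hall_of_prime_degree hp _ o)
    (MulAut.congr e β) hβ'
  have hσ' : ∀ g : G, φ (β g) = σ * φ g * σ⁻¹ := by
    intro g
    have := hσ (e g)
    rw [he] at this
    rw [← this, ← he]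
    congr 1
    simp [MulAut.congr]
  have hcomm : σ * φ x = φ x * σ := by
    have := hσ' x
    rw [hfix] at this
    calc σ * φ x = (σ * φ x * σ⁻¹) * σ := by group
      _ = φ x * σ := by rw [← this]
  have hcardz : Nat.card (Subgroup.zpowers (φ x)) = Fintype.card Ω := by
    rw [Nat.card_zpowers, orderOf_injective φ hφ, hx]
  have hcent := Cfsg.Agent.Lib.Helper95.centralizer_eq_of_card_eq_prime
    (G := Equiv.Perm Ω) (X := Ω) hp (by rw [Nat.card_eq_fintype_card]) _ hcardz
  have hσmem : σ ∈ Subgroup.zpowers (φ x) := by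
    rw [← hcent, Subgroup.mem_centralizer_iff]
    intro h hh
    obtain ⟨k, rfl⟩ := Subgroup.mem_zpowers_iff.mp hh
    have hc : Commute σ (φ x) := hcomm
    exact (hc.zpow_right k).eq.symm
  obtain ⟨k, hk⟩ := Subgroup.mem_zpowers_iff.mp hσmem
  refine ⟨x ^ k, Subgroup.zpow_mem_zpowers x k, ?_⟩
  ext g
  apply hφ
  rw [hσ' g, MulAut.conj_apply, map_mul, map_mul, map_inv, map_zpow, hk]

/-- A case of the Schreier conjecture: if a finite simple group G has a subgroup of prime index, then the outer automorphism group of G is solvable. -/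
theorem result {G : Type*} [Group G] [Finite G] [IsSimpleGroup G] (H : Subgroup G) (hH : H.index.Prime) : Group.IsSolvable (Cfsg.Out G) := by
  classical
  letI : Fintype (G ⧸ H) := Fintype.ofFinite _
  have hcardΩ : Fintype.card (G ⧸ H) = H.index := by
    rw [← Nat.card_eq_fintype_card]; rfl
  have hp : (Fintype.card (G ⧸ H)).Prime := hcardΩ ▸ hH
  let φ : G →* Equiv.Perm (G ⧸ H) := MulAction.toPermHom G (G ⧸ H)
  have hker : φ.ker = ⊥ := by
    have hn : φ.ker.Normal := inferInstance
    rcases hn.eq_bot_or_eq_top with h | h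
    · exact h
    · exfalso
      have h1 : H.normalCore = ⊤ := by rw [Subgroup.normalCore_eq_ker]; exact h
      have h2 : H = ⊤ := top_le_iff.mp (h1 ▸ Subgroup.normalCore_le H)
      rw [h2, Subgroup.index_top] at hH
      exact Nat.not_prime_one hH
  have hφ : Function.Injective φ := (MonoidHom.ker_eq_bot_iff φ).mp hker
  have htr : IsPretransitive φ.range (G ⧸ H) := by
    refine ⟨fun a b => ?_⟩
    obtain ⟨g, hg⟩ := exists_smul_eq G a b
    exact ⟨⟨φ g, g, rfl⟩, hg⟩
  rcases Cfsg.Agent.S0675.result hp φ.range with hsolv | h2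
  · -- the solvable case: `G` is cyclic
    have hrinj : Function.Injective φ.rangeRestrict := by
      intro a b hab
      apply hφ
      exact congrArg Subtype.val hab
    have hGs : Group.IsSolvable G :=
      Group.isSolvable_of_isSolvable_injective (f := φ.rangeRestrict) hrinj
    have hcomm : ∀ a b : G, a * b = b * a := IsSimpleGroup.comm_iff_isSolvable.mpr hGs
    obtain ⟨x, hx⟩ := exists_ne (1 : G)
    have hn : (Subgroup.zpowers x).Normal := by
      refine ⟨fun n hn g => ?_⟩
      rw [hcomm g n, mul_inv_cancel_right]; exact hn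
    have hcyc : IsCyclic G := by
      rcases hn.eq_bot_or_eq_top with h | h
      · exact absurd (Subgroup.zpowers_eq_bot.mp h) hx
      · exact isCyclic_iff_exists_zpowers_eq_top.mpr ⟨x, h⟩
    exact out_solvable_of_cyclic
  · -- the doubly transitive case
    have : Fact (H.index).Prime := ⟨hH⟩
    have hpG : H.index ∣ Nat.card G := Subgroup.index_dvd_card H
    obtain ⟨x, hx⟩ := exists_prime_orderOf_dvd_card' H.index hpG
    have hxΩ : orderOf x = Fintype.card (G ⧸ H) := by rw [hx, hcardΩ]
    have hPG : IsPGroup H.index (Subgroup.zpowers x) :=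
      IsPGroup.of_card (n := 1) (by rw [Nat.card_zpowers, hx, pow_one])
    obtain ⟨P, hP⟩ := hPG.exists_le_sylow
    have hPx : (P : Subgroup G) = Subgroup.zpowers x := by
      obtain ⟨n, hn⟩ := (IsPGroup.iff_card).mp P.2
      have hcardr : Nat.card φ.range = Nat.card G :=
        (Nat.card_congr (MonoidHom.ofInjective hφ).toEquiv).symm
      have hdvd : H.index ^ n ∣ Nat.card φ.range := by
        rw [hcardr, ← hn]; exact Subgroup.card_subgroup_dvd_card _
      have hn1 : n ≤ 1 := by
        by_contra hcon
        push Not at hcon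
        have h2n : H.index ^ 2 ∣ H.index ^ n := pow_dvd_pow _ hcon
        apply not_sq_dvd_card hp φ.range
        rw [hcardΩ, ← sq]
        exact h2n.trans hdvd
      symm
      apply Subgroup.eq_of_le_of_card_ge hP
      rw [hn, Nat.card_zpowers, hx]
      calc H.index ^ n ≤ H.index ^ 1 := Nat.pow_le_pow_right hH.pos hn1
        _ = H.index := pow_one _
    -- the automorphisms fixing `x`
    have hCmem : ∀ c : MulAut G, c ∈ MulAction.stabilizer (MulAut G) x ↔ c x = x := fun c => by
      rw [MulAction.mem_stabilizer_iff]; rfl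
    have hCs : Group.IsSolvable (MulAction.stabilizer (MulAut G) x) := by
      apply Cfsg.Agent.Lib.Helper71.SolvTools.solvable_of_odd_central
        (((Subgroup.zpowers x).map (MulAut.conj : G →* MulAut G)).subgroupOf
          (MulAction.stabilizer (MulAut G) x))
      · intro z hz
        rw [Subgroup.mem_subgroupOf] at hz
        obtain ⟨y, hy, hyz⟩ := hz
        rw [Subgroup.mem_center_iff]
        intro c
        apply Subtype.ext
        show (c : MulAut G) * (z : MulAut G) = (z : MulAut G) * (c : MulAut G)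
        rw [← hyz]
        have hcy : (c : MulAut G) y = y := by
          obtain ⟨k, rfl⟩ := Subgroup.mem_zpowers_iff.mp hy
          rw [map_zpow, (hCmem _).mp c.2]
        ext g
        simp only [MulAut.mul_apply, MulAut.conj_apply, map_mul, map_inv, hcy]
      · intro c hc
        rw [Subgroup.mem_subgroupOf]
        have hc' : Odd (orderOf (c : MulAut G)) := by rwa [Subgroup.orderOf_coe]
        obtain ⟨y, hy, hcy⟩ :=
          eq_conj_of_fix φ hφ hp h2 (c : MulAut G) hc' x hxΩ ((hCmem _).mp c.2)
        exact ⟨y, hy, hcy.symm⟩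
    -- the automorphisms normalizing `P`
    have hNx : ∀ a ∈ MulAction.stabilizer (MulAut G) P, ∃ k : ℤ, a x = x ^ k := by
      intro a ha
      have h1 : a • P = P := ha
      have h2 : a x ∈ (P : Subgroup G) := by
        have hxP : x ∈ (P : Subgroup G) := hP (Subgroup.mem_zpowers x)
        have : a • x ∈ a • (P : Subgroup G) := Subgroup.smul_mem_pointwise_smul x a _ hxP
        rw [← Sylow.pointwise_smul_def, h1] at this
        exact this
      rw [hPx] at h2
      obtain ⟨k, hk⟩ := Subgroup.mem_zpowers_iff.mp h2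
      exact ⟨k, hk.symm⟩
    have hcommC : ∀ a ∈ MulAction.stabilizer (MulAut G) P,
        ∀ b ∈ MulAction.stabilizer (MulAut G) P, ⁅a, b⁆ ∈ MulAction.stabilizer (MulAut G) x := by
      intro a ha b hb
      rw [hCmem, commutatorElement_def]
      obtain ⟨k, hk⟩ := hNx a⁻¹ (inv_mem ha)
      obtain ⟨l, hl⟩ := hNx b⁻¹ (inv_mem hb)
      have e1 : a⁻¹ (b⁻¹ x) = b⁻¹ (a⁻¹ x) := by
        rw [hl, hk, map_zpow, map_zpow, hk, hl, ← zpow_mul, ← zpow_mul, mul_comm]
      simp only [MulAut.mul_apply]
      rw [e1]
      simp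
    have hNs : Group.IsSolvable (MulAction.stabilizer (MulAut G) P) :=
      Cfsg.Agent.Lib.Helper71.SolvTools.solvable_of_commutator_mem _ _ hCs hcommC
    apply Cfsg.Agent.Lib.Helper71.SolvTools.solvable_quotient_of_cover (Cfsg.Inn G) _ hNs
    intro a
    obtain ⟨g, hg⟩ := MulAction.exists_smul_eq G P (a • P)
    refine ⟨MulAut.conj g, ⟨g, rfl⟩, (MulAut.conj g)⁻¹ * a, ?_, by group⟩
    show ((MulAut.conj g)⁻¹ * a) • P = P
    rw [mul_smul, ← hg, Sylow.smul_def, inv_smul_smul]

end Cfsg.Agent.S4277
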