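import Cfsg.Statements.S4278
import Cfsg.Agent.Lib.Helper2.G2oMain

set_option autoImplicit false
open Cfsg

namespace Cfsg.Agent.S4278

open Cfsg.Lie Cfsg.Agent.Lib.Helper36 Cfsg.Agent.Lib.Helper20.G2c Cfsg.Agent.Lib.Helper2.G2o

/-- In the Chevalley group of type G₂ over a finite field of odd order, any two involutions are conjugate. -/
theorem result {F : Type*} [Field F] [Fintype F] (hF : Odd (Fintype.card F)) (s t : ↥(Cfsg.Lie.chevG2.group F)) (hs : orderOf s = 2) (ht : orderOf t = 2) : IsConj s t := by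
  have key : ∀ x : ↥(chevG2.group F), orderOf x = 2 →
      ∃ g : ↥(chevG2.group F), (g : GL chevG2.Idx F) * (x : GL chevG2.Idx F) * (g : GL chevG2.Idx F)⁻¹ =
        hGL chevG2 hG2 F 7 (-1) := by
    intro x hx
    have hxx : x * x = 1 := by
      rw [← pow_two, ← hx]
      exact pow_orderOf_eq_one x
    have hx1 : x ≠ 1 := by
      rintro rfl
      rw [orderOf_one] at hx
      omega
    have hxx' : (x : GL chevG2.Idx F) * (x : GL chevG2.Idx F) = 1 := by
      have := congrArg Subtype.val hxx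
      simpa using this
    have hx1' : (x : GL chevG2.Idx F) ≠ 1 := fun e => hx1 (Subtype.ext e)
    obtain ⟨g, hg, e⟩ := invol_conj F hF (x : GL chevG2.Idx F) x.2 hxx' hx1'
    exact ⟨⟨g, hg⟩, e⟩
  obtain ⟨g₁, e₁⟩ := key s hs
  obtain ⟨g₂, e₂⟩ := key t ht
  rw [isConj_iff]
  refine ⟨g₂⁻¹ * g₁, ?_⟩
  apply Subtype.ext
  have e3 : (s : GL chevG2.Idx F) = (g₁ : GL chevG2.Idx F)⁻¹ * hGL chevG2 hG2 F 7 (-1) * (g₁ : GL chevG2.Idx F) := by
    rw [← e₁]; group
  have e4 : (t : GL chevG2.Idx F) = (g₂ : GL chevG2.Idx F)⁻¹ * hGL chevG2 hG2 F 7 (-1) * (g₂ : GL chevG2.Idx F) := by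
    rw [← e₂]; group
  simp only [Subgroup.coe_mul, Subgroup.coe_inv, e3, e4]
  group


end Cfsg.Agent.S4278
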