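import Cfsg.Statements.S4282
import Cfsg.Agent.Lib.Helper66.HHCrit

set_option autoImplicit false
open Cfsg

namespace Cfsg.Agent.S4282

open Cfsg.Agent.Lib.Helper66.HHCrit Module

/-- an element of the `q`-group lying in `⟨x⟩ Z(G)` is central -/
theorem mem_center_of_mem_sup {G : Type*} [Group G] [Finite G] (p q : ℕ) [Fact p.Prime] [Fact q.Prime]
    (hpq : p ≠ q) (Q : Subgroup G) (hQ : IsPGroup q Q) (x : G)
    (hx : IsPGroup p (Subgroup.zpowers x)) (u : G) (huQ : u ∈ Q)
    (hu : u ∈ Subgroup.zpowers x ⊔ Subgroup.center G) : u ∈ Subgroup.center G := by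
  have hmem : u ∈ ((Subgroup.zpowers x ⊔ Subgroup.center G : Subgroup G) : Set G) := hu
  rw [Subgroup.mul_normal] at hmem
  obtain ⟨y, hy, z, hz, rfl⟩ := Set.mem_mul.mp hmem
  suffices hyc : y ∈ Subgroup.center G from Subgroup.mul_mem _ hyc hz
  obtain ⟨k, hk⟩ := hx ⟨y, hy⟩
  obtain ⟨l, hl⟩ := hQ ⟨y * z, huQ⟩
  have hk' : y ^ p ^ k = 1 := by simpa using congrArg Subtype.val hk
  have hl' : (y * z) ^ q ^ l = 1 := by simpa using congrArg Subtype.val hl
  have hcomm : Commute y z := (Subgroup.mem_center_iff.mp hz) y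
  rw [hcomm.mul_pow] at hl'
  -- y^(q^l) = (z^(q^l))⁻¹ ∈ center
  have h1 : y ^ q ^ l ∈ Subgroup.center G := by
    have : y ^ q ^ l = (z ^ q ^ l)⁻¹ := eq_inv_of_mul_eq_one_left hl'
    rw [this]
    exact Subgroup.inv_mem _ (Subgroup.pow_mem _ hz _)
  -- work in the quotient
  have hq1 : (QuotientGroup.mk y : G ⧸ Subgroup.center G) ^ q ^ l = 1 := by
    rw [← QuotientGroup.mk_pow]; exact (QuotientGroup.eq_one_iff _).mpr h1
  have hq2 : (QuotientGroup.mk y : G ⧸ Subgroup.center G) ^ p ^ k = 1 := by
    rw [← QuotientGroup.mk_pow, hk']; rfl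
  have hcop : Nat.gcd (q ^ l) (p ^ k) = 1 := by
    apply Nat.Coprime.pow
    exact (Nat.coprime_primes (Fact.out : q.Prime) (Fact.out : p.Prime)).mpr (Ne.symm hpq)
  have := (pow_gcd_eq_one (a := (QuotientGroup.mk y : G ⧸ Subgroup.center G))).mpr ⟨hq1, hq2⟩
  rw [hcop, pow_one] at this
  exact (QuotientGroup.eq_one_iff _).mp this

/-- A critical case behind the Hall–Higman theorem. Let p ≠ q be primes and G a finite group generated by a normal q-subgroup Q and a cyclic p-subgroup generated by x, such that the centralizer of every non-identity element of that cyclic subgroup is its product with the centre of G. Let K be an algebraically closed field of characteristic p and ρ a faithful representation of G on a nonzero finite-dimensional K-space whose restriction to Q is irreducible. If s is the least exponent with (ρ(x) − 1)^s = 0, then |⟨x⟩| − 1 ≤ s ≤ |⟨x⟩|; and if s = |⟨x⟩| − 1 then |⟨x⟩| − 1 is a power of q and Q is non-abelian. -/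
theorem result {G : Type*} [Group G] [Finite G] (p q : ℕ) [Fact p.Prime] [Fact q.Prime] (hpq : p ≠ q) (Q : Subgroup G) [Q.Normal] (hQ : IsPGroup q Q) (x : G) (hx : IsPGroup p (Subgroup.zpowers x)) (hgen : Q ⊔ Subgroup.zpowers x = ⊤) (hC : ∀ y ∈ Subgroup.zpowers x, y ≠ 1 → Subgroup.centralizer ({y} : Set G) = Subgroup.zpowers x ⊔ Subgroup.center G) {K : Type*} [Field K] [IsAlgClosed K] [CharP K p] {V : Type*} [AddCommGroup V] [Module K V] [FiniteDimensional K V] [Nontrivial V] (ρ : Representation K G V) (hfaith : Function.Injective ρ) (hirr : ∀ W : Submodule K V, (∀ g ∈ Q, Submodule.map (ρ g) W ≤ W) → W = ⊥ ∨ W = ⊤) (s : ℕ) (hs : (ρ x - 1) ^ s = 0) (hmin : ∀ k < s, (ρ x - 1) ^ k ≠ 0) : Nat.card (Subgroup.zpowers x) - 1 ≤ s ∧ s ≤ Nat.card (Subgroup.zpowers x) ∧ (s = Nat.card (Subgroup.zpowers x) - 1 → (∃ b : ℕ, Nat.card (Subgroup.zpowers x) - 1 = q ^ b) ∧ ¬ IsMulCommutative Q) := by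
  classical
  have : Fintype Q := Fintype.ofFinite Q
  set N := Nat.card (Subgroup.zpowers x) with hNdef
  have hNord : N = orderOf x := Nat.card_zpowers x
  have hNpos : 0 < N := Nat.card_pos
  -- basic facts on s
  have hs0 : s ≠ 0 := by
    rintro rfl
    rw [pow_zero] at hs
    exact end_one_ne_zero' hs
  by_cases hx1 : x = 1
  · -- trivial case
    have hN1 : N = 1 := by rw [hNord, hx1, orderOf_one]
    have hX : ρ x - 1 = 0 := by rw [hx1, map_one, sub_self]
    have hs1 : s = 1 := by
      by_contra hne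
      have : 1 < s := by omega
      exact hmin 1 this (by rw [pow_one, hX])
    rw [hN1, hs1]
    refine ⟨by omega, le_rfl, fun h => absurd h (by omega)⟩
  -- the restricted representation
  let r : Q →* Module.End K V := (ρ : G →* Module.End K V).comp Q.subtype
  have hr : ∀ u : Q, r u = ρ (u : G) := fun u => rfl
  have hirr' : Irr r := by
    intro W hW
    apply hirr W
    intro g hg
    rintro _ ⟨w, hw, rfl⟩
    exact hW ⟨g, hg⟩ w hw
  obtain ⟨k, hk⟩ := hQ.exists_card_eq
  have hQK : (Fintype.card Q : K) ≠ 0 := by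
    rw [← Nat.card_eq_fintype_card, hk]
    intro h0
    rw [Nat.cast_pow] at h0
    have hq0 : (q : K) = 0 := pow_eq_zero_iff (fun hk0 => by simp [hk0] at h0) |>.mp h0
    have := (CharP.cast_eq_zero_iff K p q).mp hq0
    exact hpq ((Nat.prime_dvd_prime_iff_eq (Fact.out : p.Prime) (Fact.out : q.Prime)).mp this)
  obtain ⟨n, hn⟩ := hx.exists_card_eq
  -- the twist
  let α : MulAut Q := MulAut.conjNormal x
  have hα : ∀ u : Q, ((α u : Q) : G) = x * u * x⁻¹ := fun u => MulAut.conjNormal_apply x u
  have hαpow : ∀ (i : ℕ) (u : Q), (((α ^ i) u : Q) : G) = x ^ i * u * (x ^ i)⁻¹ := by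
    intro i u
    have : α ^ i = MulAut.conjNormal (x ^ i) := (map_pow MulAut.conjNormal x i).symm
    rw [this]; exact MulAut.conjNormal_apply (x ^ i) u
  have hXY : ρ x * ρ x⁻¹ = 1 := by rw [← map_mul, mul_inv_cancel, map_one]
  have hYX : ρ x⁻¹ * ρ x = 1 := by rw [← map_mul, inv_mul_cancel, map_one]
  have hcentral_scalar : ∀ u : Q, (u : G) ∈ Subgroup.center G → ∃ c : K, r u = c • (1 : Module.End K V) := by
    intro u hu
    apply schur_scalar r hirr' (r u)
    intro v
    rw [hr, hr, ← map_mul, ← map_mul, (Subgroup.mem_center_iff.mp hu) v]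
  have hsup_le : Subgroup.zpowers x ⊔ Subgroup.center G ≤ Subgroup.centralizer ({x} : Set G) := by
    refine sup_le ?_ ?_
    · rw [Subgroup.zpowers_le]
      exact Subgroup.mem_centralizer_singleton_iff.mpr rfl
    · intro z hz
      exact Subgroup.mem_centralizer_singleton_iff.mpr ((Subgroup.mem_center_iff.mp hz) x).symm
  have htw : Twist r α (ρ x) (ρ x⁻¹) N := by
    refine ⟨hXY, hYX, ?_, hNpos, ?_, ?_, ?_⟩
    · intro u
      rw [hr, hr, hα, ← map_mul, ← map_mul]
      congr 1
      group
    · have : α ^ N = MulAut.conjNormal (x ^ N) := (map_pow MulAut.conjNormal x N).symm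
      rw [this, hNord, pow_orderOf_eq_one, map_one]
    · intro i hi0 hiN u hu
      have hxi : x ^ i ≠ 1 := by
        intro h
        have := orderOf_dvd_of_pow_eq_one h
        rw [← hNord] at this
        exact absurd (Nat.le_of_dvd hi0 this) (by omega)
      have hmem : (u : G) ∈ Subgroup.centralizer ({x ^ i} : Set G) := by
        rw [Subgroup.mem_centralizer_singleton_iff]
        have := congrArg Subtype.val hu
        rw [hαpow] at this
        -- x^i * u * (x^i)⁻¹ = u
        calc (u : G) * x ^ i = (x ^ i * u * (x ^ i)⁻¹) * x ^ i := by rw [this]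
          _ = x ^ i * u := by group
      rw [hC (x ^ i) (Subgroup.pow_mem _ (Subgroup.mem_zpowers x) i) hxi] at hmem
      have := hsup_le hmem
      rw [Subgroup.mem_centralizer_singleton_iff] at this
      apply Subtype.ext
      rw [hα]
      calc x * (u : G) * x⁻¹ = (u : G) * x * x⁻¹ := by rw [this]
        _ = u := by group
    · intro u hu
      apply hcentral_scalar
      have hmem : (u : G) ∈ Subgroup.centralizer ({x} : Set G) := by
        rw [Subgroup.mem_centralizer_singleton_iff]
        have := congrArg Subtype.val hu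
        rw [hα] at this
        calc (u : G) * x = (x * u * x⁻¹) * x := by rw [this]
          _ = x * u := by group
      rw [hC x (Subgroup.mem_zpowers x) hx1] at hmem
      exact mem_center_of_mem_sup p q hpq Q hQ x hx u u.2 hmem
  have hXN : ρ x ^ N = 1 := by
    rw [← map_pow, hNord, pow_orderOf_eq_one, map_one]
  obtain ⟨h1, h2, h3⟩ := crit_abstract (p := p) (n := n) htw hn hirr' hQK hXN s hs hmin
  have hXne : ρ x ≠ 1 := by
    intro h
    apply hx1
    apply hfaith
    rw [h, map_one]
  have h2' : N ≤ s + 1 := h2.resolve_left hXne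
  refine ⟨by omega, h1, ?_⟩
  intro hsN
  have hfin := h3 (by omega) hXne
  constructor
  · obtain ⟨b, hb⟩ := qpow_finrank r hQ hirr'
    exact ⟨b, by rw [← hsN, ← hfin, hb]⟩
  · intro hcomm
    have hsc : ∀ u : Q, ∃ c : K, r u = c • (1 : Module.End K V) := by
      intro u
      apply schur_scalar r hirr' (r u)
      intro v
      rw [← map_mul, ← map_mul, hcomm.is_comm.comm u v]
    have := finrank_eq_one_of_scalar r hirr' hsc
    rw [this] at hfin
    apply hXne
    rw [← hfin, pow_one] at hs
    exact sub_eq_zero.mp hs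

end Cfsg.Agent.S4282
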