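import Cfsg.Statements.S4283
import Cfsg.Agent.Lib.Helper35.FrobeniusHall

set_option autoImplicit false
open Cfsg

namespace Cfsg.Agent.S4283

open scoped Pointwise
open Cfsg.Agent.Lib.Helper35

/-- Let G be a finite group with centre Z and let K, H be abelian subgroups of G containing Z such that G/Z is a Frobenius group with complement H/Z and kernel K/Z. Then the conjugacy class sizes of G are exactly 1, [G : K] and [G : H], and these two indices are coprime. (This is the converse half of the characterization of finite groups whose conjugacy class sizes are exactly 1, m and n with m and n coprime.) -/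
theorem result {G : Type*} [Group G] [Finite G] (K H : Subgroup G) (hZK : Subgroup.center G ≤ K) (hZH : Subgroup.center G ≤ H) (hK : IsMulCommutative K) (hH : IsMulCommutative H) (hFrob : Cfsg.IsFrobeniusComplement (H.map (QuotientGroup.mk' (Subgroup.center G)))) (hker : Cfsg.frobeniusKernel (H.map (QuotientGroup.mk' (Subgroup.center G))) = (K.map (QuotientGroup.mk' (Subgroup.center G)) : Set (G ⧸ Subgroup.center G))) : Set.range (fun x : G => (Subgroup.centralizer ({x} : Set G)).index) = ({1, K.index, H.index} : Set ℕ) ∧ K.index.Coprime H.index := by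
  set Z := Subgroup.center G with hZ
  set π := QuotientGroup.mk' Z with hπ
  set Hb := H.map π with hHb
  set Kb := K.map π with hKb
  have hπsurj : Function.Surjective π := QuotientGroup.mk'_surjective Z
  have hkerπ : π.ker = Z := QuotientGroup.ker_mk' Z
  -- (F1)
  have hmemK : ∀ x : G, π x ∈ Kb ↔ x ∈ K := by
    intro x
    rw [← Subgroup.mem_comap, Subgroup.comap_map_eq, hkerπ, sup_of_le_left hZK]
  have hmemH : ∀ x : G, π x ∈ Hb ↔ x ∈ H := by
    intro x
    rw [← Subgroup.mem_comap, Subgroup.comap_map_eq, hkerπ, sup_of_le_left hZH]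
  have hπone : ∀ x : G, π x = 1 ↔ x ∈ Z := by
    intro x
    rw [← MonoidHom.mem_ker, hkerπ]
  have hmemconj : ∀ x g : G, π x ∈ MulAut.conj (π g) • Hb ↔ g⁻¹ * x * g ∈ H := by
    intro x g
    rw [mem_conj_smul, ← map_inv, ← map_mul, ← map_mul, hmemH]
  -- kernel membership
  have hmemker : ∀ x : G, π x ∈ Cfsg.frobeniusKernel Hb ↔ x ∈ K := by
    intro x
    rw [hker]
    exact hmemK x
  have hcommK : ∀ a ∈ K, ∀ b ∈ K, a * b = b * a := by
    intro a ha b hb
    exact congrArg Subtype.val (hK.is_comm.comm (⟨a, ha⟩ : K) ⟨b, hb⟩)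
  have hcommH : ∀ a ∈ H, ∀ b ∈ H, a * b = b * a := by
    intro a ha b hb
    exact congrArg Subtype.val (hH.is_comm.comm (⟨a, ha⟩ : H) ⟨b, hb⟩)
  -- (A)
  have hA : ∀ x ∈ K, x ∉ Z → Subgroup.centralizer ({x} : Set G) = K := by
    intro x hxK hxZ
    apply le_antisymm
    · intro y hy
      rw [Subgroup.mem_centralizer_singleton_iff] at hy
      by_contra hyK
      have h1 : π y ∉ Cfsg.frobeniusKernel Hb := fun h => hyK ((hmemker y).mp h)
      have h2 : π y ≠ 1 ∧ ∃ g : G ⧸ Z, π y ∈ MulAut.conj g • Hb := by
        simp only [Cfsg.frobeniusKernel, Set.mem_ofPred_eq, not_or, not_forall, not_not] at h1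
        exact h1
      obtain ⟨hy1, gb, hyg⟩ := h2
      have hcomm : π x * π y = π y * π x := by
        rw [← map_mul, ← map_mul, hy]
      have h3 : π x ∈ MulAut.conj gb • Hb := mem_conj_of_commute hFrob hy1 hyg hcomm
      have h4 : π x ∈ Cfsg.frobeniusKernel Hb := (hmemker x).mpr hxK
      rcases h4 with h4 | h4
      · exact hxZ ((hπone x).mp h4)
      · exact h4 gb h3
    · intro y hy
      rw [Subgroup.mem_centralizer_singleton_iff]
      exact hcommK y hy x hxK
  -- (B)
  have hB : ∀ x ∈ H, x ∉ Z → Subgroup.centralizer ({x} : Set G) = H := by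
    intro x hxH hxZ
    apply le_antisymm
    · intro y hy
      rw [Subgroup.mem_centralizer_singleton_iff] at hy
      have hx1 : π x ≠ 1 := fun h => hxZ ((hπone x).mp h)
      have hcomm : π y * π x = π x * π y := by
        rw [← map_mul, ← map_mul, hy]
      have := mem_of_commute hFrob hx1 ((hmemH x).mpr hxH) hcomm
      exact (hmemH y).mp this
    · intro y hy
      rw [Subgroup.mem_centralizer_singleton_iff]
      exact hcommH y hy x hxH
  -- (C) elements outside K
  have hC : ∀ x : G, x ∉ K → (Subgroup.centralizer ({x} : Set G)).index = H.index := by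
    intro x hxK
    have h1 : π x ∉ Cfsg.frobeniusKernel Hb := fun h => hxK ((hmemker x).mp h)
    have h2 : π x ≠ 1 ∧ ∃ g : G ⧸ Z, π x ∈ MulAut.conj g • Hb := by
      simp only [Cfsg.frobeniusKernel, Set.mem_ofPred_eq, not_or, not_forall, not_not] at h1
      exact h1
    obtain ⟨hx1, gb, hxg⟩ := h2
    obtain ⟨g, rfl⟩ := hπsurj gb
    rw [hmemconj] at hxg
    have hxZ : g⁻¹ * x * g ∉ Z := by
      intro h
      apply hx1
      rw [hπone]
      have : x = g * (g⁻¹ * x * g) * g⁻¹ := by group
      rw [this]
      exact Subgroup.Normal.conj_mem inferInstance _ h g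
    have hcent := hB _ hxg hxZ
    have heq : Subgroup.centralizer ({x} : Set G) = H.map ((MulAut.conj g : G ≃* G) : G →* G) := by
      ext y
      rw [Subgroup.mem_centralizer_singleton_iff, Subgroup.mem_map]
      constructor
      · intro hy
        refine ⟨g⁻¹ * y * g, ?_, by simp [mul_assoc]⟩
        rw [← hcent, Subgroup.mem_centralizer_singleton_iff]
        calc g⁻¹ * y * g * (g⁻¹ * x * g) = g⁻¹ * (y * x) * g := by group
          _ = g⁻¹ * (x * y) * g := by rw [hy]
          _ = g⁻¹ * x * g * (g⁻¹ * y * g) := by group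
      · rintro ⟨w, hw, rfl⟩
        rw [← hcent, Subgroup.mem_centralizer_singleton_iff] at hw
        simp only [MonoidHom.coe_coe, MulAut.conj_apply]
        calc g * w * g⁻¹ * x = g * (w * (g⁻¹ * x * g)) * g⁻¹ := by group
          _ = g * ((g⁻¹ * x * g) * w) * g⁻¹ := by rw [hw]
          _ = x * (g * w * g⁻¹) := by group
    rw [heq, Subgroup.index_map_equiv]
  -- indices
  have hKidx : Kb.index = K.index := Subgroup.index_map_eq K hπsurj (by rw [hkerπ]; exact hZK)
  have hHidx : Hb.index = H.index := Subgroup.index_map_eq H hπsurj (by rw [hkerπ]; exact hZH)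
  have hcardK : Nat.card Kb = Hb.index := by
    rw [← card_frobeniusKernel hFrob, hker]
    rfl
  have hcop : K.index.Coprime H.index := by
    have h1 : Kb.index * Nat.card Kb = Hb.index * Nat.card Hb := by
      rw [mul_comm, Subgroup.card_mul_index, mul_comm, Subgroup.card_mul_index]
    rw [hcardK, mul_comm] at h1
    have h2 : Kb.index = Nat.card Hb :=
      Nat.eq_of_mul_eq_mul_left (Nat.pos_of_ne_zero Subgroup.index_ne_zero_of_finite) h1
    rw [← hKidx, ← hHidx, h2]
    exact (coprime_index_card hFrob).symm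
  refine ⟨?_, hcop⟩
  -- existence of witnesses
  have hexK : ∃ x ∈ K, x ∉ Z := by
    by_contra hcon
    push Not at hcon
    have hle : Kb ≤ ⊥ := by
      rintro _ ⟨k, hk, rfl⟩
      rw [Subgroup.mem_bot, hπone]
      exact hcon k hk
    have h1 : Nat.card Kb = 1 := by
      rw [le_bot_iff.mp hle]
      exact Subgroup.card_bot
    rw [hcardK, Subgroup.index_eq_one] at h1
    exact hFrob.2.1 h1
  have hexH : ∃ x ∈ H, x ∉ Z := by
    by_contra hcon
    push Not at hcon
    apply hFrob.1
    rw [eq_bot_iff]
    rintro _ ⟨h, hh, rfl⟩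
    rw [Subgroup.mem_bot, hπone]
    exact hcon h hh
  ext n
  simp only [Set.mem_range, Set.mem_insert_iff, Set.mem_singleton_iff]
  constructor
  · rintro ⟨x, rfl⟩
    by_cases hxZ : x ∈ Z
    · left
      have : Subgroup.centralizer ({x} : Set G) = ⊤ := by
        rw [eq_top_iff]
        intro y _
        rw [Subgroup.mem_centralizer_singleton_iff]
        exact (Subgroup.mem_center_iff.mp hxZ y)
      rw [this, Subgroup.index_top]
    · by_cases hxK : x ∈ K
      · right; left
        rw [hA x hxK hxZ]
      · right; right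
        exact hC x hxK
  · rintro (rfl | rfl | rfl)
    · refine ⟨1, ?_⟩
      have : Subgroup.centralizer ({1} : Set G) = ⊤ := by
        rw [eq_top_iff]
        intro y _
        rw [Subgroup.mem_centralizer_singleton_iff]
        simp
      rw [this, Subgroup.index_top]
    · obtain ⟨x, hxK, hxZ⟩ := hexK
      exact ⟨x, by rw [hA x hxK hxZ]⟩
    · obtain ⟨x, hxH, hxZ⟩ := hexH
      exact ⟨x, by rw [hB x hxH hxZ]⟩

end Cfsg.Agent.S4283
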