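import Cfsg.Statements.S4291
import Cfsg.Agent.S0690
import Cfsg.Agent.Lib.Helper97.FrobNS4
import Cfsg.Agent.Lib.Helper97.FC6
import Cfsg.Agent.Lib.Helper97.FC7

set_option autoImplicit false
open Cfsg

namespace Cfsg.Agent.S4291

open Cfsg.Agent.Lib.Helper97.FC Cfsg.Agent.Lib.Helper97.FrobNS

/-- A `2`-subgroup of a group with at most one involution is cyclic or generalized
quaternion. -/
theorem cyc_or_quat {G : Type*} [Group G] [Finite G]
    (hinv : ∀ s t : G, orderOf s = 2 → orderOf t = 2 → s = t) (B : Subgroup G)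
    (hBp : IsPGroup 2 B) :
    IsCyclic B ∨ ∃ n : ℕ, Nonempty (B ≃* QuaternionGroup (2 ^ n)) := by
  haveI h2 : Fact (Nat.Prime 2) := ⟨Nat.prime_two⟩
  have huniq : ∀ A A' : Subgroup B, Nat.card A = 2 → Nat.card A' = 2 → A = A' := by
    have key : ∀ A : Subgroup B, Nat.card A = 2 →
        ∃ t : B, orderOf t = 2 ∧ A = Subgroup.zpowers t := by
      intro A hA
      obtain ⟨t, ht⟩ := exists_prime_orderOf_dvd_card' (G := A) 2 (by rw [hA])
      refine ⟨(t : B), by rw [Subgroup.orderOf_coe]; exact ht, ?_⟩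
      symm
      apply Subgroup.eq_of_le_of_card_ge (Subgroup.zpowers_le.mpr t.2)
      rw [Nat.card_zpowers, Subgroup.orderOf_coe, ht, hA]
    intro A A' hA hA'
    obtain ⟨t, ht, rfl⟩ := key A hA
    obtain ⟨t', ht', rfl⟩ := key A' hA'
    have : (t : G) = (t' : G) := hinv _ _ (by rw [Subgroup.orderOf_coe]; exact ht)
      (by rw [Subgroup.orderOf_coe]; exact ht')
    rw [Subtype.ext this]
  rcases Cfsg.Agent.S0016.result 2 hBp huniq with h | ⟨-, h⟩
  · exact Or.inl h
  · exact Or.inr h

/-- Let G be a finite group that occurs as a Frobenius complement. Then G has exactly one normal subgroup N such that every Sylow subgroup of N is cyclic and the quotient of G by N is trivial or isomorphic to one of the following five groups: the Klein four-group, the alternating group of degree 4, the symmetric group of degree 4, the alternating group of degree 5, the symmetric group of degree 5. (The quotient is described by a surjective homomorphism with kernel N; the Klein four-group is written as the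 dihedral group of order 4.) -/
theorem result {G : Type*} [Group G] [Finite G]
    (hFC : (∃ (L : Type) (_ : Group L) (_ : Finite L) (H : Subgroup L), Cfsg.IsFrobeniusComplement H ∧ Nonempty (G ≃* H))) :
    ∃! N : Subgroup G, N.Normal ∧ (∀ (p : ℕ) [Fact p.Prime] (P : Sylow p N), IsCyclic P) ∧
      (N = ⊤ ∨
        (∃ f : G →* DihedralGroup 2, Function.Surjective f ∧ f.ker = N) ∨
        (∃ f : G →* alternatingGroup (Fin 4), Function.Surjective f ∧ f.ker = N) ∨
        (∃ f : G →* Equiv.Perm (Fin 4), Function.Surjective f ∧ f.ker = N) ∨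
        (∃ f : G →* alternatingGroup (Fin 5), Function.Surjective f ∧ f.ker = N) ∨
        (∃ f : G →* Equiv.Perm (Fin 5), Function.Surjective f ∧ f.ker = N)) := by
  classical
  obtain ⟨𝔏, _, _, Hs, hH, ⟨e⟩⟩ := hFC
  obtain ⟨K, -, hKn, hc⟩ := Cfsg.Agent.S0035.result Hs hH
  have hK : K ≠ ⊥ := by
    intro h
    have h1 := hc.card_mul_card
    rw [h, Subgroup.card_bot, one_mul] at h1
    exact hH.2.1 ((Subgroup.card_eq_iff_eq_top Hs).mp h1)
  have hfpf := (Cfsg.Agent.S0039.result K Hs hc hK hH.1).mp hH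
  have hyp : Hyp G := hyp_of_frob K Hs hc hK hfpf e
    (fun G hf hp hn => Cfsg.Agent.S0690.result G hf hp hn)
  have hQ : ∀ Q : Sylow 2 G, IsCyclic Q ∨ ∃ n : ℕ, Nonempty (Q ≃* QuaternionGroup (2 ^ n)) :=
    fun Q => cyc_or_quat hyp.inv_unique Q Q.isPGroup'
  have h2g : TwoGen G := twoGen_of_cyc_or_quat hQ
  -- existence
  have hex : ∃ N : Subgroup G, N.Normal ∧ AllPCyc N ∧ Opts N := by
    by_cases hcyc : ∀ Q : Sylow 2 G, IsCyclic Q
    · refine ⟨⊤, inferInstance, ?_, Or.inl rfl⟩
      intro p hp T _ hTp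
      by_cases hp2 : p = 2
      · subst hp2
        haveI : Fact (Nat.Prime 2) := ⟨Nat.prime_two⟩
        obtain ⟨Q, hTQ⟩ := hTp.exists_le_sylow
        haveI := hcyc Q
        exact isCyclic_of_injective (Subgroup.inclusion hTQ) (Subgroup.inclusion_injective hTQ)
      · exact hyp.sylow_cyclic p hp hp2 T hTp
    · push Not at hcyc
      by_cases hsol : Group.IsSolvable G
      · obtain ⟨N, hNn, hNc, ho⟩ := solv_case hsol hyp.inv_unique hyp.sylow_cyclic hcyc
        refine ⟨N, hNn, hNc, ?_⟩
        rcases ho with h | h | h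
        · exact Or.inr (Or.inl h)
        · exact Or.inr (Or.inr (Or.inl h))
        · exact Or.inr (Or.inr (Or.inr (Or.inl h)))
      · obtain ⟨N, hNn, hNc, ho⟩ := nonsolv_case hyp hsol
        refine ⟨N, hNn, hNc, ?_⟩
        rcases ho with h | h
        · exact Or.inr (Or.inr (Or.inr (Or.inr (Or.inl h))))
        · exact Or.inr (Or.inr (Or.inr (Or.inr (Or.inr h))))
  obtain ⟨N, hNn, hNc, hNo⟩ := hex
  refine ⟨N, ⟨hNn, fun p _ P => hNc.sylow p P, hNo⟩, ?_⟩
  rintro N' ⟨hN'n, hN'c, hN'o⟩
  exact opts_unique h2g hN'n hNn (allPCyc_of_sylow N' hN'c) hNc hN'o hNo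

end Cfsg.Agent.S4291
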