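import Cfsg.Statements.S4292
import Cfsg.Agent.Lib.Helper97.FreeAct3
import Cfsg.Agent.S0041

set_option autoImplicit false
open Cfsg

namespace Cfsg.Agent.S4292

open Cfsg.Agent.Lib.Helper97.FreeAct
open Pointwise

universe u v

/-- A nontrivial group embedded in a Frobenius complement is itself a Frobenius complement
(of the subgroup generated by it and the kernel). -/
theorem sub_frobenius {L : Type u} [Group L] [Finite L] (H : Subgroup L)
    (hH : Cfsg.IsFrobeniusComplement H) {A : Type v} [Group A] [Finite A] [Nontrivial A]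
    (f : A →* L) (hf : Function.Injective f) (hfH : ∀ a, f a ∈ H) :
    ∃ (L' : Type) (_ : Group L') (_ : Finite L') (C : Subgroup L'),
      Cfsg.IsFrobeniusComplement C ∧ Nonempty (A ≃* C) := by
  obtain ⟨N, r, hNn, hNk, hr, hrC, hU⟩ := exists_centralTorsion H hH
  have hNbot : N ≠ ⊥ := by
    intro h
    apply hU
    rw [Subgroup.eq_bot_iff_forall]
    intro x hx
    have := hx.1
    rw [h, Subgroup.mem_bot] at this
    exact this
  have : Nontrivial ↥N := (Subgroup.nontrivial_iff_ne_bot N).mpr hNbot
  refine Cfsg.Agent.Lib.Helper71.exists_frobenius_of_free_action (H := A) (N := ↥N)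
    ((MulAut.conjNormal (H := N)).comp f) ?_
  intro a n hn
  by_cases hn1 : n = 1
  · exact Or.inr hn1
  left
  have hnL : (n : L) ≠ 1 := fun h => hn1 (Subtype.ext h)
  have h1 : f a * (n : L) * (f a)⁻¹ = n := by
    have := congrArg Subtype.val hn
    simpa using this
  have := frob_free H hH N hNk (f a) (hfH a) n n.2 hnL h1
  apply hf
  rw [this, map_one]

/-- The orders of the two factors of a Frobenius complement that is a direct product are coprime. -/
theorem coprime_of_prod {L : Type u} [Group L] [Finite L] (H : Subgroup L)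
    (hH : Cfsg.IsFrobeniusComplement H) {A : Type*} {B : Type*} [Group A] [Finite A] [Group B]
    [Finite B] (e : (A × B) ≃* H) : (Nat.card A).Coprime (Nat.card B) := by
  by_contra hcop
  obtain ⟨p, hp, hpA, hpB⟩ := Nat.Prime.not_coprime_iff_dvd.mp hcop
  have : Fact p.Prime := ⟨hp⟩
  obtain ⟨a, ha⟩ := exists_prime_orderOf_dvd_card' (G := A) p hpA
  obtain ⟨b, hb⟩ := exists_prime_orderOf_dvd_card' (G := B) p hpB
  obtain ⟨N, r, hNn, hNk, hr, hrC, hU⟩ := exists_centralTorsion H hH
  let U := centralTorsion N r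
  have hUc : IsMulCommutative ↥U := ⟨⟨fun x y => centralTorsion_comm N r x y⟩⟩
  let g : (A × B) →* L := H.subtype.comp e.toMonoidHom
  have hg : Function.Injective g := by
    intro x y hxy
    exact e.injective (Subtype.ext hxy)
  let P : Subgroup (A × B) := (Subgroup.zpowers a).prod (Subgroup.zpowers b)
  let A' : Subgroup L := P.map g
  have hPcard : Nat.card P = p * p := by
    rw [Nat.card_congr (Subgroup.prodEquiv (Subgroup.zpowers a) (Subgroup.zpowers b)).toEquiv,
      Nat.card_prod, Nat.card_zpowers, Nat.card_zpowers, ha, hb]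
  have hA'card : Nat.card A' = p * p := by
    rw [← hPcard]
    exact Subgroup.card_map_of_injective hg
  have hA'H : ∀ x ∈ A', x ∈ H := by
    rintro x ⟨y, _, rfl⟩
    exact (e y).2
  have hexp : ∀ x ∈ A', x ^ p = 1 := by
    rintro x ⟨y, hy, rfl⟩
    rw [← map_pow]
    have hy1 : y.1 ∈ Subgroup.zpowers a := hy.1
    have hy2 : y.2 ∈ Subgroup.zpowers b := hy.2
    obtain ⟨i, hi⟩ := hy1
    obtain ⟨j, hj⟩ := hy2
    have h1 : y.1 ^ p = 1 := by
      rw [← hi, ← zpow_natCast, ← zpow_mul, mul_comm, zpow_mul, zpow_natCast, ← ha,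
        pow_orderOf_eq_one, one_zpow]
    have h2 : y.2 ^ p = 1 := by
      rw [← hj, ← zpow_natCast, ← zpow_mul, mul_comm, zpow_mul, zpow_natCast, ← hb,
        pow_orderOf_eq_one, one_zpow]
    have : y ^ p = 1 := Prod.ext h1 h2
    rw [this, map_one]
  have hcyc : IsCyclic A' := by
    refine Cfsg.Agent.S0041.result A' U hU ?_ ?_ (Or.inr ⟨p, p, hp, hp, hA'card⟩)
    · rw [Subgroup.normalizer_eq_top]
      exact le_top
    · intro c hc hc1
      rw [Subgroup.eq_bot_iff_forall]
      intro x hx
      obtain ⟨hxU, hxc⟩ := Subgroup.mem_inf.mp hx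
      by_contra hx1
      have hcomm : c * x = x * c := by
        have := Subgroup.mem_centralizer_iff.mp hxc c (Set.mem_singleton c)
        exact this
      have h1 : c * x * c⁻¹ = x := by rw [hcomm]; group
      exact hc1 (frob_free H hH N hNk c (hA'H c hc) x hxU.1 hx1 h1)
  obtain ⟨z, hz⟩ := IsCyclic.exists_ofOrder_eq_natCard (α := A')
  have hzp : z ^ p = 1 := Subtype.ext (by simpa using hexp z z.2)
  have hd : orderOf z ∣ p := orderOf_dvd_of_pow_eq_one hzp
  rw [hz, hA'card] at hd
  have := Nat.le_of_dvd hp.pos hd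
  have := hp.one_lt
  nlinarith

/-- Let A and B be nontrivial finite groups. Then the direct product A × B occurs as a Frobenius complement if and only if A and B both occur as Frobenius complements and the orders of A and B are coprime. -/
theorem result {A B : Type*} [Group A] [Finite A] [Nontrivial A] [Group B] [Finite B] [Nontrivial B] :
    (∃ (L : Type) (_ : Group L) (_ : Finite L) (H : Subgroup L), Cfsg.IsFrobeniusComplement H ∧ Nonempty ((A × B) ≃* H)) ↔
    ((∃ (L : Type) (_ : Group L) (_ : Finite L) (H : Subgroup L), Cfsg.IsFrobeniusComplement H ∧ Nonempty (A ≃* H)) ∧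
     (∃ (L : Type) (_ : Group L) (_ : Finite L) (H : Subgroup L), Cfsg.IsFrobeniusComplement H ∧ Nonempty (B ≃* H)) ∧
     (Nat.card A).Coprime (Nat.card B)) := by
  constructor
  · rintro ⟨L, _, _, H, hH, ⟨e⟩⟩
    refine ⟨?_, ?_, coprime_of_prod H hH e⟩
    · refine sub_frobenius H hH (H.subtype.comp (e.toMonoidHom.comp (MonoidHom.inl A B))) ?_ ?_
      · intro x y hxy
        have h1 : e (x, 1) = e (y, 1) := Subtype.ext hxy
        have := e.injective h1
        exact (Prod.ext_iff.mp this).1
      · intro a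
        exact (e (a, 1)).2
    · refine sub_frobenius H hH (H.subtype.comp (e.toMonoidHom.comp (MonoidHom.inr A B))) ?_ ?_
      · intro x y hxy
        have h1 : e (1, x) = e (1, y) := Subtype.ext hxy
        have := e.injective h1
        exact (Prod.ext_iff.mp this).2
      · intro b
        exact (e (1, b)).2
  · rintro ⟨⟨LA, _, _, HA, hHA, ⟨eA⟩⟩, ⟨LB, _, _, HB, hHB, ⟨eB⟩⟩, hcop⟩
    have hcop' : (Nat.card HA).Coprime (Nat.card HB) := by
      rw [← Nat.card_congr eA.toEquiv, ← Nat.card_congr eB.toEquiv]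
      exact hcop
    obtain ⟨L, hL1, hL2, C, hC, ⟨e⟩⟩ := prod_frobenius HA HB hHA hHB hcop'
    exact ⟨L, hL1, hL2, C, hC, ⟨(MulEquiv.prodCongr eA eB).trans e⟩⟩

end Cfsg.Agent.S4292
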