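import Cfsg.Statements.S4295
import Mathlib
import Cfsg.Agent.Lib.Helper20.QuatLift
import Cfsg.Agent.Lib.Helper71.Frobenius
import Cfsg.Agent.Lib.Helper71.QuatSquare
import Cfsg.Agent.Lib.Helper71.Bender

set_option autoImplicit false
open Cfsg

namespace Cfsg.Agent.S4295

open Cfsg.Agent.Lib.Helper35 Cfsg.Agent.Lib.Helper71 Cfsg.Agent.Lib.Helper20

/-- A free distributive action gives a Frobenius group with kernel of the expected size. -/
theorem exists_frobenius_card {Q V : Type} [Group Q] [Finite Q] [Nontrivial Q] [AddGroup V]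
    [Finite V] [Nontrivial V] [DistribMulAction Q V]
    (hfree : ∀ h : Q, ∀ x : V, h • x = x → h = 1 ∨ x = 0) :
    ∃ (L : Type) (_ : Group L) (_ : Finite L) (C : Subgroup L),
      Cfsg.IsFrobeniusComplement C ∧ Nonempty (C ≃* Q) ∧
        Nat.card (Cfsg.frobeniusKernel C) = Nat.card V := by
  let φ : Q →* MulAut (Multiplicative V) :=
    (MulAutMultiplicative V).symm.toMonoidHom.comp (DistribMulAction.toAddAut Q V)
  have hfree' : ∀ h : Q, ∀ n : Multiplicative V, φ h n = n → h = 1 ∨ n = 1 := by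
    intro h n hn
    have : h • (Multiplicative.toAdd n) = Multiplicative.toAdd n := by
      have := congrArg Multiplicative.toAdd hn
      simpa [φ] using this
    rcases hfree h _ this with h1 | h1
    · exact Or.inl h1
    · right
      exact Multiplicative.toAdd.injective h1
  have hfin : Finite (Multiplicative V ⋊[φ] Q) :=
    Finite.of_equiv (Multiplicative V × Q) SemidirectProduct.equivProd.symm
  have hC := isFrobeniusComplement_range_inr φ hfree'
  refine ⟨Multiplicative V ⋊[φ] Q, inferInstance, hfin,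
    (SemidirectProduct.inr : Q →* Multiplicative V ⋊[φ] Q).range, hC,
    ⟨(MonoidHom.ofInjective SemidirectProduct.inr_injective).symm⟩, ?_⟩
  rw [card_frobeniusKernel hC]
  have h1 := Subgroup.card_mul_index (SemidirectProduct.inr : Q →* Multiplicative V ⋊[φ] Q).range
  have h2 : Nat.card (SemidirectProduct.inr : Q →* Multiplicative V ⋊[φ] Q).range = Nat.card Q :=
    Nat.card_congr (MonoidHom.ofInjective SemidirectProduct.inr_injective).symm.toEquiv
  have h3 : Nat.card (Multiplicative V ⋊[φ] Q) = Nat.card V * Nat.card Q := by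
    rw [Nat.card_congr SemidirectProduct.equivProd, Nat.card_prod,
      Nat.card_congr Multiplicative.toAdd]
  rw [h2, h3, mul_comm] at h1
  have hQ : 0 < Nat.card Q := Nat.card_pos
  exact Nat.eq_of_mul_eq_mul_right hQ h1

section action

variable (p : ℕ) [Fact p.Prime]

/-- The matrix of `i`. -/
def Imat : Matrix (Fin 2) (Fin 2) (ZMod p) := !![0, -1; 1, 0]

/-- The matrix of `j`. -/
def Jmat (a b : ZMod p) : Matrix (Fin 2) (Fin 2) (ZMod p) := !![a, b; b, -a]

theorem Imat_sq : Imat p * Imat p = -1 := by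
  rw [Imat, Matrix.one_fin_two]
  simp [Matrix.mul_fin_two]

theorem Jmat_sq (a b : ZMod p) (h : a ^ 2 + b ^ 2 = -1) : Jmat p a b * Jmat p a b = -1 := by
  rw [Jmat, Matrix.one_fin_two]
  simp only [Matrix.mul_fin_two, Matrix.neg_of, Matrix.neg_cons, Matrix.neg_empty, neg_zero]
  have h1 : a * a + b * b = -1 := by linear_combination h
  have h2 : b * b + -a * -a = -1 := by linear_combination h
  have h3 : a * b + b * -a = 0 := by ring
  have h4 : b * a + -a * b = 0 := by ring
  rw [h1, h2, h3, h4]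

theorem Jmat_Imat (a b : ZMod p) : Jmat p a b * Imat p = -(Imat p * Jmat p a b) := by
  rw [Jmat, Imat]
  simp [Matrix.mul_fin_two]

/-- A matrix with square `-1` as a unit. -/
def unitOfSq (M : Matrix (Fin 2) (Fin 2) (ZMod p)) (h : M * M = -1) :
    (Matrix (Fin 2) (Fin 2) (ZMod p))ˣ :=
  ⟨M, -M, by rw [mul_neg, h, neg_neg], by rw [neg_mul, h, neg_neg]⟩

end action

section rep

variable (p : ℕ) [Fact p.Prime] (a b : ZMod p) (h : a ^ 2 + b ^ 2 = -1)

/-- The representation of `Q₈` on `(ZMod p)²`. -/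
noncomputable def rho : QuaternionGroup 2 →* (Matrix (Fin 2) (Fin 2) (ZMod p))ˣ :=
  quatLift (unitOfSq p (Jmat p a b) (Jmat_sq p a b h)) (unitOfSq p (Imat p) (Imat_sq p)) 2
    (by
      apply Units.ext
      rw [Units.val_pow_eq_pow_val, Units.val_one]
      show Imat p ^ (2 * 2) = 1
      rw [pow_mul, sq, sq, Imat_sq]
      simp)
    (by
      apply Units.ext
      rw [Units.val_mul, Units.val_pow_eq_pow_val]
      show Jmat p a b * Jmat p a b = Imat p ^ 2
      rw [Jmat_sq p a b h, sq, Imat_sq])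
    (by
      apply Units.ext
      rw [Units.val_mul, Units.val_mul]
      show Jmat p a b * Imat p * -(Jmat p a b) = -(Imat p)
      rw [Jmat_Imat, neg_mul, mul_neg, neg_neg, mul_assoc, Jmat_sq p a b h, mul_neg, mul_one])

theorem rho_a_two : ((rho p a b h (QuaternionGroup.a 2) : (Matrix (Fin 2) (Fin 2) (ZMod p))ˣ) :
    Matrix (Fin 2) (Fin 2) (ZMod p)) = -1 := by
  have e : (QuaternionGroup.a 2 : QuaternionGroup 2) = QuaternionGroup.a 1 * QuaternionGroup.a 1 := by
    decide
  have e1 : rho p a b h (QuaternionGroup.a 1) = unitOfSq p (Imat p) (Imat_sq p) := by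
    show (unitOfSq p (Imat p) (Imat_sq p)) ^ (((1 : ZMod (2 * 2)).cast : ℤ)) = _
    have : (((1 : ZMod (2 * 2)).cast : ℤ)) = 1 := by decide
    rw [this, zpow_one]
  rw [e, map_mul, e1, Units.val_mul]
  exact Imat_sq p

theorem quat_cases : ∀ g : QuaternionGroup 2, g = 1 ∨ g = QuaternionGroup.a 2 ∨
    g * g = QuaternionGroup.a 2 := by
  decide

/-- The action of `Q₈` on `(ZMod p)²`. -/
@[reducible] noncomputable def act : DistribMulAction (QuaternionGroup 2) (Fin 2 → ZMod p) where
  smul g v := ((rho p a b h g : (Matrix (Fin 2) (Fin 2) (ZMod p))ˣ) :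
    Matrix (Fin 2) (Fin 2) (ZMod p)).mulVec v
  one_smul v := by
    show ((rho p a b h 1 : (Matrix (Fin 2) (Fin 2) (ZMod p))ˣ) :
      Matrix (Fin 2) (Fin 2) (ZMod p)).mulVec v = v
    rw [map_one, Units.val_one, Matrix.one_mulVec]
  mul_smul g g' v := by
    show ((rho p a b h (g * g') : (Matrix (Fin 2) (Fin 2) (ZMod p))ˣ) :
      Matrix (Fin 2) (Fin 2) (ZMod p)).mulVec v =
      ((rho p a b h g : (Matrix (Fin 2) (Fin 2) (ZMod p))ˣ) :
        Matrix (Fin 2) (Fin 2) (ZMod p)).mulVec
        (((rho p a b h g' : (Matrix (Fin 2) (Fin 2) (ZMod p))ˣ) :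
          Matrix (Fin 2) (Fin 2) (ZMod p)).mulVec v)
    rw [map_mul, Units.val_mul, Matrix.mulVec_mulVec]
  smul_zero g := Matrix.mulVec_zero _
  smul_add g v w := Matrix.mulVec_add _ v w

theorem act_free (hp2 : p ≠ 2) (g : QuaternionGroup 2) (v : Fin 2 → ZMod p)
    (hv : ((rho p a b h g : (Matrix (Fin 2) (Fin 2) (ZMod p))ˣ) :
      Matrix (Fin 2) (Fin 2) (ZMod p)).mulVec v = v) : g = 1 ∨ v = 0 := by
  have h2 : (2 : ZMod p) ≠ 0 := by
    intro h0
    have h1 : ((2 : ℕ) : ZMod p) = 0 := by exact_mod_cast h0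
    rw [ZMod.natCast_eq_zero_iff] at h1
    have := (Nat.prime_dvd_prime_iff_eq (Fact.out : p.Prime) Nat.prime_two).mp h1
    exact hp2 this
  have hneg : (-v = v) → v = 0 := by
    intro hh
    funext i
    have h3 : -(v i) = v i := congrFun hh i
    have h4 : (2 : ZMod p) * v i = 0 := by linear_combination -h3
    rcases mul_eq_zero.mp h4 with h5 | h5
    · exact absurd h5 h2
    · exact h5
  rcases quat_cases g with hg | hg | hg
  · exact Or.inl hg
  · right
    apply hneg
    rw [hg, rho_a_two, Matrix.neg_mulVec, Matrix.one_mulVec] at hv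
    exact hv
  · right
    apply hneg
    have h5 : ((rho p a b h g : (Matrix (Fin 2) (Fin 2) (ZMod p))ˣ) :
        Matrix (Fin 2) (Fin 2) (ZMod p)) * (rho p a b h g : (Matrix (Fin 2) (Fin 2) (ZMod p))ˣ)
        = -1 := by
      rw [← Units.val_mul, ← map_mul, hg, rho_a_two]
    have h6 := congrArg (fun w => ((rho p a b h g : (Matrix (Fin 2) (Fin 2) (ZMod p))ˣ) :
      Matrix (Fin 2) (Fin 2) (ZMod p)).mulVec w) hv
    simp only [Matrix.mulVec_mulVec, h5, Matrix.neg_mulVec, Matrix.one_mulVec] at h6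
    rw [hv] at h6
    exact h6

end rep

/-- A finite additive group of order `n` with a free action of `Q₈`. -/
def HasFreeQ8 (n : ℕ) : Prop :=
  ∃ (V : Type) (_ : AddCommGroup V) (_ : Finite V) (_ : DistribMulAction (QuaternionGroup 2) V),
    Nat.card V = n ∧ ∀ (g : QuaternionGroup 2) (v : V), g • v = v → g = 1 ∨ v = 0

theorem hasFreeQ8_prime (p : ℕ) (hp : p.Prime) (hp2 : p ≠ 2) : HasFreeQ8 (p * p) := by
  have := Fact.mk hp
  obtain ⟨a, b, h⟩ := ZMod.sq_add_sq p (-1)
  refine ⟨Fin 2 → ZMod p, inferInstance, inferInstance, act p a b h, ?_, ?_⟩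
  · rw [Nat.card_fun, Nat.card_zmod, Nat.card_fin, sq]
  · exact fun g v hv => act_free p a b h hp2 g v hv

theorem hasFreeQ8_mul {m n : ℕ} (hm : HasFreeQ8 m) (hn : HasFreeQ8 n) : HasFreeQ8 (m * n) := by
  obtain ⟨V, _, _, _, hcV, hfV⟩ := hm
  obtain ⟨W, _, _, _, hcW, hfW⟩ := hn
  refine ⟨V × W, inferInstance, inferInstance, inferInstance, ?_, ?_⟩
  · rw [Nat.card_prod, hcV, hcW]
  · rintro g ⟨v, w⟩ hvw
    have h1 : g • v = v := congrArg Prod.fst hvw
    have h2 : g • w = w := congrArg Prod.snd hvw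
    rcases hfV g v h1 with hg | hv0
    · exact Or.inl hg
    · rcases hfW g w h2 with hg | hw0
      · exact Or.inl hg
      · right
        rw [hv0, hw0]
        rfl

theorem hasFreeQ8_sq : ∀ r : ℕ, Odd r → 1 < r → HasFreeQ8 (r * r) := by
  intro r
  induction r using Nat.recOnMul with
  | zero => intro h; exact absurd h (by decide)
  | one => intro _ h; exact absurd h (lt_irrefl _)
  | prime p hp =>
    intro hodd _
    exact hasFreeQ8_prime p hp (by rintro rfl; exact absurd hodd (by decide))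
  | mul a b iha ihb =>
    intro hodd hlt
    rw [Nat.odd_mul] at hodd
    by_cases ha : a = 1
    · subst ha
      simpa using ihb hodd.2 (by simpa using hlt)
    by_cases hb : b = 1
    · subst hb
      simpa using iha hodd.1 (by simpa using hlt)
    have ha1 : 1 < a := by have := hodd.1.pos; omega
    have hb1 : 1 < b := by have := hodd.2.pos; omega
    have := hasFreeQ8_mul (iha hodd.1 ha1) (ihb hodd.2 hb1)
    convert this using 1
    ring

open QuaternionGroup in
theorem forward {L : Type} [Group L] [Finite L] (H : Subgroup L)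
    (hF : Cfsg.IsFrobeniusComplement H) (e : H ≃* QuaternionGroup 2) :
    Odd (Nat.card (Cfsg.frobeniusKernel H)) ∧ IsSquare (Nat.card (Cfsg.frobeniusKernel H)) ∧
      1 < Nat.card (Cfsg.frobeniusKernel H) := by
  have hcardH : Nat.card H = 8 := by
    rw [Nat.card_congr e.toEquiv, Nat.card_eq_fintype_card, QuaternionGroup.card]
  have hidx := card_frobeniusKernel hF
  have hmod := index_mod_card hF
  rw [hcardH] at hmod
  have hodd : Odd (Nat.card (Cfsg.frobeniusKernel H)) := by
    rw [hidx, Nat.odd_iff]; omega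
  have hlt : 1 < Nat.card (Cfsg.frobeniusKernel H) := by
    rw [hidx]; have := two_le_index_of_frobenius hF; omega
  refine ⟨hodd, ?_, hlt⟩
  obtain ⟨t, ht⟩ : ∃ t : H, t = e.symm (a 2) := ⟨_, rfl⟩
  obtain ⟨i, hi⟩ : ∃ i : H, i = e.symm (a 1) := ⟨_, rfl⟩
  obtain ⟨j, hj⟩ : ∃ j : H, j = e.symm (xa 0) := ⟨_, rfl⟩
  have ht1' : t ≠ 1 := by
    rw [ht]
    intro h
    have h2 : (a 2 : QuaternionGroup 2) = 1 := by
      have := congrArg e h
      simpa using this
    exact absurd h2 (by decide)
  have ht2' : t * t = 1 := by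
    have h2 : (a 2 * a 2 : QuaternionGroup 2) = 1 := by decide
    rw [ht, ← map_mul, h2, map_one]
  have htc' : ∀ h : H, h * t = t * h := by
    intro h
    have hq : ∀ q : QuaternionGroup 2, q * a 2 = a 2 * q := by decide
    apply e.injective
    rw [map_mul, map_mul, ht, e.apply_symm_apply, hq]
  have hii' : i * i = t := by
    have h2 : (a 1 * a 1 : QuaternionGroup 2) = a 2 := by decide
    rw [hi, ht, ← map_mul, h2]
  have hjj' : j * j = t := by
    have h2 : (xa 0 * xa 0 : QuaternionGroup 2) = a 2 := by decide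
    rw [hj, ht, ← map_mul, h2]
  have hij' : i * j = j * i * t := by
    have h2 : (a 1 * xa 0 : QuaternionGroup 2) = xa 0 * a 1 * a 2 := by decide
    rw [hi, hj, ht, ← map_mul, ← map_mul, ← map_mul, h2]
  have ht1 : (t : L) ≠ 1 := fun h => ht1' (Subtype.ext h)
  have ht2 : (t : L) * t = 1 := congrArg Subtype.val ht2'
  have htc : ∀ h ∈ H, h * (t : L) = t * h := fun h hh => congrArg Subtype.val (htc' ⟨h, hh⟩)
  have hii : (i : L) * i = t := congrArg Subtype.val hii'
  have hjj : (j : L) * j = t := congrArg Subtype.val hjj'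
  have hij : (i : L) * j = j * i * t := congrArg Subtype.val hij'
  obtain ⟨K, hKset, hKinv, hKcomm, hKn⟩ := Bender.exists_kernel_subgroup hF t.2 ht1 ht2 htc
  have hcardK : Nat.card K = Nat.card (Cfsg.frobeniusKernel H) := by
    rw [← hKset]; rfl
  rw [← hcardK] at hodd ⊢
  apply QuatSq.isSquare_card_mul' (fun x y => Subtype.ext (hKcomm x x.2 y y.2))
    (MulAut.conjNormal (i : L) : MulAut K).toMonoidHom
    (MulAut.conjNormal (j : L) : MulAut K).toMonoidHom
  · intro x
    apply Subtype.ext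
    show (i : L) * ((i : L) * x * (i : L)⁻¹) * (i : L)⁻¹ = (x : L)⁻¹
    have e1 : (i : L) * ((i : L) * x * (i : L)⁻¹) * (i : L)⁻¹ =
        ((i : L) * i) * x * ((i : L) * i)⁻¹ := by group
    rw [e1, hii, hKinv x x.2]
  · intro x
    apply Subtype.ext
    show (j : L) * ((j : L) * x * (j : L)⁻¹) * (j : L)⁻¹ = (x : L)⁻¹
    have e1 : (j : L) * ((j : L) * x * (j : L)⁻¹) * (j : L)⁻¹ =
        ((j : L) * j) * x * ((j : L) * j)⁻¹ := by group
    rw [e1, hjj, hKinv x x.2]
  · intro x
    apply Subtype.ext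
    show (i : L) * ((j : L) * x * (j : L)⁻¹) * (i : L)⁻¹ =
      ((j : L) * ((i : L) * x * (i : L)⁻¹) * (j : L)⁻¹)⁻¹
    have e1 : (i : L) * ((j : L) * x * (j : L)⁻¹) * (i : L)⁻¹ =
        ((i : L) * j) * x * ((i : L) * j)⁻¹ := by group
    have e2 : ((j : L) * i * t) * x * ((j : L) * i * t)⁻¹ =
        ((j : L) * i) * ((t : L) * x * (t : L)⁻¹) * ((j : L) * i)⁻¹ := by group
    rw [e1, hij, e2, hKinv x x.2]
    group
  · exact hodd

/-- For a natural number m the following are equivalent: (a) some finite group has a Frobenius complement isomorphic to the quaternion group of order 8 whose Frobenius kernel (the identity together with the elements lying in no conjugate of the complement) has exactly m elements; (b) m is an odd perfect square greater than 1. -/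
theorem result (m : ℕ) :
    (∃ (L : Type) (_ : Group L) (_ : Finite L) (H : Subgroup L), Cfsg.IsFrobeniusComplement H ∧
        Nonempty (H ≃* QuaternionGroup 2) ∧ Nat.card (Cfsg.frobeniusKernel H) = m) ↔
    (Odd m ∧ IsSquare m ∧ 1 < m) := by
  constructor
  · rintro ⟨L, _, _, H, hF, ⟨e⟩, rfl⟩
    exact forward H hF e
  · rintro ⟨hodd, ⟨r, rfl⟩, hlt⟩
    have hr_odd : Odd r := (Nat.odd_mul.mp hodd).1
    have hr1 : 1 < r := by
      by_contra h
      push Not at h
      have : r * r ≤ 1 := by nlinarith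
      omega
    obtain ⟨V, _, _, _, hcV, hfV⟩ := hasFreeQ8_sq r hr_odd hr1
    have : Nontrivial V := by
      rw [← Finite.one_lt_card_iff_nontrivial, hcV]; exact hlt
    obtain ⟨L, iG, iF, C, hC, ⟨f⟩, hk⟩ :=
      exists_frobenius_card (Q := QuaternionGroup 2) (V := V) hfV
    exact ⟨L, iG, iF, C, hC, ⟨f⟩, by rw [hk, hcV]⟩

end Cfsg.Agent.S4295
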