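import Cfsg.Statements.S4296
import Mathlib
import Cfsg.Agent.S0035
import Cfsg.Agent.S0040
import Cfsg.Agent.S0068
import Cfsg.Agent.Lib.Helper35.Frobenius
import Cfsg.Agent.Lib.Helper35.FrobeniusCount
import Cfsg.Agent.Lib.Helper35.FrobeniusMod
import Cfsg.Agent.Lib.Helper35.FrobeniusConj
import Cfsg.Agent.Lib.Helper35.FrobeniusHall
import Cfsg.Agent.Lib.Helper71.QuatSquare
import Cfsg.Agent.Lib.Helper71.Bender

set_option autoImplicit false
open Cfsg

namespace Cfsg.Agent.S4296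

open Cfsg.Agent.Lib.Helper35 Cfsg.Agent.Lib.Helper71

/-- A normal abelian subgroup of odd order on which `i`, `j` act by conjugation with
`i² = j² = t`, `ij = jit` and `t` inverting, has square order. -/
theorem isSquare_card_of_conj {L : Type*} [Group L] [Finite L] (N : Subgroup L) [hNn : N.Normal]
    (hcomm : ∀ x ∈ N, ∀ y ∈ N, x * y = y * x) (t i j : L)
    (hinv : ∀ x ∈ N, t * x * t⁻¹ = x⁻¹) (hii : i * i = t) (hjj : j * j = t)
    (hij : i * j = j * i * t) (hodd : Odd (Nat.card N)) : IsSquare (Nat.card N) := by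
  apply QuatSq.isSquare_card_mul' (fun x y => Subtype.ext (hcomm x x.2 y y.2))
    (MulAut.conjNormal i : MulAut N).toMonoidHom
    (MulAut.conjNormal j : MulAut N).toMonoidHom
  · intro x
    apply Subtype.ext
    show i * (i * x * i⁻¹) * i⁻¹ = (x : L)⁻¹
    have e1 : i * (i * x * i⁻¹) * i⁻¹ = (i * i) * x * (i * i)⁻¹ := by group
    rw [e1, hii, hinv x x.2]
  · intro x
    apply Subtype.ext
    show j * (j * x * j⁻¹) * j⁻¹ = (x : L)⁻¹
    have e1 : j * (j * x * j⁻¹) * j⁻¹ = (j * j) * x * (j * j)⁻¹ := by group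
    rw [e1, hjj, hinv x x.2]
  · intro x
    apply Subtype.ext
    show i * (j * x * j⁻¹) * i⁻¹ = (j * (i * x * i⁻¹) * j⁻¹)⁻¹
    have e1 : i * (j * x * j⁻¹) * i⁻¹ = (i * j) * x * (i * j)⁻¹ := by group
    have e2 : (j * i * t) * x * (j * i * t)⁻¹ = (j * i) * (t * x * t⁻¹) * (j * i)⁻¹ := by group
    rw [e1, hij, e2, hinv x x.2]
    group
  · exact hodd

open QuaternionGroup in
/-- The relations among `a (2^k)`, `xa 0`, `a (2^(k+1))` in the generalized quaternion group. -/
theorem quat_rel (k : ℕ) :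
    let qi : QuaternionGroup (2 ^ (k + 1)) := a ((2 ^ k : ℕ) : ZMod (2 * 2 ^ (k + 1)))
    let qj : QuaternionGroup (2 ^ (k + 1)) := xa 0
    let qt : QuaternionGroup (2 ^ (k + 1)) := a ((2 ^ (k + 1) : ℕ) : ZMod (2 * 2 ^ (k + 1)))
    qi * qi = qt ∧ qj * qj = qt ∧ qi * qj = qj * qi * qt ∧ qt * qt = 1 ∧ qt ≠ 1 := by
  intro qi qj qt
  have hz : ((2 * 2 ^ (k + 1) : ℕ) : ZMod (2 * 2 ^ (k + 1))) = 0 := ZMod.natCast_self _
  refine ⟨?_, ?_, ?_, ?_, ?_⟩
  · show a _ * a _ = a _
    rw [a_mul_a, ← Nat.cast_add]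
    congr 2
    ring
  · show xa 0 * xa 0 = a _
    rw [xa_mul_xa]
    congr 1
    simp
  · show a _ * xa 0 = xa 0 * a _ * a _
    rw [a_mul_xa, xa_mul_a, xa_mul_a]
    congr 1
    have h1 : ((2 ^ k : ℕ) : ZMod (2 * 2 ^ (k + 1))) + ((2 ^ k : ℕ) : ZMod (2 * 2 ^ (k + 1))) +
        ((2 ^ (k + 1) : ℕ) : ZMod (2 * 2 ^ (k + 1))) = 0 := by
      rw [← Nat.cast_add, ← Nat.cast_add, ← hz]
      congr 1
      ring
    linear_combination -h1
  · show a _ * a _ = 1
    rw [a_mul_a, ← Nat.cast_add, one_def]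
    congr 1
    rw [← hz]
    congr 1
    ring
  · show a _ ≠ 1
    rw [one_def]
    intro h
    have h2 := QuaternionGroup.a.inj h
    rw [ZMod.natCast_eq_zero_iff] at h2
    have h3 := Nat.le_of_dvd (by positivity) h2
    have h4 : 0 < 2 ^ (k + 1) := by positivity
    omega

/-- Let H be a Frobenius complement in a finite group, and suppose some Sylow subgroup of H is not cyclic. Then the number of elements of the Frobenius kernel (the identity together with the elements lying in no conjugate of H) is an odd perfect square. -/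
theorem result {L : Type*} [Group L] [Finite L] (H : Subgroup L) (hF : Cfsg.IsFrobeniusComplement H)
    (hZ : ∃ (p : ℕ) (_ : Fact p.Prime) (P : Sylow p H), ¬ IsCyclic P) :
    Odd (Nat.card (Cfsg.frobeniusKernel H)) ∧ IsSquare (Nat.card (Cfsg.frobeniusKernel H)) := by
  obtain ⟨p, hp, P, hP⟩ := hZ
  obtain ⟨N, hNset, hNn, hNc⟩ := Cfsg.Agent.S0035.result H hF
  have hcardN : Nat.card N = Nat.card (Cfsg.frobeniusKernel H) := by
    rw [← hNset]; rfl
  have hidx := card_frobeniusKernel hF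
  have hN1 : N ≠ ⊥ := by
    intro h
    have h1 : Nat.card N = 1 := by rw [h]; exact Subgroup.card_bot
    have h2 := two_le_index_of_frobenius hF
    omega
  have hfpf : ∀ h ∈ H, h ≠ 1 → N ⊓ Subgroup.centralizer {h} = ⊥ := by
    intro h hh h1
    rw [eq_bot_iff]
    rintro x ⟨hxN, hxc⟩
    rw [Subgroup.mem_bot]
    have hxk : x ∈ Cfsg.frobeniusKernel H := by rw [← hNset]; exact hxN
    have hcomm : x * h = h * x := by
      have := Subgroup.mem_centralizer_iff.mp hxc h (Set.mem_singleton h)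
      exact this.symm
    exact Bender.kernel_inter hxk (mem_of_commute hF h1 hh hcomm)
  rcases Cfsg.Agent.S0040.result N H hNc hN1 hfpf p P with hcyc | ⟨n, ⟨e⟩⟩
  · exact absurd hcyc hP
  -- `n ≥ 1`
  obtain ⟨k, rfl⟩ : ∃ k, n = k + 1 := by
    rcases n with _ | k
    · exfalso
      apply hP
      have hc1 : IsCyclic (QuaternionGroup (2 ^ 0)) := by
        rw [pow_zero]; exact QuaternionGroup.quaternionGroup_one_isCyclic
      exact isCyclic_of_surjective e.symm e.symm.surjective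
    · exact ⟨k, rfl⟩
  -- `H` has even order
  have hcardP : Nat.card P = 4 * 2 ^ (k + 1) := by
    rw [Nat.card_congr e.toEquiv, Nat.card_eq_fintype_card, QuaternionGroup.card]
  have heven : 2 ∣ Nat.card H := by
    have h1 : Nat.card P ∣ Nat.card H := Subgroup.card_subgroup_dvd_card (P : Subgroup H)
    rw [hcardP] at h1
    exact Dvd.dvd.trans ⟨2 * 2 ^ (k + 1), by ring⟩ h1
  obtain ⟨⟨s, hsH, hs2, huniq, hsinv⟩, hcommN⟩ := Cfsg.Agent.S0068.result N H hNc hN1 hfpf heven
  -- oddness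
  have hcop := coprime_index_card hF
  have hodd : Odd (Nat.card (Cfsg.frobeniusKernel H)) := by
    rw [hidx, ← Nat.not_even_iff_odd]
    intro hev
    have h2 : 2 ∣ Nat.gcd H.index (Nat.card H) := Nat.dvd_gcd (even_iff_two_dvd.mp hev) heven
    rw [hcop] at h2
    omega
  refine ⟨hodd, ?_⟩
  -- the quaternion elements
  obtain ⟨hr1, hr2, hr3, hr4, hr5⟩ := quat_rel k
  obtain ⟨t, ht⟩ : ∃ t : P, t = e.symm (QuaternionGroup.a ((2 ^ (k + 1) : ℕ) : ZMod (2 * 2 ^ (k + 1)))) :=
    ⟨_, rfl⟩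
  obtain ⟨i, hi⟩ : ∃ i : P, i = e.symm (QuaternionGroup.a ((2 ^ k : ℕ) : ZMod (2 * 2 ^ (k + 1)))) :=
    ⟨_, rfl⟩
  obtain ⟨j, hj⟩ : ∃ j : P, j = e.symm (QuaternionGroup.xa 0) := ⟨_, rfl⟩
  have hii' : i * i = t := by rw [hi, ht, ← map_mul, hr1]
  have hjj' : j * j = t := by rw [hj, ht, ← map_mul, hr2]
  have hij' : i * j = j * i * t := by rw [hi, hj, ht, ← map_mul, ← map_mul, ← map_mul, hr3]
  have htt' : t * t = 1 := by rw [ht, ← map_mul, hr4, map_one]
  have ht1' : t ≠ 1 := by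
    rw [ht]
    intro h
    apply hr5
    have := congrArg e h
    simpa using this
  have hii : (((i : P) : H) : L) * i = t := congrArg (fun z : P => ((z : H) : L)) hii'
  have hjj : (((j : P) : H) : L) * j = t := congrArg (fun z : P => ((z : H) : L)) hjj'
  have hij : (((i : P) : H) : L) * j = j * i * t := congrArg (fun z : P => ((z : H) : L)) hij'
  have htt : (((t : P) : H) : L) * t = 1 := congrArg (fun z : P => ((z : H) : L)) htt'
  have ht1 : (((t : P) : H) : L) ≠ 1 := by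
    intro h
    apply ht1'
    apply Subtype.ext
    apply Subtype.ext
    exact h
  have hto : orderOf (((t : P) : H) : L) = 2 := by
    have : Fact (Nat.Prime 2) := ⟨Nat.prime_two⟩
    apply orderOf_eq_prime _ ht1
    rw [sq]; exact htt
  have hts : (((t : P) : H) : L) = s := huniq _ (t : H).2 hto
  have hinv : ∀ x ∈ N, (((t : P) : H) : L) * x * (((t : P) : H) : L)⁻¹ = x⁻¹ := by
    intro x hx
    rw [hts]; exact hsinv x hx
  have hcomm : ∀ x ∈ N, ∀ y ∈ N, x * y = y * x := by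
    intro x hx y hy
    have := hcommN.is_comm.comm (⟨x, hx⟩ : N) ⟨y, hy⟩
    exact congrArg Subtype.val this
  rw [← hcardN] at hodd ⊢
  exact isSquare_card_of_conj N hcomm _ _ _ hinv hii hjj hij hodd

end Cfsg.Agent.S4296
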