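import Cfsg.Statements.S4297
import Cfsg.Agent.Lib.Helper71.Frobenius

set_option autoImplicit false
open Cfsg

namespace Cfsg.Agent.S4297

open QuaternionGroup in
/-- The action of the dicyclic group on `K × K` determined by a character `χ`. -/
def qsmul {n : ℕ} {K : Type*} [Field K] (χ : ZMod (2 * n) → K) :
    QuaternionGroup n → K × K → K × K
  | a i, w => (χ i * w.1, χ (-i) * w.2)
  | xa i, w => (χ (-i) * w.2, -(χ i * w.1))

/-- For every n ≥ 2 the dicyclic group of order 4n (generated by an element a of order 2n and an element x with x² = aⁿ and x a x⁻¹ = a⁻¹) occurs as a Frobenius complement of some finite Frobenius group. -/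
theorem result (n : ℕ) (hn : 2 ≤ n) :
    ∃ (L : Type) (_ : Group L) (_ : Finite L) (H : Subgroup L), Cfsg.IsFrobeniusComplement H ∧ Nonempty (H ≃* QuaternionGroup n) := by
  have hm0 : 2 * n ≠ 0 := by omega
  have : NeZero n := ⟨by omega⟩
  have : NeZero (2 * n) := ⟨hm0⟩
  obtain ⟨p, hp, -, hmod⟩ := Nat.exists_prime_gt_modEq_one (k := 2 * n) 0 hm0
  have : Fact p.Prime := ⟨hp⟩
  have hdvd : 2 * n ∣ p - 1 := (Nat.modEq_iff_dvd' hp.one_lt.le).mp hmod.symm
  have hp2 : p ≠ 2 := by
    rintro rfl
    have := Nat.le_of_dvd (by norm_num) hdvd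
    omega
  obtain ⟨g, hg⟩ := IsCyclic.exists_ofOrder_eq_natCard (α := (ZMod p)ˣ)
  have hcard : Nat.card (ZMod p)ˣ = p - 1 := by
    rw [Nat.card_eq_fintype_card, ZMod.card_units_eq_totient, Nat.totient_prime hp]
  rw [hcard] at hg
  obtain ⟨k, hk⟩ := hdvd
  have hk0 : k ≠ 0 := by
    rintro rfl
    have := hp.one_lt
    omega
  let ζ : (ZMod p)ˣ := g ^ k
  have hζ : orderOf ζ = 2 * n := by
    have : orderOf (g ^ k) = orderOf g / k := orderOf_pow_of_dvd hk0 (by rw [hg, hk]; exact dvd_mul_left _ _)
    rw [this, hg, hk, Nat.mul_div_cancel _ (Nat.pos_of_ne_zero hk0)]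
  let χ : ZMod (2 * n) → ZMod p := fun i => ((ζ ^ i.val : (ZMod p)ˣ) : ZMod p)
  have hχ0 : χ 0 = 1 := by simp [χ]
  have hχadd : ∀ i j, χ (i + j) = χ i * χ j := by
    intro i j
    simp only [χ]
    rw [← Units.val_mul, ← pow_add, ZMod.val_add]
    congr 1
    rw [pow_eq_pow_iff_modEq, hζ]
    exact Nat.mod_modEq _ _
  have hχinj : ∀ i, χ i = 1 → i = 0 := by
    intro i hi
    have h1 : ζ ^ i.val = 1 := by
      ext
      simpa [χ] using hi
    have h2 : orderOf ζ ∣ i.val := orderOf_dvd_of_pow_eq_one h1
    rw [hζ] at h2
    have h3 : i.val < 2 * n := ZMod.val_lt i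
    have h4 : i.val = 0 := Nat.eq_zero_of_dvd_of_lt h2 h3
    exact (ZMod.val_eq_zero i).mp h4
  have hχn : χ (n : ZMod (2 * n)) = -1 := by
    have h1 : χ (n : ZMod (2 * n)) * χ (n : ZMod (2 * n)) = 1 := by
      rw [← hχadd, ← hχ0]
      congr 1
      have : ((n : ZMod (2 * n)) + n) = ((2 * n : ℕ) : ZMod (2 * n)) := by push_cast; ring
      rw [this, ZMod.natCast_self]
    rcases mul_self_eq_one_iff.mp h1 with h | h
    · exfalso
      have := hχinj _ h
      rw [ZMod.natCast_eq_zero_iff] at this
      have := Nat.le_of_dvd (by omega) this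
      omega
    · exact h
  have hχneg : ∀ i, χ i * χ (-i) = 1 := by
    intro i
    rw [← hχadd, add_neg_cancel, hχ0]
  have hχnegn : χ (-(n : ZMod (2 * n))) = -1 := by
    have := hχneg (n : ZMod (2 * n))
    rw [hχn] at this
    have h2 : χ (-(n : ZMod (2 * n))) = -(-1 * χ (-(n : ZMod (2 * n)))) := by ring
    rw [h2, this]
  let _ : DistribMulAction (QuaternionGroup n) (ZMod p × ZMod p) :=
    { smul := qsmul χ
      one_smul := by
        rintro ⟨u, v⟩
        change qsmul χ (QuaternionGroup.a 0) (u, v) = (u, v)
        simp [qsmul, hχ0]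
      mul_smul := by
        rintro (i | i) (j | j) ⟨u, v⟩
        · change qsmul χ (QuaternionGroup.a (i + j)) (u, v) = qsmul χ (QuaternionGroup.a i) (qsmul χ (QuaternionGroup.a j) (u, v))
          simp only [qsmul, neg_add, hχadd]
          ext <;> simp <;> ring
        · change qsmul χ (QuaternionGroup.xa (j - i)) (u, v) = qsmul χ (QuaternionGroup.a i) (qsmul χ (QuaternionGroup.xa j) (u, v))
          simp only [qsmul, neg_sub]
          simp only [sub_eq_add_neg, hχadd]
          ext <;> simp <;> ring
        · change qsmul χ (QuaternionGroup.xa (i + j)) (u, v) = qsmul χ (QuaternionGroup.xa i) (qsmul χ (QuaternionGroup.a j) (u, v))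
          simp only [qsmul, neg_add, hχadd]
          ext <;> simp <;> ring
        · change qsmul χ (QuaternionGroup.a (n + j - i)) (u, v) = qsmul χ (QuaternionGroup.xa i) (qsmul χ (QuaternionGroup.xa j) (u, v))
          simp only [qsmul, neg_sub]
          simp only [sub_eq_add_neg, neg_add, hχadd, hχn, hχnegn]
          ext <;> simp <;> ring
      smul_zero := by
        rintro (i | i) <;> change qsmul χ _ (0, 0) = (0, 0) <;> simp [qsmul]
      smul_add := by
        rintro (i | i) ⟨u, v⟩ ⟨u', v'⟩
        · change qsmul χ _ (u + u', v + v') = qsmul χ _ (u, v) + qsmul χ _ (u', v')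
          simp only [qsmul]
          ext <;> simp <;> ring
        · change qsmul χ _ (u + u', v + v') = qsmul χ _ (u, v) + qsmul χ _ (u', v')
          simp only [qsmul]
          ext <;> simp <;> ring }
  have key := Cfsg.Agent.Lib.Helper71.exists_frobenius_of_free_distribMulAction
    (H := QuaternionGroup n) (V := ZMod p × ZMod p) (by
      rintro (i | i) ⟨u, v⟩ h
      · have h' : qsmul χ (QuaternionGroup.a i) (u, v) = (u, v) := h
        simp only [qsmul, Prod.mk.injEq] at h'
        obtain ⟨h1, h2⟩ := h'
        by_cases hu : u = 0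
        · by_cases hv : v = 0
          · right; rw [hu, hv]; rfl
          · left
            have : χ (-i) = 1 := by
              have : (χ (-i) - 1) * v = 0 := by rw [sub_mul, h2, one_mul, sub_self]
              rcases mul_eq_zero.mp this with h | h
              · exact sub_eq_zero.mp h
              · exact absurd h hv
            have := hχinj _ this
            rw [neg_eq_zero] at this
            rw [this]; rfl
        · left
          have : χ i = 1 := by
            have : (χ i - 1) * u = 0 := by rw [sub_mul, h1, one_mul, sub_self]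
            rcases mul_eq_zero.mp this with h | h
            · exact sub_eq_zero.mp h
            · exact absurd h hu
          have := hχinj _ this
          rw [this]; rfl
      · right
        have h' : qsmul χ (QuaternionGroup.xa i) (u, v) = (u, v) := h
        simp only [qsmul, Prod.mk.injEq] at h'
        obtain ⟨h1, h2⟩ := h'
        have h3 : (2 : ZMod p) * u = 0 := by
          have : u = -u := by
            calc u = χ (-i) * v := h1.symm
              _ = χ (-i) * (-(χ i * u)) := by rw [h2]
              _ = -((χ i * χ (-i)) * u) := by ring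
              _ = -u := by rw [hχneg, one_mul]
          linear_combination this
        have h2ne : (2 : ZMod p) ≠ 0 := by
          intro h
          have : ((2 : ℕ) : ZMod p) = 0 := by exact_mod_cast h
          rw [ZMod.natCast_eq_zero_iff] at this
          exact hp2 ((Nat.prime_dvd_prime_iff_eq hp Nat.prime_two).mp this)
        have hu : u = 0 := by
          rcases mul_eq_zero.mp h3 with h | h
          · exact absurd h h2ne
          · exact h
        have hv : v = 0 := by rw [← h2, hu]; simp
        rw [hu, hv]; rfl)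
  obtain ⟨L, hL1, hL2, C, hC, ⟨e⟩⟩ := key
  exact ⟨L, hL1, hL2, C, hC, ⟨e.symm⟩⟩

end Cfsg.Agent.S4297
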