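import Cfsg.Statements.S4298
import Cfsg.Agent.Lib.Helper71.Frobenius

set_option autoImplicit false
open Cfsg

namespace Cfsg.Agent.S4298

open Quaternion

/-- Lift `0, 1, -1` from `ZMod 3` to `ZMod 5`. -/
def lift (x : ZMod 3) : ZMod 5 := if x = 0 then 0 else if x = 1 then 1 else -1

/-- The embedding of `SL(2,3)` into the quaternions over `ZMod 5`, on matrix entries. -/
def F (a b c d : ZMod 3) : ℍ[ZMod 5] :=
  let x₀ := -(a + d)
  let x₁ := b - c
  let x₂ := a + b + c - d
  let x₃ := -a + b + c + d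
  if x₀ * x₁ * x₂ * x₃ = 0 then ⟨lift x₀, lift x₁, lift x₂, lift x₃⟩
  else ⟨2 * lift x₀, 2 * lift x₁, 2 * lift x₂, 2 * lift x₃⟩

set_option maxRecDepth 100000 in
theorem F_mul_re : ∀ a b c d a' b' c' d' : ZMod 3, a * d - b * c = 1 → a' * d' - b' * c' = 1 →
    (F (a * a' + b * c') (a * b' + b * d') (c * a' + d * c') (c * b' + d * d')).re =
      (F a b c d * F a' b' c' d').re := by
  decide

set_option maxRecDepth 100000 in
theorem F_mul_imI : ∀ a b c d a' b' c' d' : ZMod 3, a * d - b * c = 1 → a' * d' - b' * c' = 1 →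
    (F (a * a' + b * c') (a * b' + b * d') (c * a' + d * c') (c * b' + d * d')).imI =
      (F a b c d * F a' b' c' d').imI := by
  decide

set_option maxRecDepth 100000 in
theorem F_mul_imJ : ∀ a b c d a' b' c' d' : ZMod 3, a * d - b * c = 1 → a' * d' - b' * c' = 1 →
    (F (a * a' + b * c') (a * b' + b * d') (c * a' + d * c') (c * b' + d * d')).imJ =
      (F a b c d * F a' b' c' d').imJ := by
  decide

set_option maxRecDepth 100000 in
theorem F_mul_imK : ∀ a b c d a' b' c' d' : ZMod 3, a * d - b * c = 1 → a' * d' - b' * c' = 1 →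
    (F (a * a' + b * c') (a * b' + b * d') (c * a' + d * c') (c * b' + d * d')).imK =
      (F a b c d * F a' b' c' d').imK := by
  decide

set_option maxRecDepth 100000 in
theorem F_free : ∀ a b c d : ZMod 3, a * d - b * c = 1 → ¬ (a = 1 ∧ b = 0 ∧ c = 0 ∧ d = 1) →
    ((F a b c d).re - 1) ^ 2 + (F a b c d).imI ^ 2 + (F a b c d).imJ ^ 2 + (F a b c d).imK ^ 2 ≠ 0 := by
  decide

theorem F_one : F 1 0 0 1 = 1 := by
  ext <;> decide

theorem det_eq (A : Matrix.SpecialLinearGroup (Fin 2) (ZMod 3)) :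
    A.1 0 0 * A.1 1 1 - A.1 0 1 * A.1 1 0 = 1 := by
  have := A.2
  rwa [Matrix.det_fin_two] at this

/-- The homomorphism from `SL(2,3)` to the quaternions over `ZMod 5`. -/
def f : Matrix.SpecialLinearGroup (Fin 2) (ZMod 3) →* ℍ[ZMod 5] where
  toFun A := F (A.1 0 0) (A.1 0 1) (A.1 1 0) (A.1 1 1)
  map_one' := by
    simp only [Matrix.SpecialLinearGroup.coe_one]
    simpa using F_one
  map_mul' A B := by
    have hA := det_eq A
    have hB := det_eq B
    have e : ∀ i j, (A * B).1 i j = A.1 i 0 * B.1 0 j + A.1 i 1 * B.1 1 j := by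
      intro i j
      rw [Matrix.SpecialLinearGroup.coe_mul, Matrix.mul_apply, Fin.sum_univ_two]
    simp only [e]
    ext
    · exact F_mul_re _ _ _ _ _ _ _ _ hA hB
    · exact F_mul_imI _ _ _ _ _ _ _ _ hA hB
    · exact F_mul_imJ _ _ _ _ _ _ _ _ hA hB
    · exact F_mul_imK _ _ _ _ _ _ _ _ hA hB

theorem f_free (A : Matrix.SpecialLinearGroup (Fin 2) (ZMod 3)) (x : ℍ[ZMod 5])
    (h : f A * x = x) : A = 1 ∨ x = 0 := by
  by_cases hA : A = 1
  · exact Or.inl hA
  right
  have : Fact (Nat.Prime 5) := ⟨by norm_num⟩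
  have hne : ¬ (A.1 0 0 = 1 ∧ A.1 0 1 = 0 ∧ A.1 1 0 = 0 ∧ A.1 1 1 = 1) := by
    rintro ⟨h1, h2, h3, h4⟩
    apply hA
    ext i j
    fin_cases i <;> fin_cases j <;> simp [h1, h2, h3, h4]
  have hn := F_free _ _ _ _ (det_eq A) hne
  have hn' : normSq (f A - 1) ≠ 0 := by
    rw [normSq_def']
    simpa [f] using hn
  have h0 : (f A - 1) * x = 0 := by rw [sub_mul, h, one_mul, sub_self]
  have h1 : star (f A - 1) * ((f A - 1) * x) = 0 := by rw [h0, mul_zero]
  rw [← mul_assoc, star_mul_self, coe_mul_eq_smul] at h1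
  exact (smul_eq_zero.mp h1).resolve_left hn'

/-- The group SL(2,3) of order 24 (the binary tetrahedral group) occurs as a Frobenius complement of some finite Frobenius group. -/
theorem result :
    ∃ (L : Type) (_ : Group L) (_ : Finite L) (H : Subgroup L), Cfsg.IsFrobeniusComplement H ∧ Nonempty (H ≃* Matrix.SpecialLinearGroup (Fin 2) (ZMod 3)) := by
  let _ : DistribMulAction (Matrix.SpecialLinearGroup (Fin 2) (ZMod 3)) ℍ[ZMod 5] :=
    DistribMulAction.compHom ℍ[ZMod 5] f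
  have hsmul : ∀ (A : Matrix.SpecialLinearGroup (Fin 2) (ZMod 3)) (x : ℍ[ZMod 5]),
      A • x = f A * x := fun A x => rfl
  have : Finite ℍ[ZMod 5] := Finite.of_equiv _ (Quaternion.equivProd (ZMod 5)).symm
  have : Nontrivial (ZMod 5) := ⟨⟨0, 1, by decide⟩⟩
  have : Nontrivial (Matrix.SpecialLinearGroup (Fin 2) (ZMod 3)) := by
    refine ⟨⟨1, -1, ?_⟩⟩
    intro h
    have := congrArg (fun A : Matrix.SpecialLinearGroup (Fin 2) (ZMod 3) => A.1 0 0) h
    revert this
    simp only [Matrix.SpecialLinearGroup.coe_one, Matrix.SpecialLinearGroup.coe_neg]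
    decide
  have key := Cfsg.Agent.Lib.Helper71.exists_frobenius_of_free_distribMulAction
    (H := Matrix.SpecialLinearGroup (Fin 2) (ZMod 3)) (V := ℍ[ZMod 5]) (by
      intro A x h
      rw [hsmul] at h
      exact f_free A x h)
  obtain ⟨L, hL1, hL2, C, hC, ⟨e⟩⟩ := key
  exact ⟨L, hL1, hL2, C, hC, ⟨e.symm⟩⟩

end Cfsg.Agent.S4298
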