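import Cfsg.Statements.S4299
import Cfsg.Agent.Lib.Helper71.Frobenius

set_option autoImplicit false
open Cfsg

namespace Cfsg.Agent.S4299

/-- Every nontrivial finite cyclic group occurs as a Frobenius complement of some finite Frobenius group. -/
theorem result {C : Type*} [Group C] [Finite C] [IsCyclic C] [Nontrivial C] :
    ∃ (L : Type) (_ : Group L) (_ : Finite L) (H : Subgroup L), Cfsg.IsFrobeniusComplement H ∧ Nonempty (C ≃* H) := by
  have hn0 : Nat.card C ≠ 0 := Nat.card_pos.ne'
  obtain ⟨p, hp, -, hmod⟩ := Nat.exists_prime_gt_modEq_one (k := Nat.card C) 0 hn0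
  have : Fact p.Prime := ⟨hp⟩
  have hdvd : Nat.card C ∣ p - 1 := (Nat.modEq_iff_dvd' hp.one_lt.le).mp hmod.symm
  obtain ⟨g, hg⟩ := IsCyclic.exists_ofOrder_eq_natCard (α := (ZMod p)ˣ)
  have hcard : Nat.card (ZMod p)ˣ = p - 1 := by
    rw [Nat.card_eq_fintype_card, ZMod.card_units_eq_totient, Nat.totient_prime hp]
  rw [hcard] at hg
  obtain ⟨k, hk⟩ := hdvd
  have hk0 : k ≠ 0 := by
    rintro rfl
    have := hp.one_lt
    omega
  let u : (ZMod p)ˣ := g ^ k
  have hu : orderOf u = Nat.card C := by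
    have : orderOf (g ^ k) = orderOf g / k := orderOf_pow_of_dvd hk0 (by rw [hg, hk]; exact dvd_mul_left _ _)
    rw [this, hg, hk, Nat.mul_div_cancel _ (Nat.pos_of_ne_zero hk0)]
  have e : C ≃* Subgroup.zpowers u := mulEquivOfCyclicCardEq (by rw [Nat.card_zpowers, hu])
  let f : C →* (ZMod p)ˣ := (Subgroup.zpowers u).subtype.comp e.toMonoidHom
  have hf : Function.Injective f := (Subgroup.subtype_injective _).comp e.injective
  let _ : DistribMulAction C (ZMod p) := DistribMulAction.compHom (ZMod p) f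
  have hsmul : ∀ (c : C) (x : ZMod p), c • x = ((f c : (ZMod p)ˣ) : ZMod p) * x := fun c x => rfl
  apply Cfsg.Agent.Lib.Helper71.exists_frobenius_of_free_distribMulAction (H := C) (V := ZMod p)
  intro c x hcx
  rw [hsmul] at hcx
  have h0 : (((f c : (ZMod p)ˣ) : ZMod p) - 1) * x = 0 := by rw [sub_mul, hcx, one_mul, sub_self]
  rcases mul_eq_zero.mp h0 with h1 | h1
  · left
    apply hf
    rw [map_one]
    ext
    rw [Units.val_one]
    exact sub_eq_zero.mp h1
  · exact Or.inr h1

end Cfsg.Agent.S4299
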