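import Cfsg.Statements.S4300

set_option autoImplicit false
open Cfsg

namespace Cfsg.Agent.S4300

/-- Let G act faithfully and primitively on a set X, and suppose the stabilizer of some point is a simple group. Then either G is simple, or G has a normal subgroup, neither trivial nor the whole group, that acts regularly on X (transitively with trivial point stabilizers). -/
theorem result {G : Type*} [Group G] {X : Type*} [MulAction G X] [FaithfulSMul G X]
    (hprim : MulAction.IsPreprimitive G X) (x : X) (hsimple : IsSimpleGroup (MulAction.stabilizer G x)) :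
    IsSimpleGroup G ∨ ∃ N : Subgroup G, N.Normal ∧ N ≠ ⊥ ∧ N ≠ ⊤ ∧
      MulAction.IsPretransitive N X ∧ ∀ y : X, MulAction.stabilizer N y = ⊥ := by
  by_cases hs : IsSimpleGroup G
  · exact Or.inl hs
  right
  have hnt : Nontrivial G := by
    obtain ⟨a, b, hab⟩ := hsimple.toNontrivial
    exact ⟨⟨a.1, b.1, fun h => hab (Subtype.ext h)⟩⟩
  have : ∃ N : Subgroup G, N.Normal ∧ N ≠ ⊥ ∧ N ≠ ⊤ := by
    by_contra hcon
    push Not at hcon
    apply hs
    refine ⟨fun N hN => ?_⟩
    by_cases h : N = ⊥
    · exact Or.inl h
    · exact Or.inr (hcon N hN h)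
  obtain ⟨N, hN, hNbot, hNtop⟩ := this
  refine ⟨N, hN, hNbot, hNtop, ?_⟩
  have htrans : MulAction.IsPretransitive N X := by
    apply MulAction.IsQuasiPreprimitive.isPretransitive_of_normal (G := G)
    intro hfix
    apply hNbot
    rw [Subgroup.eq_bot_iff_forall]
    intro n hn
    apply FaithfulSMul.eq_of_smul_eq_smul (α := X)
    intro y
    have : y ∈ MulAction.fixedPoints N X := by rw [hfix]; trivial
    have := this ⟨n, hn⟩
    simpa using this
  refine ⟨htrans, ?_⟩
  -- N ⊓ stabilizer = ⊥
  have hK : (N.subgroupOf (MulAction.stabilizer G x)).Normal := inferInstance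
  have hcase := hsimple.eq_bot_or_eq_top_of_normal _ hK
  have hGtrans : MulAction.IsPretransitive G X := hprim.toIsPretransitive
  rcases hcase with hbot | htop
  · intro y
    obtain ⟨g, rfl⟩ := MulAction.exists_smul_eq G x y
    rw [Subgroup.eq_bot_iff_forall]
    rintro ⟨n, hn⟩ hmem
    rw [MulAction.mem_stabilizer_iff] at hmem
    have hmem' : n • g • x = g • x := hmem
    have h1 : g⁻¹ * n * g ∈ MulAction.stabilizer G x := by
      rw [MulAction.mem_stabilizer_iff, mul_smul, mul_smul, hmem', inv_smul_smul]
    have h2 : g⁻¹ * n * g ∈ N := by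
      have := hN.conj_mem n hn g⁻¹
      simpa using this
    have h3 : (⟨g⁻¹ * n * g, h1⟩ : MulAction.stabilizer G x) ∈ N.subgroupOf (MulAction.stabilizer G x) := by
      rw [Subgroup.mem_subgroupOf]; exact h2
    rw [hbot, Subgroup.mem_bot] at h3
    have h4 : g⁻¹ * n * g = 1 := congrArg Subtype.val h3
    have h5 : n = 1 := by
      have : n = g * (g⁻¹ * n * g) * g⁻¹ := by group
      rw [this, h4]; group
    exact Subtype.ext h5
  · exfalso
    apply hNtop
    rw [Subgroup.subgroupOf_eq_top] at htop
    rw [eq_top_iff]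
    intro g _
    obtain ⟨n, hn⟩ := MulAction.exists_smul_eq N x (g • x)
    have h1 : (n : G)⁻¹ * g ∈ MulAction.stabilizer G x := by
      rw [MulAction.mem_stabilizer_iff, mul_smul]
      have : (n : G) • x = g • x := hn
      rw [← this, inv_smul_smul]
    have h2 := htop h1
    have : g = (n : G) * ((n : G)⁻¹ * g) := by group
    rw [this]
    exact N.mul_mem n.2 h2

end Cfsg.Agent.S4300
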