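import Cfsg.Statements.S4301

set_option autoImplicit false
open Cfsg

namespace Cfsg.Agent.S4301

/-- An embedding `Fin k ↪ X` with two prescribed initial values. -/
theorem exists_emb2 {X : Type*} {k : ℕ} (hk : 2 ≤ k) (e : Fin k ↪ X) (p q : X) (hpq : p ≠ q) :
    ∃ a : Fin k ↪ X, a ⟨0, by omega⟩ = p ∧ a ⟨1, by omega⟩ = q := by
  classical
  set i0 : Fin k := ⟨0, by omega⟩
  set i1 : Fin k := ⟨1, by omega⟩
  have h01 : e i0 ≠ e i1 := fun h => by
    have := e.injective h
    simp [i0, i1, Fin.ext_iff] at this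
  set σ₁ : Equiv.Perm X := Equiv.swap (e i0) p
  set r := σ₁ (e i1)
  have hr : r ≠ p := by
    intro h
    have h' : σ₁ (e i1) = σ₁ (e i0) := by
      rw [show σ₁ (e i0) = p from Equiv.swap_apply_left _ _]; exact h
    exact h01 (σ₁.injective h').symm
  set σ₂ : Equiv.Perm X := Equiv.swap r q
  have h2p : σ₂ p = p := Equiv.swap_apply_of_ne_of_ne (Ne.symm hr) hpq
  refine ⟨e.trans (σ₁.trans σ₂).toEmbedding, ?_, ?_⟩
  · change σ₂ (σ₁ (e i0)) = p
    rw [show σ₁ (e i0) = p from Equiv.swap_apply_left _ _, h2p]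
  · change σ₂ (σ₁ (e i1)) = q
    exact Equiv.swap_apply_left _ _

/-- One-point extension of a multiply transitive group. Let X be a set and G a group of permutations of Option X (the set X with one extra point ∗ = none) all of whose elements fix ∗, such that G is k-transitive on the points of X for some k ≥ 2, X having at least k points. Suppose a permutation h of Option X and an element g of G satisfy: h interchanges ∗ with a point x of X and fixes a point y of X; g interchanges x and y; (g h)³ and h² lie in G; and for every f in G fixing x, the product h f h lies in G and fixes x. Then an element of the group generated by G and h fixes ∗ exactly when it lies in G, and that group acts (k+1)-transitively on Option X. -/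
theorem result {X : Type*} (G : Subgroup (Equiv.Perm (Option X))) (hfix : ∀ f ∈ G, f none = none)
    (k : ℕ) (hk : 2 ≤ k) (hkX : Nonempty (Fin k ↪ X))
    (htrans : ∀ a b : Fin k ↪ X, ∃ f ∈ G, ∀ i, f (some (a i)) = some (b i))
    (h g : Equiv.Perm (Option X)) (hg : g ∈ G) (x y : X)
    (h1 : h none = some x) (h2 : h (some x) = none) (h3 : h (some y) = some y)
    (h4 : g (some x) = some y) (h5 : g (some y) = some x)
    (h6 : (g * h) ^ 3 ∈ G) (h7 : h ^ 2 ∈ G)
    (h8 : ∀ f ∈ G, f (some x) = some x → h * f * h ∈ G ∧ (h * f * h) (some x) = some x) :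
    (∀ f ∈ Subgroup.closure ((G : Set (Equiv.Perm (Option X))) ∪ {h}), f none = none ↔ f ∈ G) ∧
      MulAction.IsMultiplyPretransitive (Subgroup.closure ((G : Set (Equiv.Perm (Option X))) ∪ {h})) (Option X) (k + 1) := by
  classical
  obtain ⟨e⟩ := hkX
  set Γ := Subgroup.closure ((G : Set (Equiv.Perm (Option X))) ∪ {h}) with hΓ
  have hGΓ : G ≤ Γ := fun f hf => Subgroup.subset_closure (Or.inl hf)
  have hhΓ : h ∈ Γ := Subgroup.subset_closure (Or.inr rfl)
  have hxy : x ≠ y := by
    intro hxy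
    rw [hxy, h3] at h2
    exact Option.some_ne_none _ h2
  -- elements of G map `some` to `some`
  have hsome : ∀ f ∈ G, ∀ p : X, ∃ q : X, f (some p) = some q := by
    intro f hf p
    have : f (some p) ≠ none := by
      intro hn
      have := f.injective (hn.trans (hfix f hf).symm)
      exact Option.some_ne_none _ this
    exact Option.ne_none_iff_exists'.mp this
  -- 2-transitivity
  have hT2 : ∀ p q p' q' : X, p ≠ q → p' ≠ q' →
      ∃ f ∈ G, f (some p) = some p' ∧ f (some q) = some q' := by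
    intro p q p' q' hpq hpq'
    obtain ⟨a, ha0, ha1⟩ := exists_emb2 hk e p q hpq
    obtain ⟨b, hb0, hb1⟩ := exists_emb2 hk e p' q' hpq'
    obtain ⟨f, hf, hfab⟩ := htrans a b
    refine ⟨f, hf, ?_, ?_⟩
    · have := hfab ⟨0, by omega⟩
      rwa [ha0, hb0] at this
    · have := hfab ⟨1, by omega⟩
      rwa [ha1, hb1] at this
  have hT1 : ∀ p p' : X, ∃ f ∈ G, f (some p) = some p' := by
    intro p p'
    have hex : ∀ p : X, ∃ q : X, p ≠ q := by
      intro p
      by_cases hp : p = x
      · exact ⟨y, by rw [hp]; exact hxy⟩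
      · exact ⟨x, hp⟩
    obtain ⟨q, hq⟩ := hex p
    obtain ⟨q', hq'⟩ := hex p'
    obtain ⟨f, hf, hf1, -⟩ := hT2 p q p' q' hq hq'
    exact ⟨f, hf, hf1⟩
  -- the double coset set
  let S : Set (Equiv.Perm (Option X)) := {f | f ∈ G ∨ ∃ a ∈ G, ∃ b ∈ G, f = a * h * b}
  have hSG_left : ∀ a ∈ G, ∀ f ∈ S, a * f ∈ S := by
    rintro a ha f (hf | ⟨b, hb, c, hc, rfl⟩)
    · exact Or.inl (G.mul_mem ha hf)
    · exact Or.inr ⟨a * b, G.mul_mem ha hb, c, hc, by group⟩
  have hSG_right : ∀ a ∈ G, ∀ f ∈ S, f * a ∈ S := by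
    rintro a ha f (hf | ⟨b, hb, c, hc, rfl⟩)
    · exact Or.inl (G.mul_mem hf ha)
    · exact Or.inr ⟨b, hb, c * a, G.mul_mem hc ha, by group⟩
  have hh2inv : (h ^ 2)⁻¹ ∈ G := G.inv_mem h7
  -- key: h⁻¹ g h⁻¹ ∈ G h G
  have hkey0 : ∃ A ∈ G, ∃ B ∈ G, h⁻¹ * g * h⁻¹ = A * h * B := by
    have e3 : (g * h) ^ 3 = g * h * (g * h) * (g * h) := by
      rw [pow_succ, pow_succ, pow_one]
    refine ⟨(h ^ 2)⁻¹ * g⁻¹ * (g * h) ^ 3 * (h ^ 2)⁻¹,
      G.mul_mem (G.mul_mem (G.mul_mem hh2inv (G.inv_mem hg)) h6) hh2inv,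
      g⁻¹ * (h ^ 2)⁻¹, G.mul_mem (G.inv_mem hg) hh2inv, ?_⟩
    rw [e3]
    group
  -- key lemma
  have hkey : ∀ a ∈ G, h * a * h ∈ S := by
    intro a ha
    by_cases hax : a (some x) = some x
    · exact Or.inl (h8 a ha hax).1
    · obtain ⟨z, hz⟩ := hsome a ha x
      have hzx : x ≠ z := by
        intro hzx
        apply hax
        rw [hz, ← hzx]
      obtain ⟨a₁, ha₁, ha₁x, ha₁y⟩ := hT2 x y x z hxy hzx
      set a₂ := g⁻¹ * a₁⁻¹ * a with ha₂
      have ha₂G : a₂ ∈ G := G.mul_mem (G.mul_mem (G.inv_mem hg) (G.inv_mem ha₁)) ha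
      have ha₂x : a₂ (some x) = some x := by
        simp only [ha₂, Equiv.Perm.mul_apply, hz]
        rw [Equiv.Perm.inv_eq_iff_eq, h4, Equiv.Perm.inv_eq_iff_eq, ha₁y]
      obtain ⟨A, hA, B, hB, hAB⟩ := hkey0
      have e1 : h * a * h = (h * a₁ * h) * (h⁻¹ * g * h⁻¹) * (h * a₂ * h) := by
        rw [ha₂]; group
      rw [e1, hAB]
      refine Or.inr ⟨(h * a₁ * h) * A, G.mul_mem (h8 a₁ ha₁ ha₁x).1 hA,
        B * (h * a₂ * h), G.mul_mem hB (h8 a₂ ha₂G ha₂x).1, by group⟩
  have hhS : ∀ f ∈ S, h * f ∈ S := by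
    rintro f (hf | ⟨b, hb, c, hc, rfl⟩)
    · exact Or.inr ⟨1, G.one_mem, f, hf, by group⟩
    · have := hSG_right c hc _ (hkey b hb)
      have e : h * (b * h * c) = h * b * h * c := by group
      rw [e]; exact this
  have hΓS : ∀ f ∈ Γ, f ∈ S := by
    intro f hf
    induction hf using Subgroup.closure_induction_left with
    | one => exact Or.inl G.one_mem
    | mul_left s hs f _ ih =>
      rcases hs with hs | hs
      · exact hSG_left s hs f ih
      · rw [Set.mem_singleton_iff] at hs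
        rw [hs]; exact hhS f ih
    | inv_mul_cancel s hs f _ ih =>
      rcases hs with hs | hs
      · exact hSG_left _ (G.inv_mem hs) f ih
      · rw [Set.mem_singleton_iff] at hs
        rw [hs]
        have e : h⁻¹ * f = (h ^ 2)⁻¹ * (h * f) := by group
        rw [e]
        exact hSG_left _ hh2inv _ (hhS f ih)
  have hpart1 : ∀ f ∈ Γ, f none = none ↔ f ∈ G := by
    intro f hf
    constructor
    · intro hfn
      rcases hΓS f hf with hfG | ⟨a, ha, b, hb, rfl⟩
      · exact hfG
      · exfalso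
        simp only [Equiv.Perm.mul_apply, hfix b hb, h1] at hfn
        obtain ⟨q, hq⟩ := hsome a ha x
        rw [hq] at hfn
        exact Option.some_ne_none _ hfn
    · exact hfix f
  refine ⟨hpart1, ?_⟩
  -- (k+1)-transitivity
  have hmove : ∀ u : Fin (k + 1) ↪ Option X, ∃ γ ∈ Γ, γ (u 0) = none := by
    intro u
    cases hu : u 0 with
    | none => exact ⟨1, Γ.one_mem, rfl⟩
    | some p =>
      obtain ⟨f, hf, hfp⟩ := hT1 p x
      refine ⟨h * f, Γ.mul_mem hhΓ (hGΓ hf), ?_⟩
      rw [Equiv.Perm.mul_apply, hfp, h2]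
  have hnorm : ∀ u v : Fin (k + 1) ↪ Option X, u 0 = none → v 0 = none →
      ∃ f ∈ G, ∀ i, f (u i) = v i := by
    intro u v hu hv
    have hu' : ∀ i : Fin k, ∃ p : X, u i.succ = some p := by
      intro i
      apply Option.ne_none_iff_exists'.mp
      intro hn
      have := u.injective (hn.trans hu.symm)
      exact Fin.succ_ne_zero i this
    have hv' : ∀ i : Fin k, ∃ p : X, v i.succ = some p := by
      intro i
      apply Option.ne_none_iff_exists'.mp
      intro hn
      have := v.injective (hn.trans hv.symm)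
      exact Fin.succ_ne_zero i this
    choose a ha using hu'
    choose b hb using hv'
    have hainj : Function.Injective a := by
      intro i j hij
      have : u i.succ = u j.succ := by rw [ha, ha, hij]
      exact Fin.succ_injective _ (u.injective this)
    have hbinj : Function.Injective b := by
      intro i j hij
      have : v i.succ = v j.succ := by rw [hb, hb, hij]
      exact Fin.succ_injective _ (v.injective this)
    obtain ⟨f, hf, hfab⟩ := htrans ⟨a, hainj⟩ ⟨b, hbinj⟩
    refine ⟨f, hf, ?_⟩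
    intro i
    refine Fin.cases ?_ (fun j => ?_) i
    · rw [hu, hv]; exact hfix f hf
    · rw [ha, hb]; exact hfab j
  rw [MulAction.IsMultiplyPretransitive]
  constructor
  intro u v
  obtain ⟨γ₁, hγ₁, hγ₁u⟩ := hmove u
  obtain ⟨γ₂, hγ₂, hγ₂v⟩ := hmove v
  let u' : Fin (k + 1) ↪ Option X := u.trans γ₁.toEmbedding
  let v' : Fin (k + 1) ↪ Option X := v.trans γ₂.toEmbedding
  obtain ⟨f, hf, hfuv⟩ := hnorm u' v' hγ₁u hγ₂v
  refine ⟨⟨γ₂⁻¹ * f * γ₁, Γ.mul_mem (Γ.mul_mem (Γ.inv_mem hγ₂) (hGΓ hf)) hγ₁⟩, ?_⟩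
  ext i : 1
  rw [Function.Embedding.smul_apply]
  change (γ₂⁻¹ * f * γ₁) (u i) = v i
  have := hfuv i
  change f (γ₁ (u i)) = γ₂ (v i) at this
  rw [Equiv.Perm.mul_apply, Equiv.Perm.mul_apply, this]
  simp

end Cfsg.Agent.S4301
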