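import Cfsg.Statements.S4302
import Cfsg.Agent.Lib.Helper33.S4302A
import Cfsg.Agent.Lib.Helper33.S4302B
import Cfsg.Agent.Lib.Helper53.SolvPSolv

set_option autoImplicit false
open Cfsg

namespace Cfsg.Agent.S4302

/-- Let `X` be a finite solvable group whose Fitting subgroup is a 2-group (equivalently `F(X) = O₂(X)`), `T` a Sylow 2-subgroup of `X`, `J(T)` the subgroup generated by the abelian subgroups of `T` of largest order, `C` the largest normal subgroup of `X` centralizing the centre `Z(T)`, and `Y` the normal closure of `J(T)` in `X`. Then `X = C · Y · N_X(J(T))`, and either `Y ≤ C`, or `CY/C` is isomorphic to a direct product of at least one copy of the symmetric group of degree 3. -/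
theorem result {X : Type*} [Group X] [Finite X]
    [Group.IsSolvable X] (hF : Cfsg.fittingSubgroup X = Cfsg.pCore 2 X) (T : Sylow 2 X) :
    ((Subgroup.centralizer (((T : Subgroup X) ⊓ Subgroup.centralizer ((T : Subgroup X) : Set X) : Subgroup X) : Set X)).normalCore
        ⊔ Subgroup.normalClosure (Cfsg.thompsonSubgroupAOf (T : Subgroup X) : Set X)
        ⊔ Subgroup.normalizer (Cfsg.thompsonSubgroupAOf (T : Subgroup X) : Set X) = ⊤) ∧
    (Subgroup.normalClosure (Cfsg.thompsonSubgroupAOf (T : Subgroup X) : Set X)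
        ≤ (Subgroup.centralizer (((T : Subgroup X) ⊓ Subgroup.centralizer ((T : Subgroup X) : Set X) : Subgroup X) : Set X)).normalCore
      ∨ ∃ n : ℕ, 1 ≤ n ∧
        Nonempty (↥(Subgroup.normalClosure (Cfsg.thompsonSubgroupAOf (T : Subgroup X) : Set X)) ⧸
            ((Subgroup.centralizer (((T : Subgroup X) ⊓ Subgroup.centralizer ((T : Subgroup X) : Set X) : Subgroup X) : Set X)).normalCore).subgroupOf
              (Subgroup.normalClosure (Cfsg.thompsonSubgroupAOf (T : Subgroup X) : Set X))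
          ≃* (Fin n → Equiv.Perm (Fin 3)))) := by
  classical
  have hVc := Cfsg.Agent.Lib.Helper33.FFW.vT_comm hF T
  have hV2 := Cfsg.Agent.Lib.Helper33.FFW.vT_isPGroup hF T
  have hVT := Cfsg.Agent.Lib.Helper33.FFW.vT_le_T hF T
  have hOV := Cfsg.Agent.Lib.Helper33.FFW.pCore_quot_vT T
  refine ⟨?_, ?_⟩
  · have h := Cfsg.Agent.Lib.Helper33.FFW.normalClosure_sup_normalizer_thompsonAOf T
    rw [eq_top_iff, ← h]
    exact sup_le (le_sup_of_le_left le_sup_right) le_sup_right
  · have hCeq1 := Cfsg.Agent.Lib.Helper33.FFW.normalCore_centralizer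
      ((T : Subgroup X) ⊓ Subgroup.centralizer ((T : Subgroup X) : Set X))
    have hCW := Cfsg.Agent.Lib.Helper33.FFW.centralizer_omTwo_eq hVc hV2 hOV
    have hOW := Cfsg.Agent.Lib.Helper33.FFW.pCore_quot_eq_bot_of_eq hCW.symm hOV
    have hWV := Cfsg.Agent.Lib.Helper33.FFW.omTwo_le _ hVc
    have hWc : ∀ x ∈ Cfsg.Agent.Lib.Helper33.FFW.omTwo _ hVc,
        ∀ y ∈ Cfsg.Agent.Lib.Helper33.FFW.omTwo _ hVc, x * y = y * x :=
      fun x hx y hy => hVc x (hWV hx) y (hWV hy)
    have hstruct := Cfsg.Agent.Lib.Helper33.FFW.map_holπ_structure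
      (Cfsg.Agent.Lib.Helper33.FFW.omTwo _ hVc)
      (Cfsg.Agent.Lib.Helper33.FFW.omTwo_elemAb _ hVc)
      (Cfsg.Agent.Lib.Helper53.isPSolvable_of_isSolvable 2 inferInstance) hOW
      (Subgroup.normalClosure (Cfsg.thompsonSubgroupAOf (T : Subgroup X) : Set X))
      (Cfsg.Agent.Lib.Helper51.maxAbIn (T : Subgroup X))
      (fun A hA => (Cfsg.Agent.Lib.Helper51.le_thompsonAOf hA).trans Subgroup.le_normalClosure)
      (fun K₀ hK₀ h => by
        have := hK₀
        apply Subgroup.normalClosure_le_normal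
        rw [Cfsg.Agent.Lib.Helper51.thompsonAOf_eq_sSup]
        exact sSup_le h)
      (fun A hA => T.isPGroup'.to_le hA.1)
      (fun A hA => (Cfsg.Agent.Lib.Helper51.isMulComm_iff A).mp hA.2.1)
      (fun A hA => Cfsg.Agent.Lib.Helper33.FFW.isWBO_of_maxAbIn (hWV.trans hVT) hWc hA)
    rcases hstruct with h | ⟨n, hn, ⟨e⟩⟩
    · left
      rw [hCeq1, ← hCW]
      exact h
    · right
      refine ⟨n, hn, ?_⟩
      obtain ⟨e'⟩ := Cfsg.Agent.Lib.Helper33.FFW.quot_equiv_map_holπ
        (Cfsg.Agent.Lib.Helper33.FFW.omTwo _ hVc)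
        (Subgroup.normalClosure (Cfsg.thompsonSubgroupAOf (T : Subgroup X) : Set X))
        ((Subgroup.centralizer (((T : Subgroup X) ⊓ Subgroup.centralizer ((T : Subgroup X) : Set X) : Subgroup X) : Set X)).normalCore)
        (hCeq1.trans hCW.symm)
      exact ⟨e'.trans e⟩

end Cfsg.Agent.S4302
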