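import Cfsg.Statements.S4341
import Cfsg.Agent.Lib.Helper72.SylowProd

set_option autoImplicit false
open Cfsg

namespace Cfsg.Agent.S4341

open Cfsg.Agent.Lib.Helper72

theorem result {G : Type*} [Group G] [Finite G]
    (p : ℕ) [Fact p.Prime] (K : Subgroup G) [K.Normal] (P : Sylow p G) (N : Subgroup G)
    (hN : N = ((P : Subgroup G) ⊔ K) ⊓ Subgroup.normalizer (((P : Subgroup G) ⊓ K : Subgroup G) : Set G))
    [hn : (((P : Subgroup G) ⊓ K).subgroupOf N).Normal] :
    Nat.card (Sylow p G) =
      Nat.card (Sylow p (G ⧸ K)) * Nat.card (Sylow p K) * Nat.card (Sylow p (N ⧸ ((P : Subgroup G) ⊓ K).subgroupOf N)) := by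
  set NP := Subgroup.normalizer ((P : Subgroup G) : Set G) with hNP
  set NQ := Subgroup.normalizer (((P : Subgroup G) ⊓ K : Subgroup G) : Set G) with hNQ
  have hPNP : (P : Subgroup G) ≤ NP := Subgroup.le_normalizer
  have hNPNQ : NP ≤ NQ := by
    have h := Subgroup.inf_normalizer_le_normalizer_inf (H := (P : Subgroup G)) (K := K)
    rw [Subgroup.normalizer_eq_top (H := K), inf_top_eq] at h
    exact h
  have hPNQ : (P : Subgroup G) ≤ NQ := hPNP.trans hNPNQ
  have hPN : (P : Subgroup G) ≤ N := by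
    rw [hN]; exact le_inf le_sup_left hPNQ
  have hNPK : N ≤ (P : Subgroup G) ⊔ K := by rw [hN]; exact inf_le_left
  have hNNQ : N ≤ NQ := by rw [hN]; exact inf_le_right
  -- lattice identities
  have h_i : (N ⊓ NP) ⊔ K = (P : Subgroup G) ⊔ K := by
    apply le_antisymm
    · exact sup_le (inf_le_left.trans hNPK) le_sup_right
    · exact sup_le_sup_right (le_inf hPN hPNP) K
  have h_iv : N ⊓ K = NQ ⊓ K := by
    apply le_antisymm
    · exact inf_le_inf_right K hNNQ
    · rw [hN]
      exact le_inf (le_inf (inf_le_right.trans le_sup_right) inf_le_left) inf_le_right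
  have h_ii : (N ⊓ NP) ⊓ K = NP ⊓ K := by
    apply le_antisymm
    · exact inf_le_inf_right K inf_le_right
    · have h1 : NP ⊓ K ≤ N ⊓ K := by
        rw [h_iv]; exact inf_le_inf_right K hNPNQ
      exact le_inf (le_inf (h1.trans inf_le_left) inf_le_left) inf_le_right
  have h_iii : N ⊔ K = (P : Subgroup G) ⊔ K := by
    apply le_antisymm
    · exact sup_le hNPK le_sup_right
    · exact sup_le_sup_right hPN K
  -- A, B
  have hA := card_sylow_eq_card_sylow_quotient_mul_relIndex K P
  have hB := card_sylow_normal_eq_relIndex K P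
  -- C
  have hC : Nat.card (Sylow p (N ⧸ ((P : Subgroup G) ⊓ K).subgroupOf N)) = NP.relIndex N := by
    rw [card_sylow_quotient (((P : Subgroup G) ⊓ K).subgroupOf N) (P.subtype hPN)]
    rw [Sylow.coe_subtype]
    have hsup : (P : Subgroup G).subgroupOf N ⊔ ((P : Subgroup G) ⊓ K).subgroupOf N =
        (P : Subgroup G).subgroupOf N :=
      sup_eq_left.mpr (Subgroup.comap_mono inf_le_left)
    rw [hsup, ← Subgroup.subgroupOf_normalizer_eq hPN]
    rfl
  -- D
  have hD : NP.relIndex K = NQ.relIndex K * NP.relIndex N := by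
    have h1 := relIndex_sup_eq_relIndex (N ⊓ NP) K
    rw [h_i] at h1
    have h2 : (N ⊓ NP).relIndex K = NP.relIndex K := by
      rw [← Subgroup.inf_relIndex_right, h_ii, Subgroup.inf_relIndex_right]
    rw [h2] at h1
    have h3 := Subgroup.relIndex_mul_relIndex (N ⊓ NP) N ((P : Subgroup G) ⊔ K) inf_le_left hNPK
    rw [Subgroup.inf_relIndex_left] at h3
    have h4 : N.relIndex ((P : Subgroup G) ⊔ K) = NQ.relIndex K := by
      rw [← h_iii, relIndex_sup_eq_relIndex, ← Subgroup.inf_relIndex_right, h_iv,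
        Subgroup.inf_relIndex_right]
    rw [h4] at h3
    rw [← h1, ← h3, mul_comm]
  rw [hA, hB, hC]
  have hNP' : Subgroup.normalizer (P : Set G) = NP := by rw [hNP, P.coe_coe]
  rw [hNP', hD, mul_assoc]

end Cfsg.Agent.S4341
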