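import Cfsg.Statements.S4303
import Mathlib
import Cfsg.Agent.S4341
import Cfsg.Agent.Lib.Helper24.SylowInv
import Cfsg.Agent.Lib.Helper72.SylowProd

set_option autoImplicit false
universe u
open Cfsg

namespace Cfsg.Agent.S4303

open Cfsg.Agent.Lib.Helper72 Cfsg.Agent.Lib.Helper24

/-- `n` is a product of prime powers `≡ 1 (mod p)` and Sylow `p`-numbers of simple groups. -/
def Good (p : ℕ) (n : ℕ) : Prop :=
  ∃ l : List ℕ, l.prod = n ∧
    ∀ m ∈ l, (IsPrimePow m ∧ m % p = 1) ∨
      ∃ (S : Type u) (_ : Group S) (_ : Finite S), IsSimpleGroup S ∧ m = Nat.card (Sylow p S)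

theorem good_one (p : ℕ) : Good.{u} p 1 := ⟨[], rfl, by simp⟩

theorem good_mul {p a b : ℕ} (ha : Good.{u} p a) (hb : Good.{u} p b) : Good.{u} p (a * b) := by
  obtain ⟨la, hla, hma⟩ := ha
  obtain ⟨lb, hlb, hmb⟩ := hb
  refine ⟨la ++ lb, by rw [List.prod_append, hla, hlb], ?_⟩
  intro m hm
  rcases List.mem_append.mp hm with h | h
  · exact hma m h
  · exact hmb m h

theorem good_simple (p : ℕ) (S : Type u) [Group S] [Finite S] [IsSimpleGroup S] :
    Good.{u} p (Nat.card (Sylow p S)) :=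
  ⟨[Nat.card (Sylow p S)], by simp, by
    intro m hm
    rw [List.mem_singleton] at hm
    exact Or.inr ⟨S, inferInstance, inferInstance, inferInstance, hm⟩⟩

/-- A number all of whose prime-power parts are `≡ 1 (mod p)` is good. -/
theorem good_of_parts {p : ℕ} (hp : 2 ≤ p) {r : ℕ} (hr : r ≠ 0)
    (h : ∀ q : ℕ, q.Prime → q ^ r.factorization q ≡ 1 [MOD p]) : Good.{u} p r := by
  refine ⟨r.primeFactors.toList.map (fun q => q ^ r.factorization q), ?_, ?_⟩
  · rw [Finset.prod_map_toList]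
    have := Nat.prod_factorization_pow_eq_self hr
    rw [Finsupp.prod, Nat.support_factorization] at this
    exact this
  · intro m hm
    rw [List.mem_map] at hm
    obtain ⟨q, hq, rfl⟩ := hm
    rw [Finset.mem_toList] at hq
    have hqp : q.Prime := Nat.prime_of_mem_primeFactors hq
    left
    refine ⟨?_, ?_⟩
    · refine ⟨q, r.factorization q, hqp.prime, ?_, rfl⟩
      exact Nat.pos_of_ne_zero (fun h0 => by
        have := (Nat.factorization_eq_zero_iff _ _).mp h0
        rcases this with h1 | h1 | h1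
        · exact h1 hqp
        · exact h1 (Nat.dvd_of_mem_primeFactors hq)
        · exact hr h1)
    · have := h q hqp
      rw [Nat.ModEq] at this
      rw [this]
      exact Nat.mod_eq_of_lt hp

/-- A finite `p`-group has exactly one Sylow `p`-subgroup. -/
theorem card_sylow_of_isPGroup {Y : Type*} [Group Y] [Finite Y] {p : ℕ} [Fact p.Prime]
    (hY : IsPGroup p Y) : Nat.card (Sylow p Y) = 1 := by
  obtain ⟨S⟩ : Nonempty (Sylow p Y) := inferInstance
  have hS : (⊤ : Subgroup Y) = S := S.3 (hY.to_subgroup ⊤) le_top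
  have h1 := Sylow.card_dvd_index S
  rw [← hS, Subgroup.index_top] at h1
  exact Nat.dvd_one.mp h1

/-- Coprime action: the `q`-part of `|K : N_K(P)|` is `≡ 1 (mod p)` when `P ∩ K = 1`. -/
theorem relIndex_qpart {G : Type u} [Group G] [Finite G] {p : ℕ} [hp : Fact p.Prime]
    (K : Subgroup G) [hKn : K.Normal] (P : Sylow p G) (hPK : (P : Subgroup G) ⊓ K = ⊥)
    (q : ℕ) (hq : q.Prime) :
    q ^ ((Subgroup.normalizer ((P : Subgroup G) : Set G)).relIndex K).factorization q ≡ 1
      [MOD p] := by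
  have : Fact q.Prime := ⟨hq⟩
  obtain ⟨NP, hNP⟩ : ∃ NP : Subgroup G, NP = Subgroup.normalizer ((P : Subgroup G) : Set G) :=
    ⟨_, rfl⟩
  rw [← hNP]
  have hPNP : (P : Subgroup G) ≤ NP := by rw [hNP]; exact Subgroup.le_normalizer
  -- `K` is a `p'`-group
  have hpK : ¬ p ∣ Nat.card K := by
    have h1 := (sylowInfNormal K P).not_dvd_index
    rw [coe_sylowInfNormal, hPK, Subgroup.bot_subgroupOf, Subgroup.index_bot] at h1
    exact h1
  have hcop : (Nat.card (P : Subgroup G)).Coprime (Nat.card K) := by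
    obtain ⟨k, hk⟩ := IsPGroup.iff_card.mp P.2
    rw [hk]
    exact Nat.Coprime.pow_left k ((Nat.Prime.coprime_iff_not_dvd hp.out).mpr hpK)
  have hnil : Group.IsNilpotent (P : Subgroup G) := P.2.isNilpotent
  have hsolv : Group.IsSolvable (P : Subgroup G) := inferInstance
  have hPnK : (P : Subgroup G) ≤ Subgroup.normalizer (K : Set G) := by
    rw [Subgroup.normalizer_eq_top_iff.mpr hKn]; exact le_top
  -- Sylow `q`-subgroup of `C = K ⊓ NP`
  obtain ⟨Q₀⟩ : Nonempty (Sylow q ↥(K ⊓ NP)) := inferInstance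
  obtain ⟨U, hU⟩ : ∃ U : Subgroup G, U = (Q₀ : Subgroup ↥(K ⊓ NP)).map (K ⊓ NP).subtype :=
    ⟨_, rfl⟩
  have hUC : U ≤ K ⊓ NP := by rw [hU]; exact Subgroup.map_subtype_le _
  have hUK : U ≤ K := hUC.trans inf_le_left
  have hUq : IsPGroup q U := by rw [hU]; exact Q₀.2.map _
  -- `P` centralizes `U`
  have hcent : ∀ y ∈ (P : Subgroup G), ∀ x ∈ U, y * x * y⁻¹ = x := by
    intro y hy x hx
    have hxK : x ∈ K := hUK hx
    have hxN : x ∈ NP := (hUC hx).2
    have h1 : y * x * y⁻¹ * x⁻¹ ∈ K := K.mul_mem (hKn.conj_mem x hxK y) (K.inv_mem hxK)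
    have h2 : y * x * y⁻¹ * x⁻¹ ∈ (P : Subgroup G) := by
      have h3 : x * y⁻¹ * x⁻¹ ∈ (P : Subgroup G) := by
        rw [hNP] at hxN
        exact (Subgroup.mem_normalizer_iff.mp hxN y⁻¹).mp (Subgroup.inv_mem _ hy)
      have e : y * x * y⁻¹ * x⁻¹ = y * (x * y⁻¹ * x⁻¹) := by group
      rw [e]
      exact Subgroup.mul_mem _ hy h3
    have h4 : y * x * y⁻¹ * x⁻¹ ∈ (P : Subgroup G) ⊓ K := ⟨h2, h1⟩
    rw [hPK, Subgroup.mem_bot] at h4
    calc y * x * y⁻¹ = (y * x * y⁻¹ * x⁻¹) * x := by group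
      _ = x := by rw [h4, one_mul]
  have hUA : (P : Subgroup G) ≤ Subgroup.normalizer (U : Set G) := by
    intro y hy
    rw [Subgroup.mem_normalizer_iff]
    intro h
    constructor
    · intro hh
      rw [hcent y hy h hh]; exact hh
    · intro hh
      have h1 := hcent y⁻¹ (Subgroup.inv_mem _ hy) _ hh
      have e : y⁻¹ * (y * h * y⁻¹) * y⁻¹⁻¹ = h := by group
      rw [e] at h1
      rw [h1]; exact hh
  obtain ⟨Q, hUQ, hPQ⟩ := invariant_pSubgroup_le_sylow (p := q) (P : Subgroup G) K hPnK hcop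
    (Or.inl hsolv) U hUK hUq hUA
  obtain ⟨Qg, hQg⟩ : ∃ Qg : Subgroup G, Qg = (Q : Subgroup K).map K.subtype := ⟨_, rfl⟩
  rw [← hQg] at hUQ hPQ
  have hQgK : Qg ≤ K := by rw [hQg]; exact Subgroup.map_subtype_le _
  have hQgq : IsPGroup q Qg := by rw [hQg]; exact Q.2.map _
  -- cardinalities
  have hcardQg : Nat.card Qg = q ^ (Nat.card K).factorization q := by
    rw [hQg, Subgroup.card_map_of_injective K.subtype_injective, Sylow.card_eq_multiplicity]
  have hcardU : Nat.card U = q ^ (Nat.card ↥(K ⊓ NP)).factorization q := by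
    rw [hU, Subgroup.card_map_of_injective (K ⊓ NP).subtype_injective, Sylow.card_eq_multiplicity]
  -- `NP ⊓ Qg = U`
  have hinf : NP ⊓ Qg = U := by
    apply le_antisymm
    · have hle : NP ⊓ Qg ≤ K ⊓ NP := le_inf (inf_le_right.trans hQgK) inf_le_left
      have hq1 : IsPGroup q ((NP ⊓ Qg).subgroupOf (K ⊓ NP)) :=
        (hQgq.to_le inf_le_right).comap_subtype
      have hle2 : (Q₀ : Subgroup ↥(K ⊓ NP)) ≤ (NP ⊓ Qg).subgroupOf (K ⊓ NP) := by
        intro x hx
        rw [Subgroup.mem_subgroupOf]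
        have hxU : (x : G) ∈ U := by rw [hU]; exact Subgroup.mem_map_of_mem _ hx
        exact ⟨(hUC hxU).2, hUQ hxU⟩
      have heq := Q₀.3 hq1 hle2
      intro x hx
      have hx' : (⟨x, hle hx⟩ : ↥(K ⊓ NP)) ∈ (NP ⊓ Qg).subgroupOf (K ⊓ NP) :=
        Subgroup.mem_subgroupOf.mpr hx
      rw [heq] at hx'
      rw [hU]
      exact ⟨_, hx', rfl⟩
    · exact le_inf (hUC.trans inf_le_right) hUQ
  -- relIndex computations
  have h1 := relIndex_mul_card_inf NP Qg
  rw [hinf, hcardQg, hcardU] at h1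
  have h2 := relIndex_mul_card_inf NP K
  rw [inf_comm] at h2
  have hr0 : NP.relIndex K ≠ 0 := by
    intro h
    rw [h, zero_mul] at h2
    exact Nat.card_pos.ne' h2.symm
  have hC0 : Nat.card ↥(K ⊓ NP) ≠ 0 := Nat.card_pos.ne'
  have h3 : (NP.relIndex K).factorization q + (Nat.card ↥(K ⊓ NP)).factorization q =
      (Nat.card K).factorization q := by
    rw [← h2, Nat.factorization_mul hr0 hC0]; rfl
  have h4 : NP.relIndex Qg = q ^ (NP.relIndex K).factorization q := by
    rw [← h3, pow_add] at h1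
    exact Nat.eq_of_mul_eq_mul_right (pow_pos hq.pos _) h1
  rw [← h4]
  -- `NP.relIndex Qg ≡ 1 (mod p)` via the group `X = P Qg`
  obtain ⟨X, hX⟩ : ∃ X : Subgroup G, X = (P : Subgroup G) ⊔ Qg := ⟨_, rfl⟩
  have hPX : (P : Subgroup G) ≤ X := by rw [hX]; exact le_sup_left
  have hQX : Qg ≤ X := by rw [hX]; exact le_sup_right
  have hXn : X ≤ Subgroup.normalizer (Qg : Set G) := by
    rw [hX]; exact sup_le hPQ Subgroup.le_normalizer
  have hQXn : (Qg.subgroupOf X).Normal := (Subgroup.normal_subgroupOf_iff_le_normalizer hQX).mpr hXn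
  have key := card_sylow_eq_card_sylow_quotient_mul_relIndex (Qg.subgroupOf X) (P.subtype hPX)
  -- the quotient is a `p`-group
  have hquot : IsPGroup p (↥X ⧸ Qg.subgroupOf X) := by
    have htop : ((P : Subgroup G).subgroupOf X).map (QuotientGroup.mk' (Qg.subgroupOf X)) = ⊤ := by
      have h5 : (P : Subgroup G).subgroupOf X ⊔ Qg.subgroupOf X = ⊤ := by
        rw [← Subgroup.subgroupOf_sup hPX hQX, ← hX, Subgroup.subgroupOf_self]
      have h6 := congrArg (Subgroup.map (QuotientGroup.mk' (Qg.subgroupOf X))) h5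
      rw [Subgroup.map_sup, QuotientGroup.map_mk'_self, sup_bot_eq, ← MonoidHom.range_eq_map,
        MonoidHom.range_eq_top.mpr (QuotientGroup.mk'_surjective _)] at h6
      exact h6
    have h7 : IsPGroup p ((P : Subgroup G).subgroupOf X) := P.2.comap_subtype
    have h8 := h7.map (QuotientGroup.mk' (Qg.subgroupOf X))
    rw [htop] at h8
    exact IsPGroup.of_equiv h8 Subgroup.topEquiv
  rw [card_sylow_of_isPGroup hquot, one_mul, ← Sylow.coe_coe, Sylow.coe_subtype,
    ← Subgroup.subgroupOf_normalizer_eq hPX, Subgroup.relIndex_subgroupOf hQX, ← hNP] at key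
  rw [← key]
  exact card_sylow_modEq_one p ↥X

theorem main (p : ℕ) [hp : Fact p.Prime] : ∀ n : ℕ, ∀ (G : Type u) [Group G] [Finite G],
    Nat.card G = n → Good.{u} p (Nat.card (Sylow p G)) := by
  intro n
  induction n using Nat.strong_induction_on with
  | _ n ih =>
  intro G _ _ hn
  by_cases hsimple : IsSimpleGroup G
  · exact good_simple p G
  by_cases hnt : Nontrivial G
  swap
  · have hsub : Subsingleton G := not_nontrivial_iff_subsingleton.mp hnt
    have hG : IsPGroup p G := fun g => ⟨0, Subsingleton.elim _ _⟩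
    rw [card_sylow_of_isPGroup hG]
    exact good_one p
  obtain ⟨K, hKn, hKbot, hKtop⟩ : ∃ K : Subgroup G, K.Normal ∧ K ≠ ⊥ ∧ K ≠ ⊤ := by
    by_contra hcon
    push Not at hcon
    apply hsimple
    exact { toNontrivial := hnt
            eq_bot_or_eq_top_of_normal := fun K hK =>
              Classical.or_iff_not_imp_left.mpr (hcon K hK) }
  obtain ⟨P⟩ : Nonempty (Sylow p G) := inferInstance
  have hKcard_lt : Nat.card K < n := by
    rw [← hn]
    exact lt_of_le_of_ne (Subgroup.card_le_card_group K)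
      (fun h => hKtop (Subgroup.eq_top_of_card_eq K h))
  have hQcard_lt : Nat.card (G ⧸ K) < n := by
    have h1 := Subgroup.card_eq_card_quotient_mul_card_subgroup K
    have h2 : 1 < Nat.card K := (Subgroup.one_lt_card_iff_ne_bot K).mpr hKbot
    have h3 : 0 < Nat.card (G ⧸ K) := Nat.card_pos
    rw [← hn, h1]; nlinarith
  have ihK : Good.{u} p (Nat.card (Sylow p K)) := ih _ hKcard_lt K rfl
  have ihQ : Good.{u} p (Nat.card (Sylow p (G ⧸ K))) := ih _ hQcard_lt (G ⧸ K) rfl
  by_cases hPK : (P : Subgroup G) ⊓ K = ⊥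
  · have key := card_sylow_eq_card_sylow_quotient_mul_relIndex K P
    rw [key]
    refine good_mul ihQ (good_of_parts hp.out.two_le ?_
      (fun q hq => relIndex_qpart K P hPK q hq))
    intro h
    have h2 := relIndex_mul_card_inf (Subgroup.normalizer ((P : Subgroup G) : Set G)) K
    have h3 : (Subgroup.normalizer ((P : Subgroup G) : Set G)).relIndex K = 0 := h
    rw [h3, zero_mul] at h2
    exact Nat.card_pos.ne' h2.symm
  · obtain ⟨N, hN⟩ : ∃ N : Subgroup G, N = ((P : Subgroup G) ⊔ K) ⊓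
        Subgroup.normalizer (((P : Subgroup G) ⊓ K : Subgroup G) : Set G) := ⟨_, rfl⟩
    have hle : (P : Subgroup G) ⊓ K ≤ N := by
      rw [hN]; exact le_inf (inf_le_left.trans le_sup_left) Subgroup.le_normalizer
    have hn' : (((P : Subgroup G) ⊓ K).subgroupOf N).Normal :=
      (Subgroup.normal_subgroupOf_iff_le_normalizer hle).mpr (by rw [hN]; exact inf_le_right)
    have key := Cfsg.Agent.S4341.result p K P N hN
    have hlt : Nat.card (↥N ⧸ ((P : Subgroup G) ⊓ K).subgroupOf N) < n := by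
      have h1 := Subgroup.card_eq_card_quotient_mul_card_subgroup
        (((P : Subgroup G) ⊓ K).subgroupOf N)
      have h2 : 1 < Nat.card (((P : Subgroup G) ⊓ K).subgroupOf N) := by
        rw [Subgroup.one_lt_card_iff_ne_bot]
        intro h
        rw [Subgroup.subgroupOf_eq_bot] at h
        exact hPK (h.eq_bot_of_le hle)
      have h3 : Nat.card N ≤ Nat.card G := Subgroup.card_le_card_group N
      have h4 : 0 < Nat.card (↥N ⧸ ((P : Subgroup G) ⊓ K).subgroupOf N) := Nat.card_pos
      rw [← hn]; nlinarith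
    have ihN := ih _ hlt (↥N ⧸ ((P : Subgroup G) ⊓ K).subgroupOf N) rfl
    rw [key]
    exact good_mul (good_mul ihQ ihK) ihN

/-- For a finite group `G` and a prime `p`, the number of Sylow `p`-subgroups of `G` is a product of natural numbers each of which is either a prime power congruent to 1 modulo `p` or the number of Sylow `p`-subgroups of some finite simple group. -/
theorem result {G : Type u} [Group G] [Finite G]
    (p : ℕ) [Fact p.Prime] :
    ∃ l : List ℕ, l.prod = Nat.card (Sylow p G) ∧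
      ∀ m ∈ l, (IsPrimePow m ∧ m % p = 1) ∨
        ∃ (S : Type u) (_ : Group S) (_ : Finite S), IsSimpleGroup S ∧ m = Nat.card (Sylow p S) := by
  exact main p (Nat.card G) G rfl

end Cfsg.Agent.S4303
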