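import Cfsg.Statements.S4304
import Cfsg.Agent.Lib.Helper49.TwoPPlusOne

set_option autoImplicit false
open Cfsg

namespace Cfsg.Agent.S4304

open Cfsg.Agent.Lib.Helper49.TwoPPlusOne Cfsg.Agent.Lib.Helper17 Subgroup

/-- No finite group has exactly 15 Sylow 7-subgroups. -/
theorem result {G : Type*} [Group G] [Finite G] : Nat.card (Sylow 7 G) ≠ 15 := by
  intro hG
  have : Fact (Nat.Prime 7) := ⟨by norm_num⟩
  have : Fact (Nat.Prime 5) := ⟨by norm_num⟩
  have : Fact (Nat.Prime 3) := ⟨by norm_num⟩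
  obtain ⟨H, hHg, hHf, hn7, hodd, ⟨m, hm, hcard⟩, hP7, hC7⟩ :=
    exists_small 7 (by norm_num) G (by rw [hG])
  have hm13 : m = 1 ∨ m = 3 := by
    have hmodd : Odd m := by
      rw [hcard] at hodd
      exact (Nat.odd_mul.mp (Nat.odd_mul.mp hodd).2).2
    have hmle : m ∈ Nat.divisors 6 := Nat.mem_divisors.mpr ⟨hm, by norm_num⟩
    have : ∀ d ∈ Nat.divisors 6, Odd d → d = 1 ∨ d = 3 := by decide
    exact this m hmle hmodd
  obtain ⟨P⟩ : Nonempty (Sylow 7 H) := inferInstance
  have hn7' : Nat.card (Sylow 7 H) = 15 := by rw [hn7]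
  -- a normal Sylow `q`-subgroup of order not `≡ 1 mod 7` is impossible
  have hnormal : ∀ (q : ℕ) [Fact q.Prime] (Q : Sylow q H), Nat.card (Sylow q H) = 1 →
      ¬ 7 ∣ Nat.card ↥(Q : Subgroup H) → Nat.card ↥(Q : Subgroup H) % 7 ≠ 1 → False := by
    intro q _ Q h1 hnd hne
    have hPQ := le_normalizer_of_card_sylow_eq_one h1 Q (P : Subgroup H)
    exact hne (card_modEq_one_of_normalizes P (hP7 P) (hC7 P) (Q : Subgroup H) hPQ hnd)
  have c7 := card_orderOf_eq_prime (p := 7) hP7
  rcases hm13 with rfl | rfl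
  · -- order 105
    have hcard' : Nat.card H = 105 := by rw [hcard]
    have h5 : Nat.card H = 5 ^ 1 * 21 := by rw [hcard']; norm_num
    have hQcard : ∀ Q : Sylow 5 H, Nat.card ↥(Q : Subgroup H) = 5 := fun Q => by
      simpa using card_sylow_of_card_eq Q h5 (by norm_num)
    have hdvd : Nat.card (Sylow 5 H) ∣ 21 := card_sylow_dvd_of_card_eq h5 (by norm_num)
    have hmod : Nat.card (Sylow 5 H) % 5 = 1 := card_sylow_modEq_one 5 H
    have hcases : ∀ d ∈ Nat.divisors 21, d % 5 = 1 → d = 1 ∨ d = 21 := by decide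
    rcases hcases _ (Nat.mem_divisors.mpr ⟨hdvd, by norm_num⟩) hmod with h1 | h21
    · obtain ⟨Q⟩ : Nonempty (Sylow 5 H) := inferInstance
      exact hnormal 5 Q h1 (by rw [hQcard Q]; norm_num) (by rw [hQcard Q]; norm_num)
    · have c5 := card_orderOf_eq_prime (p := 5) hQcard
      have hle := card_orderOf_add_le (H := H) 5 7 (by norm_num)
      rw [c5, c7, h21, hn7', hcard'] at hle
      omega
  · -- order 315
    have hcard' : Nat.card H = 315 := by rw [hcard]
    have h5 : Nat.card H = 5 ^ 1 * 63 := by rw [hcard']; norm_num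
    have h3 : Nat.card H = 3 ^ 2 * 35 := by rw [hcard']; norm_num
    have hQcard : ∀ Q : Sylow 5 H, Nat.card ↥(Q : Subgroup H) = 5 := fun Q => by
      simpa using card_sylow_of_card_eq Q h5 (by norm_num)
    have hRcard : ∀ R : Sylow 3 H, Nat.card ↥(R : Subgroup H) = 9 := fun R => by
      have := card_sylow_of_card_eq R h3 (by norm_num)
      rw [this]; norm_num
    have hdvd5 : Nat.card (Sylow 5 H) ∣ 63 := card_sylow_dvd_of_card_eq h5 (by norm_num)
    have hmod5 : Nat.card (Sylow 5 H) % 5 = 1 := card_sylow_modEq_one 5 H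
    have hcases5 : ∀ d ∈ Nat.divisors 63, d % 5 = 1 → d = 1 ∨ d = 21 := by decide
    have hdvd3 : Nat.card (Sylow 3 H) ∣ 35 := card_sylow_dvd_of_card_eq h3 (by norm_num)
    have hmod3 : Nat.card (Sylow 3 H) % 3 = 1 := card_sylow_modEq_one 3 H
    have hcases3 : ∀ d ∈ Nat.divisors 35, d % 3 = 1 → d = 1 ∨ d = 7 := by decide
    rcases hcases5 _ (Nat.mem_divisors.mpr ⟨hdvd5, by norm_num⟩) hmod5 with h1 | h21
    · obtain ⟨Q⟩ : Nonempty (Sylow 5 H) := inferInstance
      exact hnormal 5 Q h1 (by rw [hQcard Q]; norm_num) (by rw [hQcard Q]; norm_num)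
    obtain ⟨R⟩ : Nonempty (Sylow 3 H) := inferInstance
    rcases hcases3 _ (Nat.mem_divisors.mpr ⟨hdvd3, by norm_num⟩) hmod3 with h1 | h7
    · exact hnormal 3 R h1 (by rw [hRcard R]; norm_num) (by rw [hRcard R]; norm_num)
    -- `|N(R)| = 45`
    have hNR : Nat.card ↥(normalizer ((R : Subgroup H) : Set H)) = 45 := by
      have := card_normalizer_mul_card_sylow R
      rw [h7, hcard'] at this
      omega
    obtain ⟨y, hy⟩ := exists_prime_orderOf_dvd_card' (G := ↥(normalizer ((R : Subgroup H) : Set H)))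
      5 (by rw [hNR]; norm_num)
    have hyo : orderOf (y : H) = 5 := by rw [Subgroup.orderOf_coe]; exact hy
    have hyp : IsPGroup 5 ↥(Subgroup.zpowers (y : H)) := by
      apply IsPGroup.of_card (n := 1)
      rw [Nat.card_zpowers, hyo, pow_one]
    have hmod := card_modEq_card_inf_centralizer (R : Subgroup H) (y : H) y.2 hyp
    rw [hRcard R] at hmod
    have hdvd : Nat.card ↥((R : Subgroup H) ⊓ centralizer ({(y : H)} : Set H)) ∣ 9 := by
      have := Subgroup.card_dvd_of_le
        (inf_le_left : (R : Subgroup H) ⊓ centralizer ({(y : H)} : Set H) ≤ R)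
      rwa [hRcard R] at this
    have hc9 : Nat.card ↥((R : Subgroup H) ⊓ centralizer ({(y : H)} : Set H)) = 9 := by
      have hcases : ∀ d ∈ Nat.divisors 9, 9 % 5 = d % 5 → d = 9 := by decide
      exact hcases _ (Nat.mem_divisors.mpr ⟨hdvd, by norm_num⟩) hmod
    have hRle : (R : Subgroup H) ≤ centralizer ({(y : H)} : Set H) := by
      have : (R : Subgroup H) ⊓ centralizer ({(y : H)} : Set H) = R := by
        apply Subgroup.eq_of_le_of_card_ge inf_le_left
        rw [hc9, hRcard R]
      exact inf_eq_left.mp this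
    -- the Sylow 5-subgroup containing `y`
    obtain ⟨Y, hY⟩ := hyp.exists_le_sylow
    have hYz : Subgroup.zpowers (y : H) = (Y : Subgroup H) := by
      apply Subgroup.eq_of_le_of_card_ge hY
      rw [hQcard Y, Nat.card_zpowers, hyo]
    have hNY : Nat.card ↥(normalizer ((Y : Subgroup H) : Set H)) = 15 := by
      have := card_normalizer_mul_card_sylow Y
      rw [h21, hcard'] at this
      omega
    have hRN : (R : Subgroup H) ≤ normalizer ((Y : Subgroup H) : Set H) := by
      intro x hx
      apply Subgroup.centralizer_le_normalizer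
      rw [← hYz]
      apply mem_centralizer_zpowers
      have := Subgroup.mem_centralizer_iff.mp (hRle hx) (y : H) (Set.mem_singleton _)
      exact this.symm
    have := Subgroup.card_dvd_of_le hRN
    rw [hRcard R, hNY] at this
    exact absurd this (by norm_num)

end Cfsg.Agent.S4304
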