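import Cfsg.Statements.S4314
import Cfsg.Agent.Lib.Helper55.PermPrime

set_option autoImplicit false
set_option linter.style.haveILetI false
open Cfsg

namespace Cfsg.Agent.S4314

open Cfsg.Agent.Lib.Helper55

/-- Case where all centralizers are normal: commutators are central. -/
theorem class_two_of_normal_centralizers {G : Type*} [Group G] [Finite G]
    (h : ∀ x : G, (Subgroup.centralizer ({x} : Set G)).index = 1 ∨
      ((Subgroup.centralizer ({x} : Set G)).index).Prime)
    (hall : ∀ x : G, (Subgroup.centralizer ({x} : Set G)).Normal) :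
    Subgroup.upperCentralSeries G 2 = ⊤ := by
  have hcomm : ∀ a b z : G, z * (a * b * a⁻¹ * b⁻¹) = (a * b * a⁻¹ * b⁻¹) * z := by
    intro a b z
    haveI := hall z
    have hmem : a * b * a⁻¹ * b⁻¹ ∈ Subgroup.centralizer ({z} : Set G) := by
      rcases h z with h1 | hp
      · rw [Subgroup.index_eq_one.mp h1]; trivial
      · haveI : Fact ((Subgroup.centralizer ({z} : Set G)).index).Prime := ⟨hp⟩
        have hcard : Nat.card (G ⧸ Subgroup.centralizer ({z} : Set G)) =
            (Subgroup.centralizer ({z} : Set G)).index := (Subgroup.index_eq_card _).symm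
        haveI : IsCyclic (G ⧸ Subgroup.centralizer ({z} : Set G)) := isCyclic_of_prime_card hcard
        obtain ⟨g₀, hg₀⟩ := IsCyclic.exists_generator (α := G ⧸ Subgroup.centralizer ({z} : Set G))
        have hc : ∀ u v : G ⧸ Subgroup.centralizer ({z} : Set G), u * v = v * u := by
          intro u v
          obtain ⟨i, rfl⟩ := Subgroup.mem_zpowers_iff.mp (hg₀ u)
          obtain ⟨j, rfl⟩ := Subgroup.mem_zpowers_iff.mp (hg₀ v)
          exact ((Commute.refl g₀).zpow_zpow i j).eq
        rw [← QuotientGroup.eq_one_iff]
        simp only [QuotientGroup.mk_mul, QuotientGroup.mk_inv]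
        rw [hc (a : G ⧸ Subgroup.centralizer ({z} : Set G)) b]
        group
    exact (Subgroup.mem_centralizer_singleton_iff.mp hmem).symm
  rw [Subgroup.eq_top_iff']
  intro a
  rw [show (2 : ℕ) = 1 + 1 from rfl, Subgroup.mem_upperCentralSeries_succ_iff]
  intro b
  rw [Subgroup.upperCentralSeries_one, Subgroup.mem_center_iff]
  intro z
  exact hcomm a b z

/-- Let `G` be a finite group every conjugacy class of which has size 1 or a prime. Then either `G` is nilpotent of class at most 2, or `G/Z(G)` is a non-abelian group of order `pq` for distinct primes `p, q` (a Frobenius group of order `pq`). -/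
theorem result {G : Type*} [Group G] [Finite G]
    (h : ∀ x : G, (Subgroup.centralizer ({x} : Set G)).index = 1 ∨ ((Subgroup.centralizer ({x} : Set G)).index).Prime) :
    Subgroup.upperCentralSeries G 2 = ⊤ ∨
      ∃ p q : ℕ, p.Prime ∧ q.Prime ∧ p ≠ q ∧ Nat.card (G ⧸ Subgroup.center G) = p * q ∧ ¬ IsMulCommutative (G ⧸ Subgroup.center G) := by
  classical
  by_cases hall : ∀ x : G, (Subgroup.centralizer ({x} : Set G)).Normal
  · left
    exact class_two_of_normal_centralizers h hall
  right
  push Not at hall
  obtain ⟨x, hx⟩ := hall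
  set M := Subgroup.centralizer ({x} : Set G) with hM
  have hp : M.index.Prime := by
    rcases h x with h1 | hp
    · exfalso
      apply hx
      rw [hM, Subgroup.index_eq_one.mp h1]
      infer_instance
    · exact hp
  set p := M.index with hpdef
  haveI : Fact p.Prime := ⟨hp⟩
  -- the action on cosets
  haveI : Fintype (G ⧸ M) := Fintype.ofFinite _
  set φ : G →* Equiv.Perm (G ⧸ M) := MulAction.toPermHom G (G ⧸ M) with hφ
  set N := φ.ker with hN
  have hNcore : M.normalCore = N := Subgroup.normalCore_eq_ker M
  have hNM : N ≤ M := hNcore ▸ M.normalCore_le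
  have hcardα : Fintype.card (G ⧸ M) = p := by
    rw [← Nat.card_eq_fintype_card, ← Subgroup.index_eq_card]
  have hpN : p ∣ N.index := by
    rw [← Subgroup.relIndex_mul_index hNM]
    exact dvd_mul_left _ _
  have hNindex : N.index = Nat.card φ.range := Subgroup.index_ker φ
  obtain ⟨σ', hσ'⟩ := exists_prime_orderOf_dvd_card' (G := φ.range) p (hNindex ▸ hpN)
  set σ : Equiv.Perm (G ⧸ M) := (σ' : Equiv.Perm (G ⧸ M)) with hσ
  have hσo : orderOf σ = p := by rw [hσ, Subgroup.orderOf_coe]; exact hσ'
  obtain ⟨g, hg⟩ : ∃ g : G, φ g = σ := σ'.2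
  obtain ⟨hcyc, hfull⟩ := perm_full_cycle_of_prime_order σ (hcardα.symm ▸ hp)
    (hσo.trans hcardα.symm)
  have hσ1 : σ ≠ 1 := by
    intro h1
    rw [h1, orderOf_one] at hσo
    exact hp.one_lt.ne hσo
  -- the subgroup L
  set L := (Subgroup.zpowers σ).comap φ with hL
  have hNL : N ≤ L := MonoidHom.ker_le_comap φ _
  have hgL : g ∈ L := by
    rw [hL, Subgroup.mem_comap, hg]
    exact Subgroup.mem_zpowers σ
  have hgN : g ∉ N := by
    intro hgN
    rw [hN, MonoidHom.mem_ker, hg] at hgN
    exact hσ1 hgN
  have hrel : N.relIndex L = p := by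
    have h1 : N = (⊥ : Subgroup (Equiv.Perm (G ⧸ M))).comap φ := (MonoidHom.comap_bot φ).symm
    rw [h1, Subgroup.relIndex_comap, Subgroup.relIndex_bot_left, hL, Subgroup.map_comap_eq]
    have hle : Subgroup.zpowers σ ≤ φ.range := by
      rw [Subgroup.zpowers_le]
      exact σ'.2
    rw [inf_eq_right.mpr hle, Nat.card_zpowers, hσo]
  have hNLidx : p * L.index = N.index := by
    rw [← hrel]
    exact Subgroup.relIndex_mul_index hNL
  -- centralizers of elements of L outside N lie in L
  have hcentL : ∀ y ∈ L, y ∉ N → ∀ w : G, w * y = y * w → w ∈ L := by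
    intro y hyL hyN w hwy
    rw [hL, Subgroup.mem_comap] at hyL ⊢
    have hy1 : φ y ≠ 1 := fun h1 => hyN (MonoidHom.mem_ker.mpr h1)
    -- σ is a power of φ y
    have hgen : σ ∈ Subgroup.zpowers (φ y) := by
      haveI : Fact (Nat.card (Subgroup.zpowers σ)).Prime := by
        rw [Nat.card_zpowers, hσo]; exact ⟨hp⟩
      have hne : (⟨φ y, hyL⟩ : Subgroup.zpowers σ) ≠ 1 := fun h1 => hy1 (congrArg Subtype.val h1)
      have htop := zpowers_eq_top_of_prime_card (G := Subgroup.zpowers σ) rfl hne
      have hmem : (⟨σ, Subgroup.mem_zpowers σ⟩ : Subgroup.zpowers σ) ∈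
          Subgroup.zpowers (⟨φ y, hyL⟩ : Subgroup.zpowers σ) := by rw [htop]; trivial
      obtain ⟨j, hj⟩ := Subgroup.mem_zpowers_iff.mp hmem
      refine Subgroup.mem_zpowers_iff.mpr ⟨j, ?_⟩
      have := congrArg Subtype.val hj
      simpa using this
    obtain ⟨j, hj⟩ := Subgroup.mem_zpowers_iff.mp hgen
    have hcomm : Commute (φ w) (φ y) := by
      show φ w * φ y = φ y * φ w
      rw [← map_mul, ← map_mul, hwy]
    have hcomm2 : Commute (φ w) σ := by
      rw [← hj]
      exact hcomm.zpow_right j
    exact perm_mem_zpowers_of_commute_full_cycle σ (φ w) hcyc hfull hcomm2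
  -- the index of L is a prime q
  have hCgL : Subgroup.centralizer ({g} : Set G) ≤ L := by
    intro w hw
    exact hcentL g hgL hgN w (Subgroup.mem_centralizer_singleton_iff.mp hw)
  have hLne : L.index ≠ 1 := by
    intro h1
    rw [h1, mul_one] at hNLidx
    have h2 := Subgroup.relIndex_mul_index hNM
    rw [← hNLidx] at h2
    have hpos : 0 < p := hp.pos
    have h3 : N.relIndex M = 1 := by
      have : N.relIndex M * p = 1 * p := by rw [h2, one_mul]
      exact Nat.eq_of_mul_eq_mul_right hpos this
    have h4 : M ≤ N := Subgroup.relIndex_eq_one.mp h3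
    have h5 : M = N := le_antisymm h4 hNM
    apply hx
    rw [h5]
    infer_instance
  have hq : L.index.Prime := by
    have hdvd := Subgroup.index_dvd_of_le hCgL
    rcases h g with h1 | hr
    · rw [h1] at hdvd
      exact absurd (Nat.dvd_one.mp hdvd) hLne
    · rcases (Nat.dvd_prime hr).mp hdvd with h2 | h2
      · exact absurd h2 hLne
      · rw [h2]; exact hr
  set q := L.index with hqdef
  -- centralizers of elements of L outside N equal L
  have hLcent : ∀ y ∈ L, y ∉ N → Subgroup.centralizer ({y} : Set G) = L := by
    intro y hyL hyN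
    have hle : Subgroup.centralizer ({y} : Set G) ≤ L := by
      intro w hw
      exact hcentL y hyL hyN w (Subgroup.mem_centralizer_singleton_iff.mp hw)
    apply eq_of_le_of_index_eq' hle
    have hdvd := Subgroup.index_dvd_of_le hle
    rcases h y with h1 | hr
    · rw [h1] at hdvd
      exact absurd (Nat.dvd_one.mp hdvd) hLne
    · exact ((Nat.prime_dvd_prime_iff_eq hq hr).mp hdvd).symm
  -- L is abelian
  have hLab : ∀ a ∈ L, ∀ b ∈ L, a * b = b * a := by
    intro a ha b hb
    by_cases haN : a ∈ N
    · by_cases hbN : b ∈ N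
      · have hagL : a * g ∈ L := mul_mem ha hgL
        have hagN : a * g ∉ N := by
          intro hag
          apply hgN
          have : g = a⁻¹ * (a * g) := by group
          rw [this]
          exact mul_mem (inv_mem haN) hag
        have h1 : b ∈ Subgroup.centralizer ({a * g} : Set G) := by
          rw [hLcent _ hagL hagN]; exact hb
        have h2 : b ∈ Subgroup.centralizer ({g} : Set G) := by
          rw [hLcent _ hgL hgN]; exact hb
        rw [Subgroup.mem_centralizer_singleton_iff] at h1 h2
        -- h1 : b * (a * g) = a * g * b, h2 : b * g = g * b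
        have h3 : (b * a) * g = (a * b) * g := by
          calc (b * a) * g = b * (a * g) := by group
            _ = a * g * b := h1
            _ = a * (g * b) := by group
            _ = a * (b * g) := by rw [h2]
            _ = (a * b) * g := by group
        exact (mul_right_cancel h3).symm
      · have h1 : a ∈ Subgroup.centralizer ({b} : Set G) := by
          rw [hLcent _ hb hbN]; exact ha
        exact Subgroup.mem_centralizer_singleton_iff.mp h1
    · have h1 : b ∈ Subgroup.centralizer ({a} : Set G) := by
        rw [hLcent _ ha haN]; exact hb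
      exact (Subgroup.mem_centralizer_singleton_iff.mp h1).symm
  -- elements outside L centralize N
  haveI hNnormal : N.Normal := by rw [hN]; infer_instance
  have hNcent : ∀ u : G, u ∉ L → ∀ n ∈ N, n * u = u * n := by
    intro u hu n hn
    set T := Subgroup.centralizer ({u} : Set G) ⊔ N with hT
    have hTne : T ≠ ⊤ := by
      intro htop
      have hgT : g ∈ (T : Set G) := by rw [htop]; trivial
      rw [hT, Subgroup.mul_normal] at hgT
      obtain ⟨c, hc, n', hn', hcn⟩ := Set.mem_mul.mp hgT
      have hcL : c ∈ L := by
        have : c = g * n'⁻¹ := by rw [← hcn]; group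
        rw [this]
        exact mul_mem hgL (inv_mem (hNL hn'))
      have hcN : c ∉ N := by
        intro hcN
        apply hgN
        rw [← hcn]
        exact mul_mem hcN hn'
      have h1 := hLcent c hcL hcN
      apply hu
      rw [← h1, Subgroup.mem_centralizer_singleton_iff]
      exact (Subgroup.mem_centralizer_singleton_iff.mp hc).symm
    have hle : Subgroup.centralizer ({u} : Set G) ≤ T := le_sup_left
    have hTidx : T.index ≠ 1 := fun h1 => hTne (Subgroup.index_eq_one.mp h1)
    have hdvd := Subgroup.index_dvd_of_le hle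
    have heq : Subgroup.centralizer ({u} : Set G) = T := by
      apply eq_of_le_of_index_eq' hle
      rcases h u with h1 | hr
      · rw [h1] at hdvd
        exact absurd (Nat.dvd_one.mp hdvd) hTidx
      · rcases (Nat.dvd_prime hr).mp hdvd with h2 | h2
        · exact absurd h2 hTidx
        · exact h2.symm
    have hnT : n ∈ T := (le_sup_right : N ≤ T) hn
    rw [← heq] at hnT
    exact Subgroup.mem_centralizer_singleton_iff.mp hnT
  -- N is the centre
  have hNZ : N = Subgroup.center G := by
    apply le_antisymm
    · intro n hn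
      rw [Subgroup.mem_center_iff]
      intro w
      by_cases hw : w ∈ L
      · exact hLab w hw n (hNL hn)
      · exact (hNcent w hw n hn).symm
    · rw [← hNcore, Subgroup.normal_le_normalCore]
      exact Subgroup.center_le_centralizer _
  have hcard : Nat.card (G ⧸ Subgroup.center G) = p * q := by
    rw [← Subgroup.index_eq_card, ← hNZ, ← hNLidx]
  have hnc : ¬ IsMulCommutative (G ⧸ Subgroup.center G) := by
    intro hcomm
    apply hx
    refine ⟨fun m hm w => ?_⟩
    have hc : ∀ a b : G ⧸ Subgroup.center G, a * b = b * a := fun a b => hcomm.is_comm.comm a b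
    have hcz : m⁻¹ * (w * m * w⁻¹) ∈ Subgroup.center G := by
      rw [← QuotientGroup.eq_one_iff]
      simp only [QuotientGroup.mk_mul, QuotientGroup.mk_inv]
      rw [hc (w : G ⧸ Subgroup.center G) m]
      group
    have hcM : m⁻¹ * (w * m * w⁻¹) ∈ M := Subgroup.center_le_centralizer _ hcz
    have : w * m * w⁻¹ = m * (m⁻¹ * (w * m * w⁻¹)) := by group
    rw [this]
    exact mul_mem hm hcM
  refine ⟨p, q, hp, hq, ?_, hcard, hnc⟩
  intro hpq
  apply hnc
  rw [← hpq, ← pow_two] at hcard
  exact IsPGroup.isMulCommutative_of_card_eq_prime_sq hcard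

end Cfsg.Agent.S4314
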