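import Cfsg.Statements.S4320
-- import your own Cfsg.Agent.* helpers here
import Cfsg.Agent.Lib.Helper34.WittModule

set_option autoImplicit false
open Cfsg

namespace Cfsg.Agent.S4320

/-- The Principal Ideal Theorem of class field theory in its group-theoretic form: for every finite group `G`, the transfer homomorphism from `G` into the abelianization `G'/G''` of its derived subgroup `G'` is the trivial homomorphism. -/
theorem result {G : Type*} [Group G] [Finite G] :
    MonoidHom.transfer (Abelianization.of : ↥(commutator G) →* Abelianization ↥(commutator G)) =
      (1 : G →* Abelianization ↥(commutator G)) := by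
  classical
  ext g
  let hF : Fintype (G ⧸ commutator G) := Fintype.ofFinite _
  let _ : Fintype (Abelianization G) := hF
  have hs : ∀ q : Abelianization G, Abelianization.of (Quotient.out q : G) = q :=
    fun q => Quotient.out_eq' q
  have h1 := Cfsg.Agent.Lib.Helper34.Witt.transfer_eq_prod_sec (commutator G)
    (Abelianization.of : ↥(commutator G) →* Abelianization ↥(commutator G))
    (fun q => (Quotient.out q : G)) hs g
  have h2 := Cfsg.Agent.Lib.Helper34.Witt.main_vanish
    (Abelianization.of : ↥(commutator G) →* Abelianization ↥(commutator G))
    (fun q => (Quotient.out q : G)) hs g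
  rw [MonoidHom.one_apply, h1, ← h2]
  refine Finset.prod_congr rfl (fun q _ => ?_)
  congr 1

end Cfsg.Agent.S4320
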