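import Cfsg.Statements.S4325
import Mathlib

set_option autoImplicit false
open Cfsg

namespace Cfsg.Agent.S4325

open Equiv Cfsg


theorem swap_eq_swap {α : Type*} [DecidableEq α] {x y u v : α} (hxy : x ≠ y)
    (h : Equiv.swap x y = Equiv.swap u v) : s(x, y) = s(u, v) := by
  have h1 : Equiv.swap x y x = Equiv.swap u v x := by rw [h]
  rw [Equiv.swap_apply_left] at h1
  rw [Sym2.eq_iff]
  by_cases hxu : x = u
  · subst hxu
    rw [Equiv.swap_apply_left] at h1
    exact Or.inl ⟨rfl, h1⟩
  · by_cases hxv : x = v
    · subst hxv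
      rw [Equiv.swap_apply_right] at h1
      exact Or.inr ⟨rfl, h1⟩
    · rw [Equiv.swap_apply_of_ne_of_ne hxu hxv] at h1
      exact absurd h1.symm hxy

theorem part1 (r m : ℕ) (hr : r.Prime) (hm : m + 1 < r) (t : Fin m → Perm (Fin r))
    (ht : ∀ i, (t i).IsSwap) : ¬ r ∣ Nat.card (Subgroup.closure (Set.range t)) := by
  have : NeZero r := ⟨hr.ne_zero⟩
  choose x y hxy hswap using ht
  let G : SimpleGraph (Fin r) := SimpleGraph.fromRel (fun u v => ∃ i, t i = swap u v)
  have hnc : ¬ G.Connected := by
    intro h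
    have h1 := h.card_vert_le_card_edgeSet_add_one
    have h2 : Nat.card G.edgeSet ≤ m := by
      have hsub : G.edgeSet ⊆ Set.range (fun i => s(x i, y i)) := by
        intro e he
        induction e using Sym2.ind with
        | _ u v =>
          rw [SimpleGraph.mem_edgeSet] at he
          obtain ⟨huv, ⟨i, hi⟩ | ⟨i, hi⟩⟩ := he
          · refine ⟨i, ?_⟩
            rw [hswap i] at hi
            exact swap_eq_swap (hxy i) hi
          · refine ⟨i, ?_⟩
            rw [hswap i, Equiv.swap_comm v u] at hi
            exact swap_eq_swap (hxy i) hi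
      calc Nat.card G.edgeSet ≤ Nat.card (Set.range (fun i => s(x i, y i))) :=
            Nat.card_mono (Set.finite_range _) hsub
        _ ≤ Nat.card (Fin m) := Finite.card_range_le _
        _ = m := by simp
    rw [Nat.card_eq_fintype_card, Fintype.card_fin] at h1
    omega
  have hnp : ¬ G.Preconnected := fun h => hnc ⟨h⟩
  unfold SimpleGraph.Preconnected at hnp
  push Not at hnp
  obtain ⟨a, b, hab⟩ := hnp
  have hreach : ∀ g ∈ Subgroup.closure (Set.range t), ∀ z, G.Reachable z (g z) := by
    intro g hg
    induction hg using Subgroup.closure_induction with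
    | mem g hg =>
      obtain ⟨i, rfl⟩ := hg
      intro z
      by_cases hz : t i z = z
      · rw [hz]
      · apply SimpleGraph.Adj.reachable
        refine ⟨fun h => hz h.symm, ?_⟩
        rw [hswap i] at hz ⊢
        by_cases hzx : z = x i
        · subst hzx
          rw [Equiv.swap_apply_left]
          exact Or.inl ⟨i, hswap i⟩
        · by_cases hzy : z = y i
          · subst hzy
            rw [Equiv.swap_apply_right]
            exact Or.inr ⟨i, hswap i⟩
          · exact absurd (Equiv.swap_apply_of_ne_of_ne hzx hzy) hz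
    | one => intro z; exact SimpleGraph.Reachable.refl _
    | mul g h _ _ ihg ihh =>
      intro z
      exact (ihh z).trans (ihg (h z))
    | inv g _ ih =>
      intro z
      have h1 := ih (g⁻¹ z)
      have e : g (g⁻¹ z) = z := by simp
      rw [e] at h1
      exact h1.symm
  intro hdvd
  have : Fact r.Prime := ⟨hr⟩
  obtain ⟨h, hh⟩ := exists_prime_orderOf_dvd_card' r hdvd
  have ho : orderOf (h : Perm (Fin r)) = r := by rw [Subgroup.orderOf_coe, hh]
  have hcyc : (h : Perm (Fin r)).IsCycle := by
    apply Equiv.Perm.isCycle_of_prime_order''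
    · rw [Fintype.card_fin]; exact hr
    · rw [ho, Fintype.card_fin]
  have hsupp : (h : Perm (Fin r)).support = Finset.univ := by
    rw [← Finset.card_eq_iff_eq_univ, ← hcyc.orderOf, ho, Fintype.card_fin]
  have hmove : ∀ z, (h : Perm (Fin r)) z ≠ z := by
    intro z
    rw [← Equiv.Perm.mem_support, hsupp]
    exact Finset.mem_univ z
  obtain ⟨i, hi⟩ := hcyc.sameCycle (hmove a) (hmove b)
  have := hreach _ (Subgroup.zpow_mem _ h.2 i) a
  rw [hi] at this
  exact hab this

theorem part2 (r : ℕ) (hr : r.Prime) (N : Subgroup (Perm (Fin r))) (hN : N.Normal) (hne : N ≠ ⊥) :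
    r ∣ Nat.card N := by
  have : NeZero r := ⟨hr.ne_zero⟩
  obtain ⟨⟨g, hgN⟩, hg1⟩ := (Subgroup.ne_bot_iff_exists_ne_one).mp hne
  have hg1' : g ≠ 1 := fun h => hg1 (Subtype.ext h)
  obtain ⟨x, hx⟩ : ∃ x, g x ≠ x := by
    by_contra hcon
    push Not at hcon
    exact hg1' (Equiv.Perm.ext hcon)
  -- N is transitive
  have htrans : ∀ v, ∃ n ∈ N, n x = v := by
    intro v
    by_cases hvx : v = x
    · exact ⟨1, N.one_mem, by simp [hvx]⟩
    · by_cases hvy : v = g x
      · exact ⟨g, hgN, hvy.symm⟩
      · refine ⟨swap (g x) v * g * (swap (g x) v)⁻¹, hN.conj_mem g hgN _, ?_⟩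
        rw [Equiv.swap_inv, Equiv.Perm.mul_apply, Equiv.Perm.mul_apply,
          Equiv.swap_apply_of_ne_of_ne (Ne.symm hx) (Ne.symm hvx), Equiv.swap_apply_left]
  have horb : MulAction.orbit N x = Set.univ := by
    rw [Set.eq_univ_iff_forall]
    intro v
    obtain ⟨n, hn, hnv⟩ := htrans v
    exact ⟨⟨n, hn⟩, hnv⟩
  have h1 := MulAction.index_stabilizer N x
  rw [horb, Set.ncard_univ, Nat.card_eq_fintype_card, Fintype.card_fin] at h1
  have h2 := Subgroup.index_dvd_card (MulAction.stabilizer N x)
  rw [h1] at h2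
  exact h2


/-- Let r be a prime and m a natural number with m + 1 < r, and let π be a set of primes containing every prime below r but not r itself. Then in the symmetric group of degree r any m transpositions generate a π-subgroup, while O_π of the symmetric group is trivial. (So no bound on the number of conjugates that works for all π exists in the π-radical analogue of the Baer–Suzuki Theorem.) -/
theorem result (r m : ℕ) (hr : r.Prime)
    (hm : m + 1 < r) (π : Set ℕ) (hπ : ∀ q : ℕ, q.Prime → q < r → q ∈ π) (hrπ : r ∉ π)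
    (t : Fin m → Equiv.Perm (Fin r)) (ht : ∀ i, (t i).IsSwap) :
    Cfsg.IsPiSubgroup π (Subgroup.closure (Set.range t)) ∧ Cfsg.piCore π (Equiv.Perm (Fin r)) = ⊥ := by
  constructor
  · intro p hp hpd
    have h1 := part1 r m hr hm t ht
    have h2 : Nat.card (Subgroup.closure (Set.range t)) ∣ Nat.card (Perm (Fin r)) :=
      Subgroup.card_subgroup_dvd_card _
    rw [Nat.card_eq_fintype_card (α := Perm (Fin r)), Fintype.card_perm, Fintype.card_fin] at h2
    have h3 : p ≤ r := (Nat.Prime.dvd_factorial hp).mp (hpd.trans h2)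
    have h4 : p ≠ r := by
      rintro rfl
      exact h1 hpd
    exact hπ p hp (lt_of_le_of_ne h3 h4)
  · unfold Cfsg.piCore
    rw [sSup_eq_bot]
    rintro N ⟨hN, hNπ⟩
    by_contra hne
    exact hrπ (hNπ r hr (part2 r hr N hN hne))

end Cfsg.Agent.S4325
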