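import Cfsg.Statements.S4326

set_option autoImplicit false
open Cfsg

namespace Cfsg.Agent.S4326

open scoped Pointwise

/-- The subgroup of automorphisms fixing `M` pointwise. -/
def fixer {G : Type*} [Group G] (M : Subgroup G) : Subgroup (MulAut G) where
  carrier := {b | ∀ m ∈ M, b m = m}
  mul_mem' := by
    intro a b ha hb m hm
    rw [MulAut.mul_apply, hb m hm, ha m hm]
  one_mem' := by
    intro m _
    rfl
  inv_mem' := by
    intro a ha m hm
    have h1 : a⁻¹ (a m) = m := MulAut.inv_apply_self G a m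
    rw [ha m hm] at h1
    exact h1

theorem result {G : Type*} [Group G] [Finite G]
    (p : ℕ) [Fact p.Prime] (x : MulAut G) (hx : ∃ k : ℕ, orderOf x = p ^ k) (M : Subgroup G)
    (hM : ∀ g : G, g ∈ M ↔ x g = g) (hp : p ∣ M.index)
    (hself : Subgroup.normalizer (M : Set G) = M ∨ Subgroup.center M = ⊥) :
    ∃ g : G, (∀ y ∈ MulAut.conj g • M, x y ∈ MulAut.conj g • M) ∧ ∃ y ∈ MulAut.conj g • M, x y ≠ y := by
  classical
  have hXp : IsPGroup p (Subgroup.zpowers x) := by
    obtain ⟨k, hk⟩ := hx
    exact IsPGroup.of_card (n := k) (by rw [Nat.card_zpowers, hk])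
  have hle : Subgroup.zpowers x ≤ fixer M := by
    rw [Subgroup.zpowers_le]
    intro m hm
    exact (hM m).mp hm
  have hfix : ∀ b : Subgroup.zpowers x, ∀ m ∈ M, (b : MulAut G) m = m := fun b m hm => hle b.2 m hm
  have : MulAction.QuotientAction (Subgroup.zpowers x) M := by
    refine ⟨fun b a a' h => ?_⟩
    have h1 : (b • a)⁻¹ * b • a' = (b : MulAut G) (a⁻¹ * a') := by
      rw [Subgroup.smul_def, Subgroup.smul_def, MulAut.smul_def, MulAut.smul_def, map_mul, map_inv]
    rw [h1, hfix b _ h]
    exact h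
  have ha₀ : (QuotientGroup.mk (1 : G) : G ⧸ M) ∈
      MulAction.fixedPoints (Subgroup.zpowers x) (G ⧸ M) := by
    intro b
    rw [MulAction.Quotient.smul_mk, Subgroup.smul_def, MulAut.smul_def, map_one]
  have hp' : p ∣ Nat.card (G ⧸ M) := hp
  obtain ⟨q, hq, hne⟩ := hXp.exists_fixed_point_of_prime_dvd_card_of_fixed_point (G ⧸ M) hp' ha₀
  obtain ⟨g, rfl⟩ := QuotientGroup.mk_surjective q
  have hgM : g ∉ M := by
    intro hg
    apply hne
    rw [QuotientGroup.eq]
    simpa using hg
  have hxg : g⁻¹ * x g ∈ M := by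
    have := hq ⟨x, Subgroup.mem_zpowers x⟩
    rw [MulAction.Quotient.smul_mk, Subgroup.smul_def, MulAut.smul_def] at this
    have h2 := (QuotientGroup.eq (s := M)).mp this.symm
    exact h2
  -- write x g = g * m
  obtain ⟨m, hm, hxgm⟩ : ∃ m ∈ M, x g = g * m := ⟨g⁻¹ * x g, hxg, by group⟩
  have hxy : ∀ n ∈ M, x (g * n * g⁻¹) = g * (m * n * m⁻¹) * g⁻¹ := by
    intro n hn
    rw [map_mul, map_mul, map_inv, hxgm, (hM n).mp hn]
    group
  have hmem : ∀ y, y ∈ MulAut.conj g • M ↔ g⁻¹ * y * g ∈ M := by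
    intro y
    rw [Subgroup.mem_pointwise_smul_iff_inv_smul_mem]
    simp only [MulAut.smul_def, ← map_inv, MulAut.conj_apply, inv_inv]
  refine ⟨g, ?_, ?_⟩
  · intro y hy
    rw [hmem] at hy ⊢
    have hy' : y = g * (g⁻¹ * y * g) * g⁻¹ := by group
    rw [hy', hxy _ hy]
    have : g⁻¹ * (g * (m * (g⁻¹ * y * g) * m⁻¹) * g⁻¹) * g = m * (g⁻¹ * y * g) * m⁻¹ := by group
    rw [this]
    exact M.mul_mem (M.mul_mem hm hy) (M.inv_mem hm)
  · by_contra hcon
    push Not at hcon
    rcases hself with hN | hZ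
    · apply hgM
      have hle' : MulAut.conj g • M ≤ M := fun y hy => (hM y).mpr (hcon y hy)
      have hcard : Nat.card M ≤ Nat.card (MulAut.conj g • M : Subgroup G) :=
        le_of_eq (Nat.card_congr (Subgroup.equivSMul (MulAut.conj g) M).toEquiv)
      have heq : MulAut.conj g • M = M := Subgroup.eq_of_le_of_card_ge hle' hcard
      rw [← hN, Subgroup.mem_normalizer_iff]
      intro h
      have h3 : g * h * g⁻¹ = MulAut.conj g • h := by simp [MulAut.smul_def]
      rw [h3]
      conv_rhs => rw [← heq]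
      rw [Subgroup.smul_mem_pointwise_smul_iff]
    · apply hgM
      have hmc : (⟨m, hm⟩ : M) ∈ Subgroup.center M := by
        rw [Subgroup.mem_center_iff]
        rintro ⟨n, hn⟩
        have h4 : g * n * g⁻¹ ∈ MulAut.conj g • M := by
          rw [hmem]
          have : g⁻¹ * (g * n * g⁻¹) * g = n := by group
          rw [this]; exact hn
        have h5 := hcon _ h4
        rw [hxy n hn] at h5
        have h6 : m * n * m⁻¹ = n := by
          have := congrArg (fun t => g⁻¹ * t * g) h5
          simpa [mul_assoc] using this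
        apply Subtype.ext
        show n * m = m * n
        calc n * m = (m * n * m⁻¹) * m := by rw [h6]
          _ = m * n := by group
      rw [hZ, Subgroup.mem_bot] at hmc
      have hm1 : m = 1 := congrArg Subtype.val hmc
      rw [hm1, mul_one] at hxgm
      exact (hM g).mpr hxgm

end Cfsg.Agent.S4326
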