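import Cfsg.Statements.S4331

set_option autoImplicit false
open Cfsg

namespace Cfsg.Agent.S4331

/-- the semidihedral group of order 16, as pairs `(c, e)` standing for `ζ ^ c * F ^ e` -/
structure SD16 where
  c : Fin 8
  e : Fin 2
  deriving DecidableEq, Fintype

namespace SD16

def mul' (a b : SD16) : SD16 := ⟨a.c + (if a.e = 0 then b.c else 3 * b.c), a.e + b.e⟩
def inv' (a : SD16) : SD16 := ⟨-(if a.e = 0 then a.c else 3 * a.c), a.e⟩

instance : Mul SD16 := ⟨mul'⟩
instance : One SD16 := ⟨⟨0, 0⟩⟩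
instance : Inv SD16 := ⟨inv'⟩

theorem mul_assoc' : ∀ a b c : SD16, a * b * c = a * (b * c) := by decide
theorem one_mul' : ∀ a : SD16, 1 * a = a := by decide
theorem inv_mul' : ∀ a : SD16, a⁻¹ * a = 1 := by decide

instance : Group SD16 := Group.ofLeftAxioms mul_assoc' one_mul' inv_mul'

theorem card_eq : Nat.card SD16 = 16 := by
  rw [Nat.card_eq_fintype_card]; decide

end SD16

abbrev V := ZMod 3 × ZMod 3

def mulZ (v : V) : V := (v.1 - v.2, v.1 + v.2)
def frobE (e : Fin 2) (v : V) : V := (v.1, if e = 0 then v.2 else -v.2)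
def act (h : SD16) (v : V) : V := mulZ^[h.c.val] (frobE h.e v)

theorem act_inv_act : ∀ (h : SD16) (v : V), act h⁻¹ (act h v) = v := by decide
theorem act_act_inv : ∀ (h : SD16) (v : V), act h (act h⁻¹ v) = v := by decide
theorem act_add : ∀ (h : SD16) (v w : V), act h (v + w) = act h v + act h w := by decide
theorem act_mul : ∀ (h₁ h₂ : SD16) (v : V), act (h₁ * h₂) v = act h₁ (act h₂ v) := by decide

abbrev N := Multiplicative V

def phiFun (h : SD16) : MulAut N where
  toFun v := Multiplicative.ofAdd (act h (Multiplicative.toAdd v))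
  invFun v := Multiplicative.ofAdd (act h⁻¹ (Multiplicative.toAdd v))
  left_inv v := by
    show Multiplicative.ofAdd (act h⁻¹ (act h (Multiplicative.toAdd v))) = v
    rw [act_inv_act]; rfl
  right_inv v := by
    show Multiplicative.ofAdd (act h (act h⁻¹ (Multiplicative.toAdd v))) = v
    rw [act_act_inv]; rfl
  map_mul' v w := by
    show Multiplicative.ofAdd (act h (Multiplicative.toAdd v + Multiplicative.toAdd w)) = _
    rw [act_add]; rfl

def phi : SD16 →* MulAut N where
  toFun := phiFun
  map_one' := by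
    apply MulEquiv.ext
    intro v
    show Multiplicative.ofAdd (act 1 (Multiplicative.toAdd v)) = v
    have : ∀ v : V, act 1 v = v := by decide
    rw [this]; rfl
  map_mul' h₁ h₂ := by
    apply MulEquiv.ext
    intro v
    show Multiplicative.ofAdd (act (h₁ * h₂) (Multiplicative.toAdd v)) =
      Multiplicative.ofAdd (act h₁ (act h₂ (Multiplicative.toAdd v)))
    rw [act_mul]

abbrev G := N ⋊[phi] SD16

instance : Fintype G := Fintype.ofEquiv (N × SD16) SemidirectProduct.equivProd.symm

def a : G := ⟨1, ⟨0, 1⟩⟩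

def nn : G := ⟨Multiplicative.ofAdd ((0, 1) : V), 1⟩

set_option maxRecDepth 1000000 in
theorem class_cond : ∀ c : G, ∃ k : G, (k * c * k⁻¹) * a = a * (k * c * k⁻¹) ∨ (k * c * k⁻¹).left = 1 := by
  decide

set_option maxRecDepth 100000 in
theorem a_mul_a : a * a = 1 := by decide

set_option maxRecDepth 100000 in
theorem a_ne_one : a ≠ 1 := by decide

set_option maxRecDepth 100000 in
theorem a_nn_ne : a * nn ≠ nn * a := by decide

set_option maxRecDepth 100000 in
theorem n_pow_three : ∀ v : N, v ^ 3 = 1 := by decide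

/-- every subgroup of a finite nilpotent group is subnormal -/
theorem isSubnormal_of_nilpotent {H : Type*} [Group H] [Finite H] (hG : Group.IsNilpotent H)
    (K : Subgroup H) : K.IsSubnormal := by
  have hnc : NormalizerCondition H := Group.normalizerCondition_of_isNilpotent
  generalize hk : Nat.card H - Nat.card K = k
  induction k using Nat.strong_induction_on generalizing K with
  | _ k ih =>
  by_cases hH : K = ⊤
  · rw [hH]; exact Subgroup.IsSubnormal.top
  · have hlt : K < Subgroup.normalizer (K : Set H) := hnc K (lt_top_iff_ne_top.mpr hH)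
    have hc : Nat.card K < Nat.card (Subgroup.normalizer (K : Set H)) := by
      by_contra hcon
      exact hlt.ne (Subgroup.eq_of_le_of_card_ge hlt.le (not_lt.mp hcon))
    have hc2 : Nat.card (Subgroup.normalizer (K : Set H)) ≤ Nat.card H :=
      Subgroup.card_le_card_group _
    have h1 := ih (Nat.card H - Nat.card (Subgroup.normalizer (K : Set H))) (by omega) _ rfl
    exact Subgroup.IsSubnormal.step _ _ hlt.le h1
      ((Subgroup.normal_subgroupOf_iff_le_normalizer hlt.le).mpr le_rfl)

theorem sd16_isPGroup : IsPGroup 2 SD16 :=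
  IsPGroup.of_card (n := 4) (by rw [SD16.card_eq]; norm_num)

theorem solvable_G : Group.IsSolvable G := by
  have : Fact (Nat.Prime 2) := ⟨Nat.prime_two⟩
  have : Group.IsNilpotent SD16 := sd16_isPGroup.isNilpotent
  have h1 : Group.IsSolvable SD16 := inferInstance
  have h2 : Group.IsSolvable N := inferInstance
  exact Group.isSolvable_of_ker_le_range (SemidirectProduct.inl : N →* G)
    (SemidirectProduct.rightHom : G →* SD16)
    (le_of_eq SemidirectProduct.range_inl_eq_ker_rightHom.symm)

theorem range_inr_isPGroup : IsPGroup 2 (SemidirectProduct.inr : SD16 →* G).range := by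
  intro x
  obtain ⟨x, h, rfl⟩ := x
  obtain ⟨k, hk⟩ := sd16_isPGroup h
  refine ⟨k, ?_⟩
  apply Subtype.ext
  show (SemidirectProduct.inr h : G) ^ 2 ^ k = 1
  rw [← map_pow, hk, map_one]

theorem range_inl_isPGroup : IsPGroup 3 (SemidirectProduct.inl : N →* G).range := by
  intro x
  obtain ⟨x, v, rfl⟩ := x
  refine ⟨1, ?_⟩
  apply Subtype.ext
  show (SemidirectProduct.inl v : G) ^ 3 ^ 1 = 1
  rw [pow_one, ← map_pow, n_pow_three, map_one]

theorem card_A : Nat.card (Subgroup.zpowers a) = 2 := by
  have : Fact (Nat.Prime 2) := ⟨Nat.prime_two⟩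
  rw [Nat.card_zpowers]
  exact orderOf_eq_prime (by rw [pow_two]; exact a_mul_a) a_ne_one

theorem a_mem_range_inr : a ∈ (SemidirectProduct.inr : SD16 →* G).range :=
  ⟨⟨0, 1⟩, rfl⟩

theorem subnormal_of_commute (g : G) (h : g * a = a * g) :
    ((Subgroup.zpowers a).subgroupOf (Subgroup.zpowers a ⊔ Subgroup.zpowers g)).IsSubnormal := by
  apply Subgroup.Normal.isSubnormal
  rw [Subgroup.normal_subgroupOf_iff_le_normalizer le_sup_left]
  refine sup_le Subgroup.le_normalizer ?_
  rw [Subgroup.zpowers_le]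
  rw [Subgroup.mem_normalizer_iff]
  intro x
  have hg : ∀ y ∈ Subgroup.zpowers a, g * y * g⁻¹ = y := by
    intro y hy
    obtain ⟨k, rfl⟩ := hy
    have hc : Commute g a := h
    have := (hc.zpow_right k).eq
    rw [this, mul_inv_cancel_right]
  constructor
  · intro hx
    rw [hg x hx]; exact hx
  · intro hx
    have h2 := hg _ hx
    have h3 : g * x * g⁻¹ = x := by
      have h4 : g * (g * x * g⁻¹) * g⁻¹ = g * x * g⁻¹ := h2
      have h5 := congrArg (fun z => g⁻¹ * z * g) h4
      simp only [mul_assoc, inv_mul_cancel_left, inv_mul_cancel, mul_one] at h5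
      rw [mul_assoc]; exact h5
    rw [← h3]; exact hx

theorem subnormal_of_left_one (g : G) (h : g.left = 1) :
    ((Subgroup.zpowers a).subgroupOf (Subgroup.zpowers a ⊔ Subgroup.zpowers g)).IsSubnormal := by
  have : Fact (Nat.Prime 2) := ⟨Nat.prime_two⟩
  have hg : g ∈ (SemidirectProduct.inr : SD16 →* G).range := by
    refine ⟨g.right, ?_⟩
    apply SemidirectProduct.ext
    · rw [SemidirectProduct.left_inr, h]
    · rw [SemidirectProduct.right_inr]
  have hle : Subgroup.zpowers a ⊔ Subgroup.zpowers g ≤ (SemidirectProduct.inr : SD16 →* G).range := by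
    refine sup_le ?_ ?_
    · rw [Subgroup.zpowers_le]; exact a_mem_range_inr
    · rw [Subgroup.zpowers_le]; exact hg
  have hp : IsPGroup 2 ↥(Subgroup.zpowers a ⊔ Subgroup.zpowers g) := range_inr_isPGroup.to_le hle
  exact isSubnormal_of_nilpotent hp.isNilpotent _

theorem not_le_pCore : ¬ Subgroup.zpowers a ≤ Cfsg.pCore 2 G := by
  have : Fact (Nat.Prime 2) := ⟨Nat.prime_two⟩
  have : Fact (Nat.Prime 3) := ⟨Nat.prime_three⟩
  intro hle
  have hnorm : (Cfsg.pCore 2 G).Normal := by
    unfold Cfsg.pCore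
    exact Subgroup.sSup_normal _ (fun K hK => hK.1)
  have hp : IsPGroup 2 ↥(Cfsg.pCore 2 G) := by
    unfold Cfsg.pCore
    exact Sylow.sSup_of_normal _ (fun K hK => hK.2) (fun K hK => hK.1)
  have ha : a ∈ Cfsg.pCore 2 G := hle (Subgroup.mem_zpowers a)
  have h1 : a * nn * a⁻¹ * nn⁻¹ ∈ Cfsg.pCore 2 G := by
    have h2 : nn * a⁻¹ * nn⁻¹ ∈ Cfsg.pCore 2 G := hnorm.conj_mem _ (inv_mem ha) nn
    have h3 := mul_mem ha h2
    simpa [mul_assoc] using h3
  have hnl : nn ∈ (SemidirectProduct.inl : N →* G).range := ⟨_, rfl⟩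
  have hln : ((SemidirectProduct.inl : N →* G).range).Normal := by
    rw [SemidirectProduct.range_inl_eq_ker_rightHom]; infer_instance
  have h4 : a * nn * a⁻¹ * nn⁻¹ ∈ (SemidirectProduct.inl : N →* G).range :=
    mul_mem (hln.conj_mem _ hnl a) (inv_mem hnl)
  have hdisj : Disjoint (Cfsg.pCore 2 G) (SemidirectProduct.inl : N →* G).range :=
    IsPGroup.disjoint_of_ne 2 3 (by norm_num) _ _ hp range_inl_isPGroup
  have h5 : a * nn * a⁻¹ * nn⁻¹ = 1 := by
    have := Subgroup.disjoint_def.mp hdisj h1 h4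
    exact this
  apply a_nn_ne
  have := congrArg (fun z => z * nn * a) h5
  simpa [mul_assoc] using this

theorem result :
    ∃ (G : Type) (_ : Group G) (_ : Finite G) (A : Subgroup G), Group.IsSolvable G ∧ Nat.card A = 2 ∧
      (∀ c : G, ∃ g : G, IsConj c g ∧ (A.subgroupOf (A ⊔ Subgroup.zpowers g)).IsSubnormal) ∧
      ¬ A ≤ Cfsg.pCore 2 G := by
  refine ⟨G, inferInstance, inferInstance, Subgroup.zpowers a, solvable_G, card_A, ?_, not_le_pCore⟩
  intro c
  obtain ⟨k, hk⟩ := class_cond c
  refine ⟨k * c * k⁻¹, isConj_iff.mpr ⟨k, rfl⟩, ?_⟩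
  rcases hk with hk | hk
  · exact subnormal_of_commute _ hk
  · exact subnormal_of_left_one _ hk

end Cfsg.Agent.S4331
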