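import Cfsg.Statements.S4332
import Cfsg.Agent.Lib.Helper72.PermNormal

set_option autoImplicit false
open Pointwise
open Cfsg

namespace Cfsg.Agent.S4332

open Equiv

def sigma0 : Perm (Fin 8) := c[0, 1, 2]

def W : List (List ℕ × Perm (Fin 8)) :=
  [([], 1),
   ([2], c[3, 4]),
   ([3], c[0, 1, 2]),
   ([4], c[3, 4, 5, 6]),
   ([2, 2], c[3, 4] * c[5, 6]),
   ([5], c[3, 4, 5, 6, 7]),
   ([3, 2], c[0, 1, 2] * c[3, 4]),
   ([6], c[0, 3, 1, 4, 2, 5]),
   ([4, 2], c[3, 4, 5, 6] * c[0, 1]),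
   ([3, 3], c[0, 1, 2] * c[3, 4, 5]),
   ([2, 2, 2], c[0, 3] * c[1, 4] * c[2, 5]),
   ([7], c[0, 3, 1, 4, 2, 5, 6]),
   ([5, 2], c[3, 4, 5, 6, 7] * c[0, 1]),
   ([4, 3], c[3, 4, 5, 6] * c[0, 1, 2]),
   ([3, 2, 2], c[0, 1, 2] * c[3, 4] * c[5, 6]),
   ([8], c[0, 3, 1, 4, 2, 5, 6, 7]),
   ([6, 2], c[0, 3, 1, 4, 2, 5] * c[6, 7]),
   ([5, 3], c[3, 4, 5, 6, 7] * c[0, 1, 2]),
   ([4, 4], c[0, 3, 1, 4] * c[2, 5, 6, 7]),
   ([4, 2, 2], c[0, 3, 1, 4] * c[2, 5] * c[6, 7]),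
   ([3, 3, 2], c[0, 1, 2] * c[3, 4, 5] * c[6, 7]),
   ([2, 2, 2, 2], c[0, 3] * c[1, 4] * c[2, 5] * c[6, 7])]

set_option maxRecDepth 100000 in
theorem W_spec : ∀ pg ∈ W, pg.2.cycleType = (pg.1 : Multiset ℕ) ∧
    sigma0 * (pg.2 * sigma0 * pg.2⁻¹) = (pg.2 * sigma0 * pg.2⁻¹) * sigma0 := by
  decide

set_option maxRecDepth 100000 in
theorem sigma0_cycleType : sigma0.cycleType = {3} := by decide

def comps : ℕ → ℕ → List (List ℕ)
  | 0, _ => [[]]
  | fuel + 1, n => [] :: ((List.range (n + 1)).filter (fun a => 2 ≤ a)).flatMap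
      (fun a => (comps fuel (n - a)).map (fun l => a :: l))

theorem mem_comps : ∀ (fuel n : ℕ) (l : List ℕ), (∀ a ∈ l, 2 ≤ a) → l.sum ≤ n → l.length ≤ fuel →
    l ∈ comps fuel n := by
  intro fuel
  induction fuel with
  | zero =>
    intro n l _ _ hlen
    have : l = [] := List.length_eq_zero_iff.mp (Nat.le_zero.mp hlen)
    subst this
    simp [comps]
  | succ fuel ih =>
    intro n l h2 hsum hlen
    cases l with
    | nil => simp [comps]
    | cons a l' =>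
      rw [comps]
      apply List.mem_cons_of_mem
      rw [List.mem_flatMap]
      have ha : 2 ≤ a := h2 a (List.mem_cons_self ..)
      rw [List.sum_cons] at hsum
      refine ⟨a, ?_, ?_⟩
      · rw [List.mem_filter]
        refine ⟨List.mem_range.mpr (by omega), by simpa using ha⟩
      · rw [List.mem_map]
        refine ⟨l', ih (n - a) l' (fun b hb => h2 b (List.mem_cons_of_mem _ hb)) (by omega) ?_, rfl⟩
        simpa using hlen

set_option maxRecDepth 100000 in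
theorem comps_cover : ∀ l ∈ comps 4 8, ∃ pg ∈ W, (pg.1 : Multiset ℕ) = (l : Multiset ℕ) := by
  decide

theorem two_mul_length_le_sum : ∀ l : List ℕ, (∀ a ∈ l, 2 ≤ a) → 2 * l.length ≤ l.sum := by
  intro l
  induction l with
  | nil => intro _; simp
  | cons a l ih =>
    intro h
    have ha : 2 ≤ a := h a (List.mem_cons_self ..)
    have := ih (fun b hb => h b (List.mem_cons_of_mem _ hb))
    rw [List.length_cons, List.sum_cons]
    omega

/-- every cycle type in `S₈` is realised by a witness `g₀` for which `σ₀` commutes with its conjugate -/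
theorem exists_witness (c : Perm (Fin 8)) :
    ∃ g₀ : Perm (Fin 8), g₀.cycleType = c.cycleType ∧
      sigma0 * (g₀ * sigma0 * g₀⁻¹) = (g₀ * sigma0 * g₀⁻¹) * sigma0 := by
  obtain ⟨l, hl⟩ := Quot.exists_rep c.cycleType
  have hl' : c.cycleType = (l : Multiset ℕ) := hl.symm
  have h2 : ∀ a ∈ l, 2 ≤ a := by
    intro a ha
    apply Perm.two_le_of_mem_cycleType (σ := c)
    rw [hl']; exact ha
  have hsum : l.sum ≤ 8 := by
    have h1 : c.cycleType.sum = c.support.card := Perm.sum_cycleType c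
    rw [hl', Multiset.sum_coe] at h1
    rw [h1]
    exact (Finset.card_le_univ _).trans (by simp)
  have hlen : l.length ≤ 4 := by
    have := two_mul_length_le_sum l h2
    omega
  obtain ⟨pg, hpg, hpl⟩ := comps_cover l (mem_comps 4 8 l h2 hsum hlen)
  obtain ⟨h3, h4⟩ := W_spec pg hpg
  exact ⟨pg.2, by rw [h3, hpl, hl'], h4⟩

theorem result
    (σ : Equiv.Perm (Fin 8)) (hσ : σ.IsThreeCycle) :
    (∀ c : Equiv.Perm (Fin 8), ∃ g : Equiv.Perm (Fin 8), IsConj c g ∧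
      ((Subgroup.zpowers σ).subgroupOf (Subgroup.zpowers σ ⊔ MulAut.conj g • Subgroup.zpowers σ)).IsSubnormal) ∧
    Cfsg.pCore 3 (Equiv.Perm (Fin 8)) = ⊥ := by
  constructor
  · intro c
    -- σ is conjugate to σ₀
    have hconj : IsConj sigma0 σ := by
      rw [Perm.isConj_iff_cycleType_eq, sigma0_cycleType]
      exact hσ.symm
    obtain ⟨h, hh⟩ := isConj_iff.mp hconj
    obtain ⟨g₀, hg₀, hcomm⟩ := exists_witness c
    refine ⟨h * g₀ * h⁻¹, ?_, ?_⟩
    · rw [Perm.isConj_iff_cycleType_eq, Perm.cycleType_conj, hg₀]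
    · -- commutation
      have hτ : Commute σ ((h * g₀ * h⁻¹) * σ * (h * g₀ * h⁻¹)⁻¹) := by
        have e1 : (h * g₀ * h⁻¹) * σ * (h * g₀ * h⁻¹)⁻¹ = h * (g₀ * sigma0 * g₀⁻¹) * h⁻¹ := by
          rw [← hh]; group
        rw [e1, ← hh]
        show h * sigma0 * h⁻¹ * (h * (g₀ * sigma0 * g₀⁻¹) * h⁻¹) =
          h * (g₀ * sigma0 * g₀⁻¹) * h⁻¹ * (h * sigma0 * h⁻¹)
        calc h * sigma0 * h⁻¹ * (h * (g₀ * sigma0 * g₀⁻¹) * h⁻¹)
            = h * (sigma0 * (g₀ * sigma0 * g₀⁻¹)) * h⁻¹ := by group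
          _ = h * ((g₀ * sigma0 * g₀⁻¹) * sigma0) * h⁻¹ := by rw [hcomm]
          _ = h * (g₀ * sigma0 * g₀⁻¹) * h⁻¹ * (h * sigma0 * h⁻¹) := by group
      apply Subgroup.Normal.isSubnormal
      rw [Subgroup.normal_subgroupOf_iff_le_normalizer le_sup_left]
      apply sup_le Subgroup.le_normalizer
      refine le_trans ?_ (Subgroup.centralizer_le_normalizer _)
      intro y hy
      rw [Subgroup.mem_smul_pointwise_iff_exists] at hy
      obtain ⟨s, hs, rfl⟩ := hy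
      obtain ⟨i, rfl⟩ := Subgroup.mem_zpowers_iff.mp hs
      rw [Subgroup.mem_centralizer_iff]
      intro u hu
      obtain ⟨j, rfl⟩ := Subgroup.mem_zpowers_iff.mp hu
      have e2 : MulAut.conj (h * g₀ * h⁻¹) • σ ^ i =
          ((h * g₀ * h⁻¹) * σ * (h * g₀ * h⁻¹)⁻¹) ^ i := by
        rw [MulAut.smul_def, MulAut.conj_apply, conj_zpow]
      rw [e2]
      exact (hτ.zpow_zpow j i).eq
  · unfold Cfsg.pCore
    rw [eq_bot_iff]
    apply sSup_le
    rintro N ⟨hNn, hNp⟩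
    by_contra hne
    have hne' : N ≠ ⊥ := fun h => hne (h ▸ le_refl _)
    have h := Cfsg.Agent.Lib.Helper72.card_dvd_card_of_normal_ne_bot N hne'
    rw [Nat.card_eq_fintype_card, Fintype.card_fin] at h
    obtain ⟨k, hk⟩ := IsPGroup.iff_card.mp hNp
    rw [hk] at h
    have h2 : 2 ∣ 3 ^ k := (by norm_num : 2 ∣ 8).trans h
    have h3 : 2 ∣ 3 := Nat.Prime.dvd_of_dvd_pow Nat.prime_two h2
    omega

end Cfsg.Agent.S4332
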