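-- Statement S4334 (P. Hall's theorem D5), proved via Frobenius' normal p-complement theorem.
import Cfsg.Statements.S4334
import Cfsg.Agent.Lib.Helper54.HallD5

set_option autoImplicit false
open Cfsg

namespace Cfsg.Agent.S4334

/-- Let σ and τ be disjoint sets of primes with union π. Suppose a finite group G has a Hall π-subgroup H which is the direct product of a nilpotent σ-subgroup and a τ-subgroup (two elementwise-commuting subgroups generating H), and that the maximal τ-subgroups of G are pairwise conjugate. Then the maximal π-subgroups of G are pairwise conjugate. -/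
theorem result {G : Type*} [Group G] [Finite G]
    (σ τ π : Set ℕ) (hπ : π = σ ∪ τ) (hd : Disjoint σ τ) (H Hs Ht : Subgroup G) (hH : Cfsg.IsPiHall π H)
    (hs : Cfsg.IsPiSubgroup σ Hs) (ht : Cfsg.IsPiSubgroup τ Ht) (hsn : Group.IsNilpotent Hs)
    (hjoin : Hs ⊔ Ht = H) (hcomm : ∀ a ∈ Hs, ∀ b ∈ Ht, a * b = b * a) (hD : Cfsg.IsDPiGroup τ G) :
    Cfsg.IsDPiGroup π G := by
  classical
  have hcomm' : ∀ (a : Hs) (b : Ht), Commute (Hs.subtype a) (Ht.subtype b) :=
    fun a b => hcomm a a.2 b b.2
  obtain ⟨φ, hφ⟩ : ∃ φ : Hs × Ht →* G,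
    φ = MonoidHom.noncommCoprod Hs.subtype Ht.subtype hcomm' := ⟨_, rfl⟩
  have hrange : φ.range = H := by
    rw [hφ, MonoidHom.noncommCoprod_range, Subgroup.range_subtype, Subgroup.range_subtype, hjoin]
  have hcardH : Nat.card H ∣ Nat.card Hs * Nat.card Ht := by
    rw [← hrange, ← Nat.card_prod]; exact Subgroup.card_range_dvd φ
  have hsH : Hs ≤ H := hjoin ▸ le_sup_left
  have htH : Ht ≤ H := hjoin ▸ le_sup_right
  have hστ : ∀ r, r ∈ σ → r ∈ τ → False := fun r h1 h2 => (Set.disjoint_left.mp hd) h1 h2
  have hGH : ∀ r : ℕ, r.Prime → r ∈ π →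
      (Nat.card G).factorization r ≤ (Nat.card Hs).factorization r + (Nat.card Ht).factorization r := by
    intro r hr hrπ
    have h1 : Nat.card G = Nat.card H * H.index := (Subgroup.card_mul_index H).symm
    have h2 : (Nat.card G).factorization r = (Nat.card H).factorization r := by
      rw [h1, Nat.factorization_mul Nat.card_pos.ne' (Subgroup.index_ne_zero_of_finite),
        Finsupp.add_apply, Nat.factorization_eq_zero_of_not_dvd (hH.2 r hr hrπ), add_zero]
    rw [h2]
    have h3 := (Nat.factorization_le_iff_dvd Nat.card_pos.ne'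
      (Nat.mul_ne_zero Nat.card_pos.ne' Nat.card_pos.ne')).mpr hcardH r
    rwa [Nat.factorization_mul Nat.card_pos.ne' Nat.card_pos.ne', Finsupp.add_apply] at h3
  have hfacτ : ∀ r : ℕ, r.Prime → r ∈ τ →
      (Nat.card G).factorization r ≤ (Nat.card Ht).factorization r := by
    intro r hr hrτ
    have h1 := hGH r hr (hπ ▸ Or.inr hrτ)
    have h2 : (Nat.card Hs).factorization r = 0 :=
      Nat.factorization_eq_zero_of_not_dvd (fun h => hστ r (hs r hr h) hrτ)
    omega
  have hfacσ : ∀ p : ℕ, p.Prime → p ∈ π → p ∉ τ →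
      (Nat.card G).factorization p ≤ (Nat.card Hs).factorization p := by
    intro p hp hpπ hpτ
    have h1 := hGH p hp hpπ
    have h2 : (Nat.card Ht).factorization p = 0 :=
      Nat.factorization_eq_zero_of_not_dvd (fun h => hpτ (ht p hp h))
    omega
  -- `Ht` is a maximal `τ`-subgroup
  have hHtmax : Maximal (Cfsg.IsPiSubgroup τ) Ht := by
    refine ⟨ht, fun L hL hle => ?_⟩
    have hdvd : Nat.card L ∣ Nat.card Ht := by
      rw [← Nat.factorization_prime_le_iff_dvd Nat.card_pos.ne' Nat.card_pos.ne']
      intro r hr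
      by_cases hrτ : r ∈ τ
      · refine le_trans ?_ (hfacτ r hr hrτ)
        exact (Nat.factorization_le_iff_dvd Nat.card_pos.ne' Nat.card_pos.ne').mpr
          (Subgroup.card_subgroup_dvd_card L) r
      · rw [Nat.factorization_eq_zero_of_not_dvd (fun h => hrτ (hL r hr h))]
        exact Nat.zero_le _
    exact (Subgroup.eq_of_le_of_card_ge hle (Nat.le_of_dvd Nat.card_pos hdvd)).ge
  have key : ∀ K : Subgroup G, Cfsg.IsPiSubgroup π K →
      ∃ g, K ≤ H.map (MulAut.conj g).toMonoidHom := by
    intro K hK
    refine Cfsg.Agent.Lib.Helper54.exists_conj_le_of_hall_aux π τ H hH ?_ ?_ _ K rfl hK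
    · intro K hKτ
      obtain ⟨M, hKM, hM⟩ := Finite.exists_le_maximal (p := Cfsg.IsPiSubgroup τ) (a := K) hKτ
      obtain ⟨g, hg⟩ := hD Ht M hHtmax hM
      refine ⟨g, hKM.trans ?_⟩
      rw [hg]
      exact Subgroup.map_mono htH
    · intro p hp hpπ hpτ
      haveI : Fact p.Prime := ⟨hp⟩
      obtain ⟨S₀⟩ : Nonempty (Sylow p Hs) := inferInstance
      have hcard : Nat.card ((S₀ : Subgroup Hs).map Hs.subtype) =
          p ^ (Nat.card G).factorization p := by
        rw [Subgroup.card_map_of_injective Hs.subtype_injective, Sylow.card_eq_multiplicity]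
        congr 1
        apply le_antisymm
        · exact (Nat.factorization_le_iff_dvd Nat.card_pos.ne' Nat.card_pos.ne').mpr
            (Subgroup.card_subgroup_dvd_card Hs) p
        · exact hfacσ p hp hpπ hpτ
      refine ⟨Sylow.ofCard _ hcard, ?_, ?_⟩
      · rw [Sylow.coe_ofCard]
        exact (Subgroup.map_subtype_le _).trans hsH
      · intro x hxH hxp
        rw [Sylow.coe_ofCard, Subgroup.mem_centralizer_iff]
        rintro _ ⟨s, hs₀, rfl⟩
        rw [← hrange] at hxH
        obtain ⟨⟨a, b⟩, rfl⟩ := hxH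
        have hab : φ (a, b) = (a : G) * (b : G) := by
          rw [hφ, MonoidHom.noncommCoprod_apply]; rfl
        rw [hab] at hxp ⊢
        -- `b` commutes with `s`
        have hbs : (s : G) * (b : G) = (b : G) * (s : G) := hcomm s s.2 b b.2
        -- order of `a` is prime to `p`
        have hpHt : (Nat.card Ht).Coprime p :=
          ((Nat.Prime.coprime_iff_not_dvd hp).mpr (fun h => hpτ (ht p hp h))).symm
        have hab_comm : Commute (a : G) (b : G) := hcomm a a.2 b b.2
        have hpow : (a : G) ^ (orderOf ((a : G) * (b : G)) * Nat.card Ht) = 1 := by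
          have h1 : ((a : G) * (b : G)) ^ (orderOf ((a : G) * (b : G)) * Nat.card Ht) = 1 := by
            rw [pow_mul, pow_orderOf_eq_one, one_pow]
          have h2 : (b : G) ^ (orderOf ((a : G) * (b : G)) * Nat.card Ht) = 1 := by
            rw [mul_comm, pow_mul]
            have : (b : G) ^ Nat.card Ht = 1 := by
              have h5 : b ^ Nat.card Ht = 1 := pow_card_eq_one' (G := Ht) (x := b)
              have h6 := congrArg Subtype.val h5
              rw [Subgroup.coe_pow, Subgroup.coe_one] at h6
              exact h6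
            rw [this, one_pow]
          rw [hab_comm.mul_pow, h2, mul_one] at h1
          exact h1
        have hoa : (orderOf a).Coprime p := by
          have h1 : orderOf a = orderOf (a : G) := (Subgroup.orderOf_coe a).symm
          rw [h1]
          exact Nat.Coprime.coprime_dvd_left (orderOf_dvd_of_pow_eq_one hpow)
            (Nat.Coprime.mul_left hxp hpHt)
        have hos : (orderOf a).Coprime (orderOf s) := by
          obtain ⟨k, hk⟩ := S₀.isPGroup' ⟨s, hs₀⟩
          have hk' : s ^ p ^ k = 1 := by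
            have := congrArg Subtype.val hk
            simpa using this
          exact Nat.Coprime.coprime_dvd_right (orderOf_dvd_of_pow_eq_one hk')
            (Nat.Coprime.pow_right k hoa)
        have has : Commute a s := Cfsg.Agent.Lib.Helper96.commute_of_coprime_orderOf hsn hos
        have has' : (a : G) * (s : G) = (s : G) * (a : G) := by
          have := congrArg Subtype.val has.eq
          simpa using this
        show (s : G) * ((a : G) * (b : G)) = (a : G) * (b : G) * (s : G)
        rw [← mul_assoc, ← has', mul_assoc, hbs, mul_assoc]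
  -- conclusion
  have hconjπ : ∀ g : G, Cfsg.IsPiSubgroup π (H.map (MulAut.conj g).toMonoidHom) := by
    intro g r hr hrd
    rw [Subgroup.card_map_of_injective (MulAut.conj g).injective] at hrd
    exact hH.1 r hr hrd
  intro M1 M2 hM1 hM2
  obtain ⟨g1, hg1⟩ := key M1 hM1.1
  obtain ⟨g2, hg2⟩ := key M2 hM2.1
  have e1 : M1 = H.map (MulAut.conj g1).toMonoidHom := le_antisymm hg1 (hM1.2 (hconjπ g1) hg1)
  have e2 : M2 = H.map (MulAut.conj g2).toMonoidHom := le_antisymm hg2 (hM2.2 (hconjπ g2) hg2)
  refine ⟨g2 * g1⁻¹, ?_⟩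
  ext y
  rw [Cfsg.Agent.Lib.Helper54.mem_map_conj_iff, e1, e2, Cfsg.Agent.Lib.Helper54.mem_map_conj_iff,
    Cfsg.Agent.Lib.Helper54.mem_map_conj_iff]
  have : g1⁻¹ * ((g2 * g1⁻¹)⁻¹ * y * (g2 * g1⁻¹)) * g1 = g2⁻¹ * y * g2 := by group
  rw [this]

end Cfsg.Agent.S4334
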