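import Cfsg.Statements.S4337
import Cfsg.Agent.Lib.Helper72.SmallSupport

set_option autoImplicit false
open Cfsg

namespace Cfsg.Agent.S4337

open Equiv Cfsg.Agent.Lib.Helper72

variable {n : ℕ}

theorem mem_range_of_support_subset (g : Perm (Fin n)) (T : Finset (Fin n)) (h : g.support ⊆ T) :
    g ∈ (Perm.ofSubtype : Perm {x // x ∈ T} →* Perm (Fin n)).range := by
  rw [Perm.mem_range_ofSubtype_iff]
  intro x hx
  exact h hx

theorem case_all (a b c : Perm (Fin n)) (T : Finset (Fin n)) (hT : T.card ≤ 4)
    (ha : a.support ⊆ T) (hb : b.support ⊆ T) (hc : c.support ⊆ T) :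
    Group.IsSolvable (Subgroup.closure ({a, b, c} : Set (Perm (Fin n)))) := by
  apply solvable_of_le _ (range_ofSubtype_solvable T hT)
  rw [Subgroup.closure_le]
  intro x hx
  simp only [Set.mem_insert_iff, Set.mem_singleton_iff] at hx
  rcases hx with rfl | rfl | rfl
  · exact mem_range_of_support_subset _ T ha
  · exact mem_range_of_support_subset _ T hb
  · exact mem_range_of_support_subset _ T hc

theorem case_disj (a b c : Perm (Fin n)) (T : Finset (Fin n)) (hT : T.card ≤ 4)
    (ha : a.support ⊆ T) (hb : b.support ⊆ T) (hc : Disjoint c.support T) :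
    Group.IsSolvable (Subgroup.closure ({a, b, c} : Set (Perm (Fin n)))) := by
  have hcomm : ∀ h ∈ (Perm.ofSubtype : Perm {x // x ∈ T} →* Perm (Fin n)).range, Commute h c := by
    intro h hh
    rw [Perm.mem_range_ofSubtype_iff] at hh
    apply Perm.Disjoint.commute
    rw [Perm.disjoint_iff_disjoint_support]
    exact Disjoint.mono_left (fun x hx => hh hx) hc.symm
  apply solvable_of_le _ (solvable_sup_zpowers _ (range_ofSubtype_solvable T hT) c hcomm)
  rw [Subgroup.closure_le]
  intro x hx
  simp only [Set.mem_insert_iff, Set.mem_singleton_iff] at hx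
  rcases hx with rfl | rfl | rfl
  · exact (le_sup_left : _ ≤ _ ⊔ Subgroup.zpowers c) (mem_range_of_support_subset _ T ha)
  · exact (le_sup_left : _ ≤ _ ⊔ Subgroup.zpowers c) (mem_range_of_support_subset _ T hb)
  · exact (le_sup_right : Subgroup.zpowers x ≤ _ ⊔ Subgroup.zpowers x) (Subgroup.mem_zpowers x)

theorem card_union_le_four (A B C : Finset (Fin n)) (hA : A.card = 2) (hB : B.card = 2)
    (hC : C.card = 2) (h1 : ¬ Disjoint C (A ∪ B)) (h2 : ¬ Disjoint B (A ∪ C))
    (h3 : ¬ Disjoint A (B ∪ C)) : (A ∪ B ∪ C).card ≤ 4 := by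
  by_cases hAB : Disjoint A B
  · -- C ⊆ A ∪ B
    rw [Finset.disjoint_union_right] at h3 h2
    have hAC : ¬ Disjoint A C := fun h => h3 ⟨hAB, h⟩
    have hBC : ¬ Disjoint B C := fun h => h2 ⟨hAB.symm, h⟩
    rw [Finset.not_disjoint_iff] at hAC hBC
    obtain ⟨x, hxA, hxC⟩ := hAC
    obtain ⟨y, hyB, hyC⟩ := hBC
    have hxy : x ≠ y := by
      rintro rfl
      exact (Finset.disjoint_left.mp hAB hxA) hyB
    have hsub : ({x, y} : Finset (Fin n)) ⊆ C := by
      intro z hz
      simp only [Finset.mem_insert, Finset.mem_singleton] at hz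
      rcases hz with rfl | rfl <;> assumption
    have hcard : ({x, y} : Finset (Fin n)).card = 2 := Finset.card_pair hxy
    have hCeq : ({x, y} : Finset (Fin n)) = C :=
      Finset.eq_of_subset_of_card_le hsub (by rw [hC, hcard])
    have hCsub : C ⊆ A ∪ B := by
      rw [← hCeq]
      intro z hz
      simp only [Finset.mem_insert, Finset.mem_singleton] at hz
      rcases hz with rfl | rfl
      · exact Finset.mem_union_left _ hxA
      · exact Finset.mem_union_right _ hyB
    rw [Finset.union_eq_left.mpr hCsub]
    calc (A ∪ B).card ≤ A.card + B.card := Finset.card_union_le _ _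
      _ = 4 := by rw [hA, hB]
  · have hABcard : (A ∪ B).card ≤ 3 := by
      have h := Finset.card_union_add_card_inter A B
      have hpos : 0 < (A ∩ B).card := by
        rw [Finset.card_pos]
        rw [Finset.not_disjoint_iff] at hAB
        obtain ⟨x, hxA, hxB⟩ := hAB
        exact ⟨x, Finset.mem_inter.mpr ⟨hxA, hxB⟩⟩
      omega
    have h := Finset.card_union_add_card_inter (A ∪ B) C
    have hpos : 0 < ((A ∪ B) ∩ C).card := by
      rw [Finset.card_pos]
      rw [Finset.not_disjoint_iff] at h1
      obtain ⟨x, hxC, hxAB⟩ := h1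
      exact ⟨x, Finset.mem_inter.mpr ⟨hxAB, hxC⟩⟩
    omega

theorem result (n : ℕ) (a b c : Equiv.Perm (Fin n))
    (ha : a.IsSwap) (hb : b.IsSwap) (hc : c.IsSwap) :
    Group.IsSolvable (Subgroup.closure ({a, b, c} : Set (Equiv.Perm (Fin n)))) := by
  have hA : a.support.card = 2 := Perm.card_support_eq_two.mpr ha
  have hB : b.support.card = 2 := Perm.card_support_eq_two.mpr hb
  have hC : c.support.card = 2 := Perm.card_support_eq_two.mpr hc
  by_cases h1 : Disjoint c.support (a.support ∪ b.support)
  · apply case_disj a b c (a.support ∪ b.support) _ Finset.subset_union_left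
      Finset.subset_union_right h1
    calc (a.support ∪ b.support).card ≤ a.support.card + b.support.card := Finset.card_union_le _ _
      _ = 4 := by rw [hA, hB]
  by_cases h2 : Disjoint b.support (a.support ∪ c.support)
  · have hset : ({a, b, c} : Set (Perm (Fin n))) = {a, c, b} := by
      ext x; simp only [Set.mem_insert_iff, Set.mem_singleton_iff]; tauto
    rw [hset]
    apply case_disj a c b (a.support ∪ c.support) _ Finset.subset_union_left
      Finset.subset_union_right h2
    calc (a.support ∪ c.support).card ≤ a.support.card + c.support.card := Finset.card_union_le _ _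
      _ = 4 := by rw [hA, hC]
  by_cases h3 : Disjoint a.support (b.support ∪ c.support)
  · have hset : ({a, b, c} : Set (Perm (Fin n))) = {b, c, a} := by
      ext x; simp only [Set.mem_insert_iff, Set.mem_singleton_iff]; tauto
    rw [hset]
    apply case_disj b c a (b.support ∪ c.support) _ Finset.subset_union_left
      Finset.subset_union_right h3
    calc (b.support ∪ c.support).card ≤ b.support.card + c.support.card := Finset.card_union_le _ _
      _ = 4 := by rw [hB, hC]
  · apply case_all a b c (a.support ∪ b.support ∪ c.support)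
      (card_union_le_four _ _ _ hA hB hC h1 h2 h3)
    · exact Finset.subset_union_left.trans Finset.subset_union_left
    · exact Finset.subset_union_right.trans Finset.subset_union_left
    · exact Finset.subset_union_right

end Cfsg.Agent.S4337
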