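import Cfsg.Statements.S4343
import Cfsg.Agent.Lib.Helper72.FewSylow

set_option autoImplicit false
open Cfsg

namespace Cfsg.Agent.S4343

open Cfsg.Agent.Lib.Helper72

/-- Let S be a finite non-abelian simple group and p a prime dividing its order. If S has fewer than p² Sylow p-subgroups, then its Sylow p-subgroups have order p. -/
theorem result {S : Type*} [Group S] [Finite S]
    [IsSimpleGroup S] (hS : ¬ IsMulCommutative S) (p : ℕ) [Fact p.Prime] (hp : p ∣ Nat.card S)
    (hn : Nat.card (Sylow p S) < p ^ 2) (P : Sylow p S) : Nat.card P = p := by
  have hpp : p.Prime := Fact.out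
  have hdvd := card_sylow_dvd_mul_card_normalCore hn P
  have hPcard := Sylow.card_eq_multiplicity P
  have hfac : (Nat.card S).factorization p ≠ 0 := by
    intro h0
    have := (Nat.factorization_eq_zero_iff _ _).mp h0
    rcases this with h | h | h
    · exact h hpp
    · exact h hp
    · exact Nat.card_pos.ne' h
  have hnorm : ((P : Subgroup S).normalCore).Normal := Subgroup.normalCore_normal _
  rcases hnorm.eq_bot_or_eq_top with h | h
  · rw [h, Subgroup.card_bot, mul_one] at hdvd
    rcases (Nat.dvd_prime hpp).mp hdvd with h1 | h1
    · exfalso
      have h2 : Nat.card (P : Subgroup S) = p ^ (Nat.card S).factorization p := hPcard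
      rw [h1] at h2
      have : 1 < p ^ (Nat.card S).factorization p := Nat.one_lt_pow hfac hpp.one_lt
      omega
    · exact h1
  · exfalso
    have hPtop : (P : Subgroup S) = ⊤ := by
      apply top_le_iff.mp
      rw [← h]; exact Subgroup.normalCore_le _
    have hpg : IsPGroup p S := by
      have := P.2
      rw [hPtop] at this
      exact IsPGroup.of_equiv this Subgroup.topEquiv
    have : Nontrivial S := IsSimpleGroup.toNontrivial
    have hcen : Nontrivial (Subgroup.center S) := hpg.center_nontrivial
    have hcn : (Subgroup.center S).Normal := inferInstance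
    rcases hcn.eq_bot_or_eq_top with h3 | h3
    · rw [Subgroup.nontrivial_iff_ne_bot] at hcen
      exact hcen h3
    · apply hS
      constructor
      constructor
      intro a b
      have : a ∈ Subgroup.center S := by rw [h3]; trivial
      exact ((Subgroup.mem_center_iff.mp this) b).symm

end Cfsg.Agent.S4343
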