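import Cfsg.Statements.S4344

set_option autoImplicit false
open Cfsg

namespace Cfsg.Agent.S4344

open scoped Pointwise

theorem result {S : Type*} [Group S] [Finite S]
    [IsSimpleGroup S] (hS : ¬ IsMulCommutative S) (p : ℕ) [Fact p.Prime] (hp : p ∣ Nat.card S)
    (M : Subgroup S) (hM : IsCoatom M) (C : Subgroup S) (hCM : C ≤ M) (hCn : (C.subgroupOf M).Normal)
    (hC : IsCyclic C) (P : Sylow p S) (hP : (P : Subgroup S) ≤ C) :
    Nat.card (Sylow p S) = M.index := by
  classical
  -- C is commutative
  have hcomm : ∀ a b : C, a * b = b * a := by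
    obtain ⟨g, hg⟩ := hC.exists_generator
    intro a b
    obtain ⟨m, rfl⟩ := Subgroup.mem_zpowers_iff.mp (hg a)
    obtain ⟨n, rfl⟩ := Subgroup.mem_zpowers_iff.mp (hg b)
    exact (Commute.zpow_zpow (Commute.refl g) m n).eq
  -- all Sylow p-subgroups of C are equal
  have hsub : ∀ Q R : Sylow p C, Q = R := by
    intro Q R
    obtain ⟨c, hc⟩ := MulAction.exists_smul_eq C Q R
    rw [← hc]
    apply Sylow.ext
    rw [Sylow.coe_subgroup_smul]
    ext y
    rw [Subgroup.mem_pointwise_smul_iff_inv_smul_mem]
    have : (MulAut.conj c)⁻¹ • y = y := by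
      simp only [MulAut.smul_def, MulAut.conj_apply, ← map_inv]
      rw [hcomm c⁻¹ y]; simp
    rw [this]
  -- M normalizes P
  have hMN : M ≤ Subgroup.normalizer (P : Set S) := by
    intro m hm
    rw [← Sylow.smul_eq_iff_mem_normalizer]
    have hQ : ((m • P : Sylow p S) : Subgroup S) ≤ C := by
      intro y hy
      rw [Sylow.coe_subgroup_smul, Subgroup.mem_pointwise_smul_iff_inv_smul_mem] at hy
      simp only [MulAut.smul_def, ← map_inv, MulAut.conj_apply, inv_inv] at hy
      have hyC : m⁻¹ * y * m ∈ C := hP hy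
      have hz : (⟨m⁻¹ * y * m, hCM hyC⟩ : M) ∈ C.subgroupOf M := by
        rw [Subgroup.mem_subgroupOf]; exact hyC
      have h3 := hCn.conj_mem _ hz ⟨m, hm⟩
      rw [Subgroup.mem_subgroupOf] at h3
      have h4 : y = m * (m⁻¹ * y * m) * m⁻¹ := by group
      rw [h4]
      simpa using h3
    have := hsub ((m • P : Sylow p S).subtype hQ) (P.subtype hP)
    exact Sylow.subtype_injective this
  -- normalizer is not top
  have hNtop : Subgroup.normalizer (P : Set S) ≠ ⊤ := by
    intro htop
    have hnorm : (P : Subgroup S).Normal := by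
      rw [← P.coe_coe] at htop
      exact Subgroup.normalizer_eq_top_iff.mp htop
    rcases hnorm.eq_bot_or_eq_top with hbot | htop'
    · exact P.ne_bot_of_dvd_card hp hbot
    · apply hS
      have hCtop : C = ⊤ := top_le_iff.mp (htop' ▸ hP)
      rw [isMulCommutative_iff]
      intro a b
      have ha : a ∈ C := hCtop ▸ Subgroup.mem_top a
      have hb : b ∈ C := hCtop ▸ Subgroup.mem_top b
      have := hcomm ⟨a, ha⟩ ⟨b, hb⟩
      exact congrArg Subtype.val this
  have hNM : Subgroup.normalizer (P : Set S) = M := by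
    rcases (hM.le_iff).mp hMN with h | h
    · exact absurd h hNtop
    · exact h
  rw [Sylow.card_eq_index_normalizer P, hNM]

end Cfsg.Agent.S4344
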