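import Cfsg.Statements.S4345
import Cfsg.Agent.Lib.Helper72.SylowStep
import Cfsg.Agent.Lib.Helper1.Basic

set_option autoImplicit false
open Cfsg

namespace Cfsg.Agent.S4345

universe u

theorem pow_factorization_prime_pow (q b ℓ : ℕ) (hq : q.Prime) (hℓ : ℓ.Prime) :
    ℓ ^ (q ^ b).factorization ℓ = q ^ b ∨ ℓ ^ (q ^ b).factorization ℓ = 1 := by
  by_cases h : ℓ = q
  · subst h
    left
    rw [Nat.Prime.factorization_pow hℓ]
    simp
  · right
    rw [Nat.Prime.factorization_pow hq]
    simp [Ne.symm h]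

theorem main (p : ℕ) [Fact p.Prime] (ℓ : ℕ) (hℓ : ℓ.Prime) (G : Type u) [Group G] [Finite G] :
    Group.IsSolvable G → ℓ ^ (Nat.card (Sylow p G)).factorization ℓ ≡ 1 [MOD p] := by
  refine Cfsg.Agent.Lib.Helper1.finite_group_induction
    (P := fun G _ => Group.IsSolvable G → ℓ ^ (Nat.card (Sylow p G)).factorization ℓ ≡ 1 [MOD p])
    ?_ G
  intro G _ _ ih hG
  rcases subsingleton_or_nontrivial G with hsub | hnt
  · have h1 : Nat.card (Sylow p G) = 1 := by
      obtain ⟨P⟩ := (inferInstance : Nonempty (Sylow p G))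
      have h2 : Nat.card (Sylow p G) ∣ Nat.card G :=
        (Sylow.card_dvd_index P).trans (Subgroup.index_dvd_card _)
      rw [Nat.card_of_subsingleton (1 : G)] at h2
      exact Nat.dvd_one.mp h2
    rw [h1]
    simp [Nat.ModEq]
  · have hs : Group.IsSolvable (⊤ : Subgroup G) := inferInstance
    have htop : (⊤ : Subgroup G) ≠ ⊥ := top_ne_bot
    obtain ⟨q, R, hq, _, hRn, hRne, _, hRx⟩ :=
      Cfsg.Agent.Lib.Helper1.exists_normal_elementary_le (⊤ : Subgroup G) hs htop
    have hlt : Nat.card (G ⧸ R) < Nat.card G := by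
      rw [← Subgroup.index_eq_card, ← Subgroup.card_mul_index R]
      have h1 : 1 < Nat.card R := by
        rw [Subgroup.one_lt_card_iff_ne_bot]; exact hRne
      have h2 : 0 < R.index := Nat.pos_of_ne_zero Subgroup.index_ne_zero_of_finite
      nlinarith
    have ih' := ih (G ⧸ R) hlt inferInstance
    obtain ⟨m, hm1, hm2, hm3⟩ :=
      Cfsg.Agent.Lib.Helper72.card_sylow_eq_card_sylow_quotient_mul (p := p) R
    have hRcard : ∃ n, Nat.card R = q ^ n := by
      have : Fact q.Prime := ⟨hq⟩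
      have hRp : IsPGroup q R := by
        intro g
        refine ⟨1, ?_⟩
        rw [pow_one]
        apply Subtype.ext
        simpa using hRx g g.2
      exact (IsPGroup.iff_card.mp hRp)
    obtain ⟨n, hn⟩ := hRcard
    rw [hn] at hm2
    obtain ⟨b, _, rfl⟩ := (Nat.dvd_prime_pow hq).mp hm2
    rw [hm1]
    have hne1 : Nat.card (Sylow p (G ⧸ R)) ≠ 0 := Nat.card_pos.ne'
    have hne2 : q ^ b ≠ 0 := pow_ne_zero _ hq.ne_zero
    rw [Nat.factorization_mul hne1 hne2, Finsupp.add_apply, pow_add]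
    have h3 : ℓ ^ (q ^ b).factorization ℓ ≡ 1 [MOD p] := by
      rcases pow_factorization_prime_pow q b ℓ hq hℓ with h | h
      · rw [h]; exact hm3
      · rw [h]
    have := Nat.ModEq.mul ih' h3
    simpa using this

theorem result {G : Type*} [Group G] [Finite G]
    (hG : Group.IsSolvable G) (p ℓ : ℕ) [Fact p.Prime] (hℓ : ℓ.Prime) :
    ℓ ^ (Nat.card (Sylow p G)).factorization ℓ ≡ 1 [MOD p] :=
  main p ℓ hℓ G hG

end Cfsg.Agent.S4345
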