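import Cfsg.Statements.S4349
import Cfsg.Agent.Lib.Helper72.PermOrb
import Cfsg.Agent.Lib.Helper72.PermSq
import Cfsg.Agent.Lib.Helper72.TwoSylowSym
import Cfsg.Agent.Lib.Helper72.SylowUniq
import Cfsg.Agent.Lib.Helper72.SwapInSylow

set_option autoImplicit false
open Cfsg

namespace Cfsg.Agent.S4349

open Equiv Equiv.Perm Cfsg.Agent.Lib.Helper72

/-- the fixed points of `x` -/
theorem card_fixed_add_card_support {n : ℕ} (x : Perm (Fin n)) :
    (Finset.univ.filter (fun a => x a = a)).card + x.support.card = n := by
  have h := Finset.card_filter_add_card_filter_not (s := (Finset.univ : Finset (Fin n)))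
    (fun a => x a = a)
  have h2 : Finset.univ.filter (fun a => ¬ x a = a) = x.support := by
    ext a; simp [Perm.mem_support]
  rw [h2] at h
  simpa using h

theorem cycHyp_univ {n : ℕ} (x : Perm (Fin n)) (h1 : n ≤ x.support.card + 2)
    (h2 : x.cycleType.Nodup) : CycHyp x Finset.univ := by
  constructor
  · have := card_fixed_add_card_support x
    omega
  · intro a _ b _ hxa hab
    have hb : x b ≠ b := by
      intro hxb
      have h3 : 2 ≤ clen x a := two_le_card_support_cycleOf_iff.mpr hxa
      have h4 : clen x b = 0 := by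
        unfold clen
        rw [(cycleOf_eq_one_iff x).mpr hxb]; simp
      omega
    rw [cycleType_def] at h2
    have hinj := (Multiset.nodup_map_iff_inj_on x.cycleFactorsFinset.nodup).mp h2
    have ha' : a ∈ x.support := Perm.mem_support.mpr hxa
    have hb' : b ∈ x.support := Perm.mem_support.mpr hb
    have := hinj (x.cycleOf a) (cycleOf_mem_cycleFactorsFinset_iff.mpr ha') (x.cycleOf b)
      (cycleOf_mem_cycleFactorsFinset_iff.mpr hb') hab
    exact (sameCycle_iff_cycleOf_eq_of_mem_support ha' hb').mpr this

theorem isPGroup_normalizer {n : ℕ} (x : Perm (Fin n)) (h1 : n ≤ x.support.card + 2)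
    (h2 : x.cycleType.Nodup) (D : Subgroup (Perm (Fin n))) (hD : IsPGroup 2 D) (hxD : x ∈ D) :
    IsPGroup 2 (Subgroup.normalizer (D : Set (Perm (Fin n)))) := by
  rintro ⟨g, hg⟩
  have hpos : orderOf g ≠ 0 := (orderOf_pos g).ne'
  obtain ⟨j, m, hm, hjm⟩ := Nat.exists_eq_two_pow_mul_odd hpos
  refine ⟨j, ?_⟩
  apply Subtype.ext
  change g ^ 2 ^ j = 1
  have hg' : g ^ 2 ^ j ∈ Subgroup.normalizer (D : Set (Perm (Fin n))) := Subgroup.pow_mem _ hg _
  have hgm : (g ^ 2 ^ j) ^ m = 1 := by
    rw [← pow_mul, ← hjm, pow_orderOf_eq_one]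
  have := fix_of_normalizes_two_group _ Finset.univ rfl x (g ^ 2 ^ j) D hD hxD hg' m hm hgm
    (fun _ _ _ _ => Finset.mem_univ _) (fun _ _ => Finset.mem_univ _) (cycHyp_univ x h1 h2)
  ext a
  rw [this a (Finset.mem_univ a)]
  simp

/-- Let n ≥ 2 and let x be an element of 2-power order of the symmetric group of degree n. Then x lies in exactly one Sylow 2-subgroup if and only if x has at most two fixed points and the nontrivial cycles of x have pairwise different lengths. -/
theorem result (n : ℕ) (hn : 2 ≤ n)
    (x : Equiv.Perm (Fin n)) (hx : ∃ k : ℕ, orderOf x = 2 ^ k) :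
    (∃! P : Sylow 2 (Equiv.Perm (Fin n)), x ∈ P) ↔ (n ≤ x.support.card + 2 ∧ x.cycleType.Nodup) := by
  have : Fact (Nat.Prime 2) := ⟨Nat.prime_two⟩
  constructor
  · rintro ⟨P, hxP, huniq⟩
    have huniq' : ∀ Q : Sylow 2 (Perm (Fin n)), x ∈ Q → Q = P := fun Q hQ => huniq Q hQ
    constructor
    · by_contra hcon
      have h1 := card_fixed_add_card_support x
      have h2 : 2 < (Finset.univ.filter (fun a => x a = a)).card := by omega
      obtain ⟨a, b, c, ha, hb, hc, hab, hac, hbc⟩ := Finset.two_lt_card_iff.mp h2
      have hxa : x a = a := (Finset.mem_filter.mp ha).2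
      have hxb : x b = b := (Finset.mem_filter.mp hb).2
      have hxc : x c = c := (Finset.mem_filter.mp hc).2
      have key : ∀ u v : Fin n, x u = u → x v = v → u ≠ v → swap u v ∈ P := by
        intro u v hu hv huv
        apply swap_mem_of_unique_sylow huniq' hx
        · intro m
          rw [pow_apply_eq_self_of_apply_eq_self hu, pow_apply_eq_self_of_apply_eq_self hv]
          simp
        · intro i j
          rw [pow_apply_eq_self_of_apply_eq_self hu, pow_apply_eq_self_of_apply_eq_self hv]
          exact huv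
      exact false_of_swap_swap_mem hab hac hbc (key a b hxa hxb hab) (key a c hxa hxc hac)
    · by_contra hcon
      rw [cycleType_def, Multiset.nodup_map_iff_inj_on x.cycleFactorsFinset.nodup] at hcon
      push Not at hcon
      obtain ⟨c1, hc1, c2, hc2, hcard, hne⟩ := hcon
      have hc1' : c1 ∈ x.cycleFactorsFinset := hc1
      have hc2' : c2 ∈ x.cycleFactorsFinset := hc2
      have hcyc1 := (mem_cycleFactorsFinset_iff.mp hc1').1
      have hcyc2 := (mem_cycleFactorsFinset_iff.mp hc2').1
      obtain ⟨u, hu⟩ : c1.support.Nonempty := by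
        rw [← Finset.card_pos]; have := hcyc1.two_le_card_support; omega
      obtain ⟨v, hv⟩ : c2.support.Nonempty := by
        rw [← Finset.card_pos]; have := hcyc2.two_le_card_support; omega
      have h1 : c1 = x.cycleOf u := cycle_is_cycleOf hu hc1'
      have h2 : c2 = x.cycleOf v := cycle_is_cycleOf hv hc2'
      have hxu : x u ≠ u := Perm.mem_support.mp (mem_cycleFactorsFinset_support_le hc1' hu)
      have hxv : x v ≠ v := Perm.mem_support.mp (mem_cycleFactorsFinset_support_le hc2' hv)
      have hcard' : c1.support.card = c2.support.card := hcard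
      -- period characterisation
      have hperiod : ∀ (w : Fin n), x w ≠ w → ∀ m : ℕ,
          ((x ^ m) w = w ↔ (x.cycleOf w).support.card ∣ m) := by
        intro w hw m
        have hcyc := isCycle_cycleOf x hw
        rw [← cycleOf_pow_apply_self, ← hcyc.orderOf, orderOf_dvd_iff_pow_eq_one]
        have hw' : (x.cycleOf w) w ≠ w := by rw [cycleOf_apply_self]; exact hw
        exact (hcyc.pow_eq_one_iff' hw').symm
      have hper : ∀ m : ℕ, (x ^ m) u = u ↔ (x ^ m) v = v := by
        intro m
        rw [hperiod u hxu, hperiod v hxv, ← h1, ← h2, hcard']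
      have hnsame : ¬ x.SameCycle u v := by
        intro hs
        apply hne
        rw [h1, h2]
        exact hs.cycleOf_eq
      have hdiff : ∀ i j : ℕ, (x ^ i) u ≠ (x ^ j) v := by
        intro i j hij
        apply hnsame
        have s1 : x.SameCycle u ((x ^ i) u) := sameCycle_pow_right.mpr (SameCycle.refl x u)
        have s2 : x.SameCycle v ((x ^ j) v) := sameCycle_pow_right.mpr (SameCycle.refl x v)
        rw [hij] at s1
        exact s1.trans s2.symm
      have hper2 : ∀ m : ℕ, (x ^ m) u = u ↔ (x ^ m) (x v) = x v := by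
        intro m
        rw [hper m]
        have hcomm : (x ^ m) (x v) = x ((x ^ m) v) := by
          rw [← Perm.mul_apply, ← Perm.mul_apply, ← pow_succ, ← pow_succ']
        rw [hcomm]
        exact ⟨fun h => by rw [h], fun h => x.injective h⟩
      have hdiff2 : ∀ i j : ℕ, (x ^ i) u ≠ (x ^ j) (x v) := by
        intro i j
        have := hdiff i (j + 1)
        rwa [pow_succ, Perm.mul_apply] at this
      have hs1 := swap_mem_of_unique_sylow huniq' hx hper hdiff
      have hs2 := swap_mem_of_unique_sylow huniq' hx hper2 hdiff2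
      have huv : u ≠ v := by simpa using hdiff 0 0
      have huxv : u ≠ x v := by simpa using hdiff 0 1
      exact false_of_swap_swap_mem huv huxv (Ne.symm hxv) hs1 hs2
  · rintro ⟨h1, h2⟩
    have hZ2 : IsPGroup 2 (Subgroup.zpowers x) := by
      obtain ⟨k, hk⟩ := hx
      apply IsPGroup.of_card (n := k)
      rw [Nat.card_zpowers, hk]
    obtain ⟨P, hP⟩ := hZ2.exists_le_sylow
    refine ⟨P, hP (Subgroup.mem_zpowers x), ?_⟩
    intro Q hQ
    exact sylow_unique_of_normalizer_pGroup x (isPGroup_normalizer x h1 h2) Q P hQ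
      (hP (Subgroup.mem_zpowers x))

end Cfsg.Agent.S4349
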