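import Cfsg.Statements.S4354

set_option autoImplicit false
open Cfsg

namespace Cfsg.Agent.S4354

open Subgroup

section aux

variable {G : Type*} [Group G] [Finite G] {p : ℕ} [Fact p.Prime]

/-- A subgroup of index prime to `p` contains a Sylow `p`-subgroup. -/
theorem exists_sylow_le_of_not_dvd_index (C : Subgroup G) (h : ¬ p ∣ C.index) :
    ∃ P : Sylow p G, (P : Subgroup G) ≤ C := by
  obtain ⟨R⟩ : Nonempty (Sylow p C) := inferInstance
  have hpg : IsPGroup p ((R : Subgroup C).map C.subtype) := R.isPGroup'.map _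
  have hidx : ¬ p ∣ ((R : Subgroup C).map C.subtype).index := by
    rw [Subgroup.index_map_subtype]
    exact Nat.Prime.not_dvd_mul Fact.out R.not_dvd_index h
  refine ⟨hpg.toSylow hidx, ?_⟩
  rw [IsPGroup.toSylow_coe]
  exact Subgroup.map_subtype_le _

/-- For a normal subgroup `N`, the index `|N : C ∩ N|` divides `|G : C|`. -/
theorem relIndex_dvd_index_of_normal_right (C N : Subgroup G) [N.Normal] :
    C.relIndex N ∣ C.index := by
  have h1 : (C ⊓ N).relIndex (C ⊔ N) = C.relIndex N * N.relIndex C := by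
    rw [← Subgroup.relIndex_mul_relIndex (C ⊓ N) N (C ⊔ N) inf_le_right le_sup_right,
      Subgroup.inf_relIndex_right, Subgroup.relIndex_sup_right]
  have h2 : (C ⊓ N).relIndex (C ⊔ N) = N.relIndex C * C.relIndex (C ⊔ N) := by
    rw [← Subgroup.relIndex_mul_relIndex (C ⊓ N) C (C ⊔ N) inf_le_left le_sup_left,
      Subgroup.inf_relIndex_left]
  have h3 : N.relIndex C ≠ 0 := by
    show (N.subgroupOf C).index ≠ 0
    exact Subgroup.index_ne_zero_of_finite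
  have h4 : C.relIndex N = C.relIndex (C ⊔ N) := by
    have : N.relIndex C * C.relIndex N = N.relIndex C * C.relIndex (C ⊔ N) := by
      rw [← h2, h1, mul_comm]
    exact Nat.eq_of_mul_eq_mul_left (Nat.pos_of_ne_zero h3) this
  rw [h4]
  exact Subgroup.relIndex_dvd_index_of_le le_sup_left


omit [Fact p.Prime] in
/-- `p`-centrality of all `p`-elements passes to normal subgroups. -/
theorem pcentral_normal (N : Subgroup G) [N.Normal]
    (hc : ∀ x : G, (∃ k : ℕ, orderOf x = p ^ k) →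
      ¬ p ∣ (Subgroup.centralizer ({x} : Set G)).index) :
    ∀ x : N, (∃ k : ℕ, orderOf x = p ^ k) →
      ¬ p ∣ (Subgroup.centralizer ({x} : Set N)).index := by
  rintro x ⟨k, hk⟩
  have h1 : ¬ p ∣ (Subgroup.centralizer ({(x : G)} : Set G)).index :=
    hc (x : G) ⟨k, by rw [Subgroup.orderOf_coe]; exact hk⟩
  have h2 : Subgroup.centralizer ({x} : Set N) =
      (Subgroup.centralizer ({(x : G)} : Set G)).subgroupOf N := by
    ext z
    rw [Subgroup.mem_subgroupOf, Subgroup.mem_centralizer_singleton_iff,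
      Subgroup.mem_centralizer_singleton_iff, Subtype.ext_iff]
    simp
  rw [h2]
  intro hdvd
  exact h1 (dvd_trans hdvd (relIndex_dvd_index_of_normal_right _ N))

/-- A `p`-element of a quotient lifts to a `p`-element. -/
theorem exists_pelt_lift (N : Subgroup G) [N.Normal] (x : G ⧸ N)
    (hx : ∃ k : ℕ, orderOf x = p ^ k) :
    ∃ y : G, (y : G ⧸ N) = x ∧ ∃ j : ℕ, orderOf y = p ^ j := by
  have hp : p.Prime := Fact.out
  obtain ⟨k, hk⟩ := hx
  obtain ⟨g, rfl⟩ := QuotientGroup.mk_surjective x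
  have hn : orderOf g ≠ 0 := (orderOf_pos g).ne'
  obtain ⟨a, m, hm, hnm⟩ := Nat.exists_eq_pow_mul_and_not_dvd hn p hp.ne_one
  have hcop : m.Coprime (orderOf (g : G ⧸ N)) := by
    rw [hk]
    exact Nat.Coprime.pow_right k ((Nat.Prime.coprime_iff_not_dvd hp).2 hm).symm
  obtain ⟨u, hu⟩ := exists_pow_eq_self_of_coprime hcop
  refine ⟨(g ^ m) ^ u, ?_, ?_⟩
  · rw [QuotientGroup.mk_pow, QuotientGroup.mk_pow]
    exact hu
  · have h1 : ((g ^ m) ^ u) ^ (p ^ a) = 1 := by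
      rw [← pow_mul, ← pow_mul, show m * (u * p ^ a) = (p ^ a * m) * u by ring, ← hnm, pow_mul,
        pow_orderOf_eq_one, one_pow]
    obtain ⟨j, -, hj⟩ := (Nat.dvd_prime_pow hp).1 (orderOf_dvd_of_pow_eq_one h1)
    exact ⟨j, hj⟩

/-- `p`-centrality of all `p`-elements passes to quotients. -/
theorem pcentral_quotient (N : Subgroup G) [N.Normal]
    (hc : ∀ x : G, (∃ k : ℕ, orderOf x = p ^ k) →
      ¬ p ∣ (Subgroup.centralizer ({x} : Set G)).index) :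
    ∀ x : G ⧸ N, (∃ k : ℕ, orderOf x = p ^ k) →
      ¬ p ∣ (Subgroup.centralizer ({x} : Set (G ⧸ N))).index := by
  intro x hx
  obtain ⟨y, rfl, hy⟩ := exists_pelt_lift N x hx
  have h1 := hc y hy
  have h2 : (Subgroup.centralizer ({y} : Set G)).map (QuotientGroup.mk' N) ≤
      Subgroup.centralizer ({(y : G ⧸ N)} : Set (G ⧸ N)) := by
    rintro _ ⟨c, hcc, rfl⟩
    rw [SetLike.mem_coe] at hcc
    rw [Subgroup.mem_centralizer_singleton_iff] at hcc ⊢
    show (c : G ⧸ N) * (y : G ⧸ N) = (y : G ⧸ N) * (c : G ⧸ N)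
    rw [← QuotientGroup.mk_mul, ← QuotientGroup.mk_mul, hcc]
  intro hdvd
  exact h1 (dvd_trans hdvd (dvd_trans (Subgroup.index_dvd_of_le h2)
    (Subgroup.index_map_dvd _ (QuotientGroup.mk'_surjective N))))


/-- Key step (fusion in an abelian Sylow subgroup of the quotient): every element of `P` is the
product of a central element of `P` and an element of `N`. -/
theorem exists_central_mul (N : Subgroup G) [N.Normal] (P : Sylow p G)
    (hc : ∀ x : G, (∃ k : ℕ, orderOf x = p ^ k) →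
      ¬ p ∣ (Subgroup.centralizer ({x} : Set G)).index)
    (hq : ∀ a ∈ (P : Subgroup G), ∀ b ∈ (P : Subgroup G),
      (a : G ⧸ N) * (b : G ⧸ N) = (b : G ⧸ N) * (a : G ⧸ N))
    (y : G) (hy : y ∈ (P : Subgroup G)) :
    ∃ z ∈ (P : Subgroup G), (∀ b ∈ (P : Subgroup G), z * b = b * z) ∧ z⁻¹ * y ∈ N := by
  have hyp : ∃ k : ℕ, orderOf y = p ^ k := by
    obtain ⟨k, hk⟩ := (IsPGroup.iff_orderOf.1 P.isPGroup') ⟨y, hy⟩
    exact ⟨k, by rw [← hk, Subgroup.orderOf_mk]⟩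
  obtain ⟨Q, hQ⟩ := exists_sylow_le_of_not_dvd_index _ (hc y hyp)
  obtain ⟨g, hg⟩ := MulAction.exists_smul_eq G P Q
  obtain ⟨y', hy'⟩ : ∃ y' : G, y' = g⁻¹ * y * g := ⟨_, rfl⟩
  -- `y'` commutes with `P`
  have hcomm : ∀ b ∈ (P : Subgroup G), y' * b = b * y' := by
    intro b hb
    have hmem : g * b * g⁻¹ ∈ (Q : Subgroup G) := by
      rw [← hg, Sylow.coe_subgroup_smul]
      exact ⟨b, hb, rfl⟩
    have h1 := hQ hmem
    rw [Subgroup.mem_centralizer_singleton_iff] at h1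
    calc y' * b = g⁻¹ * (y * (g * b * g⁻¹)) * g := by rw [hy']; group
      _ = g⁻¹ * (g * b * g⁻¹ * y) * g := by rw [h1]
      _ = b * y' := by rw [hy']; group
  -- `y'` lies in `P`
  have hy'P : y' ∈ (P : Subgroup G) := by
    obtain ⟨k, hk⟩ := hyp
    have hsc : SemiconjBy g⁻¹ y y' := by
      show g⁻¹ * y = y' * g⁻¹
      rw [hy']; group
    have hpg : IsPGroup p (Subgroup.zpowers y') := by
      apply IsPGroup.of_card (n := k)
      rw [Nat.card_zpowers, ← hsc.orderOf_eq, hk]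
    have hnorm : y' ∈ Subgroup.normalizer ((P : Subgroup G) : Set G) :=
      Subgroup.centralizer_le_normalizer _
        (Subgroup.mem_centralizer_iff.2 (fun b hb => (hcomm b hb).symm))
    have hinf := hpg.inf_normalizer_sylow P
    exact (Subgroup.mem_inf.1 (hinf.le (Subgroup.mem_inf.2 ⟨Subgroup.mem_zpowers y', hnorm⟩))).2
  -- the preimage of the centralizer of the image of `y'`
  obtain ⟨Ct, hCt⟩ : ∃ Ct : Subgroup G, Ct =
      (Subgroup.centralizer ({(y' : G ⧸ N)} : Set (G ⧸ N))).comap (QuotientGroup.mk' N) :=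
    ⟨_, rfl⟩
  have hmemCt : ∀ x : G, x ∈ Ct ↔
      (x : G ⧸ N) * (y' : G ⧸ N) = (y' : G ⧸ N) * (x : G ⧸ N) := by
    intro x
    rw [hCt, Subgroup.mem_comap, Subgroup.mem_centralizer_singleton_iff]
    rfl
  have h1 : (P : Subgroup G) ≤ Ct := by
    intro b hb
    rw [hmemCt, ← QuotientGroup.mk_mul, ← QuotientGroup.mk_mul, hcomm b hb]
  have h2 : ((g⁻¹ • P : Sylow p G) : Subgroup G) ≤ Ct := by
    intro x hx
    rw [Sylow.coe_subgroup_smul] at hx
    obtain ⟨b, hb, rfl⟩ := (Subgroup.mem_smul_pointwise_iff_exists _ _ _).1 hx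
    rw [hmemCt]
    have e := hq b hb y hy
    have hx1 : ((MulAut.conj g⁻¹ • b : G) : G ⧸ N) =
        (g : G ⧸ N)⁻¹ * (b : G ⧸ N) * (g : G ⧸ N) := by
      rw [MulAut.smul_def, MulAut.conj_apply, inv_inv, QuotientGroup.mk_mul, QuotientGroup.mk_mul,
        QuotientGroup.mk_inv]
    have hx2 : ((y' : G) : G ⧸ N) = (g : G ⧸ N)⁻¹ * (y : G ⧸ N) * (g : G ⧸ N) := by
      rw [hy', QuotientGroup.mk_mul, QuotientGroup.mk_mul, QuotientGroup.mk_inv]
    rw [hx1, hx2]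
    calc (g : G ⧸ N)⁻¹ * (b : G ⧸ N) * (g : G ⧸ N) *
          ((g : G ⧸ N)⁻¹ * (y : G ⧸ N) * (g : G ⧸ N))
        = (g : G ⧸ N)⁻¹ * ((b : G ⧸ N) * (y : G ⧸ N)) * (g : G ⧸ N) := by group
      _ = (g : G ⧸ N)⁻¹ * ((y : G ⧸ N) * (b : G ⧸ N)) * (g : G ⧸ N) := by rw [e]
      _ = _ := by group
  obtain ⟨c, hcc⟩ := MulAction.exists_smul_eq Ct ((g⁻¹ • P).subtype h2) (P.subtype h1)
  simp_rw [Sylow.smul_subtype, Subgroup.smul_def, smul_smul] at hcc
  have hn : (c : G) * g⁻¹ ∈ Subgroup.normalizer ((P : Subgroup G) : Set G) :=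
    Sylow.smul_eq_iff_mem_normalizer.mp (Sylow.subtype_injective hcc)
  obtain ⟨n, hndef⟩ : ∃ n : G, n = (c : G) * g⁻¹ := ⟨_, rfl⟩
  rw [← hndef] at hn
  have hcCt := (hmemCt (c : G)).1 c.2
  refine ⟨n⁻¹ * y' * n, ?_, ?_, ?_⟩
  · have hn' : n⁻¹ ∈ Subgroup.normalizer ((P : Subgroup G) : Set G) := inv_mem hn
    have := (Subgroup.mem_normalizer_iff.1 hn' y').1 hy'P
    rwa [inv_inv] at this
  · intro b hb
    have hb' : n * b * n⁻¹ ∈ (P : Subgroup G) := (Subgroup.mem_normalizer_iff.1 hn b).1 hb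
    have e := hcomm _ hb'
    calc n⁻¹ * y' * n * b = n⁻¹ * (y' * (n * b * n⁻¹)) * n := by group
      _ = n⁻¹ * (n * b * n⁻¹ * y') * n := by rw [e]
      _ = b * (n⁻¹ * y' * n) := by group
  · rw [← QuotientGroup.eq]
    have hx2 : ((y' : G) : G ⧸ N) = (g : G ⧸ N)⁻¹ * (y : G ⧸ N) * (g : G ⧸ N) := by
      rw [hy', QuotientGroup.mk_mul, QuotientGroup.mk_mul, QuotientGroup.mk_inv]
    have hc1 : ((c : G) : G ⧸ N)⁻¹ * (y' : G ⧸ N) * ((c : G) : G ⧸ N) = (y' : G ⧸ N) := by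
      rw [mul_assoc, ← hcCt, inv_mul_cancel_left]
    have hnbar : (n : G ⧸ N) = ((c : G) : G ⧸ N) * (g : G ⧸ N)⁻¹ := by
      rw [hndef, QuotientGroup.mk_mul, QuotientGroup.mk_inv]
    rw [QuotientGroup.mk_mul, QuotientGroup.mk_mul, QuotientGroup.mk_inv, hnbar]
    calc (((c : G) : G ⧸ N) * (g : G ⧸ N)⁻¹)⁻¹ * (y' : G ⧸ N) * (((c : G) : G ⧸ N) * (g : G ⧸ N)⁻¹)
        = (g : G ⧸ N) * (((c : G) : G ⧸ N)⁻¹ * (y' : G ⧸ N) * ((c : G) : G ⧸ N)) * (g : G ⧸ N)⁻¹ := by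
          group
      _ = (g : G ⧸ N) * (y' : G ⧸ N) * (g : G ⧸ N)⁻¹ := by rw [hc1]
      _ = (y : G ⧸ N) := by rw [hx2]; group

end aux

/-- Let G be a finite group and p a prime such that the Sylow p-subgroups of G are non-abelian while every element of p-power order has conjugacy class size prime to p, and suppose no nontrivial proper normal subgroup N of G has this property and no quotient G/N by such an N has it. Then G is simple. -/
theorem result {G : Type*} [Group G] [Finite G]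
    (p : ℕ) [Fact p.Prime] (h : ((∃ P : Sylow p G, ¬ IsMulCommutative P) ∧ ∀ x : G, (∃ k : ℕ, orderOf x = p ^ k) → ¬ p ∣ (Subgroup.centralizer ({x} : Set G)).index))
    (hmin : ∀ (N : Subgroup G) [N.Normal], N ≠ ⊥ → N ≠ ⊤ →
      ¬ ((∃ P : Sylow p N, ¬ IsMulCommutative P) ∧ ∀ x : N, (∃ k : ℕ, orderOf x = p ^ k) → ¬ p ∣ (Subgroup.centralizer ({x} : Set N)).index) ∧
      ¬ ((∃ P : Sylow p (G ⧸ N), ¬ IsMulCommutative P) ∧ ∀ x : (G ⧸ N), (∃ k : ℕ, orderOf x = p ^ k) → ¬ p ∣ (Subgroup.centralizer ({x} : Set (G ⧸ N))).index)) :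
    IsSimpleGroup G := by
  obtain ⟨⟨P, hP⟩, hc⟩ := h
  have hnt : Nontrivial G := by
    by_contra hnt
    rw [not_nontrivial_iff_subsingleton] at hnt
    exact hP ⟨⟨fun a b => Subsingleton.elim _ _⟩⟩
  by_contra hns
  have hex : ∃ N : Subgroup G, N.Normal ∧ N ≠ ⊥ ∧ N ≠ ⊤ := by
    by_contra hno
    push Not at hno
    exact hns ⟨fun N hN => by
      by_cases hb : N = ⊥
      · exact Or.inl hb
      · exact Or.inr (hno N hN hb)⟩
  obtain ⟨N, hN, hNb, hNt⟩ := hex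
  have := hN
  obtain ⟨h1, h2⟩ := hmin N hNb hNt
  have hcN := pcentral_normal N hc
  have hcQ := pcentral_quotient N hc
  have hN_ab : ∀ R : Sylow p N, IsMulCommutative R := by
    intro R
    by_contra hR
    exact h1 ⟨⟨R, hR⟩, hcN⟩
  have hQ_ab : ∀ R : Sylow p (G ⧸ N), IsMulCommutative R := by
    intro R
    by_contra hR
    exact h2 ⟨⟨R, hR⟩, hcQ⟩
  -- images of elements of `P` commute in the quotient
  have hq : ∀ a ∈ (P : Subgroup G), ∀ b ∈ (P : Subgroup G),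
      (a : G ⧸ N) * (b : G ⧸ N) = (b : G ⧸ N) * (a : G ⧸ N) := by
    obtain ⟨S, hS⟩ := (P.isPGroup'.map (QuotientGroup.mk' N)).exists_le_sylow
    have := hQ_ab S
    intro a ha b hb
    have ha' : (a : G ⧸ N) ∈ (S : Subgroup (G ⧸ N)) := hS ⟨a, ha, rfl⟩
    have hb' : (b : G ⧸ N) ∈ (S : Subgroup (G ⧸ N)) := hS ⟨b, hb, rfl⟩
    have := mul_comm' (⟨_, ha'⟩ : S) ⟨_, hb'⟩
    exact congrArg Subtype.val this
  -- elements of `P ∩ N` commute
  have hn : ∀ a ∈ (P : Subgroup G), a ∈ N → ∀ b ∈ (P : Subgroup G), b ∈ N → a * b = b * a := by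
    obtain ⟨R, hR⟩ := (P.isPGroup'.comap_subtype (K := N)).exists_le_sylow
    have := hN_ab R
    intro a ha haN b hb hbN
    have ha' : (⟨a, haN⟩ : N) ∈ (R : Subgroup N) := hR (Subgroup.mem_subgroupOf.2 ha)
    have hb' : (⟨b, hbN⟩ : N) ∈ (R : Subgroup N) := hR (Subgroup.mem_subgroupOf.2 hb)
    have := mul_comm' (⟨_, ha'⟩ : R) ⟨_, hb'⟩
    exact congrArg (fun t : R => ((t : N) : G)) this
  -- `P` is abelian, a contradiction
  apply hP
  refine ⟨⟨?_⟩⟩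
  rintro ⟨y₁, hy₁⟩ ⟨y₂, hy₂⟩
  obtain ⟨z₁, hz₁, hz₁c, ha₁⟩ := exists_central_mul N P hc hq y₁ hy₁
  obtain ⟨z₂, hz₂, hz₂c, ha₂⟩ := exists_central_mul N P hc hq y₂ hy₂
  have ha₁P : z₁⁻¹ * y₁ ∈ (P : Subgroup G) := mul_mem (inv_mem hz₁) hy₁
  have ha₂P : z₂⁻¹ * y₂ ∈ (P : Subgroup G) := mul_mem (inv_mem hz₂) hy₂
  have e := hn _ ha₁P ha₁ _ ha₂P ha₂
  have e1 := hz₁c _ ha₂P
  have e2 := hz₂c _ ha₁P
  have e3 := hz₁c _ hz₂
  apply Subtype.ext
  show y₁ * y₂ = y₂ * y₁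
  calc y₁ * y₂ = z₁ * ((z₁⁻¹ * y₁) * z₂) * (z₂⁻¹ * y₂) := by group
    _ = z₁ * (z₂ * (z₁⁻¹ * y₁)) * (z₂⁻¹ * y₂) := by rw [e2]
    _ = (z₁ * z₂) * ((z₁⁻¹ * y₁) * (z₂⁻¹ * y₂)) := by group
    _ = (z₂ * z₁) * ((z₂⁻¹ * y₂) * (z₁⁻¹ * y₁)) := by rw [e, e3]
    _ = z₂ * (z₁ * (z₂⁻¹ * y₂)) * (z₁⁻¹ * y₁) := by group
    _ = z₂ * ((z₂⁻¹ * y₂) * z₁) * (z₁⁻¹ * y₁) := by rw [e1]
    _ = y₂ * y₁ := by group

end Cfsg.Agent.S4354
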