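import Cfsg.Statements.S4357
import Cfsg.Agent.S2431
import Cfsg.Agent.Lib.Helper46.SL2Vec

set_option autoImplicit false
open Cfsg

namespace Cfsg.Agent.S4357

open Cfsg.Agent.Lib.Helper41
open scoped Pointwise

local notation "SL₂(" F ")" => Matrix.SpecialLinearGroup (Fin 2) F

/-- A cyclic Sylow subgroup is never redundant: its generator lies in no other Sylow subgroup. -/
theorem not_redundant_of_isCyclic {G : Type*} [Group G] [Finite G] {p : ℕ} [Fact p.Prime]
    (Q : Sylow p G) (hc : IsCyclic Q) :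
    ¬ (∀ x : G, (∃ k : ℕ, orderOf x = p ^ k) → ∃ P : Sylow p G, P ≠ Q ∧ x ∈ P) := by
  intro h
  obtain ⟨⟨x, hx⟩, hgen⟩ := hc.exists_generator
  have hord : ∃ k : ℕ, orderOf x = p ^ k := by
    obtain ⟨k, hk⟩ := (IsPGroup.iff_orderOf.mp Q.2) ⟨x, hx⟩
    exact ⟨k, by rw [← hk, Subgroup.orderOf_mk]⟩
  obtain ⟨P, hPQ, hxP⟩ := h x hord
  apply hPQ
  have hle : (Q : Subgroup G) ≤ P := by
    intro y hy
    obtain ⟨j, hj⟩ := Subgroup.mem_zpowers_iff.mp (hgen ⟨y, hy⟩)
    have : y = x ^ j := by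
      have := congrArg Subtype.val hj
      simpa using this.symm
    rw [this]
    exact Subgroup.zpow_mem _ hxP j
  exact Sylow.ext (Q.3 P.2 hle)

section CharP

variable {F : Type*} [Field F] [Fintype F]

open Cfsg.Agent.Lib.Helper46.SL2 in
/-- In the defining characteristic the Sylow subgroups of `SL₂(q)` intersect trivially, so none
is redundant. -/
theorem not_redundant_char (p : ℕ) [Fact p.Prime] [CharP F p] (Q : Sylow p (SL₂(F))) :
    ¬ (∀ x : SL₂(F), (∃ k : ℕ, orderOf x = p ^ k) → ∃ P : Sylow p (SL₂(F)), P ≠ Q ∧ x ∈ P) := by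
  intro h
  obtain ⟨n, -, hn⟩ := FiniteField.card F p
  have hcardG := Cfsg.Agent.Lib.Helper38.card_SL2 (F := F)
  have hdvd : p ∣ Nat.card (SL₂(F)) := by
    rw [hcardG, hn]
    exact (dvd_pow_self p n.pos.ne').mul_right _
  have hne : (Q : Subgroup (SL₂(F))) ≠ ⊥ := Q.ne_bot_of_dvd_card hdvd
  obtain ⟨⟨x, hxQ⟩, hx1⟩ := (Subgroup.ne_bot_iff_exists_ne_one.mp hne)
  have hx1' : x ≠ 1 := fun hh => hx1 (Subtype.ext hh)
  have hord : ∃ k : ℕ, orderOf x = p ^ k := by
    obtain ⟨k, hk⟩ := (IsPGroup.iff_orderOf.mp Q.2) ⟨x, hxQ⟩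
    exact ⟨k, by rw [← hk, Subgroup.orderOf_mk]⟩
  obtain ⟨P, hPQ, hxP⟩ := h x hord
  have hF : Fintype.card F = p ^ (n : ℕ) := hn
  obtain ⟨e, he, hQe⟩ := sylow_eq_stabVec hF Q
  obtain ⟨e', he', hPe⟩ := sylow_eq_stabVec hF P
  have hxe : mv x e = e := by
    have : x ∈ stabVec e := by rw [← hQe]; exact hxQ
    exact this
  have hxe' : mv x e' = e' := by
    have : x ∈ stabVec e' := by rw [← hPe]; exact hxP
    exact this
  have hdd : dd e e' = 0 := by
    by_contra hd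
    exact hx1' (eq_one_of_fix hxe hxe' hd)
  obtain ⟨c, hc⟩ := exists_smul_of_dd_eq_zero he hdd
  have hc0 : c ≠ 0 := by
    rintro rfl
    rw [zero_smul] at hc
    exact he' hc
  apply hPQ
  apply Sylow.ext
  rw [hPe, hQe, hc, stabVec_smul hc0]

end CharP

theorem le_normalizer_of_card_eq_two_mul {G : Type*} [Group G] [Finite G] (H K : Subgroup G)
    (hHK : H ≤ K) (hcard : Nat.card K = 2 * Nat.card H) :
    K ≤ Subgroup.normalizer (H : Set G) := by
  have h1 := Subgroup.card_mul_index (H.subgroupOf K)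
  rw [Nat.card_congr (Subgroup.subgroupOfEquivOfLe hHK).toEquiv, hcard] at h1
  have hpos : 0 < Nat.card H := Nat.card_pos
  have hidx : (H.subgroupOf K).index = 2 := by
    have : Nat.card H * (H.subgroupOf K).index = Nat.card H * 2 := by rw [h1]; ring
    exact Nat.eq_of_mul_eq_mul_left hpos this
  have hn : (H.subgroupOf K).Normal := Subgroup.normal_of_index_eq_two hidx
  exact (Subgroup.normal_subgroupOf_iff_le_normalizer hHK).mp hn

theorem mem_sylow_of_mem_center {G : Type*} [Group G] [Finite G] {p : ℕ} [Fact p.Prime]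
    (S P : Sylow p G) {x : G} (hxS : x ∈ S) (hxc : x ∈ Subgroup.center G) : x ∈ P := by
  obtain ⟨g, rfl⟩ := MulAction.exists_smul_eq G S P
  show x ∈ MulAut.conj g • (S : Subgroup G)
  rw [Subgroup.mem_smul_pointwise_iff_exists]
  refine ⟨x, hxS, ?_⟩
  rw [MulAut.smul_def, MulAut.conj_apply]
  rw [Subgroup.mem_center_iff] at hxc
  rw [hxc g, mul_inv_cancel_right]

section General

variable {F : Type*} [Field F]

theorem inverts_of_tr2_zero {x y : SL₂(F)} (hx : tr2 x = 0) (hy : tr2 y = 0)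
    (hxy : tr2 (y * x) = 0) : y * x * y⁻¹ = x⁻¹ := by
  apply mul_inv_eq_iff_eq_mul.mpr
  have dx := sl2_det x
  have dy := sl2_det y
  simp only [tr2, sl2_mul_00, sl2_mul_11] at hx hy hxy
  apply sl2_ext <;>
  simp only [sl2_mul_00, sl2_mul_01, sl2_mul_10, sl2_mul_11, sl2_inv_00, sl2_inv_01, sl2_inv_10,
    sl2_inv_11] <;> grind

theorem tr2_eq_zero_of_mul_self {y : SL₂(F)}
    (h : ((y * y : SL₂(F)) : Matrix (Fin 2) (Fin 2) F) = -1) : tr2 y = 0 := by
  have dy := sl2_det y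
  have e00 := congrFun (congrFun h 0) 0
  have e11 := congrFun (congrFun h 1) 1
  rw [sl2_mul_00] at e00
  rw [sl2_mul_11] at e11
  simp only [Matrix.neg_apply, Matrix.one_apply_eq] at e00 e11
  have h0 : (y 0 0 + y 1 1) ^ 2 = 0 := by
    linear_combination e00 + e11 + 2 * dy
  exact pow_eq_zero_iff (two_ne_zero) |>.mp h0

theorem mem_of_commute (S : Sylow 2 (SL₂(F))) {x y h : SL₂(F)}
    (hx : x ∉ Subgroup.center (SL₂(F))) (hy : y ∈ S) (hyx : y * x * y⁻¹ = x⁻¹)
    (hh : h ∈ Subgroup.normalizer ((S : Subgroup (SL₂(F))) : Set (SL₂(F))))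
    (hc : h * x = x * h) : h ∈ S := by
  have hconj := Cfsg.Agent.S2431.conj_of_inverter hx hyx hc
  have hmem : h * y * h⁻¹ ∈ S := ((Subgroup.mem_normalizer_iff.mp hh) y).mp hy
  have h2 : h * h ∈ S := by
    have : h * h = (h * y * h⁻¹) * y⁻¹ := by rw [hconj]; group
    rw [this]; exact mul_mem hmem (inv_mem hy)
  exact Cfsg.Agent.S2431.mem_sylow_of_sq_mem S h hh h2

end General

section Two

variable {F : Type*} [Field F] [Fintype F]

omit [Fintype F] in
theorem exists_other_sylow (S : Sylow 2 (SL₂(F))) {x y t : SL₂(F)}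
    (hx : x ∉ Subgroup.center (SL₂(F))) (hxS : x ∈ S) (hy : y ∈ S) (hyx : y * x * y⁻¹ = x⁻¹)
    (ht : t * x = x * t) (htS : t ∉ S) : ∃ P : Sylow 2 (SL₂(F)), P ≠ S ∧ x ∈ P := by
  refine ⟨t • S, ?_, ?_⟩
  · intro h
    rw [Sylow.smul_eq_iff_mem_normalizer] at h
    exact htS (mem_of_commute S hx hy hyx h ht)
  · show x ∈ MulAut.conj t • (S : Subgroup (SL₂(F)))
    rw [Subgroup.mem_smul_pointwise_iff_exists]
    refine ⟨x, hxS, ?_⟩
    rw [MulAut.smul_def, MulAut.conj_apply, ht, mul_inv_cancel_right]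

theorem tr2_sq_ne_four_of_two_pow (hodd : Fintype.card F % 2 = 1) {x : SL₂(F)}
    (hx : x ∉ Subgroup.center (SL₂(F))) (j : ℕ) (hj : x ^ 2 ^ j = 1) : tr2 x ^ 2 ≠ 4 := by
  intro ht4
  obtain ⟨p, hp⟩ := CharP.exists F
  have := hp
  have : Fact p.Prime := ⟨CharP.char_is_prime F p⟩
  have hpprime : p.Prime := Fact.out
  obtain ⟨n, -, hn⟩ := FiniteField.card F p
  have htr2 : tr2 (x ^ 2) = 2 := by
    have := Cfsg.Agent.S2430.tr2_pow_add_two x 0
    rw [zero_add, zero_add, pow_one, pow_zero, Cfsg.Agent.S2430.tr2_one] at this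
    rw [this]; linear_combination ht4
  have h1 : (x ^ 2) ^ p = 1 := Cfsg.Agent.S2430.pow_char_eq_one_of_tr2 p _ htr2
  rw [← pow_mul] at h1
  have hp2 : p ≠ 2 := by
    rintro rfl
    have h6 : 2 ∣ Fintype.card F := by rw [hn]; exact dvd_pow_self 2 n.pos.ne'
    omega
  have hd1 : orderOf x ∣ 2 * p := orderOf_dvd_of_pow_eq_one h1
  have hd2 : orderOf x ∣ 2 ^ j := orderOf_dvd_of_pow_eq_one hj
  have hd : orderOf x ∣ 2 := by
    obtain ⟨i, -, hxi⟩ := (Nat.dvd_prime_pow Nat.prime_two).mp hd2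
    rw [hxi] at hd1 ⊢
    have hcop : Nat.Coprime (2 ^ i) p :=
      Nat.Coprime.pow_left i ((Nat.coprime_primes Nat.prime_two hpprime).mpr (Ne.symm hp2))
    exact hcop.dvd_of_dvd_mul_right hd1
  have hxx : x * x = 1 := by rw [← pow_two]; exact orderOf_dvd_iff_pow_eq_one.mp hd
  have h2 : (2 : F) ≠ 0 := Torus.two_ne_zero_of_odd hodd
  rcases Torus.eq_one_or_negOne_of_mul_self h2 hxx with h | h
  · exact hx (h ▸ Subgroup.one_mem _)
  · exact hx (h ▸ Torus.negOne_mem_center)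

theorem card_centralizer_cases (hodd : Fintype.card F % 2 = 1) {x : SL₂(F)}
    (hτ4 : tr2 x ^ 2 ≠ 4) :
    Nat.card (Subgroup.centralizer ({x} : Set (SL₂(F)))) = Fintype.card F - 1 ∨
      Nat.card (Subgroup.centralizer ({x} : Set (SL₂(F)))) = Fintype.card F + 1 := by
  by_cases h : ∃ a : F, a * (tr2 x - a) = 1
  · obtain ⟨a, ha⟩ := h
    exact Or.inl (Cfsg.Agent.S2430.card_centralizer_split hodd hτ4 a ha)
  · exact Or.inr (Cfsg.Agent.S2430.card_centralizer_nonsplit hodd hτ4 (fun a ha => h ⟨a, ha⟩))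

omit [Fintype F] in
/-- Every non-central element of the quaternion group `⟨a, b⟩` is inverted by an element of it. -/
theorem exists_inverter_mem {S : Subgroup (SL₂(F))} {a b : SL₂(F)} {k : ℕ} (hk1 : 1 ≤ k)
    (ha : a ∈ S) (hb : b ∈ S) (hac : a ∉ Subgroup.center (SL₂(F)))
    (hba : b * a * b⁻¹ = a⁻¹) (hbb : b * b = a ^ 2 ^ k)
    (hcover : ∀ x ∈ S, (∃ i : ℕ, x = a ^ i) ∨ (∃ i : ℕ, x = b * a ^ i)) :
    ∀ x ∈ S, ∃ y ∈ S, y * x * y⁻¹ = x⁻¹ := by
  intro x hx
  rcases hcover x hx with ⟨i, rfl⟩ | ⟨i, rfl⟩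
  · refine ⟨b, hb, ?_⟩
    rw [← conj_pow, hba, inv_pow]
  · obtain ⟨s, hs⟩ : ∃ s, k = s + 1 := ⟨k - 1, by omega⟩
    refine ⟨a ^ 2 ^ s, pow_mem ha _, ?_⟩
    have hinv : ∀ j : ℕ, (b * a ^ j) * a * (b * a ^ j)⁻¹ = a⁻¹ := by
      intro j
      have : (b * a ^ j) * a * (b * a ^ j)⁻¹ = b * a * b⁻¹ := by group
      rw [this, hba]
    have htb : tr2 b = 0 := Torus.tr2_eq_zero_of_inverts hac hba
    have hx0 : tr2 (b * a ^ i) = 0 := Torus.tr2_eq_zero_of_inverts hac (hinv i)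
    have hy0 : tr2 (a ^ 2 ^ s) = 0 := by
      apply tr2_eq_zero_of_mul_self
      have : a ^ 2 ^ s * a ^ 2 ^ s = b * b := by
        rw [hbb, hs, ← pow_add, pow_succ]; congr 1; ring
      rw [this]
      exact Torus.mul_self_of_tr2_eq_zero htb
    have hxy0 : tr2 (a ^ 2 ^ s * (b * a ^ i)) = 0 := by
      apply Torus.tr2_eq_zero_of_inverts hac
      have e1 : (a ^ 2 ^ s * (b * a ^ i)) * a * (a ^ 2 ^ s * (b * a ^ i))⁻¹ =
          a ^ 2 ^ s * ((b * a ^ i) * a * (b * a ^ i)⁻¹) * (a ^ 2 ^ s)⁻¹ := by group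
      rw [e1, hinv i]; group
    exact inverts_of_tr2_zero hx0 hy0 hxy0

/-- If neither `q - 1` nor `q + 1` is a power of two, every Sylow `2`-subgroup of `SL₂(q)` is
redundant. -/
theorem redundant_two (hodd : Fintype.card F % 2 = 1) (S : Sylow 2 (SL₂(F)))
    (h1 : ¬ ∃ k : ℕ, Fintype.card F + 1 = 2 ^ k) (h2 : ¬ ∃ k : ℕ, Fintype.card F = 2 ^ k + 1) :
    ∀ x : SL₂(F), (∃ k : ℕ, orderOf x = 2 ^ k) → ∃ P : Sylow 2 (SL₂(F)), P ≠ S ∧ x ∈ P := by
  classical
  obtain ⟨k, a, b, l, hk1, hcard, ha, hb, hord, hba, hbb, hcover, hl0, hl, hl2⟩ :=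
    Cfsg.Agent.S2431.exists_data hodd S
  have hτa := Cfsg.Agent.S2430.tr2_sq_ne_four_of_eigen _ hl0 hl hl2
  have hac : a ∉ Subgroup.center (SL₂(F)) := not_mem_center_of_tr2_sq_ne_four hτa
  have hq2 : 2 ≤ Fintype.card F := Fintype.one_lt_card
  have key : ∀ x ∈ S, x ∉ Subgroup.center (SL₂(F)) →
      ∃ P : Sylow 2 (SL₂(F)), P ≠ S ∧ x ∈ P := by
    intro x hx hxc
    obtain ⟨y, hy, hyx⟩ := exists_inverter_mem hk1 ha hb hac hba hbb hcover x hx
    obtain ⟨j, hj⟩ := S.2 ⟨x, hx⟩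
    have hj' : x ^ 2 ^ j = 1 := by
      have := congrArg Subtype.val hj
      simpa using this
    have hτ4 := tr2_sq_ne_four_of_two_pow hodd hxc j hj'
    have hnot : ¬ ∃ i : ℕ, Nat.card (Subgroup.centralizer ({x} : Set (SL₂(F)))) = 2 ^ i := by
      rintro ⟨i, hi⟩
      rcases card_centralizer_cases hodd hτ4 with hc | hc
      · exact h2 ⟨i, by omega⟩
      · exact h1 ⟨i, by omega⟩
    have hex : ∃ t ∈ Subgroup.centralizer ({x} : Set (SL₂(F))), t ∉ S := by
      by_contra hcon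
      apply hnot
      have hle : Subgroup.centralizer ({x} : Set (SL₂(F))) ≤ S := by
        intro t ht
        by_contra htS
        exact hcon ⟨t, ht, htS⟩
      have hdvd := Subgroup.card_dvd_of_le hle
      rw [hcard] at hdvd
      have e : 4 * 2 ^ k = 2 ^ (k + 2) := by ring
      rw [e] at hdvd
      obtain ⟨i, -, hi⟩ := (Nat.dvd_prime_pow Nat.prime_two).mp hdvd
      exact ⟨i, hi⟩
    obtain ⟨t, htC, htS⟩ := hex
    have htx : t * x = x * t := Subgroup.mem_centralizer_singleton_iff.mp htC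
    exact exists_other_sylow S hxc hx hy hyx htx htS
  intro x hxord
  by_cases hxS : x ∈ S
  · by_cases hxc : x ∈ Subgroup.center (SL₂(F))
    · obtain ⟨P, hP, -⟩ := key a ha hac
      exact ⟨P, hP, mem_sylow_of_mem_center S P hxS hxc⟩
    · exact key x hxS hxc
  · obtain ⟨j, hj⟩ := hxord
    have hP : IsPGroup 2 (Subgroup.zpowers x) := by
      apply IsPGroup.of_card (n := j)
      rw [Nat.card_zpowers, hj]
    obtain ⟨P, hP⟩ := hP.exists_le_sylow
    refine ⟨P, ?_, hP (Subgroup.mem_zpowers x)⟩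
    rintro rfl
    exact hxS (hP (Subgroup.mem_zpowers x))

/-- If `q - 1` or `q + 1` is a power of two, no Sylow `2`-subgroup of `SL₂(q)` is redundant. -/
theorem not_redundant_two (hodd : Fintype.card F % 2 = 1) (S : Sylow 2 (SL₂(F)))
    (h : (∃ k : ℕ, Fintype.card F + 1 = 2 ^ k) ∨ (∃ k : ℕ, Fintype.card F = 2 ^ k + 1)) :
    ¬ (∀ x : SL₂(F), (∃ k : ℕ, orderOf x = 2 ^ k) → ∃ P : Sylow 2 (SL₂(F)), P ≠ S ∧ x ∈ P) := by
  classical
  intro hred
  obtain ⟨k, a, b, l, hk1, hcard, ha, hb, hord, hba, hbb, hcover, hl0, hl, hl2⟩ :=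
    Cfsg.Agent.S2431.exists_data hodd S
  have hτa := Cfsg.Agent.S2430.tr2_sq_ne_four_of_eigen _ hl0 hl hl2
  have hq2 : 2 ≤ Fintype.card F := Fintype.one_lt_card
  have horda : orderOf a = 2 ^ (k + 1) := by rw [hord]; ring
  obtain ⟨P, hPS, haP⟩ := hred a ⟨k + 1, horda⟩
  -- the centraliser of `a` is a 2-group
  have hzC : Subgroup.zpowers a ≤ Subgroup.centralizer ({a} : Set (SL₂(F))) := by
    rw [Subgroup.zpowers_le, Subgroup.mem_centralizer_singleton_iff]
  have hdvd : 2 ^ (k + 1) ∣ Nat.card (Subgroup.centralizer ({a} : Set (SL₂(F)))) := by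
    have := Subgroup.card_dvd_of_le hzC
    rwa [Nat.card_zpowers, horda] at this
  have h4 : 4 ∣ Nat.card (Subgroup.centralizer ({a} : Set (SL₂(F)))) := by
    have : (2 : ℕ) ^ 2 ∣ 2 ^ (k + 1) := pow_dvd_pow 2 (by omega)
    exact this.trans hdvd
  have hpow : ∃ j : ℕ, Nat.card (Subgroup.centralizer ({a} : Set (SL₂(F)))) = 2 ^ j := by
    rcases h with ⟨j, hj⟩ | ⟨j, hj⟩
    · rcases card_centralizer_cases hodd hτa with hc | hc
      · exfalso
        rw [hc] at h4
        have hj2 : 2 ≤ j := by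
          by_contra hlt
          have : j = 0 ∨ j = 1 := by omega
          rcases this with rfl | rfl <;> omega
        have : (2 : ℕ) ^ 2 ∣ 2 ^ j := pow_dvd_pow 2 hj2
        rw [← hj] at this
        omega
      · exact ⟨j, hc.trans hj⟩
    · rcases card_centralizer_cases hodd hτa with hc | hc
      · exact ⟨j, by omega⟩
      · rw [hc] at h4
        rcases Nat.lt_or_ge j 2 with hlt | hge
        · have : j = 0 ∨ j = 1 := by omega
          rcases this with rfl | rfl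
          · exfalso; omega
          · exact ⟨2, by rw [hc, hj]; norm_num⟩
        · exfalso
          have : (2 : ℕ) ^ 2 ∣ 2 ^ j := pow_dvd_pow 2 hge
          omega
  obtain ⟨j, hj⟩ := hpow
  set N := Subgroup.normalizer ((Subgroup.zpowers a : Subgroup (SL₂(F))) : Set (SL₂(F))) with hN
  have hcardN : Nat.card N = 2 ^ (j + 1) := by
    rw [hN, Cfsg.Agent.S2430.card_normalizer hodd hl0 hl hl2, hj]; ring
  have hNp : IsPGroup 2 N := IsPGroup.of_card hcardN
  have hcardz : Nat.card (Subgroup.zpowers a) = 2 * 2 ^ k := by rw [Nat.card_zpowers, hord]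
  have hSN : (S : Subgroup (SL₂(F))) ≤ N := by
    apply le_normalizer_of_card_eq_two_mul _ _ (by rw [Subgroup.zpowers_le]; exact ha)
    rw [hcard, hcardz]; ring
  have hPN : (P : Subgroup (SL₂(F))) ≤ N := by
    apply le_normalizer_of_card_eq_two_mul _ _ (by rw [Subgroup.zpowers_le]; exact haP)
    rw [Sylow.card_eq_multiplicity, ← S.card_eq_multiplicity, hcard, hcardz]; ring
  have e1 : N = S := S.3 hNp hSN
  have e2 : N = P := P.3 hNp hPN
  exact hPS (Sylow.ext (e2.symm.trans e1))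

end Two

/-- Let F be a finite field with q elements, p a prime and G = SL(2, F). Say a Sylow p-subgroup Q of G is redundant when every element of p-power order lies in some Sylow p-subgroup other than Q. Then G has a redundant Sylow p-subgroup if and only if p = 2 and q is not of any of the forms 2ᵏ - 1, 2ᵏ, 2ᵏ + 1. -/
theorem result {F : Type*} [Field F] [Fintype F] (p : ℕ) [Fact p.Prime] :
    (∃ Q : Sylow p (Matrix.SpecialLinearGroup (Fin 2) F), ∀ x : Matrix.SpecialLinearGroup (Fin 2) F,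
        (∃ k : ℕ, orderOf x = p ^ k) → ∃ P : Sylow p (Matrix.SpecialLinearGroup (Fin 2) F), P ≠ Q ∧ x ∈ P) ↔
      (p = 2 ∧ (¬ ∃ k : ℕ, Fintype.card F + 1 = 2 ^ k) ∧ (¬ ∃ k : ℕ, Fintype.card F = 2 ^ k) ∧
        ¬ ∃ k : ℕ, Fintype.card F = 2 ^ k + 1) := by
  classical
  obtain ⟨r, hr⟩ := CharP.exists F
  have := hr
  have : Fact r.Prime := ⟨CharP.char_is_prime F r⟩
  have hrprime : r.Prime := Fact.out
  obtain ⟨n, -, hn⟩ := FiniteField.card F r
  have hq2 : 2 ≤ Fintype.card F := Fintype.one_lt_card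
  have hoddq : r ≠ 2 → Fintype.card F % 2 = 1 := by
    intro hr2
    have hrodd : Odd r := hrprime.odd_of_ne_two hr2
    have : Odd (Fintype.card F) := by rw [hn]; exact hrodd.pow
    exact Nat.odd_iff.mp this
  constructor
  · rintro ⟨Q, hQ⟩
    by_cases hpr : p = r
    · subst hpr
      exact absurd hQ (not_redundant_char p Q)
    · by_cases hp2 : p = 2
      · subst hp2
        have hodd : Fintype.card F % 2 = 1 := hoddq (Ne.symm hpr)
        refine ⟨rfl, ?_, ?_, ?_⟩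
        · intro h1
          exact not_redundant_two hodd Q (Or.inl h1) hQ
        · rintro ⟨k, hk⟩
          cases k with
          | zero => omega
          | succ k => rw [pow_succ] at hk; omega
        · intro h2
          exact not_redundant_two hodd Q (Or.inr h2) hQ
      · exfalso
        exact not_redundant_of_isCyclic Q (Cfsg.Agent.S0262.result r p hp2 hpr Q) hQ
  · rintro ⟨rfl, h1, h2, h3⟩
    have hr2 : r ≠ 2 := by
      rintro rfl
      exact h2 ⟨n, hn⟩
    have hodd : Fintype.card F % 2 = 1 := hoddq hr2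
    obtain ⟨Q⟩ : Nonempty (Sylow 2 (Matrix.SpecialLinearGroup (Fin 2) F)) := inferInstance
    exact ⟨Q, redundant_two hodd Q h1 h3⟩

end Cfsg.Agent.S4357
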