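import Cfsg.Statements.S4356
import Cfsg.Agent.S4357

set_option autoImplicit false
open Cfsg

namespace Cfsg.Agent.S4356

open Cfsg.Agent.Lib.Helper41

local notation "SL₂(" F ")" => Matrix.SpecialLinearGroup (Fin 2) F
local notation "PSL₂(" F ")" => Matrix.ProjectiveSpecialLinearGroup (Fin 2) F

section Abstract

variable {G G' : Type*} [Group G] [Group G'] [Finite G] {p : ℕ} [Fact p.Prime]

/-- A central `p`-element lies in every Sylow `p`-subgroup. -/
theorem central_mem_sylow {z : G} (hz : z ∈ Subgroup.center G) (k : ℕ) (hk : z ^ p ^ k = 1)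
    (P : Sylow p G) : z ∈ P := by
  have hP : IsPGroup p (Subgroup.zpowers z) := by
    intro x
    refine ⟨k, ?_⟩
    obtain ⟨x, hx⟩ := x
    obtain ⟨j, rfl⟩ := Subgroup.mem_zpowers_iff.mp hx
    apply Subtype.ext
    show (z ^ j) ^ p ^ k = 1
    rw [← zpow_natCast, ← zpow_mul, mul_comm, zpow_mul, zpow_natCast, hk, one_zpow]
  obtain ⟨S, hS⟩ := hP.exists_le_sylow
  exact Cfsg.Agent.S4357.mem_sylow_of_mem_center S P (hS (Subgroup.mem_zpowers z)) hz

omit [Finite G] [Fact p.Prime] in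
/-- Any `p`-element outside `Q` lies in a Sylow `p`-subgroup different from `Q`. -/
theorem exists_sylow_of_not_mem (Q : Sylow p G) {x : G} (hx : ∃ k : ℕ, orderOf x = p ^ k)
    (hxQ : x ∉ Q) : ∃ P : Sylow p G, P ≠ Q ∧ x ∈ P := by
  obtain ⟨j, hj⟩ := hx
  have hP : IsPGroup p (Subgroup.zpowers x) := by
    apply IsPGroup.of_card (n := j)
    rw [Nat.card_zpowers, hj]
  obtain ⟨P, hP⟩ := hP.exists_le_sylow
  refine ⟨P, ?_, hP (Subgroup.mem_zpowers x)⟩
  rintro rfl
  exact hxQ (hP (Subgroup.mem_zpowers x))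

/-- Redundancy lifts through a surjection with central kernel. -/
theorem redundant_of_map {f : G →* G'} (hf : Function.Surjective f)
    (hker : f.ker ≤ Subgroup.center G) (Q : Sylow p G)
    (hred : ∀ x : G', (∃ k : ℕ, orderOf x = p ^ k) →
      ∃ P : Sylow p G', P ≠ Q.mapSurjective hf ∧ x ∈ P) :
    ∀ x : G, (∃ k : ℕ, orderOf x = p ^ k) → ∃ P : Sylow p G, P ≠ Q ∧ x ∈ P := by
  intro x hx
  by_cases hxQ : x ∈ Q
  · obtain ⟨k, hk⟩ := hx
    have hfx : ∃ j : ℕ, orderOf (f x) = p ^ j := by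
      have hd : orderOf (f x) ∣ p ^ k := hk ▸ orderOf_map_dvd f x
      obtain ⟨j, -, hj⟩ := (Nat.dvd_prime_pow Fact.out).mp hd
      exact ⟨j, hj⟩
    obtain ⟨P', hP', hxP'⟩ := hred (f x) hfx
    obtain ⟨P, rfl⟩ := Sylow.mapSurjective_surjective hf p P'
    have hxP'' : f x ∈ (P : Subgroup G).map f := hxP'
    obtain ⟨y, hyP, hyx⟩ := Subgroup.mem_map.mp hxP''
    have hzker : y⁻¹ * x ∈ f.ker := by
      rw [MonoidHom.mem_ker, map_mul, map_inv, hyx, inv_mul_cancel]
    have hzc : y⁻¹ * x ∈ Subgroup.center G := hker hzker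
    obtain ⟨a, ha⟩ := (IsPGroup.iff_orderOf.mp P.2) ⟨y, hyP⟩
    have hya : y ^ p ^ a = 1 := by
      rw [Subgroup.orderOf_mk] at ha
      rw [← ha]; exact pow_orderOf_eq_one y
    have hxk : x ^ p ^ k = 1 := by rw [← hk]; exact pow_orderOf_eq_one x
    have hcomm : Commute y⁻¹ x := by
      have h1 : (y⁻¹ * x) * y = y * (y⁻¹ * x) := (Subgroup.mem_center_iff.mp hzc y).symm
      have h2 : x * y = y * x := by
        have : y * ((y⁻¹ * x) * y) = y * (y * (y⁻¹ * x)) := by rw [h1]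
        simpa [mul_assoc] using this
      exact (Commute.inv_left (show Commute y x from h2.symm))
    have hzpow : (y⁻¹ * x) ^ p ^ (a + k) = 1 := by
      rw [hcomm.mul_pow, pow_add, pow_mul, inv_pow, hya, inv_one, one_pow, one_mul, mul_comm (p ^ a),
        pow_mul, hxk, one_pow]
    have hzP : y⁻¹ * x ∈ P := central_mem_sylow hzc (a + k) hzpow P
    refine ⟨P, ?_, ?_⟩
    · rintro rfl
      exact hP' rfl
    · have : x = y * (y⁻¹ * x) := by group
      rw [this]
      exact mul_mem hyP hzP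
  · exact exists_sylow_of_not_mem Q hx hxQ

/-- Redundancy descends through a surjection whose kernel is a central `p`-subgroup. -/
theorem redundant_map {f : G →* G'} (hf : Function.Surjective f)
    (hker : ∀ z ∈ f.ker, z ∈ Subgroup.center G ∧ ∃ k : ℕ, z ^ p ^ k = 1) (Q : Sylow p G)
    (hred : ∀ x : G, (∃ k : ℕ, orderOf x = p ^ k) → ∃ P : Sylow p G, P ≠ Q ∧ x ∈ P) :
    ∀ x : G', (∃ k : ℕ, orderOf x = p ^ k) →
      ∃ P : Sylow p G', P ≠ Q.mapSurjective hf ∧ x ∈ P := by
  intro x' hx'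
  by_cases hxQ : x' ∈ Q.mapSurjective hf
  · have hxQ' : x' ∈ (Q : Subgroup G).map f := hxQ
    obtain ⟨x, hxQ'', rfl⟩ := Subgroup.mem_map.mp hxQ'
    have hxord : ∃ k : ℕ, orderOf x = p ^ k := by
      obtain ⟨k, hk⟩ := (IsPGroup.iff_orderOf.mp Q.2) ⟨x, hxQ''⟩
      exact ⟨k, by rw [← hk, Subgroup.orderOf_mk]⟩
    obtain ⟨P, hPQ, hxP⟩ := hred x hxord
    refine ⟨P.mapSurjective hf, ?_, ?_⟩
    · intro h
      apply hPQ
      have hle : ∀ R : Sylow p G, f.ker ≤ R := by
        intro R z hz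
        obtain ⟨hzc, k, hk⟩ := hker z hz
        exact central_mem_sylow hzc k hk R
      have h1 : (P : Subgroup G).map f = (Q : Subgroup G).map f := by
        have := congrArg (fun R : Sylow p G' => (R : Subgroup G')) h
        simpa using this
      have h2 := congrArg (Subgroup.comap f) h1
      rw [Subgroup.comap_map_eq, Subgroup.comap_map_eq, sup_of_le_left (hle P),
        sup_of_le_left (hle Q)] at h2
      exact Sylow.ext h2
    · exact Subgroup.mem_map_of_mem f hxP
  · exact exists_sylow_of_not_mem _ hx' hxQ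

end Abstract

/-- Let F be a finite field with q elements, p a prime and G = PSL(2, F). Say a Sylow p-subgroup Q of G is redundant when every element of p-power order lies in some Sylow p-subgroup other than Q. Then G has a redundant Sylow p-subgroup if and only if p = 2 and q is not of any of the forms 2ᵏ - 1, 2ᵏ, 2ᵏ + 1. -/
theorem result {F : Type*} [Field F] [Fintype F] (p : ℕ) [Fact p.Prime] :
    (∃ Q : Sylow p (Matrix.ProjectiveSpecialLinearGroup (Fin 2) F), ∀ x : Matrix.ProjectiveSpecialLinearGroup (Fin 2) F,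
        (∃ k : ℕ, orderOf x = p ^ k) → ∃ P : Sylow p (Matrix.ProjectiveSpecialLinearGroup (Fin 2) F), P ≠ Q ∧ x ∈ P) ↔
      (p = 2 ∧ (¬ ∃ k : ℕ, Fintype.card F + 1 = 2 ^ k) ∧ (¬ ∃ k : ℕ, Fintype.card F = 2 ^ k) ∧
        ¬ ∃ k : ℕ, Fintype.card F = 2 ^ k + 1) := by
  classical
  let f : Matrix.SpecialLinearGroup (Fin 2) F →* Matrix.ProjectiveSpecialLinearGroup (Fin 2) F :=
    QuotientGroup.mk' (Subgroup.center (Matrix.SpecialLinearGroup (Fin 2) F))
  have hf : Function.Surjective f := QuotientGroup.mk'_surjective _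
  have hkerf : f.ker = Subgroup.center (Matrix.SpecialLinearGroup (Fin 2) F) :=
    QuotientGroup.ker_mk' _
  constructor
  · rintro ⟨Q', hQ'⟩
    obtain ⟨Q, rfl⟩ := Sylow.mapSurjective_surjective hf p Q'
    exact (Cfsg.Agent.S4357.result p).mp ⟨Q, redundant_of_map hf (le_of_eq hkerf) Q hQ'⟩
  · intro h
    obtain ⟨Q, hQ⟩ := (Cfsg.Agent.S4357.result p).mpr h
    obtain ⟨rfl, -, -, -⟩ := h
    refine ⟨Q.mapSurjective hf, redundant_map hf ?_ Q hQ⟩
    intro z hz
    rw [hkerf] at hz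
    refine ⟨hz, 1, ?_⟩
    rcases Torus.eq_one_or_negOne_of_mem_center hz with rfl | rfl
    · simp
    · rw [pow_one, pow_two]
      apply sl2_ext <;> simp [Torus.negOne, sl2_mul_00, sl2_mul_01, sl2_mul_10, sl2_mul_11]

end Cfsg.Agent.S4356
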