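import Cfsg.Statements.S4358
import Cfsg.Agent.Lib.Helper69.ShiftCases3

set_option autoImplicit false
open Cfsg

namespace Cfsg.Agent.S4358

open Cfsg.Agent.Lib.Helper69.ShiftMono

/-- Let p be an odd prime and F a finite field with q elements such that p divides q - 1 but p² does not. Then GL(p, F) has a Sylow p-subgroup Q such that every element of p-power order lies in some Sylow p-subgroup other than Q (a redundant Sylow p-subgroup). -/
theorem result {F : Type*} [Field F] [Fintype F] (p : ℕ) [Fact p.Prime]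
    (hp : p ≠ 2) (h1 : p ∣ Fintype.card F - 1) (h2 : ¬ p ^ 2 ∣ Fintype.card F - 1) :
    ∃ Q : Sylow p (Matrix.GeneralLinearGroup (Fin p) F), ∀ x : Matrix.GeneralLinearGroup (Fin p) F,
      (∃ k : ℕ, orderOf x = p ^ k) → ∃ P : Sylow p (Matrix.GeneralLinearGroup (Fin p) F), P ≠ Q ∧ x ∈ P := by
  classical
  have hpp : p.Prime := Fact.out
  have hcardu : p ∣ Fintype.card Fˣ := by
    rw [Fintype.card_units]
    exact h1
  obtain ⟨u, hu⟩ := exists_prime_orderOf_dvd_card p hcardu
  have hω : ((u : Fˣ) : F) ^ p = 1 := by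
    rw [← Units.val_pow_eq_pow_val, ← hu, pow_orderOf_eq_one, Units.val_one]
  have hω1 : ((u : Fˣ) : F) ≠ 1 := by
    intro h
    have : u = 1 := Units.ext h
    rw [this, orderOf_one] at hu
    exact hpp.one_lt.ne hu
  have hcard : 3 < Fintype.card F := by
    have hq1 : 1 < Fintype.card F := Fintype.one_lt_card
    have h3 : 3 ≤ p := by
      have := hpp.two_le
      omega
    have : p ≤ Fintype.card F - 1 := Nat.le_of_dvd (by omega) h1
    omega
  let Q : Sylow p (Matrix.GeneralLinearGroup (Fin p) F) := Sylow.ofCard (Q0 F p) (card_Q0 hp h1 h2)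
  have hQ : (Q : Subgroup (Matrix.GeneralLinearGroup (Fin p) F)) = Q0 F p := Sylow.coe_ofCard _ _
  refine ⟨Q, fun x hxp => ?_⟩
  by_cases hxQ : x ∈ Q0 F p
  · obtain ⟨g, hg, hgx⟩ := second_of_mem hp hω hω1 hcard hxQ
    refine ⟨g • Q, ?_, ?_⟩
    · intro h
      have := Sylow.smul_eq_iff_mem_normalizer.1 h
      rw [← hQ] at hg
      exact hg this
    · show x ∈ ((g • Q : Sylow p (Matrix.GeneralLinearGroup (Fin p) F)) :
        Subgroup (Matrix.GeneralLinearGroup (Fin p) F))
      rw [Sylow.smul_def, Sylow.pointwise_smul_def, Subgroup.mem_pointwise_smul_iff_inv_smul_mem, hQ]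
      have : (MulAut.conj g)⁻¹ • x = g⁻¹ * x * g := by
        rw [← map_inv, MulAut.smul_def, MulAut.conj_apply, inv_inv]
      rw [this]
      exact hgx
  · obtain ⟨k, hk⟩ := hxp
    have hpg : IsPGroup p (Subgroup.zpowers x) :=
      IsPGroup.of_card (n := k) (by rw [Nat.card_zpowers, hk])
    obtain ⟨P, hP⟩ := hpg.exists_le_sylow
    refine ⟨P, ?_, hP (Subgroup.mem_zpowers x)⟩
    intro h
    apply hxQ
    rw [← hQ, ← h]
    exact hP (Subgroup.mem_zpowers x)

end Cfsg.Agent.S4358
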