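import Cfsg.Statements.S4364
import Cfsg.Agent.Lib.Helper55.KazarinCore

set_option autoImplicit false
open Cfsg

namespace Cfsg.Agent.S4364

open Cfsg.Agent.Lib.Helper55

/-- Let G be a finite group, p a prime and x an element whose conjugacy class has p-power size. Then for any two conjugates y and z of x, the commutator y z y⁻¹ z⁻¹ lies in O_p(G), the largest normal p-subgroup of G. -/
theorem result {G : Type*} [Group G] [Finite G] (p : ℕ) [Fact p.Prime]
    (x : G) (hx : ∃ a : ℕ, (Subgroup.centralizer ({x} : Set G)).index = p ^ a) (g h : G) :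
    (g * x * g⁻¹) * (h * x * h⁻¹) * (g * x * g⁻¹)⁻¹ * (h * x * h⁻¹)⁻¹ ∈ Cfsg.pCore p G := by
  have hp : p.Prime := Fact.out
  obtain ⟨a, ha⟩ := hx
  have hn : (Cfsg.pCore p G).Normal := pCore_normal' p
  have hcore : Cfsg.pCore p (G ⧸ Cfsg.pCore p G) = ⊥ := kz_pCore_quotient_eq_bot p
  have hdvd : (Subgroup.centralizer ({(QuotientGroup.mk x : G ⧸ Cfsg.pCore p G)} :
      Set (G ⧸ Cfsg.pCore p G))).index ∣ p ^ a := by
    rw [← ha]
    exact kz_index_centralizer_quotient_dvd _ x
  obtain ⟨b, _, hb⟩ := (Nat.dvd_prime_pow hp).mp hdvd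
  have hcomm := kz_conj_commute p hcore (QuotientGroup.mk x : G ⧸ Cfsg.pCore p G) hb
    (QuotientGroup.mk g) (QuotientGroup.mk h)
  rw [← QuotientGroup.eq_one_iff]
  simp only [QuotientGroup.mk_mul, QuotientGroup.mk_inv]
  rw [hcomm.eq]
  group

end Cfsg.Agent.S4364
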