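import Cfsg.Statements.S4365
import Cfsg.Agent.Lib.Helper72.SylowProd

set_option autoImplicit false
open Cfsg

namespace Cfsg.Agent.S4365

open Cfsg.Agent.Lib.Helper72

variable {P : Type*} [Group P]

local notation "Cz" x => Subgroup.centralizer (singleton x)

theorem mem_cz {x g : P} : g ∈ (Cz x) ↔ g * x = x * g := by
  rw [Subgroup.mem_centralizer_iff]
  constructor
  · intro h; exact (h x rfl).symm
  · intro h y hy; rw [Set.mem_singleton_iff.mp hy]; exact h.symm

theorem cz_index_eq_one_iff {x : P} : (Cz x).index = 1 ↔ x ∈ Subgroup.center P := by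
  rw [Subgroup.index_eq_one, Subgroup.centralizer_eq_top_iff_subset, Set.singleton_subset_iff]
  rfl

theorem cz_le_cz_pow (x : P) (n : ℕ) : (Cz x) ≤ (Cz (x ^ n)) := by
  intro g hg
  rw [mem_cz] at hg ⊢
  exact ((Commute.pow_right (show Commute g x from hg) n)).eq

/-- conjugating by `k` multiplies `x` by a central element `ζ`; then the same for powers -/
theorem conj_pow_of_conj_eq {x k ζ : P} (hζ : ζ ∈ Subgroup.center P) (h : k * x * k⁻¹ = x * ζ)
    (n : ℕ) : k ^ n * x * (k ^ n)⁻¹ = x * ζ ^ n := by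
  induction n with
  | zero => simp
  | succ n ih =>
    calc k ^ (n + 1) * x * (k ^ (n + 1))⁻¹ = k * (k ^ n * x * (k ^ n)⁻¹) * k⁻¹ := by
          rw [pow_succ']; group
      _ = k * (x * ζ ^ n) * k⁻¹ := by rw [ih]
      _ = (k * x * k⁻¹) * (k * ζ ^ n * k⁻¹) := by group
      _ = (x * ζ) * ζ ^ n := by
          have : k * ζ ^ n * k⁻¹ = ζ ^ n := by
            have h2 : ζ ^ n ∈ Subgroup.center P := Subgroup.pow_mem _ hζ n
            rw [(Subgroup.mem_center_iff.mp h2 k), mul_inv_cancel_right]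
          rw [h, this]
      _ = x * ζ ^ (n + 1) := by rw [mul_assoc, ← pow_succ']

theorem conj_pow_of_conj_eq' {x k ζ : P} (hζ : ζ ∈ Subgroup.center P) (h : k * x * k⁻¹ = x * ζ)
    (n : ℕ) : k * x ^ n * k⁻¹ = x ^ n * ζ ^ n := by
  have h1 : k * x ^ n * k⁻¹ = (k * x * k⁻¹) ^ n := by
    rw [conj_pow]
  rw [h1, h]
  have hc : Commute x ζ := Subgroup.mem_center_iff.mp hζ x
  exact hc.mul_pow n

theorem cz_eq_of_le [Finite P] {n : ℕ} (hn : n ≠ 0) {u v : P} (hu : (Cz u).index = n)
    (hv : (Cz v).index = n) (h : (Cz u) ≤ (Cz v)) : (Cz u) = (Cz v) := by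
  have h1 := Subgroup.relIndex_mul_index h
  rw [hu, hv] at h1
  have h2 : (Cz u).relIndex (Cz v) = 1 := by
    have : (Cz u).relIndex (Cz v) * n = 1 * n := by rw [h1, one_mul]
    exact Nat.eq_of_mul_eq_mul_right (Nat.pos_of_ne_zero hn) this
  exact le_antisymm h (Subgroup.relIndex_eq_one.mp h2)

/-- Step 1: a non-central element `z` of the second center with `z ^ p` central. -/
theorem exists_second_center [Finite P] (p : ℕ) [Fact p.Prime] (hP : IsPGroup p P)
    (hna : Subgroup.center P ≠ ⊤) :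
    ∃ z : P, z ∉ Subgroup.center P ∧ z ^ p ∈ Subgroup.center P ∧
      ∀ g : P, ∃ ζ ∈ Subgroup.center P, g * z * g⁻¹ = z * ζ := by
  have hnt : Nontrivial (P ⧸ Subgroup.center P) := QuotientGroup.nontrivial_iff.mpr hna
  have hPq : IsPGroup p (P ⧸ Subgroup.center P) := hP.to_quotient _
  have hcn : Nontrivial (Subgroup.center (P ⧸ Subgroup.center P)) := hPq.center_nontrivial
  have hpc : IsPGroup p (Subgroup.center (P ⧸ Subgroup.center P)) := hPq.to_subgroup _
  have hdvd : p ∣ Nat.card (Subgroup.center (P ⧸ Subgroup.center P)) := by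
    obtain ⟨n, hn0, hn⟩ := hpc.nontrivial_iff_card.mp hcn
    rw [hn]; exact dvd_pow_self _ hn0.ne'
  obtain ⟨⟨q, hqc⟩, hq⟩ := exists_prime_orderOf_dvd_card' p hdvd
  rw [Subgroup.orderOf_mk] at hq
  obtain ⟨z, rfl⟩ := QuotientGroup.mk_surjective q
  refine ⟨z, ?_, ?_, ?_⟩
  · intro hz
    have : (QuotientGroup.mk z : P ⧸ Subgroup.center P) = 1 := (QuotientGroup.eq_one_iff z).mpr hz
    rw [this, orderOf_one] at hq
    exact (Fact.out : p.Prime).one_lt.ne hq
  · rw [← QuotientGroup.eq_one_iff, QuotientGroup.mk_pow, ← hq, pow_orderOf_eq_one]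
  · intro g
    refine ⟨z⁻¹ * (g * z * g⁻¹), ?_, by group⟩
    rw [← QuotientGroup.eq_one_iff]
    have := Subgroup.mem_center_iff.mp hqc (QuotientGroup.mk g)
    simp only [QuotientGroup.mk_mul, QuotientGroup.mk_inv]
    rw [this]; group

theorem mem_center_of_conj_mem_center {g y : P} (h : g * y * g⁻¹ ∈ Subgroup.center P) :
    y ∈ Subgroup.center P := by
  have h1 := (inferInstance : (Subgroup.center P).Normal).conj_mem _ h g⁻¹
  have h2 : g⁻¹ * (g * y * g⁻¹) * g⁻¹⁻¹ = y := by group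
  rwa [h2] at h1

theorem result {P : Type*} [Group P] [Finite P] (p : ℕ) [Fact p.Prime]
    (hP : IsPGroup p P) (a : ℕ) (ha : 1 ≤ a)
    (hcs : {k : ℕ | ∃ x : P, (Subgroup.centralizer ({x} : Set P)).index = k} = {1, p ^ a}) (x : P) :
    x ^ p ∈ Subgroup.center P := by
  classical
  have hp : p.Prime := Fact.out
  have hpa : p ^ a ≠ 0 := pow_ne_zero _ hp.ne_zero
  have hidx : ∀ u : P, u ∉ Subgroup.center P → (Cz u).index = p ^ a := by
    intro u hu
    have hmem : (Cz u).index ∈ ({1, p ^ a} : Set ℕ) := by rw [← hcs]; exact ⟨u, rfl⟩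
    rcases hmem with h | h
    · exact absurd (cz_index_eq_one_iff.mp h) hu
    · exact h
  have heq : ∀ u v : P, u ∉ Subgroup.center P → v ∉ Subgroup.center P → (Cz u) ≤ (Cz v) →
      (Cz u) = (Cz v) := fun u v hu hv h => cz_eq_of_le hpa (hidx u hu) (hidx v hv) h
  by_contra hbad
  have hxZ : x ∉ Subgroup.center P := fun h => hbad (Subgroup.pow_mem _ h p)
  have hna : Subgroup.center P ≠ ⊤ := fun h => hxZ (h ▸ Subgroup.mem_top x)
  obtain ⟨z, hz1, hz2, hz3⟩ := exists_second_center p hP hna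
  -- step 2 : p-th powers centralize z
  have hpow : ∀ g : P, g ^ p ∈ (Cz z) := by
    intro g
    obtain ⟨ζ, hζ, hg⟩ := hz3 g
    have h1 := conj_pow_of_conj_eq hζ hg p
    have h2 := conj_pow_of_conj_eq' hζ hg p
    have h3 : g * z ^ p * g⁻¹ = z ^ p := by
      rw [Subgroup.mem_center_iff.mp hz2 g, mul_inv_cancel_right]
    rw [h3] at h2
    have h4 : ζ ^ p = 1 := by
      have := h2.symm
      rwa [mul_eq_left] at this
    rw [h4, mul_one] at h1
    rw [mem_cz]
    exact mul_inv_eq_iff_eq_mul.mp h1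
  -- step 3 : every bad element has the same centralizer as z
  have hstep3 : ∀ w : P, w ^ p ∉ Subgroup.center P → (Cz w) = (Cz z) := by
    intro w hwbad
    have hwZ : w ∉ Subgroup.center P := fun h => hwbad (Subgroup.pow_mem _ h p)
    have hwp : (Cz (w ^ p)) = (Cz w) := (heq w (w ^ p) hwZ hwbad (cz_le_cz_pow w p)).symm
    have hzw : z * w = w * z := by
      have h1 := hpow w
      rw [mem_cz] at h1
      have h2 : z ∈ (Cz (w ^ p)) := by rw [mem_cz]; exact h1.symm
      rw [hwp, mem_cz] at h2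
      exact h2
    have hcomm : Commute w z := hzw.symm
    have hwz_p : (w * z) ^ p = w ^ p * z ^ p := hcomm.mul_pow p
    have hwzp_bad : (w * z) ^ p ∉ Subgroup.center P := by
      intro h
      apply hwbad
      have : w ^ p = (w * z) ^ p * (z ^ p)⁻¹ := by rw [hwz_p, mul_inv_cancel_right]
      rw [this]
      exact Subgroup.mul_mem _ h (Subgroup.inv_mem _ hz2)
    have hwz_Z : w * z ∉ Subgroup.center P := fun h => hwzp_bad (Subgroup.pow_mem _ h p)
    have h4 : (Cz ((w * z) ^ p)) = (Cz (w * z)) :=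
      (heq _ _ hwz_Z hwzp_bad (cz_le_cz_pow _ p)).symm
    have h5 : (Cz ((w * z) ^ p)) = (Cz (w ^ p)) := by
      ext g
      rw [mem_cz, mem_cz, hwz_p]
      have hc : g * z ^ p = z ^ p * g := Subgroup.mem_center_iff.mp hz2 g
      constructor
      · intro h
        have : g * w ^ p * z ^ p = w ^ p * g * z ^ p := by
          rw [← mul_assoc] at h
          rw [h, mul_assoc, ← hc, mul_assoc]
        exact mul_right_cancel this
      · intro h
        rw [← mul_assoc, h, mul_assoc, hc, mul_assoc]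
    have h6 : (Cz w) ≤ (Cz z) := by
      intro g hg
      have hg2 : g ∈ (Cz (w * z)) := by rw [← h4, h5, hwp]; exact hg
      rw [mem_cz] at hg hg2 ⊢
      have : w * (g * z) = w * (z * g) := by
        calc w * (g * z) = g * w * z := by rw [← mul_assoc, ← hg]
          _ = w * z * g := by rw [mul_assoc]; exact hg2
          _ = w * (z * g) := by rw [mul_assoc]
      exact mul_left_cancel this
    exact heq w z hwZ hz1 h6
  have hC : (Cz x) = (Cz z) := hstep3 x hbad
  have hxp : (Cz (x ^ p)) = (Cz x) := (heq x (x ^ p) hxZ hbad (cz_le_cz_pow x p)).symm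
  -- step 4 : the subgroup A
  have hconjA : ∀ g : P, g * x * g⁻¹ ∈ Subgroup.centralizer ((Cz z : Subgroup P) : Set P) := by
    intro g
    have hb : (g * x * g⁻¹) ^ p ∉ Subgroup.center P := by
      rw [conj_pow]
      intro h
      exact hbad (mem_center_of_conj_mem_center h)
    have h1 := hstep3 (g * x * g⁻¹) hb
    rw [Subgroup.mem_centralizer_iff]
    intro c hc
    have hc' : c ∈ (Cz (g * x * g⁻¹)) := by rw [h1]; exact hc
    exact mem_cz.mp hc'
  have hZA : Subgroup.center P ≤ Subgroup.centralizer ((Cz z : Subgroup P) : Set P) :=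
    Subgroup.center_le_centralizer _
  have hA : ∀ w ∈ Subgroup.centralizer ((Cz z : Subgroup P) : Set P), w ∉ Subgroup.center P →
      (Cz w) = (Cz z) := by
    intro w hw hwZ
    have hle : (Cz z) ≤ (Cz w) := by
      intro c hc
      rw [mem_cz]
      exact (Subgroup.mem_centralizer_iff.mp hw) c hc
    exact (heq z w hz1 hwZ hle).symm
  -- step 5
  obtain ⟨g₀, hg₀⟩ : ∃ g₀ : P, g₀ ∉ (Cz z) := by
    by_contra hcon
    push Not at hcon
    apply hz1
    rw [← cz_index_eq_one_iff, Subgroup.index_eq_one, eq_top_iff]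
    intro g _
    exact hcon g
  have hg₀Z : g₀ ∉ Subgroup.center P := fun h => hg₀ (Subgroup.center_le_centralizer _ h)
  have hinf : (Cz g₀) ⊓ Subgroup.centralizer ((Cz z : Subgroup P) : Set P) ≤ Subgroup.center P := by
    rintro w ⟨hw1, hw2⟩
    by_contra hwZ
    have h1 := hA w hw2 hwZ
    apply hg₀
    rw [← h1, mem_cz]
    exact (mem_cz.mp hw1).symm
  have hcardA : Nat.card (Subgroup.centralizer ((Cz z : Subgroup P) : Set P)) ≤
      p ^ a * Nat.card (Subgroup.center P) := by
    have h1 := relIndex_mul_card_inf (Cz g₀) (Subgroup.centralizer ((Cz z : Subgroup P) : Set P))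
    have h2 : (Cz g₀).relIndex (Subgroup.centralizer ((Cz z : Subgroup P) : Set P)) ≤ p ^ a := by
      have h3 := Subgroup.relIndex_le_of_le_right (H := (Cz g₀))
        (le_top : Subgroup.centralizer ((Cz z : Subgroup P) : Set P) ≤ ⊤)
        (by rw [Subgroup.relIndex_top_right, hidx g₀ hg₀Z]; exact hpa)
      rwa [Subgroup.relIndex_top_right, hidx g₀ hg₀Z] at h3
    have h3 : Nat.card ↥((Cz g₀) ⊓ Subgroup.centralizer ((Cz z : Subgroup P) : Set P)) ≤
        Nat.card (Subgroup.center P) := Subgroup.card_le_of_le hinf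
    calc Nat.card (Subgroup.centralizer ((Cz z : Subgroup P) : Set P)) = _ * _ := h1.symm
      _ ≤ p ^ a * Nat.card (Subgroup.center P) := Nat.mul_le_mul h2 h3
  have hcardP : Nat.card P = p ^ a * Nat.card (Cz z) := by
    rw [← hidx z hz1, mul_comm]
    exact (Subgroup.card_mul_index _).symm
  -- step 6 : pigeonhole
  have : Fintype P := Fintype.ofFinite P
  let f : P × (Subgroup.center P) → P := fun q => q.1 * x * q.1⁻¹ * (q.2 : P)
  let t : Finset P := Finset.univ.filter
    (fun w => w ∈ Subgroup.centralizer ((Cz z : Subgroup P) : Set P) ∧ w ∉ Subgroup.center P)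
  have hf : ∀ q ∈ (Finset.univ : Finset (P × Subgroup.center P)), f q ∈ t := by
    intro q _
    simp only [t, f, Finset.mem_filter, Finset.mem_univ, true_and]
    constructor
    · exact Subgroup.mul_mem _ (hconjA q.1) (hZA q.2.2)
    · intro h
      apply hxZ
      apply mem_center_of_conj_mem_center (g := q.1)
      have : q.1 * x * q.1⁻¹ = (q.1 * x * q.1⁻¹ * (q.2 : P)) * (q.2 : P)⁻¹ := by group
      rw [this]
      exact Subgroup.mul_mem _ h (Subgroup.inv_mem _ q.2.2)
  have hcard_t : t.card + Nat.card (Subgroup.center P) =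
      Nat.card (Subgroup.centralizer ((Cz z : Subgroup P) : Set P)) := by
    have h1 : Nat.card (Subgroup.centralizer ((Cz z : Subgroup P) : Set P)) =
        (Finset.univ.filter
          (fun w : P => w ∈ Subgroup.centralizer ((Cz z : Subgroup P) : Set P))).card := by
      rw [Nat.card_eq_fintype_card, Fintype.card_subtype]
    have h2 : Nat.card (Subgroup.center P) =
        (Finset.univ.filter (fun w : P => w ∈ Subgroup.center P)).card := by
      rw [Nat.card_eq_fintype_card, Fintype.card_subtype]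
    rw [h1, h2]
    have h3 := Finset.card_filter_add_card_filter_not (s := Finset.univ.filter
      (fun w : P => w ∈ Subgroup.centralizer ((Cz z : Subgroup P) : Set P)))
      (fun w : P => w ∈ Subgroup.center P)
    rw [← h3, add_comm]
    congr 1
    · congr 1
      ext w
      simp only [Finset.mem_filter, Finset.mem_univ, true_and]
      constructor
      · intro h; exact ⟨hZA h, h⟩
      · intro h; exact h.2
    · congr 1
      ext w
      simp only [t, Finset.mem_filter, Finset.mem_univ, true_and]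
  have hn : t.card * Nat.card (Cz z) < (Finset.univ : Finset (P × Subgroup.center P)).card := by
    rw [Finset.card_univ, Fintype.card_prod, ← Nat.card_eq_fintype_card, ← Nat.card_eq_fintype_card,
      hcardP]
    have hZpos : 0 < Nat.card (Subgroup.center P) := Nat.card_pos
    have hCpos : 0 < Nat.card (Cz z) := Nat.card_pos
    have h1 : t.card + Nat.card (Subgroup.center P) ≤ p ^ a * Nat.card (Subgroup.center P) := by
      rw [hcard_t]; exact hcardA
    have h2 : (t.card + Nat.card (Subgroup.center P)) * Nat.card (Cz z) ≤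
        p ^ a * Nat.card (Subgroup.center P) * Nat.card (Cz z) := Nat.mul_le_mul_right _ h1
    have h3 : 0 < Nat.card (Subgroup.center P) * Nat.card (Cz z) := Nat.mul_pos hZpos hCpos
    nlinarith
  obtain ⟨y, _, hlt⟩ := Finset.exists_lt_card_fiber_of_mul_lt_card_of_maps_to hf hn
  have hFne : (Finset.univ.filter (fun q : P × Subgroup.center P => f q = y)).Nonempty := by
    rw [← Finset.card_pos]; omega
  obtain ⟨q₀, hq₀⟩ := hFne
  have e0 : f q₀ = y := (Finset.mem_filter.mp hq₀).2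
  have hex : ∃ q : P × Subgroup.center P, f q = y ∧ q₀.1⁻¹ * q.1 ∉ (Cz x) := by
    by_contra hcon
    push Not at hcon
    have hsub : (Finset.univ.filter (fun q : P × Subgroup.center P => f q = y)) ⊆
        Finset.univ.image
          (fun c : ↥(Cz x) => ((q₀.1 * (c : P), q₀.2) : P × Subgroup.center P)) := by
      intro q hq
      have e1 : f q = y := (Finset.mem_filter.mp hq).2
      have hc := hcon q e1
      rw [Finset.mem_image]
      refine ⟨⟨q₀.1⁻¹ * q.1, hc⟩, Finset.mem_univ _, ?_⟩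
      apply Prod.ext
      · simp
      · have e2 : q.1 * x * q.1⁻¹ = q₀.1 * x * q₀.1⁻¹ := by
          have h1 := mem_cz.mp hc
          have h2 : q.1 = q₀.1 * (q₀.1⁻¹ * q.1) := by group
          rw [h2]
          calc q₀.1 * (q₀.1⁻¹ * q.1) * x * (q₀.1 * (q₀.1⁻¹ * q.1))⁻¹
              = q₀.1 * ((q₀.1⁻¹ * q.1) * x) * (q₀.1⁻¹ * q.1)⁻¹ * q₀.1⁻¹ := by group
            _ = q₀.1 * (x * (q₀.1⁻¹ * q.1)) * (q₀.1⁻¹ * q.1)⁻¹ * q₀.1⁻¹ := by rw [h1]
            _ = q₀.1 * x * q₀.1⁻¹ := by group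
        have h3 := e1.trans e0.symm
        simp only [f] at h3
        rw [e2] at h3
        apply Subtype.ext
        exact (mul_left_cancel h3).symm
    have h1 := (Finset.card_le_card hsub).trans Finset.card_image_le
    rw [Finset.card_univ, ← Nat.card_eq_fintype_card, hC] at h1
    omega
  obtain ⟨q, e1, hk⟩ := hex
  -- step 7
  have hζ : (q₀.2 : P) * (q.2 : P)⁻¹ ∈ Subgroup.center P :=
    Subgroup.mul_mem _ q₀.2.2 (Subgroup.inv_mem _ q.2.2)
  have hkx : (q₀.1⁻¹ * q.1) * x * (q₀.1⁻¹ * q.1)⁻¹ = x * ((q₀.2 : P) * (q.2 : P)⁻¹) := by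
    have h3 := e1.trans e0.symm
    simp only [f] at h3
    have h4 : q.1 * x * q.1⁻¹ = q₀.1 * x * q₀.1⁻¹ * ((q₀.2 : P) * (q.2 : P)⁻¹) := by
      rw [← mul_assoc, ← h3]; group
    have h5 : (q₀.1⁻¹ * q.1) * x * (q₀.1⁻¹ * q.1)⁻¹ = q₀.1⁻¹ * (q.1 * x * q.1⁻¹) * q₀.1 := by group
    rw [h5, h4]
    have h6 : ((q₀.2 : P) * (q.2 : P)⁻¹) * q₀.1 = q₀.1 * ((q₀.2 : P) * (q.2 : P)⁻¹) :=
      (Subgroup.mem_center_iff.mp hζ q₀.1).symm
    calc q₀.1⁻¹ * (q₀.1 * x * q₀.1⁻¹ * ((q₀.2 : P) * (q.2 : P)⁻¹)) * q₀.1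
        = x * q₀.1⁻¹ * (((q₀.2 : P) * (q.2 : P)⁻¹) * q₀.1) := by group
      _ = x * q₀.1⁻¹ * (q₀.1 * ((q₀.2 : P) * (q.2 : P)⁻¹)) := by rw [h6]
      _ = x * ((q₀.2 : P) * (q.2 : P)⁻¹) := by group
  have hkp : (q₀.1⁻¹ * q.1) ^ p ∈ (Cz x) := by rw [hC]; exact hpow _
  have h7 := conj_pow_of_conj_eq hζ hkx p
  have h8 : (q₀.1⁻¹ * q.1) ^ p * x * ((q₀.1⁻¹ * q.1) ^ p)⁻¹ = x := by
    rw [mem_cz.mp hkp, mul_inv_cancel_right]
  rw [h8] at h7
  have h9 : ((q₀.2 : P) * (q.2 : P)⁻¹) ^ p = 1 := by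
    have := h7.symm
    rwa [mul_eq_left] at this
  have h10 := conj_pow_of_conj_eq' hζ hkx p
  rw [h9, mul_one] at h10
  apply hk
  rw [← hxp, mem_cz]
  exact mul_inv_eq_iff_eq_mul.mp h10

end Cfsg.Agent.S4365
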