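import Cfsg.Statements.S4370
import Cfsg.Agent.S0016
import Cfsg.Agent.Lib.Helper1.Carter1
import Cfsg.Agent.Lib.Helper1.QuatCent

set_option autoImplicit false
open Cfsg

namespace Cfsg.Agent.S4370

open Subgroup Cfsg.Agent.Lib.Helper1

section cyc

/-- In a finite cyclic group, elements killed by `p` lie in `zpowers` of any element of order `p`. -/
theorem mem_zpowers_of_pow_eq_one {C : Type*} [Group C] [Finite C] [IsCyclic C] {p : ℕ}
    (hp : p.Prime) (z y : C) (hz : orderOf z = p) (hy : y ^ p = 1) : y ∈ zpowers z := by
  classical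
  have := Fintype.ofFinite C
  have h1 := IsCyclic.card_pow_eq_one_le (α := C) hp.pos
  set S := Finset.univ.filter (fun a : C => a ^ p = 1) with hS
  set T := Finset.univ.filter (fun a : C => a ∈ zpowers z) with hT
  have hTS : T ⊆ S := by
    intro a ha
    simp only [hT, hS, Finset.mem_filter, Finset.mem_univ, true_and] at ha ⊢
    obtain ⟨k, rfl⟩ := ha
    rw [← zpow_natCast, ← zpow_mul, mul_comm, zpow_mul, zpow_natCast, ← hz, pow_orderOf_eq_one,
      one_zpow]
  have hTc : T.card = p := by
    rw [← hz, ← Nat.card_zpowers, Nat.card_eq_fintype_card, Fintype.card_subtype]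
  have heq := Finset.eq_of_subset_of_card_le hTS (by rw [hTc]; exact h1)
  have hyS : y ∈ S := by simp [hS, hy]
  rw [← heq] at hyS
  simpa [hT] using hyS

theorem mem_zpowers_of_mem_cyclic {G : Type*} [Group G] [Finite G] (C : Subgroup G) [IsCyclic C]
    {p : ℕ} (hp : p.Prime) (z y : G) (hzC : z ∈ C) (hyC : y ∈ C) (hz : orderOf z = p)
    (hy : y ^ p = 1) : y ∈ zpowers z := by
  have h1 := mem_zpowers_of_pow_eq_one (C := C) hp ⟨z, hzC⟩ ⟨y, hyC⟩
    (by rw [← hz]; exact Subgroup.orderOf_mk z hzC) (Subtype.ext (by simpa using hy))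
  obtain ⟨k, hk⟩ := h1
  refine ⟨k, ?_⟩
  have := congrArg Subtype.val hk
  simpa using this

end cyc

theorem forward {G : Type*} [Group G] [Finite G] (hG : Group.IsNilpotent G)
    (hna : ¬ IsMulCommutative G)
    (hcyc : ∀ x : G, x ∉ Subgroup.center G → IsCyclic (Subgroup.centralizer ({x} : Set G))) :
    ∃ (k m : ℕ), 1 ≤ k ∧ Odd m ∧
      Nonempty (G ≃* QuaternionGroup (2 ^ k) × Multiplicative (ZMod m)) := by
  classical
  -- Step 1: a non-abelian Sylow subgroup
  have hex : ∃ (p : ℕ) (_ : Fact p.Prime) (P : Sylow p G), ¬ IsMulCommutative P := by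
    by_contra hall
    push Not at hall
    obtain ⟨e⟩ := ((Group.isNilpotent_of_finite_tfae (G := G)).out 0 4).mp hG
    apply hna
    constructor
    constructor
    intro a b
    obtain ⟨a', rfl⟩ := e.surjective a
    obtain ⟨b', rfl⟩ := e.surjective b
    rw [← map_mul, ← map_mul]
    congr 1
    funext p P
    have hp : Fact (p : ℕ).Prime := ⟨Nat.prime_of_mem_primeFactors p.2⟩
    have := hall p hp P
    exact mul_comm' (a' p P) (b' p P)
  obtain ⟨p, hp, P, hPna⟩ := hex
  have hPn : (P : Subgroup G).Normal := inferInstance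
  have hPp : IsPGroup p P := P.isPGroup'
  -- Step 2: the complement
  obtain ⟨H, hc⟩ := Subgroup.exists_right_complement'_of_coprime (N := (P : Subgroup G))
    P.card_coprime_index
  have hHcard : Nat.card H = (P : Subgroup G).index := (hc.symm.index_eq_card).symm
  have hHidx : H.index = Nat.card P := hc.index_eq_card
  have hHn : H.Normal := by
    apply normal_of_hall_of_isNilpotent
    rw [hHcard, hHidx]
    exact P.card_coprime_index.symm
  have hcomm : ∀ a ∈ (P : Subgroup G), ∀ b ∈ H, Commute a b := fun a ha b hb =>
    Subgroup.commute_of_normal_of_disjoint _ _ hPn hHn hc.disjoint a b ha hb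
  let f : ↥(P.toSubgroup) × ↥H →* G :=
    MonoidHom.noncommCoprod (P : Subgroup G).subtype H.subtype (fun a b => hcomm a a.2 b b.2)
  have hf : Function.Bijective f := hc
  let eG : ↥(P.toSubgroup) × ↥H ≃* G := MulEquiv.ofBijective f hf
  have heG : ∀ g : G, ∃ a ∈ (P : Subgroup G), ∃ b ∈ H, g = a * b := by
    intro g
    obtain ⟨⟨a, b⟩, rfl⟩ := hf.2 g
    exact ⟨a, a.2, b, b.2, rfl⟩
  -- Step 3: a non-central element of `P`
  have hx₀ : ∃ x₀ ∈ (P : Subgroup G), x₀ ∉ center G := by
    by_contra h
    push Not at h
    apply hPna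
    constructor
    constructor
    intro a b
    apply Subtype.ext
    have := mem_center_iff.mp (h a a.2) b
    exact this.symm
  obtain ⟨x₀, hx₀P, hx₀⟩ := hx₀
  have hcyc₀ : IsCyclic (centralizer ({x₀} : Set G)) := hcyc x₀ hx₀
  -- Step 4: `H` is cyclic
  have hHle : H ≤ centralizer ({x₀} : Set G) := by
    intro b hb
    rw [mem_centralizer_iff]
    intro y hy
    rw [Set.mem_singleton_iff] at hy
    rw [hy]
    exact (hcomm x₀ hx₀P b hb).eq
  have hHcyc : IsCyclic H := Subgroup.isCyclic_of_le hHle
  -- Step 5: a central element of order `p`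
  have hPnt : Nontrivial P := by
    by_contra h
    rw [not_nontrivial_iff_subsingleton] at h
    apply hPna
    exact ⟨⟨fun a b => Subsingleton.elim _ _⟩⟩
  have hcnt : Nontrivial (center P) := hPp.center_nontrivial
  have hcp : IsPGroup p (center P) := hPp.to_subgroup _
  have hdvd : p ∣ Nat.card (center P) := by
    obtain ⟨j, hj⟩ := IsPGroup.iff_card.mp hcp
    have hj0 : j ≠ 0 := by
      rintro rfl
      rw [pow_zero] at hj
      have := Finite.one_lt_card (α := center P)
      omega
    rw [hj]
    exact dvd_pow_self p hj0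
  obtain ⟨z₀, hz₀⟩ := exists_prime_orderOf_dvd_card' p hdvd
  set z : P := (z₀ : P) with hz
  have hzord : orderOf (z : G) = p := by
    rw [Subgroup.orderOf_coe, hz, Subgroup.orderOf_coe]; exact hz₀
  have hzP : ∀ a : P, (a : G) * z = z * a := by
    intro a
    have := mem_center_iff.mp z₀.2 a
    exact congrArg Subtype.val this
  have hzG : (z : G) ∈ center G := by
    rw [mem_center_iff]
    intro g
    obtain ⟨a, ha, b, hb, rfl⟩ := heG g
    have h1 := hzP ⟨a, ha⟩
    have h2 : (z : G) * b = b * z := (hcomm z z.2 b hb).eq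
    simp only at h1
    calc a * b * (z : G) = a * (b * z) := by group
      _ = a * (z * b) := by rw [h2]
      _ = (a * z) * b := by group
      _ = (z * a) * b := by rw [h1]
      _ = z * (a * b) := by group
  -- Step 6: all elements of order dividing `p` in `P` are powers of `z`
  have hkey : ∀ y : P, y ^ p = 1 → y ∈ zpowers z := by
    intro y hy
    have hy' : (y : G) ^ p = 1 := by
      have := congrArg Subtype.val hy
      simpa using this
    have hmem : (y : G) ∈ zpowers (z : G) := by
      by_cases hyc : (y : G) ∈ center G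
      · have := hcyc₀
        apply mem_zpowers_of_mem_cyclic (centralizer ({x₀} : Set G)) hp.out (z : G) (y : G) _ _
          hzord hy'
        · rw [mem_centralizer_iff]
          intro w hw
          rw [Set.mem_singleton_iff] at hw
          rw [hw]
          exact mem_center_iff.mp hzG x₀
        · rw [mem_centralizer_iff]
          intro w hw
          rw [Set.mem_singleton_iff] at hw
          rw [hw]
          exact mem_center_iff.mp hyc x₀
      · have := hcyc (y : G) hyc
        apply mem_zpowers_of_mem_cyclic (centralizer ({(y : G)} : Set G)) hp.out (z : G) (y : G) _ _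
          hzord hy'
        · rw [mem_centralizer_iff]
          intro w hw
          rw [Set.mem_singleton_iff] at hw
          rw [hw]
          exact mem_center_iff.mp hzG y
        · rw [mem_centralizer_iff]
          intro w hw
          rw [Set.mem_singleton_iff] at hw
          rw [hw]
    obtain ⟨k, hk⟩ := hmem
    refine ⟨k, Subtype.ext ?_⟩
    simpa using hk
  -- Step 7: uniqueness of the subgroup of order `p`
  have hzordP : orderOf z = p := (Subgroup.orderOf_coe z).symm.trans hzord
  have hZcard : Nat.card (zpowers z) = p := by rw [Nat.card_zpowers, hzordP]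
  have huniq' : ∀ Hs : Subgroup P, Nat.card Hs = p → Hs = zpowers z := by
    intro Hs hHs
    have hle : Hs ≤ zpowers z := by
      intro y hy
      apply hkey
      have h1 : (⟨y, hy⟩ : Hs) ^ Nat.card Hs = 1 := pow_card_eq_one'
      rw [hHs] at h1
      have := congrArg Subtype.val h1
      simpa using this
    exact Subgroup.eq_of_le_of_card_ge hle (hZcard.trans hHs.symm).le
  have huniq : ∀ Hs Ks : Subgroup P, Nat.card Hs = p → Nat.card Ks = p → Hs = Ks := by
    intro Hs Ks h1 h2
    rw [huniq' Hs h1, huniq' Ks h2]
  -- Step 8: apply the classification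
  rcases Cfsg.Agent.S0016.result p hPp huniq with h | ⟨hp2, n, ⟨eP⟩⟩
  · exact absurd (@IsCyclic.isMulCommutative _ _ h) hPna
  · subst hp2
    have hn : 1 ≤ n := by
      by_contra hn0
      have hn0' : n = 0 := by omega
      subst hn0'
      have h1 : IsCyclic (QuaternionGroup (2 ^ 0)) := by
        rw [pow_zero]; exact QuaternionGroup.quaternionGroup_one_isCyclic
      have h2 : IsCyclic P := eP.isCyclic.mpr h1
      exact absurd (@IsCyclic.isMulCommutative _ _ h2) hPna
    refine ⟨n, Nat.card H, hn, ?_, ⟨?_⟩⟩
    · rw [hHcard, ← Nat.not_even_iff_odd, even_iff_two_dvd]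
      exact P.not_dvd_index
    · exact eG.symm.trans (MulEquiv.prodCongr eP (zmodCyclicMulEquiv hHcyc).symm)

theorem backward {G : Type*} [Group G] [Finite G] (k m : ℕ) (hm : Odd m)
    (e : G ≃* QuaternionGroup (2 ^ k) × Multiplicative (ZMod m)) (x : G)
    (hx : x ∉ Subgroup.center G) : IsCyclic (Subgroup.centralizer ({x} : Set G)) := by
  have hne : NeZero (2 ^ k) := ⟨by positivity⟩
  set q := (e x).1 with hq
  have hqc : q ∉ center (QuaternionGroup (2 ^ k)) := by
    intro hqc
    apply hx
    rw [mem_center_iff]
    intro g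
    apply e.injective
    rw [map_mul, map_mul]
    apply Prod.ext
    · exact mem_center_iff.mp hqc (e g).1
    · exact mul_comm _ _
  have hcQ : IsCyclic (centralizer ({q} : Set (QuaternionGroup (2 ^ k)))) :=
    isCyclic_centralizer_quaternion q hqc
  have hm0 : NeZero m := ⟨by rintro rfl; simp at hm⟩
  have hcop : (Nat.card (centralizer ({q} : Set (QuaternionGroup (2 ^ k))))).Coprime
      (Nat.card (Multiplicative (ZMod m))) := by
    have h1 : Nat.card (centralizer ({q} : Set (QuaternionGroup (2 ^ k)))) ∣ 2 ^ (k + 2) := by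
      have h2 : Nat.card (QuaternionGroup (2 ^ k)) = 2 ^ (k + 2) := by
        rw [Nat.card_eq_fintype_card, QuaternionGroup.card]; ring
      rw [← h2]
      exact Subgroup.card_subgroup_dvd_card _
    have h3 : Nat.card (Multiplicative (ZMod m)) = m := Nat.card_zmod m
    rw [h3]
    exact Nat.Coprime.coprime_dvd_left h1 (Nat.Coprime.pow_left _ (Nat.coprime_two_left.mpr hm))
  have hcZ : IsCyclic (Multiplicative (ZMod m)) := inferInstance
  have hcprod : IsCyclic (centralizer ({q} : Set (QuaternionGroup (2 ^ k))) ×
      Multiplicative (ZMod m)) := Group.isCyclic_prod_iff.mpr ⟨hcQ, hcZ, hcop⟩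
  let φ₁ : centralizer ({x} : Set G) →* centralizer ({q} : Set (QuaternionGroup (2 ^ k))) :=
    MonoidHom.codRestrict (((MonoidHom.fst _ _).comp e.toMonoidHom).comp
      (centralizer ({x} : Set G)).subtype) _ (by
        intro y
        rw [mem_centralizer_iff]
        intro w hw
        rw [Set.mem_singleton_iff] at hw
        rw [hw]
        have hy := y.2
        rw [mem_centralizer_iff] at hy
        have h1 := hy x (Set.mem_singleton x)
        have h2 := congrArg (fun t => (e t).1) h1
        simpa using h2)
  let φ₂ : centralizer ({x} : Set G) →* Multiplicative (ZMod m) :=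
    ((MonoidHom.snd _ _).comp e.toMonoidHom).comp (centralizer ({x} : Set G)).subtype
  let φ := φ₁.prod φ₂
  have hφ : Function.Injective φ := by
    intro y y' h
    have h1 : ((e y).1 : QuaternionGroup (2 ^ k)) = (e y').1 := by
      have := congrArg (fun t => (t.1 : QuaternionGroup (2 ^ k))) h
      simpa [φ, φ₁] using this
    have h2 : (e y).2 = (e y').2 := by
      have := congrArg (fun t => t.2) h
      simpa [φ, φ₂] using this
    apply Subtype.ext
    apply e.injective
    exact Prod.ext h1 h2
  exact isCyclic_of_injective φ hφ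

/-- Let G be a finite non-abelian nilpotent group. Then the centralizer of every non-central element of G is cyclic if and only if G is isomorphic to the direct product of a generalized quaternion group and a cyclic group of odd order. -/
theorem result {G : Type*} [Group G] [Finite G] (hG : Group.IsNilpotent G)
    (hna : ¬ IsMulCommutative G) :
    (∀ x : G, x ∉ Subgroup.center G → IsCyclic (Subgroup.centralizer ({x} : Set G))) ↔
      ∃ (k m : ℕ), 1 ≤ k ∧ Odd m ∧ Nonempty (G ≃* QuaternionGroup (2 ^ k) × Multiplicative (ZMod m)) := by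
  constructor
  · exact forward hG hna
  · rintro ⟨k, m, -, hm, ⟨e⟩⟩ x hx
    exact backward k m hm e x hx

end Cfsg.Agent.S4370
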