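import Cfsg.Statements.S4398
import Cfsg.Agent.Lib.Helper73.MaxClass

set_option autoImplicit false
open Cfsg

namespace Cfsg.Agent.S4398

open Cfsg.Agent.Lib.Helper73

/-- Sectional 2-rank at most two: every elementary abelian quotient of every subgroup has order at
most four. -/
theorem quotRankTwo_of_sectional {S : Type*} [Group S] (hr : Cfsg.SectionalPRankLE 2 2 S)
    (M : Subgroup S) : QuotRankTwo ↥M := by
  intro N hN hsq
  have h1 := hr M N
  have hq2 : ∀ q : ↥M ⧸ N, q ^ 2 = 1 := by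
    intro q
    obtain ⟨g, rfl⟩ := QuotientGroup.mk'_surjective N q
    rw [← map_pow]
    exact (QuotientGroup.eq_one_iff _).2 (hsq g)
  have hinv : ∀ q : ↥M ⧸ N, q⁻¹ = q := fun q =>
    inv_eq_of_mul_eq_one_right (by rw [← pow_two]; exact hq2 q)
  have hcomm : ∀ a b : ↥M ⧸ N, a * b = b * a := by
    intro a b
    calc a * b = (a * b)⁻¹ := (hinv _).symm
      _ = b⁻¹ * a⁻¹ := mul_inv_rev a b
      _ = b * a := by rw [hinv, hinv]
  have h2 := h1 ⊤ ⟨⟨fun a b => Subtype.ext (hcomm a.1 b.1)⟩⟩ (fun a _ => hq2 a)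
  rw [Subgroup.card_top] at h2
  rw [Subgroup.index_eq_card]
  exact h2

/-- Let S be a finite 2-group of sectional 2-rank at most 2 that contains a subgroup isomorphic to the dihedral group of order 8 or to the quaternion group of order 8. Then S is dihedral of order at least 8, semidihedral of order at least 16 (order 2^(k+4) with an element a of order 2^(k+3) and an involution b with b a b⁻¹ = a^(2^(k+2)−1)), or generalized quaternion of order at least 8. -/
theorem result {S : Type*} [Group S] [Finite S] (h2 : IsPGroup 2 S) (hr : Cfsg.SectionalPRankLE 2 2 S)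
    (hsub : ∃ H : Subgroup S, Nonempty (↥H ≃* DihedralGroup 4) ∨ Nonempty (↥H ≃* QuaternionGroup 2)) :
    ((∃ k : ℕ, Nonempty (S ≃* DihedralGroup (2 ^ (k + 2)))) ∨
      (∃ k : ℕ, Nat.card S = 2 ^ (k + 4) ∧ ∃ a b : S, orderOf a = 2 ^ (k + 3) ∧ orderOf b = 2 ∧ b * a * b⁻¹ = a ^ (2 ^ (k + 2) - 1)) ∨
      (∃ k : ℕ, Nonempty (S ≃* QuaternionGroup (2 ^ (k + 1))))) := by
  obtain ⟨H, hH⟩ := hsub
  have hHMC : MC ↥H := by
    rcases hH with ⟨⟨e⟩⟩ | ⟨⟨e⟩⟩
    · exact MC.congr e.symm MC_dihedral_four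
    · exact MC.congr e.symm MC_quaternion_two
  exact maxClass_of_MC_le h2 (quotRankTwo_of_sectional hr) H hHMC

end Cfsg.Agent.S4398
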