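import Cfsg.Statements.S4401
import Cfsg.Agent.S4400
import Cfsg.Agent.S4387
import Cfsg.Agent.Lib.Helper33.Conj
import Cfsg.Agent.Lib.Helper73.SectionalRank

set_option autoImplicit false
open Cfsg

namespace Cfsg.Agent.S4401

open Cfsg.Agent.S4400 Cfsg.Agent.Lib.Helper33 Cfsg.Agent.Lib.Helper73
open scoped commutatorElement

section general

theorem not_comm_iff {S : Type*} [Group S] (P : Subgroup S) :
    ¬ IsMulCommutative ↥P ↔ ∃ a ∈ P, ∃ b ∈ P, a * b ≠ b * a := by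
  constructor
  · intro h
    by_contra hcon
    push Not at hcon
    exact h ⟨⟨fun a b => Subtype.ext (hcon a a.2 b b.2)⟩⟩
  · rintro ⟨a, ha, b, hb, hab⟩ h
    exact hab (congrArg Subtype.val (h.is_comm.comm ⟨a, ha⟩ ⟨b, hb⟩))

theorem not_comm_of_equiv {G G' : Type*} [Group G] [Group G'] (e : G ≃* G')
    (h : ¬ IsMulCommutative G) : ¬ IsMulCommutative G' := fun h' =>
  h ⟨⟨fun a b => e.injective (by rw [map_mul, map_mul]; exact h'.is_comm.comm _ _)⟩⟩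

theorem card_center_congr {G G' : Type*} [Group G] [Group G'] (e : G ≃* G') :
    Nat.card (Subgroup.center G) = Nat.card (Subgroup.center G') := by
  refine Nat.card_congr
    { toFun := fun r => ⟨e r, ?_⟩
      invFun := fun r => ⟨e.symm r, ?_⟩
      left_inv := fun r => Subtype.ext (e.symm_apply_apply _)
      right_inv := fun r => Subtype.ext (e.apply_symm_apply _) }
  · rw [Subgroup.mem_center_iff]
    intro g
    obtain ⟨g', rfl⟩ := e.surjective g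
    rw [← map_mul, ← map_mul, Subgroup.mem_center_iff.1 r.2 g']
  · rw [Subgroup.mem_center_iff]
    intro g
    obtain ⟨g', rfl⟩ := e.symm.surjective g
    rw [← map_mul, ← map_mul, Subgroup.mem_center_iff.1 r.2 g']

variable {S : Type*} [Group S]

theorem zOf_cj (t : S) (P : Subgroup S) : zOf (cj t P) = cj t (zOf P) := by
  ext x
  rw [mem_zOf_iff, mem_cj, mem_cj, mem_zOf_iff]
  constructor
  · rintro ⟨hx, hc⟩
    refine ⟨hx, fun y hy => ?_⟩
    have hy' : t * y * t⁻¹ ∈ cj t P := conj_mem_cj hy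
    have := hc (t * y * t⁻¹) hy'
    calc y * (t⁻¹ * x * t) = t⁻¹ * ((t * y * t⁻¹) * x) * t := by group
      _ = t⁻¹ * (x * (t * y * t⁻¹)) * t := by rw [this]
      _ = (t⁻¹ * x * t) * y := by group
  · rintro ⟨hx, hc⟩
    refine ⟨hx, fun y hy => ?_⟩
    rw [mem_cj] at hy
    have := hc _ hy
    calc y * x = t * ((t⁻¹ * y * t) * (t⁻¹ * x * t)) * t⁻¹ := by group
      _ = t * ((t⁻¹ * x * t) * (t⁻¹ * y * t)) * t⁻¹ := by rw [this]
      _ = x * y := by group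

theorem not_comm_cj (t : S) (P : Subgroup S) (h : ¬ IsMulCommutative ↥P) :
    ¬ IsMulCommutative ↥(cj t P) :=
  not_comm_of_equiv (cjEquiv t P) h

theorem card_center_cj (t : S) (P : Subgroup S) :
    Nat.card (Subgroup.center ↥(cj t P)) = Nat.card (Subgroup.center ↥P) :=
  (card_center_congr (cjEquiv t P)).symm

/-- internal form of S4400 inside a subgroup `T` -/
theorem internal_S4400 [Finite S] (h2 : IsPGroup 2 S) (hr : Cfsg.SectionalPRankLE 2 4 S)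
    (T P Q : Subgroup S) (hPT : P ≤ T) (hQT : Q ≤ T)
    (hPn : ∀ t ∈ T, ∀ x ∈ P, t * x * t⁻¹ ∈ P) (hQn : ∀ t ∈ T, ∀ x ∈ Q, t * x * t⁻¹ ∈ Q)
    (hP : ¬ IsMulCommutative ↥P) (hQ : ¬ IsMulCommutative ↥Q)
    (hZP : Nat.card ↥(Subgroup.center ↥P) = 2) (hZQ : Nat.card ↥(Subgroup.center ↥Q) = 2)
    (hne : zOf P ≠ zOf Q) :
    (∀ x ∈ P, ∀ y ∈ Q, x * y = y * x) ∧ P ⊓ Q = ⊥ ∧
      ∀ c ∈ T, (∀ x ∈ P, c * x = x * c) → (∀ y ∈ Q, c * y = y * c) → c ∈ P ⊔ Q := by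
  have hP'n : (P.subgroupOf T).Normal := by
    refine ⟨fun n hn t => ?_⟩
    rw [Subgroup.mem_subgroupOf] at hn ⊢
    exact hPn t t.2 n hn
  have hQ'n : (Q.subgroupOf T).Normal := by
    refine ⟨fun n hn t => ?_⟩
    rw [Subgroup.mem_subgroupOf] at hn ⊢
    exact hQn t t.2 n hn
  have hP' : ¬ IsMulCommutative ↥(P.subgroupOf T) :=
    not_comm_of_equiv (Subgroup.subgroupOfEquivOfLe hPT).symm hP
  have hQ' : ¬ IsMulCommutative ↥(Q.subgroupOf T) :=
    not_comm_of_equiv (Subgroup.subgroupOfEquivOfLe hQT).symm hQ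
  have hZP' : Nat.card ↥(Subgroup.center ↥(P.subgroupOf T)) = 2 := by
    rw [card_center_congr (Subgroup.subgroupOfEquivOfLe hPT)]; exact hZP
  have hZQ' : Nat.card ↥(Subgroup.center ↥(Q.subgroupOf T)) = 2 := by
    rw [card_center_congr (Subgroup.subgroupOfEquivOfLe hQT)]; exact hZQ
  have hzmem : ∀ (R : Subgroup S), R ≤ T → ∀ x : ↥T, x ∈ zOf (R.subgroupOf T) ↔ (x : S) ∈ zOf R := by
    intro R hRT x
    rw [mem_zOf_iff, mem_zOf_iff, Subgroup.mem_subgroupOf]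
    constructor
    · rintro ⟨hx, hc⟩
      refine ⟨hx, fun y hy => ?_⟩
      have := hc ⟨y, hRT hy⟩ (Subgroup.mem_subgroupOf.2 hy)
      exact congrArg Subtype.val this
    · rintro ⟨hx, hc⟩
      refine ⟨hx, fun y hy => ?_⟩
      exact Subtype.ext (hc y (Subgroup.mem_subgroupOf.1 hy))
  have hne' : (Subgroup.center ↥(P.subgroupOf T)).map (P.subgroupOf T).subtype ≠
      (Subgroup.center ↥(Q.subgroupOf T)).map (Q.subgroupOf T).subtype := by
    intro heq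
    apply hne
    ext x
    constructor
    · intro hx
      have hxT : x ∈ T := hPT (zOf_le P hx)
      have h1 : (⟨x, hxT⟩ : ↥T) ∈ zOf (P.subgroupOf T) := (hzmem P hPT _).2 hx
      have h2 : (⟨x, hxT⟩ : ↥T) ∈ zOf (Q.subgroupOf T) := by
        show _ ∈ Subgroup.map _ _
        rw [← heq]; exact h1
      exact (hzmem Q hQT _).1 h2
    · intro hx
      have hxT : x ∈ T := hQT (zOf_le Q hx)
      have h1 : (⟨x, hxT⟩ : ↥T) ∈ zOf (Q.subgroupOf T) := (hzmem Q hQT _).2 hx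
      have h2 : (⟨x, hxT⟩ : ↥T) ∈ zOf (P.subgroupOf T) := by
        show _ ∈ Subgroup.map _ _
        rw [heq]; exact h1
      exact (hzmem P hPT _).1 h2
  obtain ⟨h1, h2', h3⟩ := Cfsg.Agent.S4400.result (h2.to_subgroup T) (sectional_subgroup hr T)
    (P.subgroupOf T) (Q.subgroupOf T) hP' hQ' hZP' hZQ' hne'
  have hcomm : ∀ x ∈ P, ∀ y ∈ Q, x * y = y * x := by
    intro x hx y hy
    have hm : ⁅(⟨x, hPT hx⟩ : ↥T), ⟨y, hQT hy⟩⁆ ∈ ⁅P.subgroupOf T, Q.subgroupOf T⁆ :=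
      Subgroup.commutator_mem_commutator (Subgroup.mem_subgroupOf.2 hx) (Subgroup.mem_subgroupOf.2 hy)
    rw [h1, Subgroup.mem_bot, commutatorElement_eq_one_iff_commute] at hm
    exact congrArg Subtype.val hm.eq
  refine ⟨hcomm, ?_, ?_⟩
  · rw [eq_bot_iff]
    intro x hx
    have hm : (⟨x, hPT hx.1⟩ : ↥T) ∈ P.subgroupOf T ⊓ Q.subgroupOf T :=
      ⟨Subgroup.mem_subgroupOf.2 hx.1, Subgroup.mem_subgroupOf.2 hx.2⟩
    rw [h2', Subgroup.mem_bot] at hm
    rw [Subgroup.mem_bot]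
    exact congrArg Subtype.val hm
  · intro c hc hcP hcQ
    have hm : (⟨c, hc⟩ : ↥T) ∈ Subgroup.centralizer
        ((P.subgroupOf T ⊔ Q.subgroupOf T : Subgroup ↥T) : Set ↥T) := by
      have hle : P.subgroupOf T ⊔ Q.subgroupOf T ≤
          Subgroup.centralizer ({(⟨c, hc⟩ : ↥T)} : Set ↥T) := by
        rw [sup_le_iff]
        constructor
        · intro x hx
          rw [Subgroup.mem_centralizer_singleton_iff]
          exact Subtype.ext (hcP x (Subgroup.mem_subgroupOf.1 hx)).symm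
        · intro x hx
          rw [Subgroup.mem_centralizer_singleton_iff]
          exact Subtype.ext (hcQ x (Subgroup.mem_subgroupOf.1 hx)).symm
      rw [Subgroup.mem_centralizer_iff]
      intro g hg
      have := hle hg
      rw [Subgroup.mem_centralizer_singleton_iff] at this
      exact this
    have h4 := h3 hm
    have h5 : c ∈ (P.subgroupOf T ⊔ Q.subgroupOf T).map T.subtype := ⟨_, h4, rfl⟩
    rw [Subgroup.map_sup, Subgroup.map_subgroupOf_eq_of_le hPT,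
      Subgroup.map_subgroupOf_eq_of_le hQT] at h5
    exact h5

end general

section main

variable {S : Type*} [Group S]

theorem conj_mem_of_normalizer {H : Subgroup S} {t : S} (ht : t ∈ Subgroup.normalizer (H : Set S))
    {x : S} (hx : x ∈ H) : t * x * t⁻¹ ∈ H :=
  (Subgroup.mem_normalizer_iff.1 ht x).1 hx

theorem conj_mem_of_normalizer' {H : Subgroup S} {t : S} (ht : t ∈ Subgroup.normalizer (H : Set S))
    {x : S} (hx : x ∈ H) : t⁻¹ * x * t ∈ H := by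
  have := conj_mem_of_normalizer (Subgroup.inv_mem _ ht) hx
  rwa [inv_inv] at this

theorem key_pair [Finite S] (h2 : IsPGroup 2 S) (hr : Cfsg.SectionalPRankLE 2 4 S)
    (P : Subgroup S) (hP : ¬ IsMulCommutative ↥P) (hZP : Nat.card ↥(Subgroup.center ↥P) = 2)
    (z : S) (hzP : z ∈ zOf P) (hz1 : z ≠ 1) (hzall : ∀ x ∈ zOf P, x = 1 ∨ x = z)
    (S₀ : Subgroup S) (hS₀ : ∀ g, g ∈ S₀ ↔ g * z = z * g)
    (hPn : ∀ s ∈ S₀, ∀ x ∈ P, s * x * s⁻¹ ∈ P)
    (t : S) (ht : t ∈ Subgroup.normalizer (S₀ : Set S)) (htS₀ : t ∉ S₀) :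
    (∀ x ∈ P, ∀ y ∈ cj t P, x * y = y * x) ∧ P ⊓ cj t P = ⊥ ∧
      ∀ c ∈ S₀, (∀ x ∈ P, c * x = x * c) → (∀ y ∈ cj t P, c * y = y * c) → c ∈ P ⊔ cj t P := by
  have hPS₀ : P ≤ S₀ := by
    intro x hx
    rw [hS₀]
    exact ((mem_zOf_iff P z).1 hzP).2 x hx
  have hQS₀ : cj t P ≤ S₀ := by
    intro y hy
    rw [mem_cj] at hy
    have h1 := conj_mem_of_normalizer ht (hPS₀ hy)
    have e : t * (t⁻¹ * y * t) * t⁻¹ = y := by group
    rwa [e] at h1
  have hQn : ∀ c ∈ S₀, ∀ y ∈ cj t P, c * y * c⁻¹ ∈ cj t P := by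
    intro c hc y hy
    rw [mem_cj] at hy ⊢
    have h1 : t⁻¹ * c * t ∈ S₀ := conj_mem_of_normalizer' ht hc
    have h2' := hPn _ h1 _ hy
    have e : t⁻¹ * (c * y * c⁻¹) * t = t⁻¹ * c * t * (t⁻¹ * y * t) * (t⁻¹ * c * t)⁻¹ := by group
    rw [e]; exact h2'
  have hne : zOf P ≠ zOf (cj t P) := by
    intro heq
    have h1 : t * z * t⁻¹ ∈ zOf (cj t P) := by
      rw [zOf_cj]; exact conj_mem_cj hzP
    rw [← heq] at h1
    rcases hzall _ h1 with h | h
    · apply hz1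
      have : z = t⁻¹ * (t * z * t⁻¹) * t := by group
      rw [this, h]; group
    · apply htS₀
      rw [hS₀]
      calc t * z = (t * z * t⁻¹) * t := by group
        _ = z * t := by rw [h]
  exact internal_S4400 h2 hr S₀ P (cj t P) hPS₀ hQS₀ hPn hQn hP (not_comm_cj t P hP) hZP
    (by rw [card_center_cj]; exact hZP) hne

theorem index_two_aux [Finite S] (h2 : IsPGroup 2 S) (hr : Cfsg.SectionalPRankLE 2 4 S)
    (P : Subgroup S) (hP : ¬ IsMulCommutative ↥P) (hZP : Nat.card ↥(Subgroup.center ↥P) = 2)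
    (z : S) (hzP : z ∈ zOf P) (hz1 : z ≠ 1) (hzall : ∀ x ∈ zOf P, x = 1 ∨ x = z)
    (S₀ : Subgroup S) (hS₀ : ∀ g, g ∈ S₀ ↔ g * z = z * g)
    (hPn : ∀ s ∈ S₀, ∀ x ∈ P, s * x * s⁻¹ ∈ P)
    (s t : S) (hs : s ∈ Subgroup.normalizer (S₀ : Set S)) (hsS₀ : s ∉ S₀)
    (ht : t ∈ Subgroup.normalizer (S₀ : Set S)) (htS₀ : t ∉ S₀) : s⁻¹ * t ∈ S₀ := by
  by_contra hr'
  have hrn : s⁻¹ * t ∈ Subgroup.normalizer (S₀ : Set S) :=
    Subgroup.mul_mem _ (Subgroup.inv_mem _ hs) ht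
  obtain ⟨hs1, hs2, hs3⟩ := key_pair h2 hr P hP hZP z hzP hz1 hzall S₀ hS₀ hPn s hs hsS₀
  obtain ⟨ht1, -, -⟩ := key_pair h2 hr P hP hZP z hzP hz1 hzall S₀ hS₀ hPn t ht htS₀
  obtain ⟨hr1, -, -⟩ := key_pair h2 hr P hP hZP z hzP hz1 hzall S₀ hS₀ hPn (s⁻¹ * t) hrn hr'
  have hPS₀ : P ≤ S₀ := by
    intro x hx
    rw [hS₀]
    exact ((mem_zOf_iff P z).1 hzP).2 x hx
  have hQS₀ : cj t P ≤ S₀ := by
    intro y hy
    rw [mem_cj] at hy
    have h1 := conj_mem_of_normalizer ht (hPS₀ hy)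
    have e : t * (t⁻¹ * y * t) * t⁻¹ = y := by group
    rwa [e] at h1
  -- `cj s P` and `cj t P` commute
  have hst : ∀ x ∈ cj s P, ∀ y ∈ cj t P, x * y = y * x := by
    intro x hx y hy
    rw [mem_cj] at hx
    have hy' : s⁻¹ * y * s ∈ cj (s⁻¹ * t) P := by
      rw [mem_cj] at hy ⊢
      have e : (s⁻¹ * t)⁻¹ * (s⁻¹ * y * s) * (s⁻¹ * t) = t⁻¹ * y * t := by group
      rw [e]; exact hy
    have := hr1 _ hx _ hy'
    calc x * y = s * ((s⁻¹ * x * s) * (s⁻¹ * y * s)) * s⁻¹ := by group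
      _ = s * ((s⁻¹ * y * s) * (s⁻¹ * x * s)) * s⁻¹ := by rw [this]
      _ = y * x := by group
  -- so `cj t P` is abelian
  apply not_comm_cj t P hP
  refine ⟨⟨fun a b => Subtype.ext ?_⟩⟩
  have ha : (a : S) ∈ P ⊔ cj s P := hs3 a (hQS₀ a.2)
    (fun x hx => (ht1 x hx a a.2).symm) (fun y hy => (hst y hy a a.2).symm)
  have hle : P ⊔ cj s P ≤ Subgroup.centralizer ({(b : S)} : Set S) := by
    rw [sup_le_iff]
    constructor
    · intro x hx
      rw [Subgroup.mem_centralizer_singleton_iff]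
      exact ht1 x hx b b.2
    · intro x hx
      rw [Subgroup.mem_centralizer_singleton_iff]
      exact hst x hx b b.2
  have := hle ha
  rw [Subgroup.mem_centralizer_singleton_iff] at this
  exact this

end main

section rank

variable {S : Type*} [Group S]

theorem sectional_two [Finite S] (hr : Cfsg.SectionalPRankLE 2 4 S) (P : Subgroup S) (s : S)
    (hcomm : ∀ x ∈ P, ∀ y ∈ cj s P, x * y = y * x) (hinf : P ⊓ cj s P = ⊥) :
    Cfsg.SectionalPRankLE 2 2 ↥P := by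
  apply sectional_of_intRankLE
  apply IntRankLE.of_prod_self
  have hfg : ∀ (m n : ↥P), Commute (P.subtype m)
      (((MulAut.conj s).toMonoidHom.comp P.subtype) n) :=
    fun m n => hcomm m m.2 _ (conj_mem_cj n.2)
  refine IntRankLE.of_injective (P.subtype.noncommCoprod
    ((MulAut.conj s).toMonoidHom.comp P.subtype) hfg) ?_ (intRankLE_of_sectional hr)
  rw [injective_iff_map_eq_one]
  rintro ⟨x, y⟩ h
  rw [MonoidHom.noncommCoprod_apply] at h
  have hgy : ((MulAut.conj s).toMonoidHom.comp P.subtype) y = s * (y : S) * s⁻¹ := rfl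
  have h1 : (x : S) ∈ P ⊓ cj s P := by
    refine ⟨x.2, ?_⟩
    have e : (x : S) = (s * (y : S) * s⁻¹)⁻¹ := by
      rw [← hgy]; exact eq_inv_of_mul_eq_one_left h
    rw [e]
    exact Subgroup.inv_mem _ (conj_mem_cj y.2)
  rw [hinf, Subgroup.mem_bot] at h1
  have hx : x = 1 := Subtype.ext h1
  rw [hx, map_one, one_mul, hgy] at h
  have hy : (y : S) = 1 := by
    have : (y : S) = s⁻¹ * (s * (y : S) * s⁻¹) * s := by group
    rw [this, h]; group
  have hy' : y = 1 := Subtype.ext hy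
  rw [hx, hy']
  rfl

theorem exists_mul_of_mem_sup {A B : Subgroup S} (hcomm : ∀ a ∈ A, ∀ b ∈ B, a * b = b * a)
    {g : S} (hg : g ∈ A ⊔ B) : ∃ a ∈ A, ∃ b ∈ B, g = a * b := by
  rw [Subgroup.sup_eq_closure] at hg
  induction hg using Subgroup.closure_induction with
  | mem x hx =>
    rcases hx with hx | hx
    · exact ⟨x, hx, 1, Subgroup.one_mem _, (mul_one x).symm⟩
    · exact ⟨1, Subgroup.one_mem _, x, hx, (one_mul x).symm⟩
  | one => exact ⟨1, Subgroup.one_mem _, 1, Subgroup.one_mem _, (mul_one 1).symm⟩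
  | mul x y _ _ ihx ihy =>
    obtain ⟨a₁, ha₁, b₁, hb₁, rfl⟩ := ihx
    obtain ⟨a₂, ha₂, b₂, hb₂, rfl⟩ := ihy
    refine ⟨a₁ * a₂, Subgroup.mul_mem _ ha₁ ha₂, b₁ * b₂, Subgroup.mul_mem _ hb₁ hb₂, ?_⟩
    have := hcomm a₂ ha₂ b₁ hb₁
    calc a₁ * b₁ * (a₂ * b₂) = a₁ * (b₁ * a₂) * b₂ := by group
      _ = a₁ * (a₂ * b₁) * b₂ := by rw [this]
      _ = a₁ * a₂ * (b₁ * b₂) := by group
  | inv x _ ihx =>
    obtain ⟨a₁, ha₁, b₁, hb₁, rfl⟩ := ihx
    refine ⟨a₁⁻¹, Subgroup.inv_mem _ ha₁, b₁⁻¹, Subgroup.inv_mem _ hb₁, ?_⟩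
    have := hcomm a₁⁻¹ (Subgroup.inv_mem _ ha₁) b₁⁻¹ (Subgroup.inv_mem _ hb₁)
    rw [mul_inv_rev, this]

end rank

section top

variable {S : Type*} [Group S]

theorem normalizer_eq_top [Finite S] (h2 : IsPGroup 2 S) (hr : Cfsg.SectionalPRankLE 2 4 S)
    (P : Subgroup S) (hP : ¬ IsMulCommutative ↥P) (hZP : Nat.card ↥(Subgroup.center ↥P) = 2)
    (z : S) (hzP : z ∈ zOf P) (hz1 : z ≠ 1) (hzall : ∀ x ∈ zOf P, x = 1 ∨ x = z)
    (S₀ : Subgroup S) (hS₀ : ∀ g, g ∈ S₀ ↔ g * z = z * g)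
    (hPn : ∀ s ∈ S₀, ∀ x ∈ P, s * x * s⁻¹ ∈ P) (hS₀top : S₀ ≠ ⊤) :
    Subgroup.normalizer (S₀ : Set S) = ⊤ := by
  have : Fact (Nat.Prime 2) := ⟨Nat.prime_two⟩
  by_contra hN
  obtain ⟨N₁, hN₁⟩ : ∃ N₁, N₁ = Subgroup.normalizer (S₀ : Set S) := ⟨_, rfl⟩
  rw [← hN₁] at hN
  have hnil : Group.IsNilpotent S := h2.isNilpotent
  have hnc : NormalizerCondition S := Group.normalizerCondition_of_isNilpotent
  have hlt0 : S₀ < N₁ := hN₁ ▸ hnc S₀ (lt_top_iff_ne_top.2 hS₀top)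
  obtain ⟨s, hsN, hsS₀⟩ := SetLike.exists_of_lt hlt0
  have hlt1 : N₁ < Subgroup.normalizer (N₁ : Set S) := hnc N₁ (lt_top_iff_ne_top.2 hN)
  obtain ⟨u, huN, huN₁⟩ := SetLike.exists_of_lt hlt1
  have hS₀N : S₀ ≤ N₁ := hlt0.le
  -- index two
  have F1 : ∀ x ∈ N₁, ∀ y ∈ N₁, x ∉ S₀ → y ∉ S₀ → x⁻¹ * y ∈ S₀ := by
    intro x hx y hy hx' hy'
    exact index_two_aux h2 hr P hP hZP z hzP hz1 hzall S₀ hS₀ hPn x y (hN₁ ▸ hx) hx'
      (hN₁ ▸ hy) hy'
  obtain ⟨hs1, hs2, hs3⟩ := key_pair h2 hr P hP hZP z hzP hz1 hzall S₀ hS₀ hPn s (hN₁ ▸ hsN) hsS₀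
  have hPS₀ : P ≤ S₀ := by
    intro x hx
    rw [hS₀]
    exact ((mem_zOf_iff P z).1 hzP).2 x hx
  have hQS₀ : cj s P ≤ S₀ := by
    intro y hy
    rw [mem_cj] at hy
    have h1 := conj_mem_of_normalizer (hN₁ ▸ hsN) (hPS₀ hy)
    have e : s * (s⁻¹ * y * s) * s⁻¹ = y := by group
    rwa [e] at h1
  have hQn : ∀ c ∈ S₀, ∀ y ∈ cj s P, c * y * c⁻¹ ∈ cj s P := by
    intro c hc y hy
    rw [mem_cj] at hy ⊢
    have h1 : s⁻¹ * c * s ∈ S₀ := conj_mem_of_normalizer' (hN₁ ▸ hsN) hc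
    have h2' := hPn _ h1 _ hy
    have e : s⁻¹ * (c * y * c⁻¹) * s = s⁻¹ * c * s * (s⁻¹ * y * s) * (s⁻¹ * c * s)⁻¹ := by group
    rw [e]; exact h2'
  -- the element z₃ and its centralizer
  obtain ⟨z₃, hz₃⟩ : ∃ z₃, z₃ = u * z * u⁻¹ := ⟨_, rfl⟩
  have C3iff : ∀ g : S, g * z₃ = z₃ * g ↔ u⁻¹ * g * u ∈ S₀ := by
    intro g
    rw [hS₀, hz₃]
    constructor
    · intro h
      calc u⁻¹ * g * u * z = u⁻¹ * (g * (u * z * u⁻¹)) * u := by group
        _ = u⁻¹ * ((u * z * u⁻¹) * g) * u := by rw [h]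
        _ = z * (u⁻¹ * g * u) := by group
    · intro h
      calc g * (u * z * u⁻¹) = u * ((u⁻¹ * g * u) * z) * u⁻¹ := by group
        _ = u * (z * (u⁻¹ * g * u)) * u⁻¹ := by rw [h]
        _ = u * z * u⁻¹ * g := by group
  have F1u : ∀ x ∈ N₁, ∀ y ∈ N₁, ¬ (x * z₃ = z₃ * x) → ¬ (y * z₃ = z₃ * y) →
      (x⁻¹ * y) * z₃ = z₃ * (x⁻¹ * y) := by
    intro x hx y hy hx' hy'
    rw [C3iff] at hx' hy' ⊢
    have h1 := F1 _ (conj_mem_of_normalizer' huN hx) _ (conj_mem_of_normalizer' huN hy) hx' hy'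
    have e : (u⁻¹ * x * u)⁻¹ * (u⁻¹ * y * u) = u⁻¹ * (x⁻¹ * y) * u := by group
    rwa [e] at h1
  -- z lies in the centralizer of z₃
  have F2 : z * z₃ = z₃ * z := by
    have hle : frattini ↥P ≤ (cj u S₀).subgroupOf P := by
      by_cases htop : (cj u S₀).subgroupOf P = ⊤
      · rw [htop]; exact le_top
      · have hidx : ((cj u S₀).subgroupOf P).index = 2 := by
          obtain ⟨a, -, ha⟩ := SetLike.exists_of_lt (lt_top_iff_ne_top.2 htop)
          rw [Subgroup.index_eq_two_iff]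
          refine ⟨a, fun b => ?_⟩
          have hmem : ∀ x : ↥P, x ∈ (cj u S₀).subgroupOf P ↔ (x : S) * z₃ = z₃ * (x : S) := by
            intro x
            rw [Subgroup.mem_subgroupOf, mem_cj, C3iff]
          by_cases hb : b ∈ (cj u S₀).subgroupOf P
          · refine Or.inr ⟨hb, fun hba => ?_⟩
            apply ha
            have := Subgroup.mul_mem _ (Subgroup.inv_mem _ hb) hba
            rwa [inv_mul_cancel_left] at this
          · refine Or.inl ⟨?_, hb⟩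
            have hb' : ¬ (((b⁻¹ : ↥P) : S) * z₃ = z₃ * ((b⁻¹ : ↥P) : S)) := by
              rw [← hmem, Subgroup.inv_mem_iff]; exact hb
            have ha' : ¬ ((a : S) * z₃ = z₃ * (a : S)) := by
              rw [← hmem]; exact ha
            have := F1u _ (hS₀N (hPS₀ (b⁻¹).2)) _ (hS₀N (hPS₀ a.2)) hb' ha'
            rw [hmem]
            simpa using this
        exact frattini_le_coatom (Cfsg.Agent.S4387.isCoatom_of_index_prime _ Nat.prime_two hidx)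
    obtain ⟨φ, hφ, hφz⟩ := zOf_le_phiOf h2 P hP hZP hzP
    have := hle hφ
    rw [Subgroup.mem_subgroupOf, mem_cj, ← C3iff] at this
    rw [← hφz]
    exact this
  have hz₃S₀ : z₃ ∈ S₀ := by rw [hS₀]; exact F2.symm
  have hz₃ne : z₃ ≠ 1 := by
    intro h
    apply hz1
    have : z = u⁻¹ * z₃ * u := by rw [hz₃]; group
    rw [this, h]; group
  -- z₃ centralizes P or cj s P
  have F4 : (∀ x ∈ P, x * z₃ = z₃ * x) ∨ (∀ y ∈ cj s P, y * z₃ = z₃ * y) := by
    by_contra hcon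
    push Not at hcon
    obtain ⟨⟨a, haP, ha⟩, ⟨b, hbQ, hb⟩⟩ := hcon
    have h1 := F1u a (hS₀N (hPS₀ haP)) b (hS₀N (hQS₀ hbQ)) ha hb
    have ha' : z₃ * a * z₃⁻¹ ∈ P := hPn _ hz₃S₀ _ haP
    have hb' : z₃ * b * z₃⁻¹ ∈ cj s P := hQn _ hz₃S₀ _ hbQ
    have h3 : a * (z₃ * a * z₃⁻¹)⁻¹ = b * (z₃ * b * z₃⁻¹)⁻¹ := by
      have e1 : z₃ * (a⁻¹ * b) * z₃⁻¹ = a⁻¹ * b := by
        rw [← h1]; group
      have e2 : (z₃ * a * z₃⁻¹)⁻¹ * (z₃ * b * z₃⁻¹) = a⁻¹ * b := by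
        rw [← e1]; group
      have e3 : (z₃ * b * z₃⁻¹) = (z₃ * a * z₃⁻¹) * (a⁻¹ * b) := by
        rw [← e2]; group
      rw [e3]; group
    have h4 : a * (z₃ * a * z₃⁻¹)⁻¹ ∈ P ⊓ cj s P :=
      ⟨Subgroup.mul_mem _ haP (Subgroup.inv_mem _ ha'),
        h3 ▸ Subgroup.mul_mem _ hbQ (Subgroup.inv_mem _ hb')⟩
    rw [hs2, Subgroup.mem_bot, mul_inv_eq_one] at h4
    apply ha
    calc a * z₃ = (z₃ * a * z₃⁻¹) * z₃ := by rw [← h4]
      _ = z₃ * a := by group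
  -- conjugation by elements of N₁ preserves the centralizer of z₃ (inside N₁)
  have F5 : ∀ n ∈ N₁, ∀ g ∈ N₁, g * z₃ = z₃ * g → (n * g * n⁻¹) * z₃ = z₃ * (n * g * n⁻¹) := by
    intro n hn g hg hgc
    by_cases hnc' : n * z₃ = z₃ * n
    · have hninv : n⁻¹ * z₃ = z₃ * n⁻¹ := by
        calc n⁻¹ * z₃ = n⁻¹ * (z₃ * n) * n⁻¹ := by group
          _ = n⁻¹ * (n * z₃) * n⁻¹ := by rw [hnc']
          _ = z₃ * n⁻¹ := by group
      calc n * g * n⁻¹ * z₃ = n * g * (n⁻¹ * z₃) := by group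
        _ = n * g * (z₃ * n⁻¹) := by rw [hninv]
        _ = n * (g * z₃) * n⁻¹ := by group
        _ = n * (z₃ * g) * n⁻¹ := by rw [hgc]
        _ = (n * z₃) * g * n⁻¹ := by group
        _ = (z₃ * n) * g * n⁻¹ := by rw [hnc']
        _ = z₃ * (n * g * n⁻¹) := by group
    · by_contra hcon
      have hmem : n * g * n⁻¹ ∈ N₁ :=
        Subgroup.mul_mem _ (Subgroup.mul_mem _ hn hg) (Subgroup.inv_mem _ hn)
      have h1 := F1u n hn _ hmem hnc' hcon
      have e : n⁻¹ * (n * g * n⁻¹) = g * n⁻¹ := by group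
      rw [e] at h1
      -- g n⁻¹ commutes with z₃ and g commutes with z₃, so n does
      apply hnc'
      have h5 : n⁻¹ * z₃ = z₃ * n⁻¹ := by
        calc n⁻¹ * z₃ = g⁻¹ * ((g * n⁻¹) * z₃) := by group
          _ = g⁻¹ * (z₃ * (g * n⁻¹)) := by rw [h1]
          _ = g⁻¹ * (z₃ * g) * n⁻¹ := by group
          _ = g⁻¹ * (g * z₃) * n⁻¹ := by rw [hgc]
          _ = z₃ * n⁻¹ := by group
      calc n * z₃ = n * (z₃ * n⁻¹) * n := by group
        _ = n * (n⁻¹ * z₃) * n := by rw [h5]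
        _ = z₃ * n := by group
  have F6 : (∀ x ∈ P, x * z₃ = z₃ * x) ∧ (∀ y ∈ cj s P, y * z₃ = z₃ * y) := by
    rcases F4 with h | h
    · refine ⟨h, fun y hy => ?_⟩
      have hy' : s⁻¹ * y * s ∈ P := mem_cj.1 hy
      have := F5 s hsN _ (hS₀N (hPS₀ hy')) (h _ hy')
      have e : s * (s⁻¹ * y * s) * s⁻¹ = y := by group
      rwa [e] at this
    · refine ⟨fun x hx => ?_, h⟩
      have hx' : s * x * s⁻¹ ∈ cj s P := conj_mem_cj hx
      have := F5 s⁻¹ (Subgroup.inv_mem _ hsN) _ (hS₀N (hQS₀ hx')) (h _ hx')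
      have e : s⁻¹ * (s * x * s⁻¹) * s⁻¹⁻¹ = x := by group
      rwa [e] at this
  -- z₃ ∈ P ⊔ cj s P, central there
  have hz₃W : z₃ ∈ P ⊔ cj s P :=
    hs3 z₃ hz₃S₀ (fun x hx => (F6.1 x hx).symm) (fun y hy => (F6.2 y hy).symm)
  obtain ⟨p, hp, q, hq, hpq⟩ := exists_mul_of_mem_sup hs1 hz₃W
  have hpz : p ∈ zOf P := by
    rw [mem_zOf_iff]
    refine ⟨hp, fun x hx => ?_⟩
    have h1 := F6.1 x hx
    rw [hpq] at h1
    have h3 : x * q = q * x := hs1 x hx q hq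
    -- x p q = p q x = p x q
    have h4 : x * p * q = p * x * q := by
      calc x * p * q = x * (p * q) := by group
        _ = p * q * x := h1
        _ = p * (q * x) := by group
        _ = p * (x * q) := by rw [h3]
        _ = p * x * q := by group
    exact mul_right_cancel h4
  have hqz : q ∈ zOf (cj s P) := by
    rw [mem_zOf_iff]
    refine ⟨hq, fun y hy => ?_⟩
    have h1 := F6.2 y hy
    rw [hpq] at h1
    have h3 : p * y = y * p := hs1 p hp y hy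
    have h4 : p * (y * q) = p * (q * y) := by
      calc p * (y * q) = (p * y) * q := by group
        _ = (y * p) * q := by rw [h3]
        _ = y * (p * q) := by group
        _ = p * q * y := h1
        _ = p * (q * y) := by group
    exact mul_left_cancel h4
  have hq' : s⁻¹ * q * s ∈ zOf P := by
    rw [zOf_cj, mem_cj] at hqz; exact hqz
  have hzS₀ : z ∈ S₀ := by rw [hS₀]
  have huS₀ : u ∉ S₀ := fun h => huN₁ (hS₀N h)
  -- the four cases
  have hcase_z : z₃ ≠ z := by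
    intro h
    apply huS₀
    rw [hS₀]
    calc u * z = (u * z * u⁻¹) * u := by group
      _ = z * u := by rw [← hz₃, h]
  have hcase_z₂ : z₃ ≠ s * z * s⁻¹ := by
    intro h
    apply huN₁
    have h1 : s⁻¹ * u ∈ S₀ := by
      rw [hS₀]
      calc s⁻¹ * u * z = s⁻¹ * (u * z * u⁻¹) * u := by group
        _ = s⁻¹ * (s * z * s⁻¹) * u := by rw [← hz₃, h]
        _ = z * (s⁻¹ * u) := by group
    have := Subgroup.mul_mem _ hsN (hS₀N h1)
    rwa [mul_inv_cancel_left] at this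
  rcases hzall p hpz with hp1 | hp1 <;> rcases hzall _ hq' with hq1 | hq1
  · apply hz₃ne
    have : q = 1 := by
      have : q = s * (s⁻¹ * q * s) * s⁻¹ := by group
      rw [this, hq1]; group
    rw [hpq, hp1, this, one_mul]
  · apply hcase_z₂
    have : q = s * z * s⁻¹ := by
      have : q = s * (s⁻¹ * q * s) * s⁻¹ := by group
      rw [this, hq1]
    rw [hpq, hp1, this, one_mul]
  · apply hcase_z
    have : q = 1 := by
      have : q = s * (s⁻¹ * q * s) * s⁻¹ := by group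
      rw [this, hq1]; group
    rw [hpq, hp1, this, mul_one]
  · -- z₃ = z * z₂ : then N₁ centralizes z₃
    have hq2 : q = s * z * s⁻¹ := by
      have : q = s * (s⁻¹ * q * s) * s⁻¹ := by group
      rw [this, hq1]
    have hz₃eq : z₃ = z * (s * z * s⁻¹) := by rw [hpq, hp1, hq2]
    have hz₂S₀ : s * z * s⁻¹ ∈ S₀ := conj_mem_of_normalizer (hN₁ ▸ hsN) hzS₀
    have hzz₂ : (s * z * s⁻¹) * z = z * (s * z * s⁻¹) := (hS₀ _).1 hz₂S₀
    have hcS₀ : ∀ c ∈ S₀, c * z₃ = z₃ * c := by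
      intro c hc
      have h1 : c * z = z * c := (hS₀ c).1 hc
      have h2' : (s⁻¹ * c * s) * z = z * (s⁻¹ * c * s) :=
        (hS₀ _).1 (conj_mem_of_normalizer' (hN₁ ▸ hsN) hc)
      have h3 : c * (s * z * s⁻¹) = (s * z * s⁻¹) * c := by
        calc c * (s * z * s⁻¹) = s * ((s⁻¹ * c * s) * z) * s⁻¹ := by group
          _ = s * (z * (s⁻¹ * c * s)) * s⁻¹ := by rw [h2']
          _ = (s * z * s⁻¹) * c := by group
      rw [hz₃eq]
      calc c * (z * (s * z * s⁻¹)) = (c * z) * (s * z * s⁻¹) := by group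
        _ = (z * c) * (s * z * s⁻¹) := by rw [h1]
        _ = z * (c * (s * z * s⁻¹)) := by group
        _ = z * ((s * z * s⁻¹) * c) := by rw [h3]
        _ = z * (s * z * s⁻¹) * c := by group
    have hss : s * s ∈ S₀ := by
      have hsinv : s⁻¹ ∉ S₀ := fun h => hsS₀ (by simpa using Subgroup.inv_mem _ h)
      have := F1 s⁻¹ (Subgroup.inv_mem _ hsN) s hsN hsinv hsS₀
      rwa [inv_inv] at this
    have hsc : s * z₃ = z₃ * s := by
      have h1 : (s * s) * z = z * (s * s) := (hS₀ _).1 hss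
      rw [hz₃eq]
      calc s * (z * (s * z * s⁻¹)) = (s * z * s⁻¹) * ((s * s) * z) * (s⁻¹ * s⁻¹) * s := by group
        _ = (s * z * s⁻¹) * (z * (s * s)) * (s⁻¹ * s⁻¹) * s := by rw [h1]
        _ = ((s * z * s⁻¹) * z) * s := by group
        _ = (z * (s * z * s⁻¹)) * s := by rw [hzz₂]
    have hN₁le : N₁ ≤ cj u S₀ := by
      intro g hg
      rw [mem_cj, ← C3iff]
      by_cases hgS₀ : g ∈ S₀
      · exact hcS₀ g hgS₀
      · have h1 := F1 s hsN g hg hsS₀ hgS₀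
        have h2' := hcS₀ _ h1
        calc g * z₃ = s * ((s⁻¹ * g) * z₃) := by group
          _ = s * (z₃ * (s⁻¹ * g)) := by rw [h2']
          _ = (s * z₃) * (s⁻¹ * g) := by group
          _ = (z₃ * s) * (s⁻¹ * g) := by rw [hsc]
          _ = z₃ * g := by group
    have hcard1 : Nat.card N₁ ≤ Nat.card (cj u S₀) := Subgroup.card_le_of_le hN₁le
    rw [card_cj] at hcard1
    have hcard2 : Nat.card S₀ < Nat.card N₁ := by
      by_contra hge
      push Not at hge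
      exact hlt0.ne (Subgroup.eq_of_le_of_card_ge hS₀N hge)
    omega

end top

/-- Let S be a finite 2-group of sectional 2-rank at most 4 and P a proper non-abelian subgroup whose centre has order 2. Let S₀ be the centralizer in S of Z(P) and suppose P is normal in S₀. Then either S₀ = S, or P has sectional 2-rank at most 2 and S₀ has index 2 in S. -/
theorem result {S : Type*} [Group S] [Finite S] (h2 : IsPGroup 2 S) (hr : Cfsg.SectionalPRankLE 2 4 S)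
    (P : Subgroup S) (hPlt : P ≠ ⊤) (hP : ¬ IsMulCommutative ↥P) (hZP : Nat.card ↥(Subgroup.center ↥P) = 2)
    (S₀ : Subgroup S) (hS₀ : S₀ = Subgroup.centralizer (((Subgroup.center ↥P).map P.subtype : Subgroup S) : Set S))
    (hPn : ∀ s ∈ S₀, ∀ x ∈ P, s * x * s⁻¹ ∈ P) :
    S₀ = ⊤ ∨ (Cfsg.SectionalPRankLE 2 2 ↥P ∧ S₀.index = 2) := by
  by_cases htop : S₀ = ⊤
  · exact Or.inl htop
  right
  have hcard : Nat.card (zOf P) = 2 := by rw [card_zOf]; exact hZP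
  obtain ⟨z, hzP, hz1⟩ : ∃ z ∈ zOf P, z ≠ 1 := by
    have hne : zOf P ≠ ⊥ := by
      intro h
      rw [h, Subgroup.card_bot] at hcard
      omega
    obtain ⟨⟨z, hz⟩, h⟩ := (Subgroup.ne_bot_iff_exists_ne_one).1 hne
    exact ⟨z, hz, fun h' => h (Subtype.ext h')⟩
  have hzall : ∀ x ∈ zOf P, x = 1 ∨ x = z :=
    fun x hx => eq_one_or_eq_of_card_two (zOf P) hcard z hzP hz1 x hx
  have hS₀' : ∀ g, g ∈ S₀ ↔ g * z = z * g := by
    intro g
    rw [hS₀, Subgroup.mem_centralizer_iff]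
    constructor
    · intro h
      exact (h z hzP).symm
    · intro h x hx
      rcases hzall x hx with rfl | rfl
      · simp
      · exact h.symm
  have hNtop := normalizer_eq_top h2 hr P hP hZP z hzP hz1 hzall S₀ hS₀' hPn htop
  obtain ⟨s, -, hsS₀⟩ := SetLike.exists_of_lt (lt_top_iff_ne_top.2 htop)
  have hallN : ∀ g : S, g ∈ Subgroup.normalizer (S₀ : Set S) := by
    intro g; rw [hNtop]; trivial
  obtain ⟨hs1, hs2, -⟩ := key_pair h2 hr P hP hZP z hzP hz1 hzall S₀ hS₀' hPn s (hallN s) hsS₀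
  refine ⟨sectional_two hr P s hs1 hs2, ?_⟩
  rw [Subgroup.index_eq_two_iff]
  refine ⟨s, fun b => ?_⟩
  by_cases hb : b ∈ S₀
  · refine Or.inr ⟨hb, fun hbs => hsS₀ ?_⟩
    have := Subgroup.mul_mem _ (Subgroup.inv_mem _ hb) hbs
    rwa [inv_mul_cancel_left] at this
  · refine Or.inl ⟨?_, hb⟩
    have hbinv : b⁻¹ ∉ S₀ := fun h => hb (by simpa using Subgroup.inv_mem _ h)
    have := index_two_aux h2 hr P hP hZP z hzP hz1 hzall S₀ hS₀' hPn b⁻¹ s (hallN _) hbinv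
      (hallN s) hsS₀
    rwa [inv_inv] at this

end Cfsg.Agent.S4401
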