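-- Statement S4403
import Cfsg.Statements.S4403
import Cfsg.Agent.Lib.Helper30.CyclicSylow
import Cfsg.Agent.Lib.Helper30.PPrimeCore
import Cfsg.Agent.Lib.Helper22.FStar

set_option autoImplicit false
open Cfsg

namespace Cfsg.Agent.S4403

open Cfsg.Agent.Lib.Helper30 Cfsg.Agent.Lib.Helper22
open scoped commutatorElement

universe u

section aux

variable {K : Type u} [Group K] [Finite K] {p : ℕ} [hp : Fact p.Prime]

theorem isCyclic_sylow_of_isCyclic (P : Sylow p K) (hP : IsCyclic ↥(P : Subgroup K)) (P' : Sylow p K) :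
    IsCyclic ↥(P' : Subgroup K) := by
  obtain ⟨g, rfl⟩ := MulAction.exists_smul_eq K P P'
  exact isCyclic_of_surjective _ (P.equivSMul g).surjective

theorem commute_of_mem_isCyclic {H : Subgroup K} (hH : IsCyclic ↥H) {a b : K} (ha : a ∈ H) (hb : b ∈ H) :
    a * b = b * a := by
  obtain ⟨g, hg⟩ := hH.exists_generator
  obtain ⟨m, hm⟩ := Subgroup.mem_zpowers_iff.mp (hg ⟨a, ha⟩)
  obtain ⟨n, hn⟩ := Subgroup.mem_zpowers_iff.mp (hg ⟨b, hb⟩)
  have h1 : (⟨a, ha⟩ : H) * ⟨b, hb⟩ = ⟨b, hb⟩ * ⟨a, ha⟩ := by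
    rw [← hm, ← hn, ← zpow_add, ← zpow_add, add_comm]
  exact congrArg Subtype.val h1

/-- Two elements of a `p`-subgroup of a group with cyclic Sylow `p`-subgroups: one of order `p`,
the other killed by `p`; the second is a power of the first. -/
theorem mem_zpowers_of_mem_pGroup (P : Sylow p K) (hP : IsCyclic ↥(P : Subgroup K))
    {D : Subgroup K} (hD : IsPGroup p D) {a b : K} (ha : a ∈ D) (hb : b ∈ D)
    (hoa : orderOf a = p) (hbp : b ^ p = 1) : b ∈ Subgroup.zpowers a := by
  obtain ⟨P', hDP'⟩ := hD.exists_le_sylow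
  have hc := isCyclic_sylow_of_isCyclic P hP P'
  have h1 : orderOf (⟨a, hDP' ha⟩ : (P' : Subgroup K)) = p := by
    rw [← Subgroup.orderOf_coe]; exact hoa
  have h2 : (⟨b, hDP' hb⟩ : (P' : Subgroup K)) ^ p = 1 := Subtype.ext (by simpa using hbp)
  have h3 := mem_zpowers_of_isCyclic_of_pow_eq_one h1 h2
  obtain ⟨k, hk⟩ := Subgroup.mem_zpowers_iff.mp h3
  rw [Subgroup.mem_zpowers_iff]
  refine ⟨k, ?_⟩
  have := congrArg Subtype.val hk
  simpa using this

theorem isPGroup_zpowers_of_pow_eq_one {a : K} (ha : a ^ p = 1) : IsPGroup p (Subgroup.zpowers a) := by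
  rintro ⟨x, hx⟩
  refine ⟨1, Subtype.ext ?_⟩
  obtain ⟨k, rfl⟩ := Subgroup.mem_zpowers_iff.mp hx
  simp only [pow_one, Subgroup.coe_pow, Subgroup.coe_one]
  rw [← zpow_natCast, ← zpow_mul, mul_comm, zpow_mul, zpow_natCast, ha, one_zpow]

theorem fitting_eq_pCore (hO : Cfsg.pPrimeCore p K = ⊥) :
    Cfsg.fittingSubgroup K = Cfsg.pCore p K := by
  rw [fittingSubgroup_eq_iSup_pCore]
  apply le_antisymm
  · apply iSup_le
    intro q
    have : Fact (q : ℕ).Prime := ⟨q.2⟩
    by_cases hq : (q : ℕ) = p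
    · rw [hq]
    · have := pCore_le_pPrimeCore (G := K) (p := p) (q := q) hq
      rw [hO] at this
      exact this.trans bot_le
  · exact le_iSup (fun q : Nat.Primes => Cfsg.pCore (q : ℕ) K) ⟨p, hp.out⟩

/-- The case of trivial layer. -/
theorem case_layer_bot (hdvd : p ∣ Nat.card K) (hO : Cfsg.pPrimeCore p K = ⊥)
    (P : Sylow p K) (hP : IsCyclic ↥(P : Subgroup K)) (hE : Cfsg.layer K = ⊥) :
    (P : Subgroup K).Normal ∧ Subgroup.centralizer ((P : Subgroup K) : Set K) = (P : Subgroup K) ∧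
      (∀ (_ : (P : Subgroup K).Normal), IsCyclic (K ⧸ (P : Subgroup K))) ∧
      (P : Subgroup K).index ∣ p - 1 := by
  have hF := fitting_eq_pCore (K := K) (p := p) hO
  have hFs : Cfsg.generalizedFittingSubgroup K = Cfsg.pCore p K := by
    unfold Cfsg.generalizedFittingSubgroup
    rw [hE, bot_sup_eq, hF]
  have hcent := centralizer_generalizedFitting_le K
  rw [hFs] at hcent
  have hQn : (Cfsg.pCore p K).Normal := pCore_normal' p K
  have hQP : Cfsg.pCore p K ≤ (P : Subgroup K) := (pCore_isPGroup' p K).le_sylow_of_normal P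
  have hQcent : Cfsg.pCore p K ≤ Subgroup.centralizer (Cfsg.pCore p K : Set K) := by
    intro a ha
    rw [Subgroup.mem_centralizer_iff]
    intro b hb
    exact commute_of_mem_isCyclic hP (hQP hb) (hQP ha)
  have hCQ : Subgroup.centralizer (Cfsg.pCore p K : Set K) = Cfsg.pCore p K :=
    le_antisymm hcent hQcent
  -- the pCore is cyclic
  have hQc : IsCyclic ↥(Cfsg.pCore p K) := by
    have : IsCyclic ↥((Cfsg.pCore p K).subgroupOf (P : Subgroup K)) := inferInstance
    exact isCyclic_of_surjective _ (Subgroup.subgroupOfEquivOfLe hQP).surjective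
  -- commutators lie in the pCore
  have hcomm : ∀ x y : K, ⁅x, y⁆ ∈ Cfsg.pCore p K := by
    intro x y
    rw [← hCQ, Subgroup.mem_centralizer_iff]
    intro q hq
    have hA : ∀ α β : MulAut ↥(Cfsg.pCore p K), α * β = β * α := by
      intro α β
      apply (IsCyclic.mulAutMulEquiv ↥(Cfsg.pCore p K)).injective
      rw [map_mul, map_mul, mul_comm]
    have h1 : (MulAut.conjNormal (H := Cfsg.pCore p K)) ⁅x, y⁆ = 1 := by
      rw [map_commutatorElement, commutatorElement_eq_one_iff_mul_comm]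
      exact hA _ _
    have h2 := congrArg (fun α : MulAut ↥(Cfsg.pCore p K) => ((α ⟨q, hq⟩ : ↥(Cfsg.pCore p K)) : K)) h1
    simp only [MulAut.conjNormal_apply, MulAut.one_apply] at h2
    exact (mul_inv_eq_iff_eq_mul.mp h2).symm
  have hPn : (P : Subgroup K).Normal := by
    constructor
    intro x hx g
    have h1 : g * x * g⁻¹ = ⁅g, x⁆ * x := by rw [commutatorElement_def]; group
    rw [h1]
    exact (P : Subgroup K).mul_mem (hQP (hcomm g x)) hx
  have hPQ : (P : Subgroup K) = Cfsg.pCore p K :=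
    le_antisymm (le_pCore' hPn P.2) hQP
  have hCP : Subgroup.centralizer ((P : Subgroup K) : Set K) = (P : Subgroup K) := by
    rw [hPQ]; exact hCQ
  -- the automorphism part
  have hPne : (P : Subgroup K) ≠ ⊥ := P.ne_bot_of_dvd_card hdvd
  obtain ⟨k, hk⟩ := P.2.exists_card_eq
  have hk1 : 1 ≤ k := by
    rcases Nat.eq_zero_or_pos k with h0 | h
    · exfalso
      rw [h0, pow_zero] at hk
      exact hPne ((Subgroup.card_eq_one).mp hk)
    · exact h
  have key : ∀ (hn : (P : Subgroup K).Normal), IsCyclic (K ⧸ (P : Subgroup K)) ∧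
      Nat.card (K ⧸ (P : Subgroup K)) ∣ p - 1 := by
    intro hn
    have hker : ∀ x ∈ (P : Subgroup K), (MulAut.conjNormal (H := (P : Subgroup K))) x = 1 := by
      intro x hx
      ext y
      rw [MulAut.conjNormal_apply, MulAut.one_apply]
      have := commute_of_mem_isCyclic hP hx y.2
      rw [this, mul_inv_cancel_right]
    let g : K ⧸ (P : Subgroup K) →* MulAut ↥(P : Subgroup K) :=
      QuotientGroup.lift (P : Subgroup K) (MulAut.conjNormal (H := (P : Subgroup K))) hker
    have hg : Function.Injective g := by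
      rw [← MonoidHom.ker_eq_bot_iff, eq_bot_iff]
      intro x hx
      induction x using QuotientGroup.induction_on with
      | H x =>
        rw [MonoidHom.mem_ker] at hx
        have hx' : (MulAut.conjNormal (H := (P : Subgroup K))) x = 1 := hx
        rw [Subgroup.mem_bot, QuotientGroup.eq_one_iff, ← hCP, Subgroup.mem_centralizer_iff]
        intro y hy
        have h2 := congrArg (fun α : MulAut ↥(P : Subgroup K) => ((α ⟨y, hy⟩ : ↥(P : Subgroup K)) : K)) hx'
        simp only [MulAut.conjNormal_apply, MulAut.one_apply] at h2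
        exact (mul_inv_eq_iff_eq_mul.mp h2).symm
    have hcop : (Nat.card g.range).Coprime p := by
      rw [Nat.coprime_comm, Nat.Prime.coprime_iff_not_dvd hp.out]
      intro h
      apply P.not_dvd_index
      rw [Subgroup.index_eq_card]
      exact h.trans (Subgroup.card_range_dvd g)
    obtain ⟨hc, hd⟩ := isCyclic_and_card_dvd_of_coprime_subgroup_mulAut hk1 hk g.range hcop
    have hgr : Function.Injective g.rangeRestrict := by
      rw [MonoidHom.rangeRestrict_injective_iff]; exact hg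
    exact ⟨isCyclic_of_injective g.rangeRestrict hgr,
      (Subgroup.card_dvd_of_injective g.rangeRestrict hgr).trans hd⟩
  refine ⟨hPn, hCP, fun hn => (key hn).1, ?_⟩
  rw [Subgroup.index_eq_card]
  exact (key hPn).2

/-- A component has order divisible by `p` when `O_{p'} = 1`. -/
theorem dvd_card_component (hO : Cfsg.pPrimeCore p K = ⊥) {L : Subgroup K} (hL : Cfsg.IsComponent L) :
    p ∣ Nat.card ↥L := by
  by_contra h
  have hc : (Nat.card ↥L).Coprime p :=
    (Nat.coprime_comm.mp ((Nat.Prime.coprime_iff_not_dvd hp.out).mpr h))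
  have := subnormal_le_pPrimeCore p L hL.1 hc
  rw [hO] at this
  exact component_ne_bot hL (le_bot_iff.mp this)

theorem exists_order_p_mem_component (hO : Cfsg.pPrimeCore p K = ⊥) {L : Subgroup K}
    (hL : Cfsg.IsComponent L) : ∃ b ∈ L, orderOf b = p := by
  obtain ⟨x, hx⟩ := exists_prime_orderOf_dvd_card' (G := ↥L) p (dvd_card_component hO hL)
  exact ⟨x.1, x.2, by rw [Subgroup.orderOf_coe]; exact hx⟩

/-- The `p`-core is trivial in the presence of a component. -/
theorem pCore_eq_bot_of_component (hO : Cfsg.pPrimeCore p K = ⊥)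
    (P : Sylow p K) (hP : IsCyclic ↥(P : Subgroup K)) {L : Subgroup K} (hL : Cfsg.IsComponent L) :
    Cfsg.pCore p K = ⊥ := by
  by_contra hQ
  have hF := fitting_eq_pCore (K := K) (p := p) hO
  have hQn : (Cfsg.pCore p K).Normal := pCore_normal' p K
  have hQp : IsPGroup p ↥(Cfsg.pCore p K) := pCore_isPGroup' p K
  -- an element of order p in the pCore
  have hQnt : Nontrivial ↥(Cfsg.pCore p K) := (Subgroup.nontrivial_iff_ne_bot _).mpr hQ
  obtain ⟨n, hn⟩ := hQp.exists_card_eq
  have hn0 : n ≠ 0 := by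
    intro h0
    rw [h0, pow_zero] at hn
    exact hQ (Subgroup.card_eq_one.mp hn)
  have hpQ : p ∣ Nat.card ↥(Cfsg.pCore p K) := by rw [hn]; exact dvd_pow_self p hn0
  obtain ⟨a', ha'⟩ := exists_prime_orderOf_dvd_card' (G := ↥(Cfsg.pCore p K)) p hpQ
  set a : K := a'.1 with hadef
  have haQ : a ∈ Cfsg.pCore p K := a'.2
  have hoa : orderOf a = p := by rw [hadef, Subgroup.orderOf_coe]; exact ha'
  obtain ⟨b, hbL, hob⟩ := exists_order_p_mem_component hO hL
  -- a common Sylow subgroup
  have hbp : IsPGroup p (Subgroup.zpowers b) :=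
    isPGroup_zpowers_of_pow_eq_one (by rw [← hob]; exact pow_orderOf_eq_one b)
  obtain ⟨P', hP'⟩ := hbp.exists_le_sylow
  have haP' : a ∈ (P' : Subgroup K) := (hQp.le_sylow_of_normal P') haQ
  have hbP' : b ∈ (P' : Subgroup K) := hP' (Subgroup.mem_zpowers b)
  have hab : a ∈ Subgroup.zpowers b :=
    mem_zpowers_of_mem_pGroup P hP P'.2 hbP' haP' hob (by rw [← hoa]; exact pow_orderOf_eq_one a)
  have haL : a ∈ L := (Subgroup.zpowers_le.mpr hbL) hab
  -- a is central in L
  have hcentF := component_le_centralizer_fitting hL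
  have hacent : (⟨a, haL⟩ : ↥L) ∈ Subgroup.center ↥L := by
    rw [Subgroup.mem_center_iff]
    intro y
    apply Subtype.ext
    have h1 := hcentF y.2
    rw [Subgroup.mem_centralizer_iff] at h1
    have h2 := h1 a (by rw [SetLike.mem_coe, hF]; exact haQ)
    simpa using h2.symm
  -- a Sylow subgroup of L containing a
  have hzp : IsPGroup p (Subgroup.zpowers (⟨a, haL⟩ : ↥L)) :=
    isPGroup_zpowers_of_pow_eq_one (Subtype.ext (by simpa using (by rw [← hoa]; exact pow_orderOf_eq_one a : a ^ p = 1)))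
  obtain ⟨R, hR⟩ := hzp.exists_le_sylow
  have hRcomm : IsMulCommutative ↥(R : Subgroup ↥L) := by
    have hRp : IsPGroup p ↥((R : Subgroup ↥L).map L.subtype) := R.2.map _
    obtain ⟨P'', hP''⟩ := hRp.exists_le_sylow
    have hc'' := isCyclic_sylow_of_isCyclic P hP P''
    refine ⟨⟨fun x y => ?_⟩⟩
    apply Subtype.ext
    apply Subtype.ext
    have hx : ((x : ↥L) : K) ∈ (P'' : Subgroup K) := hP'' ⟨x.1, x.2, rfl⟩
    have hy : ((y : ↥L) : K) ∈ (P'' : Subgroup K) := hP'' ⟨y.1, y.2, rfl⟩
    simpa using commute_of_mem_isCyclic hc'' hx hy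
  have hperf : commutator ↥L = ⊤ := hL.2.1.commutator_eq_top
  have h1 := eq_one_of_mem_center_of_mem_sylow_of_perfect hperf R
    (hR (Subgroup.mem_zpowers _)) hacent
  have ha1 : a = 1 := congrArg Subtype.val h1
  rw [ha1, orderOf_one] at hoa
  exact hp.out.one_lt.ne hoa

/-- With trivial Fitting subgroup, components have trivial centre. -/
theorem center_component_eq_bot (hF : Cfsg.fittingSubgroup K = ⊥) {L : Subgroup K}
    (hL : Cfsg.IsComponent L) : Subgroup.center ↥L = ⊥ := by
  have hsn : ((Subgroup.center ↥L).map L.subtype).IsSubnormal :=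
    (Subgroup.Normal.isSubnormal (H := Subgroup.center ↥L) inferInstance).trans' hL.1
  have hnil : Group.IsNilpotent ↥((Subgroup.center ↥L).map L.subtype) := by
    have := isNilpotent_of_isMulCommutative ↥(Subgroup.center ↥L)
    exact Group.nilpotent_of_mulEquiv
      ((Subgroup.center ↥L).equivMapOfInjective L.subtype L.subtype_injective)
  have h := subnormal_nilpotent_le_fitting _ hsn hnil
  rw [hF, le_bot_iff] at h
  exact (Subgroup.map_eq_bot_iff_of_injective _ L.subtype_injective).mp h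

theorem component_unique (hO : Cfsg.pPrimeCore p K = ⊥)
    (P : Sylow p K) (hP : IsCyclic ↥(P : Subgroup K)) (hF : Cfsg.fittingSubgroup K = ⊥)
    {L₁ L₂ : Subgroup K} (h1 : Cfsg.IsComponent L₁) (h2 : Cfsg.IsComponent L₂) : L₁ = L₂ := by
  by_contra hne
  have hcomm := components_commute h1 h2 hne
  obtain ⟨b₁, hb₁L, hob₁⟩ := exists_order_p_mem_component hO h1
  obtain ⟨b₂, hb₂L, hob₂⟩ := exists_order_p_mem_component hO h2
  have hc12 : ∀ x ∈ L₁, ∀ y ∈ L₂, x * y = y * x := by
    intro x hx y hy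
    have := Subgroup.commutator_eq_bot_iff_le_centralizer.mp hcomm hx
    rw [Subgroup.mem_centralizer_iff] at this
    exact (this y hy).symm
  have hb12 : b₁ * b₂ = b₂ * b₁ := hc12 b₁ hb₁L b₂ hb₂L
  -- the group generated by b₁, b₂ is a p-group
  have hD : IsPGroup p ↥(Subgroup.zpowers b₁ ⊔ Subgroup.zpowers b₂) := by
    rintro ⟨x, hx⟩
    refine ⟨1, Subtype.ext ?_⟩
    have hcz : ∀ u ∈ Subgroup.zpowers b₁, ∀ v ∈ Subgroup.zpowers b₂, u * v = v * u := by
      intro u hu v hv
      exact hc12 u (Subgroup.zpowers_le.mpr hb₁L hu) v (Subgroup.zpowers_le.mpr hb₂L hv)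
    obtain ⟨u, hu, v, hv, rfl⟩ := exists_mul_of_mem_sup_of_commute hcz hx
    have hup : u ^ p = 1 := by
      obtain ⟨k, rfl⟩ := Subgroup.mem_zpowers_iff.mp hu
      rw [← zpow_natCast, ← zpow_mul, mul_comm, zpow_mul, zpow_natCast, ← hob₁, pow_orderOf_eq_one,
        one_zpow]
    have hvp : v ^ p = 1 := by
      obtain ⟨k, rfl⟩ := Subgroup.mem_zpowers_iff.mp hv
      rw [← zpow_natCast, ← zpow_mul, mul_comm, zpow_mul, zpow_natCast, ← hob₂, pow_orderOf_eq_one,
        one_zpow]
    simp only [pow_one, Subgroup.coe_pow, Subgroup.coe_one]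
    rw [(show Commute u v from hcz u hu v hv).mul_pow, hup, hvp, one_mul]
  have hb₂z : b₂ ∈ Subgroup.zpowers b₁ :=
    mem_zpowers_of_mem_pGroup P hP hD (le_sup_left (a := Subgroup.zpowers b₁) (Subgroup.mem_zpowers b₁))
      (le_sup_right (b := Subgroup.zpowers b₂) (Subgroup.mem_zpowers b₂)) hob₁
      (by rw [← hob₂]; exact pow_orderOf_eq_one b₂)
  have hb₂L₁ : b₂ ∈ L₁ := Subgroup.zpowers_le.mpr hb₁L hb₂z
  have hcen : (⟨b₂, hb₂L⟩ : ↥L₂) ∈ Subgroup.center ↥L₂ := by
    rw [Subgroup.mem_center_iff]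
    intro y
    apply Subtype.ext
    simpa using (hc12 b₂ hb₂L₁ y.1 y.2).symm
  rw [center_component_eq_bot hF h2, Subgroup.mem_bot] at hcen
  have hb1 : b₂ = 1 := congrArg Subtype.val hcen
  rw [hb1, orderOf_one] at hob₂
  exact hp.out.one_lt.ne hob₂

/-- A cyclic Sylow subgroup lies in a perfect normal subgroup of order divisible by `p`. -/
theorem sylow_le_of_perfect_normal (P : Sylow p K) (hP : IsCyclic ↥(P : Subgroup K))
    (L : Subgroup K) [hLn : L.Normal] (hperf : ⁅L, L⁆ = L) (hdvd : p ∣ Nat.card ↥L) :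
    (P : Subgroup K) ≤ L := by
  set K₁ : Subgroup K := L ⊔ (P : Subgroup K) with hK₁
  have hLK₁ : L ≤ K₁ := le_sup_left
  have hPK₁ : (P : Subgroup K) ≤ K₁ := le_sup_right
  let P₁ : Sylow p ↥K₁ := P.subtype hPK₁
  have hP₁c : IsCyclic ↥(P₁ : Subgroup ↥K₁) :=
    isCyclic_of_surjective _ (Subgroup.subgroupOfEquivOfLe hPK₁).symm.surjective
  have hsup : L.subgroupOf K₁ ⊔ (P₁ : Subgroup ↥K₁) = ⊤ := by
    have : (P₁ : Subgroup ↥K₁) = (P : Subgroup K).subgroupOf K₁ := rfl
    rw [this, ← Subgroup.subgroupOf_sup hLK₁ hPK₁]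
    exact Subgroup.subgroupOf_self K₁
  have hLcomm : L ≤ (commutator ↥K₁).map K₁.subtype := by
    rw [← hperf, Subgroup.commutator_le]
    intro a ha b hb
    refine ⟨⁅(⟨a, hLK₁ ha⟩ : ↥K₁), ⟨b, hLK₁ hb⟩⁆, ?_, rfl⟩
    rw [SetLike.mem_coe, commutator_def]
    exact Subgroup.commutator_mem_commutator (Subgroup.mem_top _) (Subgroup.mem_top _)
  have hle : L.subgroupOf K₁ ≤ commutator ↥K₁ := by
    intro n hn
    rw [Subgroup.mem_subgroupOf] at hn
    obtain ⟨c, hc, hcn⟩ := hLcomm hn
    have : c = n := Subtype.ext hcn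
    rw [← this]
    exact hc
  have hcardL : Nat.card ↥(L.subgroupOf K₁) = Nat.card ↥L :=
    Nat.card_congr (Subgroup.subgroupOfEquivOfLe hLK₁).toEquiv
  have hdvd' : p ∣ Nat.card ↥(commutator ↥K₁) :=
    (hcardL ▸ hdvd).trans (Subgroup.card_dvd_of_le hle)
  have key := sylow_le_of_sup_eq_top_of_dvd_card_commutator (L.subgroupOf K₁) P₁ hsup hdvd'
  intro x hx
  have h1 : (⟨x, hPK₁ hx⟩ : ↥K₁) ∈ (P₁ : Subgroup ↥K₁) := by
    show (⟨x, hPK₁ hx⟩ : ↥K₁) ∈ (P : Subgroup K).subgroupOf K₁
    rw [Subgroup.mem_subgroupOf]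
    exact hx
  have h2 := key h1
  rw [Subgroup.mem_subgroupOf] at h2
  exact h2

theorem isSimpleGroup_of_component (hF : Cfsg.fittingSubgroup K = ⊥) {L : Subgroup K}
    (hL : Cfsg.IsComponent L) : IsSimpleGroup ↥L := by
  have hc := center_component_eq_bot hF hL
  have hs : IsSimpleGroup (↥L ⧸ Subgroup.center ↥L) := hL.2.2
  have hnt : Nontrivial ↥L := (Subgroup.nontrivial_iff_ne_bot _).mpr (component_ne_bot hL)
  let e : (↥L ⧸ Subgroup.center ↥L) ≃* ↥L :=
    (QuotientGroup.quotientMulEquivOfEq hc).trans QuotientGroup.quotientBot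
  exact IsSimpleGroup.isSimpleGroup_of_surjective e.toMonoidHom e.surjective

theorem not_isMulCommutative_of_component {L : Subgroup K} (hL : Cfsg.IsComponent L) :
    ¬ IsMulCommutative ↥L := by
  intro hc
  have hperf : commutator ↥L = ⊤ := hL.2.1.commutator_eq_top
  have hnt : Nontrivial ↥L := (Subgroup.nontrivial_iff_ne_bot _).mpr (component_ne_bot hL)
  have hbot : commutator ↥L = ⊥ := by
    rw [commutator_def, eq_bot_iff, Subgroup.commutator_le]
    intro a _ b _
    rw [Subgroup.mem_bot, commutatorElement_eq_one_iff_mul_comm]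
    exact hc.is_comm.comm a b
  rw [hbot] at hperf
  exact bot_ne_top hperf

end aux

/-- Let K be a finite group, p a prime dividing its order with O_{p'}(K) = 1 (no nontrivial normal subgroup of order prime to p), and P a cyclic Sylow p-subgroup of K. Then either P is normal and self-centralizing in K with K/P cyclic of order dividing p − 1 (so K is the semidirect product of P by a group of automorphisms of P of order dividing p − 1), or the generalized Fitting subgroup F*(K) is a non-abelian simple group and p does not divide the index of F*(K) in K. -/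
theorem result {K : Type*} [Group K] [Finite K] (p : ℕ) [Fact p.Prime] (hp : p ∣ Nat.card K) (hO : Cfsg.pPrimeCore p K = ⊥)
    (P : Sylow p K) (hP : IsCyclic ↥(P : Subgroup K)) :
    ((P : Subgroup K).Normal ∧ Subgroup.centralizer ((P : Subgroup K) : Set K) = (P : Subgroup K) ∧
      (∀ (_ : (P : Subgroup K).Normal), IsCyclic (K ⧸ (P : Subgroup K))) ∧ (P : Subgroup K).index ∣ p - 1) ∨
    (IsSimpleGroup ↥(Cfsg.generalizedFittingSubgroup K) ∧ ¬ IsMulCommutative ↥(Cfsg.generalizedFittingSubgroup K) ∧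
      ¬ p ∣ (Cfsg.generalizedFittingSubgroup K).index) := by
  by_cases hE : Cfsg.layer K = ⊥
  · left
    exact case_layer_bot hp hO P hP hE
  · right
    obtain ⟨L, hL⟩ : ∃ L : Subgroup K, Cfsg.IsComponent L := by
      by_contra h
      push Not at h
      apply hE
      unfold Cfsg.layer
      rw [eq_bot_iff]
      apply sSup_le
      intro L hL
      exact absurd hL (h L)
    have hQ := pCore_eq_bot_of_component hO P hP hL
    have hF : Cfsg.fittingSubgroup K = ⊥ := by rw [fitting_eq_pCore (p := p) hO, hQ]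
    have hlayer : Cfsg.layer K = L := by
      apply le_antisymm
      · apply sSup_le
        intro L' hL'
        rw [component_unique hO P hP hF hL' hL]
      · exact le_sSup hL
    have hFs : Cfsg.generalizedFittingSubgroup K = L := by
      unfold Cfsg.generalizedFittingSubgroup
      rw [hlayer, hF, sup_bot_eq]
    have hLn : L.Normal := hlayer ▸ layer_normal K
    have hPL : (P : Subgroup K) ≤ L :=
      sylow_le_of_perfect_normal P hP L (component_perfect hL) (dvd_card_component hO hL)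
    have hidx : ¬ p ∣ L.index := fun h => P.not_dvd_index (h.trans (Subgroup.index_dvd_of_le hPL))
    have main : ∀ M : Subgroup K, M = L →
        (IsSimpleGroup ↥M ∧ ¬ IsMulCommutative ↥M ∧ ¬ p ∣ M.index) := by
      rintro M rfl
      exact ⟨isSimpleGroup_of_component hF hL, not_isMulCommutative_of_component hL, hidx⟩
    exact main _ hFs

end Cfsg.Agent.S4403
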