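import Cfsg.Statements.S4406

set_option autoImplicit false
open Cfsg
open Pointwise

namespace Cfsg.Agent.S4406

abbrev A4 := alternatingGroup (Fin 4)

def inB (x y x' y' u v : A4) : Prop :=
  (u = x ∧ v = y) ∨ (u = x' ∧ v = y') ∨ (u = x * x' ∧ v = y * y')

instance (x y x' y' u v : A4) : Decidable (inB x y x' y' u v) := by unfold inB; infer_instance

def good (a b x y x' y' : A4) : Prop :=
  (inB x y x' y' (a * x * a⁻¹) (b * y * b⁻¹) ∧ inB x y x' y' (a * x' * a⁻¹) (b * y' * b⁻¹)) ∨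
  (inB x y x' y' (a * x * a⁻¹) (b⁻¹ * y * b) ∧ inB x y x' y' (a * x' * a⁻¹) (b⁻¹ * y' * b))

instance (a b x y x' y' : A4) : Decidable (good a b x y x' y') := by unfold good; infer_instance

def ord3 (a : A4) : Prop := a ^ 3 = 1 ∧ a ≠ 1
instance (a : A4) : Decidable (ord3 a) := by unfold ord3; infer_instance
def inv2 (a : A4) : Prop := a ^ 2 = 1 ∧ a ≠ 1
instance (a : A4) : Decidable (inv2 a) := by unfold inv2; infer_instance

set_option maxRecDepth 1000000 in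
theorem core : ∀ a : A4, ord3 a → ∀ b : A4, ord3 b →
    ∀ x : A4, inv2 x → ∀ y : A4, inv2 y →
    ∀ x' : A4, inv2 x' → x' ≠ x → ∀ y' : A4, inv2 y' → y' ≠ y → good a b x y x' y' := by
  decide

set_option maxRecDepth 100000 in
theorem sq_or_cube : ∀ u : A4, u ^ 2 = 1 ∨ u ^ 3 = 1 := by decide

set_option maxRecDepth 100000 in
theorem exists_ord3 : ∃ c : A4, ord3 c := by decide

theorem sq_eq_one_of_two_pow (u : A4) (k : ℕ) (h : u ^ (2 ^ k) = 1) : u ^ 2 = 1 := by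
  rcases sq_or_cube u with h2 | h3
  · exact h2
  · have h1 : orderOf u ∣ 2 ^ k := orderOf_dvd_of_pow_eq_one h
    have h2 : orderOf u ∣ 3 := orderOf_dvd_of_pow_eq_one h3
    have h3' : orderOf u ∣ Nat.gcd (2 ^ k) 3 := Nat.dvd_gcd h1 h2
    have : Nat.gcd (2 ^ k) 3 = 1 := Nat.Coprime.pow_left k (by norm_num)
    rw [this, Nat.dvd_one, orderOf_eq_one_iff] at h3'
    rw [h3', one_pow]

abbrev GG := A4 × A4

theorem sq_of_mem_sylow (X : Sylow 2 GG) (z : GG) (hz : z ∈ (X : Subgroup GG)) :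
    z.1 ^ 2 = 1 ∧ z.2 ^ 2 = 1 := by
  obtain ⟨k, hk⟩ := X.isPGroup' ⟨z, hz⟩
  have hk' : z ^ (2 ^ k) = 1 := by
    have := congrArg Subtype.val hk
    simpa using this
  constructor
  · apply sq_eq_one_of_two_pow _ k
    rw [← Prod.pow_fst, hk']; rfl
  · apply sq_eq_one_of_two_pow _ k
    rw [← Prod.pow_snd, hk']; rfl

/-- an element of order 3 of the form (a,1) in Q -/
theorem exists_left (Q : Sylow 3 GG) : ∃ a : A4, ord3 a ∧ ((a, 1) : GG) ∈ (Q : Subgroup GG) := by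
  obtain ⟨c, hc3, hc1⟩ := exists_ord3
  have hP : IsPGroup 3 (Subgroup.zpowers ((c, 1) : GG)) := by
    rintro ⟨g, hg⟩
    refine ⟨1, ?_⟩
    obtain ⟨i, rfl⟩ := hg
    apply Subtype.ext
    simp only [pow_one, Subgroup.coe_pow, Subgroup.coe_one]
    rw [← zpow_natCast, ← zpow_mul, mul_comm, zpow_mul, zpow_natCast]
    have : ((c, 1) : GG) ^ 3 = 1 := Prod.ext (by simp [hc3]) (by simp)
    rw [this, one_zpow]
  obtain ⟨Q', hQ'⟩ := hP.exists_le_sylow
  obtain ⟨g, hg⟩ := MulAction.exists_smul_eq GG Q' Q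
  refine ⟨g.1 * c * g.1⁻¹, ⟨?_, ?_⟩, ?_⟩
  · rw [conj_pow, hc3]; simp
  · intro h
    apply hc1
    have := congrArg (fun t => g.1⁻¹ * t * g.1) h
    simpa [mul_assoc] using this
  · have h1 : ((c, 1) : GG) ∈ (Q' : Subgroup GG) := hQ' (Subgroup.mem_zpowers _)
    have h2 : MulAut.conj g • ((c, 1) : GG) ∈ MulAut.conj g • (Q' : Subgroup GG) :=
      Subgroup.smul_mem_pointwise_smul _ _ _ h1
    rw [← Sylow.coe_subgroup_smul, hg] at h2
    have h3 : MulAut.conj g • ((c, 1) : GG) = (g.1 * c * g.1⁻¹, 1) :=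
      Prod.ext (by simp [MulAut.smul_def]) (by simp [MulAut.smul_def])
    rwa [h3] at h2

theorem exists_right (Q : Sylow 3 GG) : ∃ b : A4, ord3 b ∧ ((1, b) : GG) ∈ (Q : Subgroup GG) := by
  obtain ⟨c, hc3, hc1⟩ := exists_ord3
  have hP : IsPGroup 3 (Subgroup.zpowers ((1, c) : GG)) := by
    rintro ⟨g, hg⟩
    refine ⟨1, ?_⟩
    obtain ⟨i, rfl⟩ := hg
    apply Subtype.ext
    simp only [pow_one, Subgroup.coe_pow, Subgroup.coe_one]
    rw [← zpow_natCast, ← zpow_mul, mul_comm, zpow_mul, zpow_natCast]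
    have : ((1, c) : GG) ^ 3 = 1 := Prod.ext (by simp) (by simp [hc3])
    rw [this, one_zpow]
  obtain ⟨Q', hQ'⟩ := hP.exists_le_sylow
  obtain ⟨g, hg⟩ := MulAction.exists_smul_eq GG Q' Q
  refine ⟨g.2 * c * g.2⁻¹, ⟨?_, ?_⟩, ?_⟩
  · rw [conj_pow, hc3]; simp
  · intro h
    apply hc1
    have := congrArg (fun t => g.2⁻¹ * t * g.2) h
    simpa [mul_assoc] using this
  · have h1 : ((1, c) : GG) ∈ (Q' : Subgroup GG) := hQ' (Subgroup.mem_zpowers _)
    have h2 : MulAut.conj g • ((1, c) : GG) ∈ MulAut.conj g • (Q' : Subgroup GG) :=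
      Subgroup.smul_mem_pointwise_smul _ _ _ h1
    rw [← Sylow.coe_subgroup_smul, hg] at h2
    have h3 : MulAut.conj g • ((1, c) : GG) = (1, g.2 * c * g.2⁻¹) :=
      Prod.ext (by simp [MulAut.smul_def]) (by simp [MulAut.smul_def])
    rwa [h3] at h2

/-- A subgroup of order four of exponent two is `{1, z, w, zw}`. -/
theorem four_elements (B : Subgroup GG) (hB4 : Nat.card ↥B = 4) (hsq : ∀ z ∈ B, z ^ 2 = 1) :
    ∃ z w : GG, z ∈ B ∧ w ∈ B ∧ z ≠ 1 ∧ w ≠ 1 ∧ w ≠ z ∧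
      ∀ n ∈ B, n = 1 ∨ n = z ∨ n = w ∨ n = z * w := by
  classical
  have hfin : (B : Set GG).Finite := Set.toFinite _
  have hcard : (B : Set GG).ncard = 4 := (Nat.card_coe_set_eq (B : Set GG)).symm.trans hB4
  obtain ⟨z, hzB, hz1⟩ : ∃ z ∈ B, z ≠ 1 := by
    by_contra hcon
    push Not at hcon
    have : (B : Set GG) ⊆ {1} := fun n hn => hcon n hn
    have := Set.ncard_le_ncard this (Set.finite_singleton _)
    rw [hcard, Set.ncard_singleton] at this
    omega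
  obtain ⟨w, hwB, hw1, hwz⟩ : ∃ w ∈ B, w ≠ 1 ∧ w ≠ z := by
    by_contra hcon
    push Not at hcon
    have : (B : Set GG) ⊆ {1, z} := fun n hn => by
      by_cases h1 : n = 1
      · simp [h1]
      · simp [hcon n hn h1]
    have := Set.ncard_le_ncard this (Set.toFinite _)
    have h2 : ({1, z} : Set GG).ncard ≤ 2 := Set.ncard_insert_le _ _ |>.trans (by simp)
    omega
  refine ⟨z, w, hzB, hwB, hz1, hw1, hwz, ?_⟩
  have hzz : z * z = 1 := by rw [← pow_two]; exact hsq z hzB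
  have hsub : (({1, z, w, z * w} : Finset GG) : Set GG) ⊆ (B : Set GG) := by
    intro n hn
    simp only [Finset.coe_insert, Finset.coe_singleton, Set.mem_insert_iff,
      Set.mem_singleton_iff] at hn
    rcases hn with rfl | rfl | rfl | rfl
    · exact B.one_mem
    · exact hzB
    · exact hwB
    · exact B.mul_mem hzB hwB
  have hc4 : ({1, z, w, z * w} : Finset GG).card = 4 := by
    have h1 : (1 : GG) ∉ ({z, w, z * w} : Finset GG) := by
      simp only [Finset.mem_insert, Finset.mem_singleton, not_or]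
      refine ⟨fun h => hz1 h.symm, fun h => hw1 h.symm, fun h => ?_⟩
      apply hwz
      calc w = (z * z) * w := by rw [hzz, one_mul]
        _ = z * (z * w) := by rw [mul_assoc]
        _ = z := by rw [← h, mul_one]
    have h2 : z ∉ ({w, z * w} : Finset GG) := by
      simp only [Finset.mem_insert, Finset.mem_singleton, not_or]
      refine ⟨fun h => hwz h.symm, fun h => hw1 ?_⟩
      exact (mul_eq_left.1 h.symm)
    have h3 : w ∉ ({z * w} : Finset GG) := by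
      simp only [Finset.mem_singleton]
      intro h
      exact hz1 (mul_eq_right.1 h.symm)
    rw [Finset.card_insert_of_notMem h1, Finset.card_insert_of_notMem h2,
      Finset.card_insert_of_notMem h3, Finset.card_singleton]
  have heq : (({1, z, w, z * w} : Finset GG) : Set GG) = (B : Set GG) := by
    apply Set.eq_of_subset_of_ncard_le hsub _ hfin
    rw [hcard, Set.ncard_coe_finset, hc4]
  intro n hn
  have : n ∈ (({1, z, w, z * w} : Finset GG) : Set GG) := by rw [heq]; exact hn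
  simpa using this

/-- In the direct product P = A₄ × A₄, let X be the Sylow 2-subgroup, X₁ and X₂ its intersections with the two direct factors, Q a Sylow 3-subgroup and Q₁, Q₂ its intersections with the two factors. Then every subgroup B of X of order 4 either meets X₁ or X₂ nontrivially, or is normalized by one of the two subgroups of Q of order 3 other than Q₁ and Q₂. -/
theorem result
    (X : Sylow 2 (↥(alternatingGroup (Fin 4)) × ↥(alternatingGroup (Fin 4))))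
    (Q : Sylow 3 (↥(alternatingGroup (Fin 4)) × ↥(alternatingGroup (Fin 4))))
    (B : Subgroup (↥(alternatingGroup (Fin 4)) × ↥(alternatingGroup (Fin 4)))) (hBX : B ≤ (X : Subgroup _)) (hB4 : Nat.card ↥B = 4) :
    B ⊓ ((X : Subgroup _) ⊓ Subgroup.prod ⊤ ⊥) ≠ ⊥ ∨ B ⊓ ((X : Subgroup _) ⊓ Subgroup.prod ⊥ ⊤) ≠ ⊥ ∨
      ∃ R : Subgroup (↥(alternatingGroup (Fin 4)) × ↥(alternatingGroup (Fin 4))), R ≤ (Q : Subgroup _) ∧ Nat.card ↥R = 3 ∧
        R ≠ (Q : Subgroup _) ⊓ Subgroup.prod ⊤ ⊥ ∧ R ≠ (Q : Subgroup _) ⊓ Subgroup.prod ⊥ ⊤ ∧ R ≤ Subgroup.normalizer (B : Set _) := by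
  by_cases h1 : B ⊓ ((X : Subgroup _) ⊓ Subgroup.prod ⊤ ⊥) ≠ ⊥
  · exact Or.inl h1
  by_cases h2 : B ⊓ ((X : Subgroup _) ⊓ Subgroup.prod ⊥ ⊤) ≠ ⊥
  · exact Or.inr (Or.inl h2)
  refine Or.inr (Or.inr ?_)
  rw [not_not] at h1 h2
  -- elements of B with trivial second (first) coordinate are trivial
  have hsnd : ∀ n ∈ B, n.2 = 1 → n = 1 := by
    intro n hn h
    have : n ∈ B ⊓ ((X : Subgroup _) ⊓ Subgroup.prod ⊤ ⊥) := by
      refine ⟨hn, hBX hn, ?_⟩
      exact Subgroup.mem_prod.2 ⟨Subgroup.mem_top _, Subgroup.mem_bot.2 h⟩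
    rw [h1] at this
    exact Subgroup.mem_bot.1 this
  have hfst : ∀ n ∈ B, n.1 = 1 → n = 1 := by
    intro n hn h
    have : n ∈ B ⊓ ((X : Subgroup _) ⊓ Subgroup.prod ⊥ ⊤) := by
      refine ⟨hn, hBX hn, ?_⟩
      exact Subgroup.mem_prod.2 ⟨Subgroup.mem_bot.2 h, Subgroup.mem_top _⟩
    rw [h2] at this
    exact Subgroup.mem_bot.1 this
  have hsqB : ∀ n ∈ B, n ^ 2 = 1 := by
    intro n hn
    obtain ⟨ha, hb⟩ := sq_of_mem_sylow X n (hBX hn)
    ext
    · rw [Prod.pow_fst, ha]; rfl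
    · rw [Prod.pow_snd, hb]; rfl
  obtain ⟨z, w, hzB, hwB, hz1, hw1, hwz, hall⟩ := four_elements B hB4 hsqB
  obtain ⟨a, ha, haQ⟩ := exists_left Q
  obtain ⟨b, hb, hbQ⟩ := exists_right Q
  have hx : inv2 z.1 := ⟨(sq_of_mem_sylow X z (hBX hzB)).1, fun h => hz1 (hfst z hzB h)⟩
  have hy : inv2 z.2 := ⟨(sq_of_mem_sylow X z (hBX hzB)).2, fun h => hz1 (hsnd z hzB h)⟩
  have hx' : inv2 w.1 := ⟨(sq_of_mem_sylow X w (hBX hwB)).1, fun h => hw1 (hfst w hwB h)⟩
  have hy' : inv2 w.2 := ⟨(sq_of_mem_sylow X w (hBX hwB)).2, fun h => hw1 (hsnd w hwB h)⟩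
  have hxx' : w.1 ≠ z.1 := by
    intro h
    have h3 : (z⁻¹ * w).1 = 1 := by simp [h]
    have h4 := hfst _ (B.mul_mem (B.inv_mem hzB) hwB) h3
    exact hwz (inv_mul_eq_one.1 h4).symm
  have hyy' : w.2 ≠ z.2 := by
    intro h
    have h3 : (z⁻¹ * w).2 = 1 := by simp [h]
    have h4 := hsnd _ (B.mul_mem (B.inv_mem hzB) hwB) h3
    exact hwz (inv_mul_eq_one.1 h4).symm
  have hgood := core a ha b hb z.1 hx z.2 hy w.1 hx' hxx' w.2 hy' hyy'
  -- general claim: an element g of Q of order 3 with nontrivial coordinates, conjugating z, w into B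
  have key : ∀ g : GG, g ∈ (Q : Subgroup GG) → g ^ 3 = 1 → g.1 ≠ 1 → g.2 ≠ 1 →
      g * z * g⁻¹ ∈ B → g * w * g⁻¹ ∈ B →
      ∃ R : Subgroup GG, R ≤ (Q : Subgroup _) ∧ Nat.card ↥R = 3 ∧
        R ≠ (Q : Subgroup _) ⊓ Subgroup.prod ⊤ ⊥ ∧ R ≠ (Q : Subgroup _) ⊓ Subgroup.prod ⊥ ⊤ ∧
        R ≤ Subgroup.normalizer (B : Set _) := by
    intro g hgQ hg3 hg1 hg2 hgz hgw
    have hgne : g ≠ 1 := fun h => hg1 (by rw [h]; rfl)
    have hconj : ∀ n ∈ B, g * n * g⁻¹ ∈ B := by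
      intro n hn
      rcases hall n hn with rfl | rfl | rfl | rfl
      · simp
      · exact hgz
      · exact hgw
      · have : g * (z * w) * g⁻¹ = (g * z * g⁻¹) * (g * w * g⁻¹) := by group
        rw [this]; exact B.mul_mem hgz hgw
    have hginv : g⁻¹ = g * g := by
      rw [inv_eq_iff_mul_eq_one, ← pow_two, ← pow_succ']
      exact hg3
    refine ⟨Subgroup.zpowers g, ?_, ?_, ?_, ?_, ?_⟩
    · exact Subgroup.zpowers_le.2 hgQ
    · rw [Nat.card_zpowers]
      exact orderOf_eq_prime hg3 hgne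
    · intro h
      have : g ∈ (Q : Subgroup _) ⊓ Subgroup.prod ⊤ ⊥ := h ▸ Subgroup.mem_zpowers g
      have h6 : g ∈ Subgroup.prod (⊤ : Subgroup A4) (⊥ : Subgroup A4) := this.2
      exact hg2 (Subgroup.mem_bot.1 (Subgroup.mem_prod.1 h6).2)
    · intro h
      have : g ∈ (Q : Subgroup _) ⊓ Subgroup.prod ⊥ ⊤ := h ▸ Subgroup.mem_zpowers g
      have h6 : g ∈ Subgroup.prod (⊥ : Subgroup A4) (⊤ : Subgroup A4) := this.2
      exact hg1 (Subgroup.mem_bot.1 (Subgroup.mem_prod.1 h6).1)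
    · rw [Subgroup.zpowers_le, Subgroup.mem_normalizer_iff]
      intro n
      refine ⟨fun hn => hconj n hn, fun hn => ?_⟩
      have h5 := hconj _ (hconj _ hn)
      have : g * (g * (g * n * g⁻¹) * g⁻¹) * g⁻¹ = n := by
        have e : g * g * g = 1 := by rw [← pow_two, ← pow_succ]; exact hg3
        calc g * (g * (g * n * g⁻¹) * g⁻¹) * g⁻¹ = (g * g * g) * n * (g * g * g)⁻¹ := by group
          _ = n := by rw [e]; simp
      rwa [this] at h5
  have memB : ∀ u v : A4, inB z.1 z.2 w.1 w.2 u v → ((u, v) : GG) ∈ B := by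
    intro u v h
    rcases h with ⟨rfl, rfl⟩ | ⟨rfl, rfl⟩ | ⟨rfl, rfl⟩
    · exact hzB
    · exact hwB
    · exact B.mul_mem hzB hwB
  rcases hgood with ⟨hg1, hg2⟩ | ⟨hg1, hg2⟩
  · apply key ((a, b) : GG)
    · have : ((a, b) : GG) = (a, 1) * (1, b) := Prod.ext (by simp) (by simp)
      rw [this]; exact Subgroup.mul_mem _ haQ hbQ
    · exact Prod.ext (by simp [ha.1]) (by simp [hb.1])
    · exact ha.2
    · exact hb.2
    · have e : ((a, b) : GG) * z * ((a, b) : GG)⁻¹ = (a * z.1 * a⁻¹, b * z.2 * b⁻¹) :=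
        Prod.ext (by simp) (by simp)
      rw [e]; exact memB _ _ hg1
    · have e : ((a, b) : GG) * w * ((a, b) : GG)⁻¹ = (a * w.1 * a⁻¹, b * w.2 * b⁻¹) :=
        Prod.ext (by simp) (by simp)
      rw [e]; exact memB _ _ hg2
  · apply key ((a, b⁻¹) : GG)
    · have : ((a, b⁻¹) : GG) = (a, 1) * (1, b)⁻¹ := Prod.ext (by simp) (by simp)
      rw [this]; exact Subgroup.mul_mem _ haQ (Subgroup.inv_mem _ hbQ)
    · exact Prod.ext (by simp [ha.1]) (by simp [hb.1])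
    · exact ha.2
    · simpa using hb.2
    · have e : ((a, b⁻¹) : GG) * z * ((a, b⁻¹) : GG)⁻¹ = (a * z.1 * a⁻¹, b⁻¹ * z.2 * b) :=
        Prod.ext (by simp) (by simp)
      rw [e]; exact memB _ _ hg1
    · have e : ((a, b⁻¹) : GG) * w * ((a, b⁻¹) : GG)⁻¹ = (a * w.1 * a⁻¹, b⁻¹ * w.2 * b) :=
        Prod.ext (by simp) (by simp)
      rw [e]; exact memB _ _ hg2

end Cfsg.Agent.S4406
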