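import Cfsg.Statements.S4407
import Cfsg.Agent.Lib.Helper60.NineD8Main
import Cfsg.Agent.Lib.Helper60.NineD8Grp

set_option autoImplicit false
open Cfsg

namespace Cfsg.Agent.S4407

open Cfsg.Agent.Lib.Helper60.NineD8 DihedralGroup

theorem sq_cube {S : Type*} [Group S] (x : S) (h2 : x * x = 1) (h3 : x ^ 3 = 1) : x = 1 := by
  rw [pow_succ, pow_two, h2, one_mul] at h3; exact h3

theorem assemble {S : Type*} [Group S] [Finite S] {M : Type*} [AddCommGroup M] [Module (ZMod 2) M]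
    (ρ : Representation (ZMod 2) S M) (f : DihedralGroup 4 →* S) (hf : Function.Injective f)
    (X : Subgroup S) (hfX : ∀ d, f d ∈ X) (hXf : ∀ x ∈ X, ∃ d, f d = x)
    (jg jb : ZMod 4) (hjj : (jg = 0 ∧ jb = 1) ∨ (jg = 1 ∧ jb = 0))
    (hg : Nat.card {m : M // ρ (f (r 2)) m = m ∧ ρ (f (sr jg)) m = m} = 2)
    (hb : Nat.card {m : M // ρ (f (r 2)) m = m ∧ ρ (f (sr jb)) m = m} ≠ 2) :
    ∃! B : Subgroup S, B ≤ X ∧ Nat.card ↥B = 4 ∧ (∀ b ∈ B, b ^ 2 = 1) ∧
        Nat.card {m : M // ∀ b ∈ B, ρ b m = m} = 2 := by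
  have d1 : ∀ j : ZMod 4, (sr j * sr j : DihedralGroup 4) = 1 := by decide
  have d2 : ∀ j : ZMod 4, (sr j * r 2 : DihedralGroup 4) = r 2 * sr j := by decide
  have d3 : ∀ j : ZMod 4, (sr j : DihedralGroup 4) ≠ 1 := by decide
  have d4 : ∀ j : ZMod 4, (sr j : DihedralGroup 4) ≠ r 2 := by decide
  have d5 : (r 2 : DihedralGroup 4) ≠ 1 := by decide
  have d6 : ∀ j : ZMod 4, (sr j * r 2 * (sr j * r 2) : DihedralGroup 4) = 1 := by decide
  have hzz : f (r 2) * f (r 2) = 1 := by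
    rw [← map_mul, show (r 2 * r 2 : DihedralGroup 4) = 1 by decide, map_one]
  have hu2 : f (sr jg) * f (sr jg) = 1 := by rw [← map_mul, d1, map_one]
  have huz : f (sr jg) * f (r 2) = f (r 2) * f (sr jg) := by rw [← map_mul, ← map_mul, d2]
  have hz1 : f (r 2) ≠ 1 := fun h => d5 (hf (h.trans (map_one f).symm))
  have hu1 : f (sr jg) ≠ 1 := fun h => d3 jg (hf (h.trans (map_one f).symm))
  have hune : f (sr jg) ≠ f (r 2) := fun h => d4 jg (hf h)
  obtain ⟨Bg, hBg⟩ := four_sub (f (sr jg)) (f (r 2)) hu2 hzz huz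
  have hBgX : Bg ≤ X := by
    intro x hx
    rcases (hBg x).1 hx with rfl | rfl | rfl | rfl
    · exact X.one_mem
    · exact hfX _
    · exact hfX _
    · exact X.mul_mem (hfX _) (hfX _)
  have hBg4 : Nat.card Bg = 4 := card_four Bg _ _ hBg hz1 hu1 hune hzz
  have hBg2 : ∀ b ∈ Bg, b ^ 2 = 1 := by
    intro b hb
    rcases (hBg b).1 hb with rfl | rfl | rfl | rfl
    · exact one_pow 2
    · rw [pow_two]; exact hzz
    · rw [pow_two]; exact hu2
    · rw [pow_two, ← map_mul, ← map_mul, d6, map_one]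
  have hBgfix : Nat.card {m : M // ∀ b ∈ Bg, ρ b m = m} = 2 := (fix_congr ρ Bg _ _ hBg).trans hg
  refine ⟨Bg, ⟨hBgX, hBg4, hBg2, hBgfix⟩, ?_⟩
  rintro B' ⟨hB'X, hB'4, hB'2, hB'fix⟩
  obtain ⟨u, hu', hB'⟩ := classify f hf B' (fun x hx => hXf x (hB'X hx)) hB'4 hB'2
  have hcases : u = f (sr jg) ∨ u = f (sr jb) := by
    rcases hjj with ⟨rfl, rfl⟩ | ⟨rfl, rfl⟩ <;> rcases hu' with h | h <;> simp [h]
  rcases hcases with rfl | rfl
  · ext x; rw [hB' x, hBg x]
  · exfalso; apply hb; rw [← fix_congr ρ B' _ _ hB']; exact hB'fix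

/-- Let S be a finite group with a normal elementary abelian subgroup A of order 9 that is self-centralizing (C_S(A) = A), and a dihedral subgroup X of order 8 with S = AX. Let M be a finite-dimensional module for S over the field with two elements that is faithful and irreducible. Then M has 16 elements, and X contains exactly one subgroup B of order 4 and exponent 2 whose fixed points on M form a subspace with exactly 2 elements (equivalently, M is free of rank one over the group algebra of B). -/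
theorem result {S : Type*} [Group S] [Finite S]
    (A : Subgroup S) [A.Normal] (hA : Cfsg.IsElementaryAbelian 3 A) (hA9 : Nat.card ↥A = 9)
    (hAC : Subgroup.centralizer (A : Set S) = A) (X : Subgroup S) (hX : Nonempty (↥X ≃* DihedralGroup 4)) (hAX : A ⊔ X = ⊤)
    {M : Type*} [AddCommGroup M] [Module (ZMod 2) M] [Finite M] (ρ : Representation (ZMod 2) S M)
    (hfaith : Function.Injective ρ)
    (hirr : ∀ N : Submodule (ZMod 2) M, (∀ s : S, ∀ m ∈ N, ρ s m ∈ N) → N = ⊥ ∨ N = ⊤) (hM : Nontrivial M) :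
    Nat.card M = 16 ∧
      ∃! B : Subgroup S, B ≤ X ∧ Nat.card ↥B = 4 ∧ (∀ b ∈ B, b ^ 2 = 1) ∧
        Nat.card {m : M // ∀ b ∈ B, ρ b m = m} = 2 := by
  obtain ⟨hAc, hA3⟩ := hA
  have hAab : ∀ x ∈ A, ∀ y ∈ A, x * y = y * x := by
    intro x hx y hy
    exact congrArg Subtype.val (hAc.is_comm.comm ⟨x, hx⟩ ⟨y, hy⟩)
  obtain ⟨e⟩ := hX
  obtain ⟨f, hf_def⟩ : ∃ f : DihedralGroup 4 →* S, f = X.subtype.comp e.symm.toMonoidHom := ⟨_, rfl⟩
  have hf : Function.Injective f := by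
    rw [hf_def]; exact (Subgroup.subtype_injective X).comp e.symm.injective
  have hfX : ∀ d, f d ∈ X := by intro d; rw [hf_def]; exact (e.symm d).2
  have hXf : ∀ x ∈ X, ∃ d, f d = x := by
    intro x hx; refine ⟨e ⟨x, hx⟩, ?_⟩; rw [hf_def]; simp
  have hCA := no_fixed A hA9 ρ hfaith hirr
  have hrel : ∀ d d' d'' : DihedralGroup 4, d * d' = d'' → f d * f d' = f d'' := by
    intro d d' d'' h; rw [← map_mul, h]
  have hr4 : f (r 1) * f (r 1) * (f (r 1) * f (r 1)) = 1 := by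
    rw [← map_mul, ← map_mul, show (r 1 * r 1 * (r 1 * r 1) : DihedralGroup 4) = 1 by decide, map_one]
  have hzdef : f (r 1) * f (r 1) = f (r 2) := hrel _ _ _ (by decide)
  have hz1 : f (r 1) * f (r 1) ≠ 1 := by
    rw [hzdef]; intro h
    exact absurd (hf (h.trans (map_one f).symm)) (by decide)
  have hzA := z_inverts A hAab hA3 hA9 hAC (f (r 1)) hr4 hz1
  have hzA' : ∀ x ∈ A, f (r 2) * x * (f (r 2))⁻¹ = x⁻¹ := by rw [← hzdef]; exact hzA
  have hzz : f (r 2) * f (r 2) = 1 := (hrel _ _ _ (by decide)).trans (map_one f)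
  have hs2 : ∀ j : ZMod 4, f (sr j) * f (sr j) = 1 := by
    intro j; rw [← map_mul, show (sr j * sr j : DihedralGroup 4) = 1 by revert j; decide, map_one]
  have hsr : ∀ j : ZMod 4, f (sr j) * f (r 1) = (f (r 1))⁻¹ * f (sr j) := by
    intro j
    rw [← map_inv, ← map_mul, ← map_mul]
    congr 1
    revert j; decide
  have hgen : ∀ j : ZMod 4, A ⊔ Subgroup.closure {f (r 1), f (sr j)} = ⊤ := by
    intro j
    rw [eq_top_iff, ← hAX]
    apply sup_le_sup_left
    intro x hx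
    obtain ⟨d, rfl⟩ := hXf x hx
    have : f d ∈ (Subgroup.closure ({r 1, sr j} : Set (DihedralGroup 4))).map f := ⟨d, d4_gen j d, rfl⟩
    rwa [MonoidHom.map_closure, Set.image_pair] at this
  have hsz : f (sr 0) * f (r 2) = f (r 2) * f (sr 0) :=
    (hrel _ _ (sr 2) (by decide)).trans (hrel _ _ (sr 2) (by decide)).symm
  have hsne : f (sr 0) ≠ f (r 2) := fun h => absurd (hf h) (by decide)
  obtain ⟨a, haA, ha1, hsa⟩ := exists_centralized A hAab hA3 hAC (f (sr 0)) (f (r 2)) (hs2 0) hzz hsz hsne hzA'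
  obtain ⟨hb', hRsb⟩ := basic_rels A (f (r 1)) (f (sr 0)) a (hsr 0) hr4 haA hsa hzA
  obtain ⟨b, hb⟩ : ∃ b, b = f (r 1) * a * (f (r 1))⁻¹ := ⟨_, rfl⟩
  rw [← hb] at hb' hRsb
  have hbA : b ∈ A := by rw [hb]; exact ‹A.Normal›.conj_mem a haA _
  have hab : a * b = b * a := hAab a haA b hbA
  have hb1 : b ≠ 1 := by
    intro h
    apply ha1
    have : a = (f (r 1))⁻¹ * (f (r 1) * a * (f (r 1))⁻¹) * f (r 1) := by group
    rw [this, ← hb, h]; group
  have hnc : f (sr 0) * b ≠ b * f (sr 0) := by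
    intro hc
    rw [hRsb] at hc
    have h1 : b⁻¹ = b := mul_right_cancel hc
    have h2 : b * b = 1 := by nth_rewrite 1 [← h1]; exact inv_mul_cancel b
    exact hb1 (sq_cube b h2 (hA3 b hbA))
  have hane : a ≠ b := by
    intro h; apply hnc; rw [← h]; exact hsa
  have hcase : (∃ m : M, m ≠ 0 ∧ ρ a m = m) ∨ (∃ m : M, m ≠ 0 ∧ ρ (a * b) m = m) := by
    rcases fix_exists ρ hfaith a b hab (hA3 a haA) (hA3 b hbA) hane with h | h | h
    · exact Or.inl h
    · left
      obtain ⟨m, hm0, hm⟩ := h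
      refine ⟨ρ (f (r 1))⁻¹ m, fun h0 => hm0 (rho_inj ρ h0), ?_⟩
      have : a * (f (r 1))⁻¹ = (f (r 1))⁻¹ * b := by rw [hb]; group
      rw [rho_mul, this, ← rho_mul, hm]
    · exact Or.inr h
  rcases hcase with h | h
  · obtain ⟨h16, hbad, hgood⟩ := main_lemma A hAab hA3 hA9 ρ hirr hCA (f (r 1)) (f (sr 0)) a (hs2 0)
      (hsr 0) hr4 haA ha1 hsa hzA (hgen 0) h
    rw [hzdef] at hbad hgood
    rw [hrel (sr 0) (r 1) (sr 1) (by decide)] at hgood
    exact ⟨h16, assemble ρ f hf X hfX hXf 1 0 (Or.inr ⟨rfl, rfl⟩) hgood hbad⟩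
  · have hs'def : f (sr 3) = f (sr 0) * (f (r 1))⁻¹ := by
      rw [← map_inv, ← map_mul]; congr 1
    have hbdef' : (f (r 1))⁻¹ * b * f (r 1) = a := by rw [hb]; group
    have hsb' : f (sr 0) * b⁻¹ = b * f (sr 0) := by
      calc f (sr 0) * b⁻¹ = b * (b⁻¹ * f (sr 0)) * b⁻¹ := by group
        _ = b * (f (sr 0) * b) * b⁻¹ := by rw [hRsb]
        _ = b * f (sr 0) := by group
    have hsa' : f (sr 3) * (a * b) = (a * b) * f (sr 3) := by
      calc f (sr 3) * (a * b) = f (sr 0) * (f (r 1))⁻¹ * (a * b) := by rw [hs'def]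
        _ = f (sr 0) * (((f (r 1))⁻¹ * a * f (r 1)) * ((f (r 1))⁻¹ * b * f (r 1))) * (f (r 1))⁻¹ := by group
        _ = f (sr 0) * (b⁻¹ * a) * (f (r 1))⁻¹ := by rw [← hb', hbdef']
        _ = (f (sr 0) * b⁻¹) * a * (f (r 1))⁻¹ := by group
        _ = (b * f (sr 0)) * a * (f (r 1))⁻¹ := by rw [hsb']
        _ = b * (f (sr 0) * a) * (f (r 1))⁻¹ := by group
        _ = b * (a * f (sr 0)) * (f (r 1))⁻¹ := by rw [hsa]
        _ = (b * a) * (f (sr 0) * (f (r 1))⁻¹) := by group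
        _ = (a * b) * f (sr 3) := by rw [← hab, hs'def]
    have hab1 : a * b ≠ 1 := by
      intro h1
      apply hnc
      have : b = a⁻¹ := eq_inv_of_mul_eq_one_right h1
      rw [this]
      exact ((show Commute (f (sr 0)) a from hsa).inv_right).eq
    obtain ⟨h16, hbad, hgood⟩ := main_lemma A hAab hA3 hA9 ρ hirr hCA (f (r 1)) (f (sr 3)) (a * b) (hs2 3)
      (hsr 3) hr4 (A.mul_mem haA hbA) hab1 hsa' hzA (hgen 3) h
    rw [hzdef] at hbad hgood
    rw [hrel (sr 3) (r 1) (sr 0) (by decide)] at hgood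
    have hbad' : Nat.card {m : M // ρ (f (r 2)) m = m ∧ ρ (f (sr 1)) m = m} ≠ 2 := by
      intro hc
      apply hbad
      refine (Nat.card_congr ?_).trans hc
      apply Equiv.subtypeEquivRight
      intro m
      apply and_congr_right
      intro hz
      rw [← hrel (sr 1) (r 2) (sr 3) (by decide), ← rho_mul, hz]
    exact ⟨h16, assemble ρ f hf X hfX hXf 0 1 (Or.inl ⟨rfl, rfl⟩) hgood hbad'⟩

end Cfsg.Agent.S4407
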