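import Cfsg.Statements.S4408
import Mathlib
import Cfsg.Agent.Lib.Helper23.DihedralAbelian
import Cfsg.Agent.Lib.Helper23.DihedralReduce
import Cfsg.Agent.Lib.Helper24.InvCompl

set_option autoImplicit false
open Cfsg

namespace Cfsg.Agent.S4408

/-- an element of the group generated by a "dual basis" which centralises all the eigenvectors is
trivial -/
theorem eq_one_of_dual_basis {G : Type*} [Group G] {ι : Type*} [DecidableEq ι] (a y : ι → G)
    (ha2 : ∀ i, a i * a i = 1) (hac : ∀ i j, a i * a j = a j * a i)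
    (hy : ∀ i, y i * y i ≠ 1) (hinv : ∀ i, a i * y i * (a i)⁻¹ = (y i)⁻¹)
    (hcen : ∀ i j, i ≠ j → a i * y j * (a i)⁻¹ = y j) :
    ∀ T : Finset ι, ∀ b ∈ Subgroup.closure (a '' (T : Set ι)),
      (∀ j ∈ T, b * y j * b⁻¹ = y j) → b = 1 := by
  intro T
  induction T using Finset.induction_on with
  | empty =>
    intro b hb _
    rw [Finset.coe_empty, Set.image_empty, Subgroup.closure_empty, Subgroup.mem_bot] at hb
    exact hb
  | insert i T hiT ih =>
    intro b hb hfix
    rw [Finset.coe_insert, Set.image_insert_eq, Set.insert_eq, Subgroup.closure_union,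
      ← Subgroup.zpowers_eq_closure] at hb
    -- `a i` commutes with the closure
    have hcomm : Subgroup.closure (a '' (T : Set ι)) ≤ Subgroup.centralizer ({a i} : Set G) := by
      rw [Subgroup.closure_le]
      rintro _ ⟨j, _, rfl⟩
      rw [SetLike.mem_coe, Subgroup.mem_centralizer_iff]
      intro h hh
      rw [Set.mem_singleton_iff] at hh
      rw [hh]
      exact hac i j
    have hnorm : Subgroup.zpowers (a i) ≤
        Subgroup.normalizer ((Subgroup.closure (a '' (T : Set ι)) : Subgroup G) : Set G) := by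
      refine le_trans ?_ (Subgroup.centralizer_le_normalizer _)
      rw [Subgroup.zpowers_le, Subgroup.mem_centralizer_iff]
      intro h hh
      have := hcomm hh
      rw [Subgroup.mem_centralizer_iff] at this
      exact (this (a i) rfl).symm
    obtain ⟨u, hu, v, hv, rfl⟩ :=
      Cfsg.Agent.Lib.Helper24.exists_mul_of_mem_sup_of_le_normalizer _ _ hnorm b hb
    -- `v` centralises `y i`
    have hvy : v * y i * v⁻¹ = y i := by
      have hle : Subgroup.closure (a '' (T : Set ι)) ≤ Subgroup.centralizer ({y i} : Set G) := by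
        rw [Subgroup.closure_le]
        rintro _ ⟨j, hj, rfl⟩
        rw [SetLike.mem_coe, Subgroup.mem_centralizer_iff]
        intro h hh
        rw [Set.mem_singleton_iff] at hh
        rw [hh]
        have hji : j ≠ i := by
          rintro rfl
          exact hiT (Finset.mem_coe.mp hj)
        have := hcen j i hji
        rw [mul_inv_eq_iff_eq_mul] at this
        exact this.symm
      have := hle hv
      rw [Subgroup.mem_centralizer_iff] at this
      have h2 := this (y i) rfl
      rw [← h2, mul_inv_cancel_right]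
    have huy : u * y i * u⁻¹ = y i := by
      have := hfix i (Finset.mem_insert_self i T)
      calc u * y i * u⁻¹ = u * (v * y i * v⁻¹) * u⁻¹ := by rw [hvy]
        _ = (u * v) * y i * (u * v)⁻¹ := by group
        _ = y i := this
    have hu1 : u = 1 := by
      obtain ⟨e, rfl⟩ := Subgroup.mem_zpowers_iff.mp hu
      have ha2' : (a i) ^ (2 : ℤ) = 1 := by
        rw [zpow_ofNat, pow_two]; exact ha2 i
      rcases Int.even_or_odd e with ⟨m, rfl⟩ | ⟨m, rfl⟩
      · rw [← two_mul, zpow_mul, ha2', one_zpow]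
      · exfalso
        have h1 : (a i) ^ (2 * m + 1) = a i := by
          rw [zpow_add_one, zpow_mul, ha2', one_zpow, one_mul]
        rw [h1, hinv i] at huy
        apply hy i
        calc y i * y i = y i * (y i)⁻¹ := by rw [huy]
          _ = 1 := mul_inv_cancel _
    rw [hu1, one_mul]
    apply ih v hv
    intro j hj
    have := hfix j (Finset.mem_insert_of_mem hj)
    rw [hu1, one_mul] at this
    exact this

open Cfsg.Agent.Lib.Helper23 in
/-- Let S be a finite solvable group whose Fitting subgroup F(S) has odd order, and let I be an elementary abelian 2-subgroup of S of order 2ⁿ with n ≥ 1. Then F(S) contains subgroups A₁, …, Aₙ of prime order, each normalized by I, pairwise commuting and generating a subgroup A of order |A₁|⋯|Aₙ| (their internal direct product), such that no non-identity element of I centralizes A. -/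
theorem result {S : Type*} [Group S] [Finite S]
    [Group.IsSolvable S] (hF : Odd (Nat.card ↥(Cfsg.fittingSubgroup S)))
    (I : Subgroup S) (hI : Cfsg.IsElementaryAbelian 2 I) (n : ℕ) (hn : 1 ≤ n) (hIn : Nat.card ↥I = 2 ^ n) :
    ∃ f : Fin n → Subgroup S, (∀ i, (Nat.card ↥(f i)).Prime) ∧ (∀ i, f i ≤ Cfsg.fittingSubgroup S) ∧
      (∀ i, I ≤ Subgroup.normalizer ((f i) : Set S)) ∧ (∀ i j, i ≠ j → ∀ a ∈ f i, ∀ b ∈ f j, a * b = b * a) ∧
      Nat.card ↥(⨆ i, f i) = ∏ i, Nat.card ↥(f i) ∧ I ⊓ Subgroup.centralizer ((⨆ i, f i : Subgroup S) : Set S) = ⊥ := by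
  classical
  set F := Cfsg.fittingSubgroup S with hFdef
  have hFn : F.Normal := Cfsg.Agent.Lib.Helper10.fitting_normal
  have hF2 : ∀ c ∈ F, c * c = 1 → c = 1 := by
    intro c hc hcc
    by_contra hc1
    have ho : orderOf c = 2 := by
      have : Fact (Nat.Prime 2) := ⟨Nat.prime_two⟩
      exact orderOf_eq_prime (by rw [pow_two]; exact hcc) hc1
    have hdvd : orderOf c ∣ Nat.card ↥F := by
      have := orderOf_dvd_natCard (⟨c, hc⟩ : ↥F)
      rwa [Subgroup.orderOf_mk] at this
    rw [ho] at hdvd
    exact (Nat.not_even_iff_odd.mpr hF) (even_iff_two_dvd.mpr hdvd)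
  have hIc : ∀ a ∈ I, ∀ b ∈ I, a * b = b * a := by
    intro a ha b hb
    have := hI.1.is_comm.comm (⟨a, ha⟩ : ↥I) ⟨b, hb⟩
    exact congrArg Subtype.val this
  have hI2 : ∀ a ∈ I, a * a = 1 := by
    intro a ha
    have := hI.2 a ha
    rwa [pow_two] at this
  have hIF : ∀ a ∈ I, ∀ f ∈ F, a * f * a⁻¹ ∈ F := fun a _ f hf => hFn.conj_mem f hf a
  have hFnil : Group.IsNilpotent ↥F := Cfsg.Agent.Lib.Helper22.fittingSubgroup_isNilpotent
  obtain ⟨W, hWF, hWab, hWFn, hWA, hWC⟩ := exists_selfcentralizing F I hFnil hIc hI2 hIF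
  have hfaithW : ∀ a ∈ I, (∀ w ∈ W, a * w * a⁻¹ = w) → a = 1 := by
    intro a ha h
    have h1 : ∀ g ∈ F, a * g * a⁻¹ = g :=
      centralizes_of_centralizes_normal F W hWFn hWC hF2 a (hIF a ha) h (hI2 a ha)
    have h2 : a ∈ Subgroup.centralizer (F : Set S) := by
      rw [Subgroup.mem_centralizer_iff]
      intro g hg
      have := h1 g hg
      rw [mul_inv_eq_iff_eq_mul] at this
      exact this.symm
    exact hF2 a (Cfsg.Agent.Lib.Helper10.centralizer_fitting_le h2) (hI2 a ha)
  have hW2 : ∀ x ∈ W, x * x = 1 → x = 1 := fun x hx => hF2 x (hWF hx)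
  obtain ⟨a, x, hprops, hcross, hgen⟩ :=
    abelian_dihedral_aux W I hWab hW2 hIc hI2 hWA n I le_rfl hIn hfaithW
  -- choose primes
  have hprime : ∀ i, ∃ p : ℕ, p.Prime ∧ p ∣ orderOf (x i) := by
    intro i
    apply Nat.exists_prime_and_dvd
    rw [Ne, orderOf_eq_one_iff]
    exact (hprops i).2.2.1
  choose p hpp hpdvd using hprime
  let y : Fin n → S := fun i => (x i) ^ (orderOf (x i) / p i)
  have hyord : ∀ i, orderOf (y i) = p i := fun i =>
    orderOf_pow_orderOf_div (orderOf_pos (x i)).ne' (hpdvd i)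
  have hyW : ∀ i, y i ∈ W := fun i => W.pow_mem (hprops i).2.1 _
  have hyconj : ∀ c i, c * y i * c⁻¹ = (c * x i * c⁻¹) ^ (orderOf (x i) / p i) :=
    fun c i => (conj_pow).symm
  have hy_inv : ∀ i, a i * y i * (a i)⁻¹ = (y i)⁻¹ := by
    intro i
    rw [hyconj, (hprops i).2.2.2.2, inv_pow]
  have hy_cen : ∀ i j, i ≠ j → a i * y j * (a i)⁻¹ = y j := by
    intro i j hij
    rw [hyconj, hcross i j hij]
  have hy_all : ∀ i, ∀ c ∈ I, c * y i * c⁻¹ = y i ∨ c * y i * c⁻¹ = (y i)⁻¹ := by
    intro i c hc
    rcases (hprops i).2.2.2.1 c hc with h | h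
    · left; rw [hyconj, h]
    · right; rw [hyconj, h, inv_pow]
  have hyy : ∀ i, y i * y i ≠ 1 := by
    intro i h
    have h1 := hW2 _ (hyW i) h
    have := hyord i
    rw [h1, orderOf_one] at this
    exact (hpp i).ne_one this.symm
  have hzW : ∀ i, Subgroup.zpowers (y i) ≤ W := fun i => Subgroup.zpowers_le.mpr (hyW i)
  refine ⟨fun i => Subgroup.zpowers (y i), ?_, ?_, ?_, ?_, ?_, ?_⟩
  · intro i
    rw [Nat.card_zpowers, hyord]
    exact hpp i
  · intro i
    exact (hzW i).trans hWF
  · intro i c hc
    rw [← Cfsg.Agent.Lib.Helper33.cj_eq_self_iff, Cfsg.Agent.Lib.Helper33.cj_def,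
      MonoidHom.map_zpowers]
    show Subgroup.zpowers (c * y i * c⁻¹) = _
    rcases hy_all i c hc with h | h
    · rw [h]
    · rw [h, Subgroup.zpowers_inv]
  · intro i j _ u hu v hv
    exact hWab u (hzW i hu) v (hzW j hv)
  · -- the order of the product
    have hcomm : Pairwise fun i j : Fin n => ∀ u v : S, u ∈ Subgroup.zpowers (y i) →
        v ∈ Subgroup.zpowers (y j) → Commute u v := by
      intro i j _ u v hu hv
      exact hWab u (hzW i hu) v (hzW j hv)
    have hind : iSupIndep (fun i => Subgroup.zpowers (y i)) := by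
      intro i
      rw [Subgroup.disjoint_def]
      intro z hz1 hz2
      have h1 : a i * z * (a i)⁻¹ = z⁻¹ := by
        obtain ⟨k, rfl⟩ := Subgroup.mem_zpowers_iff.mp hz1
        rw [← conj_zpow, hy_inv, inv_zpow]
      have h2 : a i * z * (a i)⁻¹ = z := by
        have hle : (⨆ j, ⨆ (_ : j ≠ i), Subgroup.zpowers (y j)) ≤
            Subgroup.centralizer ({a i} : Set S) := by
          apply iSup_le; intro j; apply iSup_le; intro hji
          rw [Subgroup.zpowers_le, Subgroup.mem_centralizer_iff]
          intro h hh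
          rw [Set.mem_singleton_iff] at hh
          rw [hh]
          have := hy_cen i j (Ne.symm hji)
          rw [mul_inv_eq_iff_eq_mul] at this
          exact this
        have := hle hz2
        rw [Subgroup.mem_centralizer_iff] at this
        have h3 := this (a i) rfl
        rw [h3, mul_inv_cancel_right]
      have hzz : z⁻¹ = z := h1.symm.trans h2
      apply hW2 z (hzW i hz1)
      calc z * z = z⁻¹ * z := by rw [hzz]
        _ = 1 := inv_mul_cancel z
    have hinj := Subgroup.injective_noncommPiCoprod_of_iSupIndep (hcomm := hcomm) hind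
    have hrange := Subgroup.noncommPiCoprod_range (hcomm := hcomm)
    rw [← hrange, Nat.card_congr (MonoidHom.ofInjective hinj).toEquiv.symm, Nat.card_pi]
  · -- faithfulness
    rw [eq_bot_iff]
    intro b hb
    obtain ⟨hbI, hbC⟩ := Subgroup.mem_inf.mp hb
    rw [Subgroup.mem_bot]
    have hb' : b ∈ Subgroup.closure (a '' ((Finset.univ : Finset (Fin n)) : Set (Fin n))) := by
      rw [Finset.coe_univ, Set.image_univ, hgen]
      exact hbI
    apply eq_one_of_dual_basis a y (fun i => hI2 _ (hprops i).1)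
      (fun i j => hIc _ (hprops i).1 _ (hprops j).1) hyy hy_inv hy_cen Finset.univ b hb'
    intro j _
    rw [Subgroup.mem_centralizer_iff] at hbC
    have := hbC (y j) (Subgroup.mem_iSup_of_mem j (Subgroup.mem_zpowers _))
    rw [← this, mul_inv_cancel_right]

end Cfsg.Agent.S4408
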