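import Cfsg.Statements.S4409
import Cfsg.Agent.Lib.Helper29.SmallTwoE
import Cfsg.Agent.Lib.Helper25.SmallTwoCrit
import Cfsg.Agent.Lib.Helper1.SylowSystem
import Cfsg.Agent.Lib.Helper53.SolvPSolv
import Cfsg.Agent.Lib.Helper76.PSolvable
import Cfsg.Agent.Lib.Helper11.PConstrained
import Cfsg.Agent.Lib.Helper2.PGroup
import Cfsg.Agent.S0093

set_option autoImplicit false
open Cfsg

namespace Cfsg.Agent.S4409

open Cfsg.Agent.Lib.Helper29.SmallTwo
open scoped commutatorElement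

theorem odd_card_hall {S : Type*} [Group S] [Finite S] (K : Subgroup S)
    (hK : K.index = 2 ^ (Nat.card S).factorization 2) : Odd (Nat.card K) := by
  have h1 := Subgroup.card_mul_index K
  have h2 := Nat.ordProj_mul_ordCompl_eq_self (Nat.card S) 2
  have hpos : 0 < 2 ^ (Nat.card S).factorization 2 := by positivity
  have h3 : Nat.card K = Nat.card S / 2 ^ (Nat.card S).factorization 2 := by
    rw [hK] at h1
    have : Nat.card K * 2 ^ (Nat.card S).factorization 2 =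
        (Nat.card S / 2 ^ (Nat.card S).factorization 2) * 2 ^ (Nat.card S).factorization 2 := by
      rw [h1, mul_comm, h2]
    exact Nat.eq_of_mul_eq_mul_right hpos this
  rw [h3]
  exact Nat.coprime_two_left.mp (Nat.coprime_ordCompl Nat.prime_two Nat.card_pos.ne')

theorem le_normal_sylow {S : Type*} [Group S] [Finite S] (X : Sylow 2 S)
    [hXn : (X : Subgroup S).Normal] (A : Subgroup S) (hA : IsPGroup 2 A) : A ≤ (X : Subgroup S) := by
  have : Fact (Nat.Prime 2) := ⟨Nat.prime_two⟩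
  obtain ⟨Q, hQ⟩ := hA.exists_le_sylow
  obtain ⟨g, hg⟩ := MulAction.exists_smul_eq S X Q
  rw [Sylow.smul_eq_of_normal] at hg
  rw [hg]; exact hQ

/-- Let S be a finite solvable group with O_{2'}(S) = 1 that contains a non-cyclic abelian subgroup of order 8, while no proper subgroup of S of 2-power index contains one. Then a Sylow 2-subgroup X of S is normal in S, and one of the following holds: X is abelian; X is extraspecial of order at least 32; X has a generalized quaternion subgroup X₀ of index 2 with X = X₀·C_X(X₀); or X is special with centre of order 4. -/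
theorem result {S : Type*} [Group S] [Finite S]
    [Group.IsSolvable S] (hO : Cfsg.pPrimeCore 2 S = ⊥)
    (h8 : ∃ A : Subgroup S, IsMulCommutative ↥A ∧ ¬ IsCyclic ↥A ∧ Nat.card ↥A = 8)
    (hmin : ∀ R : Subgroup S, R ≠ ⊤ → (∃ k : ℕ, R.index = 2 ^ k) →
      ¬ ∃ A : Subgroup S, A ≤ R ∧ IsMulCommutative ↥A ∧ ¬ IsCyclic ↥A ∧ Nat.card ↥A = 8)
    (X : Sylow 2 S) :
    (X : Subgroup S).Normal ∧
      (IsMulCommutative ↥X ∨
        (Cfsg.IsExtraspecial 2 ↥X ∧ 32 ≤ Nat.card ↥X) ∨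
        (∃ (X₀ : Subgroup S) (k : ℕ), X₀ ≤ (X : Subgroup S) ∧ X₀.relIndex (X : Subgroup S) = 2 ∧
          Nonempty (↥X₀ ≃* QuaternionGroup (2 ^ (k + 1))) ∧ X₀ ⊔ ((X : Subgroup S) ⊓ Subgroup.centralizer (X₀ : Set S)) = (X : Subgroup S)) ∨
        (Cfsg.IsSpecial 2 ↥X ∧ Nat.card ↥(Subgroup.center ↥X) = 4)) := by
  have hf : Fact (Nat.Prime 2) := ⟨Nat.prime_two⟩
  have hmin' : ∀ R : Subgroup S, R ≠ ⊤ → (∃ k : ℕ, R.index = 2 ^ k) → ¬ HasIn R := hmin
  by_cases h2 : IsPGroup 2 S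
  · obtain ⟨hn, hc⟩ := twoGroup_case h2 h8 hmin' X
    exact ⟨hn, Or.inl hc⟩
  -- `R = O_2(S)` and its critical subgroup
  have hR2 : IsPGroup 2 (Cfsg.pCore 2 S) := Cfsg.Agent.Lib.Helper55.pCore_isPGroup 2
  have hps : IsPSolvable 2 S :=
    Cfsg.Agent.Lib.Helper53.isPSolvable_of_isSolvable 2 inferInstance
  have hCR : Subgroup.centralizer ((Cfsg.pCore 2 S : Subgroup S) : Set S) ≤ Cfsg.pCore 2 S :=
    Cfsg.Agent.Lib.Helper76.centralizer_pCore_le_of_isPSolvable hps hO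
  obtain ⟨H₀, hchar, hfr, hcomm, hself⟩ := Cfsg.Agent.S0093.result hR2
  obtain ⟨C', hC'⟩ : ∃ C' : Subgroup S, C' = H₀.map (Cfsg.pCore 2 S).subtype := ⟨_, rfl⟩
  have hC'n : C'.Normal := by
    rw [hC']; exact ConjAct.normal_of_characteristic_of_normal
  have hC'2 : IsPGroup 2 C' := by
    rw [hC']; exact (hR2.to_subgroup H₀).map _
  have hCC' : Subgroup.centralizer (C' : Set S) ≤ C' := by
    rw [hC']
    exact Cfsg.Agent.Lib.Helper25.SmallTwo.centralizer_map_le (Cfsg.pCore 2 S) hR2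
      (fun N hN hN2 => Cfsg.Agent.Lib.Helper11.le_pCore' hN hN2) hCR H₀ hself
  have hE1 : ∀ a ∈ C', ∀ b ∈ C', ∀ g ∈ C', g * ⁅a, b⁆ = ⁅a, b⁆ * g := by
    rw [hC']
    rintro _ ⟨a, ha, rfl⟩ _ ⟨b, hb, rfl⟩ _ ⟨g, hg, rfl⟩
    have h1 : ⁅a, b⁆ ∈ ⁅H₀, (⊤ : Subgroup (Cfsg.pCore 2 S))⁆ :=
      Subgroup.commutator_mem_commutator ha (Subgroup.mem_top b)
    have h2 := (hcomm h1).2
    have h3 := Subgroup.mem_centralizer_iff.mp h2 g hg
    have := congrArg Subtype.val h3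
    simpa [commutatorElement_def] using this
  have hE2 : ∀ a ∈ C', ∀ g ∈ C', g * a ^ 2 = a ^ 2 * g := by
    rw [hC']
    rintro _ ⟨a, ha, rfl⟩ _ ⟨g, hg, rfl⟩
    have h1 : (⟨a, ha⟩ : H₀) ^ 2 ∈ frattini H₀ :=
      Cfsg.Agent.Lib.Helper2.pow_mem_frattini (hR2.to_subgroup H₀) _
    have h2 : a ^ 2 ∈ (frattini H₀).map H₀.subtype := ⟨_, h1, rfl⟩
    have h3 := Subgroup.mem_centralizer_iff.mp (hfr h2) g hg
    have := congrArg Subtype.val h3
    simpa using this
  -- a Hall 2'-subgroup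
  obtain ⟨K, hK⟩ := Cfsg.Agent.Lib.Helper1.exists_hall_compl
    (inferInstance : Group.IsSolvable S) 2 Nat.prime_two
  have hKodd : Odd (Nat.card K) := odd_card_hall K hK
  have hKidx : ∃ v : ℕ, K.index = 2 ^ v := ⟨_, hK⟩
  have hC'X : C' ≤ (X : Subgroup S) := hC'2.le_sylow_of_normal X
  by_cases htop : C' ⊔ K = ⊤
  · have hXC' : (X : Subgroup S) ≤ C' := by
      intro x hx
      have hx' : x ∈ ((C' ⊔ K : Subgroup S) : Set S) := by rw [htop]; exact Set.mem_univ x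
      rw [Subgroup.normal_mul] at hx'
      obtain ⟨c, hc, k, hk, hck⟩ := Set.mem_mul.mp hx'
      have hkX : k ∈ (X : Subgroup S) := by
        have : k = c⁻¹ * x := by rw [← hck]; group
        rw [this]; exact Subgroup.mul_mem _ (Subgroup.inv_mem _ (hC'X hc)) hx
      have hk1 := eq_one_of_mem_of_mem X.isPGroup' hKodd hkX hk
      rw [hk1, mul_one] at hck
      rw [← hck]; exact hc
    have heq : C' = (X : Subgroup S) := le_antisymm hC'X hXC'
    rw [heq] at hC'n hCC' hE1 hE2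
    refine ⟨hC'n, ?_⟩
    exact final (X : Subgroup S) X.isPGroup' (fun A hA => le_normal_sylow X A hA) hCC' hE1 hE2 K
      hKodd hKidx h2 h8 hmin'
  · exfalso
    have hidx : ∃ k : ℕ, (C' ⊔ K).index = 2 ^ k := by
      obtain ⟨v, hv⟩ := hKidx
      have hdvd : (C' ⊔ K).index ∣ 2 ^ v := by
        rw [← hv]; exact Subgroup.index_dvd_of_le le_sup_right
      obtain ⟨k, -, hk⟩ := (Nat.dvd_prime_pow Nat.prime_two).mp hdvd
      exact ⟨k, hk⟩
    have hno : ¬ HasIn (C' ⊔ K) := hmin' _ htop hidx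
    have hnoC : ¬ HasIn C' := fun h => hno (h.mono le_sup_left)
    have hsC := noAb8_of_not_hasIn C' hnoC
    rcases twoGroup_or_noAb8 C' hC'2 hCC' (class_of_elem C' hE1) (sq_of_elem C' hE2) hsC with h | h
    · exact h2 h
    · obtain ⟨A, hA, hnc, hc8⟩ := h8
      exact hnc (h A hA hc8)

end Cfsg.Agent.S4409
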