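import Cfsg.Statements.S4410
import Cfsg.Agent.Lib.Helper45.TransvecGT

set_option autoImplicit false
open Cfsg

namespace Cfsg.Agent.S4410



/-- Let V be a finite-dimensional vector space over the field with two elements and S a solvable group of linear automorphisms of V with O₂(S) = 1. If P ∈ S has order 4 and (P − 1)³ = 0 on V, then the image of (P − 1)² has at least 4 elements; equivalently, in the decomposition of V into indecomposable modules for the cyclic group generated by P, at least two summands have dimension 3. -/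
theorem result
    {V : Type*} [AddCommGroup V] [Module (ZMod 2) V] [Finite V]
    (S : Subgroup (V ≃ₗ[ZMod 2] V)) (hS : Group.IsSolvable ↥S) (hO2 : Cfsg.pCore 2 ↥S = ⊥)
    (P : V ≃ₗ[ZMod 2] V) (hPS : P ∈ S) (hP4 : orderOf P = 4)
    (hcub : ((P : V →ₗ[ZMod 2] V) - LinearMap.id) ^ 3 = 0) :
    4 ≤ Nat.card ↥(LinearMap.range (((P : V →ₗ[ZMod 2] V) - LinearMap.id) ^ 2)) := by
  classical
  by_contra hlt
  push Not at hlt
  haveI : Finite (V ≃ₗ[ZMod 2] V) :=
    Finite.of_injective (fun e : V ≃ₗ[ZMod 2] V => (e : V → V)) DFunLike.coe_injective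
  haveI := hS
  obtain ⟨N, hN⟩ : ∃ N : V →ₗ[ZMod 2] V, N = (P : V →ₗ[ZMod 2] V) - LinearMap.id := ⟨_, rfl⟩
  rw [← hN] at hlt
  -- the range of `N ^ 2` has at most two elements
  have hcard := Module.natCard_eq_pow_finrank (K := ZMod 2) (V := ↥(LinearMap.range (N ^ 2)))
  rw [Nat.card_zmod] at hcard
  have hfr : Module.finrank (ZMod 2) ↥(LinearMap.range (N ^ 2)) ≤ 1 := by
    by_contra h
    push Not at h
    have h2 : 2 ^ 2 ≤ 2 ^ Module.finrank (ZMod 2) ↥(LinearMap.range (N ^ 2)) :=
      Nat.pow_le_pow_right (by norm_num) h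
    omega
  obtain ⟨⟨a, haR⟩, hspan⟩ := finrank_le_one_iff.1 hfr
  have hrange : ∀ w ∈ LinearMap.range (N ^ 2), w = 0 ∨ w = a := by
    intro w hw
    obtain ⟨c, hc⟩ := hspan ⟨w, hw⟩
    have hc' : c • a = w := congrArg Subtype.val hc
    have hc2 : c = 0 ∨ c = 1 := by
      fin_cases c
      · left; rfl
      · right; rfl
    rcases hc2 with h | h
    · left; rw [← hc', h, zero_smul]
    · right; rw [← hc', h, one_smul]
  have hN2 : ∀ v : V, (N ^ 2) v = P (P v) - v := by
    intro v
    rw [hN, pow_two, Module.End.mul_apply, LinearMap.sub_apply, LinearMap.id_apply,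
      LinearEquiv.coe_coe, LinearMap.sub_apply, LinearMap.id_apply, LinearEquiv.coe_coe, map_sub]
    have e : P (P v) - P v - (P v - v) = P (P v) - v - (P v + P v) + (v + v) := by abel
    rw [e, ZModModule.add_self, ZModModule.add_self, sub_zero, add_zero]
  have hPP : ∀ v : V, P (P v) = v ∨ P (P v) = v + a := by
    intro v
    have h1 : (N ^ 2) v ∈ LinearMap.range (N ^ 2) := LinearMap.mem_range_self _ v
    rw [hN2] at h1
    rcases hrange _ h1 with h | h
    · left; exact sub_eq_zero.1 h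
    · right; rw [sub_eq_iff_eq_add] at h; rw [h, add_comm]
  -- the abstract setting
  obtain ⟨p, hp⟩ : ∃ p : ↥S, p = ⟨P, hPS⟩ := ⟨_, rfl⟩
  have hpo : orderOf p = 4 := by
    rw [hp, Subgroup.orderOf_mk]; exact hP4
  have hsm : ∀ v : V, (p ^ 2) • v = P (P v) := by
    intro v
    rw [hp]
    rfl
  have hp2 : p ^ 2 ≠ 1 := by
    intro h
    have h1 : orderOf p ∣ 2 := orderOf_dvd_of_pow_eq_one h
    rw [hpo] at h1
    have := Nat.le_of_dvd (by norm_num) h1
    omega
  have hv0 : ∃ v₀ : V, (p ^ 2) • v₀ ≠ v₀ := by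
    by_contra h
    push Not at h
    apply hp2
    apply eq_of_smul_eq_smul (α := V)
    intro v
    rw [h v, one_smul]
  obtain ⟨v₀, hv₀⟩ := hv0
  have hv₀' : (p ^ 2) • v₀ = v₀ + a := by
    rcases hPP v₀ with h | h
    · exact absurd ((hsm v₀).trans h) hv₀
    · exact (hsm v₀).trans h
  have c : Cfsg.Agent.Lib.Helper45.TvCtx (p ^ 2) a v₀ := by
    refine ⟨?_, ?_, hv₀', ?_⟩
    · rw [← pow_add]
      have : (2 + 2 : ℕ) = orderOf p := by rw [hpo]
      rw [this]; exact pow_orderOf_eq_one p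
    · intro v
      rw [hsm]; exact hPP v
    · intro h
      apply hv₀
      rw [hv₀', h, add_zero]
  exact Cfsg.Agent.Lib.Helper45.no_transvection_sq hO2 p hpo c

end Cfsg.Agent.S4410
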