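import Cfsg.Statements.S4412
import Cfsg.Agent.Lib.Helper73.InvolutionAct
import Cfsg.Agent.S0014

set_option autoImplicit false
set_option linter.style.haveILetI false
open Cfsg

namespace Cfsg.Agent.S4412

open Cfsg.Agent.Lib.Helper73

variable {P : Type*} [Group P]

/-- The fixed points of `T` form a cyclic subgroup. -/
abbrev Cyc (T : MulAut P) : Prop := ∃ g : P, ∀ x : P, (T x = x ↔ x ∈ Subgroup.zpowers g)

theorem finite_mulAut [Finite P] : Finite (MulAut P) :=
  Finite.of_injective (fun f : MulAut P => (f : P → P)) (fun _ _ h => MulEquiv.ext (congrFun h))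

theorem ncard_four_le {α : Type*} (a b c d : α) : ({a, b, c, d} : Set α).ncard ≤ 4 := by
  have h1 := Set.ncard_insert_le a ({b, c, d} : Set α)
  have h2 := Set.ncard_insert_le b ({c, d} : Set α)
  have h3 := Set.ncard_insert_le c ({d} : Set α)
  have h4 := Set.ncard_singleton d
  omega

theorem ncard_two_le {α : Type*} (a b : α) : ({a, b} : Set α).ncard ≤ 2 := by
  have h3 := Set.ncard_insert_le a ({b} : Set α)
  have h4 := Set.ncard_singleton b
  omega

theorem ncard_four {α : Type*} {a b c d : α} (hab : a ≠ b) (hac : a ≠ c) (had : a ≠ d)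
    (hbc : b ≠ c) (hbd : b ≠ d) (hcd : c ≠ d) : ({a, b, c, d} : Set α).ncard = 4 := by
  rw [Set.ncard_insert_of_notMem, Set.ncard_insert_of_notMem, Set.ncard_pair hcd]
  · simp [hbc, hbd]
  · simp [hab, hac, had]

theorem ncard_three {α : Type*} {b c d : α}
    (hbc : b ≠ c) (hbd : b ≠ d) (hcd : c ≠ d) : ({b, c, d} : Set α).ncard = 3 := by
  rw [Set.ncard_insert_of_notMem, Set.ncard_pair hcd]
  simp [hbc, hbd]

/-- Choice of a four-group of `I` without broad elements. -/
theorem select [Finite P] (I : Subgroup (MulAut P))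
    (hIc : ∀ S ∈ I, ∀ T ∈ I, S * T = T * S) (hI2 : ∀ T ∈ I, T * T = 1) (hI8 : Nat.card I = 8)
    (I₀ : Subgroup (MulAut P)) (hI₀ : I₀ ≤ I)
    (hdisj : ∀ T ∈ I₀, T ≠ 1 → Cyc T)
    (hprod : ∀ T ∈ I, ∀ T' ∈ I, T ≠ 1 → T' ≠ 1 → ¬ Cyc T → ¬ Cyc T' → T * T' ∈ I₀) :
    ∃ a ∈ I, ∃ b ∈ I, Cyc a ∧ Cyc b ∧ Cyc (a * b) := by
  classical
  haveI : Finite (MulAut P) := finite_mulAut
  have hIncard : (I : Set (MulAut P)).ncard = 8 := by
    rw [← Nat.card_coe_set_eq]; exact hI8
  have pick : ∀ s : Set (MulAut P), s.ncard < 8 → ∃ e ∈ I, e ∉ s := by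
    intro s hlt
    have h : s.ncard < (I : Set (MulAut P)).ncard := by rw [hIncard]; exact hlt
    obtain ⟨e, he, hes⟩ := Set.exists_mem_notMem_of_ncard_lt_ncard h (Set.toFinite s)
    exact ⟨e, he, hes⟩
  have inv_eq : ∀ T ∈ I, T⁻¹ = T := fun T hT => inv_eq_of_mul_eq_one_right (hI2 T hT)
  by_cases h1 : ∃ z ∈ I₀, ∃ z' ∈ I₀, z ≠ 1 ∧ z' ≠ 1 ∧ z ≠ z'
  · obtain ⟨z, hz, z', hz', hz1, hz'1, hne⟩ := h1
    refine ⟨z, hI₀ hz, z', hI₀ hz', hdisj z hz hz1, hdisj z' hz' hz'1,
      hdisj _ (I₀.mul_mem hz hz') ?_⟩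
    intro h
    apply hne
    rw [← inv_eq z' (hI₀ hz')]
    exact eq_inv_of_mul_eq_one_left h
  · push Not at h1
    by_cases h2 : ∃ T ∈ I, T ≠ 1 ∧ ¬ Cyc T
    · obtain ⟨T, hT, hT1, hTb⟩ := h2
      by_cases h3 : ∃ z ∈ I₀, z ≠ 1
      · obtain ⟨z, hz, hz1⟩ := h3
        have hzI := hI₀ hz
        have hbroad : ∀ T' ∈ I, T' ≠ 1 → ¬ Cyc T' → T' = T ∨ T' = T * z := by
          intro T' hT' hT'1 hT'b
          have h4 := hprod T hT T' hT' hT1 hT'1 hTb hT'b
          by_cases h5 : T * T' = 1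
          · left
            rw [← inv_eq T hT]
            exact eq_inv_of_mul_eq_one_right h5
          · right
            have h6 := h1 _ h4 z hz h5 hz1
            rw [← h6, ← mul_assoc, hI2 T hT, one_mul]
        obtain ⟨b, hb, hbs⟩ := pick {1, T, z, T * z}
          (lt_of_le_of_lt (ncard_four_le _ _ _ _) (by norm_num))
        have hb1 : b ≠ 1 := fun h => hbs (by rw [h]; simp)
        have hbT : b ≠ T := fun h => hbs (by rw [h]; simp)
        have hbz : b ≠ z := fun h => hbs (by rw [h]; simp)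
        have hbTz : b ≠ T * z := fun h => hbs (by rw [h]; simp)
        have hcb : Cyc b := by
          by_contra hcon
          rcases hbroad b hb hb1 hcon with h | h
          · exact hbT h
          · exact hbTz h
        have hzb1 : z * b ≠ 1 := by
          intro h
          apply hbz
          rw [← inv_eq z hzI]
          exact eq_inv_of_mul_eq_one_right h
        have hczb : Cyc (z * b) := by
          by_contra hcon
          rcases hbroad (z * b) (I.mul_mem hzI hb) hzb1 hcon with h | h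
          · apply hbTz
            have : b = z⁻¹ * T := by rw [← h, ← mul_assoc, inv_mul_cancel, one_mul]
            rw [this, inv_eq z hzI, hIc z hzI T hT]
          · apply hbT
            rw [hIc T hT z hzI] at h
            exact mul_left_cancel h
        exact ⟨z, hzI, b, hb, hdisj z hz hz1, hcb, hczb⟩
      · push Not at h3
        have hbroad : ∀ T' ∈ I, T' ≠ 1 → ¬ Cyc T' → T' = T := by
          intro T' hT' hT'1 hT'b
          have h4 := hprod T hT T' hT' hT1 hT'1 hTb hT'b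
          have h5 := h3 _ h4
          rw [← inv_eq T hT]
          exact eq_inv_of_mul_eq_one_right h5
        obtain ⟨a, ha, has⟩ := pick {1, T}
          (lt_of_le_of_lt (ncard_two_le _ _) (by norm_num))
        have ha1 : a ≠ 1 := fun h => has (by rw [h]; simp)
        have haT : a ≠ T := fun h => has (by rw [h]; simp)
        obtain ⟨b, hb, hbs⟩ := pick {1, T, a, T * a}
          (lt_of_le_of_lt (ncard_four_le _ _ _ _) (by norm_num))
        have hb1 : b ≠ 1 := fun h => hbs (by rw [h]; simp)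
        have hbT : b ≠ T := fun h => hbs (by rw [h]; simp)
        have hba : b ≠ a := fun h => hbs (by rw [h]; simp)
        have hbTa : b ≠ T * a := fun h => hbs (by rw [h]; simp)
        have hca : Cyc a := by
          by_contra hcon
          exact haT (hbroad a ha ha1 hcon)
        have hcb : Cyc b := by
          by_contra hcon
          exact hbT (hbroad b hb hb1 hcon)
        have hab1 : a * b ≠ 1 := by
          intro h
          apply hba
          rw [← inv_eq a ha]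
          exact eq_inv_of_mul_eq_one_right h
        have hcab : Cyc (a * b) := by
          by_contra hcon
          have h := hbroad (a * b) (I.mul_mem ha hb) hab1 hcon
          apply hbTa
          have : b = a⁻¹ * T := by rw [← h, ← mul_assoc, inv_mul_cancel, one_mul]
          rw [this, inv_eq a ha, hIc a ha T hT]
        exact ⟨a, ha, b, hb, hca, hcb, hcab⟩
    · push Not at h2
      obtain ⟨a, ha, has⟩ := pick {1} (by rw [Set.ncard_singleton]; norm_num)
      have ha1 : a ≠ 1 := fun h => has (by rw [h]; simp)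
      obtain ⟨b, hb, hbs⟩ := pick {1, a}
        (lt_of_le_of_lt (ncard_two_le _ _) (by norm_num))
      have hb1 : b ≠ 1 := fun h => hbs (by rw [h]; simp)
      have hba : b ≠ a := fun h => hbs (by rw [h]; simp)
      have hab1 : a * b ≠ 1 := by
        intro h
        apply hba
        rw [← inv_eq a ha]
        exact eq_inv_of_mul_eq_one_right h
      exact ⟨a, ha, b, hb, h2 a ha ha1, h2 b hb hb1, h2 _ (I.mul_mem ha hb) hab1⟩

/-- The subgroup of elements inverted by `T` in a commutative group. -/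
def invSub (hPc : ∀ x y : P, x * y = y * x) (T : MulAut P) : Subgroup P where
  carrier := {x | T x = x⁻¹}
  mul_mem' := by
    intro a b (ha : T a = a⁻¹) (hb : T b = b⁻¹)
    show T (a * b) = (a * b)⁻¹
    rw [map_mul, ha, hb, mul_inv_rev, hPc]
  one_mem' := by
    show T 1 = 1⁻¹
    rw [map_one, inv_one]
  inv_mem' := by
    intro a (ha : T a = a⁻¹)
    show T a⁻¹ = a⁻¹⁻¹
    rw [map_inv, ha]

theorem map_eq_inv_of_mem_zpowers (T : MulAut P) (g : P) (h : T g = g⁻¹) :
    ∀ x ∈ Subgroup.zpowers g, T x = x⁻¹ := by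
  intro x hx
  obtain ⟨k, rfl⟩ := Subgroup.mem_zpowers_iff.1 hx
  rw [map_zpow, h, inv_zpow]

theorem map_eq_of_mem_zpowers (T : MulAut P) (g : P) (h : T g = g) :
    ∀ x ∈ Subgroup.zpowers g, T x = x := by
  intro x hx
  obtain ⟨k, rfl⟩ := Subgroup.mem_zpowers_iff.1 hx
  rw [map_zpow, h]

set_option maxHeartbeats 1000000 in
theorem main [Finite P] (p : ℕ) (hp : p.Prime) (hp2 : p ≠ 2) (hP : IsPGroup p P)
    (I : Subgroup (MulAut P))
    (hIc : ∀ S ∈ I, ∀ T ∈ I, S * T = T * S) (hI2 : ∀ T ∈ I, T * T = 1) (hI8 : Nat.card I = 8)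
    (I₀ : Subgroup (MulAut P)) (hI₀ : I₀ < I)
    (hdisj : ∀ T ∈ I₀, T ≠ 1 → Cyc T)
    (hprod : ∀ T ∈ I, ∀ T' ∈ I, T ≠ 1 → T' ≠ 1 → ¬ Cyc T → ¬ Cyc T' → T * T' ∈ I₀)
    (a b : MulAut P) (ha : a ∈ I) (hb : b ∈ I) (ga gb gc : P)
    (hga : ∀ x, a x = x ↔ x ∈ Subgroup.zpowers ga)
    (hgb : ∀ x, b x = x ↔ x ∈ Subgroup.zpowers gb)
    (hgc : ∀ x, (a * b) x = x ↔ x ∈ Subgroup.zpowers gc) :
    IsMulCommutative P ∧ (∃ a b c : P, Subgroup.closure {a, b, c} = ⊤) ∧
      (¬ ∃ a b : P, Subgroup.closure {a, b} = ⊤) ∧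
      Nat.card {T : MulAut P // T ∈ I ∧ T ≠ 1 ∧ ¬ Cyc T} = 3 ∧
      Subgroup.closure {T : MulAut P | T ∈ I ∧ T ≠ 1 ∧ ¬ Cyc T} = I ∧
      (I₀ : Set (MulAut P)) = {S : MulAut P | ∃ T T' : MulAut P, T ∈ I ∧ T' ∈ I ∧ T ≠ 1 ∧ T' ≠ 1 ∧
        (¬ Cyc T) ∧ (¬ Cyc T') ∧ S = T * T'} := by
  classical
  haveI : Fact p.Prime := ⟨hp⟩
  haveI hfin : Finite (MulAut P) := finite_mulAut
  have hodd : Odd (Nat.card P) := by
    obtain ⟨n, hn⟩ := IsPGroup.iff_card.1 hP
    rw [hn]; exact Odd.pow (hp.odd_of_ne_two hp2)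
  have hne_inv : ∀ x : P, x = x⁻¹ → x = 1 := fun x h => eq_one_of_eq_inv_of_odd hodd h
  have hinvol : ∀ T ∈ I, ∀ x, T (T x) = x := by
    intro T hT x
    have h := hI2 T hT
    calc T (T x) = (T * T) x := rfl
      _ = x := by rw [h]; rfl
  have hcomm : ∀ S ∈ I, ∀ T ∈ I, ∀ x, S (T x) = T (S x) := by
    intro S hS T hT x
    have h := hIc S hS T hT
    calc S (T x) = (S * T) x := rfl
      _ = (T * S) x := by rw [h]
      _ = T (S x) := rfl
  have inv_eq : ∀ T ∈ I, T⁻¹ = T := fun T hT => inv_eq_of_mul_eq_one_right (hI2 T hT)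
  have hab : a * b ∈ I := I.mul_mem ha hb
  -- generation
  have hgen : Subgroup.zpowers ga ⊔ Subgroup.zpowers gb ⊔ Subgroup.zpowers gc = ⊤ := by
    have h := gen_fix hodd a b (hI2 a ha) (hI2 b hb) (hIc a ha b hb)
    have e1 : fixSub a = Subgroup.zpowers ga := by ext x; exact hga x
    have e2 : fixSub b = Subgroup.zpowers gb := by ext x; exact hgb x
    have e3 : fixSub (a * b) = Subgroup.zpowers gc := by ext x; exact hgc x
    rwa [e1, e2, e3] at h
  have haga : a ga = ga := (hga ga).2 (Subgroup.mem_zpowers ga)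
  have hbgb : b gb = gb := (hgb gb).2 (Subgroup.mem_zpowers gb)
  have hcgc : (a * b) gc = gc := (hgc gc).2 (Subgroup.mem_zpowers gc)
  -- every element of `I` fixes or inverts each generator
  have hpma : ∀ T ∈ I, T ga = ga ∨ T ga = ga⁻¹ := by
    intro T hT
    refine fix_or_inv hp hp2 hP T (hinvol T hT) ga ?_
    rw [← hga, hcomm a ha T hT, haga]
  have hpmb : ∀ T ∈ I, T gb = gb ∨ T gb = gb⁻¹ := by
    intro T hT
    refine fix_or_inv hp hp2 hP T (hinvol T hT) gb ?_
    rw [← hgb, hcomm b hb T hT, hbgb]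
  have hpmc : ∀ T ∈ I, T gc = gc ∨ T gc = gc⁻¹ := by
    intro T hT
    refine fix_or_inv hp hp2 hP T (hinvol T hT) gc ?_
    rw [← hgc, hcomm (a * b) hab T hT, hcgc]
  -- an element of `I` fixing the three generators is trivial
  have htriv : ∀ T ∈ I, T ga = ga → T gb = gb → T gc = gc → T = 1 := by
    intro T _ h1 h2 h3
    have hle : Subgroup.zpowers ga ⊔ Subgroup.zpowers gb ⊔ Subgroup.zpowers gc ≤ fixSub T := by
      refine sup_le (sup_le ?_ ?_) ?_
      · rw [Subgroup.zpowers_le]; exact h1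
      · rw [Subgroup.zpowers_le]; exact h2
      · rw [Subgroup.zpowers_le]; exact h3
    rw [hgen] at hle
    apply MulEquiv.ext
    intro x
    exact hle (Subgroup.mem_top x)
  have hcoord : ∀ T ∈ I, ∀ T' ∈ I, ∀ g : P, (T g = g ∨ T g = g⁻¹) → (T' g = g ∨ T' g = g⁻¹) →
      (T g = g ↔ T' g = g) → T (T' g) = g := by
    intro T _ T' _ g h1 h2 hiff
    by_cases h : T' g = g
    · rw [h]; exact hiff.2 h
    · have h3 : T' g = g⁻¹ := h2.resolve_left h
      have h4 : T g = g⁻¹ := h1.resolve_left (fun h' => h (hiff.1 h'))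
      rw [h3, map_inv, h4, inv_inv]
  -- the pattern map
  obtain ⟨pat, hpat⟩ : ∃ pat : I → Bool × Bool × Bool, ∀ T : I,
      pat T = (decide ((T : MulAut P) ga = ga), decide ((T : MulAut P) gb = gb),
        decide ((T : MulAut P) gc = gc)) := ⟨_, fun _ => rfl⟩
  have hinj : Function.Injective pat := by
    rintro ⟨T, hT⟩ ⟨T', hT'⟩ h
    rw [hpat, hpat] at h
    simp only [Prod.mk.injEq, decide_eq_decide] at h
    obtain ⟨h1, h2, h3⟩ := h
    have h4 : T * T' = 1 := by
      apply htriv _ (I.mul_mem hT hT')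
      · exact hcoord T hT T' hT' ga (hpma T hT) (hpma T' hT') h1
      · exact hcoord T hT T' hT' gb (hpmb T hT) (hpmb T' hT') h2
      · exact hcoord T hT T' hT' gc (hpmc T hT) (hpmc T' hT') h3
    apply Subtype.ext
    show T = T'
    rw [← inv_eq T' hT']
    exact eq_inv_of_mul_eq_one_left h4
  have hbij : Function.Bijective pat :=
    hinj.bijective_of_nat_card_le (by rw [hI8]; simp)
  obtain ⟨⟨T₁, hT₁⟩, h1⟩ := hbij.2 (false, true, true)
  obtain ⟨⟨T₂, hT₂⟩, h2⟩ := hbij.2 (true, false, true)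
  obtain ⟨⟨T₃, hT₃⟩, h3⟩ := hbij.2 (true, true, false)
  rw [hpat] at h1 h2 h3
  simp only [Prod.mk.injEq, decide_eq_false_iff_not, decide_eq_true_eq] at h1 h2 h3
  obtain ⟨h1a, h1b, h1c⟩ := h1
  obtain ⟨h2a, h2b, h2c⟩ := h2
  obtain ⟨h3a, h3b, h3c⟩ := h3
  have h1a' : T₁ ga = ga⁻¹ := (hpma T₁ hT₁).resolve_left h1a
  have h2b' : T₂ gb = gb⁻¹ := (hpmb T₂ hT₂).resolve_left h2b
  have h3c' : T₃ gc = gc⁻¹ := (hpmc T₃ hT₃).resolve_left h3c
  have hga1 : ga ≠ 1 := by
    intro h; apply h1a; rw [h, map_one]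
  have hgb1 : gb ≠ 1 := by
    intro h; apply h2b; rw [h, map_one]
  have hgc1 : gc ≠ 1 := by
    intro h; apply h3c; rw [h, map_one]
  have hT₁1 : T₁ ≠ 1 := by
    intro h; apply h1a; rw [h]; rfl
  have hT₂1 : T₂ ≠ 1 := by
    intro h; apply h2b; rw [h]; rfl
  have hT₃1 : T₃ ≠ 1 := by
    intro h; apply h3c; rw [h]; rfl
  have hT₁₂ : T₁ ≠ T₂ := by
    intro h; apply h1a; rw [h]; exact h2a
  have hT₁₃ : T₁ ≠ T₃ := by
    intro h; apply h1a; rw [h]; exact h3a
  have hT₂₃ : T₂ ≠ T₃ := by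
    intro h; apply h2b; rw [h]; exact h3b
  -- commutativity of the generators
  have hcab : ga * gb = gb * ga := by
    refine comm_of_fpf (a * b) (hinvol _ hab) (fixSub T₃) ?_ ?_ ga h3a gb h3b
    · intro x hx
      rw [mem_fixSub] at hx ⊢
      rw [hcomm T₃ hT₃ (a * b) hab, hx]
    · intro x hx hx2
      rw [mem_fixSub] at hx
      have h4 := map_eq_inv_of_mem_zpowers T₃ gc h3c' x ((hgc x).1 hx2)
      rw [hx] at h4
      exact hne_inv x h4
  have hcac : ga * gc = gc * ga := by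
    refine comm_of_fpf b (hinvol _ hb) (fixSub T₂) ?_ ?_ ga h2a gc h2c
    · intro x hx
      rw [mem_fixSub] at hx ⊢
      rw [hcomm T₂ hT₂ b hb, hx]
    · intro x hx hx2
      rw [mem_fixSub] at hx
      have h4 := map_eq_inv_of_mem_zpowers T₂ gb h2b' x ((hgb x).1 hx2)
      rw [hx] at h4
      exact hne_inv x h4
  have hcbc : gb * gc = gc * gb := by
    refine comm_of_fpf a (hinvol _ ha) (fixSub T₁) ?_ ?_ gb h1b gc h1c
    · intro x hx
      rw [mem_fixSub] at hx ⊢
      rw [hcomm T₁ hT₁ a ha, hx]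
    · intro x hx hx2
      rw [mem_fixSub] at hx
      have h4 := map_eq_inv_of_mem_zpowers T₁ ga h1a' x ((hga x).1 hx2)
      rw [hx] at h4
      exact hne_inv x h4
  -- commutativity of `P`
  have hcent : ∀ g : P, g ∈ ({ga, gb, gc} : Set P) → ∀ x : P, g * x = x * g := by
    intro g hg x
    have hle : Subgroup.zpowers ga ⊔ Subgroup.zpowers gb ⊔ Subgroup.zpowers gc ≤
        Subgroup.centralizer {g} := by
      have hmem : ∀ y : P, g * y = y * g → Subgroup.zpowers y ≤ Subgroup.centralizer {g} := by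
        intro y hy
        rw [Subgroup.zpowers_le, Subgroup.mem_centralizer_iff]
        intro h hh
        rw [Set.mem_singleton_iff] at hh
        rw [hh]; exact hy
      simp only [Set.mem_insert_iff, Set.mem_singleton_iff] at hg
      rcases hg with rfl | rfl | rfl
      · exact sup_le (sup_le (hmem _ rfl) (hmem _ hcab)) (hmem _ hcac)
      · exact sup_le (sup_le (hmem _ hcab.symm) (hmem _ rfl)) (hmem _ hcbc)
      · exact sup_le (sup_le (hmem _ hcac.symm) (hmem _ hcbc.symm)) (hmem _ rfl)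
    rw [hgen] at hle
    have := Subgroup.mem_centralizer_iff.1 (hle (Subgroup.mem_top x)) g (Set.mem_singleton g)
    exact this
  have hPc : ∀ x y : P, x * y = y * x := by
    intro x y
    have hle : Subgroup.zpowers ga ⊔ Subgroup.zpowers gb ⊔ Subgroup.zpowers gc ≤
        Subgroup.center P := by
      refine sup_le (sup_le ?_ ?_) ?_
      · rw [Subgroup.zpowers_le, Subgroup.mem_center_iff]
        intro g; exact (hcent ga (by simp) g).symm
      · rw [Subgroup.zpowers_le, Subgroup.mem_center_iff]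
        intro g; exact (hcent gb (by simp) g).symm
      · rw [Subgroup.zpowers_le, Subgroup.mem_center_iff]
        intro g; exact (hcent gc (by simp) g).symm
    rw [hgen] at hle
    exact (Subgroup.mem_center_iff.1 (hle (Subgroup.mem_top y)) x)
  -- closure of the generators
  have hclos : Subgroup.closure ({ga, gb, gc} : Set P) = ⊤ := by
    rw [eq_top_iff, ← hgen]
    refine sup_le (sup_le ?_ ?_) ?_
    · rw [Subgroup.zpowers_le]; exact Subgroup.subset_closure (by simp)
    · rw [Subgroup.zpowers_le]; exact Subgroup.subset_closure (by simp)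
    · rw [Subgroup.zpowers_le]; exact Subgroup.subset_closure (by simp)
  have hgab : ga ≠ gb := by
    intro h; apply h1a; rw [h]; exact h1b
  have hgac : ga ≠ gc := by
    intro h; apply h1a; rw [h]; exact h1c
  have hgbc : gb ≠ gc := by
    intro h; apply h2b; rw [h]; exact h2c
  -- the T_i are broad
  have hbr1 : ¬ Cyc T₁ := by
    rintro ⟨g, hg⟩
    have h4 : T₃ g ∈ Subgroup.zpowers g := by
      rw [← hg, hcomm T₁ hT₁ T₃ hT₃, (hg g).2 (Subgroup.mem_zpowers g)]
    have hgb' : gb ∈ Subgroup.zpowers g := (hg gb).1 h1b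
    have hgc' : gc ∈ Subgroup.zpowers g := (hg gc).1 h1c
    rcases fix_or_inv hp hp2 hP T₃ (hinvol T₃ hT₃) g h4 with h | h
    · exact h3c (map_eq_of_mem_zpowers T₃ g h gc hgc')
    · have h5 := map_eq_inv_of_mem_zpowers T₃ g h gb hgb'
      rw [h3b] at h5
      exact hgb1 (hne_inv gb h5)
  have hbr2 : ¬ Cyc T₂ := by
    rintro ⟨g, hg⟩
    have h4 : T₃ g ∈ Subgroup.zpowers g := by
      rw [← hg, hcomm T₂ hT₂ T₃ hT₃, (hg g).2 (Subgroup.mem_zpowers g)]
    have hga' : ga ∈ Subgroup.zpowers g := (hg ga).1 h2a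
    have hgc' : gc ∈ Subgroup.zpowers g := (hg gc).1 h2c
    rcases fix_or_inv hp hp2 hP T₃ (hinvol T₃ hT₃) g h4 with h | h
    · exact h3c (map_eq_of_mem_zpowers T₃ g h gc hgc')
    · have h5 := map_eq_inv_of_mem_zpowers T₃ g h ga hga'
      rw [h3a] at h5
      exact hga1 (hne_inv ga h5)
  have hbr3 : ¬ Cyc T₃ := by
    rintro ⟨g, hg⟩
    have h4 : T₁ g ∈ Subgroup.zpowers g := by
      rw [← hg, hcomm T₃ hT₃ T₁ hT₁, (hg g).2 (Subgroup.mem_zpowers g)]
    have hga' : ga ∈ Subgroup.zpowers g := (hg ga).1 h3a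
    have hgb' : gb ∈ Subgroup.zpowers g := (hg gb).1 h3b
    rcases fix_or_inv hp hp2 hP T₁ (hinvol T₁ hT₁) g h4 with h | h
    · exact h1a (map_eq_of_mem_zpowers T₁ g h ga hga')
    · have h5 := map_eq_inv_of_mem_zpowers T₁ g h gb hgb'
      rw [h1b] at h5
      exact hgb1 (hne_inv gb h5)
  -- the structure of `I₀`
  have h12 : T₁ * T₂ ∈ I₀ := hprod T₁ hT₁ T₂ hT₂ hT₁1 hT₂1 hbr1 hbr2
  have h13 : T₁ * T₃ ∈ I₀ := hprod T₁ hT₁ T₃ hT₃ hT₁1 hT₃1 hbr1 hbr3
  have h23 : T₂ * T₃ ∈ I₀ := hprod T₂ hT₂ T₃ hT₃ hT₂1 hT₃1 hbr2 hbr3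
  have hmul_ne_one : ∀ S ∈ I, ∀ T ∈ I, S ≠ T → S * T ≠ 1 := by
    intro S _ T hT hne h
    apply hne
    rw [← inv_eq T hT]
    exact eq_inv_of_mul_eq_one_left h
  have hJcard : ({1, T₁ * T₂, T₁ * T₃, T₂ * T₃} : Set (MulAut P)).ncard = 4 := by
    apply ncard_four
    · exact (hmul_ne_one T₁ hT₁ T₂ hT₂ hT₁₂).symm
    · exact (hmul_ne_one T₁ hT₁ T₃ hT₃ hT₁₃).symm
    · exact (hmul_ne_one T₂ hT₂ T₃ hT₃ hT₂₃).symm
    · intro h; exact hT₂₃ (mul_left_cancel h)
    · intro h
      rw [hIc T₁ hT₁ T₂ hT₂] at h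
      exact hT₁₃ (mul_left_cancel h)
    · intro h; exact hT₁₂ (mul_right_cancel h)
  have hJsub : ({1, T₁ * T₂, T₁ * T₃, T₂ * T₃} : Set (MulAut P)) ⊆ (I₀ : Set (MulAut P)) := by
    intro S hS
    simp only [Set.mem_insert_iff, Set.mem_singleton_iff] at hS
    rcases hS with rfl | rfl | rfl | rfl
    · exact I₀.one_mem
    · exact h12
    · exact h13
    · exact h23
  have hI₀card : Nat.card I₀ ≤ 4 := by
    have hdvd : Nat.card I₀ ∣ 8 := hI8 ▸ Subgroup.card_dvd_of_le hI₀.le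
    have hne8 : Nat.card I₀ ≠ 8 := by
      intro h
      exact hI₀.ne (Subgroup.eq_of_le_of_card_ge hI₀.le (by rw [h, hI8]))
    have h8 : (8 : ℕ) = 2 ^ 3 := by norm_num
    rw [h8] at hdvd
    obtain ⟨m, hm, hd⟩ := (Nat.dvd_prime_pow Nat.prime_two).1 hdvd
    rw [hd] at hne8 ⊢
    interval_cases m
    · norm_num
    · norm_num
    · norm_num
    · exact absurd (by norm_num) hne8
  have hI₀eq : ({1, T₁ * T₂, T₁ * T₃, T₂ * T₃} : Set (MulAut P)) = (I₀ : Set (MulAut P)) := by
    apply Set.eq_of_subset_of_ncard_le hJsub _ (Set.toFinite _)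
    rw [hJcard, ← Nat.card_coe_set_eq]
    exact hI₀card
  have hI₀card4 : Nat.card I₀ = 4 := by
    have : Nat.card I₀ = (I₀ : Set (MulAut P)).ncard := Nat.card_coe_set_eq _
    rw [this, ← hI₀eq, hJcard]
  -- the element inverting everything
  have hT7 : Cyc (T₂ * T₃ * T₁) := by
    refine ⟨1, fun x => ?_⟩
    have hle : Subgroup.zpowers ga ⊔ Subgroup.zpowers gb ⊔ Subgroup.zpowers gc ≤
        invSub hPc (T₂ * T₃ * T₁) := by
      refine sup_le (sup_le ?_ ?_) ?_
      · rw [Subgroup.zpowers_le]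
        show T₂ (T₃ (T₁ ga)) = ga⁻¹
        rw [h1a', map_inv, map_inv, h3a, h2a]
      · rw [Subgroup.zpowers_le]
        show T₂ (T₃ (T₁ gb)) = gb⁻¹
        rw [h1b, h3b, h2b']
      · rw [Subgroup.zpowers_le]
        show T₂ (T₃ (T₁ gc)) = gc⁻¹
        rw [h1c, h3c', map_inv, h2c]
    rw [hgen] at hle
    have hx : (T₂ * T₃ * T₁) x = x⁻¹ := hle (Subgroup.mem_top x)
    rw [Subgroup.zpowers_one_eq_bot, Subgroup.mem_bot]
    constructor
    · intro h
      rw [hx] at h
      exact hne_inv x h.symm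
    · intro h
      rw [h, map_one]
  -- classification of the broad elements
  have hbroad : ∀ T ∈ I, T ≠ 1 → ¬ Cyc T → T = T₁ ∨ T = T₂ ∨ T = T₃ := by
    intro T hT hT1 hTb
    have h4 : T * T₁ ∈ (I₀ : Set (MulAut P)) := hprod T hT T₁ hT₁ hT1 hT₁1 hTb hbr1
    rw [← hI₀eq] at h4
    simp only [Set.mem_insert_iff, Set.mem_singleton_iff] at h4
    rcases h4 with h | h | h | h
    · left
      rw [← inv_eq T₁ hT₁]
      exact eq_inv_of_mul_eq_one_left h
    · right; left
      rw [hIc T₁ hT₁ T₂ hT₂] at h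
      exact mul_right_cancel h
    · right; right
      rw [hIc T₁ hT₁ T₃ hT₃] at h
      exact mul_right_cancel h
    · exfalso
      apply hTb
      have : T = T₂ * T₃ * T₁ := by
        have h5 : T = T₂ * T₃ * T₁⁻¹ := eq_mul_inv_of_mul_eq h
        rw [h5, inv_eq T₁ hT₁]
      rw [this]
      exact hT7
  have hset : {T : MulAut P | T ∈ I ∧ T ≠ 1 ∧ ¬ Cyc T} = {T₁, T₂, T₃} := by
    ext T
    simp only [Set.mem_ofPred_eq, Set.mem_insert_iff, Set.mem_singleton_iff]
    constructor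
    · rintro ⟨hT, hT1, hTb⟩
      exact hbroad T hT hT1 hTb
    · rintro (rfl | rfl | rfl)
      · exact ⟨hT₁, hT₁1, hbr1⟩
      · exact ⟨hT₂, hT₂1, hbr2⟩
      · exact ⟨hT₃, hT₃1, hbr3⟩
  refine ⟨⟨⟨hPc⟩⟩, ⟨ga, gb, gc, hclos⟩, ?_, ?_, ?_, ?_⟩
  · -- not generated by two elements
    rintro ⟨u, v, huv⟩
    obtain ⟨n, hn⟩ : ∃ n, (frattini P).index = p ^ n := by
      obtain ⟨k, hk⟩ := IsPGroup.iff_card.1 hP
      have : (frattini P).index ∣ p ^ k := hk ▸ Subgroup.index_dvd_card _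
      obtain ⟨n, -, hn⟩ := (Nat.dvd_prime_pow hp).1 this
      exact ⟨n, hn⟩
    obtain ⟨hS1, hS2⟩ := Cfsg.Agent.S0014.result p n hP hn
    have h3n : 3 ≤ n := by
      obtain ⟨T, hTS, hTcard, hTclos⟩ := hS1 {ga, gb, gc} (by
        rw [Finset.coe_insert, Finset.coe_insert, Finset.coe_singleton]; exact hclos)
      have hmemT : ∀ (S : MulAut P) (g : P), S g ≠ g →
          (∀ g' ∈ ({ga, gb, gc} : Finset P), g' ≠ g → S g' = g') → g ∈ T := by
        intro S g hSg hS'
        by_contra hgT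
        have hle : Subgroup.closure (T : Set P) ≤ fixSub S := by
          rw [Subgroup.closure_le]
          intro g' hg'
          have hg'T : g' ∈ T := hg'
          exact hS' g' (hTS hg'T) (fun h => hgT (h ▸ hg'T))
        rw [hTclos] at hle
        exact hSg (hle (Subgroup.mem_top g))
      have hgaT : ga ∈ T := by
        apply hmemT T₁ ga h1a
        intro g' hg' hne
        simp only [Finset.mem_insert, Finset.mem_singleton] at hg'
        rcases hg' with rfl | rfl | rfl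
        · exact absurd rfl hne
        · exact h1b
        · exact h1c
      have hgbT : gb ∈ T := by
        apply hmemT T₂ gb h2b
        intro g' hg' hne
        simp only [Finset.mem_insert, Finset.mem_singleton] at hg'
        rcases hg' with rfl | rfl | rfl
        · exact h2a
        · exact absurd rfl hne
        · exact h2c
      have hgcT : gc ∈ T := by
        apply hmemT T₃ gc h3c
        intro g' hg' hne
        simp only [Finset.mem_insert, Finset.mem_singleton] at hg'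
        rcases hg' with rfl | rfl | rfl
        · exact h3a
        · exact h3b
        · exact absurd rfl hne
      have hsub : ({ga, gb, gc} : Finset P) ⊆ T := by
        intro g hg
        simp only [Finset.mem_insert, Finset.mem_singleton] at hg
        rcases hg with rfl | rfl | rfl
        · exact hgaT
        · exact hgbT
        · exact hgcT
      have hc3 : ({ga, gb, gc} : Finset P).card = 3 := by
        rw [Finset.card_insert_of_notMem, Finset.card_insert_of_notMem, Finset.card_singleton]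
        · simp [hgbc]
        · simp [hgab, hgac]
      rw [← hTcard, ← hc3]
      exact Finset.card_le_card hsub
    have h2 := hS2 {u, v} (by
      rw [Finset.coe_insert, Finset.coe_singleton]; exact huv)
    have h3 : ({u, v} : Finset P).card ≤ 2 := Finset.card_le_two
    omega
  · -- exactly three broad elements
    show Nat.card ↥{T : MulAut P | T ∈ I ∧ T ≠ 1 ∧ ¬ Cyc T} = 3
    rw [hset, Nat.card_coe_set_eq]
    exact ncard_three hT₁₂ hT₁₃ hT₂₃
  · -- they generate `I`
    rw [hset]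
    have hKI : Subgroup.closure ({T₁, T₂, T₃} : Set (MulAut P)) ≤ I := by
      rw [Subgroup.closure_le]
      intro T hT
      simp only [Set.mem_insert_iff, Set.mem_singleton_iff] at hT
      rcases hT with rfl | rfl | rfl
      · exact hT₁
      · exact hT₂
      · exact hT₃
    have hK1 : T₁ ∈ Subgroup.closure ({T₁, T₂, T₃} : Set (MulAut P)) :=
      Subgroup.subset_closure (by simp)
    have hK2 : T₂ ∈ Subgroup.closure ({T₁, T₂, T₃} : Set (MulAut P)) :=
      Subgroup.subset_closure (by simp)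
    have hK3 : T₃ ∈ Subgroup.closure ({T₁, T₂, T₃} : Set (MulAut P)) :=
      Subgroup.subset_closure (by simp)
    have hI₀K : I₀ ≤ Subgroup.closure ({T₁, T₂, T₃} : Set (MulAut P)) := by
      intro S hS
      have hS' : S ∈ (I₀ : Set (MulAut P)) := hS
      rw [← hI₀eq] at hS'
      simp only [Set.mem_insert_iff, Set.mem_singleton_iff] at hS'
      rcases hS' with rfl | rfl | rfl | rfl
      · exact Subgroup.one_mem _
      · exact Subgroup.mul_mem _ hK1 hK2
      · exact Subgroup.mul_mem _ hK1 hK3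
      · exact Subgroup.mul_mem _ hK2 hK3
    have hT₁I₀ : T₁ ∉ I₀ := fun h => hbr1 (hdisj T₁ h hT₁1)
    have hd1 : 4 ∣ Nat.card (Subgroup.closure ({T₁, T₂, T₃} : Set (MulAut P))) :=
      hI₀card4 ▸ Subgroup.card_dvd_of_le hI₀K
    have hd2 : Nat.card (Subgroup.closure ({T₁, T₂, T₃} : Set (MulAut P))) ∣ 8 :=
      hI8 ▸ Subgroup.card_dvd_of_le hKI
    have hne4 : Nat.card (Subgroup.closure ({T₁, T₂, T₃} : Set (MulAut P))) ≠ 4 := by
      intro h
      have := Subgroup.eq_of_le_of_card_ge hI₀K (by rw [h, hI₀card4])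
      exact hT₁I₀ (this ▸ hK1)
    have h8 : Nat.card (Subgroup.closure ({T₁, T₂, T₃} : Set (MulAut P))) = 8 := by
      have hpos : 0 < Nat.card (Subgroup.closure ({T₁, T₂, T₃} : Set (MulAut P))) := Nat.card_pos
      obtain ⟨k, hk⟩ := hd1
      have hk2 : k ∣ 2 := by
        rw [hk] at hd2
        exact Nat.dvd_of_mul_dvd_mul_left (by norm_num : 0 < 4) hd2
      have hkle : k ≤ 2 := Nat.le_of_dvd (by norm_num) hk2
      omega
    exact Subgroup.eq_of_le_of_card_ge hKI (by rw [h8, hI8])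
  · -- `I₀` is the set of products of two broad elements
    ext S
    constructor
    · intro hS
      rw [← hI₀eq] at hS
      simp only [Set.mem_insert_iff, Set.mem_singleton_iff] at hS
      rcases hS with rfl | rfl | rfl | rfl
      · exact ⟨T₁, T₁, hT₁, hT₁, hT₁1, hT₁1, hbr1, hbr1, (hI2 T₁ hT₁).symm⟩
      · exact ⟨T₁, T₂, hT₁, hT₂, hT₁1, hT₂1, hbr1, hbr2, rfl⟩
      · exact ⟨T₁, T₃, hT₁, hT₃, hT₁1, hT₃1, hbr1, hbr3, rfl⟩
      · exact ⟨T₂, T₃, hT₂, hT₃, hT₂1, hT₃1, hbr2, hbr3, rfl⟩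
    · rintro ⟨T, T', hT, hT', hT1, hT'1, hTb, hT'b, rfl⟩
      exact hprod T hT T' hT' hT1 hT'1 hTb hT'b


/-- Let p be an odd prime, P a finite p-group and I an elementary abelian subgroup of order 8 of Aut(P). Call T ∈ I, T ≠ 1, broad when its fixed-point subgroup C_P(T) is not cyclic. Suppose I has a proper subgroup I₀ containing no broad element such that the product of any two broad elements lies in I₀. Then P is abelian of rank exactly 3 (generated by three elements but not by two), there are exactly three broad elements and they generate I, and I₀ is exactly the set of products of two broad elements. -/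
theorem result
    {P : Type*} [Group P] [Finite P] (p : ℕ) (hp : p.Prime) (hp2 : p ≠ 2) (hP : IsPGroup p P)
    (I : Subgroup (MulAut P)) (hI : Cfsg.IsElementaryAbelian 2 I) (hI8 : Nat.card ↥I = 8)
    (I₀ : Subgroup (MulAut P)) (hI₀ : I₀ < I)
    (hdisj : ∀ T ∈ I₀, T ≠ 1 → ∃ g : P, ∀ x : P, (T x = x ↔ x ∈ Subgroup.zpowers g))
    (hprod : ∀ T ∈ I, ∀ T' ∈ I, T ≠ 1 → T' ≠ 1 → (¬ ∃ g : P, ∀ x : P, (T x = x ↔ x ∈ Subgroup.zpowers g)) →
      (¬ ∃ g : P, ∀ x : P, (T' x = x ↔ x ∈ Subgroup.zpowers g)) → T * T' ∈ I₀) :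
    IsMulCommutative P ∧ (∃ a b c : P, Subgroup.closure {a, b, c} = ⊤) ∧ (¬ ∃ a b : P, Subgroup.closure {a, b} = ⊤) ∧
      Nat.card {T : MulAut P // T ∈ I ∧ T ≠ 1 ∧ ¬ ∃ g : P, ∀ x : P, (T x = x ↔ x ∈ Subgroup.zpowers g)} = 3 ∧
      Subgroup.closure {T : MulAut P | T ∈ I ∧ T ≠ 1 ∧ ¬ ∃ g : P, ∀ x : P, (T x = x ↔ x ∈ Subgroup.zpowers g)} = I ∧
      (I₀ : Set (MulAut P)) = {S : MulAut P | ∃ T T' : MulAut P, T ∈ I ∧ T' ∈ I ∧ T ≠ 1 ∧ T' ≠ 1 ∧
        (¬ ∃ g : P, ∀ x : P, (T x = x ↔ x ∈ Subgroup.zpowers g)) ∧ (¬ ∃ g : P, ∀ x : P, (T' x = x ↔ x ∈ Subgroup.zpowers g)) ∧ S = T * T'} := by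
  have hIc : ∀ S ∈ I, ∀ T ∈ I, S * T = T * S := by
    intro S hS T hT
    have h := hI.1.is_comm.comm ⟨S, hS⟩ ⟨T, hT⟩
    exact congrArg Subtype.val h
  have hI2 : ∀ T ∈ I, T * T = 1 := by
    intro T hT
    have h := hI.2 T hT
    rwa [pow_two] at h
  obtain ⟨a, ha, b, hb, ⟨ga, hga⟩, ⟨gb, hgb⟩, ⟨gc, hgc⟩⟩ :=
    select I hIc hI2 hI8 I₀ hI₀.le hdisj hprod
  exact main p hp hp2 hP I hIc hI2 hI8 I₀ hI₀ hdisj hprod a b ha hb ga gb gc hga hgb hgc

end Cfsg.Agent.S4412
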