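import Cfsg.Statements.S4420

set_option autoImplicit false
open Cfsg

namespace Cfsg.Agent.S4420

variable {H : Type*} [Group H]

/-- an element outside `A` inverts `A`. -/
theorem inverts (A : Subgroup H) (hD : ∀ x : H, x ∉ A → x ^ 2 = 1) (u : H) (hu : u ∉ A)
    (a : H) (ha : a ∈ A) : u * a * u⁻¹ = a⁻¹ := by
  have hua : u * a ∉ A := fun h => hu (by simpa using A.mul_mem h (A.inv_mem ha))
  have h1 := hD _ hua
  have h2 := hD _ hu
  have hui : u⁻¹ = u := by
    rw [inv_eq_iff_mul_eq_one, ← pow_two, h2]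
  rw [hui]
  rw [pow_two] at h1
  calc u * a * u = (u * a * (u * a)) * a⁻¹ := by group
    _ = a⁻¹ := by rw [h1, one_mul]

theorem elementary_case [Finite H] [Nontrivial H] (hsq : ∀ x : H, x ^ 2 = 1) :
    ∃ B : Subgroup H, B.index = 2 := by
  have hp : IsPGroup 2 H := fun g => ⟨1, by simpa using hsq g⟩
  obtain ⟨n, hn⟩ := IsPGroup.iff_card.1 hp
  have hn0 : n ≠ 0 := by
    rintro rfl
    have : 1 < Nat.card H := Finite.one_lt_card
    omega
  obtain ⟨k, rfl⟩ := Nat.exists_eq_succ_of_ne_zero hn0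
  have : Fact (Nat.Prime 2) := ⟨Nat.prime_two⟩
  obtain ⟨B, hB⟩ := Sylow.exists_subgroup_card_pow_prime (G := H) 2 (n := k)
    (by rw [hn]; exact pow_dvd_pow 2 (Nat.le_succ k))
  refine ⟨B, ?_⟩
  have h := B.card_mul_index
  rw [hB, hn, pow_succ] at h
  exact Nat.eq_of_mul_eq_mul_left (pow_pos (by norm_num) k) h

theorem comm_of_sq (hsq : ∀ x : H, x ^ 2 = 1) (a b : H) : a * b = b * a := by
  have inv_eq : ∀ x : H, x⁻¹ = x := fun x => by
    rw [inv_eq_iff_mul_eq_one, ← pow_two]; exact hsq x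
  calc a * b = (a * b)⁻¹ := (inv_eq _).symm
    _ = b⁻¹ * a⁻¹ := mul_inv_rev a b
    _ = b * a := by rw [inv_eq, inv_eq]

/-- Structure of groups in which every element outside some proper subgroup has square 1. Let H be a finite group with a proper subgroup A such that every element outside A has square 1. Then H has an abelian normal subgroup B of index 2 such that every element outside B is an involution inverting every element of B; and if H is not an elementary abelian 2-group, B is the only abelian normal subgroup of index 2 with this property. -/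
theorem result {H : Type*} [Group H] [Finite H] (A : Subgroup H) (hA : A ≠ ⊤) (hD : ∀ x : H, x ∉ A → x ^ 2 = 1) :
    ∃ B : Subgroup H, B.Normal ∧ IsMulCommutative ↥B ∧ B.index = 2 ∧
      (∀ x : H, x ∉ B → x ^ 2 = 1 ∧ ∀ b ∈ B, x * b * x⁻¹ = b⁻¹) ∧
      (¬ (IsMulCommutative H ∧ ∀ x : H, x ^ 2 = 1) →
        ∀ B' : Subgroup H, B'.Normal → IsMulCommutative ↥B' → B'.index = 2 →
          (∀ x : H, x ∉ B' → x ^ 2 = 1 ∧ ∀ b ∈ B', x * b * x⁻¹ = b⁻¹) → B' = B) := by
  obtain ⟨t, ht⟩ : ∃ t : H, t ∉ A := by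
    by_contra h
    push Not at h
    exact hA (eq_top_iff.2 fun x _ => h x)
  by_cases hsq : ∀ x : H, x ^ 2 = 1
  · -- elementary abelian case
    have : Nontrivial H := ⟨⟨t, 1, fun h => ht (h ▸ A.one_mem)⟩⟩
    obtain ⟨B, hB⟩ := elementary_case hsq
    have hcomm := comm_of_sq hsq
    refine ⟨B, ⟨fun n hn g => ?_⟩, ⟨⟨fun a b => Subtype.ext (hcomm _ _)⟩⟩, hB, fun x _ => ⟨hsq x, fun b _ => ?_⟩, ?_⟩
    · rw [hcomm g n, mul_inv_cancel_right]; exact hn
    · rw [hcomm x b, mul_inv_cancel_right, eq_comm, inv_eq_iff_mul_eq_one, ← pow_two]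
      exact hsq b
    · intro hne
      exact absurd ⟨⟨⟨fun a b => hcomm a b⟩⟩, hsq⟩ hne
  · -- general case: B = A
    push Not at hsq
    obtain ⟨x₀, hx₀⟩ := hsq
    have hinv := inverts A hD
    -- product of two elements outside A lies in A
    have hprod : ∀ u v : H, u ∉ A → v ∉ A → u * v ∈ A := by
      intro u v hu hv
      by_contra huv
      apply hx₀
      have hAsq : ∀ a ∈ A, a ^ 2 = 1 := by
        intro a ha
        have h1 := hinv (u * v) huv a ha
        have h2 := hinv v hv a ha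
        have h3 := hinv u hu a⁻¹ (A.inv_mem ha)
        have h4 : u * v * a * (u * v)⁻¹ = u * (v * a * v⁻¹) * u⁻¹ := by group
        rw [h4, h2, h3, inv_inv] at h1
        rw [pow_two]
        calc a * a = a * a⁻¹ := by rw [← h1]
          _ = 1 := mul_inv_cancel a
      by_cases hx : x₀ ∈ A
      · exact hAsq _ hx
      · exact hD _ hx
    have hidx : A.index = 2 := by
      rw [Subgroup.index_eq_two_iff]
      refine ⟨t, fun b => ?_⟩
      by_cases hb : b ∈ A
      · refine Or.inr ⟨hb, fun hbt => ht ?_⟩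
        simpa using A.mul_mem (A.inv_mem hb) hbt
      · exact Or.inl ⟨hprod b t hb ht, hb⟩
    have hAcomm : ∀ a ∈ A, ∀ b ∈ A, a * b = b * a := by
      intro a ha b hb
      have h1 := hinv t ht (a * b) (A.mul_mem ha hb)
      have h2 := hinv t ht a ha
      have h3 := hinv t ht b hb
      have h4 : t * (a * b) * t⁻¹ = (t * a * t⁻¹) * (t * b * t⁻¹) := by group
      rw [h4, h2, h3] at h1
      have h5 : (a⁻¹ * b⁻¹)⁻¹ = ((a * b)⁻¹)⁻¹ := by rw [h1]
      simpa using h5.symm
    refine ⟨A, Subgroup.normal_of_index_eq_two hidx,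
      ⟨⟨fun a b => Subtype.ext (hAcomm _ a.2 _ b.2)⟩⟩, hidx,
      fun x hx => ⟨hD x hx, fun b hb => hinv x hx b hb⟩, ?_⟩
    intro _ B' _ hB'comm hB'idx hB'
    have hle : A ≤ B' := by
      intro x hxA
      by_contra hxB
      apply hx₀
      by_cases h1 : x₀ ∈ A
      · by_cases h2 : x₀ ∈ B'
        · have h3 := (hB' x hxB).2 x₀ h2
          have h4 : x * x₀ * x⁻¹ = x₀ := by rw [hAcomm x hxA x₀ h1, mul_inv_cancel_right]
          rw [h4] at h3
          rw [pow_two]
          calc x₀ * x₀ = x₀ * x₀⁻¹ := by rw [← h3]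
            _ = 1 := mul_inv_cancel x₀
        · exact (hB' _ h2).1
      · exact hD _ h1
    have h := Subgroup.relIndex_mul_index hle
    rw [hidx, hB'idx] at h
    have h1 : A.relIndex B' = 1 := by omega
    exact le_antisymm (Subgroup.relIndex_eq_one.1 h1) hle

end Cfsg.Agent.S4420
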