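import Cfsg.Statements.S4421

set_option autoImplicit false
open Cfsg

namespace Cfsg.Agent.S4421

variable {G : Type*} [Group G]

theorem map_conj_map_conj (K : Subgroup G) (a b : G) :
    (K.map (MulAut.conj a).toMonoidHom).map (MulAut.conj b).toMonoidHom
      = K.map (MulAut.conj (b * a)).toMonoidHom := by
  rw [Subgroup.map_map]
  congr 1
  ext g
  simp [mul_assoc]

theorem map_conj_one (K : Subgroup G) :
    K.map (MulAut.conj (1 : G)).toMonoidHom = K := by
  ext g
  simp

theorem mem_normalizer_iff_map (K : Subgroup G) (g : G) :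
    g ∈ Subgroup.normalizer (K : Set G) ↔ K.map (MulAut.conj g).toMonoidHom = K :=
  Subgroup.mem_normalizer_iff_map_conj_eq

theorem map_conj_of_mem (K : Subgroup G) (g : G) (hg : g ∈ K) :
    K.map (MulAut.conj g).toMonoidHom = K := by
  rw [← mem_normalizer_iff_map]
  exact Subgroup.le_normalizer hg

/-- A factorization of a normalizer from two-step control of fusion. Let `G` be a finite group and `A ≤ S ≤ H` subgroups of `G` such that: (i) `S` controls the `G`-fusion of `A` in the sense that every `G`-conjugate of `A` lying in `S` is an `S`-conjugate of `A`; (ii) `H` controls the `G`-fusion of `S` in the same sense; (iii) every conjugate of `S` by an element of the normalizer of `A` lies in `H`. Then `N_G(A) = N_H(A) · (N_G(S) ∩ N_G(A))`: every element of the normalizer of `A` is a product of an element of `H` normalizing `A` and an element normalizing both `S` and `A`. -/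
theorem result {G : Type*} [Group G] [Finite G] (A S H : Subgroup G)
    (hAS : A ≤ S) (hSH : S ≤ H)
    (h1 : ∀ g : G, A.map (MulAut.conj g).toMonoidHom ≤ S → ∃ s ∈ S, A.map (MulAut.conj g).toMonoidHom = A.map (MulAut.conj s).toMonoidHom)
    (h2 : ∀ g : G, S.map (MulAut.conj g).toMonoidHom ≤ H → ∃ y ∈ H, S.map (MulAut.conj g).toMonoidHom = S.map (MulAut.conj y).toMonoidHom)
    (h3 : ∀ x ∈ Subgroup.normalizer (A : Set G), S.map (MulAut.conj x).toMonoidHom ≤ H) :
    ∀ x ∈ Subgroup.normalizer (A : Set G), ∃ y ∈ H ⊓ Subgroup.normalizer (A : Set G),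
      ∃ z ∈ Subgroup.normalizer (S : Set G) ⊓ Subgroup.normalizer (A : Set G), x = y * z := by
  intro x hx
  have hxA : A.map (MulAut.conj x).toMonoidHom = A := (mem_normalizer_iff_map A x).1 hx
  obtain ⟨y, hyH, hy⟩ := h2 x (h3 x hx)
  have hAy : A.map (MulAut.conj y⁻¹).toMonoidHom ≤ S := by
    have h : A.map (MulAut.conj x).toMonoidHom ≤ S.map (MulAut.conj x).toMonoidHom :=
      Subgroup.map_mono hAS
    rw [hxA, hy] at h
    have h' := Subgroup.map_mono (f := (MulAut.conj y⁻¹).toMonoidHom) h
    rw [map_conj_map_conj, inv_mul_cancel, map_conj_one] at h'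
    exact h'
  obtain ⟨s, hsS, hs⟩ := h1 y⁻¹ hAy
  have hysA : A.map (MulAut.conj (y * s)).toMonoidHom = A := by
    rw [← map_conj_map_conj, ← hs, map_conj_map_conj, mul_inv_cancel, map_conj_one]
  have hysN : y * s ∈ Subgroup.normalizer (A : Set G) := (mem_normalizer_iff_map A _).2 hysA
  refine ⟨y * s, ⟨H.mul_mem hyH (hSH hsS), hysN⟩, (y * s)⁻¹ * x, ⟨?_, ?_⟩, by group⟩
  · show (y * s)⁻¹ * x ∈ Subgroup.normalizer (S : Set G)
    rw [mem_normalizer_iff_map]
    have : (y * s)⁻¹ * x = s⁻¹ * (y⁻¹ * x) := by group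
    rw [this, ← map_conj_map_conj, ← map_conj_map_conj, hy, map_conj_map_conj S y, inv_mul_cancel,
      map_conj_one]
    exact map_conj_of_mem S _ (S.inv_mem hsS)
  · show (y * s)⁻¹ * x ∈ Subgroup.normalizer (A : Set G)
    exact Subgroup.mul_mem _ (Subgroup.inv_mem _ hysN) hx

end Cfsg.Agent.S4421
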