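import Cfsg.Statements.S4422

set_option autoImplicit false
open Cfsg

namespace Cfsg.Agent.S4422

theorem list_prod_modEq_one (e : ℕ) (l : List ℕ) (h : ∀ p ∈ l, p ≡ 1 [MOD e]) :
    l.prod ≡ 1 [MOD e] := by
  induction l with
  | nil => simp [Nat.ModEq]
  | cons a t ih =>
    rw [List.prod_cons]
    have h1 : a ≡ 1 [MOD e] := h a (by simp)
    have h2 : t.prod ≡ 1 [MOD e] := ih (fun p hp => h p (by simp [hp]))
    simpa using h1.mul h2

theorem prime_case (q e m : ℕ) (hq : 2 ≤ q) (he : 1 ≤ e)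
    (hm : m ∣ q ^ e - 1) (hcop : ∀ i : ℕ, 1 ≤ i → i < e → Nat.Coprime m (q ^ i - 1))
    (p : ℕ) (hp : p.Prime) (hpm : p ∣ m) : p ≡ 1 [MOD e] := by
  have : Fact p.Prime := ⟨hp⟩
  have hpe : p ∣ q ^ e - 1 := hpm.trans hm
  have hq1 : ∀ i : ℕ, 1 ≤ q ^ i := fun i => Nat.one_le_pow _ _ (by omega)
  have key : ∀ i : ℕ, ((q : ZMod p) ^ i = 1 ↔ p ∣ q ^ i - 1) := by
    intro i
    rw [← ZMod.natCast_eq_zero_iff, Nat.cast_sub (hq1 i), sub_eq_zero]
    simp
  have hqe : (q : ZMod p) ^ e = 1 := (key e).2 hpe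
  have hd : orderOf (q : ZMod p) ∣ e := orderOf_dvd_of_pow_eq_one hqe
  have hdpos : 0 < orderOf (q : ZMod p) := Nat.pos_of_dvd_of_pos hd he
  have hde : orderOf (q : ZMod p) = e := by
    by_contra hne
    have hlt : orderOf (q : ZMod p) < e := lt_of_le_of_ne (Nat.le_of_dvd he hd) hne
    have hc := hcop _ hdpos hlt
    have hpd : p ∣ q ^ orderOf (q : ZMod p) - 1 := (key _).1 (pow_orderOf_eq_one _)
    have : p ∣ 1 := by
      have := Nat.dvd_gcd hpm hpd
      rwa [hc] at this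
    exact hp.one_lt.ne' (Nat.dvd_one.1 this)
  have hq0 : (q : ZMod p) ≠ 0 := by
    intro h0
    rw [h0, zero_pow (by omega)] at hqe
    exact zero_ne_one hqe
  have hfermat : (q : ZMod p) ^ (p - 1) = 1 := ZMod.pow_card_sub_one_eq_one hq0
  have hdvd : e ∣ p - 1 := hde ▸ orderOf_dvd_of_pow_eq_one hfermat
  have hp1 : 1 ≤ p := hp.one_lt.le
  exact ((Nat.modEq_iff_dvd' hp1).2 hdvd).symm

/-- Primitive divisors of `q^e - 1` are congruent to 1 modulo `e`. Let `q ≥ 2` and `e ≥ 1` be natural numbers and let `m` be a divisor of `q^e - 1` that is coprime to `q^i - 1` for every `1 ≤ i < e` (so `m` divides the primitive part of `q^e - 1`, the largest such divisor). Then `m ≡ 1 (mod e)`. -/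
theorem result (q e m : ℕ) (hq : 2 ≤ q) (he : 1 ≤ e)
    (hm : m ∣ q ^ e - 1) (hcop : ∀ i : ℕ, 1 ≤ i → i < e → Nat.Coprime m (q ^ i - 1)) :
    m % e = 1 % e := by
  have hpos : q ^ e - 1 ≠ 0 := by
    have : 2 ^ 1 ≤ q ^ e := (Nat.pow_le_pow_left hq 1).trans (Nat.pow_le_pow_right (by omega) he)
    omega
  have hm0 : m ≠ 0 := fun h => hpos (by rw [h] at hm; exact Nat.eq_zero_of_zero_dvd hm)
  have h := list_prod_modEq_one e m.primeFactorsList (fun p hp =>
    prime_case q e m hq he hm hcop p (Nat.prime_of_mem_primeFactorsList hp)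
      (Nat.dvd_of_mem_primeFactorsList hp))
  rw [Nat.prod_primeFactorsList hm0] at h
  exact h

end Cfsg.Agent.S4422
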