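import Cfsg.Statements.S4424
import Cfsg.Agent.S0961
import Cfsg.Agent.Lib.Helper74.BR3
import Cfsg.Agent.Lib.Helper25.CharUtil
-- import your own Cfsg.Agent.* helpers here

set_option autoImplicit false
open Cfsg

namespace Cfsg.Agent.S4424

/-- Let χ be an irreducible character of the finite group G lying in the p-block B (relative to a maximal ideal M of the algebraic integers containing p), and let p^a be the p-part of the order of G. Then the class function that equals p^a · χ on the p-regular elements and vanishes on the p-singular elements is an integer combination of the irreducible characters in B: there are integers a_ψ, zero for ψ outside B, with that function equal to Σ a_ψ ψ. -/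
theorem result {G : Type*} [Group G] [Finite G] (p : ℕ) [Fact p.Prime] (M : Ideal Cfsg.AlgInt) (hM : Cfsg.IsPModular p M) (B : Set (Cfsg.IrrCharacter G)) (hB : Cfsg.IsPBlock M B) (χ : Cfsg.IrrCharacter G) (hχ : χ ∈ B) : ∃ a : Cfsg.IrrCharacter G → ℤ, (∀ ψ, ψ ∉ B → a ψ = 0) ∧ (fun x : G => if p ∣ orderOf x then (0 : ℂ) else ((p ^ (Nat.card G).factorization p : ℕ) : ℂ) * (χ : G → ℂ) x) = fun x => ∑ᶠ ψ : Cfsg.IrrCharacter G, (a ψ : ℂ) * (ψ : G → ℂ) x := by
  classical
  have := Fintype.ofFinite G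
  have := Fintype.ofFinite (Cfsg.IrrCharacter G)
  obtain ⟨χ₀, rfl⟩ := hB
  set θ : G → ℂ := fun x : G => if p ∣ orderOf x then (0 : ℂ)
    else ((p ^ (Nat.card G).factorization p : ℕ) : ℂ) * (χ : G → ℂ) x with hθ
  have hθgen : Cfsg.IsGeneralizedCharacter G θ := Cfsg.Agent.S0961.result p χ
  have hint : ∀ ψ : Cfsg.IrrCharacter G, ∃ n : ℤ, Cfsg.classInner θ (ψ : G → ℂ) = (n : ℂ) := by
    intro ψ
    have hψc : Cfsg.IsCharacter G ψ.1 := Cfsg.Agent.Lib.Helper3.IsIrrCharacter.isCharacter ψ.2
    have hψgen : Cfsg.IsGeneralizedCharacter G ψ.1 :=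
      ⟨ψ.1, 0, hψc, Cfsg.Agent.Lib.Helper3.IsCharacter.zero, by simp⟩
    exact Cfsg.Agent.Lib.Helper25.classInner_genChar_int hθgen hψgen
  choose n hn using hint
  have hθreg : θ = ((p ^ (Nat.card G).factorization p : ℕ) : ℂ) • Cfsg.pRegularPart p (χ : G → ℂ) := by
    funext x
    simp only [hθ, Pi.smul_apply, smul_eq_mul, Cfsg.Agent.Lib.Helper74.pRegularPart_apply]
    split_ifs <;> simp
  refine ⟨fun ψ => if ψ ∈ Cfsg.blockOf M (χ₀ : G → ℂ) then n ψ else 0, ?_, ?_⟩
  · intro ψ hψ
    simp [hψ]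
  · funext x
    rw [finsum_eq_sum_of_fintype]
    show θ x = _
    have h1 := Cfsg.Agent.Lib.Helper74.pRegularPart_expansion p M hM χ₀ χ hχ x
    rw [hθreg, Pi.smul_apply, smul_eq_mul, h1, Finset.mul_sum, Finset.sum_filter]
    apply Finset.sum_congr rfl
    intro φ _
    by_cases hφ : φ ∈ Cfsg.blockOf M (χ₀ : G → ℂ)
    · simp only [if_pos hφ]
      rw [← hn φ, hθreg, Cfsg.Agent.Lib.Helper25.classInner_smul_left]
      ring
    · simp only [if_neg hφ]
      simp

end Cfsg.Agent.S4424
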