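import Cfsg.Statements.S4425
import Cfsg.Agent.S0961
import Cfsg.Agent.Lib.Helper81.PDefect

set_option autoImplicit false
open Cfsg

namespace Cfsg.Agent.S4425

/-- Let χ be an irreducible character of the finite group G, p a prime, p^a the p-part of the order of G and p^b the p-part of the degree χ(1). Let χ̃ be the class function equal to p^a · χ on p-regular elements and zero on p-singular elements. Then p^(−b) · χ̃ is a generalized character of G, while p^(−(b+1)) · χ̃ is not. -/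
theorem result {G : Type*} [Group G] [Finite G] (p : ℕ) [Fact p.Prime] (χ : Cfsg.IrrCharacter G) : Cfsg.IsGeneralizedCharacter G (fun x : G => if p ∣ orderOf x then (0 : ℂ) else ((p ^ ((Nat.card G).factorization p - (Cfsg.charDegree (χ : G → ℂ)).factorization p) : ℕ) : ℂ) * (χ : G → ℂ) x) ∧ ¬ Cfsg.IsGeneralizedCharacter G (fun x : G => if p ∣ orderOf x then (0 : ℂ) else ((p ^ (Nat.card G).factorization p : ℕ) : ℂ) / ((p ^ ((Cfsg.charDegree (χ : G → ℂ)).factorization p + 1) : ℕ) : ℂ) * (χ : G → ℂ) x) := by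
  classical
  have hp : p.Prime := Fact.out
  have : Fintype G := Fintype.ofFinite G
  set a := (Nat.card G).factorization p with ha
  set b := (Cfsg.charDegree (χ : G → ℂ)).factorization p with hb
  have hχc : Cfsg.IsCharacter G χ.1 := Cfsg.Agent.Lib.Helper3.IsIrrCharacter.isCharacter χ.2
  have hχcf : Cfsg.IsClassFunction G χ.1 :=
    Cfsg.Agent.Lib.Helper3.IsCharacter.isClassFunction hχc
  obtain ⟨n, ρ, hρ, hρχ⟩ := χ.2
  have hfr : Module.finrank ℂ (Fin n → ℂ) = n := Module.finrank_fin_fun ℂ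
  have hdeg : Cfsg.charDegree χ.1 = n := by
    rw [← hρχ]
    exact Cfsg.Agent.Lib.Helper79.charDegree_rep ρ
  have hχ1 : χ.1 1 = (n : ℂ) := by
    rw [← hρχ, Representation.char_one, hfr]
  have hn_dvd : n ∣ Nat.card G := by
    have h1 := @Cfsg.Agent.Lib.Helper3.finrank_dvd_card G _ _ _ _ _ _ ρ hρ
    rwa [hfr] at h1
  have hn0 : n ≠ 0 := by
    intro h0
    rw [h0] at hn_dvd
    exact Nat.card_pos.ne' (Nat.eq_zero_of_zero_dvd hn_dvd)
  have hbn : b = n.factorization p := by rw [hb, hdeg]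
  have hba : b ≤ a := by
    have h1 : p ^ b ∣ Nat.card G := by
      rw [hbn]
      exact (Nat.ordProj_dvd n p).trans hn_dvd
    exact (hp.pow_dvd_iff_le_factorization Nat.card_pos.ne').1 h1
  set θ : G → ℂ := fun x => if p ∣ orderOf x then 0 else ((p ^ a : ℕ) : ℂ) * χ.1 x with hθ
  have hθgen : Cfsg.IsGeneralizedCharacter G θ := Cfsg.Agent.S0961.result p χ
  have hord : ∀ g h : G, orderOf (h * g * h⁻¹) = orderOf g := fun g h =>
    orderOf_injective (MulAut.conj h).toMonoidHom (MulAut.conj h).injective g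
  constructor
  · set f : G → ℂ := fun x => if p ∣ orderOf x then (0 : ℂ)
      else ((p ^ (a - b) : ℕ) : ℂ) * χ.1 x with hf
    have hfcf : Cfsg.IsClassFunction G f := by
      intro g h
      simp only [hf, hord g h, hχcf g h]
    have hfθ : θ = ((p ^ b : ℕ) : ℂ) • f := by
      funext x
      simp only [hθ, hf, Pi.smul_apply, smul_eq_mul]
      split_ifs
      · simp
      · rw [← mul_assoc, ← Nat.cast_mul, ← pow_add, Nat.add_sub_cancel' hba]
    apply Cfsg.Agent.Lib.Helper81.isGeneralizedCharacter_of_classInner_int hfcf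
    intro ψ
    have hψc : Cfsg.IsCharacter G ψ.1 := Cfsg.Agent.Lib.Helper3.IsIrrCharacter.isCharacter ψ.2
    have hψgen : Cfsg.IsGeneralizedCharacter G ψ.1 :=
      ⟨ψ.1, 0, hψc, Cfsg.Agent.Lib.Helper3.IsCharacter.zero, by simp⟩
    obtain ⟨m, hm⟩ := Cfsg.Agent.Lib.Helper25.classInner_genChar_int hθgen hψgen
    have hdvd := Cfsg.Agent.Lib.Helper81.pow_factorization_dvd_classInner p χ.2 hψc m hm
    obtain ⟨z, hz⟩ := hdvd
    refine ⟨z, ?_⟩
    have h1 : Cfsg.classInner θ ψ.1 = ((p ^ b : ℕ) : ℂ) * Cfsg.classInner f ψ.1 := by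
      rw [hfθ, Cfsg.Agent.Lib.Helper25.classInner_smul_left]
    rw [hm, hz] at h1
    have hpb : ((p ^ b : ℕ) : ℂ) ≠ 0 := by
      exact_mod_cast (pow_pos hp.pos b).ne'
    push_cast at h1
    have hpb' : (p : ℂ) ^ b ≠ 0 := by
      have := hpb
      push_cast at this
      exact this
    exact (mul_left_cancel₀ hpb' h1).symm
  · intro hB
    obtain S : Sylow p G := default
    have : Fintype (S : Subgroup G) := Fintype.ofFinite _
    obtain ⟨k, hk⟩ := Cfsg.Agent.Lib.Helper81.sum_subgroup_genChar (S : Subgroup G) hB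
    have hScard : Nat.card (S : Subgroup G) = p ^ a := Sylow.card_eq_multiplicity S
    have hsum : ∑ s : (S : Subgroup G), (fun x : G => if p ∣ orderOf x then (0 : ℂ)
        else ((p ^ a : ℕ) : ℂ) / ((p ^ (b + 1) : ℕ) : ℂ) * (χ : G → ℂ) x) (s : G) =
        ((p ^ a : ℕ) : ℂ) / ((p ^ (b + 1) : ℕ) : ℂ) * (n : ℂ) := by
      rw [Finset.sum_eq_single (1 : (S : Subgroup G))]
      · have h1 : ¬ p ∣ orderOf (1 : G) := by
          rw [orderOf_one]
          exact hp.one_lt.ne' ∘ Nat.dvd_one.mp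
        simp only [Subgroup.coe_one, hχ1, if_neg h1]
      · intro s _ hs
        have h1 : p ∣ orderOf (s : G) := by
          rw [Subgroup.orderOf_coe]
          exact S.2.dvd_orderOf hs
        simp only [if_pos h1]
      · intro h
        exact absurd (Finset.mem_univ _) h
    rw [hsum, hScard] at hk
    have hpa : ((p ^ a : ℕ) : ℂ) ≠ 0 := by
      exact_mod_cast (pow_pos hp.pos a).ne'
    have hpb1 : ((p ^ (b + 1) : ℕ) : ℂ) ≠ 0 := by
      exact_mod_cast (pow_pos hp.pos (b + 1)).ne'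
    have h2 : (n : ℂ) = ((p ^ (b + 1) : ℕ) : ℂ) * (k : ℂ) := by
      have h3 : ((p ^ a : ℕ) : ℂ) * ((n : ℂ) / ((p ^ (b + 1) : ℕ) : ℂ)) =
          ((p ^ a : ℕ) : ℂ) * (k : ℂ) := by
        rw [← hk]
        ring
      have h4 := mul_left_cancel₀ hpa h3
      rw [div_eq_iff hpb1] at h4
      rw [h4]
      ring
    have h3 : (n : ℤ) = ((p ^ (b + 1) : ℕ) : ℤ) * k := by exact_mod_cast h2
    have h4 : ((p ^ (b + 1) : ℕ) : ℤ) ∣ (n : ℤ) := ⟨k, h3⟩
    have h5 : p ^ (b + 1) ∣ n := Int.natCast_dvd_natCast.mp h4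
    rw [hbn] at h5
    exact Nat.pow_succ_factorization_not_dvd hn0 hp h5

end Cfsg.Agent.S4425
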