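import Cfsg.Statements.S4426
import Cfsg.Agent.Lib.Helper74.PReg4
-- import your own Cfsg.Agent.* helpers here

set_option autoImplicit false
open Cfsg

namespace Cfsg.Agent.S4426

/-- Let χ be an irreducible character in the p-block B of the finite group G (relative to a maximal ideal M of the algebraic integers containing p), let p^a be the p-part of the order of G, and let χ̃ be the class function equal to p^a · χ on p-regular elements and zero elsewhere. For ξ ∈ B the inner product [χ̃, ξ] is an integer. The following are equivalent: (a) χ has height zero in B; (b) for some ξ ∈ B the integer [χ̃, ξ] is nonzero and the exact power of p dividing it equals the exact power of p dividing ξ(1); (c) the same holds for every ξ ∈ B. -/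
theorem result {G : Type*} [Group G] [Fintype G] (p : ℕ) [Fact p.Prime] (M : Ideal Cfsg.AlgInt) (hM : Cfsg.IsPModular p M) (B : Set (Cfsg.IrrCharacter G)) (hB : Cfsg.IsPBlock M B) (χ : Cfsg.IrrCharacter G) (hχ : χ ∈ B) : (Cfsg.blockHeight p B (χ : G → ℂ) = 0 ↔ ∃ ξ ∈ B, ∃ n : ℤ, Cfsg.classInner (fun x : G => if p ∣ orderOf x then (0 : ℂ) else ((p ^ (Nat.card G).factorization p : ℕ) : ℂ) * (χ : G → ℂ) x) (ξ : G → ℂ) = (n : ℂ) ∧ n ≠ 0 ∧ padicValInt p n = (Cfsg.charDegree (ξ : G → ℂ)).factorization p) ∧ (Cfsg.blockHeight p B (χ : G → ℂ) = 0 ↔ ∀ ξ ∈ B, ∃ n : ℤ, Cfsg.classInner (fun x : G => if p ∣ orderOf x then (0 : ℂ) else ((p ^ (Nat.card G).factorization p : ℕ) : ℂ) * (χ : G → ℂ) x) (ξ : G → ℂ) = (n : ℂ) ∧ n ≠ 0 ∧ padicValInt p n = (Cfsg.charDegree (ξ : G → ℂ)).factorization p) := by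
  classical
  have := Fintype.ofFinite (Cfsg.IrrCharacter G)
  obtain ⟨χ₀, rfl⟩ := hB
  -- the key equivalence for a fixed `ξ`
  have key : ∀ ξ : Cfsg.IrrCharacter G,
      (∃ n : ℤ, Cfsg.classInner (Cfsg.Agent.Lib.Helper74.pTilde p (χ : G → ℂ)) (ξ : G → ℂ) = (n : ℂ) ∧
        n ≠ 0 ∧ padicValInt p n = (Cfsg.charDegree (ξ : G → ℂ)).factorization p) ↔
      ¬ Cfsg.MemLocalIdeal M (Cfsg.classInner (Cfsg.Agent.Lib.Helper74.pTilde p (χ : G → ℂ))
        (ξ : G → ℂ) / (ξ : G → ℂ) 1) := by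
    intro ξ
    obtain ⟨t, ht⟩ := Cfsg.Agent.Lib.Helper74.pTilde_int p χ ξ
    have hdvd := Cfsg.Agent.Lib.Helper74.pTilde_dvd_right p χ ξ t ht
    rw [Cfsg.Agent.Lib.Helper74.pTilde_unit_iff hM χ ξ t ht,
      ← Cfsg.Agent.Lib.Helper74.padic_iff_not_dvd t _ hdvd]
    constructor
    · rintro ⟨n, hn, hn0, hv⟩
      have : n = t := by
        rw [ht] at hn
        exact_mod_cast hn.symm
      subst this
      exact ⟨hn0, hv⟩
    · rintro ⟨h0, hv⟩
      exact ⟨t, ht, h0, hv⟩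
  have hA := Cfsg.Agent.Lib.Helper74.pTilde_unit_of_height_zero hM χ₀ χ hχ
  have hBk := Cfsg.Agent.Lib.Helper74.height_zero_of_pTilde_unit hM χ₀ χ hχ
  constructor
  · constructor
    · intro h
      exact ⟨χ, hχ, (key χ).2 (hA h χ hχ)⟩
    · rintro ⟨ξ, hξ, h⟩
      exact hBk ξ hξ ((key ξ).1 h)
  · constructor
    · intro h ξ hξ
      exact (key ξ).2 (hA h ξ hξ)
    · intro h
      exact hBk χ hχ ((key χ).1 (h χ hχ))

end Cfsg.Agent.S4426
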