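import Cfsg.Statements.S4427
import Cfsg.Agent.Lib.Helper56.P3Main

set_option autoImplicit false
open Cfsg

namespace Cfsg.Agent.S4427

/-- Let G be a finite group of order p^a · q^b · r^c with p, q, r distinct primes, and suppose that G has exactly q^b · r^c elements of order not divisible by p. Then G has a normal p-complement: a normal subgroup of order q^b · r^c. -/
theorem result {G : Type*} [Group G] [Finite G] (p q r a b c : ℕ) (hp : p.Prime) (hq : q.Prime) (hr : r.Prime) (hpq : p ≠ q) (hpr : p ≠ r) (hqr : q ≠ r) (hG : Nat.card G = p ^ a * q ^ b * r ^ c) (hcount : Nat.card {g : G // ¬ p ∣ orderOf g} = q ^ b * r ^ c) : ∃ N : Subgroup G, N.Normal ∧ Nat.card N = q ^ b * r ^ c := by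
  classical
  have hfin := Fintype.ofFinite G
  have hfinI := Fintype.ofFinite (IrrCharacter G)
  obtain ⟨M, hpM⟩ := Cfsg.Agent.Lib.Helper74.exists_isPModular hp
  have : Fact q.Prime := ⟨hq⟩
  have : Fact r.Prime := ⟨hr⟩
  obtain ⟨Q⟩ : Nonempty (Sylow q G) := inferInstance
  obtain ⟨R⟩ : Nonempty (Sylow r G) := inferInstance
  have hpa : p ^ a ≠ 0 := pow_ne_zero _ hp.ne_zero
  have hqb : q ^ b ≠ 0 := pow_ne_zero _ hq.ne_zero
  have hrc : r ^ c ≠ 0 := pow_ne_zero _ hr.ne_zero
  have hQcard : Nat.card Q = q ^ b := by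
    rw [Sylow.card_eq_multiplicity, hG]
    congr 1
    rw [Nat.factorization_mul (mul_ne_zero hpa hqb) hrc, Nat.factorization_mul hpa hqb,
      hp.factorization_pow, hq.factorization_pow, hr.factorization_pow]
    simp [hpq, hqr.symm]
  have hRcard : Nat.card R = r ^ c := by
    rw [Sylow.card_eq_multiplicity, hG]
    congr 1
    rw [Nat.factorization_mul (mul_ne_zero hpa hqb) hrc, Nat.factorization_mul hpa hqb,
      hp.factorization_pow, hq.factorization_pow, hr.factorization_pow]
    simp [hpr, hqr]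
  have hpq' : ¬ p ∣ q ^ b := fun h => hpq ((Nat.prime_dvd_prime_iff_eq hp hq).mp (hp.dvd_of_dvd_pow h))
  have hpr' : ¬ p ∣ r ^ c := fun h => hpr ((Nat.prime_dvd_prime_iff_eq hp hr).mp (hp.dvd_of_dvd_pow h))
  have hn : ¬ p ∣ q ^ b * r ^ c := fun h => (hp.dvd_mul.mp h).elim hpq' hpr'
  have hcop : (Nat.card (Q : Subgroup G)).Coprime (Nat.card (R : Subgroup G)) := by
    rw [hQcard, hRcard]
    exact Nat.Coprime.pow _ _ ((Nat.coprime_primes hq hr).mpr hqr)
  exact Cfsg.Agent.Lib.P3.p3_main p a (q ^ b * r ^ c) hp M hpM (Q : Subgroup G) (R : Subgroup G)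
    (by rw [hQcard]; exact hpq') (by rw [hRcard]; exact hpr') hcop (by rw [hG, mul_assoc])
    (by rw [hQcard, hRcard]) hn hcount

end Cfsg.Agent.S4427
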