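import Cfsg.Statements.S4428
import Cfsg.Agent.S4431
import Cfsg.Agent.Lib.Helper74.PReg6
-- import your own Cfsg.Agent.* helpers here

set_option autoImplicit false
open Cfsg

namespace Cfsg.Agent.S4428

/-- Let χ be an irreducible character of height zero in the p-block B of the finite group G (relative to a maximal ideal M of the algebraic integers containing p). Let x be a p-element of G with centralizer C, and let b be a block of C that induces B. Form the class function ϑ(c) = χ(x c) on C and its b-part (the sum over ψ ∈ b of the inner product of ϑ with ψ, times ψ). Then the b-part of ϑ does not vanish identically on the p-regular elements of C. (Compare the second main Theorem, which gives vanishing when b does not induce B.) -/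
theorem result {G : Type*} [Group G] [Finite G] (p : ℕ) [Fact p.Prime] (M : Ideal Cfsg.AlgInt) (hM : Cfsg.IsPModular p M) (B : Set (Cfsg.IrrCharacter G)) (hB : Cfsg.IsPBlock M B) (χ : Cfsg.IrrCharacter G) (hχ : χ ∈ B) (h0 : Cfsg.blockHeight p B (χ : G → ℂ) = 0) (x : G) (hx : ∃ k : ℕ, orderOf x = p ^ k) (b : Set (Cfsg.IrrCharacter (Subgroup.centralizer ({x} : Set G)))) (hb : Cfsg.IsInducedBlock M (Subgroup.centralizer ({x} : Set G)) b B) : ∃ y : Subgroup.centralizer ({x} : Set G), ¬ p ∣ orderOf y ∧ Cfsg.blockPart b (fun c : Subgroup.centralizer ({x} : Set G) => (χ : G → ℂ) (x * (c : G))) y ≠ 0 := by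
  classical
  have := Fintype.ofFinite G
  have := Fintype.ofFinite (Subgroup.centralizer ({x} : Set G))
  have := Fintype.ofFinite (Cfsg.IrrCharacter (Subgroup.centralizer ({x} : Set G)))
  have hMp : M.IsPrime := Cfsg.Agent.Lib.Helper81.isPrime_of_isPModular hM
  obtain ⟨ψ₁, hbψ₁⟩ := hb.1
  have hψ₁ : ψ₁ ∈ b := by
    rw [hbψ₁]
    exact Cfsg.Agent.Lib.Helper81.sameBlock_refl hMp _
  have hunit := (Cfsg.Agent.S4431.result p M hM (Subgroup.centralizer ({x} : Set G)) b B hb χ
    ψ₁ hψ₁).2 hχ h0
  obtain ⟨k, hk⟩ := hx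
  have hxmem : x ∈ Subgroup.centralizer ({x} : Set G) := by
    rw [Subgroup.mem_centralizer_iff]
    intro h hh
    rw [Set.mem_singleton_iff.mp hh]
  set z : Subgroup.centralizer ({x} : Set G) := ⟨x, hxmem⟩ with hz
  have hzc : z ∈ Subgroup.center (Subgroup.centralizer ({x} : Set G)) := by
    rw [Subgroup.mem_center_iff]
    intro c
    apply Subtype.ext
    have := (Subgroup.mem_centralizer_iff.mp c.2) x (Set.mem_singleton x)
    simp only [Subgroup.coe_mul, hz]
    exact this.symm
  have hzk : z ^ (p ^ k) = 1 := by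
    apply Subtype.ext
    simp only [Subgroup.coe_pow, Subgroup.coe_one, hz]
    rw [← hk]
    exact pow_orderOf_eq_one x
  have hres : Cfsg.IsCharacter (Subgroup.centralizer ({x} : Set G))
      (fun c : Subgroup.centralizer ({x} : Set G) => (χ : G → ℂ) c) :=
    Cfsg.Agent.Lib.Helper3.IsCharacter.restrict
      (Cfsg.Agent.Lib.Helper3.IsIrrCharacter.isCharacter χ.2) _
  rw [hbψ₁] at hψ₁
  have := Cfsg.Agent.Lib.Helper74.blockPart_twist_ne_zero hM ψ₁
    (fun c : Subgroup.centralizer ({x} : Set G) => (χ : G → ℂ) c) hres z hzc k hzk ψ₁ hψ₁ hunit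
  rw [hbψ₁]
  exact this

end Cfsg.Agent.S4428
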