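import Cfsg.Statements.S4445
import Cfsg.Agent.S4444
import Cfsg.Agent.Lib.Helper82.GlaubCount
-- import your own Cfsg.Agent.* helpers here

set_option autoImplicit false
set_option linter.style.haveILetI false
open Cfsg

namespace Cfsg.Agent.S4445

open Cfsg.Agent.Lib.Helper82

/-- The Glauberman correspondence for `p`-groups (S4444) in the form used by the counting
argument. -/
theorem pHyp {Γ : Type*} [Group Γ] [Fintype Γ] : PHyp Γ := by
  intro D P C _ hPD hcop p hp hPp hC hCD
  haveI : Fintype D := Fintype.ofFinite D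
  obtain ⟨h1, _, h3, h4⟩ := Cfsg.Agent.S4444.result D P hPD hcop p hp hPp C hC hCD
  refine ⟨h1, ?_, h4⟩
  rintro β β' hβ hβ' γ ⟨m, hm, hpm⟩ ⟨m', hm', hpm'⟩
  exact h3 β β' hβ hβ' γ m m' hm hpm hm' hpm'

/-- Inside a finite group Γ let the solvable subgroup S normalise G with the orders of G and S coprime. Then the number of S-invariant irreducible characters of G (χ(s g s⁻¹) = χ(g) for all s ∈ S, g ∈ G) equals the number of conjugacy classes of G mapped to themselves by conjugation by every element of S. -/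
theorem result {Γ : Type*} [Group Γ] [Fintype Γ] (G S : Subgroup Γ) [Fintype G] (hnorm : ∀ s ∈ S, ∀ g ∈ G, s * g * s⁻¹ ∈ G) (hcop : (Nat.card G).Coprime (Nat.card S)) (hsolv : Group.IsSolvable S) : Nat.card {χ : Cfsg.IrrCharacter G // (∀ s ∈ S, ∀ g g' : G, (g' : Γ) = s * g * s⁻¹ → (χ : G → ℂ) g' = (χ : G → ℂ) g)} = Nat.card {K : ConjClasses G // ∀ s ∈ S, ∀ g g' : G, (g' : Γ) = s * g * s⁻¹ → ConjClasses.mk g = K → ConjClasses.mk g' = K} := by
  haveI : Finite Γ := Finite.of_fintype Γ
  exact card_sInv_eq_card_classes pHyp G S hnorm hcop hsolv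

end Cfsg.Agent.S4445
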