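import Cfsg.Statements.S4446
import Cfsg.Agent.Lib.Helper15.GlaubCyc

set_option autoImplicit false
open Cfsg

namespace Cfsg.Agent.S4446

open Cfsg.Agent.Lib.Helper15

theorem exists_coprime_pow {G : Type*} [Group G] [Finite G] (a s : G)
    (h : Subgroup.zpowers s = Subgroup.zpowers a) :
    ∃ k : ℕ, k.Coprime (orderOf a) ∧ a ^ k = s := by
  have hs : s ∈ Subgroup.zpowers a := by rw [← h]; exact Subgroup.mem_zpowers s
  rw [← mem_powers_iff_mem_zpowers, Submonoid.mem_powers_iff] at hs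
  obtain ⟨k, rfl⟩ := hs
  refine ⟨k, ?_, rfl⟩
  have h1 : orderOf (a ^ k) = orderOf a := by
    rw [← Nat.card_zpowers, ← Nat.card_zpowers a, h]
  rw [orderOf_pow] at h1
  have hpos : 0 < orderOf a := orderOf_pos a
  have hg : (orderOf a).gcd k ∣ orderOf a := Nat.gcd_dvd_left _ _
  obtain ⟨q, hq⟩ := hg
  have hgpos : 0 < (orderOf a).gcd k := Nat.gcd_pos_of_pos_left _ hpos
  have h2 : orderOf a / (orderOf a).gcd k = q := Nat.div_eq_of_eq_mul_right hgpos hq
  rw [h2] at h1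
  rw [h1] at hq
  have h3 : (orderOf a).gcd k = 1 := by
    have : (orderOf a).gcd k * orderOf a = 1 * orderOf a := by rw [one_mul]; exact hq.symm
    exact Nat.eq_of_mul_eq_mul_right hpos this
  rw [Nat.coprime_comm]
  exact h3


/-- Let the finite group Γ be generated by a normal subgroup G and a cyclic subgroup S of coprime orders, C = G ⊓ C(S), and let χ be an S-invariant irreducible character of G with canonical extension χ̂ to Γ (the extension whose determinantal order is coprime to the order of S). Then there are exactly one irreducible character β of C and one sign ε such that χ̂(c s) = ε β(c) for every c ∈ C and every generator s of S; this β is a constituent of the restriction of χ to C; distinct S-invariant χ give distinct β; and every irreducible character of C arises in this way. -/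
theorem result {Γ : Type*} [Group Γ] [Fintype Γ] (G S : Subgroup Γ) [Fintype G] (hnorm : ∀ s ∈ S, ∀ g ∈ G, s * g * s⁻¹ ∈ G) (hcop : (Nat.card G).Coprime (Nat.card S)) (htop : G ⊔ S = ⊤) (hcyc : IsCyclic S) (C : Subgroup Γ) [Fintype C] (hC : C = G ⊓ Subgroup.centralizer (S : Set Γ)) (hCG : C ≤ G) : (∀ (χ : Cfsg.IrrCharacter G) (χh : Cfsg.IrrCharacter Γ), (∀ s ∈ S, ∀ g g' : G, (g' : Γ) = s * g * s⁻¹ → (χ : G → ℂ) g' = (χ : G → ℂ) g) → (∀ g : G, (χh : Γ → ℂ) g = (χ : G → ℂ) g) → (Cfsg.detOrder (χh : Γ → ℂ)).Coprime (Nat.card S) → (∃! βε : Cfsg.IrrCharacter C × ℤ, (βε.2 = 1 ∨ βε.2 = -1) ∧ ∀ c : C, ∀ s : Γ, Subgroup.zpowers s = S → (χh : Γ → ℂ) ((c : Γ) * s) = (βε.2 : ℂ) * (βε.1 : C → ℂ) c) ∧ ∀ β : Cfsg.IrrCharacter C, ∀ ε : ℤ, (ε = 1 ∨ ε = -1) → (∀ c : C, ∀ s : Γ, Subgroup.zpowers s = S → (χh : Γ → ℂ) ((c : Γ) * s) = (ε : ℂ) * (β : C → ℂ) c) → Cfsg.classInner (fun c : C => (χ : G → ℂ) ⟨c, hCG c.2⟩) (β : C → ℂ) ≠ 0)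 ∧ (∀ (χ χ' : Cfsg.IrrCharacter G) (χh χh' : Cfsg.IrrCharacter Γ), (∀ s ∈ S, ∀ g g' : G, (g' : Γ) = s * g * s⁻¹ → (χ : G → ℂ) g' = (χ : G → ℂ) g) → (∀ s ∈ S, ∀ g g' : G, (g' : Γ) = s * g * s⁻¹ → (χ' : G → ℂ) g' = (χ' : G → ℂ) g) → (∀ g : G, (χh : Γ → ℂ) g = (χ : G → ℂ) g) → (∀ g : G, (χh' : Γ → ℂ) g = (χ' : G → ℂ) g) → (Cfsg.detOrder (χh : Γ → ℂ)).Coprime (Nat.card S) → (Cfsg.detOrder (χh' : Γ → ℂ)).Coprime (Nat.card S) → ∀ β : Cfsg.IrrCharacter C, ∀ ε ε' : ℤ, (ε = 1 ∨ ε = -1) → (ε' = 1 ∨ ε' = -1) → (∀ c : C, ∀ s : Γ, Subgroup.zpowers s = S → (χh : Γ → ℂ) ((c : Γ) * s) = (ε : ℂ) * (β : C → ℂ) c) → (∀ c : C, ∀ s : Γ, Subgroup.zpowers s = S → (χh' : Γ → ℂ) ((c : Γ) * s) = (ε' : ℂ) * (β : C → ℂ) c) → χ = χ') ∧ (∀ β : Cfsg.IrrCharacter C, ∃ (χ : Cfsg.IrrCharacter G) (χh : Cfsg.IrrCharacter Γ) (ε : ℤ), (∀ s ∈ S, ∀ g g' : G, (g' : Γ) = s * g * s⁻¹ → (χ : G → ℂ) g' = (χ : G → ℂ) g) ∧ (∀ g : G, (χh : Γ → ℂ) g = (χ : G →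 ℂ) g) ∧ (Cfsg.detOrder (χh : Γ → ℂ)).Coprime (Nat.card S) ∧ (ε = 1 ∨ ε = -1) ∧ ∀ c : C, ∀ s : Γ, Subgroup.zpowers s = S → (χh : Γ → ℂ) ((c : Γ) * s) = (ε : ℂ) * (β : C → ℂ) c) := by
  classical
  -- the generator
  obtain ⟨a0, ha0⟩ := hcyc.exists_generator
  set a : Γ := (a0 : Γ) with ha
  have hS : Subgroup.zpowers a = S := by
    apply le_antisymm
    · rw [Subgroup.zpowers_le]; exact a0.2
    · intro x hx
      obtain ⟨i, hi⟩ := Subgroup.mem_zpowers_iff.1 (ha0 ⟨x, hx⟩)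
      refine Subgroup.mem_zpowers_iff.2 ⟨i, ?_⟩
      have := congrArg (Subtype.val) hi
      simpa using this
  have hcardS : Nat.card S = orderOf a := by rw [← hS, Nat.card_zpowers]
  -- normality
  have hGn : G.Normal := by
    rw [← Subgroup.normalizer_eq_top_iff, eq_top_iff, ← htop]
    apply sup_le
    · exact Subgroup.le_normalizer
    · intro s hs
      rw [Subgroup.mem_normalizer_iff]
      intro h
      constructor
      · exact fun hh => hnorm s hs h hh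
      · intro hh
        have := hnorm s⁻¹ (S.inv_mem hs) _ hh
        have h2 : s⁻¹ * (s * h * s⁻¹) * s⁻¹⁻¹ = h := by group
        rwa [h2] at this
  have hcop' : (Nat.card G).Coprime (orderOf a) := by rwa [← hcardS]
  have hidx : G.index = orderOf a := by
    rw [← hcardS]
    exact (Cfsg.Agent.Lib.Helper24.card_eq_index_of_sup_eq_top G S htop hcop).symm
  have hgen : ∀ x : Γ, ∃ k : ℕ, x * a ^ k ∈ G := by
    intro x
    have hx : x ∈ ((G ⊔ S : Subgroup Γ) : Set Γ) := by rw [htop]; trivial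
    rw [Subgroup.normal_mul] at hx
    obtain ⟨g, hg, s, hs, rfl⟩ := Set.mem_mul.1 hx
    have hs' : s⁻¹ ∈ Subgroup.zpowers a := by rw [hS]; exact S.inv_mem hs
    rw [← mem_powers_iff_mem_zpowers, Submonoid.mem_powers_iff] at hs'
    obtain ⟨k, hk⟩ := hs'
    refine ⟨k, ?_⟩
    rw [hk]
    have : g * s * s⁻¹ = g := by group
    rw [this]
    exact hg
  have hC' : C = fixSub G a := by
    rw [hC]
    unfold fixSub
    congr 1
    rw [← hS, Subgroup.zpowers_eq_closure, Subgroup.centralizer_closure]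
  subst hC'
  -- generators
  have hgenS : ∀ s : Γ, Subgroup.zpowers s = S → ∃ k : ℕ, k.Coprime (orderOf a) ∧ a ^ k = s := by
    intro s hs
    exact exists_coprime_pow a s (hs.trans hS.symm)
  have hcanon : ∀ (χ : Cfsg.IrrCharacter G) (χh : Cfsg.IrrCharacter Γ),
      (∀ g : G, (χh : Γ → ℂ) g = (χ : G → ℂ) g) →
      (Cfsg.detOrder (χh : Γ → ℂ)).Coprime (Nat.card S) → IsCanon G (χh : Γ → ℂ) := by
    intro χ χh hext hdet
    refine ⟨χh.2, ?_, ?_⟩
    · have : (fun n : G => (χh : Γ → ℂ) n) = (χ : G → ℂ) := funext hext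
      rw [this]
      exact χ.2
    · rw [hidx, ← hcardS]
      exact hdet.symm
  have hall : ∀ (χh : Γ → ℂ), IsCanon G χh → ∀ (β : Cfsg.IrrCharacter (fixSub G a)) (ε : ℤ),
      (∀ c : fixSub G a, χh ((c : Γ) * a) = (ε : ℂ) * (β : fixSub G a → ℂ) c) →
      ∀ c : fixSub G a, ∀ s : Γ, Subgroup.zpowers s = S →
        χh ((c : Γ) * s) = (ε : ℂ) * (β : fixSub G a → ℂ) c := by
    intro χh hcan β ε h c s hs
    obtain ⟨k, hk, rfl⟩ := hgenS s hs
    rw [canon_fix_mul_pow hcop' hidx hcan c.2 hk]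
    exact h c
  refine ⟨?_, ?_, ?_⟩
  · intro χ χh hinv hext hdet
    have hcan := hcanon χ χh hext hdet
    obtain ⟨β, ε, hε, hstar⟩ := exists_star_eq hcop' hidx hcan
    refine ⟨⟨(β, ε), ⟨hε, hall _ hcan β ε hstar⟩, ?_⟩, ?_⟩
    · rintro ⟨β', ε'⟩ ⟨hε', h'⟩
      have h1 : ∀ c : fixSub G a, (ε' : ℂ) * (β' : fixSub G a → ℂ) c
          = (ε : ℂ) * (β : fixSub G a → ℂ) c := by
        intro c
        rw [← hstar c, ← h' c a hS]
      obtain ⟨hβ, hεε⟩ := star_eq_unique hε' hε h1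
      exact Prod.ext hβ hεε
    · intro β' ε' hε' h'
      have h1 := canon_constituent (a := a)
        (Cfsg.Agent.Lib.Helper3.IsIrrCharacter.isCharacter χh.2) hε' (fun c => h' c a hS)
      have h2 : (fun c : fixSub G a => (χ : G → ℂ) ⟨c, hCG c.2⟩)
          = fun c : fixSub G a => (χh : Γ → ℂ) (c : Γ) := by
        funext c
        exact (hext ⟨c, hCG c.2⟩).symm
      rw [h2]
      exact h1
  · intro χ χ' χh χh' _ _ hext hext' hdet hdet' β ε ε' hε hε' h h'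
    have hcan := hcanon χ χh hext hdet
    have hcan' := hcanon χ' χh' hext' hdet'
    have h1 := canon_injective hcop' hidx hcan hcan' hε hε' (fun c => h c a hS)
      (fun c => h' c a hS)
    apply Subtype.ext
    funext g
    rw [← hext g, ← hext' g]
    exact congrFun h1 g
  · intro β
    obtain ⟨χh, hcan, ε, hε, hstar⟩ := canon_surjective hcop' hidx hgen β
    refine ⟨⟨fun n : G => χh n, hcan.res⟩, ⟨χh, hcan.irr⟩, ε, ?_, fun g => rfl, ?_, hε,
      hall _ hcan β ε hstar⟩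
    · intro s _ g g' hgg'
      show χh g' = χh g
      rw [hgg']
      exact Cfsg.Agent.Lib.Helper3.IsCharacter.isClassFunction
        (Cfsg.Agent.Lib.Helper3.IsIrrCharacter.isCharacter hcan.irr) g s
    · show (Cfsg.detOrder χh).Coprime (Nat.card S)
      rw [hcardS, ← hidx]
      exact hcan.det.symm

end Cfsg.Agent.S4446
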