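import Cfsg.Statements.S4452
import Cfsg.Agent.Lib.Helper15.NormComplement
import Cfsg.Agent.Lib.Helper82.GlaubSolvCount

set_option autoImplicit false
open Cfsg

namespace Cfsg.Agent.S4452

/-- Let the finite group G be the product of a normal subgroup K and a solvable subgroup H of coprime orders, and let N = N_G(H). Then the number of irreducible characters of G of degree coprime to the order of H equals the number of irreducible characters of N of degree coprime to the order of H. (The two sets are in fact in a canonical bijection; only the equality of their sizes is stated here.) -/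
theorem result {G : Type*} [Group G] [Finite G] (K H : Subgroup G) [K.Normal] (hKH : K ⊔ H = ⊤) (hcop : (Nat.card K).Coprime (Nat.card H)) (hsolv : Group.IsSolvable H) : Nat.card {χ : Cfsg.IrrCharacter G // (Cfsg.charDegree (χ : G → ℂ)).Coprime (Nat.card H)} = Nat.card {η : Cfsg.IrrCharacter (Subgroup.normalizer (H : Set G)) // (Cfsg.charDegree (η : Subgroup.normalizer (H : Set G) → ℂ)).Coprime (Nat.card H)} := by
  refine Cfsg.Agent.Lib.Helper15.card_degree_coprime_eq K H hKH hcop ?_
  exact Cfsg.Agent.Lib.Helper82.card_invariant_irr_eq_card_irr_fixed K H
    (K ⊓ Subgroup.centralizer (H : Set G))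
    (fun s _ g hg => ‹K.Normal›.conj_mem g hg s) hcop hsolv rfl

end Cfsg.Agent.S4452
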