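import Cfsg.Statements.S4454
import Cfsg.Agent.S0886
import Cfsg.Agent.Lib.Helper82.FrobSetup
-- import your own Cfsg.Agent.* helpers here

set_option autoImplicit false
set_option linter.style.haveILetI false
open Cfsg

namespace Cfsg.Agent.S4454

open Cfsg.Agent.Lib.Helper82 Cfsg.Agent.Lib.Helper25 Cfsg.Agent.Lib.Helper75
open scoped ComplexConjugate

/-- Let N ≤ G be normal subgroups of the finite group Γ with Γ/G cyclic and Γ/N a Frobenius group with kernel G/N: G ≠ Γ, N ≠ G, and no element of Γ outside G fixes a non-identity coset of N in G under conjugation. Let ϑ be an irreducible character of N invariant under conjugation by Γ and suppose ϑ is fully ramified in G: the character of G induced from ϑ equals e·χ for an irreducible character χ of G and a natural number e. Then the index of G in Γ divides e − 1 or e + 1. -/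
theorem result {Γ : Type*} [Group Γ] [Fintype Γ] (G N : Subgroup Γ) [hG : G.Normal] [hN : N.Normal] [Fintype G] [Fintype N] (hNG : N ≤ G) (hGlt : G ≠ ⊤) (hNlt : N ≠ G) (hcyc : IsCyclic (Γ ⧸ G)) (hfrob : ∀ x : Γ, x ∉ G → ∀ g : Γ, g ∈ G → x * g * x⁻¹ * g⁻¹ ∈ N → g ∈ N) (θ : Cfsg.IrrCharacter N) (hinv : ∀ (x : Γ) (n : N), (θ : N → ℂ) ⟨x * n * x⁻¹, hN.conj_mem n n.2 x⟩ = (θ : N → ℂ) n) (χ : Cfsg.IrrCharacter G) (e : ℕ) (hram : Cfsg.indFun (N.subgroupOf G) (fun n : N.subgroupOf G => (θ : N → ℂ) ⟨(n : G), n.2⟩) = fun g => (e : ℂ) * (χ : G → ℂ) g) : (G.index : ℤ) ∣ (e : ℤ) - 1 ∨ (G.index : ℤ) ∣ (e : ℤ) + 1 := by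
  classical
  haveI hNsub : (N.subgroupOf G).Normal := hN.subgroupOf G
  haveI : Fintype (N.subgroupOf G) := Fintype.ofFinite _
  have hχcl : IsClassFunction G χ.1 :=
    Cfsg.Agent.Lib.Helper3.IsCharacter.isClassFunction
      (Cfsg.Agent.Lib.Helper3.IsIrrCharacter.isCharacter χ.2)
  have hram' : indFun (N.subgroupOf G) (resSub N G θ.1) = fun g => (e : ℂ) * χ.1 g := hram
  -- A : `e χ = c θ` on `N`
  set c : ℂ := (Nat.card (N.subgroupOf G) : ℂ)⁻¹ * (Nat.card G : ℂ) with hc
  have hcconj : conj c = c := by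
    rw [hc, map_mul, map_inv₀, Complex.conj_natCast, Complex.conj_natCast]
  have hc0 : c ≠ 0 := by
    rw [hc]
    have h1 : (Nat.card (N.subgroupOf G) : ℂ) ≠ 0 := by
      have : 0 < Nat.card (N.subgroupOf G) := Nat.card_pos
      exact_mod_cast this.ne'
    have h2 : (Nat.card G : ℂ) ≠ 0 := by
      have : 0 < Nat.card G := Nat.card_pos
      exact_mod_cast this.ne'
    exact mul_ne_zero (inv_ne_zero h1) h2
  have hA : ∀ n : N.subgroupOf G, (e : ℂ) * χ.1 (n : G) = c * θ.1 ⟨(n : G), n.2⟩ := by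
    intro n
    have h1 := indFun_normal_apply G N θ.1 hinv n
    rw [hram'] at h1
    exact h1
  -- B : `e * e = c`
  have hθ0 : IsIrrCharacter (N.subgroupOf G) (resSub N G θ.1) := isIrrCharacter_resSub hNG θ.2
  have hB : (e : ℂ) * e = c := by
    have h1 := frobenius_reciprocity (N.subgroupOf G) (resSub N G θ.1) χ.1 hχcl
    have h2 : classInner (indFun (N.subgroupOf G) (resSub N G θ.1)) χ.1 = e := by
      have : indFun (N.subgroupOf G) (resSub N G θ.1) = (e : ℂ) • χ.1 := by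
        rw [hram']
        rfl
      rw [this, Cfsg.Agent.Lib.Helper25.classInner_smul_left,
        Cfsg.Agent.Lib.Helper3.classInner_irr χ.2 χ.2, if_pos rfl, mul_one]
    have h3 : (e : ℂ) * classInner (resSub N G θ.1) (fun h : N.subgroupOf G => χ.1 h) = c := by
      have h4 : ((e : ℂ) • fun h : N.subgroupOf G => χ.1 h) = c • resSub N G θ.1 := by
        funext n
        exact hA n
      have h5 := Cfsg.Agent.Lib.Helper25.classInner_smul_right (e : ℂ) (resSub N G θ.1)
        (fun h : N.subgroupOf G => χ.1 h)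
      rw [Complex.conj_natCast] at h5
      rw [← h5, h4, Cfsg.Agent.Lib.Helper25.classInner_smul_right, hcconj,
        Cfsg.Agent.Lib.Helper3.classInner_irr hθ0 hθ0, if_pos rfl, mul_one]
    rw [← h1, h2] at h3
    exact h3
  have he0 : (e : ℂ) ≠ 0 := by
    intro h
    rw [h, mul_zero] at hB
    exact hc0 hB.symm
  have hχN : ∀ n : N, χ.1 ⟨n, hNG n.2⟩ = (e : ℂ) * θ.1 n := by
    intro n
    have h1 := hA ⟨⟨n, hNG n.2⟩, n.2⟩
    rw [← hB] at h1
    have h2 : (e : ℂ) * χ.1 ⟨n, hNG n.2⟩ = (e : ℂ) * ((e : ℂ) * θ.1 n) := by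
      rw [← mul_assoc]
      exact h1
    exact mul_left_cancel₀ he0 h2
  -- C : `χ` is invariant
  have hC : ∀ (x : Γ) (g : G), χ.1 ⟨x * g * x⁻¹, hG.conj_mem g g.2 x⟩ = χ.1 g := by
    intro x g
    have h1 := indFun_normal_conj G N θ.1 hinv x g
    rw [hram'] at h1
    exact mul_left_cancel₀ he0 h1
  -- D : the extension
  obtain ⟨ψ, hψ, hψG⟩ := Cfsg.Agent.S0886.result G hcyc χ.1 χ.2 hC
  have hψGirr : IsIrrCharacter G (fun g : G => ψ g) := by
    have : (fun g : G => ψ g) = χ.1 := funext hψG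
    rw [this]
    exact χ.2
  -- the generator
  obtain ⟨q, hq⟩ := IsCyclic.exists_generator (α := Γ ⧸ G)
  obtain ⟨x, rfl⟩ := QuotientGroup.mk_surjective q
  have hx : x ∉ G := by
    intro hxG
    apply hGlt
    rw [eq_top_iff]
    intro y _
    obtain ⟨k, hk⟩ := Subgroup.mem_zpowers_iff.mp (hq (y : Γ ⧸ G))
    have h1 : ((x : Γ) : Γ ⧸ G) = 1 := (QuotientGroup.eq_one_iff x).mpr hxG
    rw [h1, one_zpow] at hk
    exact (QuotientGroup.eq_one_iff y).mp hk.symm
  set M : Subgroup Γ := N ⊔ Subgroup.zpowers x with hM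
  have hNM : N ≤ M := le_sup_left
  haveI : Fintype M := Fintype.ofFinite _
  haveI hN'n : (N.subgroupOf M).Normal := hN.subgroupOf M
  haveI : Fintype (N.subgroupOf M) := Fintype.ofFinite _
  have hcycM : IsCyclic (↥M ⧸ N.subgroupOf M) := isCyclic_quotient_sup_zpowers N x
  have hθ' : IsIrrCharacter (N.subgroupOf M) (resSub N M θ.1) := isIrrCharacter_resSub hNM θ.2
  have hinv' : ∀ (g : M) (n : N.subgroupOf M),
      resSub N M θ.1 ⟨g * n * g⁻¹, hN'n.conj_mem (n : M) n.2 g⟩ = resSub N M θ.1 n := by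
    intro g n
    exact hinv (g : Γ) ⟨((n : M) : Γ), n.2⟩
  obtain ⟨θh, hθh, hθhN⟩ := Cfsg.Agent.S0886.result (N.subgroupOf M) hcycM (resSub N M θ.1) hθ'
    hinv'
  have hθhN' : IsIrrCharacter (N.subgroupOf M) (fun n : N.subgroupOf M => θh n) := by
    have : (fun n : N.subgroupOf M => θh n) = resSub N M θ.1 := funext hθhN
    rw [this]
    exact hθ'
  have hu : IsCharacter M (fun y : M => ψ y) :=
    IsCharacter.comp_hom M.subtype (Cfsg.Agent.Lib.Helper3.IsIrrCharacter.isCharacter hψ)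
  have huN : ∀ n : N.subgroupOf M, (fun y : M => ψ y) n = (e : ℂ) * θh n := by
    intro n
    rw [hθhN n]
    show ψ ((n : M) : Γ) = (e : ℂ) * θ.1 ⟨((n : M) : Γ), n.2⟩
    have h1 := hψG ⟨((n : M) : Γ), hNG n.2⟩
    have h2 := hχN ⟨((n : M) : Γ), n.2⟩
    rw [← h2, ← h1]
  have hidx : (N.subgroupOf M).index = G.index :=
    index_subgroupOf_sup_zpowers G N hNG hfrob hx hq
  have hcomm : ∀ a b : ↥M ⧸ N.subgroupOf M, a * b = b * a := by
    intro a b
    obtain ⟨g, hg⟩ := IsCyclic.exists_generator (α := ↥M ⧸ N.subgroupOf M)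
    obtain ⟨i, rfl⟩ := Subgroup.mem_zpowers_iff.mp (hg a)
    obtain ⟨j, rfl⟩ := Subgroup.mem_zpowers_iff.mp (hg b)
    exact zpow_mul_comm g i j
  -- the norm of the restriction to `M`
  have hθnorm : ∑ n : N, θ.1 n * conj (θ.1 n) = (Nat.card N : ℂ) := by
    have h1 := Cfsg.Agent.Lib.Helper3.classInner_irr θ.2 θ.2
    rw [if_pos rfl] at h1
    unfold classInner at h1
    have hN0 : (Nat.card N : ℂ) ≠ 0 := by
      have : 0 < Nat.card N := Nat.card_pos
      exact_mod_cast this.ne'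
    field_simp at h1
    exact h1
  have hT : ∀ y : M, cosetSq N ψ (y : Γ)
      = (Nat.card N : ℂ) + (if y ∈ N.subgroupOf M then ((e : ℂ) ^ 2 - 1) * (Nat.card N : ℂ) else 0) := by
    intro y
    by_cases hy : y ∈ N.subgroupOf M
    · rw [if_pos hy]
      have hyN : (y : Γ) ∈ N := hy
      have h1 : cosetSq N ψ (y : Γ) = cosetSq N ψ 1 := by
        have := cosetSq_mul_left N ψ ⟨(y : Γ), hyN⟩ 1
        rw [mul_one] at this
        exact this
      rw [h1]
      unfold cosetSq
      have h2 : ∀ n : N, ψ ((n : Γ) * 1) * conj (ψ ((n : Γ) * 1))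
          = (e : ℂ) ^ 2 * (θ.1 n * conj (θ.1 n)) := by
        intro n
        rw [mul_one]
        have h3 := hψG ⟨(n : Γ), hNG n.2⟩
        have h4 : ψ (n : Γ) = (e : ℂ) * θ.1 n := by
          rw [← hχN n]
          exact h3
        rw [h4, map_mul, Complex.conj_natCast]
        ring
      rw [Finset.sum_congr rfl (fun n _ => h2 n), ← Finset.mul_sum, hθnorm]
      ring
    · rw [if_neg hy, add_zero]
      have hyG : (y : Γ) ∉ G := by
        intro h
        exact hy (mem_of_mem_sup_zpowers G N hNG hfrob hx y.2 h)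
      exact cosetSq_eq_card G N hNG hfrob hψ hψGirr hyG
  have hcardN' : (Nat.card (N.subgroupOf M) : ℂ) = (Nat.card N : ℂ) := by
    rw [Nat.card_congr (Subgroup.subgroupOfEquivOfLe hNM).toEquiv]
  have hN0 : (Nat.card N : ℂ) ≠ 0 := by
    have : 0 < Nat.card N := Nat.card_pos
    exact_mod_cast this.ne'
  have hMcard : (Nat.card M : ℂ) = ((N.subgroupOf M).index : ℂ) * (Nat.card N : ℂ) := by
    rw [← hcardN']
    exact_mod_cast (Subgroup.index_mul_card (N.subgroupOf M)).symm
  have hsum : ∑ y : M, (fun y : M => ψ y) y * conj ((fun y : M => ψ y) y)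
      = ((e : ℂ) ^ 2 + ((N.subgroupOf M).index : ℂ) - 1) * (Nat.card (N.subgroupOf M) : ℂ) := by
    have h1 := Cfsg.Agent.Lib.Helper15.sum_coset_avg (N.subgroupOf M)
      (fun y : M => ψ y * conj (ψ y))
    have h2 : ∀ g : M, ∑ n : N.subgroupOf M,
        (fun y : M => ψ y * conj (ψ y)) ((n : M) * g) = cosetSq N ψ (g : Γ) := by
      intro g
      unfold cosetSq
      exact Fintype.sum_equiv (Subgroup.subgroupOfEquivOfLe hNM).toEquiv _ _ (fun n => rfl)
    rw [Finset.sum_congr rfl (fun g _ => h2 g), Finset.sum_congr rfl (fun g _ => hT g),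
      Finset.sum_add_distrib, Finset.sum_const, Finset.card_univ, nsmul_eq_mul,
      ← Finset.sum_filter,
      Finset.sum_subtype (Finset.univ.filter (fun y : M => y ∈ N.subgroupOf M))
        (p := fun y : M => y ∈ N.subgroupOf M) (by intro x; simp),
      Finset.sum_const, Finset.card_univ, nsmul_eq_mul] at h1
    have h3 : (Fintype.card M : ℂ) = (Nat.card M : ℂ) := by rw [Nat.card_eq_fintype_card]
    have h4 : (Fintype.card {y : M // y ∈ N.subgroupOf M} : ℂ) = (Nat.card N : ℂ) := by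
      rw [← hcardN', Nat.card_eq_fintype_card]
    rw [h3, h4, hMcard, hcardN'] at h1
    rw [hcardN']
    have h5 : (Nat.card N : ℂ) * ∑ g : M, ψ g * conj (ψ g)
        = (Nat.card N : ℂ) * (((e : ℂ) ^ 2 + ((N.subgroupOf M).index : ℂ) - 1) * (Nat.card N : ℂ)) := by
      rw [← h1]
      ring
    exact mul_left_cancel₀ hN0 h5
  have hfin := frob_core (N.subgroupOf M) hcomm hθh hθhN' hu e huN hsum
  rw [hidx] at hfin
  exact hfin

end Cfsg.Agent.S4454
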