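import Cfsg.Statements.S4455
import Cfsg.Agent.S0867
import Cfsg.Agent.S0887
import Cfsg.Agent.Lib.Helper2.PResidual2
import Cfsg.Agent.Lib.Helper81.ProdIrr
import Cfsg.Agent.Lib.Helper15.DetChar
import Cfsg.Agent.Lib.Helper75.PGroupSum
import Cfsg.Agent.Lib.Helper75.Constituent
import Cfsg.Agent.Lib.Helper75.Clifford

set_option autoImplicit false
set_option linter.style.haveILetI false
open Cfsg

namespace Cfsg.Agent.S4455

open Cfsg.Agent.Lib.Helper75 Cfsg.Agent.Lib.Helper3
open scoped ComplexConjugate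

universe u
variable {G : Type u} [Group G]

/-- The conjugation action of `G` on the irreducible characters of a normal subgroup. -/
@[reducible] def irrConjAction (N : Subgroup G) [N.Normal] : MulAction G (IrrCharacter N) where
  smul g θ := ⟨conjFun N g⁻¹ θ.1, conjFun_isIrrCharacter N g⁻¹ θ.2⟩
  one_smul θ := by
    apply Subtype.ext
    show conjFun N (1 : G)⁻¹ θ.1 = θ.1
    rw [inv_one, conjFun_one]
  mul_smul g h θ := by
    apply Subtype.ext
    show conjFun N (g * h)⁻¹ θ.1 = conjFun N g⁻¹ (conjFun N h⁻¹ θ.1)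
    rw [conjFun_conjFun, mul_inv_rev]

theorem charDegree_eq_of_apply_one {H : Type*} [Group H] {χ : H → ℂ} {c : ℕ} (h : χ 1 = (c : ℂ)) :
    charDegree χ = c := by
  unfold Cfsg.charDegree
  rw [h]
  simp

/-- Determinantal orders of characters of `O^p(G)` are prime to `p`. -/
theorem not_dvd_detOrder [Finite G] {p : ℕ} (hp : p.Prime) (θ : (Cfsg.pResidual p G) → ℂ) :
    ¬ p ∣ detOrder θ := by
  classical
  have he0 : Nat.card (Cfsg.pResidual p G) ≠ 0 := Nat.card_pos.ne'
  obtain ⟨a, m', hm', he⟩ := Nat.exists_eq_pow_mul_and_not_dvd he0 p hp.ne_one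
  let f : (Cfsg.pResidual p G) →* ℂ := Cfsg.Agent.Lib.Helper15.detCharHom θ
  let K : Subgroup (Cfsg.pResidual p G) := (f ^ m').ker
  have hsub : ∀ x : G, Nat.Coprime (orderOf x) p → x ∈ Cfsg.pResidual p G :=
    fun x hx => Subgroup.subset_closure hx
  have hle : Cfsg.pResidual p G ≤ K.map (Cfsg.pResidual p G).subtype := by
    show Subgroup.closure {g : G | Nat.Coprime (orderOf g) p} ≤ _
    rw [Subgroup.closure_le]
    intro x hx
    have hxN : x ∈ Cfsg.pResidual p G := hsub x hx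
    refine ⟨⟨x, hxN⟩, ?_, rfl⟩
    show (⟨x, hxN⟩ : Cfsg.pResidual p G) ∈ (f ^ m').ker
    rw [MonoidHom.mem_ker]
    show f ⟨x, hxN⟩ ^ m' = 1
    have hord : orderOf (⟨x, hxN⟩ : Cfsg.pResidual p G) = orderOf x := by
      rw [← Subgroup.orderOf_coe]
    have hdvd : orderOf (⟨x, hxN⟩ : Cfsg.pResidual p G) ∣ m' := by
      have h1 : orderOf (⟨x, hxN⟩ : Cfsg.pResidual p G) ∣ p ^ a * m' := by
        rw [← he]; exact orderOf_dvd_natCard _
      have hcop : Nat.Coprime (orderOf (⟨x, hxN⟩ : Cfsg.pResidual p G)) (p ^ a) := by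
        rw [hord]; exact Nat.Coprime.pow_right a hx
      exact hcop.dvd_of_dvd_mul_left h1
    rw [← map_pow, orderOf_dvd_iff_pow_eq_one.mp hdvd, map_one]
  have hall : ∀ n : Cfsg.pResidual p G, Cfsg.detChar θ n ^ m' = 1 := by
    intro n
    obtain ⟨k, hkK, hkn⟩ := hle n.2
    have : k = n := Subtype.ext hkn
    rw [← this]
    have h1 : (f ^ m') k = 1 := MonoidHom.mem_ker.mp hkK
    exact h1
  have hpow : Cfsg.detChar θ ^ m' = 1 := by
    funext n
    rw [Pi.pow_apply, Pi.one_apply]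
    exact hall n
  intro hdvd
  have h1 : detOrder θ ∣ m' := by
    unfold Cfsg.detOrder
    exact orderOf_dvd_of_pow_eq_one hpow
  exact hm' (dvd_trans hdvd h1)

/-- An irreducible character of degree prime to `p` restricts irreducibly to a normal
subgroup of `p`-power index. -/
theorem restrict_irr_of_not_dvd [Fintype G] {p : ℕ} (hp : p.Prime) (N : Subgroup G) [N.Normal]
    {k : ℕ} (hk : N.index = p ^ k) (χ : IrrCharacter G)
    (hχ : ¬ p ∣ charDegree (χ : G → ℂ)) : IsIrrCharacter N (fun n : N => (χ : G → ℂ) n) := by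
  classical
  haveI : Fintype N := Fintype.ofFinite N
  haveI : Finite (IrrCharacter N) := irrCharacter_finite
  haveI := Fintype.ofFinite (IrrCharacter N)
  obtain ⟨c, hc, hcpos, _⟩ := irr_degree_nat χ
  have hcd : charDegree (χ : G → ℂ) = c := charDegree_eq_of_apply_one hc
  rw [hcd] at hχ
  have hres : IsCharacter N (fun n : N => (χ : G → ℂ) n) :=
    IsCharacter.restrict (IsIrrCharacter.isCharacter χ.2) N
  obtain ⟨m, hm, hdec⟩ := IsCharacter.exists_mult hres
  have hex : ∃ θ : IrrCharacter N, m θ ≠ 0 := by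
    by_contra hno
    simp only [not_exists, not_not] at hno
    have h1 : (fun n : N => (χ : G → ℂ) n) 1 = 0 := by
      rw [hdec, Finset.sum_apply]
      exact Finset.sum_eq_zero fun θ _ => by rw [hno θ]; simp
    have h2 : (χ : G → ℂ) 1 = 0 := by simpa using h1
    rw [hc] at h2
    have : c = 0 := by exact_mod_cast h2
    omega
  obtain ⟨θ, hmθ⟩ := hex
  have hcon : classInner (fun n : N => (χ : G → ℂ) n) (θ : N → ℂ) ≠ 0 := by
    rw [hm θ]; exact_mod_cast hmθ
  obtain ⟨d, hd, hdpos, _⟩ := irr_degree_nat θ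
  obtain ⟨hdc, hquot⟩ := Cfsg.Agent.S0887.result N (χ : G → ℂ) χ.2 (θ : N → ℂ) θ.2 hcon c d hc hd
  rw [hk] at hquot
  obtain ⟨j, _, hj⟩ := (Nat.dvd_prime_pow hp).mp hquot
  have hj0 : j = 0 := by
    by_contra hne
    apply hχ
    have h1 : p ∣ c / d := by rw [hj]; exact dvd_pow_self p hne
    exact dvd_trans h1 (Nat.div_dvd_of_dvd hdc)
  rw [hj0, pow_zero] at hj
  have hcdeq : d = c := Nat.eq_of_dvd_of_div_eq_one hdc hj
  have heq : (fun n : N => (χ : G → ℂ) n) = (θ : N → ℂ) := by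
    apply eq_of_constituent_of_degree_le hres θ.2 hcon
    have h1 : (χ : G → ℂ) ((1 : N) : G) = (c : ℂ) := by simpa using hc
    show ((χ : G → ℂ) ((1 : N) : G)).re ≤ ((θ : N → ℂ) 1).re
    rw [h1, hd, hcdeq]
  rw [heq]; exact θ.2

theorem charDegree_restrict (N : Subgroup G) (χ : G → ℂ) :
    charDegree (fun n : N => χ n) = charDegree χ := by
  unfold Cfsg.charDegree
  simp

attribute [local instance] irrConjAction

theorem smul_val (N : Subgroup G) [N.Normal] (g : G) (θ : IrrCharacter N) :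
    (g • θ : IrrCharacter N).1 = conjFun N g⁻¹ θ.1 := rfl

theorem charDegree_smul (N : Subgroup G) [hN : N.Normal] (g : G) (θ : IrrCharacter N) :
    charDegree ((g • θ : IrrCharacter N) : N → ℂ) = charDegree (θ : N → ℂ) := by
  unfold Cfsg.charDegree
  rw [smul_val, conjFun_apply]
  congr 3
  apply congrArg
  apply Subtype.ext
  simp

theorem index_eq_pow [Finite G] (p : ℕ) [Fact p.Prime] :
    ∃ k : ℕ, (Cfsg.pResidual p G).index = p ^ k := by
  haveI := Cfsg.Agent.Lib.Helper2.pResidual_normal (G := G) p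
  have hQ := Cfsg.Agent.Lib.Helper2.isPGroup_quotient_pResidual (G := G) p
  obtain ⟨k, hk⟩ := IsPGroup.iff_card.mp hQ
  exact ⟨k, by rw [Subgroup.index_eq_card]; exact hk⟩

/-- The characters of `O^p(G)` fixed by a Sylow `p`-subgroup are the `G`-invariant ones. -/
theorem mem_fixedPoints_iff [Finite G] {p : ℕ} [Fact p.Prime]
    [hN : (Cfsg.pResidual p G).Normal] (P : Sylow p G) (θ : IrrCharacter (Cfsg.pResidual p G)) :
    θ ∈ MulAction.fixedPoints (P : Subgroup G) (IrrCharacter (Cfsg.pResidual p G)) ↔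
      ∀ (g : G) (n : Cfsg.pResidual p G),
        θ.1 ⟨g * n * g⁻¹, hN.conj_mem n n.2 g⟩ = θ.1 n := by
  rw [MulAction.mem_fixedPoints]
  constructor
  · intro hfix g n
    have hP : ∀ t ∈ (P : Subgroup G), ∀ n : Cfsg.pResidual p G,
        θ.1 ⟨t * n * t⁻¹, hN.conj_mem n n.2 t⟩ = θ.1 n := by
      intro t ht n
      have h1 := hfix ⟨t⁻¹, inv_mem ht⟩
      have h2 : conjFun (Cfsg.pResidual p G) (t⁻¹)⁻¹ θ.1 = θ.1 := congrArg Subtype.val h1
      have h3 := congrFun h2 n
      rw [conjFun_apply] at h3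
      rw [← h3]
      apply congrArg
      apply Subtype.ext
      simp
    have hcf : IsClassFunction (Cfsg.pResidual p G) θ.1 :=
      IsCharacter.isClassFunction (IsIrrCharacter.isCharacter θ.2)
    have hg : g ∈ (P : Subgroup G) ⊔ Cfsg.pResidual p G := by
      rw [Cfsg.Agent.Lib.Helper2.sylow_sup_pResidual]; exact Subgroup.mem_top g
    rw [← SetLike.mem_coe, Subgroup.mul_normal] at hg
    obtain ⟨t, ht, b, hb, rfl⟩ := hg
    let b' : Cfsg.pResidual p G := ⟨b, hb⟩
    have e1 : (⟨t * b * n * (t * b)⁻¹, hN.conj_mem n n.2 (t * b)⟩ : Cfsg.pResidual p G)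
        = ⟨t * ((b' * n * b'⁻¹ : Cfsg.pResidual p G) : G) * t⁻¹,
            hN.conj_mem _ (b' * n * b'⁻¹).2 t⟩ := by
      apply Subtype.ext
      simp [b', mul_assoc]
    rw [e1, hP t ht]
    exact hcf n b'
  · intro hinv s
    apply Subtype.ext
    show conjFun (Cfsg.pResidual p G) ((s : G))⁻¹ θ.1 = θ.1
    funext n
    rw [conjFun_apply]
    exact hinv _ n

/-- Fix a prime p and a finite group G. Let s be the sum of χ(1)² over the irreducible characters χ of G whose degree is not divisible by p and whose determinantal order o(χ) is not divisible by p. Then the order of O^p(G), the subgroup generated by the elements of order prime to p, is congruent to s modulo p. -/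
theorem result {G : Type*} [Group G] [Finite G] (p : ℕ) (hp : p.Prime) : (Nat.card (Cfsg.pResidual p G) : ℤ) ≡ (∑ᶠ χ ∈ {χ : Cfsg.IrrCharacter G | ¬ p ∣ Cfsg.charDegree (χ : G → ℂ) ∧ ¬ p ∣ Cfsg.detOrder (χ : G → ℂ)}, (Cfsg.charDegree (χ : G → ℂ) : ℤ) ^ 2) [ZMOD p] := by
  classical
  haveI : Fact p.Prime := ⟨hp⟩
  haveI := Fintype.ofFinite G
  haveI hN : (Cfsg.pResidual p G).Normal := Cfsg.Agent.Lib.Helper2.pResidual_normal p
  haveI : Fintype (Cfsg.pResidual p G) := Fintype.ofFinite _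
  haveI : Finite (IrrCharacter (Cfsg.pResidual p G)) := irrCharacter_finite
  haveI := Fintype.ofFinite (IrrCharacter (Cfsg.pResidual p G))
  obtain ⟨k, hk⟩ := index_eq_pow (G := G) p
  obtain ⟨P⟩ : Nonempty (Sylow p G) := inferInstance
  -- the two sets
  set A : Set (IrrCharacter G) := {χ : Cfsg.IrrCharacter G | ¬ p ∣ Cfsg.charDegree (χ : G → ℂ) ∧
    ¬ p ∣ Cfsg.detOrder (χ : G → ℂ)} with hA
  let Inv : IrrCharacter (Cfsg.pResidual p G) → Prop := fun θ =>
    ∀ (g : G) (n : Cfsg.pResidual p G),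
      θ.1 ⟨g * n * g⁻¹, hN.conj_mem n n.2 g⟩ = θ.1 n
  let B : Set (IrrCharacter (Cfsg.pResidual p G)) :=
    {θ | Inv θ ∧ ¬ p ∣ Cfsg.charDegree θ.1}
  -- the restriction map
  let e : IrrCharacter G → IrrCharacter (Cfsg.pResidual p G) := fun χ =>
    if h : IsIrrCharacter (Cfsg.pResidual p G) (fun n : Cfsg.pResidual p G => (χ : G → ℂ) n)
    then ⟨_, h⟩ else ⟨fun _ => 1, isIrrCharacter_one⟩
  have he : ∀ χ : IrrCharacter G, ¬ p ∣ Cfsg.charDegree (χ : G → ℂ) →
      ((e χ : IrrCharacter (Cfsg.pResidual p G)) : _ → ℂ) =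
        fun n : Cfsg.pResidual p G => (χ : G → ℂ) n := by
    intro χ hχ
    have h := restrict_irr_of_not_dvd hp (Cfsg.pResidual p G) hk χ hχ
    simp only [e, dif_pos h]
  have hcopidx : ∀ m : ℕ, ¬ p ∣ m → Nat.Coprime (Cfsg.pResidual p G).index m := by
    intro m hm
    rw [hk]
    exact Nat.Coprime.pow_left k ((Nat.Prime.coprime_iff_not_dvd hp).mpr hm)
  -- extension data for invariant characters of degree prime to p
  have hext : ∀ θ : IrrCharacter (Cfsg.pResidual p G), θ ∈ B →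
      ∃ χ : G → ℂ, (Cfsg.IsIrrCharacter G χ ∧ (∀ n : Cfsg.pResidual p G, χ n = θ.1 n) ∧
        Cfsg.detOrder χ = Cfsg.detOrder θ.1) ∧
        ∀ χ' : G → ℂ, Cfsg.IsIrrCharacter G χ' →
          (∀ n : Cfsg.pResidual p G, χ' n = θ.1 n) →
          Nat.Coprime (Cfsg.pResidual p G).index (Cfsg.detOrder χ') → χ' = χ := by
    intro θ hθ
    obtain ⟨d, hd, _, _⟩ := irr_degree_nat θ
    have hdeg : charDegree θ.1 = d := charDegree_eq_of_apply_one hd
    have hcop : Nat.Coprime (Cfsg.pResidual p G).index (Cfsg.detOrder θ.1 * d) := by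
      apply Nat.Coprime.mul_right
      · exact hcopidx _ (not_dvd_detOrder hp _)
      · apply hcopidx; rw [← hdeg]; exact hθ.2
    exact Cfsg.Agent.S0867.result (Cfsg.pResidual p G) θ.1 θ.2 hθ.1 d hd hcop
  have hbij : Set.BijOn e A B := by
    refine ⟨?_, ?_, ?_⟩
    · intro χ hχ
      have h1 := he χ hχ.1
      refine ⟨?_, ?_⟩
      · intro g n
        rw [h1]
        exact IsCharacter.isClassFunction (IsIrrCharacter.isCharacter χ.2) (n : G) g
      · rw [h1, charDegree_restrict]; exact hχ.1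
    · intro χ hχ χ' hχ' hee
      have hB : e χ ∈ B := by
        have h1 := he χ hχ.1
        refine ⟨?_, ?_⟩
        · intro g n
          rw [h1]
          exact IsCharacter.isClassFunction (IsIrrCharacter.isCharacter χ.2) (n : G) g
        · rw [h1, charDegree_restrict]; exact hχ.1
      obtain ⟨χ₀, _, huniq⟩ := hext (e χ) hB
      have e1 : (χ : G → ℂ) = χ₀ :=
        huniq _ χ.2 (fun n => by rw [he χ hχ.1]) (hcopidx _ hχ.2)
      have e2 : (χ' : G → ℂ) = χ₀ :=
        huniq _ χ'.2 (fun n => by rw [hee, he χ' hχ'.1]) (hcopidx _ hχ'.2)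
      exact Subtype.ext (e1.trans e2.symm)
    · intro θ hθ
      obtain ⟨χ₀, ⟨hirr, hres, hdet⟩, _⟩ := hext θ hθ
      have hfun : (fun n : Cfsg.pResidual p G => χ₀ n) = θ.1 := funext hres
      have hdeg : charDegree χ₀ = charDegree θ.1 := by
        rw [← hfun, charDegree_restrict]
      have hmem : (⟨χ₀, hirr⟩ : IrrCharacter G) ∈ A := by
        refine ⟨?_, ?_⟩
        · show ¬ p ∣ charDegree χ₀
          rw [hdeg]; exact hθ.2
        · show ¬ p ∣ detOrder χ₀
          rw [hdet]; exact not_dvd_detOrder hp _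
      refine ⟨⟨χ₀, hirr⟩, hmem, ?_⟩
      apply Subtype.ext
      rw [he _ hmem.1]
      exact hfun
  have hsum1 : ∑ᶠ χ ∈ A, (Cfsg.charDegree (χ : G → ℂ) : ℤ) ^ 2 =
      ∑ᶠ θ ∈ B, (Cfsg.charDegree θ.1 : ℤ) ^ 2 := by
    apply finsum_mem_eq_of_bijOn e hbij
    intro χ hχ
    rw [he χ hχ.1, charDegree_restrict]
  rw [hsum1]
  -- now the congruence on `O^p(G)`
  have hBfin : B = ↑(Finset.univ.filter (fun θ : IrrCharacter (Cfsg.pResidual p G) => θ ∈ B)) := by
    ext θ; simp
  rw [hBfin, finsum_mem_coe_finset]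
  have hcard : Nat.card (Cfsg.pResidual p G) =
      ∑ θ : IrrCharacter (Cfsg.pResidual p G), (charDegree θ.1) ^ 2 :=
    (Cfsg.Agent.Lib.Helper81.sum_charDegree_sq).symm
  have hfix := sum_modEq_sum_fixedPoints (P := (P : Subgroup G))
    (X := IrrCharacter (Cfsg.pResidual p G)) P.2
    (fun θ => (charDegree θ.1) ^ 2)
    (fun g θ => by
      show charDegree ((g : G) • θ : IrrCharacter (Cfsg.pResidual p G)).1 ^ 2 = _
      rw [charDegree_smul])
  rw [← hcard] at hfix
  have hcast : (∑ θ ∈ Finset.univ.filter (fun θ : IrrCharacter (Cfsg.pResidual p G) => θ ∈ B),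
      (Cfsg.charDegree θ.1 : ℤ) ^ 2) =
      ((∑ θ ∈ Finset.univ.filter (fun θ : IrrCharacter (Cfsg.pResidual p G) => θ ∈ B),
        (Cfsg.charDegree θ.1) ^ 2 : ℕ) : ℤ) := by
    push_cast; rfl
  rw [hcast, Int.natCast_modEq_iff]
  refine hfix.trans ?_
  rw [← ZMod.natCast_eq_natCast_iff, Nat.cast_sum, Nat.cast_sum]
  have hfilter : Finset.univ.filter (fun θ : IrrCharacter (Cfsg.pResidual p G) => θ ∈ B) =
      (Finset.univ.filter (fun θ : IrrCharacter (Cfsg.pResidual p G) =>
        θ ∈ MulAction.fixedPoints (P : Subgroup G) (IrrCharacter (Cfsg.pResidual p G)))).filter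
        (fun θ => ¬ p ∣ Cfsg.charDegree θ.1) := by
    ext θ
    simp only [Finset.mem_filter, Finset.mem_univ, true_and]
    rw [mem_fixedPoints_iff]
    exact Iff.rfl
  rw [hfilter]
  conv_rhs => rw [Finset.sum_filter]
  refine Finset.sum_congr rfl fun θ _ => ?_
  by_cases hdiv : p ∣ Cfsg.charDegree θ.1
  · rw [if_neg (not_not.mpr hdiv)]
    have : ((Cfsg.charDegree θ.1 : ℕ) : ZMod p) = 0 :=
      (ZMod.natCast_eq_zero_iff _ _).mpr hdiv
    push_cast
    rw [this]; simp
  · rw [if_pos hdiv]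

end Cfsg.Agent.S4455
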