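import Cfsg.Statements.S4458
import Cfsg.Agent.Lib.Helper80.TaketaTwo
import Cfsg.Agent.Lib.Helper79.Degree

set_option autoImplicit false
set_option linter.style.haveILetI false
open Cfsg

namespace Cfsg.Agent.S4458

/-- If a finite group has exactly two irreducible character degrees, 1 and m with m ≠ 1, then its commutator subgroup is abelian. -/
theorem result {G : Type*} [Group G] [Finite G] (m : ℕ) (hcd : ∀ χ : Cfsg.IrrCharacter G, Cfsg.charDegree (χ : G → ℂ) = 1 ∨ Cfsg.charDegree (χ : G → ℂ) = m) (hm : ∃ χ : Cfsg.IrrCharacter G, Cfsg.charDegree (χ : G → ℂ) = m) (hm1 : m ≠ 1) : ∀ a ∈ commutator G, ∀ b ∈ commutator G, a * b = b * a := by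
  classical
  have := Fintype.ofFinite G
  obtain ⟨χ₀, hχ₀⟩ := hm
  have hm0 : m ≠ 0 := by
    rw [← hχ₀]
    exact (Cfsg.Agent.Lib.Helper80.irr_charDegree_pos χ₀).ne'
  have hcomm_le : ∀ (N : Subgroup G), (∀ x y : G, x * y * x⁻¹ * y⁻¹ ∈ N) → commutator G ≤ N := by
    intro N hN
    rw [commutator_def, Subgroup.commutator_le]
    intro x _ y _
    rw [commutatorElement_def]
    exact hN x y
  rcases Cfsg.Agent.Lib.Helper80.two_degrees_structure m hcd ⟨χ₀, hχ₀⟩ hm1 with
    ⟨A, hAn, hAab, hAidx⟩ | ⟨p, e, hp, hme, P, A, hPn, hAn, hPp, hAab, hinf, hsup⟩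
  · -- an abelian normal subgroup of index m
    haveI := hAn
    have hlin : ∀ ψ : Cfsg.IrrCharacter (G ⧸ A), (ψ : G ⧸ A → ℂ) 1 = 1 := by
      intro ψ
      obtain ⟨χ, hχ⟩ := Cfsg.Agent.Lib.Helper80.charDegree_quotient A ψ
      rcases hcd χ with h | h
      · rw [← Cfsg.Agent.Lib.Helper80.irr_charDegree_cast ψ, ← hχ, h, Nat.cast_one]
      · exfalso
        obtain ⟨n, ρ, hirr, hρ⟩ := ψ.2
        haveI := hirr
        have := Fintype.ofFinite (G ⧸ A)
        have h1 := Cfsg.Agent.Lib.Helper79.finrank_sq_le_card ρ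
        rw [Module.finrank_fin_fun, ← Subgroup.index_eq_card, hAidx] at h1
        have h2 := Cfsg.Agent.Lib.Helper79.rep_character_one ρ
        rw [hρ, ← Cfsg.Agent.Lib.Helper80.irr_charDegree_cast ψ, ← hχ, h] at h2
        have h3 : n = m := by exact_mod_cast h2.symm
        rw [h3] at h1
        have hm2 : 2 ≤ m := by omega
        nlinarith
    have hle := hcomm_le A (Cfsg.Agent.Lib.Helper80.comm_mem_of_quotient_linear A hlin)
    intro a ha b hb
    exact hAab a (hle ha) b (hle hb)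
  · -- a direct product of a p-group and an abelian group
    haveI := hAn
    haveI := hPn
    haveI : Fact p.Prime := ⟨hp⟩
    have hdecomp : ∀ x : G, ∃ y ∈ P, ∃ z ∈ A, y * z = x := by
      intro x
      have hx : x ∈ P ⊔ A := by rw [hsup]; exact Subgroup.mem_top x
      exact Subgroup.mem_sup_of_normal_right.mp hx
    -- commutators lie in P
    have hGP : ∀ x y : G, x * y * x⁻¹ * y⁻¹ ∈ P := by
      intro x y
      obtain ⟨y1, hy1, z1, hz1, rfl⟩ := hdecomp x
      obtain ⟨y2, hy2, z2, hz2, rfl⟩ := hdecomp y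
      rw [← QuotientGroup.eq_one_iff]
      have e1 : ((y1 : G) : G ⧸ P) = 1 := (QuotientGroup.eq_one_iff y1).2 hy1
      have e2 : ((y2 : G) : G ⧸ P) = 1 := (QuotientGroup.eq_one_iff y2).2 hy2
      have e3 : ((z1 * z2 : G) : G ⧸ P) = ((z2 * z1 : G) : G ⧸ P) := by rw [hAab z1 hz1 z2 hz2]
      simp only [QuotientGroup.mk_mul, QuotientGroup.mk_inv, e1, e2, one_mul] at e3 ⊢
      rw [e3]
      group
    have hleP := hcomm_le P hGP
    -- the quotient by A is a p-group
    have hQp : IsPGroup p (G ⧸ A) := by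
      intro x
      obtain ⟨g, rfl⟩ := QuotientGroup.mk_surjective x
      obtain ⟨y, hy, z, hz, rfl⟩ := hdecomp g
      obtain ⟨k, hk⟩ := hPp ⟨y, hy⟩
      refine ⟨k, ?_⟩
      have e1 : ((y * z : G) : G ⧸ A) = ((y : G) : G ⧸ A) := by
        rw [QuotientGroup.mk_mul, (QuotientGroup.eq_one_iff z).2 hz, mul_one]
      rw [e1, ← QuotientGroup.mk_pow]
      have h1 := congrArg Subtype.val hk
      rw [Subgroup.coe_pow, Subgroup.coe_one] at h1
      rw [h1, QuotientGroup.mk_one]
    haveI : Group.IsNilpotent (G ⧸ A) := hQp.isNilpotent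
    have hcdQ : ∀ ψ : Cfsg.IrrCharacter (G ⧸ A), Cfsg.charDegree (ψ : G ⧸ A → ℂ) = 1 ∨
        Cfsg.charDegree (ψ : G ⧸ A → ℂ) = m := by
      intro ψ
      obtain ⟨χ, hχ⟩ := Cfsg.Agent.Lib.Helper80.charDegree_quotient A ψ
      rw [← hχ]
      exact hcd χ
    have hQ := Cfsg.Agent.Lib.Helper80.comm_commutator_of_nilpotent_two_degrees (Q := G ⧸ A) m hcdQ
    have hmap : ∀ a ∈ commutator G, ((a : G) : G ⧸ A) ∈ commutator (G ⧸ A) := by
      intro a ha
      have h1 : (commutator G).map (QuotientGroup.mk' A) ≤ commutator (G ⧸ A) := by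
        rw [commutator_def, Subgroup.map_commutator, commutator_def]
        exact Subgroup.commutator_mono le_top le_top
      exact h1 ⟨a, ha, rfl⟩
    intro a ha b hb
    have h1 : a * b * a⁻¹ * b⁻¹ ∈ A := by
      rw [← QuotientGroup.eq_one_iff]
      have h2 := hQ _ (hmap a ha) _ (hmap b hb)
      simp only [QuotientGroup.mk_mul, QuotientGroup.mk_inv]
      rw [h2]
      group
    have h2 : a * b * a⁻¹ * b⁻¹ ∈ P :=
      P.mul_mem (P.mul_mem (P.mul_mem (hleP ha) (hleP hb)) (P.inv_mem (hleP ha)))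
        (P.inv_mem (hleP hb))
    have h3 : a * b * a⁻¹ * b⁻¹ ∈ P ⊓ A := ⟨h2, h1⟩
    rw [hinf, Subgroup.mem_bot] at h3
    calc a * b = a * b * a⁻¹ * b⁻¹ * (b * a) := by group
      _ = b * a := by rw [h3, one_mul]

end Cfsg.Agent.S4458
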