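import Cfsg.Statements.S4459
import Cfsg.Agent.Lib.Helper80.DegreesOneP2
import Cfsg.Agent.Lib.Helper79.Ito

set_option autoImplicit false
set_option linter.style.haveILetI false
open Cfsg

namespace Cfsg.Agent.S4459

/-- Let G be a non-abelian finite group and p a prime. Then the irreducible character degrees of G are exactly 1 and p if and only if either G has an abelian normal subgroup of index p or the centre of G has index p³. -/
theorem result {G : Type*} [Group G] [Finite G] (hG : ∃ a b : G, a * b ≠ b * a) (p : ℕ) (hp : p.Prime) : ((∀ χ : Cfsg.IrrCharacter G, Cfsg.charDegree (χ : G → ℂ) = 1 ∨ Cfsg.charDegree (χ : G → ℂ) = p) ∧ ∃ χ : Cfsg.IrrCharacter G, Cfsg.charDegree (χ : G → ℂ) = p) ↔ ((∃ A : Subgroup G, A.Normal ∧ (∀ a ∈ A, ∀ b ∈ A, a * b = b * a) ∧ A.index = p) ∨ (Subgroup.center G).index = p ^ 3) := by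
  classical
  have := Fintype.ofFinite G
  have hp0 : 0 < p := hp.pos
  have hex : ∃ χ : Cfsg.IrrCharacter G, (χ : G → ℂ) 1 ≠ 1 := by
    by_contra h
    push Not at h
    obtain ⟨a, b, hab⟩ := hG
    exact hab (Cfsg.Agent.S0855.comm_of_all_linear h a b)
  constructor
  · rintro ⟨hcd, hm⟩
    rcases Cfsg.Agent.Lib.Helper80.two_degrees_structure p hcd hm hp.one_lt.ne' with
      hA | ⟨q, e, hq, hpe, P, A, hPn, hAn, hPp, hAab, hinf, hsup⟩
    · left
      exact hA
    · obtain ⟨rfl, -⟩ := (Nat.Prime.pow_eq_iff hp).mp hpe.symm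
      haveI := hAn
      haveI := hPn
      haveI : Fact q.Prime := ⟨hq⟩
      have hdecomp : ∀ x : G, ∃ y ∈ P, ∃ z ∈ A, y * z = x := by
        intro x
        have hx : x ∈ P ⊔ A := by rw [hsup]; exact Subgroup.mem_top x
        exact Subgroup.mem_sup_of_normal_right.mp hx
      have hGP : ∀ x y : G, x * y * x⁻¹ * y⁻¹ ∈ P := by
        intro x y
        obtain ⟨y1, hy1, z1, hz1, rfl⟩ := hdecomp x
        obtain ⟨y2, hy2, z2, hz2, rfl⟩ := hdecomp y
        rw [← QuotientGroup.eq_one_iff]
        have e1 : ((y1 : G) : G ⧸ P) = 1 := (QuotientGroup.eq_one_iff y1).2 hy1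
        have e2 : ((y2 : G) : G ⧸ P) = 1 := (QuotientGroup.eq_one_iff y2).2 hy2
        have e3 : ((z1 * z2 : G) : G ⧸ P) = ((z2 * z1 : G) : G ⧸ P) := by
          rw [hAab z1 hz1 z2 hz2]
        simp only [QuotientGroup.mk_mul, QuotientGroup.mk_inv, e1, e2, one_mul] at e3 ⊢
        rw [e3]
        group
      have hQp : IsPGroup q (G ⧸ A) := by
        intro x
        obtain ⟨g, rfl⟩ := QuotientGroup.mk_surjective x
        obtain ⟨y, hy, z, hz, rfl⟩ := hdecomp g
        obtain ⟨k, hk⟩ := hPp ⟨y, hy⟩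
        refine ⟨k, ?_⟩
        have e1 : ((y * z : G) : G ⧸ A) = ((y : G) : G ⧸ A) := by
          rw [QuotientGroup.mk_mul, (QuotientGroup.eq_one_iff z).2 hz, mul_one]
        rw [e1, ← QuotientGroup.mk_pow]
        have h1 := congrArg Subtype.val hk
        rw [Subgroup.coe_pow, Subgroup.coe_one] at h1
        rw [h1, QuotientGroup.mk_one]
      have hcdQ : ∀ ψ : Cfsg.IrrCharacter (G ⧸ A), Cfsg.charDegree (ψ : G ⧸ A → ℂ) = 1 ∨
          Cfsg.charDegree (ψ : G ⧸ A → ℂ) = q := by
        intro ψ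
        obtain ⟨χ, hχ⟩ := Cfsg.Agent.Lib.Helper80.charDegree_quotient A ψ
        rw [← hχ]
        exact hcd χ
      -- an element of A ∩ P is trivial
      have htriv : ∀ x y : G, x * y * x⁻¹ * y⁻¹ ∈ A → x * y = y * x := by
        intro x y h
        have h3 : x * y * x⁻¹ * y⁻¹ ∈ P ⊓ A := ⟨hGP x y, h⟩
        rw [hinf, Subgroup.mem_bot] at h3
        calc x * y = x * y * x⁻¹ * y⁻¹ * (y * x) := by group
          _ = y * x := by rw [h3, one_mul]
      have hmk : ∀ x y : G, ((x * y * x⁻¹ * y⁻¹ : G) : G ⧸ A) =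
          (x : G ⧸ A) * (y : G ⧸ A) * (x : G ⧸ A)⁻¹ * (y : G ⧸ A)⁻¹ := by
        intro x y
        simp
      have hcommQ : ∀ x y : G, (x : G ⧸ A) * (y : G ⧸ A) = (y : G ⧸ A) * (x : G ⧸ A) →
          x * y = y * x := by
        intro x y h
        apply htriv
        rw [← QuotientGroup.eq_one_iff, hmk, h]
        group
      have hQnonab : ∃ a b : G ⧸ A, a * b ≠ b * a := by
        obtain ⟨a, b, hab⟩ := hG
        exact ⟨a, b, fun h => hab (hcommQ a b h)⟩
      rcases Cfsg.Agent.Lib.Helper80.degrees_one_p_pgroup q hp hQp hcdQ hQnonab with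
        ⟨B, hBn, hBab, hBidx⟩ | hcenQ
      · left
        refine ⟨B.comap (QuotientGroup.mk' A), hBn.comap _, ?_, ?_⟩
        · intro x hx y hy
          exact hcommQ x y (hBab _ hx _ hy)
        · rw [Subgroup.index_comap_of_surjective _ (QuotientGroup.mk'_surjective A), hBidx]
      · right
        have hcenter : Subgroup.center G =
            (Subgroup.center (G ⧸ A)).comap (QuotientGroup.mk' A) := by
          ext z
          rw [Subgroup.mem_comap, Subgroup.mem_center_iff, Subgroup.mem_center_iff]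
          constructor
          · intro h x
            obtain ⟨g, rfl⟩ := QuotientGroup.mk_surjective x
            show (g : G ⧸ A) * (z : G ⧸ A) = (z : G ⧸ A) * (g : G ⧸ A)
            rw [← QuotientGroup.mk_mul, ← QuotientGroup.mk_mul, h g]
          · intro h g
            exact hcommQ g z (h (g : G ⧸ A))
        rw [hcenter, Subgroup.index_comap_of_surjective _ (QuotientGroup.mk'_surjective A), hcenQ]
  · intro h
    have hcd : ∀ χ : Cfsg.IrrCharacter G, Cfsg.charDegree (χ : G → ℂ) = 1 ∨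
        Cfsg.charDegree (χ : G → ℂ) = p := by
      intro χ
      rcases h with ⟨A, hAn, hAab, hAidx⟩ | hcen
      · haveI := hAn
        have h1 := Cfsg.Agent.Lib.Helper79.ito_aux _ G rfl A hAab (χ : G → ℂ) χ.2 _
          (Cfsg.Agent.Lib.Helper80.irr_charDegree_cast χ).symm
        rw [hAidx] at h1
        exact (Nat.dvd_prime hp).1 h1
      · have h1 := Cfsg.Agent.Lib.Helper80.charDegree_dvd_index_center χ
        have h2 := Cfsg.Agent.Lib.Helper80.charDegree_sq_le_index_center χ
        rw [hcen] at h1 h2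
        obtain ⟨k, hk, hkeq⟩ := (Nat.dvd_prime_pow hp).1 h1
        rw [hkeq] at h2 ⊢
        rw [← pow_mul] at h2
        have h3 : k * 2 ≤ 3 := (Nat.pow_le_pow_iff_right hp.one_lt).mp h2
        have h4 : k = 0 ∨ k = 1 := by omega
        rcases h4 with h4 | h4
        · left; rw [h4, pow_zero]
        · right; rw [h4, pow_one]
    refine ⟨hcd, ?_⟩
    obtain ⟨χ, hχ⟩ := hex
    refine ⟨χ, ?_⟩
    rcases hcd χ with h1 | h1
    · exfalso
      apply hχ
      rw [← Cfsg.Agent.Lib.Helper80.irr_charDegree_cast χ, h1, Nat.cast_one]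
    · exact h1

end Cfsg.Agent.S4459
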