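import Cfsg.Statements.S4750
import Cfsg.Agent.Lib.Helper97.ValLattice
import Cfsg.Agent.Lib.Helper3.Burnside
import Cfsg.Agent.Lib.Helper3.CharOps
import Cfsg.Agent.Lib.Helper15.IrrCrit
import Cfsg.Agent.Lib.Helper81.OneIrr

set_option autoImplicit false
open scoped Pointwise
open Cfsg
open scoped ComplexConjugate

namespace Cfsg.Agent.S4750

open Cfsg.Agent.Lib.Helper81 Cfsg.Agent.Lib.Helper3

/-- semiregularity of a TI Sylow subgroup on the nontrivial cosets of an overgroup of its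
normalizer -/
theorem semiregular {G : Type*} [Group G] [Finite G] (p : ℕ) [Fact p.Prime] (P : Sylow p G)
    (hTI : ∀ g : G, g ∉ Subgroup.normalizer ((P : Subgroup G) : Set G) →
      (P : Subgroup G) ⊓ (MulAut.conj g • (P : Subgroup G)) = ⊥)
    (H : Subgroup G) (hH : Subgroup.normalizer ((P : Subgroup G) : Set G) ≤ H) :
    ∀ g : G, g ∉ H → ∀ u ∈ (P : Subgroup G), g⁻¹ * u * g ∈ H → u = 1 := by
  intro g hg u hu hconj
  have hPH : (P : Subgroup G) ≤ H := le_trans Subgroup.le_normalizer hH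
  -- the `p`-element `g⁻¹ u g` of `H` lies in an `H`-conjugate of `P`
  let u' : ↥H := ⟨g⁻¹ * u * g, hconj⟩
  have hu'p : IsPGroup p (Subgroup.zpowers u') := by
    obtain ⟨k, hk⟩ := (IsPGroup.iff_orderOf.mp P.isPGroup') ⟨u, hu⟩
    apply IsPGroup.iff_orderOf.mpr
    intro x
    have h1 : orderOf u' = orderOf u := by
      have h2 : orderOf (u' : G) = orderOf u := by
        show orderOf (g⁻¹ * u * g) = orderOf u
        have h3 : g⁻¹ * u * g = MulAut.conj g⁻¹ u := by simp
        rw [h3]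
        exact orderOf_injective (MulAut.conj g⁻¹).toMonoidHom (MulAut.conj g⁻¹).injective u
      rw [← h2, Subgroup.orderOf_coe]
    have h4 : orderOf (⟨u, hu⟩ : ↥(P : Subgroup G)) = orderOf u := by
      rw [← Subgroup.orderOf_coe]
    have h5 : orderOf u' = p ^ k := by rw [h1, ← h4, hk]
    have h6 : orderOf (x : ↥H) ∣ orderOf u' := by
      obtain ⟨y, hy⟩ := x
      obtain ⟨j, rfl⟩ := Subgroup.mem_zpowers_iff.mp hy
      exact orderOf_dvd_of_pow_eq_one (by
        rw [← zpow_natCast, ← zpow_mul, mul_comm, zpow_mul, zpow_natCast, pow_orderOf_eq_one,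
          one_zpow])
    rw [h5] at h6
    obtain ⟨j, -, hj⟩ := (Nat.dvd_prime_pow Fact.out).mp h6
    refine ⟨j, ?_⟩
    rw [← hj, Subgroup.orderOf_coe]
  obtain ⟨Q', hQ'⟩ := hu'p.exists_le_sylow
  let P' : Sylow p ↥H := P.subtype hPH
  obtain ⟨h, hh⟩ := MulAction.exists_smul_eq ↥H P' Q'
  have hu'Q : u' ∈ (Q' : Subgroup ↥H) := hQ' (Subgroup.mem_zpowers u')
  rw [← hh, Sylow.coe_subgroup_smul, Subgroup.mem_pointwise_smul_iff_inv_smul_mem] at hu'Q
  have h7 : (MulAut.conj h)⁻¹ • u' ∈ (P' : Subgroup ↥H) := hu'Q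
  rw [Sylow.coe_subtype, Subgroup.mem_subgroupOf] at h7
  have h8 : (h : G)⁻¹ * (g⁻¹ * u * g) * (h : G) ∈ (P : Subgroup G) := by
    have : (((MulAut.conj h)⁻¹ • u' : ↥H) : G) = (h : G)⁻¹ * (g⁻¹ * u * g) * (h : G) := by
      rw [← map_inv, MulAut.smul_def, MulAut.conj_apply]
      simp [u']
    rw [← this]
    exact h7
  by_cases hn : g * (h : G) ∈ Subgroup.normalizer ((P : Subgroup G) : Set G)
  · exfalso
    apply hg
    have h9 := H.mul_mem (hH hn) (H.inv_mem h.2)
    simpa using h9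
  · have h10 := hTI _ hn
    have h11 : u ∈ (P : Subgroup G) ⊓ (MulAut.conj (g * (h : G)) • (P : Subgroup G)) := by
      refine ⟨hu, ?_⟩
      show u ∈ MulAut.conj (g * (h : G)) • (P : Subgroup G)
      rw [Subgroup.mem_pointwise_smul_iff_inv_smul_mem, MulAut.smul_def, ← map_inv,
        MulAut.conj_apply]
      have : (g * (h : G))⁻¹ * u * (g * (h : G))⁻¹⁻¹ = (h : G)⁻¹ * (g⁻¹ * u * g) * (h : G) := by
        simp [mul_assoc]
      rw [this]
      exact h8
    rw [h10, Subgroup.mem_bot] at h11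
    exact h11

/-- a nontrivial irreducible constituent of the permutation character on `G / H` has degree at
least `|P|` -/
theorem card_le_charDegree {G : Type*} [Group G] [Fintype G] (p : ℕ) [Fact p.Prime] (P : Sylow p G)
    (hTI : ∀ g : G, g ∉ Subgroup.normalizer ((P : Subgroup G) : Set G) →
      (P : Subgroup G) ⊓ (MulAut.conj g • (P : Subgroup G)) = ⊥)
    (H : Subgroup G) [Fintype ↥H] (hH : Subgroup.normalizer ((P : Subgroup G) : Set G) ≤ H)
    (ψ : IrrCharacter G) (hψ1 : ψ ≠ oneIrr G) (hsum : ∑ h : ↥H, (ψ : G → ℂ) h ≠ 0) :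
    Nat.card ↥(P : Subgroup G) ≤ charDegree (ψ : G → ℂ) := by
  classical
  obtain ⟨n, ρ, hρ, hχρ⟩ := ψ.2
  have hfr : Module.finrank ℂ (Fin n → ℂ) = n := by simp
  have h1 : (ψ : G → ℂ) 1 = (n : ℂ) := by rw [← hχρ, Representation.char_one, hfr]
  have hdegn : charDegree (ψ : G → ℂ) = n := charDegree_eq_of_apply_one h1
  rw [hdegn]
  have hPH : (P : Subgroup G) ≤ H := le_trans Subgroup.le_normalizer hH
  -- the averaging operator
  let E : (Fin n → ℂ) →ₗ[ℂ] (Fin n → ℂ) := ∑ h : ↥H, ρ (h : G)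
  have hE : E ≠ 0 := by
    intro h0
    apply hsum
    have h2 : LinearMap.trace ℂ (Fin n → ℂ) E = ∑ h : ↥H, (ψ : G → ℂ) h := by
      rw [map_sum]
      apply Finset.sum_congr rfl
      intro h _
      rw [← hχρ]
      rfl
    rw [← h2, h0, map_zero]
  obtain ⟨x, hx⟩ : ∃ x, E x ≠ 0 := by
    by_contra hall
    push Not at hall
    exact hE (LinearMap.ext hall)
  have hfix : ∀ h ∈ H, ρ h (E x) = E x := by
    intro h hh
    show ρ h ((∑ k : ↥H, ρ (k : G)) x) = (∑ k : ↥H, ρ (k : G)) x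
    rw [LinearMap.sum_apply, map_sum]
    have h2 : ∑ k : ↥H, ρ h (ρ (k : G) x) = ∑ k : ↥H, ρ (((⟨h, hh⟩ : ↥H) * k : ↥H) : G) x := by
      apply Finset.sum_congr rfl
      intro k _
      rw [Subgroup.coe_mul, map_mul, Module.End.mul_apply]
    rw [h2]
    exact Fintype.sum_equiv (Equiv.mulLeft (⟨h, hh⟩ : ↥H)) _ _ (fun k => rfl)
  have hnt : ¬ ∀ g, ρ g = 1 := by
    intro hall
    apply hψ1
    apply Subtype.ext
    rw [← hχρ]
    exact character_eq_one_of_forall_eq_id ρ hρ hall
  exact Cfsg.Agent.Lib.Helper97.ValLattice.card_le_of_fixed ρ hρ hnt (P : Subgroup G) H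
    P.isPGroup' hPH (semiregular p P hTI H hH) (E x) hx hfix

/-- Let P be a Sylow p-subgroup of the finite group G that meets each conjugate g P g⁻¹ with g outside N_G(P) trivially, χ a character of G with χ(1)² ≤ |P|, and H a subgroup of G containing N_G(P). Then the inner product of χ with itself over G equals the inner product over H of the restriction of χ to H. -/
theorem result {G : Type*} [Group G] [Fintype G] [DecidableEq G] (p : ℕ) [Fact p.Prime] (P : Sylow p G) (hTI : ∀ g : G, g ∉ Subgroup.normalizer ((P : Subgroup G) : Set G) → (P : Subgroup G) ⊓ (MulAut.conj g • (P : Subgroup G)) = ⊥) (χ : G → ℂ) (hχ : Cfsg.IsCharacter G χ) (hdeg : Cfsg.charDegree χ ^ 2 ≤ Nat.card ↥(P : Subgroup G)) (H : Subgroup G) [Fintype ↥H] (hH : Subgroup.normalizer ((P : Subgroup G) : Set G) ≤ H) : Cfsg.classInner χ χ = Cfsg.classInner (fun h : ↥H => χ h) (fun h : ↥H => χ h) := by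
  classical
  have := finite_irrCharacter (G := G)
  have := Fintype.ofFinite (IrrCharacter G)
  set θ : G → ℂ := χ * (fun g => conj (χ g)) with hθ
  have hθc : IsCharacter G θ := IsCharacter.mul hχ (IsCharacter.conj hχ)
  obtain ⟨m, hm, hdec⟩ := Cfsg.Agent.Lib.Helper15.exists_nat_decomp hθc
  -- the degree of `χ`
  obtain ⟨d, hd⟩ : ∃ d : ℕ, χ 1 = (d : ℂ) := by
    obtain ⟨n, ρ, rfl⟩ := hχ
    exact ⟨n, by simp⟩
  have hdd : charDegree χ = d := charDegree_eq_of_apply_one hd
  rw [hdd] at hdeg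
  -- left side
  have hL : classInner χ χ = (m (oneIrr G) : ℂ) := by
    rw [← hm (oneIrr G)]
    unfold classInner
    congr 1
    apply Finset.sum_congr rfl
    intro g _
    simp [hθ, oneIrr_apply]
  -- right side
  have hR : classInner (fun h : ↥H => χ h) (fun h : ↥H => χ h) =
      ∑ ψ : IrrCharacter G,
        (m ψ : ℂ) * ((Nat.card ↥H : ℂ)⁻¹ * ∑ h : ↥H, (ψ : G → ℂ) h) := by
    unfold classInner
    have h1 : ∀ h : ↥H, χ h * conj (χ h) = ∑ ψ : IrrCharacter G, (m ψ : ℂ) * (ψ : G → ℂ) h := by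
      intro h
      have h2 := congrFun hdec (h : G)
      simp only [hθ, Pi.mul_apply, Finset.sum_apply, Pi.smul_apply, smul_eq_mul] at h2
      exact h2
    simp only [h1]
    rw [Finset.sum_comm, Finset.mul_sum]
    apply Finset.sum_congr rfl
    intro ψ _
    rw [← Finset.mul_sum]
    ring
  rw [hL, hR]
  -- degrees
  have hdegsum : d ^ 2 = ∑ ψ : IrrCharacter G, m ψ * charDegree (ψ : G → ℂ) := by
    have h2 := congrFun hdec 1
    simp only [hθ, Pi.mul_apply, Finset.sum_apply, Pi.smul_apply, smul_eq_mul] at h2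
    rw [hd] at h2
    have h3 : (((d ^ 2 : ℕ)) : ℂ) =
        ((∑ ψ : IrrCharacter G, m ψ * charDegree (ψ : G → ℂ) : ℕ) : ℂ) := by
      push_cast
      rw [pow_two]
      have h4 : (starRingEnd ℂ) (d : ℂ) = (d : ℂ) := Complex.conj_natCast d
      rw [h4] at h2
      rw [h2]
      apply Finset.sum_congr rfl
      intro ψ _
      rw [irr_apply_one_eq_charDegree]
    exact_mod_cast h3
  have hterm : ∀ ψ : IrrCharacter G, ψ ≠ oneIrr G →
      (m ψ : ℂ) * ((Nat.card ↥H : ℂ)⁻¹ * ∑ h : ↥H, (ψ : G → ℂ) h) = 0 := by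
    intro ψ hψ
    by_cases hmψ : m ψ = 0
    · rw [hmψ]; simp
    by_cases hs : ∑ h : ↥H, (ψ : G → ℂ) h = 0
    · rw [hs]; simp
    exfalso
    have hcard := card_le_charDegree p P hTI H hH ψ hψ hs
    have hpair : m (oneIrr G) * charDegree ((oneIrr G : IrrCharacter G) : G → ℂ) +
        m ψ * charDegree (ψ : G → ℂ) ≤ d ^ 2 := by
      rw [hdegsum]
      have h5 : ∑ φ ∈ ({oneIrr G, ψ} : Finset (IrrCharacter G)),
          m φ * charDegree (φ : G → ℂ) =
          m (oneIrr G) * charDegree ((oneIrr G : IrrCharacter G) : G → ℂ) +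
            m ψ * charDegree (ψ : G → ℂ) := by
        rw [Finset.sum_pair (Ne.symm hψ)]
      rw [← h5]
      exact Finset.sum_le_sum_of_subset (Finset.subset_univ _)
    have hone : charDegree ((oneIrr G : IrrCharacter G) : G → ℂ) = 1 := by
      apply charDegree_eq_of_apply_one
      simp [oneIrr_apply]
    rw [hone, mul_one] at hpair
    have hmψ1 : 1 ≤ m ψ := Nat.one_le_iff_ne_zero.mpr hmψ
    have h6 : Nat.card ↥(P : Subgroup G) ≤ m ψ * charDegree (ψ : G → ℂ) :=
      le_trans hcard (Nat.le_mul_of_pos_left _ hmψ1)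
    have hPpos : 0 < Nat.card ↥(P : Subgroup G) := Nat.card_pos
    -- the trivial character occurs in `θ`
    have hm1 : 1 ≤ m (oneIrr G) := by
      apply Nat.one_le_iff_ne_zero.mpr
      intro h0
      have h7 : classInner χ χ = 0 := by rw [hL, h0]; simp
      unfold classInner at h7
      have hG0 : (Nat.card G : ℂ)⁻¹ ≠ 0 := by
        apply inv_ne_zero
        exact_mod_cast Nat.card_pos.ne'
      have h8 : ∑ g : G, χ g * conj (χ g) = 0 := (mul_eq_zero.mp h7).resolve_left hG0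
      have h9 : ∑ g : G, Complex.normSq (χ g) = 0 := by
        have h10 : ((∑ g : G, Complex.normSq (χ g) : ℝ) : ℂ) = 0 := by
          push_cast
          rw [← h8]
          apply Finset.sum_congr rfl
          intro g _
          rw [Complex.mul_conj]
        exact_mod_cast h10
      have h11 := (Finset.sum_eq_zero_iff_of_nonneg (fun g _ => Complex.normSq_nonneg (χ g))).mp h9
        1 (Finset.mem_univ _)
      rw [Complex.normSq_eq_zero, hd] at h11
      have hd0 : d = 0 := by exact_mod_cast h11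
      rw [hd0] at hpair
      omega
    omega
  rw [← Finset.add_sum_erase Finset.univ _ (Finset.mem_univ (oneIrr G)),
    Finset.sum_eq_zero (fun ψ hψ => hterm ψ (Finset.ne_of_mem_erase hψ)), add_zero]
  have hH0 : (Nat.card ↥H : ℂ) ≠ 0 := by exact_mod_cast Nat.card_pos.ne'
  simp only [oneIrr_apply, Finset.sum_const, Finset.card_univ, nsmul_eq_mul, mul_one]
  rw [← Nat.card_eq_fintype_card, inv_mul_cancel₀ hH0, mul_one]

end Cfsg.Agent.S4750
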