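import Cfsg.Statements.S4464
import Cfsg.Agent.S0966
import Cfsg.Agent.S0855
import Cfsg.Agent.S4750
import Cfsg.Agent.Lib.Helper74.DZ4
import Cfsg.Agent.Lib.Helper79.Basic

set_option autoImplicit false
open scoped Pointwise
open Cfsg
open scoped ComplexConjugate

namespace Cfsg.Agent.S4464

open Cfsg.Agent.Lib.Helper81 Cfsg.Agent.Lib.Helper3

universe u

/-- all irreducible character degrees are smaller than `p` -/
def Small (p : ℕ) (G : Type u) [Group G] : Prop :=
  ∀ χ : IrrCharacter G, charDegree (χ : G → ℂ) < p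

theorem small_subgroup {G : Type u} [Group G] [Finite G] {p : ℕ} (h : Small p G)
    (H : Subgroup G) : Small p ↥H := by
  classical
  intro ψ
  have := Fintype.ofFinite G
  have := Fintype.ofFinite ↥H
  have := finite_irrCharacter (G := ↥H)
  have := Fintype.ofFinite (IrrCharacter ↥H)
  obtain ⟨χ, hχ⟩ := Cfsg.Agent.S0966.exists_over H ψ
  have hφ : IsCharacter ↥H (fun n : ↥H => (χ : G → ℂ) n) :=
    Cfsg.Agent.Lib.Helper79.isCharacter_restrict (IsIrrCharacter.isCharacter χ.2) H
  obtain ⟨m, hm, hdec⟩ := Cfsg.Agent.Lib.Helper15.exists_nat_decomp hφ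
  have hmψ : m ψ ≠ 0 := by
    intro h0
    apply hχ
    rw [hm ψ, h0]
    simp
  have h1 := congrFun hdec 1
  simp only [Finset.sum_apply, Pi.smul_apply, smul_eq_mul, OneMemClass.coe_one] at h1
  have h2 : (charDegree (χ : G → ℂ) : ℂ) =
      ((∑ φ : IrrCharacter ↥H, m φ * charDegree (φ : ↥H → ℂ) : ℕ) : ℂ) := by
    rw [← irr_apply_one_eq_charDegree, h1]
    push_cast
    apply Finset.sum_congr rfl
    intro φ _
    rw [irr_apply_one_eq_charDegree]
  have h3 : charDegree (χ : G → ℂ) = ∑ φ : IrrCharacter ↥H, m φ * charDegree (φ : ↥H → ℂ) := by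
    exact_mod_cast h2
  have h4 : m ψ * charDegree (ψ : ↥H → ℂ) ≤ charDegree (χ : G → ℂ) := by
    rw [h3]
    exact Finset.single_le_sum (f := fun φ : IrrCharacter ↥H => m φ * charDegree (φ : ↥H → ℂ))
      (fun _ _ => Nat.zero_le _) (Finset.mem_univ ψ)
  have h5 : charDegree (ψ : ↥H → ℂ) ≤ m ψ * charDegree (ψ : ↥H → ℂ) :=
    Nat.le_mul_of_pos_left _ (Nat.pos_of_ne_zero hmψ)
  exact lt_of_le_of_lt (le_trans h5 h4) (h χ)

theorem small_quotient {G : Type u} [Group G] {p : ℕ} (h : Small p G)
    (N : Subgroup G) [N.Normal] : Small p (G ⧸ N) := by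
  intro ψ
  let χ : IrrCharacter G := ⟨fun g : G => (ψ : G ⧸ N → ℂ) (g : G ⧸ N),
    Cfsg.Agent.Lib.Helper79.isIrrCharacter_inflate N ψ.2⟩
  have h1 : charDegree (χ : G → ℂ) = charDegree (ψ : G ⧸ N → ℂ) := by
    unfold charDegree
    rfl
  rw [← h1]
  exact h χ

/-- a Sylow `p`-subgroup of a group with small degrees is abelian -/
theorem sylow_comm {G : Type u} [Group G] [Finite G] {p : ℕ} [Fact p.Prime] (h : Small p G)
    (P : Sylow p G) (a b : G) (ha : a ∈ (P : Subgroup G)) (hb : b ∈ (P : Subgroup G)) :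
    a * b = b * a := by
  have hp : p.Prime := Fact.out
  have hs := small_subgroup h (P : Subgroup G)
  have := Fintype.ofFinite ↥(P : Subgroup G)
  have hlin : ∀ ψ : IrrCharacter ↥(P : Subgroup G), (ψ : ↥(P : Subgroup G) → ℂ) 1 = 1 := by
    intro ψ
    have h1 := Cfsg.Agent.Lib.Helper74.irr_charDegree_dvd_card ψ
    obtain ⟨k, hk⟩ := IsPGroup.iff_card.mp P.isPGroup'
    rw [hk] at h1
    obtain ⟨j, -, hj⟩ := (Nat.dvd_prime_pow hp).mp h1
    have h2 := hs ψ
    rw [hj] at h2
    have hj0 : j = 0 := by
      by_contra hj0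
      have : p ^ 1 ≤ p ^ j := Nat.pow_le_pow_right hp.pos (Nat.one_le_iff_ne_zero.mpr hj0)
      rw [pow_one] at this
      omega
    rw [irr_apply_one_eq_charDegree, hj, hj0, pow_zero]
    simp
  have h3 := Cfsg.Agent.S0855.comm_of_all_linear hlin ⟨a, ha⟩ ⟨b, hb⟩
  exact congrArg Subtype.val h3

/-- a non-normal TI Sylow subgroup forces a large character degree -/
theorem exists_large_of_TI {G : Type u} [Group G] [Finite G] (p : ℕ) [Fact p.Prime] (P : Sylow p G)
    (hTI : ∀ g : G, g ∉ Subgroup.normalizer ((P : Subgroup G) : Set G) →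
      (P : Subgroup G) ⊓ (MulAut.conj g • (P : Subgroup G)) = ⊥)
    (hnn : ¬ (P : Subgroup G).Normal) :
    ∃ ψ : IrrCharacter G, Nat.card ↥(P : Subgroup G) ≤ charDegree (ψ : G → ℂ) := by
  classical
  have := Fintype.ofFinite G
  have := finite_irrCharacter (G := G)
  have := Fintype.ofFinite (IrrCharacter G)
  set N := Subgroup.normalizer ((P : Subgroup G) : Set G) with hN
  have := Fintype.ofFinite ↥N
  have hNtop : N ≠ ⊤ := by
    intro h
    exact hnn (Subgroup.normalizer_eq_top_iff.mp h)
  -- some nontrivial irreducible character has a nonzero sum over `N`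
  have hex : ∃ ψ : IrrCharacter G, ψ ≠ oneIrr G ∧ ∑ h : ↥N, (ψ : G → ℂ) h ≠ 0 := by
    by_contra hall
    push Not at hall
    apply hNtop
    have h1 : ∑ ψ : IrrCharacter G, (ψ : G → ℂ) 1 * ∑ h : ↥N, (ψ : G → ℂ) h = (Nat.card G : ℂ) := by
      simp only [Finset.mul_sum]
      rw [Finset.sum_comm]
      rw [← Finset.add_sum_erase Finset.univ _ (Finset.mem_univ (1 : ↥N))]
      have h2 : ∑ h ∈ (Finset.univ : Finset ↥N).erase 1,
          ∑ ψ : IrrCharacter G, (ψ : G → ℂ) 1 * (ψ : G → ℂ) h = 0 := by
        apply Finset.sum_eq_zero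
        intro h hh
        apply sum_irr_deg_mul_of_ne_one
        intro h1
        exact (Finset.ne_of_mem_erase hh) (Subtype.ext h1)
      rw [h2, add_zero]
      exact sum_irr_deg_mul_one
    rw [← Finset.add_sum_erase Finset.univ _ (Finset.mem_univ (oneIrr G))] at h1
    have h3 : ∑ ψ ∈ (Finset.univ : Finset (IrrCharacter G)).erase (oneIrr G),
        (ψ : G → ℂ) 1 * ∑ h : ↥N, (ψ : G → ℂ) h = 0 := by
      apply Finset.sum_eq_zero
      intro ψ hψ
      rw [hall ψ (Finset.ne_of_mem_erase hψ), mul_zero]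
    rw [h3, add_zero] at h1
    simp only [oneIrr_apply, Finset.sum_const, Finset.card_univ, nsmul_eq_mul, mul_one,
      one_mul] at h1
    have h4 : Fintype.card ↥N = Nat.card G := by exact_mod_cast h1
    rw [← Nat.card_eq_fintype_card] at h4
    exact Subgroup.card_eq_iff_eq_top N |>.mp h4
  obtain ⟨ψ, hψ1, hψs⟩ := hex
  exact ⟨ψ, Cfsg.Agent.S4750.card_le_charDegree p P hTI N le_rfl ψ hψ1 hψs⟩

/-- Sylow subgroups of groups with small degrees are normal -/
theorem main (p : ℕ) [Fact p.Prime] : ∀ (n : ℕ) (G : Type u) [Group G] [Finite G],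
    Nat.card G = n → Small p G → ∀ P : Sylow p G, (P : Subgroup G).Normal := by
  intro n
  induction n using Nat.strong_induction_on with
  | _ n ih =>
    intro G _ _ hn hs P
    have hp : p.Prime := Fact.out
    by_contra hnn
    have hcomm := sylow_comm hs P
    -- two distinct Sylow subgroups generate `G`
    have hgen : ∀ g : G, g ∉ Subgroup.normalizer ((P : Subgroup G) : Set G) →
        (P : Subgroup G) ⊔ (MulAut.conj g • (P : Subgroup G)) = ⊤ := by
      intro g hg
      by_contra hK
      set K := (P : Subgroup G) ⊔ (MulAut.conj g • (P : Subgroup G)) with hKdef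
      have hcardK : Nat.card ↥K < n := by
        rw [← hn]
        exact lt_of_le_of_ne (Subgroup.card_le_card_group K)
          (fun h => hK ((Subgroup.card_eq_iff_eq_top K).mp h))
      have hsK := small_subgroup hs K
      have hQK : ((g • P : Sylow p G) : Subgroup G) ≤ K := by
        rw [Sylow.coe_subgroup_smul]
        exact le_sup_right
      let P' : Sylow p ↥K := P.subtype le_sup_left
      let Q' : Sylow p ↥K := (g • P).subtype hQK
      have hP'n : (P' : Subgroup ↥K).Normal := ih _ hcardK ↥K rfl hsK P'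
      obtain ⟨k, hk⟩ := MulAction.exists_smul_eq ↥K P' Q'
      have heq : P' = Q' := by
        rw [← hk]
        exact (Sylow.smul_eq_of_normal).symm
      have h1 : (P : Subgroup G).subgroupOf K = ((g • P : Sylow p G) : Subgroup G).subgroupOf K := by
        have h2 := congrArg (fun S : Sylow p ↥K => (S : Subgroup ↥K)) heq
        simpa [P', Q', Sylow.coe_subtype] using h2
      rw [Subgroup.subgroupOf_inj, inf_eq_left.mpr le_sup_left, inf_eq_left.mpr hQK,
        Sylow.coe_subgroup_smul] at h1
      apply hg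
      rw [Subgroup.mem_normalizer_iff]
      intro x
      constructor
      · intro hx
        have h3 : MulAut.conj g • x ∈ MulAut.conj g • (P : Subgroup G) :=
          Subgroup.smul_mem_pointwise_smul _ _ _ hx
        rw [← h1] at h3
        simpa [MulAut.smul_def, MulAut.conj_apply] using h3
      · intro hx
        have h3 : g * x * g⁻¹ ∈ MulAut.conj g • (P : Subgroup G) := by rw [← h1]; exact hx
        have h4 : g * x * g⁻¹ = MulAut.conj g • x := by simp [MulAut.smul_def, MulAut.conj_apply]
        rw [h4, Subgroup.smul_mem_pointwise_smul_iff] at h3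
        exact h3
    -- intersections of distinct Sylow subgroups are central
    have hcentral : ∀ g : G, g ∉ Subgroup.normalizer ((P : Subgroup G) : Set G) →
        ∀ x ∈ (P : Subgroup G) ⊓ (MulAut.conj g • (P : Subgroup G)), x ∈ Subgroup.center G := by
      intro g hg x hx
      have h1 : (P : Subgroup G) ≤ Subgroup.centralizer ({x} : Set G) := by
        intro z hz
        rw [Subgroup.mem_centralizer_iff]
        intro y hy
        rw [Set.mem_singleton_iff] at hy
        subst hy
        exact hcomm y z hx.1 hz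
      have h2 : MulAut.conj g • (P : Subgroup G) ≤ Subgroup.centralizer ({x} : Set G) := by
        intro z hz
        rw [Subgroup.mem_centralizer_iff]
        intro y hy
        rw [Set.mem_singleton_iff] at hy
        subst hy
        obtain ⟨a, ha, rfl⟩ := Subgroup.mem_smul_pointwise_iff_exists _ _ _ |>.mp hx.2
        obtain ⟨b, hb, rfl⟩ := Subgroup.mem_smul_pointwise_iff_exists _ _ _ |>.mp hz
        simp only [MulAut.smul_def, MulAut.conj_apply]
        have := hcomm a b ha hb
        calc g * a * g⁻¹ * (g * b * g⁻¹) = g * (a * b) * g⁻¹ := by group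
          _ = g * (b * a) * g⁻¹ := by rw [this]
          _ = g * b * g⁻¹ * (g * a * g⁻¹) := by group
      have h3 : (⊤ : Subgroup G) ≤ Subgroup.centralizer ({x} : Set G) := by
        rw [← hgen g hg]
        exact sup_le h1 h2
      rw [Subgroup.mem_center_iff]
      intro z
      have h4 := h3 (Subgroup.mem_top z)
      exact (Subgroup.mem_centralizer_iff.mp h4 x rfl).symm
    set Z₁ := (P : Subgroup G) ⊓ Subgroup.center G with hZ₁
    by_cases hZ : Z₁ = ⊥
    · -- the trivial intersection case
      have hTI : ∀ g : G, g ∉ Subgroup.normalizer ((P : Subgroup G) : Set G) →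
          (P : Subgroup G) ⊓ (MulAut.conj g • (P : Subgroup G)) = ⊥ := by
        intro g hg
        rw [eq_bot_iff]
        intro x hx
        rw [← hZ]
        exact ⟨hx.1, hcentral g hg x hx⟩
      obtain ⟨ψ, hψ⟩ := exists_large_of_TI p P hTI hnn
      have hPbot : (P : Subgroup G) ≠ ⊥ := by
        intro h
        apply hnn
        rw [h]
        infer_instance
      obtain ⟨k, hk⟩ := IsPGroup.iff_card.mp P.isPGroup'
      have hk0 : k ≠ 0 := by
        rintro rfl
        rw [pow_zero] at hk
        exact hPbot ((Subgroup.card_eq_one).mp hk)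
      have h1 : p ≤ Nat.card ↥(P : Subgroup G) := by
        rw [hk]
        calc p = p ^ 1 := (pow_one p).symm
          _ ≤ p ^ k := Nat.pow_le_pow_right hp.pos (Nat.one_le_iff_ne_zero.mpr hk0)
      have h2 := hs ψ
      omega
    · -- a nontrivial central `p`-subgroup: pass to the quotient
      have hZn : Z₁.Normal := by
        refine ⟨fun z hz g => ?_⟩
        have h1 : g * z * g⁻¹ = z := by
          have := Subgroup.mem_center_iff.mp hz.2 g
          rw [this, mul_inv_cancel_right]
        rw [h1]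
        exact hz
      have hcardQ : Nat.card (G ⧸ Z₁) < n := by
        rw [← hn, Subgroup.card_eq_card_quotient_mul_card_subgroup Z₁]
        have h1 : 1 < Nat.card ↥Z₁ := Z₁.one_lt_card_iff_ne_bot.mpr hZ
        have h2 : 0 < Nat.card (G ⧸ Z₁) := Nat.card_pos
        nlinarith
      have hsQ := small_quotient hs Z₁
      have hsurj : Function.Surjective (QuotientGroup.mk' Z₁) := QuotientGroup.mk'_surjective Z₁
      have hPb := ih _ hcardQ (G ⧸ Z₁) rfl hsQ (P.mapSurjective hsurj)
      rw [Sylow.coe_mapSurjective] at hPb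
      have h1 := hPb.comap (QuotientGroup.mk' Z₁)
      rw [Subgroup.comap_map_eq, QuotientGroup.ker_mk', sup_eq_left.mpr inf_le_left] at h1
      exact hnn h1

/-- Let p be a prime and G a finite group all of whose irreducible character degrees are less than p. Then G has a normal abelian Sylow p-subgroup. -/
theorem result {G : Type*} [Group G] [Finite G] (p : ℕ) (hp : p.Prime) (hb : ∀ χ : Cfsg.IrrCharacter G, Cfsg.charDegree (χ : G → ℂ) < p) : ∃ P : Subgroup G, P.Normal ∧ (∀ x ∈ P, ∀ y ∈ P, x * y = y * x) ∧ IsPGroup p P ∧ ¬ p ∣ P.index := by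
  have : Fact p.Prime := ⟨hp⟩
  obtain ⟨P⟩ : Nonempty (Sylow p G) := inferInstance
  refine ⟨(P : Subgroup G), main p _ G rfl hb P, ?_, P.isPGroup', P.not_dvd_index⟩
  intro x hx y hy
  exact sylow_comm hb P x y hx hy

end Cfsg.Agent.S4464
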