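import Cfsg.Statements.S4473
import Cfsg.Agent.Lib.Helper39.PrimTwoD
import Cfsg.Agent.Lib.Helper39.PrimTwoE
import Cfsg.Agent.Lib.Helper39.PrimTwoF

set_option autoImplicit false
set_option linter.style.haveILetI false
open Cfsg

namespace Cfsg.Agent.S4473

open Cfsg.Agent.Lib.Helper39.PrimTwo

/-- Let the finite group G have a faithful irreducible character χ of degree 2 that is primitive: χ is not induced from a character of any proper subgroup. Then the centre of G has index 12, 24 or 60. -/
theorem result {G : Type*} [Group G] [Fintype G] (χ : Cfsg.IrrCharacter G) (hfaith : ∀ g : G, (χ : G → ℂ) g = (χ : G → ℂ) 1 → g = 1) (h2 : Cfsg.charDegree (χ : G → ℂ) = 2) (hprim : ∀ H : Subgroup G, H ≠ ⊤ → ∀ θ : H → ℂ, Cfsg.IsCharacter H θ → (χ : G → ℂ) ≠ Cfsg.indFun H θ) : (Subgroup.center G).index = 12 ∨ (Subgroup.center G).index = 24 ∨ (Subgroup.center G).index = 60 := by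
  classical
  obtain ⟨m, ρ, hρ, hχ⟩ := χ.2
  have h1 : (χ : G → ℂ) 1 = (m : ℂ) := by
    rw [← hχ, Representation.char_one]
    simp
  have hm : m = 2 := by
    unfold charDegree at h2
    rw [h1] at h2
    simpa using h2
  subst hm
  set μ := matHom ρ with hμ
  have htr : ∀ g, (μ g).trace = (χ : G → ℂ) g := fun g => by rw [hμ, trace_matHom, hχ]
  have hinj : Function.Injective μ := by
    have hker : ∀ g, μ g = 1 → g = 1 := by
      intro g hg
      apply hfaith
      rw [← htr, ← htr, hg, map_one]
    intro a b hab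
    have h3 : μ (a * b⁻¹) = 1 := by rw [map_mul, hab, ← map_mul, mul_inv_cancel, map_one]
    exact mul_inv_eq_one.1 (hker _ h3)
  have hyp := caHyp_of_injective μ hinj
  have hχ1 : (χ : G → ℂ) 1 = 2 := by rw [h1]; norm_num
  apply index_center_of_caHyp hyp
  · intro htop
    haveI : IsMulCommutative G := ⟨⟨fun a b => by
      have h3 : a ∈ Subgroup.center G := by rw [htop]; trivial
      exact ((Subgroup.mem_center_iff.1 h3) b).symm⟩⟩
    have h4 := Cfsg.Agent.Lib.Helper79.irr_one_eq_one_of_comm χ
    rw [hχ1] at h4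
    norm_num at h4
  · intro g hg hidx
    haveI : IsMulCommutative (cent g) :=
      ⟨⟨fun a b => Subtype.ext (hyp.ca g hg a b (mem_cent.1 a.2) (mem_cent.1 b.2)).eq⟩⟩
    obtain ⟨θ, hθ, heq⟩ := induced_of_abelian_index_two χ.2 hχ1 (cent g) hidx
    have hne : cent g ≠ ⊤ := by
      intro h
      rw [h, Subgroup.index_top] at hidx
      omega
    exact hprim (cent g) hne θ hθ heq

end Cfsg.Agent.S4473
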