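import Cfsg.Statements.S4474
import Cfsg.Agent.Lib.Helper39.RealRepC

set_option autoImplicit false
open Cfsg

namespace Cfsg.Agent.S4474

open Matrix Cfsg.Agent.Lib.Helper74 Cfsg.Agent.Lib.Helper39.RealRep
open scoped ComplexConjugate ComplexOrder

section Aux
universe u
variable {G : Type u} [Group G] [Fintype G]

theorem exists_real_rep {n : ℕ} (ρ : Representation ℂ G (Fin n → ℂ)) (hirr : ρ.IsIrreducible)
    (hfs : fsInd ρ = 1) :
    ∃ ρR : Representation ℝ G (Fin n → ℝ),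
      ∀ g, ((LinearMap.trace ℝ (Fin n → ℝ) (ρR g) : ℝ) : ℂ) = ρ.character g := by
  classical
  have hreal : ∀ g : G, (ρ.character g).im = 0 := by
    intro g
    by_contra hg
    have := (fs_trichotomy_fin ρ hirr).2.mpr ⟨g, hg⟩
    rw [hfs] at this
    exact one_ne_zero this
  obtain ⟨S, hS0, hSmem, -, hST, -⟩ := exists_form_of_real ρ hirr hreal
  rw [hfs, one_smul] at hST
  have hSdet := det_ne_zero_of_mem_invForms ρ hirr hSmem hS0
  have hSu : IsUnit S.det := isUnit_iff_ne_zero.mpr hSdet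
  have hn := Cfsg.Agent.Lib.Helper16.dim_ne_zero ρ hirr
  have hA1 : repMat ρ 1 = 1 := repMat_one ρ
  have hAm : ∀ g h, repMat ρ (g * h) = repMat ρ g * repMat ρ h := repMat_mul ρ
  have hSinv : ∀ g, (repMat ρ g)ᵀ * S * repMat ρ g = S := hSmem
  have hHpd := hermSum_posDef (repMat ρ) hA1
  have hHu : IsUnit (hermSum (repMat ρ)).det :=
    (Matrix.isUnit_iff_isUnit_det _).mp hHpd.isUnit
  have hHinv := hermSum_inv (repMat ρ) hAm
  have hKeq := K_equivariant (repMat ρ) hA1 hAm hHu hHinv hSinv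
  have hKK := KK_comm (repMat ρ) hKeq
  obtain ⟨lam, hlam⟩ : ∃ lam : ℂ, ((hermSum (repMat ρ))⁻¹ * cj S) *
      cj ((hermSum (repMat ρ))⁻¹ * cj S) = lam • 1 := by
    obtain ⟨a, ha⟩ := Cfsg.Agent.Lib.Helper16.schur_scalar ρ hirr
      (Matrix.toLin' (((hermSum (repMat ρ))⁻¹ * cj S) * cj ((hermSum (repMat ρ))⁻¹ * cj S))) (by
      intro g
      have : ρ g = Matrix.toLin' (repMat ρ g) := by
        unfold repMat
        rw [Matrix.toLin'_toMatrix']
      rw [this, ← Matrix.toLin'_mul, ← Matrix.toLin'_mul, hKK g])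
    refine ⟨a, ?_⟩
    have := congrArg LinearMap.toMatrix' ha
    rw [LinearMap.toMatrix'_toLin', map_smul, LinearMap.toMatrix'_id] at this
    exact this
  obtain ⟨r, hr, hlamr⟩ := scalar_pos hn hHpd hST hSu hlam
  have hs : 0 < Real.sqrt r := Real.sqrt_pos.mpr hr
  have hss : Real.sqrt r * Real.sqrt r = r := Real.mul_self_sqrt hr.le
  have hK'eq : ∀ g, repMat ρ g * (((Real.sqrt r : ℂ)⁻¹) • ((hermSum (repMat ρ))⁻¹ * cj S)) =
      (((Real.sqrt r : ℂ)⁻¹) • ((hermSum (repMat ρ))⁻¹ * cj S)) * cj (repMat ρ g) := by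
    intro g
    rw [Matrix.mul_smul, Matrix.smul_mul, hKeq g]
  have hK'K' : (((Real.sqrt r : ℂ)⁻¹) • ((hermSum (repMat ρ))⁻¹ * cj S)) *
      cj (((Real.sqrt r : ℂ)⁻¹) • ((hermSum (repMat ρ))⁻¹ * cj S)) = 1 := by
    rw [cj_smul, Matrix.smul_mul, Matrix.mul_smul, hlam, hlamr, smul_smul, smul_smul]
    have hsne : (Real.sqrt r : ℂ) ≠ 0 := by
      exact_mod_cast hs.ne'
    have : (Real.sqrt r : ℂ)⁻¹ * (conj ((Real.sqrt r : ℂ)⁻¹)) * (r : ℂ) = 1 := by
      rw [map_inv₀, Complex.conj_ofReal]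
      have hrr : (r : ℂ) = (Real.sqrt r : ℂ) * (Real.sqrt r : ℂ) := by
        rw [← Complex.ofReal_mul, hss]
      rw [hrr]
      field_simp
    rw [this, one_smul]
  obtain ⟨P, hPu, hP⟩ := hilbert90 hK'K'
  have hrl := real_of_hilbert90 (repMat ρ) hK'eq hPu hP
  have hBr : ∀ g, ((P⁻¹ * repMat ρ g * P).map Complex.re).map Complex.ofRealHom =
      P⁻¹ * repMat ρ g * P := fun g => (cj_eq_self_iff _).mp (hrl g)
  have hB1 : P⁻¹ * repMat ρ 1 * P = 1 := by
    rw [hA1, Matrix.mul_one, Matrix.nonsing_inv_mul P hPu]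
  have hBm : ∀ g h, P⁻¹ * repMat ρ (g * h) * P =
      (P⁻¹ * repMat ρ g * P) * (P⁻¹ * repMat ρ h * P) := by
    intro g h
    calc P⁻¹ * repMat ρ (g * h) * P = P⁻¹ * (repMat ρ g * 1 * repMat ρ h) * P := by
          rw [hAm, Matrix.mul_one]
      _ = P⁻¹ * (repMat ρ g * (P * P⁻¹) * repMat ρ h) * P := by
          rw [Matrix.mul_nonsing_inv P hPu]
      _ = (P⁻¹ * repMat ρ g * P) * (P⁻¹ * repMat ρ h * P) := by
          simp only [Matrix.mul_assoc]
  have hinj : Function.Injective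
      (fun M : Matrix (Fin n) (Fin n) ℝ => M.map Complex.ofRealHom) :=
    Matrix.map_injective Complex.ofReal_injective
  refine ⟨{ toFun := fun g => Matrix.toLin' ((P⁻¹ * repMat ρ g * P).map Complex.re)
            map_one' := ?_
            map_mul' := ?_ }, ?_⟩
  · rw [hB1, Matrix.map_one _ Complex.zero_re Complex.one_re, Matrix.toLin'_one]
    rfl
  · intro g h
    have : (P⁻¹ * repMat ρ (g * h) * P).map Complex.re =
        (P⁻¹ * repMat ρ g * P).map Complex.re * (P⁻¹ * repMat ρ h * P).map Complex.re := by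
      apply hinj
      show ((P⁻¹ * repMat ρ (g * h) * P).map Complex.re).map Complex.ofRealHom =
        ((P⁻¹ * repMat ρ g * P).map Complex.re * (P⁻¹ * repMat ρ h * P).map Complex.re).map
          Complex.ofRealHom
      rw [Matrix.map_mul, hBr, hBr, hBr, hBm]
    rw [this, Matrix.toLin'_mul]
    rfl
  · intro g
    show ((LinearMap.trace ℝ (Fin n → ℝ)
      (Matrix.toLin' ((P⁻¹ * repMat ρ g * P).map Complex.re)) : ℝ) : ℂ) = ρ.character g
    rw [Matrix.trace_toLin'_eq]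
    have h1 : (((P⁻¹ * repMat ρ g * P).map Complex.re).trace : ℂ) =
        (((P⁻¹ * repMat ρ g * P).map Complex.re).map Complex.ofRealHom).trace := by
      unfold Matrix.trace
      rw [Complex.ofReal_sum]
      rfl
    rw [h1, hBr, Matrix.mul_assoc, Matrix.trace_mul_comm, Matrix.mul_assoc,
      Matrix.mul_nonsing_inv P hPu, Matrix.mul_one, trace_repMat]

end Aux

/-- Let χ be an irreducible character of the finite group G. Then the Frobenius–Schur indicator of χ (the average over s ∈ G of χ(s²)) equals 1 if and only if χ is afforded by a real representation: there is a representation of G on a real coordinate space whose trace function, viewed in ℂ, is χ. -/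
theorem result {G : Type*} [Group G] [Fintype G] (χ : Cfsg.IrrCharacter G) : ((Nat.card G : ℂ)⁻¹ * ∑ s : G, (χ : G → ℂ) (s * s)) = 1 ↔ ∃ (n : ℕ) (ρ : Representation ℝ G (Fin n → ℝ)), ∀ g : G, ((LinearMap.trace ℝ (Fin n → ℝ) (ρ g) : ℝ) : ℂ) = (χ : G → ℂ) g := by
  constructor
  · intro h
    obtain ⟨n, ρ, hirr, hρ⟩ := χ.2
    have hfs : fsInd ρ = 1 := by
      unfold fsInd
      rw [hρ]
      exact h
    obtain ⟨ρR, hR⟩ := exists_real_rep ρ hirr hfs
    refine ⟨n, ρR, fun g => ?_⟩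
    rw [hR g, hρ]
  · rintro ⟨n, ρR, h⟩
    exact fs_eq_one_of_real_rep ρR χ.2 h

end Cfsg.Agent.S4474
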