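import Cfsg.Statements.S4476
import Cfsg.Agent.Lib.Helper74.BF6

set_option autoImplicit false
open Cfsg

namespace Cfsg.Agent.S4476

open Cfsg.Agent.Lib.Helper74 in
/-- Let G be a finite group of even order g with exactly t involutions, and put α = (g − 1)/t (a rational number). Then (a) some non-identity element x of G has at most α² conjugates; and (b) some non-principal real-valued irreducible character of G has degree at most α. -/
theorem result {G : Type*} [Group G] [Fintype G] (heven : Even (Nat.card G)) (t : ℕ) (ht : Nat.card {x : G // orderOf x = 2} = t) : (∃ x : G, x ≠ 1 ∧ ((Subgroup.centralizer ({x} : Set G)).index : ℚ) ≤ (((Nat.card G : ℚ) - 1) / t) ^ 2) ∧ ∃ χ : Cfsg.IrrCharacter G, (χ : G → ℂ) ≠ (fun _ => 1) ∧ (∀ g : G, ((χ : G → ℂ) g).im = 0) ∧ (Cfsg.charDegree (χ : G → ℂ) : ℚ) ≤ ((Nat.card G : ℚ) - 1) / t := by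
  haveI : Fintype (Cfsg.IrrCharacter G) := Fintype.ofFinite _
  constructor
  · obtain ⟨x, hx1, hx⟩ := brauer_fowler_class (G := G) heven
    refine ⟨x, hx1, ?_⟩
    rw [ht] at hx
    have : (((Subgroup.centralizer ({x} : Set G)).index : ℚ) : ℝ) ≤
        (((((Nat.card G : ℚ) - 1) / t) ^ 2 : ℚ) : ℝ) := by
      push_cast
      exact hx
    exact_mod_cast this
  · obtain ⟨χ, hχ, hle⟩ := brauer_fowler_char (G := G) heven
    rw [mem_realNontriv] at hχ
    refine ⟨χ, (ne_trivIrr_iff χ).mp hχ.2, hχ.1, ?_⟩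
    rw [ht] at hle
    have : ((Cfsg.charDegree (χ : G → ℂ) : ℚ) : ℝ) ≤ ((((Nat.card G : ℚ) - 1) / t : ℚ) : ℝ) := by
      push_cast
      exact hle
    exact_mod_cast this

end Cfsg.Agent.S4476
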