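import Cfsg.Statements.S4477
import Cfsg.Agent.S4058
import Cfsg.Agent.Lib.Helper39.LinTwist

set_option autoImplicit false
open Cfsg

namespace Cfsg.Agent.S4477

open Cfsg.Agent.Lib.Helper39.LinTwist
open Cfsg.Agent.S4058 (Lam ev evHom)

section Aux

variable {G : Type*} [Group G]

theorem isCyclic_of_card_frattini_quot_le_two [Finite G]
    (h : Nat.card (G ⧸ frattini G) ≤ 2) : IsCyclic G := by
  have hcyc : IsCyclic (G ⧸ frattini G) := by
    have hpos : 0 < Nat.card (G ⧸ frattini G) := Nat.card_pos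
    have : Nat.card (G ⧸ frattini G) = 1 ∨ Nat.card (G ⧸ frattini G) = 2 := by omega
    rcases this with h1 | h2
    · haveI : Subsingleton (G ⧸ frattini G) := (Nat.card_eq_one_iff_unique.1 h1).1
      infer_instance
    · haveI : Fact (Nat.Prime 2) := ⟨Nat.prime_two⟩
      exact isCyclic_of_prime_card h2
  obtain ⟨q, hq⟩ := hcyc
  obtain ⟨x, rfl⟩ := QuotientGroup.mk_surjective q
  have hsup : Subgroup.zpowers x ⊔ frattini G = ⊤ := by
    rw [eq_top_iff]
    intro g _
    obtain ⟨k, hk⟩ := hq (QuotientGroup.mk g)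
    have hk' : ((x ^ k : G) : G ⧸ frattini G) = (g : G ⧸ frattini G) := by
      rw [QuotientGroup.mk_zpow]; exact hk
    have hmem : (x ^ k)⁻¹ * g ∈ frattini G := QuotientGroup.eq.1 hk'
    have : g = x ^ k * ((x ^ k)⁻¹ * g) := by group
    rw [this]
    exact Subgroup.mul_mem_sup (Subgroup.zpow_mem_zpowers x k) hmem
  have htop := frattini_nongenerating hsup
  exact isCyclic_iff_exists_zpowers_eq_top.2 ⟨x, htop⟩

theorem card_sq_eq_card_inv_add_one [Finite G] :
    Nat.card {s : G // s * s = 1} = Nat.card {x : G // orderOf x = 2} + 1 := by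
  classical
  haveI : Fintype G := Fintype.ofFinite G
  rw [Nat.card_eq_fintype_card, Nat.card_eq_fintype_card, Fintype.card_subtype, Fintype.card_subtype]
  have : Finset.univ.filter (fun s : G => s * s = 1) =
      insert 1 (Finset.univ.filter (fun x : G => orderOf x = 2)) := by
    ext s
    simp only [Finset.mem_filter, Finset.mem_univ, true_and, Finset.mem_insert]
    constructor
    · intro h
      by_cases h1 : s = 1
      · exact Or.inl h1
      · right
        exact orderOf_eq_prime (by rw [pow_two]; exact h) h1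
    · rintro (h | h)
      · rw [h, one_mul]
      · have := pow_orderOf_eq_one s
        rw [h, pow_two] at this
        exact this
  rw [this, Finset.card_insert_of_notMem]
  simp

/-- in a finite 2-group (abelian here), a proper subgroup has an element outside whose square is inside -/
theorem exists_sq_mem {A : Type*} [CommGroup A] [Finite A] {j : ℕ} (hA : Nat.card A = 2 ^ j)
    (L : Subgroup A) (hL : L ≠ ⊤) : ∃ μ : A, μ ∉ L ∧ μ ^ 2 ∈ L := by
  classical
  have : ∃ μ₀ : A, μ₀ ∉ L := by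
    by_contra h
    push Not at h
    exact hL (eq_top_iff.2 fun x _ => h x)
  obtain ⟨μ₀, hμ₀⟩ := this
  have hex : ∃ i : ℕ, μ₀ ^ (2 ^ i) ∈ L := ⟨j, by rw [← hA, pow_card_eq_one']; exact L.one_mem⟩
  have hi0 : Nat.find hex ≠ 0 := by
    intro h0
    have := Nat.find_spec hex
    rw [h0, pow_zero, pow_one] at this
    exact hμ₀ this
  obtain ⟨i, hi⟩ := Nat.exists_eq_succ_of_ne_zero hi0
  refine ⟨μ₀ ^ (2 ^ i), ?_, ?_⟩
  · exact Nat.find_min hex (by omega)
  · have := Nat.find_spec hex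
    rw [hi, Nat.succ_eq_add_one, pow_succ, pow_mul] at this
    exact this


/-- embedding of the real linear characters into all linear characters -/
noncomputable def iota : Lam G →* Lin G where
  toFun := evHom
  map_one' := by ext g; simp [evHom]
  map_mul' φ ψ := by ext g; simp [evHom]

theorem lv_iota (φ : Lam G) (g : G) : lv (iota φ) g = ev φ g := rfl

theorem iota_injective : Function.Injective (iota (G := G)) := by
  intro φ ψ h
  apply Cfsg.Agent.S4058.ev_ext
  intro g
  rw [← lv_iota, ← lv_iota, h]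

/-- the subgroup of real linear characters -/
noncomputable def Lam' (G : Type*) [Group G] : Subgroup (Lin G) := (iota (G := G)).range

theorem card_Lam' [Finite G] (hG : IsPGroup 2 G) :
    Nat.card (Lam' G) = Nat.card (G ⧸ frattini G) := by
  rw [← Cfsg.Agent.S4058.card_Lam hG]
  exact (Nat.card_congr (Equiv.ofInjective iota iota_injective)).symm

theorem lv_eq_or_of_mem [Finite G] (hG : IsPGroup 2 G) {φ : Lin G} (h : φ ∈ Lam' G) (g : G) :
    lv φ g = 1 ∨ lv φ g = -1 := by
  obtain ⟨ψ, rfl⟩ := h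
  rw [lv_iota]
  exact Cfsg.Agent.S4058.ev_eq_or hG ψ g

theorem lv_sq_arg_of_mem [Finite G] (hG : IsPGroup 2 G) {φ : Lin G} (h : φ ∈ Lam' G) (g : G) :
    lv φ (g * g) = 1 := by
  obtain ⟨ψ, rfl⟩ := h
  rw [lv_iota]
  exact Cfsg.Agent.S4058.ev_sq_arg hG ψ g

end Aux

/-- Let G be a finite 2-group whose number of involutions is congruent to 1 modulo 4. Then G is cyclic or its commutator subgroup has index 4. -/
theorem result {G : Type*} [Group G] [Finite G] (hG : IsPGroup 2 G) (ht : Nat.card {x : G // orderOf x = 2} % 4 = 1) : IsCyclic G ∨ (commutator G).index = 4 := by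
  classical
  haveI : Fintype G := Fintype.ofFinite G
  haveI : Fintype (IrrCharacter G) := Fintype.ofFinite _
  by_cases hn : Nat.card (G ⧸ frattini G) ≤ 2
  · exact Or.inl (isCyclic_of_card_frattini_quot_le_two hn)
  right
  push Not at hn
  obtain ⟨m, hm⟩ := IsPGroup.iff_card.1 hG
  have hAcard : Nat.card (Lin G) = (commutator G).index := card_Lin
  haveI : Finite (Lin G) :=
    Nat.finite_of_card_ne_zero (by rw [hAcard]; exact Subgroup.index_ne_zero_of_finite)
  obtain ⟨j, hj⟩ : ∃ j, Nat.card (Lin G) = 2 ^ j := by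
    have : (commutator G).index ∣ Nat.card G := Subgroup.index_dvd_card _
    rw [hm] at this
    obtain ⟨j, _, h⟩ := (Nat.dvd_prime_pow Nat.prime_two).1 this
    exact ⟨j, by rw [hAcard, h]⟩
  set L : Subgroup (Lin G) := Lam' G with hLdef
  have hLcard : Nat.card L = Nat.card (G ⧸ frattini G) := card_Lam' hG
  obtain ⟨n, hn'⟩ : ∃ n, Nat.card L = 2 ^ n := by
    have : Nat.card L ∣ Nat.card (Lin G) := Subgroup.card_subgroup_dvd_card L
    rw [hj] at this
    obtain ⟨n, _, h⟩ := (Nat.dvd_prime_pow Nat.prime_two).1 this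
    exact ⟨n, h⟩
  have hn2 : 2 ≤ n := by
    rw [← hLcard, hn'] at hn
    by_contra hlt
    have : n ≤ 1 := by omega
    have := Nat.pow_le_pow_right (show 0 < 2 by norm_num) this
    omega
  let ν : IrrCharacter G → ℂ := fun χ => (Nat.card G : ℂ)⁻¹ * ∑ s : G, (χ : G → ℂ) (s * s)
  have hex : ∀ χ : IrrCharacter G, ∃ (ε : ℤ) (d : ℕ), (ε = 0 ∨ ε = 1 ∨ ε = -1) ∧
      (χ : G → ℂ) 1 = d ∧ d ∣ Nat.card G ∧ ν χ = ε := by
    intro χ
    obtain ⟨d, hd1, hd2, -⟩ := Cfsg.Agent.Lib.Helper3.IsIrrCharacter.apply_one_dvd_card χ.2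
    rcases (Cfsg.Agent.Lib.Helper74.fs_trichotomy χ.2).1 with h | h | h
    · exact ⟨0, d, Or.inl rfl, hd1, hd2, by simpa [ν] using h⟩
    · exact ⟨1, d, Or.inr (Or.inl rfl), hd1, hd2, by simpa [ν] using h⟩
    · exact ⟨-1, d, Or.inr (Or.inr rfl), hd1, hd2, by simpa [ν] using h⟩
  choose ε d hε hd hdvd hν using hex
  let F : IrrCharacter G → ℤ := fun χ => ε χ * d χ
  have hFc : ∀ χ, (F χ : ℂ) = ν χ * (χ : G → ℂ) 1 := by
    intro χ
    simp only [F]
    rw [hν, hd]
    push_cast
    rfl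
  -- degree invariance
  have hdeg : ∀ (φ : Lin G) (χ : IrrCharacter G), d (φ • χ) = d χ := by
    intro φ χ
    have h1 : ((φ • χ : IrrCharacter G) : G → ℂ) 1 = (χ : G → ℂ) 1 := by
      rw [Cfsg.Agent.Lib.Helper39.LinTwist.smul_apply, lv_map_one, one_mul]
    rw [hd, hd] at h1
    exact_mod_cast h1
  have hinvL : ∀ (φ : Lin G), φ ∈ L → ∀ χ : IrrCharacter G, F (φ • χ) = F χ := by
    intro φ hφ χ
    have : (F (φ • χ) : ℂ) = F χ := by
      rw [hFc, hFc]
      have e1 : ν (φ • χ) = ν χ := by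
        simp only [ν]
        congr 1
        refine Finset.sum_congr rfl fun s _ => ?_
        rw [Cfsg.Agent.Lib.Helper39.LinTwist.smul_apply, lv_sq_arg_of_mem hG hφ, one_mul]
      have e2 : ((φ • χ : IrrCharacter G) : G → ℂ) 1 = (χ : G → ℂ) 1 := by
        rw [Cfsg.Agent.Lib.Helper39.LinTwist.smul_apply, lv_map_one, one_mul]
      rw [e1, e2]
    exact_mod_cast this
  have hreal : ∀ χ : IrrCharacter G, F χ ≠ 0 → ∀ g : G, ((χ : G → ℂ) g).im = 0 := by
    intro χ hF
    by_contra hcon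
    push Not at hcon
    have h0 := (Cfsg.Agent.Lib.Helper74.fs_trichotomy χ.2).2.2 hcon
    have hν0 : ν χ = 0 := h0
    have : (ε χ : ℂ) = 0 := by rw [← hν]; exact hν0
    have hε0 : ε χ = 0 := by exact_mod_cast this
    apply hF
    simp only [F]
    rw [hε0, zero_mul]
  have hFne_of_real : ∀ χ : IrrCharacter G, (∀ g : G, ((χ : G → ℂ) g).im = 0) → d χ ≠ 0 →
      F χ ≠ 0 := by
    intro χ hre hd0
    have hνne : ν χ ≠ 0 := by
      intro h0
      obtain ⟨s, hs⟩ := (Cfsg.Agent.Lib.Helper74.fs_trichotomy χ.2).2.1 h0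
      exact hs (hre s)
    have : ε χ ≠ 0 := by
      intro h
      apply hνne
      rw [hν, h]
      simp
    simp only [F]
    exact mul_ne_zero this (by exact_mod_cast hd0)
  let Y : Finset (IrrCharacter G) :=
    Finset.univ.filter (fun χ => F χ ≠ 0 ∧ d χ = 2 ∧ ∀ φ ∈ L, φ • χ = χ)
  have hYmem : ∀ χ, χ ∈ Y ↔ (F χ ≠ 0 ∧ d χ = 2 ∧ ∀ φ ∈ L, φ • χ = χ) := by
    intro χ
    simp [Y]
  -- the count
  have hN : ((Nat.card {s : G // s * s = 1} : ℕ) : ℤ) = ∑ χ, F χ := by
    have h := Cfsg.Agent.Lib.Helper74.card_sq_eq_one (G := G)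
    have h' : (((Nat.card {s : G // s * s = 1} : ℕ) : ℤ) : ℂ) = ((∑ χ, F χ : ℤ) : ℂ) := by
      push_cast
      rw [h]
      refine Finset.sum_congr rfl fun χ _ => (hFc χ).symm
    exact_mod_cast h'
  -- invariance of Y
  have hYinv : ∀ (φ : Lin G), φ ∈ L → ∀ χ : IrrCharacter G, (φ • χ ∈ Y ↔ χ ∈ Y) := by
    intro φ hφ χ
    rw [hYmem, hYmem, hinvL φ hφ, hdeg]
    constructor
    · rintro ⟨h1, h2, h3⟩
      refine ⟨h1, h2, fun ψ hψ => ?_⟩
      have := h3 ψ hψ
      rw [smul_smul, mul_comm ψ φ, ← smul_smul] at this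
      exact MulAction.injective φ this
    · rintro ⟨h1, h2, h3⟩
      refine ⟨h1, h2, fun ψ hψ => ?_⟩
      rw [smul_smul, mul_comm ψ φ, ← smul_smul, h3 ψ hψ]
  let F' : IrrCharacter G → ℤ := fun χ => if χ ∈ Y then 0 else F χ
  have hF'inv : ∀ (a : L) (χ : IrrCharacter G), F' (a • χ) = F' χ := by
    intro a χ
    have e : a • χ = (a : Lin G) • χ := rfl
    simp only [F']
    rw [e]
    by_cases hχ : χ ∈ Y
    · rw [if_pos hχ, if_pos ((hYinv a a.2 χ).2 hχ)]
    · rw [if_neg hχ, if_neg (fun h => hχ ((hYinv a a.2 χ).1 h)), hinvL a a.2]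
  have h4F' : (4 : ℤ) ∣ ∑ χ, F' χ := by
    apply Cfsg.Agent.S4058.dvd_sum_of_invariant (Λ := L) F' hF'inv
    intro χ
    by_cases hχ : χ ∈ Y
    · simp only [F']
      rw [if_pos hχ, mul_zero]
      exact dvd_zero _
    simp only [F']
    rw [if_neg hχ]
    have hos : Nat.card (MulAction.orbit L χ) * Nat.card (MulAction.stabilizer L χ) = 2 ^ n := by
      rw [← Nat.card_prod, Nat.card_congr (MulAction.orbitProdStabilizerEquivGroup L χ), hn']
    have hst : Nat.card (MulAction.stabilizer L χ) ≤ d χ ^ 2 := by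
      have hle : (MulAction.stabilizer L χ).map L.subtype ≤ MulAction.stabilizer (Lin G) χ := by
        rintro _ ⟨a, ha, rfl⟩
        exact ha
      have := card_le_of_le_stabilizer χ (d χ) (hd χ) _ hle
      rwa [Nat.card_congr ((MulAction.stabilizer L χ).equivMapOfInjective L.subtype
        L.subtype_injective).symm.toEquiv] at this
    obtain ⟨s, hsn, hs⟩ := (Nat.dvd_prime_pow Nat.prime_two).1 (Dvd.intro_left _ hos)
    obtain ⟨a, -, ha⟩ := (Nat.dvd_prime_pow Nat.prime_two).1 (hm ▸ hdvd χ)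
    rw [hs] at hos hst
    rw [ha, ← pow_mul] at hst
    have hsa : s ≤ a * 2 := (Nat.pow_le_pow_iff_right (by norm_num)).1 hst
    have ho : Nat.card (MulAction.orbit L χ) = 2 ^ (n - s) := by
      have : 2 ^ n = 2 ^ (n - s) * 2 ^ s := by rw [← pow_add]; congr 1; omega
      rw [this] at hos
      exact Nat.eq_of_mul_eq_mul_right (by positivity) hos
    by_cases hε0 : ε χ = 0
    · simp only [F]
      rw [hε0, zero_mul, mul_zero]
      exact dvd_zero _
    have hFne : F χ ≠ 0 := by
      simp only [F]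
      refine mul_ne_zero hε0 ?_
      rw [ha]
      positivity
    by_cases hbig : 2 ≤ (n - s) + a
    · rw [ho]
      simp only [F]
      rw [ha]
      have hpow : ((4 : ℕ) : ℤ) ∣ ((2 ^ (n - s) : ℕ) : ℤ) * ((2 ^ a : ℕ) : ℤ) := by
        rw [← Nat.cast_mul, ← pow_add]
        exact Int.natCast_dvd_natCast.2 (pow_dvd_pow 2 hbig)
      have : ((2 ^ (n - s) : ℕ) : ℤ) * (ε χ * ((2 ^ a : ℕ) : ℤ))
          = ε χ * (((2 ^ (n - s) : ℕ) : ℤ) * ((2 ^ a : ℕ) : ℤ)) := by ring
      rw [this]
      exact Dvd.dvd.mul_left (by exact_mod_cast hpow) _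
    · exfalso
      have ha1 : a = 1 := by omega
      have hsn' : s = n := by omega
      apply hχ
      rw [hYmem]
      refine ⟨hFne, by rw [ha, ha1]; rfl, ?_⟩
      intro φ hφ
      have ho1 : Nat.card (MulAction.orbit L χ) = 1 := by rw [ho, hsn']; simp
      haveI : Subsingleton (MulAction.orbit L χ) := (Nat.card_eq_one_iff_unique.1 ho1).1
      have h1 : (⟨(⟨φ, hφ⟩ : L) • χ, MulAction.mem_orbit χ _⟩ : MulAction.orbit L χ)
          = ⟨χ, MulAction.mem_orbit_self χ⟩ := Subsingleton.elim _ _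
      exact congrArg Subtype.val h1
  have hYsum : (4 : ℤ) ∣ ∑ χ ∈ Y, (F χ - 2) := by
    refine Finset.dvd_sum fun χ hχ => ?_
    obtain ⟨h1, h2, -⟩ := (hYmem χ).1 hχ
    simp only [F] at h1 ⊢
    rw [h2]
    rcases hε χ with h | h | h
    · rw [h, zero_mul] at h1; exact absurd rfl h1
    · rw [h]; norm_num
    · rw [h]; norm_num
  have hsplit : ∑ χ, F χ = ∑ χ, F' χ + ∑ χ ∈ Y, F χ := by
    have : ∀ χ, F χ = F' χ + (if χ ∈ Y then F χ else 0) := by
      intro χ
      simp only [F']
      by_cases hχ : χ ∈ Y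
      · rw [if_pos hχ, if_pos hχ, zero_add]
      · rw [if_neg hχ, if_neg hχ, add_zero]
    rw [Finset.sum_congr rfl (fun χ _ => this χ), Finset.sum_add_distrib]
    congr 1
    rw [Finset.sum_ite_mem, Finset.univ_inter]
  have hYodd : Y.card % 2 = 1 := by
    have hNt := card_sq_eq_card_inv_add_one (G := G)
    have e1 : ∑ χ ∈ Y, (F χ - 2) = ∑ χ ∈ Y, F χ - 2 * (Y.card : ℤ) := by
      rw [Finset.sum_sub_distrib, Finset.sum_const, nsmul_eq_mul]
      ring
    rw [e1] at hYsum
    have e2 : ((Nat.card {s : G // s * s = 1} : ℕ) : ℤ) = ∑ χ, F' χ + ∑ χ ∈ Y, F χ := by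
      rw [hN, hsplit]
    rw [hNt] at e2
    obtain ⟨u, hu⟩ := h4F'
    obtain ⟨v, hv⟩ := hYsum
    push_cast at e2
    omega
  -- L = ⊤
  have hLtop : L = ⊤ := by
    by_contra hne
    obtain ⟨μ, hμL, hμ2⟩ := exists_sq_mem hj L hne
    have hfix2 : ∀ χ ∈ Y, μ • (μ • χ) = χ := by
      intro χ hχ
      rw [smul_smul, ← pow_two]
      exact ((hYmem χ).1 hχ).2.2 _ hμ2
    have hmemY : ∀ χ ∈ Y, μ • χ ∈ Y := by
      intro χ hχ
      obtain ⟨h1, h2, h3⟩ := (hYmem χ).1 hχ
      rw [hYmem]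
      have hre := hreal χ h1
      refine ⟨?_, by rw [hdeg, h2], ?_⟩
      · apply hFne_of_real
        · intro g
          rw [Cfsg.Agent.Lib.Helper39.LinTwist.smul_apply]
          by_cases h0 : (χ : G → ℂ) g = 0
          · rw [h0, mul_zero]; rfl
          · have hf := congrArg (fun ψ : IrrCharacter G => (ψ : G → ℂ) g) (hfix2 χ hχ)
            simp only [Cfsg.Agent.Lib.Helper39.LinTwist.smul_apply] at hf
            have hsq : lv μ g * lv μ g = 1 := by
              have : (lv μ g * lv μ g - 1) * (χ : G → ℂ) g = 0 := by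
                rw [sub_mul, one_mul, mul_assoc, hf, sub_self]
              rcases mul_eq_zero.1 this with h | h
              · exact sub_eq_zero.1 h
              · exact absurd h h0
            rcases mul_self_eq_one_iff.1 hsq with h | h
            · rw [h, one_mul]; exact hre g
            · rw [h, neg_one_mul, Complex.neg_im, hre g, neg_zero]
        · rw [hdeg, h2]; norm_num
      · intro φ hφ
        rw [smul_smul, mul_comm φ μ, ← smul_smul, h3 φ hφ]
    have hnofix : ∀ χ ∈ Y, μ • χ ≠ χ := by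
      intro χ hχ hfix
      obtain ⟨h1, h2, h3⟩ := (hYmem χ).1 hχ
      have hle : L ⊔ Subgroup.zpowers μ ≤ MulAction.stabilizer (Lin G) χ := by
        apply sup_le
        · intro φ hφ
          exact h3 φ hφ
        · rw [Subgroup.zpowers_le]
          exact hfix
      have hc := card_le_of_le_stabilizer χ (d χ) (hd χ) _ hle
      rw [h2] at hc
      have hL4 : 4 ≤ Nat.card L := by
        rw [hn']
        calc 4 = 2 ^ 2 := by norm_num
          _ ≤ 2 ^ n := Nat.pow_le_pow_right (by norm_num) hn2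
      have heq : L = L ⊔ Subgroup.zpowers μ :=
        Subgroup.eq_of_le_of_card_ge le_sup_left (by omega)
      apply hμL
      rw [heq]
      exact Subgroup.mem_sup_right (Subgroup.mem_zpowers μ)
    have hsum := Finset.sum_involution (s := Y) (f := fun _ => (1 : ZMod 2))
      (fun χ _ => μ • χ) (fun _ _ => by decide) (fun χ hχ _ => hnofix χ hχ) hmemY hfix2
    rw [Finset.sum_const, nsmul_eq_mul, mul_one] at hsum
    have := (ZMod.natCast_eq_zero_iff _ _).1 hsum
    omega
  -- conclude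
  have hYne : Y.Nonempty := by
    rw [Finset.nonempty_iff_ne_empty]
    intro h
    rw [h] at hYodd
    simp at hYodd
  obtain ⟨χ, hχ⟩ := hYne
  obtain ⟨h1, h2, h3⟩ := (hYmem χ).1 hχ
  have hc := card_le_of_le_stabilizer χ (d χ) (hd χ) L (fun φ hφ => h3 φ hφ)
  rw [h2, hn'] at hc
  have hn2' : n = 2 := by
    by_contra hne
    have : 3 ≤ n := by omega
    have := Nat.pow_le_pow_right (show 0 < 2 by norm_num) this
    omega
  rw [← hAcard, ← Subgroup.card_top (G := Lin G), ← hLtop, hn', hn2']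
  norm_num

end Cfsg.Agent.S4477
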