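import Cfsg.Statements.S4480
import Cfsg.Agent.Lib.Helper75.KleinDegree
import Cfsg.Agent.S4479

set_option autoImplicit false
open Cfsg

namespace Cfsg.Agent.S4480

/-- Same setting as the Klein-four order formula: G of order 4·g₀ (g₀ odd) with no normal 2-complement, P a Sylow 2-subgroup, J an involution of P, M over 2, principal 2-block {1, χ₁, χ₂, χ₃} with χ_i(J) = ε_i = ±1. Suppose ε₁ε₂ε₃ = −1 and ε₃ = −1, and put q = x₃ = χ₃(1). Then there is a natural number m with 4·c(J) = m·c(P)·(q + 1), and the order of G equals (m³·c(P)/4)·(q³ − q)/2, that is 8·#G = m³·c(P)·(q³ − q). -/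
theorem result {G : Type*} [Group G] [Finite G] (M : Ideal Cfsg.AlgInt) (hM : Cfsg.IsPModular 2 M) (g₀ : ℕ) (hg₀ : Odd g₀) (hG : Nat.card G = 4 * g₀) (hnc : ¬ ∃ N : Subgroup G, N.Normal ∧ Nat.card N = g₀) (P : Sylow 2 G) (J : G) (hJ : J ∈ (P : Subgroup G)) (hJ2 : orderOf J = 2) (χ₁ χ₂ χ₃ : Cfsg.IrrCharacter G) (ε₁ ε₂ ε₃ : ℤ) (hB : Cfsg.principalBlock M G = {χ : Cfsg.IrrCharacter G | (χ : G → ℂ) = (fun _ => 1) ∨ χ = χ₁ ∨ χ = χ₂ ∨ χ = χ₃}) (hdist : (χ₁ : G → ℂ) ≠ (fun _ => 1) ∧ (χ₂ : G → ℂ) ≠ (fun _ => 1) ∧ (χ₃ : G → ℂ) ≠ (fun _ => 1) ∧ χ₁ ≠ χ₂ ∧ χ₁ ≠ χ₃ ∧ χ₂ ≠ χ₃) (hε : (ε₁ = 1 ∨ ε₁ = -1) ∧ (ε₂ = 1 ∨ ε₂ = -1) ∧ (ε₃ = 1 ∨ ε₃ = -1)) (hval : (χ₁ : G → ℂ) J = ε₁ ∧ (χ₂ : G → ℂ) J = ε₂ ∧ (χ₃ : G → ℂ) J = ε₃) (hprod : ε₁ * ε₂ * ε₃ = -1) (hε₃ : ε₃ = -1) : ∃ m : ℕ, 4 * Nat.card (Subgroup.centralizer ({J} : Set G)) = m * Nat.card (Subgroup.centralizer ((P : Subgroup G) : Set G)) * (Cfsg.charDegree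 (χ₃ : G → ℂ) + 1) ∧ 8 * Nat.card G = m ^ 3 * Nat.card (Subgroup.centralizer ((P : Subgroup G) : Set G)) * (Cfsg.charDegree (χ₃ : G → ℂ) ^ 3 - Cfsg.charDegree (χ₃ : G → ℂ)) := by
  classical
  haveI : Fintype G := Fintype.ofFinite G
  haveI : Fintype (Cfsg.IrrCharacter G) := Fintype.ofFinite _
  haveI : Fact (Nat.Prime 2) := ⟨Nat.prime_two⟩
  have H := Cfsg.Agent.Lib.Helper75.kleinHyp_of_no_normal_complement hg₀ hG hnc P
  have hJ1 : J ≠ 1 := by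
    intro h
    rw [h, orderOf_one] at hJ2
    norm_num at hJ2
  have hres := Cfsg.Agent.S4479.result M hM g₀ hg₀ hG hnc P J hJ hJ2 χ₁ χ₂ χ₃ ε₁ ε₂ ε₃ hB hdist
    hε hval
  -- weak block orthogonality
  have h1reg : ¬ 2 ∣ orderOf (1 : G) := by
    rw [orderOf_one]
    norm_num
  have hJsing : 2 ∣ orderOf J := by rw [hJ2]
  have hw := Cfsg.Agent.Lib.Helper16.weak_block_orthogonality_finset hM
    (Cfsg.Agent.Lib.Helper81.oneIrr G) h1reg hJsing
  have hbl : Cfsg.blockOf M ((Cfsg.Agent.Lib.Helper81.oneIrr G : Cfsg.IrrCharacter G) : G → ℂ) =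
      Cfsg.principalBlock M G :=
    (Cfsg.Agent.Lib.Helper77.eq_principalBlock_iff hM.2.1.isPrime _).mpr
      (Cfsg.Agent.Lib.Helper81.oneIrr_mem_principalBlock hM.2.1.isPrime)
  rw [hbl, Cfsg.Agent.Lib.Helper75.sum_principalBlock_four hB hdist] at hw
  obtain ⟨hv1, hv2, hv3⟩ := hval
  have hd1 := Cfsg.Agent.Lib.Helper81.irr_apply_one_eq_charDegree χ₁
  have hd2 := Cfsg.Agent.Lib.Helper81.irr_apply_one_eq_charDegree χ₂
  have hd3 := Cfsg.Agent.Lib.Helper81.irr_apply_one_eq_charDegree χ₃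
  obtain ⟨d1, hd1pos, -, hd1eq, -⟩ := Cfsg.Agent.Lib.Helper16.irr_degree_spec χ₁
  obtain ⟨d2, hd2pos, -, hd2eq, -⟩ := Cfsg.Agent.Lib.Helper16.irr_degree_spec χ₂
  obtain ⟨d3, hd3pos, -, hd3eq, -⟩ := Cfsg.Agent.Lib.Helper16.irr_degree_spec χ₃
  simp only [Cfsg.Agent.Lib.Helper81.oneIrr_apply, hv1, hv2, hv3, hd1, hd2, hd3, map_one,
    map_intCast] at hw
  rw [hd1eq, hd2eq, hd3eq] at hw hres
  rw [hd3eq]
  rw [hd1eq] at hd1
  rw [hd2eq] at hd2
  rw [hd3eq] at hd3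
  have hwZ : (1 : ℤ) * 1 + (d1 : ℤ) * ε₁ + (d2 : ℤ) * ε₂ + (d3 : ℤ) * ε₃ = 0 := by
    exact_mod_cast hw
  -- the signs
  subst hε₃
  have h12 : ε₁ * ε₂ = 1 := by linarith
  have hd1Z : (1 : ℤ) ≤ d1 := by exact_mod_cast hd1pos
  have hd2Z : (1 : ℤ) ≤ d2 := by exact_mod_cast hd2pos
  have hd3Z : (1 : ℤ) ≤ d3 := by exact_mod_cast hd3pos
  have he1 : ε₁ = 1 := by
    rcases hε.1 with h | h
    · exact h
    · exfalso
      rw [h] at h12 hwZ
      have : ε₂ = -1 := by linarith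
      rw [this] at hwZ
      linarith
  subst he1
  have he2 : ε₂ = 1 := by linarith
  subst he2
  -- equal degrees
  have hdeg := H.degree_eq hM hJ hJ1 hB hdist (by rw [hv1]; norm_num) (by rw [hv2]; norm_num)
    (by rw [hv3]; norm_num)
  rw [hd1, hd2] at hdeg
  have hd12 : d1 = d2 := by exact_mod_cast hdeg
  subst hd12
  have hq : d3 = 2 * d1 + 1 := by
    have : (d3 : ℤ) = 2 * (d1 : ℤ) + 1 := by linarith
    exact_mod_cast this
  subst hq
  -- congruence modulo four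
  have h4 := H.four_dvd_degree_sub hJ hJ1 χ₁ d1 hd1 1 (by rw [hv1])
  obtain ⟨j, hj⟩ : ∃ j : ℕ, d1 = 4 * j + 1 := by
    obtain ⟨i, hi⟩ := h4
    have hi0 : 0 ≤ i := by
      by_contra hneg
      have : i ≤ -1 := by omega
      nlinarith
    refine ⟨i.toNat, ?_⟩
    have : ((i.toNat : ℕ) : ℤ) = i := Int.toNat_of_nonneg hi0
    zify
    rw [this]
    linarith
  subst hj
  -- abbreviations
  set g := Nat.card G with hg
  set cP := Nat.card (Subgroup.centralizer ((P : Subgroup G) : Set G)) with hcP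
  set cJ := Nat.card (Subgroup.centralizer ({J} : Set G)) with hcJ
  have hcP0 : 0 < cP := Nat.card_pos
  have hcJ0 : 0 < cJ := Nat.card_pos
  -- the order formula over the naturals
  have hQ : (g : ℚ) * ((2 * j + 1) ^ 2) * (cP : ℚ) ^ 2 = (4 * j + 1) * (8 * j + 3) * (cJ : ℚ) ^ 3 := by
    rw [hres]
    have hcPq : (cP : ℚ) ≠ 0 := Nat.cast_ne_zero.mpr hcP0.ne'
    have hj0 : (0 : ℚ) ≤ j := Nat.cast_nonneg j
    have e1 : (((4 * j + 1 : ℕ) : ℚ) + ((1 : ℤ) : ℚ)) ≠ 0 := by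
      push_cast
      linarith
    have e3 : (((2 * (4 * j + 1) + 1 : ℕ) : ℚ) + ((-1 : ℤ) : ℚ)) ≠ 0 := by
      push_cast
      linarith
    field_simp
    push_cast
    ring
  have hN : g * (2 * j + 1) ^ 2 * cP ^ 2 = (4 * j + 1) * (8 * j + 3) * cJ ^ 3 := by
    exact_mod_cast hQ
  -- `cP` divides `cJ`
  have hle : Subgroup.centralizer ((P : Subgroup G) : Set G) ≤
      Subgroup.centralizer ({J} : Set G) :=
    Subgroup.centralizer_le (Set.singleton_subset_iff.mpr hJ)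
  obtain ⟨n, hn⟩ : cP ∣ cJ := Subgroup.card_dvd_of_le hle
  -- the class equation
  have hcl := Cfsg.Agent.Lib.Helper4.card_conj_mul_card_centralizer J
  set k := Nat.card {v : G // IsConj J v} with hk
  rw [← hcJ, ← hg] at hcl
  -- `k s² = d q n²`
  set s := 2 * j + 1 with hs
  have hkey : k * s ^ 2 = (4 * j + 1) * (8 * j + 3) * n ^ 2 := by
    have h1 : (k * s ^ 2) * (cJ * cP ^ 2) = ((4 * j + 1) * (8 * j + 3) * n ^ 2) * (cJ * cP ^ 2) := by
      calc (k * s ^ 2) * (cJ * cP ^ 2) = (k * cJ) * s ^ 2 * cP ^ 2 := by ring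
        _ = g * s ^ 2 * cP ^ 2 := by rw [hcl]
        _ = (4 * j + 1) * (8 * j + 3) * cJ ^ 3 := hN
        _ = ((4 * j + 1) * (8 * j + 3) * n ^ 2) * (cJ * cP ^ 2) := by rw [hn]; ring
    exact Nat.eq_of_mul_eq_mul_right (by positivity) h1
  -- coprimality
  have hcop1 : Nat.Coprime s (4 * j + 1) := by
    have h1 : 4 * j + 1 + 1 = 2 * s := by rw [hs]; ring
    have h2 : Nat.Coprime s (2 * s - 1) := by
      have : Nat.Coprime (2 * s - 1) s := by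
        rw [Nat.coprime_comm]
        have h3 : 2 * s - 1 + 1 = s * 2 := by omega
        have h4 : Nat.Coprime s (s * 2 - 1) := by
          apply Nat.Coprime.symm
          rw [Nat.coprime_iff_gcd_eq_one]
          have h5 : Nat.gcd (s * 2 - 1) s ∣ 1 := by
            have h6 : Nat.gcd (s * 2 - 1) s ∣ s * 2 - 1 := Nat.gcd_dvd_left _ _
            have h7 : Nat.gcd (s * 2 - 1) s ∣ s * 2 := Dvd.dvd.mul_right (Nat.gcd_dvd_right _ _) 2
            have h8 := Nat.dvd_sub h7 h6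
            have h9 : s * 2 - (s * 2 - 1) = 1 := by omega
            rwa [h9] at h8
          exact Nat.dvd_one.mp h5
        have h10 : 2 * s - 1 = s * 2 - 1 := by omega
        rw [h10]
        exact h4
      exact this.symm
    have h3 : 4 * j + 1 = 2 * s - 1 := by omega
    rw [h3]
    exact h2
  have hcop2 : Nat.Coprime s (8 * j + 3) := by
    have h3 : 8 * j + 3 = 4 * s - 1 := by omega
    rw [h3]
    apply Nat.Coprime.symm
    rw [Nat.coprime_iff_gcd_eq_one]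
    have h5 : Nat.gcd (4 * s - 1) s ∣ 1 := by
      have h6 : Nat.gcd (4 * s - 1) s ∣ 4 * s - 1 := Nat.gcd_dvd_left _ _
      have h7 : Nat.gcd (4 * s - 1) s ∣ 4 * s := Dvd.dvd.mul_left (Nat.gcd_dvd_right _ _) 4
      have h8 := Nat.dvd_sub h7 h6
      have h9 : 4 * s - (4 * s - 1) = 1 := by omega
      rwa [h9] at h8
    exact Nat.dvd_one.mp h5
  have hcop : Nat.Coprime (s ^ 2) ((4 * j + 1) * (8 * j + 3)) :=
    Nat.Coprime.pow_left 2 (Nat.Coprime.mul_right hcop1 hcop2)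
  have hdvd : s ^ 2 ∣ n ^ 2 := by
    apply hcop.dvd_of_dvd_mul_left
    rw [← hkey]
    exact Dvd.intro_left k rfl
  have hsn : s ∣ n := (Nat.pow_dvd_pow_iff (by norm_num)).mp hdvd
  obtain ⟨m, hm⟩ := hsn
  refine ⟨m, ?_, ?_⟩
  · rw [hn, hm, hs]
    ring
  · -- `k = d q m²`
    have hs0 : 0 < s := by rw [hs]; omega
    have hk' : k = (4 * j + 1) * (8 * j + 3) * m ^ 2 := by
      have h1 : k * s ^ 2 = ((4 * j + 1) * (8 * j + 3) * m ^ 2) * s ^ 2 := by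
        rw [hkey, hm]
        ring
      exact Nat.eq_of_mul_eq_mul_right (by positivity) h1
    have hcube : (2 * (4 * j + 1) + 1) ^ 3 - (2 * (4 * j + 1) + 1) =
        8 * (4 * j + 1) * s * (8 * j + 3) := by
      apply Nat.sub_eq_of_eq_add
      rw [hs]
      ring
    rw [hcube, ← hcl, hk', hn, hm, hs]
    ring

end Cfsg.Agent.S4480
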