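import Cfsg.Statements.S4482
import Cfsg.Agent.Lib.Helper75.DihFormula
import Cfsg.Agent.Lib.Helper14.DkDih

set_option autoImplicit false
open Cfsg

namespace Cfsg.Agent.S4482

/-- An order formula for groups with dihedral Sylow 2-subgroups and one class of involutions. Let G be a finite group whose Sylow 2-subgroup P = ⟨σ, τ⟩ is dihedral of order 2^n ≥ 8 (σ of order 2^(n−1), τ an involution inverting σ), let J be the central involution σ^(2^(n−2)), and suppose J, τ and στ are conjugate in G. Fix M over 2 and let χ₁ be an irreducible character in the principal 2-block taking one constant value δ₁ = ±1 at every non-identity power of σ, with χ₁ ≠ 1. Then, with x₁ = χ₁(1) and c(·) denoting orders of centralizers, x₁ ≠ δ₁ and #G · (x₁ − δ₁)² = 2·x₁(x₁ + δ₁)·c(J)³·(1/c(J, τ) + 1/c(J, στ))², where c(J, y) is the order of the joint centralizer of J and y. -/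
theorem result {G : Type*} [Group G] [Finite G] (M : Ideal Cfsg.AlgInt) (hM : Cfsg.IsPModular 2 M) (n : ℕ) (hn : 3 ≤ n) (P : Sylow 2 G) (σ τ : G) (hσ : σ ∈ (P : Subgroup G)) (hτ : τ ∈ (P : Subgroup G)) (hσo : orderOf σ = 2 ^ (n - 1)) (hτo : orderOf τ = 2) (hrel : τ * σ * τ⁻¹ = σ⁻¹) (hgen : Subgroup.closure ({σ, τ} : Set G) = (P : Subgroup G)) (hconj : IsConj (σ ^ (2 ^ (n - 2))) τ ∧ IsConj (σ ^ (2 ^ (n - 2))) (σ * τ)) (χ₁ : Cfsg.IrrCharacter G) (hχ₁ : χ₁ ∈ Cfsg.principalBlock M G) (h1 : (χ₁ : G → ℂ) ≠ (fun _ => 1)) (δ₁ : ℤ) (hδ₁ : δ₁ = 1 ∨ δ₁ = -1) (hval : ∀ l : ℕ, 0 < l → l < 2 ^ (n - 1) → (χ₁ : G → ℂ) (σ ^ l) = δ₁) : (Cfsg.charDegree (χ₁ : G → ℂ) : ℤ) ≠ δ₁ ∧ (Nat.card G : ℚ) * ((Cfsg.charDegree (χ₁ : G → ℂ) : ℚ) - δ₁) ^ 2 = 2 * (Cfsg.charDegree (χ₁ : G → ℂ) : ℚ) * ((Cfsg.charDegree (χ₁ : G → ℂ) : ℚ) + δ₁) * (Nat.card (Subgroup.centralizer ({σ ^ (2 ^ (n - 2))} : Set G))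 : ℚ) ^ 3 * (1 / (Nat.card (Subgroup.centralizer ({σ ^ (2 ^ (n - 2)), τ} : Set G)) : ℚ) + 1 / (Nat.card (Subgroup.centralizer ({σ ^ (2 ^ (n - 2)), σ * τ} : Set G)) : ℚ)) ^ 2 := by
  classical
  have : Fintype G := Fintype.ofFinite G
  have : Fintype (Cfsg.IrrCharacter G) := Fintype.ofFinite _
  have hτ2 : τ * τ = 1 := by rw [← pow_two, ← hτo, pow_orderOf_eq_one]
  have hσ2 : σ * σ ≠ 1 := Cfsg.Agent.Lib.Helper75.dih_sigma_sq_ne hn σ hσo
  have hns : τ ∉ Subgroup.zpowers σ := by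
    intro h
    obtain ⟨k, rfl⟩ := Subgroup.mem_zpowers_iff.mp h
    have h2 : σ ^ k * σ * (σ ^ k)⁻¹ = σ := by
      have : Commute (σ ^ k) σ := (Commute.refl σ).zpow_left k
      rw [this.eq]; group
    rw [h2] at hrel
    apply hσ2
    calc σ * σ = σ * σ⁻¹ := by rw [← hrel]
      _ = 1 := mul_inv_cancel σ
  have hne := Cfsg.Agent.Lib.Helper14.Dk.nonempty_dihedral_closure τ σ hτ2 hrel hns
  rw [Set.pair_comm, hgen, hσo] at hne
  obtain ⟨e⟩ := hne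
  obtain ⟨k, ι, hk, ⟨a, b, hab, ha, hb⟩, hmain⟩ :=
    Cfsg.Agent.Lib.Helper75.dih_order_formula_aux hM P hn e σ hσ hσo τ hτ hrel hconj χ₁ hχ₁ h1
      δ₁ hδ₁ hval
  have hcJ : (Nat.card (Subgroup.centralizer ({σ ^ (2 ^ (n - 2))} : Set G)) : ℂ) ≠ 0 :=
    Nat.cast_ne_zero.mpr Nat.card_pos.ne'
  have hcτ : (Nat.card (Subgroup.centralizer ({σ ^ (2 ^ (n - 2)), τ} : Set G)) : ℂ) ≠ 0 :=
    Nat.cast_ne_zero.mpr Nat.card_pos.ne'
  have hcστ : (Nat.card (Subgroup.centralizer ({σ ^ (2 ^ (n - 2)), σ * τ} : Set G)) : ℂ) ≠ 0 :=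
    Nat.cast_ne_zero.mpr Nat.card_pos.ne'
  have hδ2 : ((δ₁ : ℤ) : ℂ) * ((δ₁ : ℤ) : ℂ) = 1 := by
    rcases hδ₁ with h | h <;> rw [h] <;> norm_num
  have ha' : (a : ℂ) * (Nat.card (Subgroup.centralizer ({σ ^ (2 ^ (n - 2)), τ} : Set G)) : ℂ) =
      (Nat.card (Subgroup.centralizer ({σ ^ (2 ^ (n - 2))} : Set G)) : ℂ) := by
    exact_mod_cast ha
  have hb' : (b : ℂ) * (Nat.card (Subgroup.centralizer ({σ ^ (2 ^ (n - 2)), σ * τ} : Set G)) : ℂ) =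
      (Nat.card (Subgroup.centralizer ({σ ^ (2 ^ (n - 2))} : Set G)) : ℂ) := by
    exact_mod_cast hb
  have hG : (Nat.card G : ℂ) =
      (k : ℂ) * (Nat.card (Subgroup.centralizer ({σ ^ (2 ^ (n - 2))} : Set G)) : ℂ) := by
    exact_mod_cast hk.symm
  constructor
  · intro hd
    have hdC : (Cfsg.charDegree (χ₁ : G → ℂ) : ℂ) = ((δ₁ : ℤ) : ℂ) := by exact_mod_cast hd
    rw [hdC, sub_self] at hmain
    have h3 : (ι : ℂ) ^ 2 = 0 := by
      linear_combination (-1 / 4 : ℂ) * hmain - (ι : ℂ) ^ 2 * hδ2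
    have h4 : ι = 0 := by
      have := pow_eq_zero_iff (two_ne_zero) |>.mp h3
      exact_mod_cast this
    have h5 : a = 0 := by omega
    rw [h5] at ha'
    apply hcJ
    rw [← ha']
    push_cast
    ring
  · apply Rat.cast_injective (α := ℂ)
    push_cast
    have hι : (ι : ℂ) = (Nat.card (Subgroup.centralizer ({σ ^ (2 ^ (n - 2))} : Set G)) : ℂ) *
        (1 / (Nat.card (Subgroup.centralizer ({σ ^ (2 ^ (n - 2)), τ} : Set G)) : ℂ) +
          1 / (Nat.card (Subgroup.centralizer ({σ ^ (2 ^ (n - 2)), σ * τ} : Set G)) : ℂ)) := by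
      rw [hab]
      push_cast
      rw [← ha']
      have hb'' : (a : ℂ) * (Nat.card (Subgroup.centralizer ({σ ^ (2 ^ (n - 2)), τ} : Set G)) : ℂ) =
          (b : ℂ) * (Nat.card (Subgroup.centralizer ({σ ^ (2 ^ (n - 2)), σ * τ} : Set G)) : ℂ) :=
        ha'.trans hb'.symm
      field_simp
      linear_combination (-1 : ℂ) * hb''
    rw [hG]
    calc (k : ℂ) * (Nat.card (Subgroup.centralizer ({σ ^ (2 ^ (n - 2))} : Set G)) : ℂ) *
          ((Cfsg.charDegree (χ₁ : G → ℂ) : ℂ) - (δ₁ : ℂ)) ^ 2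
        = (Nat.card (Subgroup.centralizer ({σ ^ (2 ^ (n - 2))} : Set G)) : ℂ) *
          ((k : ℂ) * ((Cfsg.charDegree (χ₁ : G → ℂ) : ℂ) - (δ₁ : ℂ)) ^ 2) := by ring
      _ = _ := by rw [hmain, hι]; ring

end Cfsg.Agent.S4482
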