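import Cfsg.Statements.S4489
import Cfsg.Agent.Lib.Helper39.PGFieldA
import Cfsg.Agent.Lib.Helper39.PGFieldD

set_option autoImplicit false
set_option linter.style.haveILetI false
open Cfsg

namespace Cfsg.Agent.S4489

open Cfsg.Agent.Lib.Helper3 Cfsg.Agent.Lib.Helper39

/-- Let P be a finite p-group of order p^a with a > 0, and χ a faithful irreducible character of P of degree f whose field of values ℚ(χ) has degree (p − 1)·p^t over ℚ. Then a ≤ (f − 1)/(p − 1) + (t + 1)·f; in integer form, (p − 1)·a ≤ (f − 1) + (p − 1)(t + 1)·f. -/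
theorem result {P : Type*} [Group P] [Finite P] (p a : ℕ) (hp : p.Prime) (ha : 0 < a) (hP : Nat.card P = p ^ a) (χ : Cfsg.IrrCharacter P) (hfaith : ∀ g : P, (χ : P → ℂ) g = (χ : P → ℂ) 1 → g = 1) (f t : ℕ) (hf : Cfsg.charDegree (χ : P → ℂ) = f) (hfield : Module.finrank ℚ (IntermediateField.adjoin ℚ (Set.range (χ : P → ℂ))) = (p - 1) * p ^ t) : (p - 1) * a ≤ (f - 1) + (p - 1) * (t + 1) * f := by
  classical
  haveI : Fact p.Prime := ⟨hp⟩
  haveI : NeZero p := ⟨hp.ne_zero⟩
  haveI : Fintype P := Fintype.ofFinite P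
  have hX : ∀ x : P, x ^ (p ^ a) = 1 := fun x => by
    rw [← hP]; exact pow_card_eq_one'
  obtain ⟨R, hRfix, hRcard⟩ :=
    exists_units_subgroup_fixing (IsIrrCharacter.isCharacter χ.2) (p ^ a) hX
  rw [hfield, Nat.totient_prime_pow hp ha] at hRcard
  have hp1 : 0 < p - 1 := Nat.sub_pos_of_lt hp.one_lt
  have h1 : Nat.card R * p ^ t = p ^ (a - 1) := by
    have h2 : (Nat.card R * p ^ t) * (p - 1) = p ^ (a - 1) * (p - 1) := by
      rw [← hRcard]; ring
    exact Nat.eq_of_mul_eq_mul_right hp1 h2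
  obtain ⟨s, -, hRs⟩ := (Nat.dvd_prime_pow hp).1 (Dvd.intro _ h1 : Nat.card R ∣ p ^ (a - 1))
  have hst : s + t = a - 1 := by
    rw [hRs, ← pow_add] at h1
    exact Nat.pow_right_injective hp.two_le h1
  have hf' : (χ : P → ℂ) 1 = (f : ℂ) :=
    char_one_natCast (IsIrrCharacter.isCharacter χ.2) f hf
  have hmain := pgf_main p a a P hP hX χ χ.2 hfaith f hf' R s hRs hRfix
  have hes : a - s = t + 1 := by omega
  rw [hes] at hmain
  exact hmain

end Cfsg.Agent.S4489
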