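import Cfsg.Statements.S4517
import Cfsg.Agent.Lib.Helper74.FD3
-- import your own Cfsg.Agent.* helpers here

set_option autoImplicit false
open Cfsg

namespace Cfsg.Agent.S4517

/-- Let G be a finite group, M a maximal ideal of the algebraic integers containing 2, and k a natural number coprime to the order of G with g ^ k = g⁻¹ for every element g of odd order (so that g ↦ g ^ k induces a field automorphism of the character values inverting the roots of unity of odd order). If B is a 2-block of full defect (its defect equals the exponent of 2 in the order of G) that is stable under χ ↦ χ ∘ (· ^ k), then B is the principal 2-block. -/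
theorem result {G : Type*} [Group G] [Finite G] (M : Ideal Cfsg.AlgInt) (hM : Cfsg.IsPModular 2 M) (k : ℕ) (hk : Nat.Coprime k (Nat.card G)) (hk₂ : ∀ g : G, Odd (orderOf g) → g ^ k = g⁻¹) (B : Set (Cfsg.IrrCharacter G)) (hB : Cfsg.IsPBlock M B) (hdef : Cfsg.blockDefect 2 B = (Nat.card G).factorization 2) (hstab : ∀ χ ∈ B, ∃ ψ ∈ B, ∀ g : G, (ψ : G → ℂ) g = (χ : G → ℂ) (g ^ k)) : B = Cfsg.principalBlock M G := by
  classical
  have := Fintype.ofFinite G
  have hMp : M.IsPrime := Cfsg.Agent.Lib.Helper81.isPrime_of_isPModular hM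
  obtain ⟨χ₀, rfl⟩ := hB
  have h1 := Cfsg.Agent.Lib.Helper74.oneIrr_mem_of_stable_full_defect hM k hk hk₂ χ₀ hdef hstab
  have h1' : Cfsg.SameBlock M (χ₀ : G → ℂ) (fun _ : G => (1 : ℂ)) := h1
  ext ψ
  constructor
  · intro hψ
    exact Cfsg.Agent.Lib.Helper81.sameBlock_trans hMp
      (Cfsg.Agent.Lib.Helper81.sameBlock_symm h1') hψ
  · intro hψ
    exact Cfsg.Agent.Lib.Helper81.sameBlock_trans hMp h1' hψ

end Cfsg.Agent.S4517
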