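import Cfsg.Statements.S4490
import Cfsg.Agent.S4517
-- import your own Cfsg.Agent.* helpers here

set_option autoImplicit false
open Cfsg

namespace Cfsg.Agent.S4490

/-- Let G be a finite group and M a maximal ideal of the algebraic integers containing 2. Every 2-block B of G whose defect groups are the Sylow 2-subgroups of G (a block of full defect) and which is not the principal block is different from its complex-conjugate block, the block formed by the complex conjugates of the members of B. -/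
theorem result {G : Type*} [Group G] [Finite G] (M : Ideal Cfsg.AlgInt) (hM : Cfsg.IsPModular 2 M) (B : Set (Cfsg.IrrCharacter G)) (hB : Cfsg.IsPBlock M B) (P : Sylow 2 G) (hfull : Cfsg.IsDefectGroup 2 M B (P : Subgroup G)) (hnp : B ≠ Cfsg.principalBlock M G) : {ψ : Cfsg.IrrCharacter G | ∃ χ ∈ B, (ψ : G → ℂ) = fun g => (starRingEnd ℂ) ((χ : G → ℂ) g)} ≠ B := by
  classical
  have := Fintype.ofFinite G
  have : Fact (Nat.Prime 2) := ⟨Nat.prime_two⟩
  have hMp : M.IsPrime := Cfsg.Agent.Lib.Helper81.isPrime_of_isPModular hM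
  intro hconj
  apply hnp
  obtain ⟨χ₀, hχ₀⟩ := hB
  have hχ₀B : χ₀ ∈ B := by
    rw [hχ₀]
    exact Cfsg.Agent.Lib.Helper81.sameBlock_refl hMp _
  have hdef : Cfsg.blockDefect 2 B = (Nat.card G).factorization 2 := by
    obtain ⟨g, hg, Q, hQ⟩ := hfull
    have hval := Cfsg.Agent.Lib.Helper16.val_centralizer_of_isDefectClass 2 M hM ⟨χ₀, hχ₀⟩ hg
    have hcard : Nat.card (P : Subgroup G) =
        Nat.card (Q : Subgroup (Subgroup.centralizer ({g} : Set G))) := by
      rw [hQ, Subgroup.card_map_of_injective (Subgroup.subtype_injective _)]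
    rw [Sylow.card_eq_multiplicity, Sylow.card_eq_multiplicity] at hcard
    have h2 := Nat.pow_right_injective (le_refl 2) hcard
    have hle := Cfsg.Agent.Lib.Helper16.minDegVal_le_card 2 (B := B) ⟨χ₀, hχ₀B⟩
    rw [Cfsg.Agent.Lib.Helper16.blockDefect_eq]
    omega
  have hpos : 0 < Nat.card G := Nat.card_pos
  have hk : Nat.Coprime (Nat.card G - 1) (Nat.card G) := by
    have h1 : Nat.card G = (Nat.card G - 1) + 1 := by omega
    rw [Nat.coprime_comm]
    nth_rewrite 1 [h1]
    simp
  have hpow : ∀ g : G, g ^ (Nat.card G - 1) = g⁻¹ := by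
    intro g
    apply eq_inv_of_mul_eq_one_left
    rw [← pow_succ, Nat.sub_add_cancel hpos]
    exact pow_card_eq_one'
  refine Cfsg.Agent.S4517.result M hM (Nat.card G - 1) hk (fun g _ => hpow g) B ⟨χ₀, hχ₀⟩ hdef ?_
  intro χ hχ
  have hχ' : χ ∈ {ψ : Cfsg.IrrCharacter G | ∃ χ ∈ B, (ψ : G → ℂ) =
      fun g => (starRingEnd ℂ) ((χ : G → ℂ) g)} := by
    rw [hconj]
    exact hχ
  obtain ⟨χ', hχ'B, hχ'eq⟩ := hχ'
  refine ⟨χ', hχ'B, ?_⟩
  intro g
  rw [hpow g, Cfsg.Agent.Lib.Helper80.irr_conj_inv, hχ'eq]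
  simp

end Cfsg.Agent.S4490
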