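import Cfsg.Statements.S4491
import Cfsg.Agent.Lib.Helper74.BR2
import Cfsg.Agent.Lib.Helper16.DefectVal
import Cfsg.Agent.Lib.Helper1.BL2
import Cfsg.Agent.Lib.Helper77.Fourier

set_option autoImplicit false
open scoped ComplexConjugate
open Cfsg

namespace Cfsg.Agent.S4491

open Cfsg.Agent.Lib.Helper16 Cfsg.Agent.Lib.Helper77 Cfsg.Agent.Lib.Helper81
  Cfsg.Agent.Lib.Helper80 Cfsg.Agent.Lib.Helper74 Cfsg.Agent.Lib.Helper1.BL

universe u

section
variable {G : Type u} [Group G] [Fintype G] {p : ℕ} [Fact p.Prime] (P : Sylow p G)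
  [Fintype ↥(P : Subgroup G)]

open Classical in
/-- The permutation character on the cosets of a Sylow `p`-subgroup vanishes at the nontrivial
`p`-regular elements. -/
theorem sum_mlt_mul_apply [Fintype (IrrCharacter G)] {g : G} (hg : ¬ p ∣ orderOf g) :
    ∑ ξ : IrrCharacter G, mlt P (ξ : G → ℂ) 1 * (ξ : G → ℂ) g =
      if g = 1 then (Nat.card G : ℂ) / (Nat.card ↥(P : Subgroup G) : ℂ) else 0 := by
  classical
  unfold mlt colCoeff
  simp only [MonoidHom.one_apply, Units.val_one, mul_one]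
  have h1 : ∀ ξ : IrrCharacter G,
      ((Nat.card ↥(P : Subgroup G) : ℂ)⁻¹ * ∑ y : ↥(P : Subgroup G), (ξ : G → ℂ) (y : G)) *
        (ξ : G → ℂ) g =
      (Nat.card ↥(P : Subgroup G) : ℂ)⁻¹ * ∑ y : ↥(P : Subgroup G),
        (ξ : G → ℂ) g * conj ((ξ : G → ℂ) ((y : G)⁻¹)) := by
    intro ξ
    rw [mul_assoc, Finset.sum_mul]
    congr 1
    refine Finset.sum_congr rfl fun y _ => ?_
    rw [← irr_conj_inv, inv_inv, mul_comm]
  simp_rw [h1]
  rw [← Finset.mul_sum, Finset.sum_comm]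
  simp_rw [irr_column_orthogonality]
  by_cases hg1 : g = 1
  · subst hg1
    rw [if_pos rfl]
    have h2 : ∀ y : ↥(P : Subgroup G),
        (if IsConj (1 : G) ((y : G)⁻¹) then
          (Nat.card (Subgroup.centralizer ({(1 : G)} : Set G)) : ℂ) else 0) =
        if y = 1 then (Nat.card G : ℂ) else 0 := by
      intro y
      have hc : Nat.card (Subgroup.centralizer ({(1 : G)} : Set G)) = Nat.card G := by
        have : Subgroup.centralizer ({(1 : G)} : Set G) = ⊤ := by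
          ext x
          simp [Subgroup.mem_centralizer_iff]
        rw [this, Subgroup.card_top]
      by_cases hy : y = 1
      · subst hy
        rw [if_pos rfl, if_pos (by simp), hc]
      · rw [if_neg hy, if_neg]
        intro hcj
        apply hy
        rw [isConj_one_right] at hcj
        have : (y : G) = 1 := by
          rw [← inv_inv (y : G), hcj, inv_one]
        exact Subtype.ext this
    simp_rw [h2]
    rw [Finset.sum_ite_eq' Finset.univ (1 : ↥(P : Subgroup G)), if_pos (Finset.mem_univ _)]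
    rw [div_eq_inv_mul]
  · rw [if_neg hg1]
    have h2 : ∀ y : ↥(P : Subgroup G),
        (if IsConj g ((y : G)⁻¹) then
          (Nat.card (Subgroup.centralizer ({g} : Set G)) : ℂ) else 0) = 0 := by
      intro y
      rw [if_neg]
      intro hcj
      apply hg1
      obtain ⟨c, hc⟩ := hcj
      have ho : orderOf g = orderOf ((y : G)⁻¹) := hc.orderOf_eq
      rw [orderOf_inv] at ho
      obtain ⟨k, hk⟩ := P.2 y
      have hyk : (y : G) ^ p ^ k = 1 := by
        have := congrArg (Subtype.val) hk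
        simpa using this
      have hd : orderOf g ∣ p ^ k := by
        rw [ho]; exact orderOf_dvd_of_pow_eq_one hyk
      obtain ⟨j, -, hj⟩ := (Nat.dvd_prime_pow (Fact.out : p.Prime)).1 hd
      rcases Nat.eq_zero_or_pos j with rfl | hjp
      · rw [pow_zero] at hj
        exact orderOf_eq_one_iff.1 hj
      · exfalso
        apply hg
        rw [hj]
        exact dvd_pow_self p hjp.ne'
    simp_rw [h2]
    simp

open Classical in
/-- Step B: the key identity. -/
theorem sum_mlt_mul_classInner [Fintype (IrrCharacter G)] (ψ : IrrCharacter G) :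
    ∑ ξ : IrrCharacter G, mlt P (ξ : G → ℂ) 1 *
        classInner (pRegularPart p (ξ : G → ℂ)) (ψ : G → ℂ) =
      (ψ : G → ℂ) 1 / (Nat.card ↥(P : Subgroup G) : ℂ) := by
  have hG : (Nat.card G : ℂ) ≠ 0 := Nat.cast_ne_zero.mpr Nat.card_pos.ne'
  have hp1 : ¬ p ∣ orderOf (1 : G) := by
    rw [orderOf_one]
    exact (Fact.out : p.Prime).one_lt.ne' ∘ Nat.dvd_one.1
  have hpt : ∀ g : G, ∑ ξ : IrrCharacter G, mlt P (ξ : G → ℂ) 1 *
      pRegularPart p (ξ : G → ℂ) g =
      if g = 1 then (Nat.card G : ℂ) / (Nat.card ↥(P : Subgroup G) : ℂ) else 0 := by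
    intro g
    by_cases hg : p ∣ orderOf g
    · have hg1 : g ≠ 1 := by
        rintro rfl
        exact hp1 hg
      rw [if_neg hg1]
      refine Finset.sum_eq_zero fun ξ _ => ?_
      rw [pRegularPart_apply, if_neg (not_not.mpr hg), mul_zero]
    · rw [← sum_mlt_mul_apply P hg]
      refine Finset.sum_congr rfl fun ξ _ => ?_
      rw [pRegularPart_apply, if_pos hg]
  unfold classInner
  have h1 : ∀ ξ : IrrCharacter G, mlt P (ξ : G → ℂ) 1 *
      ((Nat.card G : ℂ)⁻¹ * ∑ g : G, pRegularPart p (ξ : G → ℂ) g * conj ((ψ : G → ℂ) g)) =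
      (Nat.card G : ℂ)⁻¹ * ∑ g : G, conj ((ψ : G → ℂ) g) *
        (mlt P (ξ : G → ℂ) 1 * pRegularPart p (ξ : G → ℂ) g) := by
    intro ξ
    rw [mul_left_comm, Finset.mul_sum]
    congr 1
    refine Finset.sum_congr rfl fun g _ => ?_
    ring
  simp_rw [h1]
  rw [← Finset.mul_sum, Finset.sum_comm]
  simp_rw [← Finset.mul_sum, hpt]
  rw [Finset.sum_eq_single (1 : G)]
  · rw [if_pos rfl, ← irr_conj_inv, inv_one]
    field_simp
  · intro g _ hg
    rw [if_neg hg, mul_zero]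
  · intro h
    exact absurd (Finset.mem_univ _) h

open Classical in
theorem classInner_pReg_eq_zero [Fintype (IrrCharacter G)] {M : Ideal AlgInt}
    (hM : IsPModular p M) (ξ ψ : IrrCharacter G)
    (hns : ¬ SameBlock M (ξ : G → ℂ) (ψ : G → ℂ)) :
    classInner (pRegularPart p (ξ : G → ℂ)) (ψ : G → ℂ) = 0 := by
  have h0 := Cfsg.Agent.S0952.orth_regular p M hM ξ ψ hns
  have h1 : ∑ g : G, pRegularPart p (ξ : G → ℂ) g * conj ((ψ : G → ℂ) g) = 0 := by
    rw [← h0, Finset.sum_filter]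
    apply Finset.sum_congr rfl
    intro g _
    rw [pRegularPart_apply]
    split_ifs <;> simp
  unfold classInner
  rw [h1, mul_zero]

open Classical in
/-- Step C: the key identity inside a block. -/
theorem sum_block_mlt_mul_classInner [Fintype (IrrCharacter G)] {M : Ideal AlgInt}
    (hM : IsPModular p M) (χ₀ ψ : IrrCharacter G) (hψ : ψ ∈ blockOf M (χ₀ : G → ℂ)) :
    ∑ ξ ∈ Finset.univ.filter (fun ξ : IrrCharacter G => ξ ∈ blockOf M (χ₀ : G → ℂ)),
        mlt P (ξ : G → ℂ) 1 * classInner (pRegularPart p (ξ : G → ℂ)) (ψ : G → ℂ) =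
      (ψ : G → ℂ) 1 / (Nat.card ↥(P : Subgroup G) : ℂ) := by
  rw [← sum_mlt_mul_classInner P ψ, Finset.sum_filter]
  refine Finset.sum_congr rfl fun ξ _ => ?_
  by_cases hξ : ξ ∈ blockOf M (χ₀ : G → ℂ)
  · rw [if_pos hξ]
  · rw [if_neg hξ, classInner_pReg_eq_zero hM ξ ψ, mul_zero]
    intro h
    apply hξ
    exact sameBlock_trans (isPrime_of_isPModular hM) hψ (sameBlock_symm h)

open Classical in
/-- Step D: the sum of the squares of the degrees in a block. -/
theorem sum_sq_eq [Fintype (IrrCharacter G)] {M : Ideal AlgInt}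
    (hM : IsPModular p M) (χ₀ : IrrCharacter G) :
    ∑ ψ ∈ Finset.univ.filter (fun ξ : IrrCharacter G => ξ ∈ blockOf M (χ₀ : G → ℂ)),
        (ψ : G → ℂ) 1 ^ 2 =
      (Nat.card ↥(P : Subgroup G) : ℂ) *
        ∑ ξ ∈ Finset.univ.filter (fun ξ : IrrCharacter G => ξ ∈ blockOf M (χ₀ : G → ℂ)),
          mlt P (ξ : G → ℂ) 1 * (ξ : G → ℂ) 1 := by
  set Bf := Finset.univ.filter (fun ξ : IrrCharacter G => ξ ∈ blockOf M (χ₀ : G → ℂ)) with hBf
  have hP : (Nat.card ↥(P : Subgroup G) : ℂ) ≠ 0 := Nat.cast_ne_zero.mpr Nat.card_pos.ne'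
  have hp1 : ¬ p ∣ orderOf (1 : G) := by
    rw [orderOf_one]
    exact (Fact.out : p.Prime).one_lt.ne' ∘ Nat.dvd_one.1
  have h1 : ∀ ξ ∈ Bf, (ξ : G → ℂ) 1 =
      ∑ φ ∈ Bf, classInner (pRegularPart p (ξ : G → ℂ)) (φ : G → ℂ) * (φ : G → ℂ) 1 := by
    intro ξ hξ
    rw [hBf, Finset.mem_filter] at hξ
    have := pRegularPart_expansion p M hM χ₀ ξ hξ.2 1
    rw [pRegularPart_apply, if_pos hp1] at this
    exact this
  have h2 : ∀ ψ ∈ Bf, (ψ : G → ℂ) 1 ^ 2 = (Nat.card ↥(P : Subgroup G) : ℂ) *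
      ∑ ξ ∈ Bf, mlt P (ξ : G → ℂ) 1 *
        (classInner (pRegularPart p (ξ : G → ℂ)) (ψ : G → ℂ) * (ψ : G → ℂ) 1) := by
    intro ψ hψ
    rw [hBf, Finset.mem_filter] at hψ
    have := sum_block_mlt_mul_classInner P hM χ₀ ψ hψ.2
    simp_rw [← mul_assoc]
    rw [← Finset.sum_mul, ← hBf] at *
    rw [this]
    field_simp
  rw [Finset.sum_congr rfl h2, ← Finset.mul_sum, Finset.sum_comm]
  congr 1
  refine Finset.sum_congr rfl fun ξ hξ => ?_
  rw [← Finset.mul_sum, ← h1 ξ hξ]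

open Classical in
/-- The main theorem, `Fintype` form. -/
theorem main_fin [Fintype (IrrCharacter G)] {M : Ideal AlgInt}
    (hM : IsPModular p M) (χ₀ : IrrCharacter G) :
    (∑ ψ ∈ Finset.univ.filter (fun ξ : IrrCharacter G => ξ ∈ blockOf M (χ₀ : G → ℂ)),
        charDegree (ψ : G → ℂ) ^ 2).factorization p =
      (Nat.card G).factorization p + minDegVal p (blockOf M (χ₀ : G → ℂ)) := by
  have hp : p.Prime := Fact.out
  have hMp : M.IsPrime := isPrime_of_isPModular hM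
  obtain ⟨P⟩ : Nonempty (Sylow p G) := inferInstance
  have : Fintype ↥(P : Subgroup G) := Fintype.ofFinite _
  set B := blockOf M (χ₀ : G → ℂ) with hB
  set Bf := Finset.univ.filter (fun ξ : IrrCharacter G => ξ ∈ B) with hBf
  have hχ₀B : χ₀ ∈ B := sameBlock_refl hMp _
  obtain ⟨χ₁, hχ₁B, hχ₁e⟩ := exists_minDegVal p ⟨χ₀, hχ₀B⟩
  set e := minDegVal p B with he
  set a := (Nat.card G).factorization p with ha
  choose n hn using fun ξ : IrrCharacter G => mlt_nat P ξ 1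
  have hd : ∀ ξ : IrrCharacter G, (ξ : G → ℂ) 1 = (charDegree (ξ : G → ℂ) : ℂ) :=
    irr_apply_one_eq_charDegree
  have hmemBf : ∀ ξ : IrrCharacter G, ξ ∈ Bf ↔ ξ ∈ B := by
    intro ξ
    rw [hBf, Finset.mem_filter]
    exact ⟨fun h => h.2, fun h => ⟨Finset.mem_univ _, h⟩⟩
  set k : IrrCharacter G → ℕ := fun ξ => charDegree (ξ : G → ℂ) / p ^ e with hk
  have hdvd : ∀ ξ ∈ Bf, charDegree (ξ : G → ℂ) = p ^ e * k ξ := by
    intro ξ hξ
    rw [hmemBf] at hξ
    have : p ^ e ∣ charDegree (ξ : G → ℂ) :=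
      (Nat.Prime.pow_dvd_iff_le_factorization hp (irr_charDegree_ne_zero ξ)).2
        (minDegVal_le p hξ)
    exact (Nat.mul_div_cancel' this).symm
  have hP : Nat.card ↥(P : Subgroup G) = p ^ a := Sylow.card_eq_multiplicity P
  set n' := (P : Subgroup G).index with hn'
  have hGn : Nat.card G = p ^ a * n' := by
    rw [← hP, hn', Subgroup.card_mul_index]
  have hpn' : ¬ p ∣ n' := Sylow.not_dvd_index P
  have hχ₁Bf : χ₁ ∈ Bf := (hmemBf χ₁).2 hχ₁B
  have hu₁ : ¬ p ∣ k χ₁ := by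
    intro hdv
    have h1 : p ^ (e + 1) ∣ charDegree (χ₁ : G → ℂ) := by
      rw [hdvd χ₁ hχ₁Bf, pow_succ]
      exact Nat.mul_dvd_mul_left _ hdv
    have := (Nat.Prime.pow_dvd_iff_le_factorization hp (irr_charDegree_ne_zero χ₁)).1 h1
    omega
  -- the class function
  set af : G → ℂ := pRegularPart p (fun g => conj ((χ₁ : G → ℂ) g)) with haf
  have hafc : IsClassFunction G af := by
    apply pRegularPart_isClassFunction
    intro g h
    show conj ((χ₁ : G → ℂ) (h * g * h⁻¹)) = conj ((χ₁ : G → ℂ) g)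
    rw [irr_class]
  have hafS : ∀ g, MemLocalRing M (af g) := by
    intro g
    rw [haf, pRegularPart_apply]
    by_cases hg : p ∣ orderOf g
    · rw [if_neg (not_not.mpr hg)]
      exact memLocalRing_zero hMp
    · rw [if_pos hg, ← irr_conj_inv]
      exact memLocalRing_algInt hMp ⟨_, irr_isIntegral χ₁ g⁻¹⟩
  set w : IrrCharacter G → ℂ := fun ξ => omega (ξ : G → ℂ) af with hw
  have hG : (Nat.card G : ℂ) ≠ 0 := Nat.cast_ne_zero.mpr Nat.card_pos.ne'
  have hξ1 : ∀ ξ : IrrCharacter G, (ξ : G → ℂ) 1 ≠ 0 := by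
    intro ξ
    rw [hd]
    exact Nat.cast_ne_zero.mpr (irr_charDegree_ne_zero ξ)
  have hwm : ∀ ξ : IrrCharacter G, (Nat.card G : ℂ) *
      classInner (pRegularPart p (ξ : G → ℂ)) (χ₁ : G → ℂ) = (ξ : G → ℂ) 1 * w ξ := by
    intro ξ
    rw [hw]
    unfold classInner omega
    rw [← mul_assoc, mul_inv_cancel₀ hG, one_mul, mul_div_cancel₀ _ (hξ1 ξ)]
    refine Finset.sum_congr rfl fun g _ => ?_
    rw [haf, pRegularPart_apply, pRegularPart_apply]
    split_ifs
    · ring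
    · ring
  -- the key equation
  have hkey : ∑ ξ ∈ Bf, ((n ξ * k ξ : ℕ) : ℂ) * w ξ = ((n' * k χ₁ : ℕ) : ℂ) := by
    have h1 := sum_block_mlt_mul_classInner P hM χ₀ χ₁ hχ₁B
    rw [← hB, ← hBf] at h1
    have h2 : ∑ ξ ∈ Bf, (n ξ : ℂ) * ((ξ : G → ℂ) 1 * w ξ) =
        (Nat.card G : ℂ) * ((χ₁ : G → ℂ) 1 / (Nat.card ↥(P : Subgroup G) : ℂ)) := by
      rw [← h1, Finset.mul_sum]
      refine Finset.sum_congr rfl fun ξ _ => ?_
      rw [← hwm, hn]
      ring
    have hpe : ((p ^ e : ℕ) : ℂ) ≠ 0 := Nat.cast_ne_zero.mpr (pow_pos hp.pos e).ne'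
    have hpa : ((p ^ a : ℕ) : ℂ) ≠ 0 := Nat.cast_ne_zero.mpr (pow_pos hp.pos a).ne'
    have h3 : ((p ^ e : ℕ) : ℂ) * ∑ ξ ∈ Bf, ((n ξ * k ξ : ℕ) : ℂ) * w ξ =
        ((p ^ e : ℕ) : ℂ) * ((n' * k χ₁ : ℕ) : ℂ) := by
      have h4 : ((p ^ e : ℕ) : ℂ) * ∑ ξ ∈ Bf, ((n ξ * k ξ : ℕ) : ℂ) * w ξ =
          ∑ ξ ∈ Bf, (n ξ : ℂ) * ((ξ : G → ℂ) 1 * w ξ) := by
        rw [Finset.mul_sum]
        refine Finset.sum_congr rfl fun ξ hξ => ?_
        rw [hd, hdvd ξ hξ]
        push_cast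
        ring
      rw [h4, h2, hd, hdvd χ₁ hχ₁Bf, hGn, hP]
      have hpc : (p : ℂ) ≠ 0 := Nat.cast_ne_zero.mpr hp.pos.ne'
      push_cast
      field_simp
    exact mul_left_cancel₀ hpe h3
  -- the sum is prime to p
  set Sint : ℕ := ∑ ξ ∈ Bf, n ξ * k ξ with hSint
  have hS : ¬ p ∣ Sint := by
    intro hdv
    have hI : MemLocalIdeal M ((Sint : ℕ) : ℂ) := (memLocalIdeal_natCast_iff hM _).2 hdv
    have hsplit : ((n' * k χ₁ : ℕ) : ℂ) =
        ∑ ξ ∈ Bf, ((n ξ * k ξ : ℕ) : ℂ) * (w ξ - w χ₁) + ((Sint : ℕ) : ℂ) * w χ₁ := by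
      rw [← hkey, hSint]
      push_cast
      rw [Finset.sum_mul, ← Finset.sum_add_distrib]
      refine Finset.sum_congr rfl fun ξ _ => ?_
      ring
    have h1 : MemLocalIdeal M (∑ ξ ∈ Bf, ((n ξ * k ξ : ℕ) : ℂ) * (w ξ - w χ₁)) := by
      refine memLocalIdeal_sum hMp _ _ fun ξ hξ => ?_
      refine memLocalIdeal_mul_left hMp (memLocalRing_natCast hMp _) ?_
      rw [hmemBf] at hξ
      have hsame : SameBlock M (ξ : G → ℂ) (χ₁ : G → ℂ) :=
        sameBlock_trans hMp (sameBlock_symm hξ) hχ₁B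
      exact memLocalIdeal_omega_sub hMp (fun g h => irr_class ξ g h)
        (fun g h => irr_class χ₁ g h) hsame hafc hafS
    have h2 : MemLocalIdeal M (((Sint : ℕ) : ℂ) * w χ₁) :=
      memLocalIdeal_mul_right hMp hI (memLocalRing_omega hMp χ₁.2 hafc hafS)
    have h3 : MemLocalIdeal M ((n' * k χ₁ : ℕ) : ℂ) := by
      rw [hsplit]
      exact memLocalIdeal_add hMp h1 h2
    have h4 := (memLocalIdeal_natCast_iff hM _).1 h3
    rcases (Nat.Prime.dvd_mul hp).1 h4 with h | h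
    · exact hpn' h
    · exact hu₁ h
  -- the sum of squares
  have hsq : ∑ ψ ∈ Bf, charDegree (ψ : G → ℂ) ^ 2 = p ^ a * (p ^ e * Sint) := by
    have h1 := sum_sq_eq P hM χ₀
    rw [← hB, ← hBf] at h1
    apply Nat.cast_injective (R := ℂ)
    push_cast
    have h2 : ∑ ψ ∈ Bf, ((charDegree (ψ : G → ℂ) : ℂ)) ^ 2 = ∑ ψ ∈ Bf, (ψ : G → ℂ) 1 ^ 2 :=
      Finset.sum_congr rfl fun ψ _ => by rw [hd]
    rw [h2, h1, hP, hSint]
    push_cast
    rw [Finset.mul_sum, Finset.mul_sum, Finset.mul_sum]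
    refine Finset.sum_congr rfl fun ξ hξ => ?_
    rw [hn, hd, hdvd ξ hξ]
    push_cast
    ring
  rw [hsq]
  have hS0 : Sint ≠ 0 := by
    intro h0
    apply hS
    rw [h0]
    exact dvd_zero p
  rw [Nat.factorization_mul (pow_pos hp.pos a).ne' (Nat.mul_ne_zero (pow_pos hp.pos e).ne' hS0),
    Nat.factorization_mul (pow_pos hp.pos e).ne' hS0]
  simp only [Finsupp.coe_add, Pi.add_apply, Nat.Prime.factorization_pow hp,
    Finsupp.single_eq_same, Nat.factorization_eq_zero_of_not_dvd hS]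
  omega

end

/-- Let B be a p-block of defect d of the finite group G (relative to a maximal ideal M of the algebraic integers containing p), and let p^a be the p-part of the order of G. Then the exact power of p dividing the sum of the squares of the degrees of the irreducible characters in B is p^(2a − d). -/
theorem result {G : Type*} [Group G] [Finite G] (p : ℕ) [Fact p.Prime] (M : Ideal Cfsg.AlgInt) (hM : Cfsg.IsPModular p M) (B : Set (Cfsg.IrrCharacter G)) (hB : Cfsg.IsPBlock M B) : (∑ᶠ χ ∈ B, Cfsg.charDegree (χ : G → ℂ) ^ 2).factorization p = 2 * (Nat.card G).factorization p - Cfsg.blockDefect p B := by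
  classical
  have := Fintype.ofFinite G
  have := Fintype.ofFinite (Cfsg.IrrCharacter G)
  obtain ⟨χ₀, rfl⟩ := hB
  have hMp : M.IsPrime := isPrime_of_isPModular hM
  have hfs : ∑ᶠ χ ∈ blockOf M (χ₀ : G → ℂ), Cfsg.charDegree (χ : G → ℂ) ^ 2 =
      ∑ ψ ∈ Finset.univ.filter (fun ξ : IrrCharacter G => ξ ∈ blockOf M (χ₀ : G → ℂ)),
        charDegree (ψ : G → ℂ) ^ 2 := by
    apply finsum_mem_eq_sum_of_inter_support_eq
    ext ψ
    simp
  rw [hfs, main_fin hM χ₀, blockDefect_eq]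
  have := minDegVal_le_card p (B := blockOf M (χ₀ : G → ℂ)) ⟨χ₀, sameBlock_refl hMp _⟩
  omega

end Cfsg.Agent.S4491
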