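import Cfsg.Statements.S4497
import Cfsg.Agent.Lib.Helper74.SelfCent3

set_option autoImplicit false
open Cfsg

namespace Cfsg.Agent.S4497

open Cfsg.Agent.Lib.Helper74 in
/-- Let the finite group G contain an element x of prime order p with C_G(x) = ⟨x⟩, let t be the number of conjugacy classes of elements of order p, and let S* = O_{p′}(G) be the largest normal subgroup of order prime to p. Then S* ≤ G′; if t ≠ p − 1 the quotient G′/S* is simple (in particular non-trivial); if t = p − 1 then G′ = S*. -/
theorem result {G : Type*} [Group G] [Finite G] (p : ℕ) (hp : p.Prime) (x : G) (hx : orderOf x = p) (hC : Subgroup.centralizer ({x} : Set G) = Subgroup.zpowers x) (t : ℕ) (ht : Nat.card {C : ConjClasses G // ∃ g ∈ C.carrier, orderOf g = p} = t) : Cfsg.pPrimeCore p G ≤ commutator G ∧ (t ≠ p - 1 → ∀ h : ((Cfsg.pPrimeCore p G).subgroupOf (commutator G)).Normal, IsSimpleGroup (↥(commutator G) ⧸ (Cfsg.pPrimeCore p G).subgroupOf (commutator G))) ∧ (t = p - 1 → commutator G = Cfsg.pPrimeCore p G) := by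
  haveI : Fact p.Prime := ⟨hp⟩
  have hte := card_classes_mul_relIndex hx hC
  rw [ht] at hte
  set e := (Subgroup.zpowers x).relIndex (Subgroup.normalizer ((Subgroup.zpowers x : Subgroup G) : Set G)) with he
  have hp1 : 0 < p - 1 := Nat.sub_pos_of_lt hp.one_lt
  have ht0 : 0 < t := by
    rcases Nat.eq_zero_or_pos t with h | h
    · rw [h, zero_mul] at hte; omega
    · exact h
  refine ⟨pPrimeCore_le_commutator hp hx hC, ?_, ?_⟩
  · intro hne h
    have hN : ¬ Subgroup.normalizer ((Subgroup.zpowers x : Subgroup G) : Set G) ≤ Subgroup.zpowers x := by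
      intro hle
      have h1 : e = 1 := Subgroup.relIndex_eq_one.mpr hle
      rw [h1, mul_one] at hte
      exact hne hte
    exact simple_quotient hx hC hN h
  · intro heq
    have h1 : e = 1 := by
      rw [← heq] at hte
      have : t * e = t * 1 := by rw [hte, mul_one]
      exact Nat.eq_of_mul_eq_mul_left ht0 this
    have hle : Subgroup.normalizer ((Subgroup.zpowers x : Subgroup G) : Set G) ≤ Subgroup.zpowers x :=
      Subgroup.relIndex_eq_one.mp h1
    exact commutator_eq_pPrimeCore hx hC hle

end Cfsg.Agent.S4497
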