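import Cfsg.Statements.S4505
import Cfsg.Agent.Lib.Helper75.DefectCmp
import Cfsg.Agent.Lib.Helper77.Osima
import Cfsg.Agent.Lib.Helper16.WBO

set_option autoImplicit false
set_option linter.style.haveILetI false
open Cfsg

namespace Cfsg.Agent.S4505

open Cfsg.Agent.Lib.Helper75 Cfsg.Agent.Lib.Helper77 Cfsg.Agent.Lib.Helper81

/-- The local ideal at `M` as an ideal of the local subring. -/
def locIdeal (M : Ideal AlgInt) (hM : M.IsPrime) : Ideal (localSubring M hM) where
  carrier := {s | MemLocalIdeal M (s : ℂ)}
  add_mem' := fun ha hb => memLocalIdeal_add hM ha hb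
  zero_mem' := memLocalIdeal_zero hM
  smul_mem' := fun c _ hx => memLocalIdeal_mul_left hM c.2 hx

theorem mem_locIdeal {M : Ideal AlgInt} (hM : M.IsPrime) (s : localSubring M hM) :
    s ∈ locIdeal M hM ↔ MemLocalIdeal M (s : ℂ) := Iff.rfl

theorem locIdeal_ne_top {M : Ideal AlgInt} (hM : M.IsPrime) : locIdeal M hM ≠ ⊤ := by
  intro h
  have h1 : (1 : localSubring M hM) ∈ locIdeal M hM := by rw [h]; trivial
  exact not_memLocalIdeal_one hM ((mem_locIdeal hM 1).mp h1)

variable {G : Type*} [Group G] [Finite G]

/-- A term of the central character of a block idempotent vanishes modulo the local ideal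
unless the class is `p`-regular of defect exactly `σ`. -/
theorem term_memLocalIdeal {p : ℕ} [Fact p.Prime] {M : Ideal AlgInt} (hM : IsPModular p M)
    (σ : ℕ) (χ ψ : IrrCharacter G)
    (hχ : blockDefect p (blockOf M (χ : G → ℂ)) = σ)
    (hψ : blockDefect p (blockOf M (ψ : G → ℂ)) = σ) (x : G)
    (hx : ¬ (¬ p ∣ orderOf x ∧
      (Nat.card (Subgroup.centralizer ({x} : Set G))).factorization p = σ)) :
    MemLocalIdeal M (blockCoeff (blockOf M (ψ : G → ℂ)) x * centralChar (χ : G → ℂ) x) := by
  classical
  haveI := Fintype.ofFinite G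
  have hMp := isPrime_of_isPModular hM
  have heS : MemLocalRing M (blockCoeff (blockOf M (ψ : G → ℂ)) x) :=
    memLocalRing_blockCoeff hM ψ x
  have hχS : MemLocalRing M (centralChar (χ : G → ℂ) x) := memLocalRing_centralChar hMp χ.2 x
  by_cases he : MemLocalIdeal M (blockCoeff (blockOf M (ψ : G → ℂ)) x)
  · exact memLocalIdeal_mul_right hMp he hχS
  · apply memLocalIdeal_mul_left hMp heS
    by_contra hc
    apply hx
    refine ⟨?_, le_antisymm ?_ ?_⟩
    · intro hdiv
      apply he
      rw [Cfsg.Agent.Lib.Helper16.blockCoeff_eq_zero_of_singular hM ψ hdiv]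
      exact memLocalIdeal_zero hMp
    · rw [← hψ]; exact factorization_le_blockDefect_of_blockCoeff hM ψ x he
    · rw [← hχ]; exact blockDefect_le_factorization_of_centralChar hM χ x hc

/-- Let G be a finite group, p a prime and M a maximal ideal of the algebraic integers containing p. For every σ, the number of p-blocks of defect exactly σ is at most the number of conjugacy classes of p-regular elements whose centralizer has order divisible by p^σ but not by p^(σ+1). -/
theorem result {G : Type*} [Group G] [Finite G] (p : ℕ) [Fact p.Prime] (M : Ideal Cfsg.AlgInt) (hM : Cfsg.IsPModular p M) (σ : ℕ) : Nat.card {B : Set (Cfsg.IrrCharacter G) // Cfsg.IsPBlock M B ∧ Cfsg.blockDefect p B = σ} ≤ Nat.card {C : ConjClasses G // ∃ g : G, ConjClasses.mk g = C ∧ ¬ p ∣ orderOf g ∧ (Nat.card (Subgroup.centralizer ({g} : Set G))).factorization p = σ} := by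
  classical
  haveI := Fintype.ofFinite G
  have hMp := isPrime_of_isPModular hM
  haveI : Finite (IrrCharacter G) := Cfsg.Agent.Lib.Helper3.irrCharacter_finite
  haveI : Fintype {B : Set (Cfsg.IrrCharacter G) // Cfsg.IsPBlock M B ∧ Cfsg.blockDefect p B = σ} :=
    Fintype.ofFinite _
  haveI : Fintype {C : ConjClasses G // ∃ g : G, ConjClasses.mk g = C ∧ ¬ p ∣ orderOf g ∧
      (Nat.card (Subgroup.centralizer ({g} : Set G))).factorization p = σ} := Fintype.ofFinite _
  -- notation
  set n := {B : Set (Cfsg.IrrCharacter G) // Cfsg.IsPBlock M B ∧ Cfsg.blockDefect p B = σ} with hn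
  set k := {C : ConjClasses G // ∃ g : G, ConjClasses.mk g = C ∧ ¬ p ∣ orderOf g ∧
      (Nat.card (Subgroup.centralizer ({g} : Set G))).factorization p = σ} with hk
  -- representatives
  have hrep : ∀ B : n, ∃ χ : IrrCharacter G, B.1 = blockOf M (χ : G → ℂ) := fun B => B.2.1
  choose χ hχ using hrep
  have hdef : ∀ B : n, blockDefect p (blockOf M (χ B : G → ℂ)) = σ := by
    intro B; rw [← hχ B]; exact B.2.2
  -- the residue ring
  let S := localSubring M hMp
  let F := S ⧸ locIdeal M hMp
  haveI : Nontrivial F := Ideal.Quotient.nontrivial_iff.mpr (locIdeal_ne_top hMp)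
  let π : S →+* F := Ideal.Quotient.mk (locIdeal M hMp)
  -- the two matrices
  let lam : n → k → S := fun B C =>
    ⟨centralChar (χ B : G → ℂ) (Quotient.out C.1),
      (mem_localSubring hMp _).mpr (memLocalRing_centralChar hMp (χ B).2 _)⟩
  let a : k → n → S := fun C B =>
    ⟨blockCoeff (blockOf M (χ B : G → ℂ)) (Quotient.out C.1),
      (mem_localSubring hMp _).mpr (memLocalRing_blockCoeff hM (χ B) _)⟩
  -- the key congruence
  have hkey : ∀ B B' : n, π (∑ C : k, lam B C * a C B') = if B = B' then 1 else 0 := by
    intro B B'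
    have hom : omega (χ B : G → ℂ) (blockCoeff (blockOf M (χ B' : G → ℂ))) =
        if B = B' then 1 else 0 := by
      rw [omega_blockCoeff]
      by_cases hBB : B = B'
      · rw [if_pos hBB, if_pos]
        rw [← hBB]; exact self_mem_blockOf hMp (χ B)
      · rw [if_neg hBB, if_neg]
        intro hmem
        apply hBB
        apply Subtype.ext
        rw [hχ B, hχ B']
        have hs : SameBlock M (χ B' : G → ℂ) (χ B : G → ℂ) := hmem
        ext φ
        constructor
        · intro h1
          exact sameBlock_trans hMp hs h1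
        · intro h1
          exact sameBlock_trans hMp (sameBlock_symm hs) h1
    have hecf : IsClassFunction G (blockCoeff (blockOf M (χ B' : G → ℂ))) :=
      blockCoeff_isClassFunction _
    have hχcf : IsClassFunction G (χ B : G → ℂ) := isClassFunction_of_isCharacter (χ B).2
    rw [omega_eq_sum_conjClasses hχcf hecf] at hom
    -- split the sum
    let P : ConjClasses G → Prop := fun C => ∃ g : G, ConjClasses.mk g = C ∧ ¬ p ∣ orderOf g ∧
      (Nat.card (Subgroup.centralizer ({g} : Set G))).factorization p = σ
    let f : ConjClasses G → ℂ := fun c =>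
      blockCoeff (blockOf M (χ B' : G → ℂ)) (Quotient.out c) *
        centralChar (χ B : G → ℂ) (Quotient.out c)
    have hsplit : ∑ c : ConjClasses G, f c =
        ∑ C : k, f C.1 + ∑ c ∈ Finset.univ.filter (fun c => ¬ P c), f c := by
      rw [← Finset.sum_filter_add_sum_filter_not Finset.univ P f]
      congr 1
      exact Finset.sum_subtype (Finset.univ.filter P)
        (fun c => by simp only [Finset.mem_filter, Finset.mem_univ, true_and]; exact Iff.rfl) f
    have hrest : MemLocalIdeal M (∑ c ∈ Finset.univ.filter (fun c => ¬ P c), f c) := by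
      apply memLocalIdeal_sum hMp
      intro c hc
      have hPc : ¬ P c := (Finset.mem_filter.mp hc).2
      apply term_memLocalIdeal hM σ (χ B) (χ B') (hdef B) (hdef B')
      intro hcon
      exact hPc ⟨Quotient.out c, Quotient.out_eq c, hcon.1, hcon.2⟩
    have hmain : MemLocalIdeal M ((∑ C : k, f C.1) - (if B = B' then (1 : ℂ) else 0)) := by
      have : (∑ C : k, f C.1) - (if B = B' then (1 : ℂ) else 0) =
          - ∑ c ∈ Finset.univ.filter (fun c => ¬ P c), f c := by
        rw [← hom]
        show _ - ∑ c : ConjClasses G, f c = _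
        rw [hsplit]; ring
      rw [this]
      exact memLocalIdeal_neg hrest
    -- transfer to the residue ring
    have hval : ((∑ C : k, lam B C * a C B' : S) : ℂ) = ∑ C : k, f C.1 := by
      rw [AddSubmonoidClass.coe_finsetSum]
      refine Finset.sum_congr rfl fun C _ => ?_
      simp only [lam, a, f, Subring.coe_mul]
      ring
    have hdelta : (if B = B' then (1 : F) else 0) = π (if B = B' then (1 : S) else 0) := by
      split_ifs <;> simp
    rw [hdelta, ← sub_eq_zero, ← map_sub, Ideal.Quotient.eq_zero_iff_mem, mem_locIdeal]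
    have hcoe : (((∑ C : k, lam B C * a C B') - (if B = B' then (1 : S) else 0) : S) : ℂ) =
        (∑ C : k, f C.1) - (if B = B' then (1 : ℂ) else 0) := by
      rw [AddSubgroupClass.coe_sub, hval]
      split_ifs <;> simp
    rw [hcoe]
    exact hmain
  -- matrices over the residue ring
  let L : Matrix n k F := fun B C => π (lam B C)
  let A : Matrix k n F := fun C B => π (a C B)
  have hLA : L * A = 1 := by
    ext B B'
    rw [Matrix.mul_apply, Matrix.one_apply]
    have := hkey B B'
    rw [map_sum] at this
    simp only [map_mul] at this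
    exact this
  have h1 : (L * A).rank = Fintype.card n := by rw [hLA, Matrix.rank_one]
  have h2 : (L * A).rank ≤ L.rank := Matrix.rank_mul_le_left L A
  have h3 : L.rank ≤ Fintype.card k := Matrix.rank_le_card_width L
  rw [Nat.card_eq_fintype_card, Nat.card_eq_fintype_card]
  omega

end Cfsg.Agent.S4505
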