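import Cfsg.Statements.S4506
import Cfsg.Agent.Lib.Helper74.PConj1
-- import your own Cfsg.Agent.* helpers here

set_option autoImplicit false
open Cfsg

namespace Cfsg.Agent.S4506

/-- Let G be a finite group, p a prime, p^a the p-part of the order of G and g′ its p′-part. Call two irreducible characters p-conjugate when one is obtained from the other by applying a field automorphism of ℂ that fixes the g′-th roots of unity, and let r be the number of characters p-conjugate to the irreducible character χ (χ included). Then the exponent of p in r·χ(1) is at most a; and if p^a divides r·χ(1) then p^a already divides χ(1). -/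
theorem result {G : Type*} [Group G] [Finite G] (p : ℕ) (hp : p.Prime) (χ : Cfsg.IrrCharacter G) (r : ℕ) (hr : Nat.card {ψ : Cfsg.IrrCharacter G // ∃ σ : ℂ ≃+* ℂ, σ (Complex.exp (2 * Real.pi * Complex.I / ((Nat.card G / p ^ (Nat.card G).factorization p) : ℕ))) = Complex.exp (2 * Real.pi * Complex.I / ((Nat.card G / p ^ (Nat.card G).factorization p) : ℕ)) ∧ (ψ : G → ℂ) = fun g => σ ((χ : G → ℂ) g)} = r) : (r * Cfsg.charDegree (χ : G → ℂ)).factorization p ≤ (Nat.card G).factorization p ∧ (p ^ (Nat.card G).factorization p ∣ r * Cfsg.charDegree (χ : G → ℂ) → p ^ (Nat.card G).factorization p ∣ Cfsg.charDegree (χ : G → ℂ)) := by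
  classical
  have := Fintype.ofFinite G
  have := Fintype.ofFinite (Cfsg.IrrCharacter G)
  have : Fact p.Prime := ⟨hp⟩
  set Pred : Cfsg.IrrCharacter G → Prop := fun ψ => ∃ σ : ℂ ≃+* ℂ, σ (Complex.exp (2 * Real.pi * Complex.I / ((Nat.card G / p ^ (Nat.card G).factorization p) : ℕ))) = Complex.exp (2 * Real.pi * Complex.I / ((Nat.card G / p ^ (Nat.card G).factorization p) : ℕ)) ∧ (ψ : G → ℂ) = fun g => σ ((χ : G → ℂ) g) with hPred
  set S : Finset (Cfsg.IrrCharacter G) := Finset.univ.filter Pred with hS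
  have hcard : S.card = r := by
    rw [← hr, Nat.card_eq_fintype_card, Fintype.card_subtype]
  have h1 : ∀ ψ ∈ S, ∀ g : G, ¬ p ∣ orderOf g → (ψ : G → ℂ) g = (χ : G → ℂ) g := by
    intro ψ hψ g hg
    obtain ⟨σ, hσ, hψσ⟩ := (Finset.mem_filter.mp hψ).2
    rw [hψσ]
    exact Cfsg.Agent.Lib.Helper74.ringEquiv_irr_eq_of_pRegular hp σ hσ χ g hg
  have h2 : ∀ ψ ∈ S, ∀ P : Sylow p G, ∑ u : (P : Subgroup G), (ψ : G → ℂ) (u : G) =
      ∑ u : (P : Subgroup G), (χ : G → ℂ) (u : G) := by
    intro ψ hψ P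
    obtain ⟨σ, hσ, hψσ⟩ := (Finset.mem_filter.mp hψ).2
    obtain ⟨n, hn⟩ := Cfsg.Agent.Lib.Helper74.sum_subgroup_char_eq χ (P : Subgroup G)
    rw [hψσ]
    simp only
    rw [← map_sum, hn, map_mul, map_natCast, map_natCast]
  obtain ⟨hc1, hc2⟩ := Cfsg.Agent.Lib.Helper74.pconj_bound p χ S h1 h2
  rw [hcard] at hc1 hc2
  have hχS : χ ∈ S := by
    rw [hS, Finset.mem_filter]
    exact ⟨Finset.mem_univ _, RingEquiv.refl ℂ, rfl, rfl⟩
  have hr0 : r ≠ 0 := by
    rw [← hcard]
    exact Finset.card_ne_zero.mpr ⟨χ, hχS⟩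
  have hd0 : Cfsg.charDegree (χ : G → ℂ) ≠ 0 := Cfsg.Agent.Lib.Helper81.irr_charDegree_ne_zero χ
  set a := (Nat.card G).factorization p with ha
  set b := (Cfsg.charDegree (χ : G → ℂ)).factorization p with hb
  have hfac : (r * Cfsg.charDegree (χ : G → ℂ)).factorization p = r.factorization p + b := by
    rw [Nat.factorization_mul hr0 hd0]
    rfl
  have hrle : p ^ r.factorization p ≤ r := Nat.le_of_dvd (Nat.pos_of_ne_zero hr0) (Nat.ordProj_dvd r p)
  have hfirst : r.factorization p + b ≤ a := by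
    have h3 : p ^ (r.factorization p + b) ≤ p ^ a := by
      rw [pow_add]
      exact le_trans (Nat.mul_le_mul_right _ hrle) hc1
    exact (Nat.pow_le_pow_iff_right hp.one_lt).mp h3
  refine ⟨by rw [hfac]; exact hfirst, ?_⟩
  intro hdvd
  apply hc2
  have h4 : a ≤ r.factorization p + b := by
    rw [← hfac]
    exact (hp.pow_dvd_iff_le_factorization (Nat.mul_ne_zero hr0 hd0)).mp hdvd
  calc p ^ a ≤ p ^ (r.factorization p + b) := Nat.pow_le_pow_right hp.pos h4
    _ = p ^ r.factorization p * p ^ b := pow_add _ _ _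
    _ ≤ r * p ^ b := Nat.mul_le_mul_right _ hrle

end Cfsg.Agent.S4506
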