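import Cfsg.Statements.S4508
import Cfsg.Agent.Lib.Helper69.SelfCentChar
import Cfsg.Agent.Lib.Helper69.DetCyclic
import Cfsg.Agent.Lib.Helper74.SelfCent2
import Cfsg.Agent.Lib.Helper15.DetChar

set_option autoImplicit false
set_option linter.style.haveILetI false
open Cfsg

namespace Cfsg.Agent.S4508

open Subgroup

/-- a homomorphism to `ℂ` taking the value `-1` forces the commutator subgroup to have even
index -/
theorem even_index_commutator {G : Type*} [Group G] [Finite G] (φ : G →* ℂ) (y : G)
    (hy : φ y = -1) : Even (commutator G).index := by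
  set φ' : G →* ℂˣ := φ.toHomUnits with hφ'
  have hval : ((φ' y : ℂˣ) : ℂ) = -1 := hy
  have hle : commutator G ≤ φ'.ker := Abelianization.commutator_subset_ker φ'
  have h1 := Subgroup.relIndex_mul_index hle
  have h2 : φ'.ker.index = Nat.card φ'.range := Subgroup.index_ker φ'
  have hord : orderOf (φ' y) = 2 := by
    apply orderOf_eq_prime
    · apply Units.ext
      rw [Units.val_pow_eq_pow_val, hval]
      norm_num
    · intro h
      have : ((φ' y : ℂˣ) : ℂ) = 1 := by rw [h]; rfl
      rw [hval] at this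
      norm_num at this
  have h3 : 2 ∣ Nat.card φ'.range := by
    have h4 : orderOf (⟨φ' y, ⟨y, rfl⟩⟩ : φ'.range) = 2 := by
      rw [← hord]
      exact Subgroup.orderOf_mk _ _
    rw [← h4]
    exact orderOf_dvd_natCard _
  rw [← h1, h2]
  exact (even_iff_two_dvd.mpr h3).mul_left _

theorem result {G : Type*} [Group G] [Finite G] (p : ℕ) (hp : p.Prime) (x : G) (hx : orderOf x = p) (hC : Subgroup.centralizer ({x} : Set G) = Subgroup.zpowers x) (t : ℕ) (ht : Nat.card {C : ConjClasses G // ∃ g ∈ C.carrier, orderOf g = p} = t) (χ : Cfsg.IrrCharacter G) (hχ : Cfsg.charDegree (χ : G → ℂ) + 1 = p) : Even t ∨ Even (commutator G).index := by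
  classical
  haveI : Fact p.Prime := ⟨hp⟩
  haveI : Fact (Nat.Prime 2) := ⟨Nat.prime_two⟩
  by_cases ht2 : Even t
  · exact Or.inl ht2
  right
  have hto : Odd t := Nat.not_even_iff_odd.mp ht2
  have het : t * (zpowers x).relIndex (normalizer ((zpowers x : Subgroup G) : Set G)) = p - 1 := by
    rw [← ht]
    exact Cfsg.Agent.Lib.Helper74.card_classes_mul_relIndex hx hC
  set e : ℕ := (zpowers x).relIndex (normalizer ((zpowers x : Subgroup G) : Set G)) with hedef
  have hPcard : Nat.card (zpowers x) = p := by rw [Nat.card_zpowers, hx]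
  have hPN : zpowers x ≤ normalizer ((zpowers x : Subgroup G) : Set G) := Subgroup.le_normalizer
  have hNcard : Nat.card (normalizer ((zpowers x : Subgroup G) : Set G)) = e * p := by
    have h1 := Subgroup.relIndex_mul_relIndex ⊥ (zpowers x)
      (normalizer ((zpowers x : Subgroup G) : Set G)) bot_le hPN
    rw [Subgroup.relIndex_bot_left, Subgroup.relIndex_bot_left, hPcard] at h1
    rw [← h1, mul_comm]
  -- the case `p = 2`
  by_cases hp2 : p = 2
  · have h1 : t * e = 1 := by rw [het, hp2]
    have he1 : e = 1 := Nat.eq_one_of_mul_eq_one_left h1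
    have hNP : normalizer ((zpowers x : Subgroup G) : Set G) ≤ zpowers x :=
      Subgroup.relIndex_eq_one.mp he1
    have h2 := Cfsg.Agent.Lib.Helper74.index_commutator_of_normalizer_le hx hC hNP
    rw [h2, hp2]
    exact even_two
  have hp3 : 3 ≤ p := by
    have := hp.two_le
    omega
  have hpodd : Odd p := hp.odd_of_ne_two hp2
  -- `e` is even
  have heeven : Even e := by
    have h1 : Even (t * e) := by
      rw [het]
      obtain ⟨r, hr⟩ := hpodd
      exact ⟨r, by omega⟩
    rcases Nat.even_mul.mp h1 with h | h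
    · exact absurd h ht2
    · exact h
  have he0 : 0 < e := by
    rcases Nat.eq_zero_or_pos e with h | h
    · rw [h, mul_zero] at het; omega
    · exact h
  have he2 : 2 ≤ e := by
    obtain ⟨r, hr⟩ := heeven
    omega
  -- the degree of `χ`
  have hχc : IsCharacter G (χ : G → ℂ) := Cfsg.Agent.Lib.Helper3.IsIrrCharacter.isCharacter χ.2
  obtain ⟨n, hn0, hn⟩ := Cfsg.Agent.Lib.Helper25.irr_degree χ.2
  have hdegn : n + 1 = p := by
    have : Cfsg.charDegree (χ : G → ℂ) = n := by
      unfold Cfsg.charDegree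
      rw [hn]
      simp
    rw [this] at hχ
    exact hχ
  have hdeg : (χ : G → ℂ) 1 = (p : ℂ) - 1 := by
    rw [hn, ← hdegn]
    push_cast
    ring
  haveI : Fintype G := Fintype.ofFinite G
  haveI : Fintype (zpowers x) := Fintype.ofFinite _
  have hCP : centralizer ((zpowers x : Subgroup G) : Set G) ≤ zpowers x := by
    intro g hg
    rw [← hC, Subgroup.mem_centralizer_iff]
    intro h hh
    rw [Set.mem_singleton_iff] at hh
    rw [hh]
    exact (Subgroup.mem_centralizer_iff.mp hg) x (Subgroup.mem_zpowers x)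
  have hfib : ∀ y ∈ zpowers x, y ≠ 1 →
      Nat.card {z : G // (z ∈ zpowers x ∧ z ≠ 1) ∧ ConjClasses.mk z = ConjClasses.mk y} = e := by
    intro y hy hy1
    exact Cfsg.Agent.Lib.Helper74.card_fiber_eq hx hC (ConjClasses.mk y)
      ⟨y, ConjClasses.mem_carrier_mk, Cfsg.Agent.Lib.Helper74.orderOf_eq_of_mem_zpowers hp hx hy hy1⟩
  have h0 := Cfsg.Agent.Lib.Helper69.SelfCent.trivial_mult_zero (zpowers x) hPcard hCP e he2
    (Dvd.intro_left t het) hNcard hfib χ hdeg hp3
  -- a Sylow 2-subgroup of the normalizer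
  set N : Subgroup G := normalizer ((zpowers x : Subgroup G) : Set G) with hNdef
  obtain ⟨Y⟩ : Nonempty (Sylow 2 N) := inferInstance
  -- it is cyclic
  haveI : IsCyclic (zpowers x) := isCyclic_of_prime_card hPcard
  haveI : IsCyclic (ZMod (Nat.card (zpowers x)))ˣ := by
    rw [hPcard]
    exact ZMod.isCyclic_units_prime hp
  haveI : IsCyclic (MulAut (zpowers x)) :=
    isCyclic_of_injective (IsCyclic.mulAutMulEquiv (zpowers x)).toMonoidHom
      (MulEquiv.injective _)
  have hYcard : Nat.card (Y : Subgroup N) = 2 ^ (Nat.card N).factorization 2 :=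
    Y.card_eq_multiplicity
  have hmem_one : ∀ z : G, z ∈ zpowers x → (∃ r : ℕ, orderOf z ∣ 2 ^ r) → z = 1 := by
    intro z hz ⟨r, hr⟩
    have h1 : orderOf z ∣ p := by
      have h2 : orderOf (⟨z, hz⟩ : zpowers x) ∣ Nat.card (zpowers x) := orderOf_dvd_natCard _
      rwa [Subgroup.orderOf_mk, hPcard] at h2
    have h3 : Nat.Coprime (2 ^ r) p := by
      apply Nat.Coprime.pow_left
      rw [Nat.coprime_primes Nat.prime_two hp]
      omega
    have h4 : orderOf z ∣ Nat.gcd (2 ^ r) p := Nat.dvd_gcd hr h1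
    rw [h3] at h4
    exact orderOf_eq_one_iff.mp (Nat.dvd_one.mp h4)
  have hYord : ∀ z : N, z ∈ (Y : Subgroup N) → ∃ r : ℕ, orderOf (z : G) ∣ 2 ^ r := by
    intro z hz
    obtain ⟨r, hr⟩ := Y.isPGroup' ⟨z, hz⟩
    refine ⟨r, ?_⟩
    have h1 : z ^ (2 ^ r) = 1 := by
      have := congrArg Subtype.val hr
      simpa using this
    have h2 : (z : G) ^ (2 ^ r) = 1 := by
      have := congrArg Subtype.val h1
      simpa using this
    exact orderOf_dvd_of_pow_eq_one h2
  have hinj : Function.Injective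
      ((zpowers x).normalizerMonoidHom.comp (Y : Subgroup N).subtype) := by
    rw [injective_iff_map_eq_one]
    intro z hz
    have h1 : (z : N) ∈ (zpowers x).normalizerMonoidHom.ker := by
      rw [MonoidHom.mem_ker]
      exact hz
    rw [Subgroup.normalizerMonoidHom_ker, Subgroup.mem_subgroupOf] at h1
    have h2 : ((z : N) : G) ∈ zpowers x := hCP h1
    have h3 := hmem_one _ h2 (hYord (z : N) z.2)
    apply Subtype.ext
    apply Subtype.ext
    exact h3
  haveI : IsCyclic (Y : Subgroup N) := isCyclic_of_injective _ hinj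
  obtain ⟨g, hg⟩ := IsCyclic.exists_generator (α := (Y : Subgroup N))
  set m : ℕ := Nat.card (Y : Subgroup N) with hmdef
  have hordg : orderOf g = m := orderOf_eq_card_of_forall_mem_zpowers hg
  set y : G := ((g : N) : G) with hydef
  have hordy : orderOf y = m := by
    rw [← hordg, hydef, Subgroup.orderOf_coe, Subgroup.orderOf_coe]
  set v : ℕ := (Nat.card N).factorization 2 with hvdef
  have hmv : m = 2 ^ v := hYcard
  have hN0 : Nat.card N ≠ 0 := Nat.card_pos.ne'
  -- `m` is even
  have hv1 : 1 ≤ v := by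
    have h1 : 2 ∣ Nat.card N := by
      rw [hNcard]
      exact Dvd.dvd.mul_right (even_iff_two_dvd.mp heeven) p
    exact (Nat.Prime.dvd_iff_one_le_factorization Nat.prime_two hN0).mp h1
  have hmeven : Even m := by
    rw [hmv]
    exact (Nat.even_pow' (by omega)).mpr even_two
  have hm0 : 0 < m := by rw [hmv]; positivity
  -- `m ∣ e`
  have hcop2p : Nat.Coprime (2 ^ v) p := by
    apply Nat.Coprime.pow_left
    rw [Nat.coprime_primes Nat.prime_two hp]
    omega
  have hme : m ∣ e := by
    have h1 : 2 ^ v ∣ Nat.card N := Nat.ordProj_dvd _ 2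
    rw [hNcard] at h1
    rw [hmv]
    exact hcop2p.dvd_of_dvd_mul_right h1
  obtain ⟨k, hk⟩ : m ∣ p - 1 := by
    rw [← het]
    exact Dvd.dvd.mul_left hme t
  -- `k` is odd
  have hkodd : Odd k := by
    rw [← Nat.not_even_iff_odd]
    intro hkeven
    obtain ⟨r, hr⟩ := hkeven
    have h1 : 2 ^ (v + 1) ∣ t * e := by
      rw [het, hk, hmv, hr]
      exact ⟨r, by ring⟩
    have hcopt : Nat.Coprime (2 ^ (v + 1)) t := by
      apply Nat.Coprime.pow_left
      exact Nat.coprime_two_left.mpr hto
    have h2 : 2 ^ (v + 1) ∣ e := hcopt.dvd_of_dvd_mul_left h1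
    have h3 : 2 ^ (v + 1) ∣ Nat.card N := by
      rw [hNcard]
      exact Dvd.dvd.mul_right h2 p
    have h4 := (Nat.Prime.pow_dvd_iff_le_factorization Nat.prime_two hN0).mp h3
    omega
  -- degree in the form `k * m`
  have hdeg' : (χ : G → ℂ) 1 = ((k * m : ℕ) : ℂ) := by
    rw [hdeg, mul_comm k m, ← hk, Nat.cast_sub (by omega)]
    simp
  -- vanishing on the nontrivial powers of `y`
  have hvan : ∀ j : ℕ, y ^ j ≠ 1 → (χ : G → ℂ) (y ^ j) = 0 := by
    intro j hj
    have hyjN : y ^ j ∈ N := by
      have h1 : (((g : N) ^ j : N) : G) = y ^ j := by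
        rw [Subgroup.coe_pow]
      rw [← h1]
      exact ((g : N) ^ j).2
    have hyjP : y ^ j ∉ zpowers x := by
      intro h
      apply hj
      apply hmem_one _ h
      refine ⟨v, ?_⟩
      rw [← hmv, ← hordy]
      exact orderOf_pow_dvd j
    exact Cfsg.Agent.Lib.Helper69.SelfCent.vanish_off hp hx hC hχc h0 hyjN hyjP
  have hdet := Cfsg.Agent.Lib.Helper69.DetCyc.detChar_cyclic hχc y m k hordy hmeven hm0 hdeg' hvan
  apply even_index_commutator (Cfsg.Agent.Lib.Helper15.detCharHom (χ : G → ℂ)) y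
  rw [Cfsg.Agent.Lib.Helper15.detCharHom_apply, hdet, hkodd.neg_one_pow]

end Cfsg.Agent.S4508
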