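import Cfsg.Statements.S4509
import Mathlib

set_option autoImplicit false
set_option linter.unusedSectionVars false
set_option linter.style.haveILetI false
set_option linter.unusedVariables false
open Cfsg

namespace Cfsg.Agent.S4509

section Aux

open Subgroup
open scoped commutatorElement Pointwise

variable {G : Type*} [Group G] [Finite G]

theorem card_P (p : ℕ) (x : G) (hx : orderOf x = p) : Nat.card (zpowers x) = p := by
  rw [Nat.card_zpowers, hx]

theorem zpowers_eq_of_mem (p : ℕ) (hp : p.Prime) (x : G) (hx : orderOf x = p) {y : G}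
    (hy : y ∈ zpowers x) (hy1 : y ≠ 1) : zpowers y = zpowers x := by
  have hle : zpowers y ≤ zpowers x := zpowers_le.2 hy
  apply Subgroup.eq_of_le_of_card_ge hle
  have h1 : Nat.card (zpowers y) ∣ Nat.card (zpowers x) := Subgroup.card_dvd_of_le hle
  rw [card_P p x hx] at h1 ⊢
  rcases (Nat.dvd_prime hp).1 h1 with h | h
  · exfalso
    rw [Nat.card_zpowers, orderOf_eq_one_iff] at h
    exact hy1 h
  · exact h.ge

theorem x_ne_one (p : ℕ) (hp : p.Prime) (x : G) (hx : orderOf x = p) : x ≠ 1 := by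
  intro h
  rw [h, orderOf_one] at hx
  exact hp.ne_one hx.symm

/-- `⟨x⟩` is a Sylow `p`-subgroup. -/
theorem exists_sylow (p : ℕ) [Fact p.Prime] (x : G) (hx : orderOf x = p)
    (hC : Subgroup.centralizer ({x} : Set G) = Subgroup.zpowers x) :
    ∃ Q : Sylow p G, (Q : Subgroup G) = zpowers x := by
  have hp : p.Prime := Fact.out
  have hP : IsPGroup p (zpowers x) := IsPGroup.of_card (n := 1) (by rw [card_P p x hx, pow_one])
  obtain ⟨Q, hQ⟩ := hP.exists_le_sylow
  refine ⟨Q, le_antisymm ?_ hQ⟩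
  have hxQ : x ∈ (Q : Subgroup G) := hQ (mem_zpowers x)
  haveI : Nontrivial Q := ⟨⟨⟨x, hxQ⟩, 1, fun h => x_ne_one p hp x hx (by simpa using congrArg Subtype.val h)⟩⟩
  haveI := Q.2.center_nontrivial
  obtain ⟨z, hz1⟩ := exists_ne (1 : center Q)
  have hzc : ∀ g : Q, g * (z : Q) = (z : Q) * g := fun g => (mem_center_iff.1 z.2 g)
  have hzx : ((z : Q) : G) ∈ zpowers x := by
    rw [← hC, mem_centralizer_singleton_iff]
    have := hzc ⟨x, hxQ⟩
    simpa using (congrArg Subtype.val this).symm
  have hz1' : ((z : Q) : G) ≠ 1 := by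
    intro h
    apply hz1
    ext
    simpa using h
  have hzP := zpowers_eq_of_mem p hp x hx hzx hz1'
  have hxz : x ∈ zpowers ((z : Q) : G) := by rw [hzP]; exact mem_zpowers x
  obtain ⟨k, hk⟩ := mem_zpowers_iff.1 hxz
  intro g hg
  rw [← hC, mem_centralizer_singleton_iff, ← hk]
  have h2 := hzc ⟨g, hg⟩
  have h3 : g * ((z : Q) : G) = ((z : Q) : G) * g := by simpa using congrArg Subtype.val h2
  exact ((Commute.zpow_right (show Commute g ((z : Q) : G) from h3) k)).eq

/-- Subgroups of order `p` correspond to Sylow subgroups. -/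
theorem card_sylow (p : ℕ) [Fact p.Prime] (Q : Sylow p G) (hQ : Nat.card Q = p) :
    Nat.card {H : Subgroup G // Nat.card H = p} = Nat.card (Sylow p G) := by
  have hcard : ∀ Q' : Sylow p G, Nat.card Q' = p := by
    intro Q'
    rw [Sylow.card_eq_multiplicity, ← Sylow.card_eq_multiplicity Q, hQ]
  symm
  apply Nat.card_eq_of_bijective (fun Q' : Sylow p G => (⟨(Q' : Subgroup G), hcard Q'⟩ : {H : Subgroup G // Nat.card H = p}))
  constructor
  · intro Q1 Q2 h
    apply Sylow.ext
    simpa using congrArg Subtype.val h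
  · rintro ⟨H, hH⟩
    have hHp : IsPGroup p H := IsPGroup.of_card (n := 1) (by rw [hH, pow_one])
    obtain ⟨Q', hQ'⟩ := hHp.exists_le_sylow
    refine ⟨Q', ?_⟩
    apply Subtype.ext
    symm
    apply Subgroup.eq_of_le_of_card_ge hQ'
    show Nat.card Q' ≤ Nat.card H
    rw [hcard Q', hH]

/-- Commutators of elements of the normalizer of `⟨x⟩` lie in `⟨x⟩`. -/
theorem comm_mem_of_mem_normalizer (x : G)
    (hC : Subgroup.centralizer ({x} : Set G) = Subgroup.zpowers x) {a b : G}
    (ha : a ∈ normalizer (zpowers x : Set G)) (hb : b ∈ normalizer (zpowers x : Set G)) :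
    ⁅a, b⁆ ∈ zpowers x := by
  -- first show the statement for inverses
  have key : ∀ a b : G, a ∈ normalizer (zpowers x : Set G) → b ∈ normalizer (zpowers x : Set G) →
      (b * a)⁻¹ * (a * b) ∈ zpowers x := by
    intro a b ha hb
    have ha' : a * x * a⁻¹ ∈ zpowers x := (mem_normalizer_iff.1 ha x).1 (mem_zpowers x)
    have hb' : b * x * b⁻¹ ∈ zpowers x := (mem_normalizer_iff.1 hb x).1 (mem_zpowers x)
    obtain ⟨i, hi⟩ := mem_zpowers_iff.1 ha'
    obtain ⟨j, hj⟩ := mem_zpowers_iff.1 hb'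
    have h1 : (a * b) * x * (a * b)⁻¹ = x ^ (i * j) := by
      have : (a * b) * x * (a * b)⁻¹ = a * (b * x * b⁻¹) * a⁻¹ := by group
      rw [this, ← hj]
      have : a * x ^ j * a⁻¹ = (a * x * a⁻¹) ^ j := by
        rw [conj_zpow]
      rw [this, ← hi, ← zpow_mul]
    have h2 : (b * a) * x * (b * a)⁻¹ = x ^ (i * j) := by
      have : (b * a) * x * (b * a)⁻¹ = b * (a * x * a⁻¹) * b⁻¹ := by group
      rw [this, ← hi]
      have : b * x ^ i * b⁻¹ = (b * x * b⁻¹) ^ i := by
        rw [conj_zpow]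
      rw [this, ← hj, ← zpow_mul, mul_comm]
    rw [← hC, mem_centralizer_singleton_iff]
    have h3 : (a * b) * x * (a * b)⁻¹ = (b * a) * x * (b * a)⁻¹ := by rw [h1, h2]
    have h4 : (b * a)⁻¹ * (a * b) * x = (b * a)⁻¹ * ((a * b) * x * (a * b)⁻¹) * (a * b) := by group
    rw [h4, h3]; group
  have := key a⁻¹ b⁻¹ (inv_mem ha) (inv_mem hb)
  have h5 : (b⁻¹ * a⁻¹)⁻¹ * (a⁻¹ * b⁻¹) = ⁅a, b⁆ := by
    rw [commutatorElement_def]; group
  rwa [h5] at this

/-- The fixed-point-free trick: every element of a normal subgroup `K` meeting `⟨x⟩` trivially is a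
commutator `⁅k, x⁆` with `k ∈ K`. -/
theorem exists_comm_eq (x : G)
    (hC : Subgroup.centralizer ({x} : Set G) = Subgroup.zpowers x) (K : Subgroup G) [K.Normal]
    (hK : K ⊓ zpowers x = ⊥) {k : G} (hk : k ∈ K) : ∃ k' ∈ K, ⁅k', x⁆ = k := by
  let φ : K → K := fun k' => ⟨⁅(k' : G), x⁆, by
    rw [commutatorElement_def, mul_assoc, mul_assoc]
    apply K.mul_mem k'.2
    rw [← mul_assoc]
    exact Subgroup.Normal.conj_mem inferInstance _ (K.inv_mem k'.2) x⟩
  have hinj : Function.Injective φ := by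
    intro a b hab
    have h1 : ⁅(a : G), x⁆ = ⁅(b : G), x⁆ := congrArg Subtype.val hab
    rw [commutatorElement_def, commutatorElement_def] at h1
    have h2 : (a : G) * x * (a : G)⁻¹ = (b : G) * x * (b : G)⁻¹ := mul_right_cancel h1
    have h3 : (b : G)⁻¹ * (a : G) ∈ zpowers x := by
      rw [← hC, mem_centralizer_singleton_iff]
      have : (b : G)⁻¹ * a * x = (b : G)⁻¹ * (a * x * (a : G)⁻¹) * a := by group
      rw [this, h2]; group
    have h4 : (b : G)⁻¹ * (a : G) ∈ K ⊓ zpowers x := ⟨K.mul_mem (K.inv_mem b.2) a.2, h3⟩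
    rw [hK, mem_bot] at h4
    ext
    have : (a : G) = (b : G) := by
      have := congrArg (fun t => (b : G) * t) h4
      simpa using this
    exact this
  have hsurj : Function.Surjective φ := Finite.injective_iff_surjective.1 hinj
  obtain ⟨k', hk'⟩ := hsurj ⟨k, hk⟩
  exact ⟨k', k'.2, congrArg Subtype.val hk'⟩

/-- Every element of order `p` is conjugate into `⟨x⟩`. -/
theorem exists_conj_mem (p : ℕ) [Fact p.Prime] (x : G) (hx : orderOf x = p)
    (Q : Sylow p G) (hQ : (Q : Subgroup G) = zpowers x) {g : G} (hg : orderOf g = p) :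
    ∃ h : G, h * g * h⁻¹ ∈ zpowers x := by
  have hHp : IsPGroup p (zpowers g) := IsPGroup.of_card (n := 1) (by rw [card_P p g hg, pow_one])
  obtain ⟨Q', hQ'⟩ := hHp.exists_le_sylow
  obtain ⟨h, hh⟩ := MulAction.exists_smul_eq G Q' Q
  refine ⟨h, ?_⟩
  rw [← hQ, ← hh]
  have : g ∈ (Q' : Subgroup G) := hQ' (mem_zpowers g)
  rw [Sylow.coe_subgroup_smul, Subgroup.mem_smul_pointwise_iff_exists]
  exact ⟨g, this, by simp [MulAut.smul_def]⟩

theorem orderOf_of_mem (p : ℕ) (hp : p.Prime) (x : G) (hx : orderOf x = p) {y : G}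
    (hy : y ∈ zpowers x) (hy1 : y ≠ 1) : orderOf y = p := by
  rw [← Nat.card_zpowers, zpowers_eq_of_mem p hp x hx hy hy1, card_P p x hx]

theorem t_facts (p : ℕ) [Fact p.Prime] (x : G) (hx : orderOf x = p)
    (hC : centralizer ({x} : Set G) = zpowers x) (Q : Sylow p G) (hQ : (Q : Subgroup G) = zpowers x) :
    Nat.card {C : ConjClasses G // ∃ g ∈ C.carrier, orderOf g = p} ≤ p - 1 ∧
    (Nat.card {C : ConjClasses G // ∃ g ∈ C.carrier, orderOf g = p} = p - 1 ↔
      normalizer (zpowers x : Set G) ≤ zpowers x) := by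
  have hp : p.Prime := Fact.out
  let f : {y : zpowers x // y ≠ 1} → {C : ConjClasses G // ∃ g ∈ C.carrier, orderOf g = p} :=
    fun y => ⟨ConjClasses.mk (y.1 : G), (y.1 : G), ConjClasses.mem_carrier_mk,
      orderOf_of_mem p hp x hx y.1.2 (fun h => y.2 (Subtype.ext h))⟩
  have hsurj : Function.Surjective f := by
    rintro ⟨C, g, hgC, hg⟩
    obtain ⟨h, hh⟩ := exists_conj_mem p x hx Q hQ hg
    have hne : h * g * h⁻¹ ≠ 1 := by
      intro h1
      have : g = 1 := by
        have := congrArg (fun t => h⁻¹ * t * h) h1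
        simpa [mul_assoc] using this
      rw [this, orderOf_one] at hg
      exact hp.ne_one hg.symm
    refine ⟨⟨⟨h * g * h⁻¹, hh⟩, fun h1 => hne (congrArg Subtype.val h1)⟩, ?_⟩
    apply Subtype.ext
    show ConjClasses.mk (h * g * h⁻¹) = C
    rw [← ConjClasses.mem_carrier_iff_mk_eq.1 hgC, ConjClasses.mk_eq_mk_iff_isConj, isConj_comm,
      isConj_iff]
    exact ⟨h, rfl⟩
  have hcard : Nat.card {y : zpowers x // y ≠ 1} = p - 1 := by
    classical
    haveI : Fintype (zpowers x) := Fintype.ofFinite _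
    rw [Nat.card_eq_fintype_card, Fintype.card_subtype_compl, Fintype.card_subtype_eq,
      ← Nat.card_eq_fintype_card, card_P p x hx]
  have hle : Nat.card {C : ConjClasses G // ∃ g ∈ C.carrier, orderOf g = p} ≤ p - 1 := by
    rw [← hcard]
    exact Nat.card_le_card_of_surjective f hsurj
  refine ⟨hle, ?_, ?_⟩
  · intro ht
    have hbij : Function.Bijective f :=
      (Nat.bijective_iff_surjective_and_card f).2 ⟨hsurj, by rw [hcard, ht]⟩
    intro n hn
    have h1 : n * x * n⁻¹ ∈ zpowers x := (mem_normalizer_iff.1 hn x).1 (mem_zpowers x)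
    have hx1 : x ≠ 1 := x_ne_one p hp x hx
    have h2 : n * x * n⁻¹ ≠ 1 := by
      intro h1
      apply hx1
      have := congrArg (fun t => n⁻¹ * t * n) h1
      simpa [mul_assoc] using this
    have h3 : f ⟨⟨n * x * n⁻¹, h1⟩, fun h => h2 (congrArg Subtype.val h)⟩ =
        f ⟨⟨x, mem_zpowers x⟩, fun h => hx1 (congrArg Subtype.val h)⟩ := by
      apply Subtype.ext
      show ConjClasses.mk (n * x * n⁻¹) = ConjClasses.mk x
      rw [ConjClasses.mk_eq_mk_iff_isConj, isConj_comm, isConj_iff]
      exact ⟨n, rfl⟩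
    have h4 := hbij.1 h3
    have h5 : n * x * n⁻¹ = x := congrArg (fun y => ((y.1 : zpowers x) : G)) h4
    rw [← hC, mem_centralizer_singleton_iff]
    have := congrArg (fun t => t * n) h5
    simpa [mul_assoc] using this
  · intro hN
    rw [← hcard]
    symm
    apply Nat.card_eq_of_bijective f
    refine ⟨?_, hsurj⟩
    rintro ⟨⟨y, hy⟩, hy1⟩ ⟨⟨y', hy'⟩, hy1'⟩ h
    have h1 : ConjClasses.mk y = ConjClasses.mk y' := congrArg Subtype.val h
    rw [ConjClasses.mk_eq_mk_iff_isConj, isConj_iff] at h1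
    obtain ⟨c, hc⟩ := h1
    have hy1g : y ≠ 1 := fun h => hy1 (Subtype.ext h)
    have hy1g' : y' ≠ 1 := fun h => hy1' (Subtype.ext h)
    -- c normalizes P
    have hcN : c ∈ normalizer (zpowers x : Set G) := by
      rw [mem_normalizer_iff]
      intro z
      rw [← zpowers_eq_of_mem p hp x hx hy hy1g]
      constructor
      · intro hz
        obtain ⟨k, hk⟩ := mem_zpowers_iff.1 hz
        rw [← hk, ← conj_zpow, hc, zpowers_eq_of_mem p hp x hx hy hy1g,
          ← zpowers_eq_of_mem p hp x hx hy' hy1g']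
        exact zpow_mem (mem_zpowers y') k
      · intro hz
        rw [zpowers_eq_of_mem p hp x hx hy hy1g,
          ← zpowers_eq_of_mem p hp x hx hy' hy1g'] at hz
        obtain ⟨k, hk⟩ := mem_zpowers_iff.1 hz
        rw [← hc, conj_zpow] at hk
        have : z = y ^ k := by
          have := congrArg (fun t => c⁻¹ * t * c) hk
          simpa [mul_assoc] using this.symm
        rw [this]
        exact zpow_mem (mem_zpowers y) k
    have hcP : c ∈ zpowers x := hN hcN
    obtain ⟨i, hi⟩ := mem_zpowers_iff.1 hcP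
    obtain ⟨j, hj⟩ := mem_zpowers_iff.1 hy
    have : y' = y := by
      rw [← hc, ← hi, ← hj, ← zpow_add, ← zpow_sub, add_sub_cancel_left]
    apply Subtype.ext
    apply Subtype.ext
    exact this.symm

theorem caseA (p n : ℕ) [Fact p.Prime] (x : G) (hx : orderOf x = p)
    (hC : centralizer ({x} : Set G) = zpowers x) (Q : Sylow p G) (hQ : (Q : Subgroup G) = zpowers x)
    (hidx : (normalizer (zpowers x : Set G)).index = 1 + n * p)
    (hN : normalizer (zpowers x : Set G) ≤ zpowers x) :
    Nat.card (commutator G) = 1 + n * p ∧ (commutator G).index = p := by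
  have hp : p.Prime := Fact.out
  have hNP : normalizer (zpowers x : Set G) = zpowers x := le_antisymm hN le_normalizer
  have hcardG : Nat.card G = p * (1 + n * p) := by
    rw [← Subgroup.card_mul_index (normalizer (zpowers x : Set G)), hidx, hNP, card_P p x hx]
  have hP' : normalizer (Q : Set G) ≤ centralizer (Q : Set G) := by
    intro g hg
    have hg' : g ∈ zpowers x := by
      apply hN
      have : ((Q : Subgroup G) : Set G) = (zpowers x : Set G) := by rw [hQ]
      rw [← this]; exact hg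
    rw [mem_centralizer_iff]
    intro h hh
    have hh' : h ∈ zpowers x := by rw [← hQ]; exact hh
    obtain ⟨i, hi⟩ := mem_zpowers_iff.1 hg'
    obtain ⟨j, hj⟩ := mem_zpowers_iff.1 hh'
    rw [← hi, ← hj, ← zpow_add, ← zpow_add, add_comm]
  set K := (MonoidHom.transferSylow Q hP').ker with hKdef
  have hcompl : IsComplement' K Q := MonoidHom.ker_transferSylow_isComplement' Q hP'
  have hKcard : Nat.card K = 1 + n * p := by
    have h1 := hcompl.card_mul_card
    have h2 : Nat.card (Q : Subgroup G) = p := by rw [hQ, card_P p x hx]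
    rw [h2, hcardG, mul_comm] at h1
    exact Nat.eq_of_mul_eq_mul_left hp.pos h1
  have hKdisj : K ⊓ zpowers x = ⊥ := by
    rw [← hQ]; exact disjoint_iff.1 hcompl.disjoint
  have hKG : commutator G = K := by
    apply le_antisymm
    · haveI : IsMulCommutative Q := ⟨⟨fun a b => Subtype.ext (hP' (le_normalizer b.2) a a.2)⟩⟩
      letI : CommGroup Q := { (inferInstance : Group Q) with mul_comm := fun a b => mul_comm' a b }
      exact Abelianization.commutator_subset_ker (MonoidHom.transferSylow Q hP')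
    · intro k hk
      obtain ⟨k', hk', hkk⟩ := exists_comm_eq x hC K hKdisj hk
      rw [← hkk, commutator_def]
      exact Subgroup.commutator_mem_commutator (mem_top k') (mem_top x)
  refine ⟨by rw [hKG, hKcard], ?_⟩
  have h1 := Subgroup.card_mul_index (commutator G)
  rw [hKG, hKcard, hcardG, mul_comm] at h1
  rw [hKG]
  have : 0 < 1 + n * p := by positivity
  exact Nat.eq_of_mul_eq_mul_right this h1

/-- If the normalizer is bigger than `⟨x⟩` then `x` is a product of commutators. -/
theorem x_mem_commutator (p : ℕ) (hp : p.Prime) (x : G) (hx : orderOf x = p)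
    (hC : centralizer ({x} : Set G) = zpowers x)
    (hN : ¬ normalizer (zpowers x : Set G) ≤ zpowers x) : x ∈ commutator G := by
  obtain ⟨n, hnN, hnP⟩ := SetLike.not_le_iff_exists.1 hN
  have h1 : n * x * n⁻¹ ∈ zpowers x := (mem_normalizer_iff.1 hnN x).1 (mem_zpowers x)
  have hc : ⁅n, x⁆ ∈ zpowers x := by
    rw [commutatorElement_def]
    exact mul_mem h1 (inv_mem (mem_zpowers x))
  have hc1 : ⁅n, x⁆ ≠ 1 := by
    intro h
    apply hnP
    rw [← hC, mem_centralizer_singleton_iff]
    rw [commutatorElement_def] at h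
    have := congrArg (fun t => t * x * n) h
    simpa [mul_assoc] using this
  have hz := zpowers_eq_of_mem p hp x hx hc hc1
  have hx' : x ∈ zpowers ⁅n, x⁆ := by rw [hz]; exact mem_zpowers x
  have hcG : ⁅n, x⁆ ∈ commutator G := by
    rw [commutator_def]
    exact commutator_mem_commutator (mem_top n) (mem_top x)
  exact (zpowers_le.2 hcG) hx'

theorem inf_normalizer_eq_bot (x : G)
    (hC : centralizer ({x} : Set G) = zpowers x) (K : Subgroup G) [K.Normal]
    (hK : K ⊓ zpowers x = ⊥) : K ⊓ normalizer (zpowers x : Set G) = ⊥ := by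
  rw [eq_bot_iff]
  rintro s ⟨hsK, hsN⟩
  have h1 : s * x * s⁻¹ ∈ zpowers x := (mem_normalizer_iff.1 hsN x).1 (mem_zpowers x)
  have hc : ⁅s, x⁆ ∈ K ⊓ zpowers x := by
    constructor
    · show ⁅s, x⁆ ∈ K
      rw [commutatorElement_def, mul_assoc, mul_assoc]
      apply K.mul_mem hsK
      rw [← mul_assoc]
      exact Subgroup.Normal.conj_mem inferInstance _ (K.inv_mem hsK) x
    · show ⁅s, x⁆ ∈ zpowers x
      rw [commutatorElement_def]
      exact mul_mem h1 (inv_mem (mem_zpowers x))
  rw [hK, mem_bot] at hc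
  have hsP : s ∈ zpowers x := by
    rw [← hC, mem_centralizer_singleton_iff]
    rw [commutatorElement_def] at hc
    have := congrArg (fun t => t * x * s) hc
    simpa [mul_assoc] using this
  have : s ∈ K ⊓ zpowers x := ⟨hsK, hsP⟩
  rw [hK] at this
  exact this

/-- Modulo a normal subgroup `K` supplementing the normalizer, every commutator is congruent to an
element of `⟨x⟩`. -/
theorem comm_mod (x : G) (hC : centralizer ({x} : Set G) = zpowers x) (K : Subgroup G) [K.Normal]
    (hsup : normalizer (zpowers x : Set G) ⊔ K = ⊤) (g h : G) :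
    ∃ c ∈ zpowers x, ((⁅g, h⁆ : G) : G ⧸ K) = ((c : G) : G ⧸ K) := by
  have hdecomp : ∀ g : G, ∃ n ∈ normalizer (zpowers x : Set G), ((g : G) : G ⧸ K) = ((n : G) : G ⧸ K) := by
    intro g
    have hg : g ∈ (↑(normalizer (zpowers x : Set G) ⊔ K) : Set G) := by rw [hsup]; trivial
    rw [mul_normal] at hg
    obtain ⟨n, hn, a, ha, rfl⟩ := hg
    refine ⟨n, hn, ?_⟩
    rw [QuotientGroup.mk_mul, (QuotientGroup.eq_one_iff a).2 ha, mul_one]
  obtain ⟨n, hn, hgn⟩ := hdecomp g
  obtain ⟨m, hm, hhm⟩ := hdecomp h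
  refine ⟨⁅n, m⁆, comm_mem_of_mem_normalizer x hC hn hm, ?_⟩
  have h1 : ((⁅g, h⁆ : G) : G ⧸ K) = ⁅(g : G ⧸ K), (h : G ⧸ K)⁆ :=
    map_commutatorElement (QuotientGroup.mk' K) g h
  have h2 : ((⁅n, m⁆ : G) : G ⧸ K) = ⁅(n : G ⧸ K), (m : G ⧸ K)⁆ :=
    map_commutatorElement (QuotientGroup.mk' K) n m
  rw [h1, h2, hgn, hhm]

theorem caseC (p n : ℕ) [Fact p.Prime] (x : G) (hx : orderOf x = p)
    (hC : centralizer ({x} : Set G) = zpowers x)
    (hidx : (normalizer (zpowers x : Set G)).index = 1 + n * p)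
    (hN : ¬ normalizer (zpowers x : Set G) ≤ zpowers x)
    (S : Subgroup G) [S.Normal] (hS : Nat.card S = 1 + n * p) :
    derivedSeries G 2 ≠ derivedSeries G 1 := by
  have hp : p.Prime := Fact.out
  have hSP : S ⊓ zpowers x = ⊥ := by
    apply disjoint_iff.1
    apply Subgroup.disjoint_of_coprime_natCard
    rw [hS, card_P p x hx]
    exact (Nat.coprime_add_mul_right_left 1 p n).2 (Nat.coprime_one_left p)
  have hSN := inf_normalizer_eq_bot x hC S hSP
  have hcompl : IsComplement' S (normalizer (zpowers x : Set G)) := by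
    apply isComplement'_of_card_mul_and_disjoint
    · rw [hS, ← hidx, mul_comm]
      exact Subgroup.card_mul_index _
    · exact disjoint_iff.2 hSN
  have hsup : normalizer (zpowers x : Set G) ⊔ S = ⊤ := by
    rw [sup_comm]; exact hcompl.sup_eq_top
  -- G' ≤ S ⊔ P
  have hG1 : derivedSeries G 1 ≤ S ⊔ zpowers x := by
    rw [derivedSeries_one, commutator_def, commutator_le]
    intro g _ h _
    obtain ⟨c, hc, hgc⟩ := comm_mod x hC S hsup g h
    rw [QuotientGroup.eq] at hgc
    have : ⁅g, h⁆ = c * (⁅g, h⁆⁻¹ * c)⁻¹ := by group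
    rw [this]
    exact mul_mem (mem_sup_right hc) (mem_sup_left (inv_mem hgc))
  have hG2 : derivedSeries G 2 ≤ S := by
    rw [derivedSeries_succ, commutator_le]
    intro a ha b hb
    have ha' : a ∈ (↑(S ⊔ zpowers x) : Set G) := hG1 ha
    have hb' : b ∈ (↑(S ⊔ zpowers x) : Set G) := hG1 hb
    rw [normal_mul] at ha' hb'
    obtain ⟨s, hs, y, hy, rfl⟩ := ha'
    obtain ⟨s', hs', y', hy', rfl⟩ := hb'
    rw [← QuotientGroup.eq_one_iff]
    have h1 : ((⁅s * y, s' * y'⁆ : G) : G ⧸ S) = ⁅((s * y : G) : G ⧸ S), ((s' * y' : G) : G ⧸ S)⁆ :=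
      map_commutatorElement (QuotientGroup.mk' S) _ _
    rw [h1, QuotientGroup.mk_mul, QuotientGroup.mk_mul, (QuotientGroup.eq_one_iff s).2 hs,
      (QuotientGroup.eq_one_iff s').2 hs', one_mul, one_mul]
    have h2 : ((⁅y, y'⁆ : G) : G ⧸ S) = ⁅((y : G) : G ⧸ S), ((y' : G) : G ⧸ S)⁆ :=
      map_commutatorElement (QuotientGroup.mk' S) _ _
    rw [← h2]
    obtain ⟨i, hi⟩ := mem_zpowers_iff.1 hy
    obtain ⟨j, hj⟩ := mem_zpowers_iff.1 hy'
    have : ⁅y, y'⁆ = 1 := by
      rw [commutatorElement_eq_one_iff_commute, ← hi, ← hj]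
      exact (Commute.refl x).zpow_zpow i j
    rw [this]; rfl
  intro heq
  have hx1 : x ∈ derivedSeries G 1 := by
    rw [derivedSeries_one]; exact x_mem_commutator p hp x hx hC hN
  rw [← heq] at hx1
  have : x ∈ S ⊓ zpowers x := ⟨hG2 hx1, mem_zpowers x⟩
  rw [hSP, mem_bot] at this
  exact x_ne_one p hp x hx this

theorem caseB (p n : ℕ) [Fact p.Prime] (x : G) (hx : orderOf x = p)
    (hC : centralizer ({x} : Set G) = zpowers x) (Q : Sylow p G) (hQ : (Q : Subgroup G) = zpowers x)
    (hidx : (normalizer (zpowers x : Set G)).index = 1 + n * p)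
    (hN : ¬ normalizer (zpowers x : Set G) ≤ zpowers x)
    (hne : derivedSeries G 2 ≠ derivedSeries G 1) :
    Nat.card (derivedSeries G 2) = 1 + n * p ∧ Nat.card (commutator G) = p * (1 + n * p) := by
  have hp : p.Prime := Fact.out
  haveI hG1n : (derivedSeries G 1).Normal := derivedSeries_normal G 1
  haveI hG2n : (derivedSeries G 2).Normal := derivedSeries_normal G 2
  have hnormQ : normalizer ((Q : Subgroup G) : Set G) = normalizer (zpowers x : Set G) := by rw [hQ]
  have hG21 : derivedSeries G 2 ≤ derivedSeries G 1 := derivedSeries_antitone G (by norm_num)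
  have hx1 : x ∈ derivedSeries G 1 := by
    rw [derivedSeries_one]; exact x_mem_commutator p hp x hx hC hN
  have hP1 : zpowers x ≤ derivedSeries G 1 := zpowers_le.2 hx1
  -- x ∉ G''
  have hx2 : x ∉ derivedSeries G 2 := by
    intro hx2
    have hP2 : zpowers x ≤ derivedSeries G 2 := zpowers_le.2 hx2
    have hfr : normalizer (zpowers x : Set G) ⊔ derivedSeries G 2 = ⊤ := by
      rw [← hnormQ]
      exact Sylow.normalizer_sup_eq_top' Q (by rw [hQ]; exact hP2)
    apply hne
    apply le_antisymm hG21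
    rw [derivedSeries_one, _root_.commutator_def, commutator_le]
    intro g _ h _
    obtain ⟨c, hc, hgc⟩ := comm_mod x hC (derivedSeries G 2) hfr g h
    rw [← QuotientGroup.eq_one_iff, hgc, QuotientGroup.eq_one_iff]
    exact hP2 hc
  have hG2P : derivedSeries G 2 ⊓ zpowers x = ⊥ := by
    rw [eq_bot_iff]
    rintro y ⟨hy2, hyP⟩
    rw [mem_bot]
    by_contra hy1
    have hz := zpowers_eq_of_mem p hp x hx hyP hy1
    have : x ∈ zpowers y := by rw [hz]; exact mem_zpowers x
    exact hx2 ((zpowers_le.2 hy2) this)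
  have hG2N := inf_normalizer_eq_bot x hC (derivedSeries G 2) hG2P
  -- Frattini for G'
  have hfr1 : normalizer (zpowers x : Set G) ⊔ derivedSeries G 1 = ⊤ := by
    rw [← hnormQ]
    exact Sylow.normalizer_sup_eq_top' Q (by rw [hQ]; exact hP1)
  -- H = G'' ⊔ P is normal
  set H : Subgroup G := derivedSeries G 2 ⊔ zpowers x with hH
  have hi : ∀ g₁ ∈ derivedSeries G 1, ∀ y ∈ zpowers x, g₁ * y * g₁⁻¹ ∈ H := by
    intro g₁ hg₁ y hy
    have : g₁ * y * g₁⁻¹ = ⁅g₁, y⁆ * y := by rw [commutatorElement_def]; group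
    rw [this]
    apply mul_mem (mem_sup_left _) (mem_sup_right hy)
    rw [derivedSeries_succ]
    exact commutator_mem_commutator hg₁ (hP1 hy)
  have hii : ∀ n ∈ normalizer (zpowers x : Set G), ∀ h ∈ H, n * h * n⁻¹ ∈ H := by
    intro n hn
    have : H ≤ H.comap (MulAut.conj n).toMonoidHom := by
      rw [hH]
      apply sup_le
      · intro a ha
        rw [mem_comap]
        apply mem_sup_left
        simpa using hG2n.conj_mem a ha n
      · intro y hy
        rw [mem_comap]
        apply mem_sup_right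
        simpa using (mem_normalizer_iff.1 hn y).1 hy
    intro h hh
    simpa using this hh
  have hiii : ∀ g : G, ∀ y ∈ zpowers x, g * y * g⁻¹ ∈ H := by
    intro g y hy
    have hg : g ∈ (↑(normalizer (zpowers x : Set G) ⊔ derivedSeries G 1) : Set G) := by
      rw [hfr1]; trivial
    rw [mul_normal] at hg
    obtain ⟨n, hn, g₁, hg₁, rfl⟩ := hg
    have : n * g₁ * y * (n * g₁)⁻¹ = n * (g₁ * y * g₁⁻¹) * n⁻¹ := by group
    rw [this]
    exact hii n hn _ (hi g₁ hg₁ y hy)
  haveI hHn : H.Normal := by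
    constructor
    intro h hh g
    have : H ≤ H.comap (MulAut.conj g).toMonoidHom := by
      conv_lhs => rw [hH]
      apply sup_le
      · intro a ha
        rw [mem_comap]
        apply mem_sup_left
        simpa using hG2n.conj_mem a ha g
      · intro y hy
        rw [mem_comap]
        simpa using hiii g y hy
    simpa using this hh
  have hfrH : normalizer (zpowers x : Set G) ⊔ H = ⊤ := by
    rw [← hnormQ]
    exact Sylow.normalizer_sup_eq_top' Q (by rw [hQ]; exact le_sup_right)
  have hsup2 : normalizer (zpowers x : Set G) ⊔ derivedSeries G 2 = ⊤ := by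
    rw [← hfrH, hH, sup_comm (derivedSeries G 2), ← sup_assoc,
      sup_of_le_left (le_normalizer : zpowers x ≤ normalizer (zpowers x : Set G))]
  have hcompl : IsComplement' (normalizer (zpowers x : Set G)) (derivedSeries G 2) := by
    apply isComplement'_of_disjoint_and_mul_eq_univ
    · rw [disjoint_iff, inf_comm]; exact hG2N
    · rw [← mul_normal, hsup2]; rfl
  have hcard2 : Nat.card (derivedSeries G 2) = 1 + n * p := by
    have h1 := hcompl.card_mul_card
    rw [← Subgroup.card_mul_index (normalizer (zpowers x : Set G)), hidx] at h1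
    have hpos : 0 < Nat.card (normalizer (zpowers x : Set G)) := Nat.card_pos
    exact Nat.eq_of_mul_eq_mul_left hpos h1
  refine ⟨hcard2, ?_⟩
  -- |G'| = p |G''|
  rw [← derivedSeries_one, ← hcard2, ← card_P p x hx, ← Nat.card_prod]
  symm
  let f : zpowers x × derivedSeries G 2 → derivedSeries G 1 :=
    fun ya => ⟨(ya.1 : G) * (ya.2 : G), mul_mem (hP1 ya.1.2) (hG21 ya.2.2)⟩
  apply Nat.card_eq_of_bijective f
  constructor
  · rintro ⟨⟨y, hy⟩, ⟨a, ha⟩⟩ ⟨⟨y', hy'⟩, ⟨a', ha'⟩⟩ h
    have h1 : y * a = y' * a' := congrArg Subtype.val h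
    have h2 : a * a'⁻¹ = y⁻¹ * y' := by
      have := congrArg (fun t => y⁻¹ * t * a'⁻¹) h1
      simpa [mul_assoc] using this
    have h3 : a * a'⁻¹ ∈ derivedSeries G 2 ⊓ zpowers x := by
      apply Subgroup.mem_inf.2
      exact ⟨mul_mem ha (inv_mem ha'), by rw [h2]; exact mul_mem (inv_mem hy) hy'⟩
    rw [hG2P, mem_bot] at h3
    have h4 : a = a' := by
      have := congrArg (fun t => t * a') h3
      simpa using this
    have h5 : y = y' := by
      rw [h3] at h2
      have := congrArg (fun t => y * t) h2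
      simpa using this
    subst h4; subst h5; rfl
  · rintro ⟨g, hg⟩
    have hg' : g ∈ (↑(normalizer (zpowers x : Set G) ⊔ derivedSeries G 2) : Set G) := by
      rw [hsup2]; trivial
    rw [mul_normal] at hg'
    obtain ⟨n, hn, a, ha, rfl⟩ := hg'
    have hn1 : n ∈ derivedSeries G 1 := by
      have : n = n * a * a⁻¹ := by group
      rw [this]
      exact mul_mem hg (inv_mem (hG21 ha))
    have hnP : n ∈ zpowers x := by
      have h1 : n * x * n⁻¹ ∈ zpowers x := (mem_normalizer_iff.1 hn x).1 (mem_zpowers x)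
      have hc : ⁅n, x⁆ ∈ derivedSeries G 2 ⊓ zpowers x := by
        constructor
        · show ⁅n, x⁆ ∈ derivedSeries G 2
          rw [derivedSeries_succ]
          exact commutator_mem_commutator hn1 hx1
        · show ⁅n, x⁆ ∈ zpowers x
          rw [commutatorElement_def]
          exact mul_mem h1 (inv_mem (mem_zpowers x))
      rw [hG2P, mem_bot] at hc
      rw [← hC, mem_centralizer_singleton_iff]
      rw [commutatorElement_def] at hc
      have := congrArg (fun t => t * x * n) hc
      simpa [mul_assoc] using this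
    exact ⟨(⟨n, hnP⟩, ⟨a, ha⟩), rfl⟩

end Aux

/-- Let the finite group G contain an element x of prime order p with C_G(x) = ⟨x⟩; let t be the number of conjugacy classes of elements of order p and 1 + n·p the number of subgroups of order p. Then G has a normal subgroup of order 1 + n·p if and only if either t = p − 1, or t < p − 1 and G″ ≠ G′. Moreover, if t = p − 1 then G′ has order 1 + n·p and G/G′ is cyclic of order p; and if t < p − 1 and G″ ≠ G′ then G″ has order 1 + n·p and G′ has order p·(1 + n·p). -/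
theorem result {G : Type*} [Group G] [Finite G] (p : ℕ) (hp : p.Prime) (x : G) (hx : orderOf x = p) (hC : Subgroup.centralizer ({x} : Set G) = Subgroup.zpowers x) (t : ℕ) (ht : Nat.card {C : ConjClasses G // ∃ g ∈ C.carrier, orderOf g = p} = t) (n : ℕ) (hn : Nat.card {H : Subgroup G // Nat.card H = p} = 1 + n * p) : ((∃ S : Subgroup G, S.Normal ∧ Nat.card S = 1 + n * p) ↔ (t = p - 1 ∨ (t < p - 1 ∧ derivedSeries G 2 ≠ derivedSeries G 1))) ∧ (t = p - 1 → Nat.card (commutator G) = 1 + n * p ∧ IsCyclic (G ⧸ commutator G) ∧ (commutator G).index = p) ∧ (t < p - 1 → derivedSeries G 2 ≠ derivedSeries G 1 → Nat.card (derivedSeries G 2) = 1 + n * p ∧ Nat.card (commutator G) = p * (1 + n * p)) := by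
  haveI : Fact p.Prime := ⟨hp⟩
  obtain ⟨Q, hQ⟩ := exists_sylow p x hx hC
  have hQcard : Nat.card Q = p := by
    rw [show Nat.card Q = Nat.card (Q : Subgroup G) from rfl, hQ, card_P p x hx]
  have hidx : (Subgroup.normalizer (Subgroup.zpowers x : Set G)).index = 1 + n * p := by
    rw [← hn, card_sylow p Q hQcard, Q.card_eq_index_normalizer]
    have : ((Q : Subgroup G) : Set G) = (Subgroup.zpowers x : Set G) := by rw [hQ]
    rw [← this]
    rfl
  obtain ⟨htle, htiff⟩ := t_facts p x hx hC Q hQ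
  rw [ht] at htle htiff
  have hlt : t < p - 1 ↔ ¬ Subgroup.normalizer (Subgroup.zpowers x : Set G) ≤ Subgroup.zpowers x := by
    rw [← htiff]; omega
  refine ⟨⟨?_, ?_⟩, ?_, ?_⟩
  · rintro ⟨S, hSn, hS⟩
    by_cases hN : Subgroup.normalizer (Subgroup.zpowers x : Set G) ≤ Subgroup.zpowers x
    · left; exact htiff.2 hN
    · right; exact ⟨hlt.2 hN, caseC p n x hx hC hidx hN S hS⟩
  · rintro (h | ⟨h1, h2⟩)
    · obtain ⟨hc, _⟩ := caseA p n x hx hC Q hQ hidx (htiff.1 h)
      exact ⟨commutator G, inferInstance, hc⟩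
    · obtain ⟨hc, _⟩ := caseB p n x hx hC Q hQ hidx (hlt.1 h1) h2
      exact ⟨derivedSeries G 2, derivedSeries_normal G 2, hc⟩
  · intro h
    obtain ⟨hc, hi⟩ := caseA p n x hx hC Q hQ hidx (htiff.1 h)
    refine ⟨hc, ?_, hi⟩
    apply isCyclic_of_prime_card (p := p)
    rw [← hi, Subgroup.index_eq_card]
  · intro h1 h2
    exact caseB p n x hx hC Q hQ hidx (hlt.1 h1) h2

end Cfsg.Agent.S4509
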