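import Cfsg.Statements.S4510
import Cfsg.Agent.Lib.Helper75.DefectCmp
import Cfsg.Agent.Lib.Helper77.Osima
import Cfsg.Agent.Lib.Helper16.WBO

set_option autoImplicit false
set_option linter.style.haveILetI false
open Cfsg

namespace Cfsg.Agent.S4510

open Cfsg.Agent.Lib.Helper75 Cfsg.Agent.Lib.Helper77 Cfsg.Agent.Lib.Helper81

/-- Let G be a finite group, p a prime, M a maximal ideal of the algebraic integers containing p, and call the defect of a conjugacy class the exponent of p in the order of the centralizer of its elements. Two irreducible characters lying in p-blocks of defect exactly d lie in the same block if and only if their central characters (class size times χ(x)/χ(1)) agree modulo the local ideal at M at every p-regular element x whose class has defect exactly d. -/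
theorem result {G : Type*} [Group G] [Finite G] (p : ℕ) [Fact p.Prime] (M : Ideal Cfsg.AlgInt) (hM : Cfsg.IsPModular p M) (d : ℕ) (χ ψ : Cfsg.IrrCharacter G) (hχ : Cfsg.blockDefect p (Cfsg.blockOf M (χ : G → ℂ)) = d) (hψ : Cfsg.blockDefect p (Cfsg.blockOf M (ψ : G → ℂ)) = d) : Cfsg.SameBlock M (χ : G → ℂ) (ψ : G → ℂ) ↔ ∀ x : G, ¬ p ∣ orderOf x → (Nat.card (Subgroup.centralizer ({x} : Set G))).factorization p = d → Cfsg.MemLocalIdeal M (Cfsg.centralChar (χ : G → ℂ) x - Cfsg.centralChar (ψ : G → ℂ) x) := by
  classical
  haveI := Fintype.ofFinite G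
  have hMp := isPrime_of_isPModular hM
  constructor
  · intro h x _ _
    exact h x
  · intro H
    by_contra hns
    have hψB : ψ ∉ blockOf M (χ : G → ℂ) := hns
    have h1 : omega (χ : G → ℂ) (blockCoeff (blockOf M (χ : G → ℂ))) = 1 := by
      rw [omega_blockCoeff, if_pos (self_mem_blockOf hMp χ)]
    have h0 : omega (ψ : G → ℂ) (blockCoeff (blockOf M (χ : G → ℂ))) = 0 := by
      rw [omega_blockCoeff, if_neg hψB]
    have hecf : IsClassFunction G (blockCoeff (blockOf M (χ : G → ℂ))) :=
      blockCoeff_isClassFunction _
    have hχcf : IsClassFunction G (χ : G → ℂ) := isClassFunction_of_isCharacter χ.2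
    have hψcf : IsClassFunction G (ψ : G → ℂ) := isClassFunction_of_isCharacter ψ.2
    rw [omega_eq_sum_conjClasses hχcf hecf] at h1
    rw [omega_eq_sum_conjClasses hψcf hecf] at h0
    have hsum : (1 : ℂ) = ∑ c : ConjClasses G,
        blockCoeff (blockOf M (χ : G → ℂ)) (Quotient.out c) *
          (centralChar (χ : G → ℂ) (Quotient.out c) - centralChar (ψ : G → ℂ) (Quotient.out c)) := by
      have : (1 : ℂ) = 1 - 0 := by ring
      rw [this]
      conv_lhs => rw [← h1, ← h0]
      rw [← Finset.sum_sub_distrib]
      refine Finset.sum_congr rfl fun c _ => ?_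
      ring
    apply not_memLocalIdeal_one hMp
    rw [hsum]
    apply memLocalIdeal_sum hMp
    intro c _
    set x := Quotient.out c with hx
    have heS : MemLocalRing M (blockCoeff (blockOf M (χ : G → ℂ)) x) :=
      memLocalRing_blockCoeff hM χ x
    have hχS : MemLocalRing M (centralChar (χ : G → ℂ) x) := memLocalRing_centralChar hMp χ.2 x
    have hψS : MemLocalRing M (centralChar (ψ : G → ℂ) x) := memLocalRing_centralChar hMp ψ.2 x
    by_cases he : MemLocalIdeal M (blockCoeff (blockOf M (χ : G → ℂ)) x)
    · exact memLocalIdeal_mul_right hMp he (memLocalRing_sub hMp hχS hψS)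
    · apply memLocalIdeal_mul_left hMp heS
      have hreg : ¬ p ∣ orderOf x := by
        intro hdiv
        apply he
        rw [Cfsg.Agent.Lib.Helper16.blockCoeff_eq_zero_of_singular hM χ hdiv]
        exact memLocalIdeal_zero hMp
      have hle : (Nat.card (Subgroup.centralizer ({x} : Set G))).factorization p ≤ d := by
        rw [← hχ]; exact factorization_le_blockDefect_of_blockCoeff hM χ x he
      by_cases hc1 : MemLocalIdeal M (centralChar (χ : G → ℂ) x)
      · by_cases hc2 : MemLocalIdeal M (centralChar (ψ : G → ℂ) x)
        · exact memLocalIdeal_sub hMp hc1 hc2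
        · have hge : d ≤ (Nat.card (Subgroup.centralizer ({x} : Set G))).factorization p := by
            rw [← hψ]; exact blockDefect_le_factorization_of_centralChar hM ψ x hc2
          exact H x hreg (le_antisymm hle hge)
      · have hge : d ≤ (Nat.card (Subgroup.centralizer ({x} : Set G))).factorization p := by
          rw [← hχ]; exact blockDefect_le_factorization_of_centralChar hM χ x hc1
        exact H x hreg (le_antisymm hle hge)

end Cfsg.Agent.S4510
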