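import Cfsg.Statements.S4512
import Cfsg.Agent.Lib.Helper75.KleinRank

set_option autoImplicit false
open Cfsg

namespace Cfsg.Agent.S4512

/-- If G is a finite group with a Sylow 2-subgroup that is a Klein four-group and a single conjugacy class of involutions, then its principal 2-block (relative to a maximal ideal M of the algebraic integers containing 2) has 2-regular rank 3: the restrictions of its irreducible characters to the elements of odd order span a space of dimension 3 (it has three irreducible Brauer characters). -/
theorem result {G : Type*} [Group G] [Finite G] (M : Ideal Cfsg.AlgInt) (hM : Cfsg.IsPModular 2 M) (P : Sylow 2 G)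
    (hP : Nat.card P = 4) (hexp : ∀ x : P, x * x = 1)
    (hone : ∀ s t : G, orderOf s = 2 → orderOf t = 2 → IsConj s t) :
    Cfsg.blockRank 2 (Cfsg.principalBlock M G) = 3 := by
  classical
  haveI : Fintype G := Fintype.ofFinite G
  haveI : Fintype (Cfsg.IrrCharacter G) := Fintype.ofFinite _
  have hexp' : ∀ u ∈ (P : Subgroup G), u * u = 1 := by
    intro u hu
    have h1 := hexp ⟨u, hu⟩
    have h2 := congrArg Subtype.val h1
    simpa using h2
  have H : Cfsg.Agent.Lib.Helper75.KleinHyp G P := ⟨hP, hexp', hone⟩
  have hnt : ∃ z : G, z ∈ (P : Subgroup G) ∧ z ≠ 1 := by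
    by_contra hcon
    have hbot : (P : Subgroup G) = ⊥ := by
      rw [Subgroup.eq_bot_iff_forall]
      intro x hx
      by_contra hx1
      exact hcon ⟨x, hx, hx1⟩
    have hc : Nat.card (P : Subgroup G) = 1 := by
      rw [hbot]
      exact Subgroup.card_bot
    have hP' : Nat.card (P : Subgroup G) = 4 := hP
    omega
  obtain ⟨z, hzP, hz1⟩ := hnt
  exact H.blockRank_principal hM hzP hz1

end Cfsg.Agent.S4512
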