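import Cfsg.Statements.S4518
import Mathlib
import Cfsg.Agent.Lib.Helper75.Clifford
import Cfsg.Agent.Lib.Helper75.PowMap

set_option autoImplicit false
set_option linter.style.haveILetI false
set_option linter.unusedSectionVars false
open Cfsg

namespace Cfsg.Agent.S4518

open Cfsg.Agent.Lib.Helper75
open scoped ComplexConjugate

section Aux

universe u

variable {G : Type u} [Group G]

/-- The action of `G` on the irreducible characters of a normal subgroup. -/
@[reducible] noncomputable def irrAction (N : Subgroup G) [hN : N.Normal] :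
    MulAction G (IrrCharacter N) where
  smul g θ := ⟨conjFun N g⁻¹ (θ : N → ℂ), conjFun_isIrrCharacter N g⁻¹ θ.2⟩
  one_smul θ := by
    apply Subtype.ext
    show conjFun N (1 : G)⁻¹ (θ : N → ℂ) = θ
    rw [inv_one, conjFun_one]
  mul_smul g h θ := by
    apply Subtype.ext
    show conjFun N (g * h)⁻¹ (θ : N → ℂ) = conjFun N g⁻¹ (conjFun N h⁻¹ (θ : N → ℂ))
    rw [conjFun_conjFun, mul_inv_rev]

/-- inner product with the restriction of a power-map-invariant function -/
theorem classInner_restrict_pow [Finite G] (N : Subgroup G) [Fintype N] (k : ℕ)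
    (hk : Nat.Coprime k (Nat.card N)) (χ : G → ℂ) (hχ : ∀ g : G, χ (g ^ k) = χ g) (θ : N → ℂ) :
    classInner (fun n : N => χ n) (fun n => θ (n ^ k)) = classInner (fun n : N => χ n) θ := by
  unfold classInner
  congr 1
  have h1 : ∀ n : N, χ (n : G) * conj (θ (n ^ k)) = χ ((n ^ k : N) : G) * conj (θ (n ^ k)) := by
    intro n
    rw [Subgroup.coe_pow, hχ]
  simp_rw [h1]
  exact Fintype.sum_equiv (powCoprime hk.symm) _ _ (fun n => rfl)

theorem main [Fintype G] (p : ℕ) [Fact p.Prime] (N : Subgroup G) [hN : N.Normal] [Fintype N]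
    (hidx : ¬ p ∣ N.index) (k e : ℕ) (hk : Nat.Coprime k (Nat.card G))
    (hke : k ^ (p ^ e) ≡ 1 [MOD Nat.card G]) (χ : IrrCharacter G)
    (hχ : ∀ g : G, (χ : G → ℂ) (g ^ k) = (χ : G → ℂ) g) (θ : IrrCharacter N)
    (hθ : classInner (fun n : N => (χ : G → ℂ) n) (θ : N → ℂ) ≠ 0) :
    ∀ n : N, (θ : N → ℂ) (n ^ k) = (θ : N → ℂ) n := by
  classical
  letI := irrAction N
  have hkN : Nat.Coprime k (Nat.card N) :=
    Nat.Coprime.coprime_dvd_right (Subgroup.card_subgroup_dvd_card N) hk
  haveI : Finite (IrrCharacter N) := Cfsg.Agent.Lib.Helper3.irrCharacter_finite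
  have hχcf : IsClassFunction G (χ : G → ℂ) :=
    Cfsg.Agent.Lib.Helper3.IsCharacter.isClassFunction
      (Cfsg.Agent.Lib.Helper3.IsIrrCharacter.isCharacter χ.2)
  have hsmul : ∀ (g : G) (θ' : IrrCharacter N), ((g • θ' : IrrCharacter N) : N → ℂ) =
      conjFun N g⁻¹ (θ' : N → ℂ) := fun g θ' => rfl
  -- constituents = orbit of θ
  have hconst : ∀ θ' : IrrCharacter N,
      classInner (fun n : N => (χ : G → ℂ) n) (θ' : N → ℂ) ≠ 0 ↔ θ' ∈ MulAction.orbit G θ := by
    intro θ'
    constructor
    · intro h'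
      obtain ⟨g, hg⟩ := clifford_conj N χ.2 θ.2 θ'.2 hθ h'
      refine ⟨g⁻¹, ?_⟩
      apply Subtype.ext
      show conjFun N g⁻¹⁻¹ (θ : N → ℂ) = θ'
      rw [inv_inv, hg]
    · rintro ⟨g, rfl⟩
      rw [hsmul, ← conjFun_restrict N g⁻¹ hχcf, classInner_conjFun]
      exact hθ
  -- the power map on the orbit
  have hpowmem : ∀ θ' : IrrCharacter N, θ' ∈ MulAction.orbit G θ →
      powIrr k hkN θ' ∈ MulAction.orbit G θ := by
    intro θ' h'
    rw [← hconst] at h' ⊢
    show classInner (fun n : N => (χ : G → ℂ) n) (fun n => (θ' : N → ℂ) (n ^ k)) ≠ 0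
    rw [classInner_restrict_pow N k hkN _ hχ]
    exact h'
  have hcomm : ∀ (g : G) (θ' : IrrCharacter N), powIrr k hkN (g • θ') = g • powIrr k hkN θ' := by
    intro g θ'
    apply Subtype.ext
    show (fun n => conjFun N g⁻¹ (θ' : N → ℂ) (n ^ k)) = conjFun N g⁻¹ (fun n => (θ' : N → ℂ) (n ^ k))
    rw [conjFun_pow]
  let f : Function.End (MulAction.orbit G θ) := fun θ' => ⟨powIrr k hkN θ'.1, hpowmem θ'.1 θ'.2⟩
  have hiter : ∀ (n : ℕ) (θ' : MulAction.orbit G θ), ((f ^ n) θ').1 = (powIrr k hkN)^[n] θ'.1 := by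
    intro n
    induction n with
    | zero => intro θ'; rfl
    | succ n ih =>
      intro θ'
      rw [pow_succ', Function.iterate_succ_apply']
      show (f ((f ^ n) θ')).1 = _
      rw [← ih θ']
  have hT : ∀ n : N, n ^ (k ^ (p ^ e)) = n := by
    intro n
    conv_rhs => rw [← pow_one n]
    rw [pow_eq_pow_iff_modEq]
    apply hke.of_dvd
    exact (orderOf_dvd_natCard n).trans (Subgroup.card_subgroup_dvd_card N)
  have hf : f ^ p ^ e = 1 := by
    funext θ'
    apply Subtype.ext
    rw [hiter, powIrr_iterate]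
    exact powIrr_eq_self_of_forall _ _ hT θ'.1
  haveI : Fintype (MulAction.orbit G θ) := Fintype.ofFinite _
  have hmod := Equiv.Perm.card_fixedPoints_modEq (p := p) (n := e) hf
  -- the orbit has size prime to p
  have horb : ¬ p ∣ Fintype.card (MulAction.orbit G θ) := by
    haveI : Fintype (MulAction.stabilizer G θ) := Fintype.ofFinite _
    have h1 := MulAction.card_orbit_mul_card_stabilizer_eq_card_group G θ
    have hNle : N ≤ MulAction.stabilizer G θ := by
      intro g hg
      rw [MulAction.mem_stabilizer_iff]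
      apply Subtype.ext
      rw [hsmul]
      exact conjFun_of_mem N (N.inv_mem hg)
        (Cfsg.Agent.Lib.Helper3.IsCharacter.isClassFunction
          (Cfsg.Agent.Lib.Helper3.IsIrrCharacter.isCharacter θ.2))
    obtain ⟨c, hc⟩ := Subgroup.card_dvd_of_le hNle
    have h2 : Nat.card G = Nat.card N * N.index := (Subgroup.card_mul_index N).symm
    rw [← Nat.card_eq_fintype_card, ← Nat.card_eq_fintype_card, ← Nat.card_eq_fintype_card,
      hc, h2] at h1
    have h3 : Nat.card (MulAction.orbit G θ) * c = N.index := by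
      have hNpos : 0 < Nat.card N := Nat.card_pos
      apply Nat.eq_of_mul_eq_mul_left hNpos
      rw [← h1]; ring
    intro hdvd
    apply hidx
    rw [← h3, ← Nat.card_eq_fintype_card] at *
    exact Dvd.dvd.mul_right hdvd c
  have hfix : 0 < Fintype.card (Function.fixedPoints f) := by
    rcases Nat.eq_zero_or_pos (Fintype.card (Function.fixedPoints f)) with h0 | h0
    · exfalso
      rw [h0] at hmod
      exact horb ((Nat.modEq_zero_iff_dvd).1 hmod)
    · exact h0
  obtain ⟨⟨θ₀, hθ₀⟩⟩ := Fintype.card_pos_iff.1 hfix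
  have hθ₀fix : powIrr k hkN θ₀.1 = θ₀.1 := congrArg Subtype.val hθ₀
  obtain ⟨g, hg⟩ := θ₀.2
  -- θ = g⁻¹ • θ₀
  have hθeq : θ = g⁻¹ • θ₀.1 := by
    rw [← hg]
    simp only []
    rw [inv_smul_smul]
  have : powIrr k hkN θ = θ := by
    rw [hθeq, hcomm, hθ₀fix]
  exact (powIrr_eq_iff k hkN θ).1 this

end Aux

/-- Let N be a normal subgroup of the finite group G whose index is not divisible by the prime p, and let k be coprime to the order of G with k ^ (p ^ e) ≡ 1 modulo the order of G for some e (so g ↦ g ^ k induces a field automorphism of p-power order on character values). If an irreducible character χ of G satisfies χ (g ^ k) = χ g for all g, then every irreducible constituent θ of the restriction of χ to N satisfies θ (n ^ k) = θ n for all n. -/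
theorem result {G : Type*} [Group G] [Fintype G] (p : ℕ) [Fact p.Prime] (N : Subgroup G) [N.Normal] [Fintype N] (hidx : ¬ p ∣ N.index) (k e : ℕ) (hk : Nat.Coprime k (Nat.card G)) (hke : k ^ (p ^ e) ≡ 1 [MOD Nat.card G]) (χ : Cfsg.IrrCharacter G) (hχ : ∀ g : G, (χ : G → ℂ) (g ^ k) = (χ : G → ℂ) g) (θ : Cfsg.IrrCharacter N) (hθ : Cfsg.classInner (fun n : N => (χ : G → ℂ) n) (θ : N → ℂ) ≠ 0) : ∀ n : N, (θ : N → ℂ) (n ^ k) = (θ : N → ℂ) n := by
  exact main p N hidx k e hk hke χ hχ θ hθ

end Cfsg.Agent.S4518
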