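import Cfsg.Statements.S4521
import Mathlib
import Cfsg.Agent.Lib.Helper16.RegularDet
import Cfsg.Agent.Lib.Helper75.Twist
import Cfsg.Agent.Lib.Helper79.Classes
import Cfsg.Agent.Lib.Helper3.Ortho

set_option autoImplicit false
set_option linter.style.haveILetI false
set_option linter.unusedSectionVars false
open Cfsg

namespace Cfsg.Agent.S4521

open Cfsg.Agent.Lib.Helper75 Cfsg.Agent.Lib.Helper3 Cfsg.Agent.Lib.Helper81
open scoped ComplexConjugate

universe u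

section Grp
variable {G : Type u} [Group G] (U₁ U₂ : Subgroup G)

theorem exists_mul (hcomm : ∀ u ∈ U₁, ∀ v ∈ U₂, u * v = v * u) (hgen : U₁ ⊔ U₂ = ⊤) (g : G) :
    ∃ u ∈ U₁, ∃ v ∈ U₂, g = u * v := by
  let S : Subgroup G :=
    { carrier := {g | ∃ u ∈ U₁, ∃ v ∈ U₂, g = u * v}
      one_mem' := ⟨1, U₁.one_mem, 1, U₂.one_mem, by simp⟩
      mul_mem' := by
        rintro _ _ ⟨u, hu, v, hv, rfl⟩ ⟨u', hu', v', hv', rfl⟩
        refine ⟨u * u', U₁.mul_mem hu hu', v * v', U₂.mul_mem hv hv', ?_⟩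
        calc u * v * (u' * v') = u * (v * u') * v' := by group
          _ = u * (u' * v) * v' := by rw [hcomm u' hu' v hv]
          _ = u * u' * (v * v') := by group
      inv_mem' := by
        rintro _ ⟨u, hu, v, hv, rfl⟩
        refine ⟨u⁻¹, U₁.inv_mem hu, v⁻¹, U₂.inv_mem hv, ?_⟩
        rw [mul_inv_rev, hcomm u⁻¹ (U₁.inv_mem hu) v⁻¹ (U₂.inv_mem hv)] }
  have h1 : U₁ ≤ S := fun u hu => ⟨u, hu, 1, U₂.one_mem, by simp⟩
  have h2 : U₂ ≤ S := fun v hv => ⟨1, U₁.one_mem, v, hv, by simp⟩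
  have : g ∈ U₁ ⊔ U₂ := by rw [hgen]; trivial
  exact (sup_le h1 h2) this

theorem normal_left (hcomm : ∀ u ∈ U₁, ∀ v ∈ U₂, u * v = v * u) (hgen : U₁ ⊔ U₂ = ⊤) :
    U₁.Normal := by
  refine ⟨fun x hx g => ?_⟩
  obtain ⟨u, hu, v, hv, rfl⟩ := exists_mul U₁ U₂ hcomm hgen g
  have : u * v * x * (u * v)⁻¹ = u * x * u⁻¹ := by
    rw [mul_inv_rev]
    calc u * v * x * (v⁻¹ * u⁻¹) = u * (v * x) * v⁻¹ * u⁻¹ := by group
      _ = u * (x * v) * v⁻¹ * u⁻¹ := by rw [hcomm x hx v hv]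
      _ = u * x * u⁻¹ := by group
  rw [this]
  exact U₁.mul_mem (U₁.mul_mem hu hx) (U₁.inv_mem hu)

theorem normal_right (hcomm : ∀ u ∈ U₁, ∀ v ∈ U₂, u * v = v * u) (hgen : U₁ ⊔ U₂ = ⊤) :
    U₂.Normal :=
  normal_left U₂ U₁ (fun v hv u hu => (hcomm u hu v hv).symm) (by rw [sup_comm]; exact hgen)

/-- conjugating an element of `U₁` by `a * b` is conjugating by `a` -/
theorem conj_left (hcomm : ∀ u ∈ U₁, ∀ v ∈ U₂, u * v = v * u) {a b x : G} (hb : b ∈ U₂)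
    (hx : x ∈ U₁) : a * b * x * (a * b)⁻¹ = a * x * a⁻¹ := by
  rw [mul_inv_rev]
  calc a * b * x * (b⁻¹ * a⁻¹) = a * (b * x) * b⁻¹ * a⁻¹ := by group
    _ = a * (x * b) * b⁻¹ * a⁻¹ := by rw [hcomm x hx b hb]
    _ = a * x * a⁻¹ := by group

/-- conjugating an element of `U₂` by `a * b` is conjugating by `b` -/
theorem conj_right (hcomm : ∀ u ∈ U₁, ∀ v ∈ U₂, u * v = v * u) {a b y : G} (ha : a ∈ U₁)
    (hb : b ∈ U₂) (hy : y ∈ U₂) : a * b * y * (a * b)⁻¹ = b * y * b⁻¹ := by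
  rw [hcomm a ha b hb]
  exact conj_left U₂ U₁ (fun v hv u hu => (hcomm u hu v hv).symm) ha hy


end Grp

section Chars
variable {G : Type u} [Group G] [Fintype G] (U₁ U₂ : Subgroup G)

theorem char_mul (hcomm : ∀ u ∈ U₁, ∀ v ∈ U₂, u * v = v * u) (hgen : U₁ ⊔ U₂ = ⊤)
    (χ : IrrCharacter G) {u v : G} (hu : u ∈ U₁) (hv : v ∈ U₂) :
    (χ : G → ℂ) (u * v) * (χ : G → ℂ) 1 = (χ : G → ℂ) u * (χ : G → ℂ) v := by
  have hcf : IsClassFunction G (χ : G → ℂ) :=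
    IsCharacter.isClassFunction (IsIrrCharacter.isCharacter χ.2)
  have h1 := Cfsg.Agent.Lib.Helper79.irr_one_mul_sum_conj χ u v
  have h2 : ∀ c : G, (χ : G → ℂ) (u * (c * v * c⁻¹)) = (χ : G → ℂ) (u * v) := by
    intro c
    obtain ⟨a, ha, b, hb, rfl⟩ := exists_mul U₁ U₂ hcomm hgen c
    rw [conj_right U₁ U₂ hcomm ha hb hv]
    have : u * (b * v * b⁻¹) = b * (u * v) * b⁻¹ := by
      calc u * (b * v * b⁻¹) = (u * b) * v * b⁻¹ := by group
        _ = (b * u) * v * b⁻¹ := by rw [hcomm u hu b hb]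
        _ = b * (u * v) * b⁻¹ := by group
    rw [this, hcf]
  rw [Finset.sum_congr rfl (fun c _ => h2 c), Finset.sum_const, Finset.card_univ,
    ← Nat.card_eq_fintype_card, nsmul_eq_mul] at h1
  have hG0 : (Nat.card G : ℂ) ≠ 0 := by exact_mod_cast Nat.card_pos.ne'
  apply mul_left_cancel₀ hG0
  linear_combination h1

end Chars

section Restrict
variable {G : Type u} [Group G] [Fintype G] (U₁ U₂ : Subgroup G)

/-- The restriction of `χ` to a factor of the central product is a multiple of any constituent. -/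
theorem restrict_left (hcomm : ∀ u ∈ U₁, ∀ v ∈ U₂, u * v = v * u) (hgen : U₁ ⊔ U₂ = ⊤)
    [Fintype U₁] (χ : IrrCharacter G) (ψ : IrrCharacter U₁)
    (h : classInner (fun u : U₁ => (χ : G → ℂ) u) (ψ : U₁ → ℂ) ≠ 0) :
    ∃ e : ℕ, e ≠ 0 ∧ ∀ u : U₁, (χ : G → ℂ) u = (e : ℂ) * (ψ : U₁ → ℂ) u := by
  haveI hN : U₁.Normal := normal_left U₁ U₂ hcomm hgen
  have hψcf : IsClassFunction U₁ (ψ : U₁ → ℂ) :=
    IsCharacter.isClassFunction (IsIrrCharacter.isCharacter ψ.2)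
  have hinv : ∀ (g : G) (n : U₁), (ψ : U₁ → ℂ) ⟨g * n * g⁻¹, hN.conj_mem (n : G) n.2 g⟩ =
      (ψ : U₁ → ℂ) n := by
    intro g n
    obtain ⟨a, ha, b, hb, rfl⟩ := exists_mul U₁ U₂ hcomm hgen g
    have h1 : (⟨a * b * n * (a * b)⁻¹, hN.conj_mem (n : G) n.2 (a * b)⟩ : U₁) =
        ⟨a, ha⟩ * n * ⟨a, ha⟩⁻¹ := by
      apply Subtype.ext
      simp only [Subgroup.coe_mul, Subgroup.coe_inv]
      exact conj_left U₁ U₂ hcomm hb n.2
    rw [h1]
    exact hψcf n ⟨a, ha⟩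
  obtain ⟨e, he0, -, he⟩ := restrict_eq_smul_of_invariant' U₁ χ.2 ψ.2 h hinv
  refine ⟨e, he0, fun u => ?_⟩
  have := congrFun he u
  simpa using this

end Restrict

section ClassSize
variable {G : Type u} [Group G] [Finite G] (U₁ U₂ : Subgroup G)

theorem index_centralizer_left (hcomm : ∀ u ∈ U₁, ∀ v ∈ U₂, u * v = v * u)
    (hgen : U₁ ⊔ U₂ = ⊤) (u : U₁) :
    (Subgroup.centralizer ({(u : G)} : Set G)).index =
      (Subgroup.centralizer ({u} : Set U₁)).index := by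
  rw [index_centralizer_eq_ncard, index_centralizer_eq_ncard]
  have himg : {x : G | IsConj x (u : G)} = Subtype.val '' {x : U₁ | IsConj x u} := by
    ext x
    constructor
    · intro hx
      have hx' : IsConj (u : G) x := hx.symm
      rw [isConj_iff] at hx'
      obtain ⟨c, hc⟩ := hx'
      obtain ⟨a, ha, b, hb, rfl⟩ := exists_mul U₁ U₂ hcomm hgen c
      rw [conj_left U₁ U₂ hcomm hb u.2] at hc
      refine ⟨⟨a, ha⟩ * u * ⟨a, ha⟩⁻¹, ?_, ?_⟩
      · show IsConj (⟨a, ha⟩ * u * ⟨a, ha⟩⁻¹) u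
        exact (isConj_iff.2 ⟨⟨a, ha⟩, rfl⟩ : IsConj u (⟨a, ha⟩ * u * ⟨a, ha⟩⁻¹)).symm
      · simp only [Subgroup.coe_mul, Subgroup.coe_inv]
        exact hc
    · rintro ⟨y, hy, rfl⟩
      have hy' : IsConj y u := hy
      exact U₁.subtype.map_isConj hy'
  rw [himg, Set.ncard_image_of_injective _ Subtype.val_injective]

end ClassSize

section ClassSize2
variable {G : Type u} [Group G] [Finite G] (U₁ U₂ : Subgroup G)

theorem index_centralizer_mul (p : ℕ) [Fact p.Prime]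
    (hcomm : ∀ u ∈ U₁, ∀ v ∈ U₂, u * v = v * u) (hgen : U₁ ⊔ U₂ = ⊤)
    (hZ : IsPGroup p ↥(U₁ ⊓ U₂)) {u v : G} (hu : u ∈ U₁) (hv : v ∈ U₂)
    (hup : ¬ p ∣ orderOf u) :
    (Subgroup.centralizer ({u * v} : Set G)).index =
      (Subgroup.centralizer ({u} : Set G)).index * (Subgroup.centralizer ({v} : Set G)).index := by
  rw [index_centralizer_eq_ncard, index_centralizer_eq_ncard, index_centralizer_eq_ncard,
    ← Set.ncard_prod]
  have hnorm₁ := normal_left U₁ U₂ hcomm hgen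
  have hnorm₂ := normal_right U₁ U₂ hcomm hgen
  have hmem₁ : ∀ x : G, IsConj x u → x ∈ U₁ := by
    intro x hx
    obtain ⟨c, hc⟩ := isConj_iff.1 hx.symm
    rw [← hc]
    exact hnorm₁.conj_mem u hu c
  have hmem₂ : ∀ y : G, IsConj y v → y ∈ U₂ := by
    intro y hy
    obtain ⟨c, hc⟩ := isConj_iff.1 hy.symm
    rw [← hc]
    exact hnorm₂.conj_mem v hv c
  have himg : {z : G | IsConj z (u * v)} =
      (fun q : G × G => q.1 * q.2) '' ({x : G | IsConj x u} ×ˢ {y : G | IsConj y v}) := by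
    ext z
    constructor
    · intro hz
      obtain ⟨c, hc⟩ := isConj_iff.1 (IsConj.symm hz)
      obtain ⟨a, ha, b, hb, rfl⟩ := exists_mul U₁ U₂ hcomm hgen c
      refine ⟨(a * u * a⁻¹, b * v * b⁻¹), ⟨?_, ?_⟩, ?_⟩
      · exact (isConj_iff.2 ⟨a, rfl⟩ : IsConj u (a * u * a⁻¹)).symm
      · exact (isConj_iff.2 ⟨b, rfl⟩ : IsConj v (b * v * b⁻¹)).symm
      · simp only
        rw [← hc, ← conj_left U₁ U₂ hcomm hb hu, ← conj_right U₁ U₂ hcomm ha hb hv]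
        group
    · rintro ⟨⟨x, y⟩, ⟨hx, hy⟩, rfl⟩
      have hx' : IsConj x u := hx
      have hy' : IsConj y v := hy
      obtain ⟨c, hc⟩ := isConj_iff.1 hx'.symm
      obtain ⟨d, hd⟩ := isConj_iff.1 hy'.symm
      obtain ⟨a, ha, b, hb, rfl⟩ := exists_mul U₁ U₂ hcomm hgen c
      obtain ⟨a', ha', b', hb', rfl⟩ := exists_mul U₁ U₂ hcomm hgen d
      rw [conj_left U₁ U₂ hcomm hb hu] at hc
      rw [conj_right U₁ U₂ hcomm ha' hb' hv] at hd
      show IsConj (x * y) (u * v)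
      apply IsConj.symm
      rw [isConj_iff]
      refine ⟨a * b', ?_⟩
      rw [← hc, ← hd, ← conj_left U₁ U₂ hcomm hb' hu, ← conj_right U₁ U₂ hcomm ha hb' hv]
      group
  rw [himg]
  apply Set.InjOn.ncard_image
  rintro ⟨x, y⟩ ⟨hx, hy⟩ ⟨x', y'⟩ ⟨hx', hy'⟩ heq
  simp only at heq
  have hxc : IsConj x u := hx
  have hxc' : IsConj x' u := hx'
  have hxU := hmem₁ x hxc
  have hxU' := hmem₁ x' hxc'
  have hyU := hmem₂ y hy
  have hyU' := hmem₂ y' hy'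
  -- z = x'⁻¹ x = y' y⁻¹
  set z := x'⁻¹ * x with hz
  have hz2 : z = y' * y⁻¹ := by
    rw [hz]
    have : x = x' * y' * y⁻¹ := by rw [← heq]; group
    rw [this]; group
  have hz1 : z ∈ U₁ := U₁.mul_mem (U₁.inv_mem hxU') hxU
  have hz2' : z ∈ U₂ := by rw [hz2]; exact U₂.mul_mem hyU' (U₂.inv_mem hyU)
  have hxz : x = x' * z := by rw [hz]; group
  have hcommz : Commute x' z := hcomm x' hxU' z hz2'
  have hord : orderOf x = orderOf u := by
    obtain ⟨c, hc⟩ := isConj_iff.1 hxc.symm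
    rw [← hc, ← MulAut.conj_apply]; exact MulEquiv.orderOf_eq _ _
  have hord' : orderOf x' = orderOf u := by
    obtain ⟨c, hc⟩ := isConj_iff.1 hxc'.symm
    rw [← hc, ← MulAut.conj_apply]; exact MulEquiv.orderOf_eq _ _
  have hzpow : z ^ orderOf u = 1 := by
    have h1 : x ^ orderOf u = 1 := by rw [← hord]; exact pow_orderOf_eq_one x
    have h2 : x' ^ orderOf u = 1 := by rw [← hord']; exact pow_orderOf_eq_one x'
    rw [hxz, hcommz.mul_pow, h2, one_mul] at h1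
    exact h1
  have hz1' : z = 1 := by
    obtain ⟨k, hk⟩ := hZ ⟨z, hz1, hz2'⟩
    have hk' : z ^ p ^ k = 1 := by
      have := congrArg Subtype.val hk
      simpa using this
    have hd1 : orderOf z ∣ p ^ k := orderOf_dvd_of_pow_eq_one hk'
    have hd2 : orderOf z ∣ orderOf u := orderOf_dvd_of_pow_eq_one hzpow
    have hcop : Nat.Coprime (p ^ k) (orderOf u) :=
      Nat.Coprime.pow_left k ((Nat.Prime.coprime_iff_not_dvd (Fact.out : p.Prime)).2 hup)
    have : orderOf z = 1 := Nat.eq_one_of_dvd_coprimes hcop hd1 hd2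
    exact orderOf_eq_one_iff.1 this
  have hxx : x = x' := by rw [hxz, hz1', mul_one]
  have hyy : y = y' := by
    have : y' * y⁻¹ = 1 := by rw [← hz2, hz1']
    have := mul_inv_eq_one.1 this
    exact this.symm
  rw [hxx, hyy]

/-- A `p`-regular product `u * v` can be rewritten with `p`-regular factors. -/
theorem exists_regular_factors (p : ℕ) [Fact p.Prime] {u v : G} (hc : Commute u v)
    (hg : ¬ p ∣ orderOf (u * v)) :
    ∃ m : ℕ, u ^ m * v ^ m = u * v ∧ ¬ p ∣ orderOf (u ^ m) ∧ ¬ p ∣ orderOf (v ^ m) := by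
  have hp : p.Prime := Fact.out
  obtain ⟨a, r, hr, hcard⟩ := Nat.exists_eq_pow_mul_and_not_dvd (Nat.card_pos (α := G)).ne' p hp.ne_one
  have hcop : Nat.Coprime (orderOf (u * v)) (p ^ a) :=
    (Nat.Coprime.pow_left a ((Nat.Prime.coprime_iff_not_dvd hp).2 hg)).symm
  let m := Nat.chineseRemainder hcop 1 0
  have hm1 : (m : ℕ) ≡ 1 [MOD orderOf (u * v)] := m.2.1
  have hm0 : (m : ℕ) ≡ 0 [MOD p ^ a] := m.2.2
  have hdvd : p ^ a ∣ (m : ℕ) := (Nat.modEq_zero_iff_dvd).1 hm0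
  refine ⟨m, ?_, ?_, ?_⟩
  · rw [← hc.mul_pow]
    conv_rhs => rw [← pow_one (u * v)]
    rw [pow_eq_pow_iff_modEq]
    exact hm1
  · have h1 : (u ^ (m : ℕ)) ^ r = 1 := by
      rw [← pow_mul]
      obtain ⟨t, ht⟩ := hdvd
      have : (m : ℕ) * r = Nat.card G * t := by rw [ht, hcard]; ring
      rw [this, pow_mul, pow_card_eq_one', one_pow]
    intro hdiv
    exact hr (hdiv.trans (orderOf_dvd_of_pow_eq_one h1))
  · have h1 : (v ^ (m : ℕ)) ^ r = 1 := by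
      rw [← pow_mul]
      obtain ⟨t, ht⟩ := hdvd
      have : (m : ℕ) * r = Nat.card G * t := by rw [ht, hcard]; ring
      rw [this, pow_mul, pow_card_eq_one', one_pow]
    intro hdiv
    exact hr (hdiv.trans (orderOf_dvd_of_pow_eq_one h1))

end ClassSize2

section Main
variable {G : Type u} [Group G] [Fintype G]

theorem centralChar_left (U₁ U₂ : Subgroup G) [Fintype U₁]
    (hcomm : ∀ u ∈ U₁, ∀ v ∈ U₂, u * v = v * u) (hgen : U₁ ⊔ U₂ = ⊤)
    (χ : IrrCharacter G) (ψ : IrrCharacter U₁)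
    (h : classInner (fun u : U₁ => (χ : G → ℂ) u) (ψ : U₁ → ℂ) ≠ 0) (u : U₁) :
    centralChar (χ : G → ℂ) (u : G) = centralChar (ψ : U₁ → ℂ) u := by
  obtain ⟨e, he0, he⟩ := restrict_left U₁ U₂ hcomm hgen χ ψ h
  unfold centralChar
  rw [index_centralizer_left U₁ U₂ hcomm hgen u, he u]
  have h1 := he 1
  rw [Subgroup.coe_one] at h1
  rw [h1]
  have he0' : (e : ℂ) ≠ 0 := by exact_mod_cast he0
  have hψ1 : (ψ : U₁ → ℂ) 1 ≠ 0 := Cfsg.Agent.Lib.Helper79.irr_one_ne_zero ψ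
  field_simp

theorem main (p : ℕ) [Fact p.Prime] (M : Ideal AlgInt) (hM : IsPModular p M)
    (U₁ U₂ : Subgroup G) [Fintype U₁] [Fintype U₂]
    (hcomm : ∀ u ∈ U₁, ∀ v ∈ U₂, u * v = v * u) (hgen : U₁ ⊔ U₂ = ⊤)
    (hZ : IsPGroup p ↥(U₁ ⊓ U₂)) (χ : IrrCharacter G) (ψ₁ : IrrCharacter U₁)
    (ψ₂ : IrrCharacter U₂)
    (h₁ : classInner (fun u : U₁ => (χ : G → ℂ) u) (ψ₁ : U₁ → ℂ) ≠ 0)
    (h₂ : classInner (fun u : U₂ => (χ : G → ℂ) u) (ψ₂ : U₂ → ℂ) ≠ 0) :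
    χ ∈ principalBlock M G ↔ (ψ₁ ∈ principalBlock M U₁ ∧ ψ₂ ∈ principalBlock M U₂) := by
  classical
  have hMp : M.IsPrime := isPrime_of_isPModular hM
  have hcomm' : ∀ v ∈ U₂, ∀ u ∈ U₁, v * u = u * v := fun v hv u hu => (hcomm u hu v hv).symm
  have hgen' : U₂ ⊔ U₁ = ⊤ := by rw [sup_comm]; exact hgen
  have hω₁ := centralChar_left U₁ U₂ hcomm hgen χ ψ₁ h₁
  have hω₂ := centralChar_left U₂ U₁ hcomm' hgen' χ ψ₂ h₂
  constructor
  · intro hχ
    rw [mem_principalBlock_iff] at hχ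
    constructor
    · rw [mem_principalBlock_iff]
      intro u
      rw [← hω₁ u, ← index_centralizer_left U₁ U₂ hcomm hgen u]
      exact hχ u
    · rw [mem_principalBlock_iff]
      intro v
      rw [← hω₂ v, ← index_centralizer_left U₂ U₁ hcomm' hgen' v]
      exact hχ v
  · rintro ⟨hψ₁, hψ₂⟩
    rw [mem_principalBlock_iff] at hψ₁ hψ₂
    show SameBlock M (fun _ : G => (1 : ℂ)) (χ : G → ℂ)
    have key := Cfsg.Agent.Lib.Helper16.sameBlock_of_regular hM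
      (⟨fun _ => 1, isIrrCharacter_one⟩ : IrrCharacter G) χ
    apply key
    intro g hg
    show MemLocalIdeal M (centralChar (fun _ : G => (1 : ℂ)) g - centralChar (χ : G → ℂ) g)
    rw [centralChar_one]
    obtain ⟨u, hu, v, hv, rfl⟩ := exists_mul U₁ U₂ hcomm hgen g
    obtain ⟨m, hm, hum, hvm⟩ := exists_regular_factors p (hcomm u hu v hv) hg
    have hu' : u ^ m ∈ U₁ := U₁.pow_mem hu m
    have hv' : v ^ m ∈ U₂ := U₂.pow_mem hv m
    rw [← hm]
    set u' := u ^ m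
    set v' := v ^ m
    have hidx := index_centralizer_mul U₁ U₂ p hcomm hgen hZ hu' hv' hum
    have hχ1 : (χ : G → ℂ) 1 ≠ 0 := Cfsg.Agent.Lib.Helper79.irr_one_ne_zero χ
    have hmul := char_mul U₁ U₂ hcomm hgen χ hu' hv'
    have hcc : centralChar (χ : G → ℂ) (u' * v') =
        centralChar (χ : G → ℂ) u' * centralChar (χ : G → ℂ) v' := by
      unfold centralChar
      rw [hidx]
      push_cast
      have : (χ : G → ℂ) (u' * v') = (χ : G → ℂ) u' * (χ : G → ℂ) v' / (χ : G → ℂ) 1 := by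
        rw [← hmul]; field_simp
      rw [this]
      field_simp
    rw [hcc, hidx]
    push_cast
    have e1 := hω₁ ⟨u', hu'⟩
    have e2 := hω₂ ⟨v', hv'⟩
    simp only at e1 e2
    rw [e1, e2]
    have i1 := index_centralizer_left U₁ U₂ hcomm hgen ⟨u', hu'⟩
    have i2 := index_centralizer_left U₂ U₁ hcomm' hgen' ⟨v', hv'⟩
    simp only at i1 i2
    rw [i1, i2]
    have a1 := hψ₁ ⟨u', hu'⟩
    have a2 := hψ₂ ⟨v', hv'⟩
    set I1 : ℂ := ((Subgroup.centralizer ({(⟨u', hu'⟩ : U₁)} : Set U₁)).index : ℂ)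
    set I2 : ℂ := ((Subgroup.centralizer ({(⟨v', hv'⟩ : U₂)} : Set U₂)).index : ℂ)
    set W1 := centralChar (ψ₁ : U₁ → ℂ) ⟨u', hu'⟩
    set W2 := centralChar (ψ₂ : U₂ → ℂ) ⟨v', hv'⟩
    have hI2 : MemLocalRing M I2 := memLocalRing_natCast hMp _
    have hW1 : MemLocalRing M W1 :=
      Cfsg.Agent.Lib.Helper77.memLocalRing_centralChar hMp ψ₁.2 _
    have : I1 * I2 - W1 * W2 = (I1 - W1) * I2 + W1 * (I2 - W2) := by ring
    rw [this]
    exact memLocalIdeal_add hMp (memLocalIdeal_mul_right hMp a1 hI2)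
      (memLocalIdeal_mul_left hMp hW1 a2)

end Main

/-- Let the finite group G be generated by subgroups U₁ and U₂ that commute elementwise and whose intersection is a p-group, and let M be a maximal ideal of the algebraic integers containing the prime p. If the irreducible character χ of G has the irreducible constituents ψ₁ on U₁ and ψ₂ on U₂, then χ lies in the principal block of G if and only if ψ₁ and ψ₂ lie in the principal blocks of U₁ and U₂. -/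
theorem result {G : Type*} [Group G] [Fintype G] (p : ℕ) [Fact p.Prime] (M : Ideal Cfsg.AlgInt) (hM : Cfsg.IsPModular p M) (U₁ U₂ : Subgroup G) [Fintype U₁] [Fintype U₂] (hcomm : ∀ u ∈ U₁, ∀ v ∈ U₂, u * v = v * u) (hgen : U₁ ⊔ U₂ = ⊤) (hZ : IsPGroup p ↥(U₁ ⊓ U₂)) (χ : Cfsg.IrrCharacter G) (ψ₁ : Cfsg.IrrCharacter U₁) (ψ₂ : Cfsg.IrrCharacter U₂) (h₁ : Cfsg.classInner (fun u : U₁ => (χ : G → ℂ) u) (ψ₁ : U₁ → ℂ) ≠ 0) (h₂ : Cfsg.classInner (fun u : U₂ => (χ : G → ℂ) u) (ψ₂ : U₂ → ℂ) ≠ 0) : χ ∈ Cfsg.principalBlock M G ↔ (ψ₁ ∈ Cfsg.principalBlock M U₁ ∧ ψ₂ ∈ Cfsg.principalBlock M U₂) := by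
  exact main p M hM U₁ U₂ hcomm hgen hZ χ ψ₁ ψ₂ h₁ h₂

end Cfsg.Agent.S4521
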