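import Cfsg.Statements.S4539
import Cfsg.Agent.Lib.Helper52.LtE
import Cfsg.Agent.Lib.Helper74.SP4

set_option autoImplicit false
open Cfsg

namespace Cfsg.Agent.S4539

/-- Let B be a p-block of the finite group G (relative to a maximal ideal M of the algebraic integers containing p) of defect d with defect group D. Let z be an element of D commuting with every element of D, and let b be a block of the centralizer C of z with defect group D that induces B (a major subsection (z, b)). If b has p-regular rank at most two, then B contains at most p ^ d irreducible characters. -/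
theorem result {G : Type*} [Group G] [Finite G] (p : ℕ) [Fact p.Prime] (M : Ideal Cfsg.AlgInt) (hM : Cfsg.IsPModular p M) (B : Set (Cfsg.IrrCharacter G)) (hB : Cfsg.IsPBlock M B) (D : Subgroup G) (hD : Cfsg.IsDefectGroup p M B D) (z : G) (hzD : z ∈ D) (hzc : ∀ d ∈ D, d * z = z * d) (b : Set (Cfsg.IrrCharacter ↥(Subgroup.centralizer ({z} : Set G)))) (hb : Cfsg.IsInducedBlock M (Subgroup.centralizer ({z} : Set G)) b B) (hbD : Cfsg.IsDefectGroup p M b (D.subgroupOf (Subgroup.centralizer ({z} : Set G)))) (hl : Cfsg.blockRank p b ≤ 2) : Nat.card B ≤ p ^ Cfsg.blockDefect p B := by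
  classical
  have hp : p.Prime := Fact.out
  have := Fintype.ofFinite G
  have := Fintype.ofFinite (Cfsg.IrrCharacter G)
  have := Fintype.ofFinite (Subgroup.centralizer ({z} : Set G))
  have := Fintype.ofFinite (Cfsg.IrrCharacter (Subgroup.centralizer ({z} : Set G)))
  obtain ⟨χ₁, hχ₁⟩ := hB
  obtain ⟨ξ₀, hξ₀⟩ := hb.1
  subst hχ₁
  subst hξ₀
  -- the orders of the defect groups
  have hcD := Cfsg.Agent.Lib.Helper74.card_eq_pow_blockDefect_of_isDefectGroup hM χ₁ hD
  have hcb := Cfsg.Agent.Lib.Helper74.card_eq_pow_blockDefect_of_isDefectGroup hM ξ₀ hbD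
  have hDC : D ≤ Subgroup.centralizer ({z} : Set G) := by
    intro x hx
    rw [Subgroup.mem_centralizer_singleton_iff]
    exact hzc x hx
  have hcard : Nat.card (D.subgroupOf (Subgroup.centralizer ({z} : Set G))) = Nat.card D :=
    Nat.card_congr (Subgroup.subgroupOfEquivOfLe hDC).toEquiv
  have hdef : Cfsg.blockDefect p (Cfsg.blockOf M (ξ₀ : ↥(Subgroup.centralizer ({z} : Set G)) → ℂ)) =
      Cfsg.blockDefect p (Cfsg.blockOf M (χ₁ : G → ℂ)) := by
    rw [hcard, hcD] at hcb
    exact (Nat.pow_right_injective hp.two_le hcb).symm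
  -- `z` is a `p`-element
  have hz : ∃ k : ℕ, orderOf z = p ^ k := by
    have h1 : orderOf z ∣ Nat.card D := by
      have h2 : orderOf (⟨z, hzD⟩ : D) ∣ Nat.card D := orderOf_dvd_natCard _
      have h3 : orderOf (⟨z, hzD⟩ : D) = orderOf z := by
        rw [← Subgroup.orderOf_coe]
      rwa [h3] at h2
    rw [hcD] at h1
    obtain ⟨k, -, hk⟩ := (Nat.dvd_prime_pow hp).1 h1
    exact ⟨k, hk⟩
  have hc : Nat.card (Cfsg.blockOf M (χ₁ : G → ℂ)) =
      (Finset.univ.filter (fun ψ : Cfsg.IrrCharacter G =>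
        ψ ∈ Cfsg.blockOf M (χ₁ : G → ℂ))).card := by
    rw [Nat.card_eq_fintype_card, ← Fintype.card_subtype]
  rcases Nat.lt_or_ge (Cfsg.blockRank p
      (Cfsg.blockOf M (ξ₀ : ↥(Subgroup.centralizer ({z} : Set G)) → ℂ))) 2 with h2 | h2
  · have h := Cfsg.Agent.Lib.Helper77.Ctb.card_le_defect_pow_mul_rank p M hM
      (Cfsg.blockOf M (χ₁ : G → ℂ)) _ rfl z hz _ hb hdef
    calc Nat.card (Cfsg.blockOf M (χ₁ : G → ℂ))
        ≤ p ^ Cfsg.blockDefect p (Cfsg.blockOf M (χ₁ : G → ℂ)) * Cfsg.blockRank p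
          (Cfsg.blockOf M (ξ₀ : ↥(Subgroup.centralizer ({z} : Set G)) → ℂ)) := h
      _ ≤ p ^ Cfsg.blockDefect p (Cfsg.blockOf M (χ₁ : G → ℂ)) * 1 :=
          Nat.mul_le_mul_left _ (by omega)
      _ = _ := mul_one _
  · have hl2 : Cfsg.blockRank p
        (Cfsg.blockOf M (ξ₀ : ↥(Subgroup.centralizer ({z} : Set G)) → ℂ)) = 2 := by omega
    have h := Cfsg.Agent.Lib.Helper52.LtE.card_le_of_rank_two hM z hz
      (Subgroup.centralizer ({z} : Set G)) rfl ξ₀ hb hdef hl2
    rw [hc, ← hdef]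
    exact h

end Cfsg.Agent.S4539
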