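import Cfsg.Statements.S4540
import Cfsg.Agent.Lib.Helper77.CtbR
import Cfsg.Agent.Lib.Helper77.DefectConj
import Cfsg.Agent.Lib.Helper74.SP4

set_option autoImplicit false
open Cfsg

namespace Cfsg.Agent.S4540

/-- Let B be a 2-block of the finite group G (relative to a maximal ideal M of the algebraic integers containing 2) of defect d with defect group D. Let z be an element of D commuting with every element of D, and let b be a block of the centralizer C of z with defect group D that induces B (a major subsection (z, b)). If b has 2-regular rank at most three, then 3·k(B) ≤ 3·k₀(B) + 2·Σ 2 ^ h(χ), where k(B) is the number of members of B, k₀(B) the number of members of height zero, and the sum runs over the members χ of B of positive height h(χ); this bound is at most 3·2 ^ d, so in particular B contains at most 2 ^ d irreducible characters. -/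
theorem result {G : Type*} [Group G] [Finite G] (M : Ideal Cfsg.AlgInt) (hM : Cfsg.IsPModular 2 M) (B : Set (Cfsg.IrrCharacter G)) (hB : Cfsg.IsPBlock M B) (D : Subgroup G) (hD : Cfsg.IsDefectGroup 2 M B D) (z : G) (hzD : z ∈ D) (hzc : ∀ d ∈ D, d * z = z * d) (b : Set (Cfsg.IrrCharacter ↥(Subgroup.centralizer ({z} : Set G)))) (hb : Cfsg.IsInducedBlock M (Subgroup.centralizer ({z} : Set G)) b B) (hbD : Cfsg.IsDefectGroup 2 M b (D.subgroupOf (Subgroup.centralizer ({z} : Set G)))) (hl : Cfsg.blockRank 2 b ≤ 3) : 3 * Nat.card B ≤ 3 * Nat.card {χ : Cfsg.IrrCharacter G // χ ∈ B ∧ Cfsg.blockHeight 2 B (χ : G → ℂ) = 0} + 2 * (∑ᶠ χ ∈ {χ : Cfsg.IrrCharacter G | χ ∈ B ∧ 1 ≤ Cfsg.blockHeight 2 B (χ : G → ℂ)}, 2 ^ Cfsg.blockHeight 2 B (χ : G → ℂ)) ∧ 3 * Nat.card {χ : Cfsg.IrrCharacter G // χ ∈ B ∧ Cfsg.blockHeight 2 B (χ : G → ℂ) = 0} + 2 * (∑ᶠ χ ∈ {χ : Cfsg.IrrCharacter G | χ ∈ B ∧ 1 ≤ Cfsg.blockHeight 2 B (χ : G → ℂ)},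 2 ^ Cfsg.blockHeight 2 B (χ : G → ℂ)) ≤ 3 * 2 ^ Cfsg.blockDefect 2 B := by
  classical
  have hp : (2 : ℕ).Prime := Nat.prime_two
  have := Fintype.ofFinite G
  have := Fintype.ofFinite (Cfsg.IrrCharacter G)
  have := Fintype.ofFinite (Subgroup.centralizer ({z} : Set G))
  have := Fintype.ofFinite (Cfsg.IrrCharacter (Subgroup.centralizer ({z} : Set G)))
  -- `z` is a `2`-element
  have hDp : IsPGroup 2 D := Cfsg.Agent.Lib.Helper77.isPGroup_of_isDefectGroup hD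
  have hz : ∃ k : ℕ, orderOf z = 2 ^ k := by
    obtain ⟨k, hk⟩ := (IsPGroup.iff_orderOf.mp hDp) ⟨z, hzD⟩
    refine ⟨k, ?_⟩
    rw [← hk]
    exact (Subgroup.orderOf_mk z hzD).symm
  -- the defects agree
  have hDC : D ≤ Subgroup.centralizer ({z} : Set G) := by
    intro d hd
    rw [Subgroup.mem_centralizer_singleton_iff]
    exact hzc d hd
  have hcardD : Nat.card (D.subgroupOf (Subgroup.centralizer ({z} : Set G))) = Nat.card D :=
    Nat.card_congr (Subgroup.subgroupOfEquivOfLe hDC).toEquiv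
  obtain ⟨χ, hχ⟩ := hB
  obtain ⟨ξ₀, hξ₀⟩ := hb.1
  have hd1 : Nat.card D = 2 ^ Cfsg.blockDefect 2 B := by
    rw [hχ]
    rw [hχ] at hD
    exact Cfsg.Agent.Lib.Helper74.card_eq_pow_blockDefect_of_isDefectGroup hM χ hD
  have hd2 : Nat.card D = 2 ^ Cfsg.blockDefect 2 b := by
    rw [← hcardD, hξ₀]
    rw [hξ₀] at hbD
    exact Cfsg.Agent.Lib.Helper74.card_eq_pow_blockDefect_of_isDefectGroup hM ξ₀ hbD
  have hdef : Cfsg.blockDefect 2 b = Cfsg.blockDefect 2 B :=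
    Nat.pow_right_injective hp.two_le (hd2.symm.trans hd1)
  subst hξ₀
  have hcore := Cfsg.Agent.Lib.Helper77.Ctb.weighted_core hM z hz
    (Subgroup.centralizer ({z} : Set G)) rfl ξ₀ hb hdef hl
  -- the finite sets
  set ht : Cfsg.IrrCharacter G → ℕ := fun ψ => Cfsg.blockHeight 2 B (ψ : G → ℂ) with hht
  set Bf := Finset.univ.filter (fun ψ : Cfsg.IrrCharacter G => ψ ∈ B) with hBf
  set K₀ := Finset.univ.filter (fun ψ : Cfsg.IrrCharacter G => ψ ∈ B ∧ ht ψ = 0) with hK₀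
  set K₁ := Finset.univ.filter (fun ψ : Cfsg.IrrCharacter G => ψ ∈ B ∧ 1 ≤ ht ψ) with hK₁
  have hcB : Nat.card B = Bf.card := by
    rw [Nat.card_eq_fintype_card, ← Fintype.card_subtype]
  have hc0 : Nat.card {ψ : Cfsg.IrrCharacter G // ψ ∈ B ∧
      Cfsg.blockHeight 2 B (ψ : G → ℂ) = 0} = K₀.card := by
    rw [Nat.card_eq_fintype_card, Fintype.card_subtype]
  have hS : {ψ : Cfsg.IrrCharacter G | ψ ∈ B ∧ 1 ≤ Cfsg.blockHeight 2 B (ψ : G → ℂ)} =
      (K₁ : Set (Cfsg.IrrCharacter G)) := by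
    ext ψ
    simp [hK₁, hht]
  have hfs : (∑ᶠ ψ ∈ {ψ : Cfsg.IrrCharacter G | ψ ∈ B ∧ 1 ≤ Cfsg.blockHeight 2 B (ψ : G → ℂ)},
      2 ^ Cfsg.blockHeight 2 B (ψ : G → ℂ)) = ∑ ψ ∈ K₁, 2 ^ ht ψ := by
    rw [hS, finsum_mem_coe_finset]
  rw [hcB, hc0, hfs]
  -- splitting the block
  have hdisj : Disjoint K₀ K₁ := by
    rw [Finset.disjoint_left]
    intro ψ h0 h1
    rw [hK₀, Finset.mem_filter] at h0
    rw [hK₁, Finset.mem_filter] at h1
    omega
  have hunion : Bf = K₀ ∪ K₁ := by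
    ext ψ
    simp only [hBf, hK₀, hK₁, Finset.mem_filter, Finset.mem_univ, true_and, Finset.mem_union]
    constructor
    · intro h
      rcases Nat.eq_zero_or_pos (ht ψ) with h0 | h1
      · exact Or.inl ⟨h, h0⟩
      · exact Or.inr ⟨h, h1⟩
    · rintro (h | h) <;> exact h.1
  have hw0 : ∑ ψ ∈ K₀, Cfsg.Agent.Lib.Helper77.Ctb.hwt B ψ = 3 * K₀.card := by
    rw [Finset.sum_congr rfl (g := fun _ => 3), Finset.sum_const, smul_eq_mul, mul_comm]
    intro ψ hψ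
    rw [hK₀, Finset.mem_filter] at hψ
    unfold Cfsg.Agent.Lib.Helper77.Ctb.hwt
    rw [if_pos hψ.2.2]
  have hw1 : ∑ ψ ∈ K₁, Cfsg.Agent.Lib.Helper77.Ctb.hwt B ψ = 2 * ∑ ψ ∈ K₁, 2 ^ ht ψ := by
    rw [Finset.mul_sum]
    refine Finset.sum_congr rfl fun ψ hψ => ?_
    rw [hK₁, Finset.mem_filter] at hψ
    unfold Cfsg.Agent.Lib.Helper77.Ctb.hwt
    rw [if_neg (Nat.one_le_iff_ne_zero.mp hψ.2.2)]
  rw [hunion, Finset.sum_union hdisj, hw0, hw1] at hcore
  refine ⟨?_, hcore⟩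
  rw [hunion, Finset.card_union_of_disjoint hdisj]
  have h1 : 3 * K₁.card ≤ 2 * ∑ ψ ∈ K₁, 2 ^ ht ψ := by
    rw [Finset.mul_sum]
    calc 3 * K₁.card = ∑ _ψ ∈ K₁, 3 := by rw [Finset.sum_const, smul_eq_mul, mul_comm]
      _ ≤ ∑ ψ ∈ K₁, 2 * 2 ^ ht ψ := by
          refine Finset.sum_le_sum fun ψ hψ => ?_
          rw [hK₁, Finset.mem_filter] at hψ
          have : 2 ^ 1 ≤ 2 ^ ht ψ := Nat.pow_le_pow_right (by norm_num) hψ.2.2
          omega
  omega

end Cfsg.Agent.S4540
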