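import Cfsg.Statements.S4550
import Mathlib
import Cfsg.Agent.Lib.Helper75.PowMap
import Cfsg.Agent.Lib.Helper77.Osima
import Cfsg.Agent.Lib.Helper79.Basic
import Cfsg.Agent.Lib.Helper81.Irr
import Cfsg.Agent.Lib.Helper81.LocalRing

set_option autoImplicit false
set_option linter.style.haveILetI false
set_option linter.unusedSectionVars false
open Cfsg

namespace Cfsg.Agent.S4550

open Cfsg.Agent.Lib.Helper75 Cfsg.Agent.Lib.Helper77 Cfsg.Agent.Lib.Helper81
open scoped ComplexConjugate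

section Aux

variable {G : Type*} [Group G] [Finite G]

theorem coprime_k (k : ℕ) (hk₁ : ∀ g : G, (∃ j : ℕ, orderOf g = 2 ^ j) → g ^ k = g ^ 3)
    (hk₂ : ∀ g : G, Odd (orderOf g) → g ^ k = g) : Nat.Coprime k (Nat.card G) := by
  by_contra hne
  obtain ⟨q, hq, hqd⟩ := Nat.exists_prime_and_dvd hne
  have hqk : q ∣ k := hqd.trans (Nat.gcd_dvd_left _ _)
  have hqG : q ∣ Nat.card G := hqd.trans (Nat.gcd_dvd_right _ _)
  haveI : Fact q.Prime := ⟨hq⟩
  obtain ⟨g, hg⟩ := exists_prime_orderOf_dvd_card' q hqG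
  have hgk : g ^ k = 1 := by
    rw [← orderOf_dvd_iff_pow_eq_one, hg]; exact hqk
  have hg1 : g ≠ 1 := by
    intro h
    rw [h, orderOf_one] at hg
    exact hq.ne_one hg.symm
  rcases hq.eq_two_or_odd' with h2 | hodd
  · have h3 := hk₁ g ⟨1, by rw [hg, h2, pow_one]⟩
    rw [hgk] at h3
    have h4 : g ^ 2 = 1 := by rw [← h2, ← hg]; exact pow_orderOf_eq_one g
    apply hg1
    have : g ^ 3 = g := by rw [pow_succ, h4, one_mul]
    rw [this] at h3
    exact h3.symm
  · have h3 := hk₂ g (by rw [hg]; exact hodd)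
    rw [hgk] at h3
    exact hg1 h3.symm

theorem three_pow (E j : ℕ) (hj : j ≤ E + 1) : 3 ^ (2 ^ E) ≡ 1 [MOD 2 ^ j] := by
  rcases j with _ | j
  · simp [Nat.ModEq, Nat.mod_one]
  · have h1 : (3 : ℕ) ^ Nat.totient (2 ^ (j + 1)) ≡ 1 [MOD 2 ^ (j + 1)] :=
      Nat.ModEq.pow_totient (by
        apply Nat.Coprime.pow_right
        norm_num)
    rw [Nat.totient_prime_pow_succ Nat.prime_two] at h1
    simp only [Nat.add_one_sub_one, mul_one] at h1
    have hjE : j ≤ E := by omega
    obtain ⟨c, rfl⟩ := Nat.exists_eq_add_of_le hjE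
    have h2 : (3 : ℕ) ^ 2 ^ (j + c) = (3 ^ 2 ^ j) ^ 2 ^ c := by
      rw [← pow_mul, ← pow_add]
    rw [h2]
    have := h1.pow (2 ^ c)
    simpa using this

theorem pow_T_eq (k : ℕ) (hk₁ : ∀ g : G, (∃ j : ℕ, orderOf g = 2 ^ j) → g ^ k = g ^ 3)
    (hk₂ : ∀ g : G, Odd (orderOf g) → g ^ k = g) (g : G) :
    g ^ (k ^ (2 ^ (Nat.card G).factorization 2)) = g := by
  set E := (Nat.card G).factorization 2 with hE
  obtain ⟨j, m, hm, hn⟩ := Nat.exists_eq_two_pow_mul_odd (orderOf_pos g).ne'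
  -- the 2-part
  have hmdvd : m ∣ orderOf g := ⟨2 ^ j, by rw [hn, mul_comm]⟩
  have h2dvd : 2 ^ j ∣ orderOf g := ⟨m, hn⟩
  have ho1 : orderOf (g ^ m) = 2 ^ j := by
    rw [orderOf_pow_of_dvd hm.pos.ne' hmdvd, hn, Nat.mul_div_cancel _ hm.pos]
  have ho2 : orderOf (g ^ (2 ^ j)) = m := by
    rw [orderOf_pow_of_dvd (by positivity) h2dvd, hn, Nat.mul_div_cancel_left _ (by positivity)]
  have hk3 : k ≡ 3 [MOD 2 ^ j] := by
    have := hk₁ (g ^ m) ⟨j, ho1⟩
    rw [pow_eq_pow_iff_modEq, ho1] at this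
    exact this
  have hk1 : k ≡ 1 [MOD m] := by
    have := hk₂ (g ^ (2 ^ j)) (by rw [ho2]; exact hm)
    conv_rhs at this => rw [← pow_one (g ^ 2 ^ j)]
    rw [pow_eq_pow_iff_modEq, ho2] at this
    exact this
  have hjE : j ≤ E := by
    have h1 : 2 ^ j ∣ Nat.card G := h2dvd.trans (orderOf_dvd_natCard g)
    exact (Nat.Prime.pow_dvd_iff_le_factorization Nat.prime_two Nat.card_pos.ne').1 h1
  have hT2 : k ^ (2 ^ E) ≡ 1 [MOD 2 ^ j] :=
    (hk3.pow (2 ^ E)).trans (three_pow E j (by omega))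
  have hTm : k ^ (2 ^ E) ≡ 1 [MOD m] := by
    have := hk1.pow (2 ^ E)
    simpa using this
  have hcop : Nat.Coprime (2 ^ j) m := by
    apply Nat.Coprime.pow_left
    rw [Nat.coprime_two_left]
    exact hm
  have hT : k ^ (2 ^ E) ≡ 1 [MOD orderOf g] := by
    rw [hn]
    exact (Nat.modEq_and_modEq_iff_modEq_mul hcop).1 ⟨hT2, hTm⟩
  conv_rhs => rw [← pow_one g]
  rw [pow_eq_pow_iff_modEq]
  exact hT

/-- The trivial character as an element of `IrrCharacter G`. -/
noncomputable def trivIrr (G : Type*) [Group G] : IrrCharacter G :=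
  ⟨fun _ => (1 : ℂ), by
    have := Cfsg.Agent.Lib.Helper79.isIrrCharacter_of_monoidHom (1 : G →* ℂˣ)
    simpa using this⟩

open Classical in
/-- The sum of the squares of the degrees in the principal `2`-block is even when `|G|` is. -/
theorem even_sum_sq [Fintype (IrrCharacter G)] (M : Ideal AlgInt) (hM : IsPModular 2 M)
    (hev : Even (Nat.card G)) :
    Even (∑ χ ∈ Finset.univ.filter (fun χ : IrrCharacter G => χ ∈ principalBlock M G),
      (charDegree (χ : G → ℂ)) ^ 2) := by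
  haveI := Fintype.ofFinite G
  have hMp := isPrime_of_isPModular hM
  set S : ℕ := ∑ χ ∈ Finset.univ.filter (fun χ : IrrCharacter G => χ ∈ principalBlock M G),
      (charDegree (χ : G → ℂ)) ^ 2 with hS
  have h1 := memLocalRing_blockCoeff hM (trivIrr G) (1 : G)
  have hB : blockOf M ((trivIrr G : IrrCharacter G) : G → ℂ) = principalBlock M G := rfl
  rw [hB, blockCoeff_eq_sum] at h1
  have h2 : ∑ χ ∈ Finset.univ.filter (fun χ : IrrCharacter G => χ ∈ principalBlock M G),
      (χ : G → ℂ) 1 * conj ((χ : G → ℂ) 1) = (S : ℂ) := by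
    rw [hS]
    push_cast
    apply Finset.sum_congr rfl
    intro χ _
    rw [irr_apply_one_eq_charDegree χ]
    simp [sq]
  rw [h2] at h1
  obtain ⟨a, b, hb, hab⟩ := h1
  have hb0 : (b : ℂ) ≠ 0 := algInt_coe_ne_zero_of_not_mem hb
  have hG0 : (Nat.card G : ℂ) ≠ 0 := by exact_mod_cast Nat.card_pos.ne'
  have h3 : (S : ℂ) * (b : ℂ) = (Nat.card G : ℂ) * (a : ℂ) := by
    field_simp at hab
    linear_combination -hab
  have h4 : (S : AlgInt) * b = (Nat.card G : AlgInt) * a := by
    apply Subtype.ext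
    push_cast
    exact h3
  have h5 : (Nat.card G : AlgInt) ∈ M := (natCast_mem_iff hM _).2 hev.two_dvd
  have h6 : (S : AlgInt) * b ∈ M := by rw [h4]; exact M.mul_mem_right _ h5
  rcases hMp.mem_or_mem h6 with h7 | h7
  · exact even_iff_two_dvd.2 ((natCast_mem_iff hM _).1 h7)
  · exact absurd h7 hb

open Classical in
theorem even_card_odd [Fintype (IrrCharacter G)] (M : Ideal AlgInt) (hM : IsPModular 2 M)
    (hev : Even (Nat.card G)) :
    Even (Nat.card {χ : IrrCharacter G // χ ∈ principalBlock M G ∧ Odd (charDegree (χ : G → ℂ))}) := by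
  have h1 := even_sum_sq M hM hev
  rw [Nat.card_eq_fintype_card, Fintype.card_subtype]
  have h2 : ((∑ χ ∈ Finset.univ.filter (fun χ : IrrCharacter G => χ ∈ principalBlock M G),
      (charDegree (χ : G → ℂ)) ^ 2 : ℕ) : ZMod 2) =
      ((Finset.univ.filter (fun χ : IrrCharacter G =>
        χ ∈ principalBlock M G ∧ Odd (charDegree (χ : G → ℂ)))).card : ZMod 2) := by
    rw [← Finset.filter_filter, Finset.card_filter]
    push_cast
    apply Finset.sum_congr rfl
    intro χ _
    by_cases hodd : Odd (charDegree (χ : G → ℂ))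
    · rw [if_pos hodd]
      have : ((charDegree (χ : G → ℂ) : ℕ) : ZMod 2) = 1 := (ZMod.natCast_eq_one_iff_odd).2 hodd
      rw [this]; simp
    · rw [if_neg hodd]
      have : ((charDegree (χ : G → ℂ) : ℕ) : ZMod 2) = 0 :=
        (ZMod.natCast_eq_zero_iff_even).2 (Nat.not_odd_iff_even.1 hodd)
      rw [this]; simp
  rw [← ZMod.natCast_eq_zero_iff_even, ← h2, ZMod.natCast_eq_zero_iff_even]
  exact h1

end Aux

/-- Let G be a finite group of even order and M a maximal ideal of the algebraic integers containing 2. Let k be a natural number with g ^ k = g ^ 3 for every 2-element g and g ^ k = g for every element g of odd order (such k exist); an irreducible character χ is unchanged by g ↦ g ^ k exactly when it is fixed by the field automorphism that cubes the 2-power roots of unity and fixes the roots of unity of odd order. Then the number of members χ of the principal 2-block of odd degree with χ (g ^ k) = χ g for all g is even. -/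
theorem result {G : Type*} [Group G] [Finite G] (M : Ideal Cfsg.AlgInt) (hM : Cfsg.IsPModular 2 M) (hev : Even (Nat.card G)) (k : ℕ) (hk₁ : ∀ g : G, (∃ j : ℕ, orderOf g = 2 ^ j) → g ^ k = g ^ 3) (hk₂ : ∀ g : G, Odd (orderOf g) → g ^ k = g) : Even (Nat.card {χ : Cfsg.IrrCharacter G // χ ∈ Cfsg.principalBlock M G ∧ Odd (Cfsg.charDegree (χ : G → ℂ)) ∧ ∀ g : G, (χ : G → ℂ) (g ^ k) = (χ : G → ℂ) g}) := by
  classical
  haveI := finite_irrCharacter (G := G)
  haveI := Fintype.ofFinite (IrrCharacter G)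
  have hcop := coprime_k k hk₁ hk₂
  have hT := pow_T_eq k hk₁ hk₂
  let f : Function.End {χ : IrrCharacter G // χ ∈ principalBlock M G ∧ Odd (charDegree (χ : G → ℂ))} :=
    fun χ => ⟨powIrr k hcop χ.1, powIrr_mem_principalBlock k hcop χ.2.1, by
      rw [charDegree_powIrr]; exact χ.2.2⟩
  have hiter : ∀ (n : ℕ) (χ : {χ : IrrCharacter G // χ ∈ principalBlock M G ∧ Odd (charDegree (χ : G → ℂ))}),
      ((f ^ n) χ).1 = (powIrr k hcop)^[n] χ.1 := by
    intro n
    induction n with
    | zero => intro χ; rfl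
    | succ n ih =>
      intro χ
      rw [pow_succ', Function.iterate_succ_apply']
      show (f ((f ^ n) χ)).1 = _
      rw [← ih χ]
  have hf : f ^ 2 ^ (Nat.card G).factorization 2 = 1 := by
    funext χ
    apply Subtype.ext
    rw [hiter, powIrr_iterate]
    exact powIrr_eq_self_of_forall _ _ hT χ.1
  have hmod := Equiv.Perm.card_fixedPoints_modEq (p := 2) (n := (Nat.card G).factorization 2) hf
  have hY := even_card_odd M hM hev
  rw [Nat.card_eq_fintype_card] at hY
  have hfix : Even (Fintype.card (Function.fixedPoints f)) := by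
    rw [Nat.even_iff] at hY ⊢
    rw [← hmod, hY]
  have hcard : Nat.card {χ : Cfsg.IrrCharacter G // χ ∈ Cfsg.principalBlock M G ∧ Odd (Cfsg.charDegree (χ : G → ℂ)) ∧ ∀ g : G, (χ : G → ℂ) (g ^ k) = (χ : G → ℂ) g} =
      Fintype.card (Function.fixedPoints f) := by
    rw [← Nat.card_eq_fintype_card]
    apply Nat.card_congr
    refine
      { toFun := fun χ => ⟨⟨χ.1, χ.2.1, χ.2.2.1⟩, ?_⟩
        invFun := fun y => ⟨y.1.1, y.1.2.1, y.1.2.2, ?_⟩
        left_inv := fun χ => rfl
        right_inv := fun y => rfl }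
    · show f ⟨χ.1, χ.2.1, χ.2.2.1⟩ = ⟨χ.1, χ.2.1, χ.2.2.1⟩
      apply Subtype.ext
      exact (powIrr_eq_iff k hcop χ.1).2 χ.2.2.2
    · have h1 : f y.1 = y.1 := y.2
      exact (powIrr_eq_iff k hcop y.1.1).1 (congrArg Subtype.val h1)
  rw [hcard]
  exact hfix

end Cfsg.Agent.S4550
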