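import Cfsg.Statements.S4551
import Cfsg.Agent.Lib.Helper74.AD5
-- import your own Cfsg.Agent.* helpers here

set_option autoImplicit false
open Cfsg

namespace Cfsg.Agent.S4551

/-- Let N be a normal subgroup of the finite group G of index prime to p, P a Sylow p-subgroup of G with G = N·C_G(P), and M a maximal ideal of the algebraic integers containing p. Then restriction to N is a bijection from the principal p-block of G onto the principal p-block of N: every member of the principal block of G restricts to a member of the principal block of N, and every member of the principal block of N is the restriction of exactly one member of the principal block of G. -/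
theorem result {G : Type*} [Group G] [Finite G] (p : ℕ) [Fact p.Prime] (M : Ideal Cfsg.AlgInt) (hM : Cfsg.IsPModular p M) (N : Subgroup G) [N.Normal] (hidx : ¬ p ∣ N.index) (P : Sylow p G) (hsup : N ⊔ Subgroup.centralizer ((P : Subgroup G) : Set G) = ⊤) : (∀ χ ∈ Cfsg.principalBlock M G, ∃ θ ∈ Cfsg.principalBlock M ↥N, ∀ n : N, (χ : G → ℂ) n = (θ : N → ℂ) n) ∧ ∀ θ ∈ Cfsg.principalBlock M ↥N, ∃! χ : Cfsg.IrrCharacter G, χ ∈ Cfsg.principalBlock M G ∧ ∀ n : N, (χ : G → ℂ) n = (θ : N → ℂ) n := by
  classical
  have : Fintype G := Fintype.ofFinite _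
  have instN : Fintype ↥N := Fintype.ofFinite _
  constructor
  · intro χ hχ
    obtain ⟨θ, hθne⟩ := Cfsg.Agent.Lib.Helper16.exists_constituent N χ
    have hθ : θ ∈ Cfsg.principalBlock M ↥N :=
      Cfsg.Agent.S4708.constituent_mem_principal N p M hM χ hχ θ hθne
    let D : Cfsg.Agent.Lib.Helper74.ADData G p M := ⟨N, inferInstance, P, hM, hidx, hsup, θ, hθ⟩
    have h : (χ : G → ℂ) = D.hat := D.eq_hat χ hχ hθne
    refine ⟨θ, hθ, fun n => ?_⟩
    rw [h]
    exact D.hat_restrict (n : G) n.2
  · intro θ hθ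
    let D : Cfsg.Agent.Lib.Helper74.ADData G p M := ⟨N, inferInstance, P, hM, hidx, hsup, θ, hθ⟩
    obtain ⟨χ, hχB, hχne⟩ := Cfsg.Agent.S4708.exists_over_principal N p M hM θ hθ
    have h : (χ : G → ℂ) = D.hat := D.eq_hat χ hχB hχne
    refine ⟨χ, ⟨hχB, fun n => ?_⟩, ?_⟩
    · rw [h]
      exact D.hat_restrict (n : G) n.2
    · rintro χ' ⟨hχ'B, hχ'res⟩
      have hne' : Cfsg.classInner (fun n : N => (χ' : G → ℂ) n) (θ : N → ℂ) ≠ 0 := by
        have h1 : (fun n : N => (χ' : G → ℂ) n) = (θ : N → ℂ) := funext hχ'res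
        rw [h1, Cfsg.Agent.Lib.Helper3.classInner_irr θ.2 θ.2, if_pos rfl]
        exact one_ne_zero
      have h' : (χ' : G → ℂ) = D.hat := D.eq_hat χ' hχ'B hne'
      exact Subtype.ext (h'.trans h.symm)

end Cfsg.Agent.S4551
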