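import Cfsg.Statements.S4558
import Mathlib

set_option autoImplicit false
open Cfsg

namespace Cfsg.Agent.S4558

open Polynomial

theorem root_pow_eq_one {n : ℕ} (A : Matrix (Fin n) (Fin n) ℂ) (q : ℕ) (hA : A ^ q = 1) (μ : ℂ)
    (hμ : μ ∈ A.charpoly.roots) : μ ^ q = 1 := by
  have hroot : A.charpoly.IsRoot μ := (mem_roots (Matrix.charpoly_monic A).ne_zero).1 hμ
  have h1 : μ ∈ spectrum ℂ A := Matrix.mem_spectrum_iff_isRoot_charpoly.2 hroot
  have h2 : μ ^ q ∈ spectrum ℂ (A ^ q) := spectrum.pow_mem_pow A q h1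
  rw [hA] at h2
  by_contra h
  apply (spectrum.mem_iff.1 h2)
  have : IsUnit (μ ^ q - 1) := IsUnit.mk0 _ (sub_ne_zero.2 h)
  have h3 := this.map (algebraMap ℂ (Matrix (Fin n) (Fin n) ℂ))
  simpa using h3

theorem trace_zero_dvd {n : ℕ} (A : Matrix (Fin n) (Fin n) ℂ) (p j : ℕ) [Fact p.Prime]
    (hA : A ^ (p ^ (j + 1)) = 1) (htr : A.trace = 0) : p ∣ n := by
  classical
  set q := p ^ (j + 1) with hq
  have hq0 : q ≠ 0 := pow_ne_zero _ (Fact.out : p.Prime).ne_zero
  set ζ : ℂ := Complex.exp (2 * Real.pi * Complex.I / q) with hζ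
  have hprim : IsPrimitiveRoot ζ q := Complex.isPrimitiveRoot_exp q hq0
  set R := A.charpoly.roots with hR
  have hcard : R.card = n := by
    have h1 := (IsAlgClosed.splits A.charpoly)
    rw [Polynomial.splits_iff_card_roots] at h1
    rw [hR, h1, Matrix.charpoly_natDegree_eq_dim A]
    simp
  have hroots : ∀ μ ∈ R, μ ^ q = 1 := fun μ hμ => root_pow_eq_one A q hA μ hμ
  have hex : ∀ μ : ℂ, ∃ i : ℕ, μ ^ q = 1 → ζ ^ i = μ := by
    intro μ
    by_cases h : μ ^ q = 1
    · obtain ⟨i, _, hi⟩ := hprim.eq_pow_of_pow_eq_one h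
      exact ⟨i, fun _ => hi⟩
    · exact ⟨0, fun h' => absurd h' h⟩
  choose idx hidx using hex
  set P : ℤ[X] := (R.map fun μ => (X : ℤ[X]) ^ idx μ).sum with hP
  have haeval : aeval ζ P = 0 := by
    rw [hP, map_multiset_sum, Multiset.map_map]
    have : (R.map ((aeval ζ : ℤ[X] →ₐ[ℤ] ℂ) ∘ fun μ => (X : ℤ[X]) ^ idx μ)) = R.map id := by
      apply Multiset.map_congr rfl
      intro μ hμ
      simp [hidx μ (hroots μ hμ)]
    rw [this, Multiset.map_id, ← htr, Matrix.trace_eq_sum_roots_charpoly]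
  have hint : IsIntegral ℤ ζ := hprim.isIntegral (Nat.pos_of_ne_zero hq0)
  have hdvd : cyclotomic q ℤ ∣ P := by
    rw [cyclotomic_eq_minpoly hprim (Nat.pos_of_ne_zero hq0)]
    exact minpoly.isIntegrallyClosed_dvd hint haeval
  have h1 : (cyclotomic q ℤ).eval 1 ∣ P.eval 1 := eval_dvd hdvd
  rw [hq, eval_one_cyclotomic_prime_pow] at h1
  have h2 : P.eval 1 = (n : ℤ) := by
    rw [hP, ← coe_evalRingHom, map_multiset_sum, Multiset.map_map]
    simp [hcard]
  rw [h2] at h1
  exact_mod_cast h1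

/-- Let χ be a character of the finite group G and g an element of p-power order for the prime p. If χ g = 0, then p divides the degree of χ. -/
theorem result {G : Type*} [Group G] [Finite G] (p : ℕ) [Fact p.Prime] (χ : G → ℂ) (hχ : Cfsg.IsCharacter G χ) (g : G) (hg : ∃ j : ℕ, orderOf g = p ^ j) (h0 : χ g = 0) : p ∣ Cfsg.charDegree χ := by
  obtain ⟨n, ρ, rfl⟩ := hχ
  obtain ⟨j, hj⟩ := hg
  have hdeg : Cfsg.charDegree ρ.character = n := by
    unfold Cfsg.charDegree
    rw [Representation.char_one]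
    simp
  rw [hdeg]
  rcases j with _ | j
  · have hg1 : g = 1 := by
      rw [← orderOf_eq_one_iff]; simpa using hj
    rw [hg1, Representation.char_one] at h0
    have : n = 0 := by simpa using h0
    rw [this]; exact dvd_zero p
  · set A : Matrix (Fin n) (Fin n) ℂ := LinearMap.toMatrix' (ρ g) with hAdef
    have hApow : A ^ (p ^ (j + 1)) = 1 := by
      have : A = LinearMap.toMatrixAlgEquiv' (ρ g) := rfl
      rw [this, ← map_pow, ← map_pow, ← hj, pow_orderOf_eq_one, map_one, map_one]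
    have htr : A.trace = 0 := by
      rw [← h0]
      unfold Representation.character
      rw [LinearMap.trace_eq_matrix_trace ℂ (Pi.basisFun ℂ (Fin n)) (ρ g), LinearMap.toMatrix_eq_toMatrix']
    exact trace_zero_dvd A p j hApow htr

end Cfsg.Agent.S4558
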