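import Cfsg.Statements.S4560
import Cfsg.Agent.Lib.Helper39.AltCharG

set_option autoImplicit false
set_option linter.style.haveILetI false
open Cfsg

namespace Cfsg.Agent.S4560

open Cfsg.Agent.Lib.Helper39.AltChar Equiv MulAction

theorem rot2_fix : ∀ i : Fin 2, finRotate 2 i ≠ i := by decide
theorem rot3_fix : ∀ i : Fin 3, finRotate 3 i ≠ i := by decide
theorem rot4_fix : ∀ i : Fin 4, finRotate 4 i ≠ i := by decide
theorem rot8_fix : ∀ i : Fin 8, finRotate 8 i ≠ i := by decide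
theorem rot3_two : ∀ i : Fin 3, finRotate 3 (finRotate 3 i) ≠ i := by decide
theorem rot4_two : ∀ i : Fin 4, finRotate 4 (finRotate 4 i) ≠ i := by decide
theorem rot8_two : ∀ i : Fin 8, finRotate 8 (finRotate 8 i) ≠ i := by decide
theorem rot2_pow4 : finRotate 2 ^ 4 = 1 := by decide
theorem rot4_pow4 : finRotate 4 ^ 4 = 1 := by decide
theorem rot4_pow8 : finRotate 4 ^ 8 = 1 := by decide
theorem rot8_pow8 : finRotate 8 ^ 8 = 1 := by decide
theorem rot3_pow3 : finRotate 3 ^ 3 = 1 := by decide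

theorem sign_rot2 : Perm.sign (finRotate 2) = -1 := by rw [sign_finRotate]; decide
theorem sign_rot3 : Perm.sign (finRotate 3) = 1 := by rw [sign_finRotate]; decide
theorem sign_rot4 : Perm.sign (finRotate 4) = -1 := by rw [sign_finRotate]; decide
theorem sign_rot8 : Perm.sign (finRotate 8) = -1 := by rw [sign_finRotate]; decide

/-- An even permutation with a suitable number of fixed points gives a vanishing irreducible
character of the alternating group which extends to the symmetric group. -/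
theorem finish (n : ℕ) (hn : 7 ≤ n) (P : alternatingGroup (Fin n) → Prop) (x : Perm (Fin n))
    (hs : Perm.sign x = 1) (hP : P ⟨x, Perm.mem_alternatingGroup.2 hs⟩) (r : ℕ)
    (hr : Fintype.card (fixedBy (Fin n) x) = r)
    (h2 : r = 1 ∨ ((∀ i, x (x i) = i → x i = i) ∧ (r = 0 ∨ r = 2 ∨ r = 3))) :
    ∃ χ : Cfsg.IrrCharacter (alternatingGroup (Fin n)),
      (∃ g : alternatingGroup (Fin n), P g ∧ (χ : alternatingGroup (Fin n) → ℂ) g = 0) ∧
      ∃ ψ : Cfsg.IrrCharacter (Equiv.Perm (Fin n)), ∀ g : alternatingGroup (Fin n),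
        (ψ : Equiv.Perm (Fin n) → ℂ) g = (χ : alternatingGroup (Fin n) → ℂ) g := by
  have h4 : 4 ≤ Fintype.card (Fin n) := by rw [Fintype.card_fin]; omega
  have h6 : 6 ≤ Fintype.card (Fin n) := by rw [Fintype.card_fin]; omega
  have hFS := fourTrans_perm (Fin n)
  have hFA := fourTrans_alt (Fin n) h6
  set g : alternatingGroup (Fin n) := ⟨x, Perm.mem_alternatingGroup.2 hs⟩ with hg
  have hrg : Fintype.card (fixedBy (Fin n) g) = r := by
    rw [card_fixedBy_subgroup (alternatingGroup (Fin n)) g]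
    exact hr
  rcases h2 with h1 | ⟨h2c, h0 | h2' | h3⟩
  · refine ⟨⟨chi1 (alternatingGroup (Fin n)) (Fin n), isIrr_chi1 hFA h4⟩, ⟨g, hP, ?_⟩,
      ⟨chi1 (Perm (Fin n)) (Fin n), isIrr_chi1 hFS h4⟩, fun k => chi1_subgroup _ k⟩
    exact chi1_eq_zero g (by rw [hrg, h1])
  · refine ⟨⟨chi2 (alternatingGroup (Fin n)) (Fin n), isIrr_chi2 hFA h4⟩, ⟨g, hP, ?_⟩,
      ⟨chi2 (Perm (Fin n)) (Fin n), isIrr_chi2 hFS h4⟩, fun k => chi2_subgroup _ k⟩
    exact chi2_eq_zero g (fun a ha => h2c a ha) (Or.inl (by rw [hrg, h0]))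
  · refine ⟨⟨chi3 (alternatingGroup (Fin n)) (Fin n), isIrr_chi3 hFA h4⟩, ⟨g, hP, ?_⟩,
      ⟨chi3 (Perm (Fin n)) (Fin n), isIrr_chi3 hFS h4⟩, fun k => chi3_subgroup _ k⟩
    exact chi3_eq_zero g (fun a ha => h2c a ha) (by rw [hrg, h2'])
  · refine ⟨⟨chi2 (alternatingGroup (Fin n)) (Fin n), isIrr_chi2 hFA h4⟩, ⟨g, hP, ?_⟩,
      ⟨chi2 (Perm (Fin n)) (Fin n), isIrr_chi2 hFS h4⟩, fun k => chi2_subgroup _ k⟩
    exact chi2_eq_zero g (fun a ha => h2c a ha) (Or.inr (by rw [hrg, h3]))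

theorem two_pow_order (n : ℕ) (x : Perm (Fin n)) (hs : Perm.sign x = 1) (hx : x ^ 8 = 1) :
    ∃ j : ℕ, orderOf (⟨x, Perm.mem_alternatingGroup.2 hs⟩ : alternatingGroup (Fin n)) = 2 ^ j := by
  have h1 : (⟨x, Perm.mem_alternatingGroup.2 hs⟩ : alternatingGroup (Fin n)) ^ 8 = 1 := by
    apply Subtype.ext
    rw [Subgroup.coe_pow]
    exact hx
  have h2 := orderOf_dvd_of_pow_eq_one h1
  have h3 : (8 : ℕ) = 2 ^ 3 := by norm_num
  rw [h3] at h2
  obtain ⟨j, -, hj⟩ := (Nat.dvd_prime_pow Nat.prime_two).1 h2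
  exact ⟨j, hj⟩

theorem part_two (n : ℕ) (hn : 7 ≤ n) :
    ∃ χ : Cfsg.IrrCharacter (alternatingGroup (Fin n)),
      (∃ g : alternatingGroup (Fin n), (∃ j : ℕ, orderOf g = 2 ^ j) ∧
        (χ : alternatingGroup (Fin n) → ℂ) g = 0) ∧
      ∃ ψ : Cfsg.IrrCharacter (Equiv.Perm (Fin n)), ∀ g : alternatingGroup (Fin n),
        (ψ : Equiv.Perm (Fin n) → ℂ) g = (χ : alternatingGroup (Fin n) → ℂ) g := by
  rcases Nat.even_or_odd n with hev | hodd
  · -- even degree: cycles of lengths eight and four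
    obtain ⟨c, hc⟩ := hev
    set m := n / 4 with hm
    set r := n % 4 with hr
    have hnmr : n = 4 * m + r := by omega
    have hr02 : r = 0 ∨ r = 2 := by omega
    rcases Nat.even_or_odd m with hme | hmo
    · obtain ⟨x, hsx, hpow, hfix, h2c⟩ := exists_block_perm n 8 4 0 m r (by omega)
        (finRotate 8) (finRotate 4) rot8_fix rot4_fix
      have hs : Perm.sign x = 1 := by
        rw [hsx, sign_rot4, pow_zero, one_mul, hme.neg_one_pow]
      have hx8 := hpow 8 rot8_pow8 rot4_pow8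
      refine finish n hn _ x hs (two_pow_order n x hs hx8) r hfix
        (Or.inr ⟨h2c rot8_two rot4_two, ?_⟩)
      rcases hr02 with h | h
      · exact Or.inl h
      · exact Or.inr (Or.inl h)
    · have hm3 : 3 ≤ m := by
        obtain ⟨d, hd⟩ := hmo
        omega
      obtain ⟨x, hsx, hpow, hfix, h2c⟩ := exists_block_perm n 8 4 1 (m - 2) r (by omega)
        (finRotate 8) (finRotate 4) rot8_fix rot4_fix
      have hmo2 : Odd (m - 2) := by
        obtain ⟨d, hd⟩ := hmo
        exact ⟨d - 1, by omega⟩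
      have hs : Perm.sign x = 1 := by
        rw [hsx, sign_rot4, sign_rot8, pow_one, hmo2.neg_one_pow]
        decide
      have hx8 := hpow 8 rot8_pow8 rot4_pow8
      refine finish n hn _ x hs (two_pow_order n x hs hx8) r hfix
        (Or.inr ⟨h2c rot8_two rot4_two, ?_⟩)
      rcases hr02 with h | h
      · exact Or.inl h
      · exact Or.inr (Or.inl h)
  · -- odd degree: cycles of lengths four and two, one fixed point
    obtain ⟨c, hc⟩ := hodd
    set t := (n - 1) / 2 with ht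
    have hnt : n = 2 * t + 1 := by omega
    have ht3 : 3 ≤ t := by omega
    rcases Nat.even_or_odd t with hte | hto
    · obtain ⟨x, hsx, hpow, hfix, -⟩ := exists_block_perm n 4 2 0 t 1 (by omega)
        (finRotate 4) (finRotate 2) rot4_fix rot2_fix
      have hs : Perm.sign x = 1 := by
        rw [hsx, sign_rot2, pow_zero, one_mul, hte.neg_one_pow]
      have hx4 := hpow 4 rot4_pow4 rot2_pow4
      have hx8 : x ^ 8 = 1 := by
        have : x ^ 8 = (x ^ 4) ^ 2 := by rw [← pow_mul]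
        rw [this, hx4, one_pow]
      exact finish n hn _ x hs (two_pow_order n x hs hx8) 1 hfix (Or.inl rfl)
    · obtain ⟨x, hsx, hpow, hfix, -⟩ := exists_block_perm n 4 2 1 (t - 2) 1 (by omega)
        (finRotate 4) (finRotate 2) rot4_fix rot2_fix
      have hto2 : Odd (t - 2) := by
        obtain ⟨d, hd⟩ := hto
        exact ⟨d - 1, by omega⟩
      have hs : Perm.sign x = 1 := by
        rw [hsx, sign_rot2, sign_rot4, pow_one, hto2.neg_one_pow]
        decide
      have hx4 := hpow 4 rot4_pow4 rot2_pow4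
      have hx8 : x ^ 8 = 1 := by
        have : x ^ 8 = (x ^ 4) ^ 2 := by rw [← pow_mul]
        rw [this, hx4, one_pow]
      exact finish n hn _ x hs (two_pow_order n x hs hx8) 1 hfix (Or.inl rfl)

theorem part_three (n : ℕ) (hn : 7 ≤ n) :
    ∃ χ : Cfsg.IrrCharacter (alternatingGroup (Fin n)),
      (∃ g : alternatingGroup (Fin n), orderOf g = 3 ∧
        (χ : alternatingGroup (Fin n) → ℂ) g = 0) ∧
      ∃ ψ : Cfsg.IrrCharacter (Equiv.Perm (Fin n)), ∀ g : alternatingGroup (Fin n),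
        (ψ : Equiv.Perm (Fin n) → ℂ) g = (χ : alternatingGroup (Fin n) → ℂ) g := by
  set k := n / 3 with hk
  set r := n % 3 with hr
  have hnkr : n = 3 * k + r := by omega
  have hr3 : r < 3 := by omega
  obtain ⟨x, hsx, hpow, hfix, h2c⟩ := exists_block_perm n 3 3 k 0 r (by omega)
    (finRotate 3) (finRotate 3) rot3_fix rot3_fix
  have hs : Perm.sign x = 1 := by
    rw [hsx, sign_rot3, one_pow, one_pow, one_mul]
  have hx3 := hpow 3 rot3_pow3 rot3_pow3
  have hx1 : x ≠ 1 := by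
    intro h
    rw [h] at hfix
    have h5 : Fintype.card (fixedBy (Fin n) (1 : Perm (Fin n))) = n := by simp
    omega
  have hord : orderOf (⟨x, Perm.mem_alternatingGroup.2 hs⟩ : alternatingGroup (Fin n)) = 3 := by
    haveI : Fact (Nat.Prime 3) := ⟨Nat.prime_three⟩
    apply orderOf_eq_prime
    · apply Subtype.ext
      rw [Subgroup.coe_pow]
      exact hx3
    · intro h
      apply hx1
      exact congrArg Subtype.val h
  refine finish n hn _ x hs hord r hfix ?_
  have h012 : r = 0 ∨ r = 1 ∨ r = 2 := by omega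
  rcases h012 with h | h | h
  · exact Or.inr ⟨h2c rot3_two rot3_two, Or.inl h⟩
  · exact Or.inl h
  · exact Or.inr ⟨h2c rot3_two rot3_two, Or.inr (Or.inl h)⟩

/-- For n ≥ 7, A_n has an irreducible character vanishing on a 2-element and one vanishing on an element of order 3, each extendible to S_n. -/
theorem result (n : ℕ) (hn : 7 ≤ n) : (∃ χ : Cfsg.IrrCharacter (alternatingGroup (Fin n)), (∃ x : alternatingGroup (Fin n), (∃ j : ℕ, orderOf x = 2 ^ j) ∧ (χ : alternatingGroup (Fin n) → ℂ) x = 0) ∧ ∃ ψ : Cfsg.IrrCharacter (Equiv.Perm (Fin n)), ∀ x : alternatingGroup (Fin n), (ψ : Equiv.Perm (Fin n) → ℂ) x = (χ : alternatingGroup (Fin n) → ℂ) x) ∧ (∃ χ : Cfsg.IrrCharacter (alternatingGroup (Fin n)), (∃ y : alternatingGroup (Fin n), orderOf y = 3 ∧ (χ : alternatingGroup (Fin n) → ℂ) y = 0) ∧ ∃ ψ : Cfsg.IrrCharacter (Equiv.Perm (Fin n)), ∀ x : alternatingGroup (Fin n), (ψ : Equiv.Perm (Fin n) → ℂ) x = (χ : alternatingGroup (Fin n) → ℂ) x) :=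
  ⟨part_two n hn, part_three n hn⟩

end Cfsg.Agent.S4560
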