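import Cfsg.Statements.S4565
import Cfsg.Agent.Lib.Helper15.FullyRam
import Cfsg.Agent.Lib.Helper15.LinearChar
import Cfsg.Agent.Lib.Helper75.OddIndexExt
import Cfsg.Agent.S0886

set_option autoImplicit false
set_option linter.style.haveILetI false
open Cfsg

namespace Cfsg.Agent.S4565

open Cfsg.Agent.Lib.Helper15 Cfsg.Agent.Lib.Helper25 Cfsg.Agent.Lib.Helper75
open scoped ComplexConjugate

/-- The core: a fully ramified pair admits no `A = ⟨Z, c⟩` with `c ∉ Z` which is the full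
preimage of the centralizer of `cZ`. -/
theorem core {H : Type*} [Group H] [Fintype H] (Z A : Subgroup H) [hZ : Z.Normal] (hZA : Z ≤ A)
    {χ : H → ℂ} (hχ : IsIrrCharacter H χ) {θ : Z → ℂ} (hθ : IsIrrCharacter Z θ) {e : ℕ}
    (he : e ^ 2 = Z.index) (hres : ∀ z : Z, χ z = (e : ℂ) * θ z)
    (c : H) (hcA : c ∈ A) (hcZ : c ∉ Z)
    (hgen : ∀ a ∈ A, ∃ k : ℤ, (c ^ k)⁻¹ * a ∈ Z)
    (hself : ∀ x : H, c⁻¹ * (x⁻¹ * c * x) ∈ Z → x ∈ A) : False := by
  classical
  haveI : Fintype Z := Fintype.ofFinite _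
  haveI : Fintype A := Fintype.ofFinite _
  haveI hNn : (Z.subgroupOf A).Normal := hZ.subgroupOf A
  have he0 : (e : ℂ) ≠ 0 := by
    have : e ≠ 0 := by
      intro h
      rw [h] at he
      have := Z.index_ne_zero_of_finite
      exact this (by rw [← he]; norm_num)
    exact_mod_cast this
  have hχcl := Cfsg.Agent.Lib.Helper3.IsCharacter.isClassFunction
    (Cfsg.Agent.Lib.Helper3.IsIrrCharacter.isCharacter hχ)
  -- invariance of θ
  have hinv : ∀ (g : H) (n : Z), θ ⟨g * n * g⁻¹, hZ.conj_mem n n.2 g⟩ = θ n := by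
    intro g n
    have h1 := hres ⟨g * n * g⁻¹, hZ.conj_mem n n.2 g⟩
    have h2 := hres n
    have h3 : χ (g * n * g⁻¹) = χ n := hχcl n g
    have h4 : (e : ℂ) * θ ⟨g * n * g⁻¹, hZ.conj_mem n n.2 g⟩ = (e : ℂ) * θ n := by
      rw [← h1, ← h2]
      exact h3
    exact mul_left_cancel₀ he0 h4
  -- the quotient is cyclic
  set cA : A := ⟨c, hcA⟩ with hcAdef
  have hcyc : IsCyclic (↥A ⧸ Z.subgroupOf A) := by
    refine ⟨⟨QuotientGroup.mk cA, fun x => ?_⟩⟩
    obtain ⟨a, rfl⟩ := QuotientGroup.mk_surjective x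
    obtain ⟨k, hk⟩ := hgen a a.2
    refine Subgroup.mem_zpowers_iff.2 ⟨k, ?_⟩
    rw [← QuotientGroup.mk_zpow, QuotientGroup.eq]
    show ((cA ^ k)⁻¹ * a : A).1 ∈ Z
    simpa using hk
  -- the extension
  obtain ⟨ψ, hψ, hψN⟩ := Cfsg.Agent.S0886.result (G := ↥A) (Z.subgroupOf A) hcyc
    (resSub Z A θ) (isIrrCharacter_resSub hZA hθ) (resSub_invariant Z A θ hinv)
  have hψZ : ∀ z : Z, ψ ⟨z, hZA z.2⟩ = θ z := (resSub_ext_iff Z A hZA θ ψ).1 hψN
  have hψcl := Cfsg.Agent.Lib.Helper3.IsCharacter.isClassFunction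
    (Cfsg.Agent.Lib.Helper3.IsIrrCharacter.isCharacter hψ)
  -- the dual group
  letI : CommGroup (↥A ⧸ Z.subgroupOf A) := IsCyclic.commGroup
  haveI : Fintype ((↥A ⧸ Z.subgroupOf A) →* ℂˣ) := Fintype.ofFinite _
  set lam : ((↥A ⧸ Z.subgroupOf A) →* ℂˣ) → A → ℂ :=
    fun φ a => ((φ (QuotientGroup.mk a) : ℂˣ) : ℂ) with hlamdef
  have hlam : ∀ φ, IsCharacter A (lam φ) := by
    intro φ
    exact (isCharacter_of_hom ((Units.coeHom ℂ).comp
      (φ.comp (QuotientGroup.mk' (Z.subgroupOf A))))).1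
  set M : ℂ := (Fintype.card ((↥A ⧸ Z.subgroupOf A) →* ℂˣ) : ℂ) with hM
  have hM0 : M ≠ 0 := by
    rw [hM]
    have : 0 < Fintype.card ((↥A ⧸ Z.subgroupOf A) →* ℂˣ) := Fintype.card_pos
    exact_mod_cast this.ne'
  have hmk1 : ∀ a : A, (QuotientGroup.mk a : ↥A ⧸ Z.subgroupOf A) = 1 ↔ (a : H) ∈ Z := by
    intro a
    rw [QuotientGroup.eq_one_iff]
    rfl
  have hsum : ∀ a : A, ∑ φ, lam φ a = if (a : H) ∈ Z then M else 0 := by
    intro a
    have := sum_monoidHom_apply (↥A ⧸ Z.subgroupOf A) (QuotientGroup.mk a)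
    rw [hlamdef]
    simp only
    rw [this]
    by_cases h : (a : H) ∈ Z
    · rw [if_pos h, if_pos ((hmk1 a).2 h)]
    · rw [if_neg h, if_neg (fun h' => h ((hmk1 a).1 h'))]
  have hkey : ∀ φ (g : H), g ∉ Z → indFun A (ψ * lam φ) g = 0 := fun φ g hg =>
    fullyRam_ind_vanish Z A hZA hχ hθ he hres
      (Cfsg.Agent.Lib.Helper3.IsIrrCharacter.isCharacter hψ) hψZ lam hlam M hsum φ g hg
  -- values on the coset `Z c`
  set q₀ : ↥A ⧸ Z.subgroupOf A := QuotientGroup.mk cA with hq₀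
  have hval : ∀ z : Z, ψ (⟨(z : H), hZA z.2⟩ * cA) = 0 := by
    intro z
    set gA : A := ⟨(z : H), hZA z.2⟩ * cA with hgA
    set g : H := (z : H) * c with hg
    have hgZ : g ∉ Z := by
      intro h
      apply hcZ
      have : c = (z : H)⁻¹ * g := by rw [hg]; group
      rw [this]
      exact Z.mul_mem (Z.inv_mem z.2) h
    have hmkg : (QuotientGroup.mk gA : ↥A ⧸ Z.subgroupOf A) = q₀ := by
      rw [hgA, QuotientGroup.mk_mul, hq₀]
      have : (QuotientGroup.mk (⟨(z : H), hZA z.2⟩ : A) : ↥A ⧸ Z.subgroupOf A) = 1 :=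
        (hmk1 _).2 z.2
      rw [this, one_mul]
    -- the twisted sum vanishes
    have h0 : ∑ φ : (↥A ⧸ Z.subgroupOf A) →* ℂˣ, ((φ q₀⁻¹ : ℂˣ) : ℂ) * indFun A (ψ * lam φ) g = 0 := by
      apply Finset.sum_eq_zero
      intro φ _
      rw [hkey φ g hgZ, mul_zero]
    -- compute it
    have hT : ∀ x : H, ∑ φ : (↥A ⧸ Z.subgroupOf A) →* ℂˣ,
        ((φ q₀⁻¹ : ℂˣ) : ℂ) * extendByZero A (ψ * lam φ) (x⁻¹ * g * x)
          = if x ∈ A then M * ψ gA else 0 := by
      intro x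
      by_cases hy : x⁻¹ * g * x ∈ A
      · have hs := sum_monoidHom_apply (↥A ⧸ Z.subgroupOf A)
          (q₀⁻¹ * (QuotientGroup.mk (⟨x⁻¹ * g * x, hy⟩ : A) : ↥A ⧸ Z.subgroupOf A))
        rw [← hM] at hs
        have hD : ∑ φ : (↥A ⧸ Z.subgroupOf A) →* ℂˣ,
            ((φ q₀⁻¹ : ℂˣ) : ℂ) * extendByZero A (ψ * lam φ) (x⁻¹ * g * x)
            = ψ ⟨x⁻¹ * g * x, hy⟩ * ∑ φ : (↥A ⧸ Z.subgroupOf A) →* ℂˣ,
              ((φ (q₀⁻¹ * (QuotientGroup.mk (⟨x⁻¹ * g * x, hy⟩ : A) :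
                ↥A ⧸ Z.subgroupOf A)) : ℂˣ) : ℂ) := by
          rw [Finset.mul_sum]
          apply Finset.sum_congr rfl
          intro φ _
          rw [extendByZero_of_mem A _ hy, map_mul, Units.val_mul]
          simp only [Pi.mul_apply, hlamdef]
          ring
        rw [hD, hs]
        by_cases hx : x ∈ A
        · rw [if_pos hx]
          set xA : A := ⟨x, hx⟩ with hxA
          have hyA : (⟨x⁻¹ * g * x, hy⟩ : A) = xA⁻¹ * gA * xA := by
            apply Subtype.ext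
            simp [hxA, hgA, hg, hcAdef]
          have h1 : (QuotientGroup.mk (⟨x⁻¹ * g * x, hy⟩ : A) : ↥A ⧸ Z.subgroupOf A) = q₀ := by
            rw [hyA, QuotientGroup.mk_mul, QuotientGroup.mk_mul, hmkg, QuotientGroup.mk_inv,
              mul_comm, ← mul_assoc, mul_inv_cancel, one_mul]
          rw [h1, inv_mul_cancel, if_pos rfl, hyA]
          have h2 := hψcl gA xA⁻¹
          rw [inv_inv] at h2
          rw [h2]
          ring
        · rw [if_neg hx]
          have h1 : ¬ (q₀⁻¹ * (QuotientGroup.mk (⟨x⁻¹ * g * x, hy⟩ : A) :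
              ↥A ⧸ Z.subgroupOf A) = 1) := by
            intro h
            apply hx
            apply hself
            rw [hq₀, ← QuotientGroup.mk_inv, ← QuotientGroup.mk_mul, hmk1] at h
            have h3 : c⁻¹ * (x⁻¹ * g * x) ∈ Z := by simpa [hcAdef] using h
            have h4 : c⁻¹ * (x⁻¹ * c * x)
                = (c⁻¹ * (x⁻¹ * (z : H)⁻¹ * x⁻¹⁻¹) * c⁻¹⁻¹) * (c⁻¹ * (x⁻¹ * g * x)) := by
              rw [hg]; group
            rw [h4]
            exact Z.mul_mem (hZ.conj_mem _ (hZ.conj_mem _ (Z.inv_mem z.2) x⁻¹) c⁻¹) h3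
          rw [if_neg h1, mul_zero]
      · have hx : x ∉ A := by
          intro hx
          apply hy
          exact A.mul_mem (A.mul_mem (A.inv_mem hx) (A.mul_mem (hZA z.2) hcA)) hx
        rw [if_neg hx]
        apply Finset.sum_eq_zero
        intro φ _
        rw [extendByZero_of_not_mem A _ hy, mul_zero]
    have h1 : ∑ φ : (↥A ⧸ Z.subgroupOf A) →* ℂˣ, ((φ q₀⁻¹ : ℂˣ) : ℂ) * indFun A (ψ * lam φ) g
        = M * ψ gA := by
      have h2 : ∀ φ : (↥A ⧸ Z.subgroupOf A) →* ℂˣ,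
          ((φ q₀⁻¹ : ℂˣ) : ℂ) * indFun A (ψ * lam φ) g
          = (Nat.card A : ℂ)⁻¹ * ∑ x : H,
            ((φ q₀⁻¹ : ℂˣ) : ℂ) * extendByZero A (ψ * lam φ) (x⁻¹ * g * x) := by
        intro φ
        rw [Cfsg.Agent.Lib.Helper25.indFun_apply, ← Finset.mul_sum]
        ring
      rw [Finset.sum_congr rfl (fun φ _ => h2 φ), ← Finset.mul_sum, Finset.sum_comm,
        Finset.sum_congr rfl (fun x _ => hT x), Finset.sum_ite, Finset.sum_const_zero, add_zero,
        Finset.sum_const, nsmul_eq_mul]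
      have h3 : ((Finset.univ.filter (fun x : H => x ∈ A)).card : ℂ) = (Nat.card A : ℂ) := by
        rw [Nat.card_eq_fintype_card, Fintype.card_subtype]
      rw [h3]
      have hA0 : (Nat.card A : ℂ) ≠ 0 := card_ne_zero_complex A
      field_simp
    rw [h1] at h0
    rcases mul_eq_zero.1 h0 with h | h
    · exact absurd h hM0
    · exact h
  -- contradiction with the coset norm
  have hn := sum_normSq_coset A Z hZA ψ hψ
    (by
      have : (fun x : Z => ψ ⟨(x : H), hZA x.2⟩) = θ := funext hψZ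
      rw [this]
      exact hθ) cA
  rw [Finset.sum_congr rfl (fun l _ => by rw [hval l, zero_mul])] at hn
  rw [Finset.sum_const_zero] at hn
  exact card_ne_zero_complex Z hn.symm

/-- Let χ be an irreducible character of the finite group H that is fully ramified over the normal subgroup Z: the restriction of χ to Z is e times an irreducible character of Z with e ^ 2 equal to the index of Z. If Z ≠ H, then H/Z has no cyclic subgroup that is its own centralizer. -/
theorem result {H : Type*} [Group H] [Finite H] (Z : Subgroup H) [Z.Normal] (χ : Cfsg.IrrCharacter H) (hfr : ∃ (θ : Cfsg.IrrCharacter ↥Z) (e : ℕ), e ^ 2 = Z.index ∧ ∀ z : ↥Z, (χ : H → ℂ) z = (e : ℂ) * (θ : ↥Z → ℂ) z) (hZ : Z ≠ ⊤) (C : Subgroup (H ⧸ Z)) (hC : IsCyclic C) : Subgroup.centralizer (C : Set (H ⧸ Z)) ≠ C := by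
  classical
  haveI : Fintype H := Fintype.ofFinite _
  intro hcent
  obtain ⟨θ, e, he, hres⟩ := hfr
  obtain ⟨q, hq⟩ := hC.exists_generator
  obtain ⟨c, hc⟩ := QuotientGroup.mk_surjective (q : H ⧸ Z)
  set A : Subgroup H := C.comap (QuotientGroup.mk' Z) with hA
  have hZA : Z ≤ A := by
    intro z hz
    rw [hA, Subgroup.mem_comap]
    have : (QuotientGroup.mk' Z) z = 1 := (QuotientGroup.eq_one_iff z).2 hz
    rw [this]
    exact C.one_mem
  have hcA : c ∈ A := by
    rw [hA, Subgroup.mem_comap]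
    show (QuotientGroup.mk c : H ⧸ Z) ∈ C
    rw [hc]
    exact q.2
  have hgenC : ∀ y ∈ C, ∃ k : ℤ, (QuotientGroup.mk c : H ⧸ Z) ^ k = y := by
    intro y hy
    obtain ⟨k, hk⟩ := Subgroup.mem_zpowers_iff.1 (hq ⟨y, hy⟩)
    refine ⟨k, ?_⟩
    rw [hc]
    have := congrArg (Subtype.val) hk
    simpa using this
  have hcZ : c ∉ Z := by
    intro h
    have h1 : (QuotientGroup.mk c : H ⧸ Z) = 1 := (QuotientGroup.eq_one_iff c).2 h
    have hCbot : C = ⊥ := by
      rw [eq_bot_iff]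
      intro y hy
      obtain ⟨k, hk⟩ := hgenC y hy
      rw [h1, one_zpow] at hk
      rw [Subgroup.mem_bot]
      exact hk.symm
    rw [hCbot] at hcent
    have h2 : (⊤ : Subgroup (H ⧸ Z)) = ⊥ := by
      rw [← hcent]
      ext y
      simp [Subgroup.mem_centralizer_iff]
    apply hZ
    rw [eq_top_iff]
    intro x _
    have : (QuotientGroup.mk x : H ⧸ Z) ∈ (⊥ : Subgroup (H ⧸ Z)) := by
      rw [← h2]; trivial
    exact (QuotientGroup.eq_one_iff x).1 (Subgroup.mem_bot.1 this)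
  refine core Z A hZA χ.2 θ.2 he hres c hcA hcZ ?_ ?_
  · intro a ha
    rw [hA, Subgroup.mem_comap] at ha
    obtain ⟨k, hk⟩ := hgenC _ ha
    refine ⟨k, ?_⟩
    rw [← QuotientGroup.eq_one_iff, QuotientGroup.mk_mul, QuotientGroup.mk_inv,
      QuotientGroup.mk_zpow, hk]
    exact inv_mul_cancel _
  · intro x hx
    rw [hA, Subgroup.mem_comap, ← hcent, Subgroup.mem_centralizer_iff]
    have h1 : (QuotientGroup.mk c : H ⧸ Z)⁻¹ * ((QuotientGroup.mk x)⁻¹ * QuotientGroup.mk c * QuotientGroup.mk x) = 1 := by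
      have := (QuotientGroup.eq_one_iff _).2 hx
      simpa using this
    have h2 : Commute (QuotientGroup.mk c : H ⧸ Z) (QuotientGroup.mk x) := by
      have h3 : (QuotientGroup.mk x : H ⧸ Z)⁻¹ * QuotientGroup.mk c * QuotientGroup.mk x = QuotientGroup.mk c := by
        have := congrArg (fun t => (QuotientGroup.mk c : H ⧸ Z) * t) h1
        simpa [mul_assoc] using this
      show (QuotientGroup.mk c : H ⧸ Z) * QuotientGroup.mk x = QuotientGroup.mk x * QuotientGroup.mk c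
      calc (QuotientGroup.mk c : H ⧸ Z) * QuotientGroup.mk x
          = QuotientGroup.mk x * ((QuotientGroup.mk x : H ⧸ Z)⁻¹ * QuotientGroup.mk c * QuotientGroup.mk x) := by
            group
        _ = QuotientGroup.mk x * QuotientGroup.mk c := by rw [h3]
    intro y hy
    obtain ⟨k, hk⟩ := hgenC y hy
    rw [← hk]
    exact (h2.zpow_left k).eq

end Cfsg.Agent.S4565
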