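import Cfsg.Statements.S4567
import Cfsg.Agent.Lib.Helper76.CentralChar
import Cfsg.Agent.Lib.Helper55.Cores

set_option autoImplicit false
set_option linter.unusedSectionVars false
set_option linter.style.haveILetI false
open Cfsg

namespace Cfsg.Agent.S4567

open Cfsg.Agent.Lib.Helper76 Cfsg.Agent.Lib.Helper80 Cfsg.Agent.Lib.Helper55
open scoped ComplexConjugate

section
variable {G : Type*} [Group G]

/-- `g` is special (good) relative to the central subgroup `N`. -/
def Special (N : Subgroup G) (g : G) : Prop := ∀ x : G, x⁻¹ * g⁻¹ * x * g ∈ N → x * g = g * x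

theorem special_mul (N : Subgroup G) (hN : N ≤ Subgroup.center G) (g n : G) (hn : n ∈ N)
    (hg : Special N g) : Special N (g * n) := by
  intro x hx
  have hnc := hN hn
  rw [Subgroup.mem_center_iff] at hnc
  have e : x⁻¹ * (g * n)⁻¹ * x * (g * n) = x⁻¹ * g⁻¹ * x * g := by
    have h1 : (g * n)⁻¹ = n⁻¹ * g⁻¹ := mul_inv_rev g n
    have c1 : x⁻¹ * n⁻¹ = n⁻¹ * x⁻¹ := by
      have := hnc x⁻¹
      have h3 : n⁻¹ * (x⁻¹ * n) * n⁻¹ = n⁻¹ * (n * x⁻¹) * n⁻¹ := by rw [this]
      have h4 : n⁻¹ * x⁻¹ = x⁻¹ * n⁻¹ := by simpa [mul_assoc] using h3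
      exact h4.symm
    have h2 : x⁻¹ * (n⁻¹ * g⁻¹) * x * (g * n) = n⁻¹ * (x⁻¹ * g⁻¹ * x * g) * n := by
      calc x⁻¹ * (n⁻¹ * g⁻¹) * x * (g * n) = (x⁻¹ * n⁻¹) * g⁻¹ * x * g * n := by group
        _ = (n⁻¹ * x⁻¹) * g⁻¹ * x * g * n := by rw [c1]
        _ = n⁻¹ * (x⁻¹ * g⁻¹ * x * g) * n := by group
    rw [h1, h2, hnc (n⁻¹ * (x⁻¹ * g⁻¹ * x * g))]
    group
  rw [e] at hx
  have h := hg x hx
  calc x * (g * n) = (x * g) * n := by group
    _ = (g * x) * n := by rw [h]
    _ = g * (x * n) := by group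
    _ = g * (n * x) := by rw [hnc x]
    _ = g * n * x := by group

theorem special_conj (N : Subgroup G) [hNn : N.Normal] (g y : G) (hg : Special N g) :
    Special N (y * g * y⁻¹) := by
  intro x hx
  have e : (y⁻¹ * x * y)⁻¹ * g⁻¹ * (y⁻¹ * x * y) * g = y⁻¹ * (x⁻¹ * (y * g * y⁻¹)⁻¹ * x * (y * g * y⁻¹)) * y := by
    group
  have h1 : (y⁻¹ * x * y)⁻¹ * g⁻¹ * (y⁻¹ * x * y) * g ∈ N := by
    rw [e]
    have := hNn.conj_mem _ hx y⁻¹
    simpa using this
  have h2 := hg _ h1
  calc x * (y * g * y⁻¹) = y * ((y⁻¹ * x * y) * g) * y⁻¹ := by group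
    _ = y * (g * (y⁻¹ * x * y)) * y⁻¹ := by rw [h2]
    _ = y * g * y⁻¹ * x := by group

/-- special cosets -/
def SpQ (N : Subgroup G) [N.Normal] (x : G ⧸ N) : Prop := ∃ g : G, (g : G ⧸ N) = x ∧ Special N g

theorem spQ_mk (N : Subgroup G) [N.Normal] (hN : N ≤ Subgroup.center G) (g : G) :
    SpQ N (g : G ⧸ N) ↔ Special N g := by
  constructor
  · rintro ⟨g', hg', hs⟩
    rw [QuotientGroup.eq] at hg'
    have : g = g' * (g'⁻¹ * g) := by group
    rw [this]
    exact special_mul N hN g' _ hg' hs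
  · intro h; exact ⟨g, rfl, h⟩

theorem spQ_conj (N : Subgroup G) [N.Normal] (x y : G ⧸ N) (hx : SpQ N x) :
    SpQ N (y * x * y⁻¹) := by
  obtain ⟨g, rfl, hg⟩ := hx
  obtain ⟨y', rfl⟩ := QuotientGroup.mk_surjective y
  exact ⟨y' * g * y'⁻¹, by simp, special_conj N g y' hg⟩

theorem card_centralizer_of_special (N : Subgroup G) [N.Normal] (g : G) (hg : Special N g) :
    Nat.card (Subgroup.centralizer ({g} : Set G)) =
      Nat.card N * Nat.card (Subgroup.centralizer ({(g : G ⧸ N)} : Set (G ⧸ N))) := by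
  have : Subgroup.centralizer ({g} : Set G) =
      (Subgroup.centralizer ({(g : G ⧸ N)} : Set (G ⧸ N))).comap (QuotientGroup.mk' N) := by
    ext x
    rw [Subgroup.mem_comap, Subgroup.mem_centralizer_singleton_iff,
      Subgroup.mem_centralizer_singleton_iff]
    constructor
    · intro h
      show (x : G ⧸ N) * (g : G ⧸ N) = (g : G ⧸ N) * (x : G ⧸ N)
      rw [← QuotientGroup.mk_mul, h, QuotientGroup.mk_mul]
    · intro h
      apply hg x
      have h' : ((g * x : G) : G ⧸ N) = ((x * g : G) : G ⧸ N) := by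
        rw [QuotientGroup.mk_mul, QuotientGroup.mk_mul]
        exact h.symm
      rw [QuotientGroup.eq] at h'
      have e : (g * x)⁻¹ * (x * g) = x⁻¹ * g⁻¹ * x * g := by group
      rwa [e] at h'
  rw [this, card_comap_mk']

end

section main
variable {G : Type*} [Group G] [Fintype G] (N : Subgroup G) [N.Normal] [Fintype N]
  (hN : N ≤ Subgroup.center G) (ψ : IrrCharacter ↥N)

/-- `χ` lies over `ψ` -/
def Over (χ : IrrCharacter G) : Prop := ∀ n : N, om χ (n : G) = om ψ n

omit [Fintype G] [N.Normal] [Fintype ↥N] in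
include hN in
theorem mem_center_sub (w : N) : w ∈ Subgroup.center N := by
  rw [Subgroup.mem_center_iff]
  intro v
  apply Subtype.ext
  have := hN w.2
  rw [Subgroup.mem_center_iff] at this
  exact this v

include hN in
theorem sum_om (χ : IrrCharacter G) [Decidable (Over N ψ χ)] :
    ∑ n : N, om ψ n * conj (om χ (n : G)) = if Over N ψ χ then (Nat.card N : ℂ) else 0 := by
  have hmul : ∀ a b : N, om ψ (a * b) * conj (om χ ((a * b : N) : G)) =
      (om ψ a * conj (om χ (a : G))) * (om ψ b * conj (om χ (b : G))) := by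
    intro a b
    rw [om_mul ψ a b (mem_center_sub N hN b), Subgroup.coe_mul, om_mul χ a b (hN b.2), map_mul]
    ring
  split_ifs with h
  · have : ∀ n : N, om ψ n * conj (om χ (n : G)) = 1 := by
      intro n
      rw [h n, om_conj, om_mul_inv ψ n (mem_center_sub N hN n)]
    rw [Finset.sum_congr rfl (fun n _ => this n), Finset.sum_const, Finset.card_univ,
      Nat.card_eq_fintype_card]
    simp
  · unfold Over at h
    push Not at h
    obtain ⟨n0, hn0⟩ := h
    apply sum_eq_zero_of_mul _ hmul n0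
    intro h1
    apply hn0
    rw [om_conj] at h1
    have h2 := om_mul_inv χ (n0 : G) (hN n0.2)
    -- om χ n0 = om ψ n0
    calc om χ (n0 : G) = (om ψ n0 * om χ (n0 : G)⁻¹) * om χ (n0 : G) := by rw [h1, one_mul]
      _ = om ψ n0 * (om χ (n0 : G) * om χ (n0 : G)⁻¹) := by ring
      _ = om ψ n0 := by rw [h2, mul_one]

include hN in
theorem over_iff (χ : IrrCharacter G) :
    classInner (fun n : ↥N => (χ : G → ℂ) n) (ψ : ↥N → ℂ) ≠ 0 ↔ Over N ψ χ := by
  classical
  have hχ1 : (χ : G → ℂ) 1 ≠ 0 := irr_one_ne_zero χ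
  have hψ1 : (ψ : ↥N → ℂ) 1 ≠ 0 := irr_one_ne_zero ψ
  have hcardN : (Nat.card N : ℂ) ≠ 0 := by
    have : 0 < Nat.card N := Nat.card_pos
    exact_mod_cast this.ne'
  have hsum : ∑ n : N, (χ : G → ℂ) n * conj ((ψ : ↥N → ℂ) n) =
      (χ : G → ℂ) 1 * conj ((ψ : ↥N → ℂ) 1) *
        conj (∑ n : N, om ψ n * conj (om χ (n : G))) := by
    have hc1 : conj ((ψ : ↥N → ℂ) 1) ≠ 0 := by
      rw [irr_one_conj]; exact hψ1
    rw [map_sum, Finset.mul_sum]
    apply Finset.sum_congr rfl
    intro n _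
    rw [map_mul, Complex.conj_conj]
    unfold om
    rw [map_div₀]
    field_simp
  unfold classInner
  rw [hsum, sum_om N hN ψ χ]
  constructor
  · intro h
    by_contra hno
    apply h
    rw [if_neg hno]
    simp
  · intro h
    rw [if_pos h]
    simp only [map_natCast]
    have hc : conj ((ψ : ↥N → ℂ) 1) ≠ 0 := by
      rw [irr_one_conj]; exact hψ1
    exact mul_ne_zero (inv_ne_zero hcardN) (mul_ne_zero (mul_ne_zero hχ1 hc) hcardN)

include hN in
theorem T_eq (hfaith : ∀ n : ↥N, (ψ : ↥N → ℂ) n = (ψ : ↥N → ℂ) 1 → n = 1) (g : G)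
    [DecidableRel (IsConj (α := G))] [Decidable (Special N g)] :
    ∑ n : N, (if IsConj g (g * (n : G)) then om ψ n else 0) = if Special N g then 1 else 0 := by
  split_ifs with hs
  · rw [Finset.sum_eq_single (1 : N)]
    · have h1 : IsConj g (g * ((1 : N) : G)) := by
        rw [Subgroup.coe_one, mul_one]
      rw [if_pos h1, om_one]
    · intro n _ hn1
      rw [if_neg]
      intro hc
      apply hn1
      obtain ⟨c, hc⟩ := isConj_iff.1 hc
      -- c * g * c⁻¹ = g * n
      have h1 : (c⁻¹)⁻¹ * g⁻¹ * c⁻¹ * g = ((n : G))⁻¹ := by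
        have : (n : G) = g⁻¹ * (c * g * c⁻¹) := by rw [hc]; group
        rw [this]; group
      have h2 : (c⁻¹)⁻¹ * g⁻¹ * c⁻¹ * g ∈ N := by rw [h1]; exact N.inv_mem n.2
      have h3 := hs c⁻¹ h2
      -- c⁻¹ * g = g * c⁻¹, so c g c⁻¹ = g
      have h4 : c * g * c⁻¹ = g := by
        calc c * g * c⁻¹ = c * (g * c⁻¹) := by group
          _ = c * (c⁻¹ * g) := by rw [h3]
          _ = g := by group
      rw [h4] at hc
      have : (n : G) = 1 := by
        have := congrArg (fun t => g⁻¹ * t) hc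
        simpa using this.symm
      exact Subtype.ext this
    · intro h; exact absurd (Finset.mem_univ _) h
  · unfold Special at hs
    push Not at hs
    obtain ⟨x, hxN, hxg⟩ := hs
    set z : G := x⁻¹ * g⁻¹ * x * g with hz
    let zi : N := ⟨z⁻¹, N.inv_mem hxN⟩
    have hconj : ∀ n : N, IsConj g (g * ((zi * n : N) : G)) ↔ IsConj g (g * (n : G)) := by
      intro n
      have hnc := hN n.2
      rw [Subgroup.mem_center_iff] at hnc
      have hc : IsConj (g * (n : G)) (g * ((zi * n : N) : G)) := by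
        rw [isConj_iff]
        refine ⟨x⁻¹, ?_⟩
        show x⁻¹ * (g * (n : G)) * x⁻¹⁻¹ = g * (z⁻¹ * (n : G))
        rw [hz]
        calc x⁻¹ * (g * (n : G)) * x⁻¹⁻¹ = x⁻¹ * g * ((n : G) * x) := by group
          _ = x⁻¹ * g * (x * (n : G)) := by rw [hnc x]
          _ = g * ((x⁻¹ * g⁻¹ * x * g)⁻¹ * (n : G)) := by group
      constructor
      · intro h; exact h.trans hc.symm
      · intro h; exact h.trans hc
    have hS : ∑ n : N, (if IsConj g (g * (n : G)) then om ψ n else 0) =
        om ψ zi * ∑ n : N, (if IsConj g (g * (n : G)) then om ψ n else 0) := by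
      conv_lhs => rw [← Equiv.sum_comp (Equiv.mulLeft zi)]
      rw [Finset.mul_sum]
      apply Finset.sum_congr rfl
      intro n _
      simp only [Equiv.coe_mulLeft]
      simp only [hconj n]
      split_ifs
      · exact om_mul ψ zi n (mem_center_sub N hN n)
      · simp
    have hne : om ψ zi ≠ 1 := by
      intro h1
      unfold om at h1
      rw [div_eq_one_iff_eq (irr_one_ne_zero ψ)] at h1
      have h2 := hfaith zi h1
      have h3 : z⁻¹ = 1 := congrArg Subtype.val h2
      have h4 : z = 1 := inv_eq_one.1 h3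
      apply hxg
      rw [hz] at h4
      calc x * g = g * x * (x⁻¹ * g⁻¹ * x * g) := by group
        _ = g * x := by rw [h4, mul_one]
    have h5 : (1 - om ψ zi) * ∑ n : N, (if IsConj g (g * (n : G)) then om ψ n else 0) = 0 := by
      rw [sub_mul, one_mul, ← hS, sub_self]
    rcases mul_eq_zero.1 h5 with h | h
    · exact absurd (sub_eq_zero.1 h).symm hne
    · exact h

include hN in
theorem star (hfaith : ∀ n : ↥N, (ψ : ↥N → ℂ) n = (ψ : ↥N → ℂ) 1 → n = 1) (g : G)
    [Fintype (IrrCharacter G)] [DecidablePred (Over N ψ)] [Decidable (Special N g)] :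
    (Nat.card N : ℂ) * ∑ χ : IrrCharacter G,
        (if Over N ψ χ then (χ : G → ℂ) g * conj ((χ : G → ℂ) g) else 0) =
      if Special N g then (Nat.card (Subgroup.centralizer ({g} : Set G)) : ℂ) else 0 := by
  classical
  have h1 : ∑ n : N, om ψ n * ∑ χ : IrrCharacter G, (χ : G → ℂ) g * conj ((χ : G → ℂ) (g * (n : G))) =
      (Nat.card (Subgroup.centralizer ({g} : Set G)) : ℂ) *
        ∑ n : N, (if IsConj g (g * (n : G)) then om ψ n else 0) := by
    rw [Finset.mul_sum]
    apply Finset.sum_congr rfl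
    intro n _
    rw [irr_column_orthogonality g (g * (n : G))]
    split_ifs <;> ring
  have h2 : ∑ n : N, om ψ n * ∑ χ : IrrCharacter G, (χ : G → ℂ) g * conj ((χ : G → ℂ) (g * (n : G))) =
      ∑ χ : IrrCharacter G, ((χ : G → ℂ) g * conj ((χ : G → ℂ) g)) *
        ∑ n : N, om ψ n * conj (om χ (n : G)) := by
    simp only [Finset.mul_sum]
    rw [Finset.sum_comm]
    apply Finset.sum_congr rfl
    intro χ _
    apply Finset.sum_congr rfl
    intro n _
    rw [irr_mul_central' χ (n : G) (hN n.2) g, map_mul]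
    ring
  rw [h2] at h1
  rw [T_eq N hN ψ hfaith g] at h1
  rw [Finset.mul_sum]
  have h3 : ∀ χ : IrrCharacter G, ((χ : G → ℂ) g * conj ((χ : G → ℂ) g)) *
        ∑ n : N, om ψ n * conj (om χ (n : G)) =
      (Nat.card N : ℂ) * (if Over N ψ χ then (χ : G → ℂ) g * conj ((χ : G → ℂ) g) else 0) := by
    intro χ
    rw [sum_om N hN ψ χ]
    split_ifs <;> ring
  rw [Finset.sum_congr rfl (fun χ _ => h3 χ)] at h1
  rw [h1]
  split_ifs <;> simp

end main

/-- Let N be a central subgroup of the finite group G and ψ a faithful irreducible (hence degree-one) character of N. Call a coset g N special when every x ∈ G whose commutator x⁻¹ g⁻¹ x g lies in N actually commutes with g (this depends only on the coset). Then the number of irreducible characters of G whose restriction to N contains ψ equals the number of conjugacy classes of G/N consisting of special cosets. -/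
theorem result {G : Type*} [Group G] [Fintype G] (N : Subgroup G) [N.Normal] [Fintype N] (hN : N ≤ Subgroup.center G) (ψ : Cfsg.IrrCharacter ↥N) (hfaith : ∀ n : ↥N, (ψ : ↥N → ℂ) n = (ψ : ↥N → ℂ) 1 → n = 1) : Nat.card {χ : Cfsg.IrrCharacter G // Cfsg.classInner (fun n : ↥N => (χ : G → ℂ) n) (ψ : ↥N → ℂ) ≠ 0} = Nat.card {C : ConjClasses (G ⧸ N) // ∃ g : G, ConjClasses.mk (g : G ⧸ N) = C ∧ ∀ x : G, x⁻¹ * g⁻¹ * x * g ∈ N → x * g = g * x} := by
  classical
  letI : Fintype (IrrCharacter G) := Fintype.ofFinite _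
  letI : Fintype (G ⧸ N) := Fintype.ofFinite _
  -- step 1: rewrite the left side
  have hL : Nat.card {χ : IrrCharacter G // classInner (fun n : ↥N => (χ : G → ℂ) n) (ψ : ↥N → ℂ) ≠ 0} =
      Nat.card {χ : IrrCharacter G // Over N ψ χ} :=
    Nat.card_congr (Equiv.subtypeEquivRight (fun χ => over_iff N hN ψ χ))
  -- step 2: rewrite the right side
  have hR : Nat.card {C : ConjClasses (G ⧸ N) // ∃ g : G, ConjClasses.mk (g : G ⧸ N) = C ∧
        ∀ x : G, x⁻¹ * g⁻¹ * x * g ∈ N → x * g = g * x} =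
      Nat.card {C : ConjClasses (G ⧸ N) // ∃ h : G ⧸ N, ConjClasses.mk h = C ∧ SpQ N h} := by
    apply Nat.card_congr
    apply Equiv.subtypeEquivRight
    intro C
    constructor
    · rintro ⟨g, hg, hs⟩
      exact ⟨(g : G ⧸ N), hg, g, rfl, hs⟩
    · rintro ⟨h, hh, g, rfl, hs⟩
      exact ⟨g, hh, hs⟩
  rw [hL, hR]
  -- step 3: the double count
  have hsum : ∑ g : G, ((Nat.card N : ℂ) * ∑ χ : IrrCharacter G,
        (if Over N ψ χ then (χ : G → ℂ) g * conj ((χ : G → ℂ) g) else 0)) =
      ∑ g : G, (if Special N g then (Nat.card (Subgroup.centralizer ({g} : Set G)) : ℂ) else 0) :=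
    Finset.sum_congr rfl (fun g _ => star N hN ψ hfaith g)
  -- left side
  have hleft : ∑ g : G, ((Nat.card N : ℂ) * ∑ χ : IrrCharacter G,
        (if Over N ψ χ then (χ : G → ℂ) g * conj ((χ : G → ℂ) g) else 0)) =
      (Nat.card N : ℂ) * ((Nat.card G : ℂ) * (Nat.card {χ : IrrCharacter G // Over N ψ χ} : ℂ)) := by
    rw [← Finset.mul_sum, Finset.sum_comm]
    congr 1
    have : ∀ χ : IrrCharacter G, ∑ g : G,
        (if Over N ψ χ then (χ : G → ℂ) g * conj ((χ : G → ℂ) g) else 0) =
        if Over N ψ χ then (Nat.card G : ℂ) else 0 := by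
      intro χ
      split_ifs with h
      · have := irr_row_orthogonality χ χ
        rwa [if_pos rfl] at this
      · simp
    rw [Finset.sum_congr rfl (fun χ _ => this χ), Finset.sum_ite, Finset.sum_const_zero, add_zero,
      Finset.sum_const, nsmul_eq_mul, mul_comm]
    congr 1
    rw [Nat.card_eq_fintype_card, Fintype.card_subtype]
  -- right side
  have hright : ∑ g : G, (if Special N g then (Nat.card (Subgroup.centralizer ({g} : Set G)) : ℂ) else 0) =
      (Nat.card N : ℂ) * ((Nat.card N : ℂ) * ((Nat.card (G ⧸ N) : ℂ) *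
        (Nat.card {C : ConjClasses (G ⧸ N) // ∃ h : G ⧸ N, ConjClasses.mk h = C ∧ SpQ N h} : ℂ))) := by
    have h1 : ∀ g : G, (if Special N g then (Nat.card (Subgroup.centralizer ({g} : Set G)) : ℂ) else 0) =
        (Nat.card N : ℂ) * (fun x : G ⧸ N => if SpQ N x then
          (Nat.card (Subgroup.centralizer ({x} : Set (G ⧸ N))) : ℂ) else 0) (g : G ⧸ N) := by
      intro g
      simp only [spQ_mk N hN g]
      split_ifs with h
      · rw [card_centralizer_of_special N g h]
        push_cast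
        ring
      · simp
    rw [Finset.sum_congr rfl (fun g _ => h1 g), ← Finset.mul_sum,
      sum_comp_mk N (fun x : G ⧸ N => if SpQ N x then
          (Nat.card (Subgroup.centralizer ({x} : Set (G ⧸ N))) : ℂ) else 0),
      sum_card_centralizer_of_classPred (SpQ N) (fun h y hh => spQ_conj N h y hh)]
  rw [hleft, hright] at hsum
  have hcardN : (Nat.card N : ℂ) ≠ 0 := by
    have : 0 < Nat.card N := Nat.card_pos
    exact_mod_cast this.ne'
  have hcardG : (Nat.card G : ℂ) = (Nat.card (G ⧸ N) : ℂ) * (Nat.card N : ℂ) := by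
    rw [Subgroup.card_eq_card_quotient_mul_card_subgroup N]
    push_cast
    ring
  have hcardQ : (Nat.card (G ⧸ N) : ℂ) ≠ 0 := by
    have : 0 < Nat.card (G ⧸ N) := Nat.card_pos
    exact_mod_cast this.ne'
  rw [hcardG] at hsum
  have hfinal : (Nat.card {χ : IrrCharacter G // Over N ψ χ} : ℂ) =
      (Nat.card {C : ConjClasses (G ⧸ N) // ∃ h : G ⧸ N, ConjClasses.mk h = C ∧ SpQ N h} : ℂ) := by
    have h2 := mul_left_cancel₀ hcardN hsum
    have h3 : (Nat.card (G ⧸ N) : ℂ) * (Nat.card N : ℂ) *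
        (Nat.card {χ : IrrCharacter G // Over N ψ χ} : ℂ) =
        (Nat.card (G ⧸ N) : ℂ) * (Nat.card N : ℂ) *
        (Nat.card {C : ConjClasses (G ⧸ N) // ∃ h : G ⧸ N, ConjClasses.mk h = C ∧ SpQ N h} : ℂ) := by
      rw [h2]; ring
    exact mul_left_cancel₀ (mul_ne_zero hcardQ hcardN) h3
  exact_mod_cast hfinal

end Cfsg.Agent.S4567
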