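import Cfsg.Statements.S4571
import Cfsg.Agent.Lib.Helper16.RankFormula
import Cfsg.Agent.Lib.Helper16.PC6
import Cfsg.Agent.Lib.Helper79.Basic
import Cfsg.Agent.Lib.Helper3.Ortho
import Cfsg.Agent.S0941

set_option autoImplicit false
open Cfsg

namespace Cfsg.Agent.S4571

open Cfsg.Agent.Lib.Helper16 Cfsg.Agent.Lib.Helper77 Cfsg.Agent.Lib.Helper80 Cfsg.Agent.Lib.Helper81
open scoped ComplexConjugate

/-- Let Q be a normal p-subgroup of the finite group G with G = Q·C_G(Q), and M a maximal ideal of the algebraic integers containing p. Then the principal p-blocks of G and of G/Q have the same p-regular rank (the same number of irreducible Brauer characters). -/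
theorem result {G : Type*} [Group G] [Finite G] (p : ℕ) [Fact p.Prime] (M : Ideal Cfsg.AlgInt) (hM : Cfsg.IsPModular p M) (Q : Subgroup G) [Q.Normal] (hQ : IsPGroup p Q) (hsup : Q ⊔ Subgroup.centralizer (Q : Set G) = ⊤) : Cfsg.blockRank p (Cfsg.principalBlock M G) = Cfsg.blockRank p (Cfsg.principalBlock M (G ⧸ Q)) := by
  classical
  have := Fintype.ofFinite G
  have := Fintype.ofFinite (IrrCharacter G)
  have := Fintype.ofFinite Q
  have := Fintype.ofFinite (IrrCharacter Q)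
  have := Fintype.ofFinite (G ⧸ Q)
  have := Fintype.ofFinite (IrrCharacter (G ⧸ Q))
  have hp : p.Prime := Fact.out
  have hMp : M.IsPrime := isPrime_of_isPModular hM
  have hC := exists_index_centralizer_eq_pow p Q hQ hsup
  -- notation
  set Bf := Finset.univ.filter
    (fun χ : IrrCharacter G => χ ∈ blockOf M ((trivIrr G : IrrCharacter G) : G → ℂ)) with hBf
  set Kf := Bf.filter (fun χ => LiesOver Q χ (trivIrr Q)) with hKf
  set Bq := Finset.univ.filter (fun ψ : IrrCharacter (G ⧸ Q) =>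
    ψ ∈ blockOf M ((trivIrr (G ⧸ Q) : IrrCharacter (G ⧸ Q)) : G ⧸ Q → ℂ)) with hBq
  set R := Finset.univ.filter (fun x : G => ¬ p ∣ orderOf x) with hR
  set Rq := Finset.univ.filter (fun x : G ⧸ Q => ¬ p ∣ orderOf x) with hRq
  have h1 := card_mul_blockRank_eq p M hM (trivIrr G)
  have h2 := card_mul_blockRank_eq p M hM (trivIrr (G ⧸ Q))
  -- (2) the sum over the block in terms of the members with `Q` in the kernel
  have hstep2 : ∀ x ∈ R, ∑ χ ∈ Bf, (χ : G → ℂ) x * conj ((χ : G → ℂ) x) =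
      (Nat.card Q : ℂ) * ∑ χ ∈ Kf, (χ : G → ℂ) x * conj ((χ : G → ℂ) x) := by
    intro x hx
    have hx' : ¬ p ∣ orderOf x := (Finset.mem_filter.mp hx).2
    rw [← sum_liesOver Q hsup Bf (fun χ => (χ : G → ℂ) x * conj ((χ : G → ℂ) x)),
      ← Cfsg.Agent.Lib.Helper3.sum_sq_degree (G := Q), Finset.sum_mul]
    refine Finset.sum_congr rfl fun μ _ => ?_
    exact sum_liesOver_eq Q hM hQ hsup (trivIrr G) x hx' μ
  -- inflation
  have hinfl : ∀ ψ : IrrCharacter (G ⧸ Q),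
      IsIrrCharacter G (fun g : G => (ψ : G ⧸ Q → ℂ) (g : G ⧸ Q)) := fun ψ =>
    Cfsg.Agent.Lib.Helper79.isIrrCharacter_inflate Q ψ.2
  set infl : IrrCharacter (G ⧸ Q) → IrrCharacter G := fun ψ => ⟨_, hinfl ψ⟩ with hinfldef
  have hinfl_inj : Function.Injective infl := by
    intro ψ ψ' h
    apply Subtype.ext
    funext x
    obtain ⟨g, rfl⟩ := QuotientGroup.mk_surjective x
    exact congrFun (congrArg Subtype.val h) g
  have h941 := (Cfsg.Agent.S0941.result p M hM Q hQ hC).1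
  have himage : Kf = Bq.image infl := by
    ext χ
    simp only [hKf, hBf, hBq, Finset.mem_filter, Finset.mem_univ, true_and, Finset.mem_image]
    constructor
    · rintro ⟨hχB, hlo⟩
      have hker : ∀ u ∈ Q, (χ : G → ℂ) u = (χ : G → ℂ) 1 := by
        intro u hu
        have := hlo ⟨u, hu⟩
        have ht : ∀ u : Q, ((trivIrr Q : IrrCharacter Q) : Q → ℂ) u = 1 := fun _ => rfl
        rw [ht, ht, mul_one, one_mul] at this
        exact this
      obtain ⟨ψ, hψirr, hψ⟩ := Cfsg.Agent.Lib.Helper79.isIrrCharacter_deflate χ.2 Q hker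
      refine ⟨⟨ψ, hψirr⟩, ?_, ?_⟩
      · show SameBlock M _ _
        rw [h941 (trivIrr (G ⧸ Q)) ⟨ψ, hψirr⟩]
        have h3 : ((⟨ψ, hψirr⟩ : IrrCharacter (G ⧸ Q)) : G ⧸ Q → ℂ) ∘ QuotientGroup.mk =
            (χ : G → ℂ) := by
          funext g
          exact hψ g
        rw [h3]
        exact hχB
      · apply Subtype.ext
        funext g
        exact hψ g
    · rintro ⟨ψ, hψB, rfl⟩
      refine ⟨?_, ?_⟩
      · have := (h941 (trivIrr (G ⧸ Q)) ψ).mp hψB
        exact this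
      · intro u
        have ht : ∀ u : Q, ((trivIrr Q : IrrCharacter Q) : Q → ℂ) u = 1 := fun _ => rfl
        rw [ht, ht, mul_one, one_mul]
        show (ψ : G ⧸ Q → ℂ) ((u : G) : G ⧸ Q) = (ψ : G ⧸ Q → ℂ) ((1 : G) : G ⧸ Q)
        have h5 : ((u : G) : G ⧸ Q) = ((1 : G) : G ⧸ Q) := by
          rw [QuotientGroup.mk_one]
          exact (QuotientGroup.eq_one_iff _).mpr u.2
        rw [h5]
  -- the sum over `Kf` as a sum over `Bq`
  have hsumK : ∀ x : G, ∑ χ ∈ Kf, (χ : G → ℂ) x * conj ((χ : G → ℂ) x) =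
      ∑ ψ ∈ Bq, (ψ : G ⧸ Q → ℂ) (x : G ⧸ Q) * conj ((ψ : G ⧸ Q → ℂ) (x : G ⧸ Q)) := by
    intro x
    rw [himage, Finset.sum_image (fun a _ b _ h => hinfl_inj h)]
  -- the bijection on `p`-regular elements
  have hmkR : ∀ x ∈ R, ((x : G) : G ⧸ Q) ∈ Rq := by
    intro x hx
    have hx' : ¬ p ∣ orderOf x := (Finset.mem_filter.mp hx).2
    refine Finset.mem_filter.mpr ⟨Finset.mem_univ _, fun hdvd => hx' (dvd_trans hdvd ?_)⟩
    apply orderOf_dvd_of_pow_eq_one
    rw [← QuotientGroup.mk_pow, pow_orderOf_eq_one, QuotientGroup.mk_one]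
  have hinjR : ∀ x ∈ R, ∀ y ∈ R, ((x : G) : G ⧸ Q) = ((y : G) : G ⧸ Q) → x = y := by
    intro x hx y hy hxy
    have hx' : ¬ p ∣ orderOf x := (Finset.mem_filter.mp hx).2
    have hy' : ¬ p ∣ orderOf y := (Finset.mem_filter.mp hy).2
    have hu : x⁻¹ * y ∈ Q := QuotientGroup.eq.mp hxy
    have hxC := mem_centralizer_of_pRegular p Q hQ hsup x hx'
    have hcomm : Commute x (x⁻¹ * y) := (Subgroup.mem_centralizer_iff.mp hxC _ hu).symm
    have hxy' : Commute x y := by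
      have : y = x * (x⁻¹ * y) := by group
      rw [this]
      exact (Commute.refl x).mul_right hcomm
    set n := orderOf x * orderOf y with hn
    have hun : (x⁻¹ * y) ^ n = 1 := by
      rw [(hxy'.inv_left).mul_pow, inv_pow, hn, pow_mul, pow_orderOf_eq_one, one_pow, inv_one,
        one_mul, mul_comm, pow_mul, pow_orderOf_eq_one, one_pow]
    obtain ⟨k, hk⟩ := (IsPGroup.iff_orderOf.mp hQ) ⟨x⁻¹ * y, hu⟩
    have hk' : orderOf (x⁻¹ * y) = p ^ k := by
      rw [← hk, Subgroup.orderOf_mk]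
    have hdvd : orderOf (x⁻¹ * y) ∣ n := orderOf_dvd_of_pow_eq_one hun
    have hcop : Nat.Coprime (p ^ k) n := by
      apply Nat.Coprime.pow_left
      rw [hn]
      exact Nat.Coprime.mul_right ((Nat.Prime.coprime_iff_not_dvd hp).mpr hx')
        ((Nat.Prime.coprime_iff_not_dvd hp).mpr hy')
    rw [hk'] at hdvd
    have h1' : p ^ k = 1 := Nat.eq_one_of_dvd_coprimes hcop (dvd_refl _) hdvd
    rw [h1'] at hk'
    have := orderOf_eq_one_iff.mp hk'
    exact inv_mul_eq_one.mp this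
  have hsurjR : ∀ xq ∈ Rq, ∃ x ∈ R, ((x : G) : G ⧸ Q) = xq := by
    intro xq hxq
    obtain ⟨g, hg1, hg2⟩ := Cfsg.Agent.S0941.exists_regular_lift p Q xq (Finset.mem_filter.mp hxq).2
    exact ⟨g, Finset.mem_filter.mpr ⟨Finset.mem_univ _, hg2⟩, hg1⟩
  have hbij : ∑ x ∈ R, ∑ ψ ∈ Bq, (ψ : G ⧸ Q → ℂ) (x : G ⧸ Q) *
      conj ((ψ : G ⧸ Q → ℂ) (x : G ⧸ Q)) =
      ∑ xq ∈ Rq, ∑ ψ ∈ Bq, (ψ : G ⧸ Q → ℂ) xq * conj ((ψ : G ⧸ Q → ℂ) xq) := by
    refine Finset.sum_bij (fun x _ => ((x : G) : G ⧸ Q)) hmkR hinjR ?_ (fun _ _ => rfl)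
    intro xq hxq
    obtain ⟨x, hx, hxe⟩ := hsurjR xq hxq
    exact ⟨x, hx, hxe⟩
  -- conclusion
  have htot : (Nat.card G : ℂ) * (blockRank p (principalBlock M G) : ℂ) =
      (Nat.card Q : ℂ) * ((Nat.card (G ⧸ Q) : ℂ) *
        (blockRank p (principalBlock M (G ⧸ Q)) : ℂ)) := by
    have e1 : principalBlock M G = blockOf M ((trivIrr G : IrrCharacter G) : G → ℂ) := rfl
    have e2 : principalBlock M (G ⧸ Q) =
        blockOf M ((trivIrr (G ⧸ Q) : IrrCharacter (G ⧸ Q)) : G ⧸ Q → ℂ) := rfl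
    rw [e1, e2, h1, h2, Finset.sum_congr rfl hstep2, ← Finset.mul_sum]
    congr 1
    rw [← hbij]
    exact Finset.sum_congr rfl fun x _ => hsumK x
  have hcard : (Nat.card G : ℂ) = (Nat.card Q : ℂ) * (Nat.card (G ⧸ Q) : ℂ) := by
    have := Subgroup.card_eq_card_quotient_mul_card_subgroup Q
    rw [this]
    push_cast
    ring
  rw [hcard, mul_assoc] at htot
  have hQ0 : (Nat.card Q : ℂ) ≠ 0 := Nat.cast_ne_zero.mpr Nat.card_pos.ne'
  have hGQ0 : (Nat.card (G ⧸ Q) : ℂ) ≠ 0 := Nat.cast_ne_zero.mpr Nat.card_pos.ne'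
  have := mul_left_cancel₀ hGQ0 (mul_left_cancel₀ hQ0 htot)
  exact_mod_cast this

end Cfsg.Agent.S4571
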