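import Cfsg.Statements.S4574
import Cfsg.Agent.Lib.Helper80.Zeros
import Cfsg.Agent.Lib.Helper80.Kernel

set_option autoImplicit false
open Cfsg

namespace Cfsg.Agent.S4574

/-- Let χ be an irreducible character of the finite group G, of degree d, and let Z(χ) be the set of elements g with |χ g| = d (the centre of χ). Then χ vanishes on at least (d ^ 2 - 1) · |Z(χ)| elements of G, with equality when every value |χ g| is 0, 1 or d. -/
theorem result {G : Type*} [Group G] [Fintype G] [DecidableEq G] (χ : G → ℂ) (hχ : Cfsg.IsIrrCharacter G χ) : (Cfsg.charDegree χ ^ 2 - 1) * (Finset.univ.filter (fun g : G => ‖χ g‖ = (Cfsg.charDegree χ : ℝ))).card ≤ (Finset.univ.filter (fun g : G => χ g = 0)).card ∧ ((∀ g : G, ‖χ g‖ = 0 ∨ ‖χ g‖ = 1 ∨ ‖χ g‖ = (Cfsg.charDegree χ : ℝ)) → (Cfsg.charDegree χ ^ 2 - 1) * (Finset.univ.filter (fun g : G => ‖χ g‖ = (Cfsg.charDegree χ : ℝ))).card = (Finset.univ.filter (fun g : G => χ g = 0)).card) := by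
  have hχ' := hχ
  have hchar : IsCharacter G χ := Cfsg.Agent.Lib.Helper3.IsIrrCharacter.isCharacter hχ
  have hd : (Cfsg.charDegree χ : ℂ) = χ 1 :=
    Cfsg.Agent.Lib.Helper80.irr_charDegree_cast ⟨χ, hχ⟩
  have hdpos : 0 < Cfsg.charDegree χ := Cfsg.Agent.Lib.Helper80.irr_charDegree_pos ⟨χ, hχ⟩
  set d := Cfsg.charDegree χ with hddef
  obtain ⟨n, ρ, hirr, hρ⟩ := hχ'
  have hdn : (d : ℝ) = (Module.finrank ℂ (Fin n → ℂ) : ℝ) := by
    have h1 : (d : ℂ) = (Module.finrank ℂ (Fin n → ℂ) : ℂ) := by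
      rw [hd, ← hρ, Representation.char_one]
    have h2 : d = Module.finrank ℂ (Fin n → ℂ) := by exact_mod_cast h1
    rw [h2]
  set Z : Finset G := Finset.univ.filter (fun g : G => ‖χ g‖ = (d : ℝ)) with hZ
  set zeros : Finset G := Finset.univ.filter (fun g : G => χ g = 0) with hzeros
  let T : Finset G := Finset.univ.filter (fun g : G => ¬ ‖χ g‖ = (d : ℝ))
  have hT : ∀ g ∈ T, ∀ k : ℕ, Nat.Coprime k (Nat.card G) → g ^ k ∈ T := by
    intro g hg k hk
    simp only [T, Finset.mem_filter, Finset.mem_univ, true_and] at hg ⊢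
    intro h
    apply hg
    rw [hdn, ← hρ] at h ⊢
    exact Cfsg.Agent.Lib.Helper80.norm_character_eq_of_pow ρ g k hk h
  have h1 := Cfsg.Agent.Lib.Helper80.card_nonvanishing_le hchar T hT
  have h2 := Cfsg.Agent.Lib.Helper80.irr_sum_norm_sq (⟨χ, hχ⟩ : Cfsg.IrrCharacter G)
  simp only at h2
  have h3 : ∑ g : G, ‖χ g‖ ^ 2 = ∑ g ∈ Z, ‖χ g‖ ^ 2 + ∑ g ∈ T, ‖χ g‖ ^ 2 :=
    (Finset.sum_filter_add_sum_filter_not Finset.univ (fun g => ‖χ g‖ = (d : ℝ))
      (fun g => ‖χ g‖ ^ 2)).symm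
  have h4 : ∑ g ∈ Z, ‖χ g‖ ^ 2 = (Z.card : ℝ) * (d : ℝ) ^ 2 := by
    rw [Finset.sum_congr rfl (fun g hg => by rw [(Finset.mem_filter.mp hg).2] :
      ∀ g ∈ Z, ‖χ g‖ ^ 2 = (d : ℝ) ^ 2), Finset.sum_const, nsmul_eq_mul]
  have h5 : Z.card + T.card = Nat.card G := by
    rw [Nat.card_eq_fintype_card, ← Finset.card_univ]
    exact Finset.card_filter_add_card_filter_not (s := (Finset.univ : Finset G))
      (fun g => ‖χ g‖ = (d : ℝ))
  have h6 : (T.filter (fun g => χ g ≠ 0)).card + (T.filter (fun g => ¬ χ g ≠ 0)).card = T.card :=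
    Finset.card_filter_add_card_filter_not (s := T) (fun g => χ g ≠ 0)
  have hd1 : (1 : ℝ) ≤ (d : ℝ) := by exact_mod_cast hdpos
  have h7 : T.filter (fun g => ¬ χ g ≠ 0) = zeros := by
    ext g
    simp only [T, zeros, Finset.mem_filter, Finset.mem_univ, true_and, not_not]
    constructor
    · exact fun h => h.2
    · intro h
      refine ⟨?_, h⟩
      rw [h, norm_zero]
      intro h0
      rw [← h0] at hd1
      linarith
  rw [h7] at h6
  have e5 : (Z.card : ℝ) + (T.card : ℝ) = (Nat.card G : ℝ) := by exact_mod_cast h5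
  have e6 : ((T.filter (fun g => χ g ≠ 0)).card : ℝ) + (zeros.card : ℝ) = (T.card : ℝ) := by
    exact_mod_cast h6
  have hcast : (((d ^ 2 - 1 : ℕ) * Z.card : ℕ) : ℝ) = ((d : ℝ) ^ 2 - 1) * (Z.card : ℝ) := by
    rw [Nat.cast_mul, Nat.cast_sub (Nat.one_le_pow _ _ hdpos), Nat.cast_pow, Nat.cast_one]
  constructor
  · have : (((d ^ 2 - 1 : ℕ) * Z.card : ℕ) : ℝ) ≤ (zeros.card : ℝ) := by
      rw [hcast]
      rw [h3, h4] at h2
      nlinarith
    exact_mod_cast this
  · intro hvals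
    have h8 : ∑ g ∈ T, ‖χ g‖ ^ 2 = ((T.filter (fun g => χ g ≠ 0)).card : ℝ) := by
      rw [Finset.card_filter, Nat.cast_sum]
      refine Finset.sum_congr rfl fun g hg => ?_
      have hgT : ¬ ‖χ g‖ = (d : ℝ) := (Finset.mem_filter.mp hg).2
      rcases hvals g with h | h | h
      · have : χ g = 0 := norm_eq_zero.mp h
        simp [this]
      · have : χ g ≠ 0 := fun h0 => by rw [h0, norm_zero] at h; exact zero_ne_one h
        simp [this, h]
      · exact absurd h hgT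
    have : (((d ^ 2 - 1 : ℕ) * Z.card : ℕ) : ℝ) = (zeros.card : ℝ) := by
      rw [hcast]
      rw [h3, h4, h8] at h2
      nlinarith
    exact_mod_cast this

end Cfsg.Agent.S4574
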