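import Cfsg.Statements.S4575
import Cfsg.Agent.Lib.Helper77.CtbS
import Cfsg.Agent.Lib.Helper77.DefectConj
import Cfsg.Agent.Lib.Helper74.SP4

set_option autoImplicit false
open Cfsg

namespace Cfsg.Agent.S4575

/-- Let B be a 2-block of the finite group G (relative to a maximal ideal M of the algebraic integers containing 2) of defect d with defect group D. Let z be an element of D commuting with every element of D, and let b be a block of the centralizer of z with defect group D that induces B (a major subsection (z, b)). If the number of irreducible characters in B exceeds the 2-regular rank of b by at most three, then B contains at most 2 ^ d irreducible characters. -/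
theorem result {G : Type*} [Group G] [Finite G] (M : Ideal Cfsg.AlgInt) (hM : Cfsg.IsPModular 2 M) (B : Set (Cfsg.IrrCharacter G)) (hB : Cfsg.IsPBlock M B) (D : Subgroup G) (hD : Cfsg.IsDefectGroup 2 M B D) (z : G) (hzD : z ∈ D) (hzc : ∀ d ∈ D, d * z = z * d) (b : Set (Cfsg.IrrCharacter ↥(Subgroup.centralizer ({z} : Set G)))) (hb : Cfsg.IsInducedBlock M (Subgroup.centralizer ({z} : Set G)) b B) (hbD : Cfsg.IsDefectGroup 2 M b (D.subgroupOf (Subgroup.centralizer ({z} : Set G)))) (h : Nat.card B ≤ Cfsg.blockRank 2 b + 3) : Nat.card B ≤ 2 ^ Cfsg.blockDefect 2 B := by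
  classical
  have hp : (2 : ℕ).Prime := Nat.prime_two
  have := Fintype.ofFinite G
  have := Fintype.ofFinite (Cfsg.IrrCharacter G)
  have := Fintype.ofFinite (Subgroup.centralizer ({z} : Set G))
  have := Fintype.ofFinite (Cfsg.IrrCharacter (Subgroup.centralizer ({z} : Set G)))
  -- `z` is a `2`-element
  have hDp : IsPGroup 2 D := Cfsg.Agent.Lib.Helper77.isPGroup_of_isDefectGroup hD
  have hz : ∃ k : ℕ, orderOf z = 2 ^ k := by
    obtain ⟨k, hk⟩ := (IsPGroup.iff_orderOf.mp hDp) ⟨z, hzD⟩
    refine ⟨k, ?_⟩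
    rw [← hk]
    exact (Subgroup.orderOf_mk z hzD).symm
  -- the defects agree
  have hDC : D ≤ Subgroup.centralizer ({z} : Set G) := by
    intro d hd
    rw [Subgroup.mem_centralizer_singleton_iff]
    exact hzc d hd
  have hcardD : Nat.card (D.subgroupOf (Subgroup.centralizer ({z} : Set G))) = Nat.card D :=
    Nat.card_congr (Subgroup.subgroupOfEquivOfLe hDC).toEquiv
  obtain ⟨χ, hχ⟩ := hB
  obtain ⟨ξ₀, hξ₀⟩ := hb.1
  have hd1 : Nat.card D = 2 ^ Cfsg.blockDefect 2 B := by
    rw [hχ]
    rw [hχ] at hD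
    exact Cfsg.Agent.Lib.Helper74.card_eq_pow_blockDefect_of_isDefectGroup hM χ hD
  have hd2 : Nat.card D = 2 ^ Cfsg.blockDefect 2 b := by
    rw [← hcardD, hξ₀]
    rw [hξ₀] at hbD
    exact Cfsg.Agent.Lib.Helper74.card_eq_pow_blockDefect_of_isDefectGroup hM ξ₀ hbD
  have hdef : Cfsg.blockDefect 2 b = Cfsg.blockDefect 2 B :=
    Nat.pow_right_injective hp.two_le (hd2.symm.trans hd1)
  subst hξ₀
  have hc : Nat.card B =
      (Finset.univ.filter (fun ψ : Cfsg.IrrCharacter G => ψ ∈ B)).card := by
    rw [Nat.card_eq_fintype_card, ← Fintype.card_subtype]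
  rw [hc] at h ⊢
  exact Cfsg.Agent.Lib.Helper77.Ctb.card_le_of_corank_three_core hM z hz
    (Subgroup.centralizer ({z} : Set G)) rfl ξ₀ hb hdef h

end Cfsg.Agent.S4575
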