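import Cfsg.Statements.S4582
import Mathlib.GroupTheory.Transfer
import Mathlib.GroupTheory.Abelianization.Finite

set_option autoImplicit false
open Cfsg

namespace Cfsg.Agent.S4582

open MulAction Subgroup

theorem transfer_mul_pow_mem {G : Type*} [Group G] {H : Subgroup G} {A : Type*} [CommGroup A]
    (ϕ : H →* A) [H.FiniteIndex] (B : Subgroup A) (x : H)
    (key : ∀ (k : ℕ) (g₀ : G) (hk : g₀⁻¹ * (x : G) ^ k * g₀ ∈ H),
      ϕ ⟨g₀⁻¹ * (x : G) ^ k * g₀, hk⟩ * (ϕ x ^ k)⁻¹ ∈ B) :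
    MonoidHom.transfer ϕ (x : G) * (ϕ x ^ H.index)⁻¹ ∈ B := by
  classical
  have : Fintype (Quotient (MulAction.orbitRel (zpowers (x : G)) (G ⧸ H))) :=
    Fintype.ofFinite _
  rw [MonoidHom.transfer_eq_prod_quotient_orbitRel_zpowers_quot,
    index_eq_sum_minimalPeriod H (x : G),
    ← Finset.prod_pow_eq_pow_sum, ← Finset.prod_inv_distrib, ← Finset.prod_mul_distrib]
  apply Subgroup.prod_mem
  intro q _
  exact key _ _ _

theorem eq_one_of_pow_two_pow_of_pow_odd {A : Type*} [Group A] (a : A) (k m : ℕ)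
    (h1 : a ^ (2 ^ k) = 1) (h2 : a ^ m = 1) (hm : Odd m) : a = 1 := by
  have h3 : orderOf a ∣ 2 ^ k := orderOf_dvd_of_pow_eq_one h1
  have h4 : orderOf a ∣ m := orderOf_dvd_of_pow_eq_one h2
  have h5 : Nat.Coprime (2 ^ k) m := by
    apply Nat.Coprime.pow_left
    rcases hm with ⟨j, rfl⟩
    simp
  have h6 : orderOf a = 1 := Nat.eq_one_of_dvd_coprimes h5 h3 h4
  exact orderOf_eq_one_iff.1 h6

theorem comm_self_le {G : Type*} [Group G] (K : Subgroup G) : ⁅K, K⁆ ≤ K := by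
  rw [Subgroup.commutator_le]
  intro a ha b hb
  rw [commutatorElement_def]
  exact mul_mem (mul_mem (mul_mem ha hb) (inv_mem ha)) (inv_mem hb)

theorem result {G : Type*} [Group G] [Finite G] (N : Subgroup G) [N.Normal] (P : Sylow 2 G)
    (hP : ∀ x ∈ (P : Subgroup G), x ^ 2 ∈ ((P : Subgroup G) ⊓ N) ⊔ ⁅(P : Subgroup G), (P : Subgroup G)⁆)
    (hQ : ∀ x ∈ (P : Subgroup G) ⊓ N, x ^ 2 ∈ ⁅(P : Subgroup G) ⊓ N, (P : Subgroup G) ⊓ N⁆)
    (hodd : Odd (Nat.card (Abelianization N))) :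
    ∀ x ∈ (P : Subgroup G), x ^ 2 ∈ ⁅(P : Subgroup G), (P : Subgroup G)⁆ := by
  classical
  set PG : Subgroup G := (P : Subgroup G) with hPG
  set T : Subgroup G := N ⊔ PG with hT
  have hNT : N ≤ T := le_sup_left
  have hPT : PG ≤ T := le_sup_right
  set H : Subgroup T := PG.subgroupOf T with hH
  -- the map ψ
  let A := Abelianization PG
  let ψ : G → A := fun g => if h : g ∈ PG then Abelianization.of ⟨g, h⟩ else 1
  have hψ : ∀ (g : G) (h : g ∈ PG), ψ g = Abelianization.of ⟨g, h⟩ := by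
    intro g h; simp only [ψ, dif_pos h]
  have hψmul : ∀ a b : G, a ∈ PG → b ∈ PG → ψ (a * b) = ψ a * ψ b := by
    intro a b ha hb
    rw [hψ a ha, hψ b hb, hψ (a * b) (mul_mem ha hb), ← map_mul]
    rfl
  have hψpow : ∀ (a : G) (k : ℕ), a ∈ PG → ψ (a ^ k) = ψ a ^ k := by
    intro a k ha
    rw [hψ a ha, hψ (a ^ k) (pow_mem ha k), ← map_pow]
    rfl
  have hψinv : ∀ a : G, a ∈ PG → ψ a⁻¹ = (ψ a)⁻¹ := by
    intro a ha
    rw [hψ a ha, hψ a⁻¹ (inv_mem ha), ← map_inv]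
    rfl
  have hψker : ∀ a : G, a ∈ ⁅PG, PG⁆ → ψ a = 1 := by
    intro a ha
    have ha' : a ∈ PG := comm_self_le PG ha
    rw [hψ a ha']
    rw [← Subgroup.map_subtype_commutator] at ha
    obtain ⟨b, hb, hba⟩ := ha
    have : b = ⟨a, ha'⟩ := Subtype.ext hba
    rw [← this, ← MonoidHom.mem_ker, Abelianization.ker_of]
    exact hb
  have hψker' : ∀ a : G, a ∈ PG → ψ a = 1 → a ∈ ⁅PG, PG⁆ := by
    intro a ha h
    rw [hψ a ha, ← MonoidHom.mem_ker, Abelianization.ker_of] at h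
    rw [← Subgroup.map_subtype_commutator]
    exact ⟨⟨a, ha⟩, h, rfl⟩
  -- A is a 2-group
  have hA2 : ∀ a : A, ∃ k : ℕ, a ^ (2 ^ k) = 1 := by
    intro a
    obtain ⟨y, rfl⟩ := QuotientGroup.mk_surjective a
    obtain ⟨k, hk⟩ := P.2 y
    refine ⟨k, ?_⟩
    show (Abelianization.of y) ^ (2 ^ k) = 1
    rw [← map_pow, hk, map_one]
  -- the homomorphism ϕ
  let e : H ≃* PG := Subgroup.subgroupOfEquivOfLe hPT
  let ϕ : H →* A := (Abelianization.of).comp e.toMonoidHom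
  have hϕ : ∀ h : H, ϕ h = ψ ((h : T) : G) := by
    intro h
    have hh : ((h : T) : G) ∈ PG := Subgroup.mem_subgroupOf.1 h.2
    rw [hψ _ hh]
    rfl
  let V : T →* A := MonoidHom.transfer ϕ
  -- F1
  have hF1 : ∀ (n : G) (hn : n ∈ N), V ⟨n, hNT hn⟩ = 1 := by
    intro n hn
    let f : N →* A := V.comp (Subgroup.inclusion hNT)
    have hf : V ⟨n, hNT hn⟩ = f ⟨n, hn⟩ := rfl
    rw [hf, ← Abelianization.lift_apply_of f]
    obtain ⟨k, hk⟩ := hA2 (Abelianization.lift f (Abelianization.of ⟨n, hn⟩))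
    refine eq_one_of_pow_two_pow_of_pow_odd _ k _ hk ?_ hodd
    rw [← map_pow, pow_card_eq_one', map_one]
  -- F2
  have hF2 : ∀ (c : G) (hc : c ∈ ⁅PG, PG⁆),
      V ⟨c, hPT (comm_self_le PG hc)⟩ = 1 := by
    intro c hc
    have h1 : c ∈ ⁅T, T⁆ := Subgroup.commutator_mono hPT hPT hc
    rw [← Subgroup.map_subtype_commutator] at h1
    obtain ⟨b, hb, hbc⟩ := h1
    have h2 : b = ⟨c, hPT (comm_self_le PG hc)⟩ := Subtype.ext hbc
    rw [← h2, ← MonoidHom.mem_ker]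
    exact Abelianization.commutator_subset_ker V hb
  -- F3
  have hF3 : ∀ (x : G) (hx : x ∈ PG), V ⟨x, hPT hx⟩ ^ 2 = 1 := by
    intro x hx
    have h1 : (PG ⊓ N) ⊔ ⁅PG, PG⁆ ≤ (V.ker).map T.subtype := by
      apply sup_le
      · intro n hn
        exact ⟨⟨n, hNT hn.2⟩, hF1 n hn.2, rfl⟩
      · intro c hc
        exact ⟨⟨c, _⟩, hF2 c hc, rfl⟩
    obtain ⟨t, ht, htx⟩ := h1 (hP x hx)
    have h2 : t = (⟨x, hPT hx⟩ : T) ^ 2 := Subtype.ext (by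
      have h3 : (t : G) = x ^ 2 := htx
      rw [h3]; rfl)
    rw [← map_pow, ← h2]
    exact ht
  -- the subgroup B
  let B : Subgroup A := ((PG ⊓ N).subgroupOf PG).map Abelianization.of
  have hB2 : ∀ b ∈ B, b ^ 2 = 1 := by
    rintro b ⟨q, hq, rfl⟩
    have hq' : (q : G) ∈ PG ⊓ N := Subgroup.mem_subgroupOf.1 hq
    have h1 := hQ q hq'
    have h2 : (q : G) ^ 2 ∈ ⁅PG, PG⁆ := Subgroup.commutator_mono inf_le_left inf_le_left h1
    have h3 := hψker _ h2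
    rw [hψpow _ _ q.2, hψ _ q.2] at h3
    exact h3
  have hψB : ∀ q : G, q ∈ PG → q ∈ N → ψ q ∈ B := by
    intro q hq1 hq2
    rw [hψ q hq1]
    exact ⟨⟨q, hq1⟩, Subgroup.mem_subgroupOf.2 ⟨hq1, hq2⟩, rfl⟩
  intro x hx
  let xT : T := ⟨x, hPT hx⟩
  let xH : H := ⟨xT, Subgroup.mem_subgroupOf.2 hx⟩
  have hkey : ∀ (k : ℕ) (g₀ : T) (hk : g₀⁻¹ * (xH : T) ^ k * g₀ ∈ H),
      ϕ ⟨g₀⁻¹ * (xH : T) ^ k * g₀, hk⟩ * (ϕ xH ^ k)⁻¹ ∈ B := by
    intro k g₀ hk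
    have hw : ((g₀ : G))⁻¹ * x ^ k * g₀ ∈ PG := Subgroup.mem_subgroupOf.1 hk
    rw [hϕ, hϕ]
    show ψ ((g₀ : G)⁻¹ * x ^ k * g₀) * (ψ x ^ k)⁻¹ ∈ B
    have hg₀ : (g₀ : G) ∈ (↑(N ⊔ PG) : Set G) := g₀.2
    rw [Subgroup.normal_mul] at hg₀
    obtain ⟨n, hn, y, hy, hny⟩ := hg₀
    have hny' : (g₀ : G) = n * y := hny.symm
    have hn' : n ∈ N := hn
    have hy' : y ∈ PG := hy
    have hvP : n⁻¹ * x ^ k * n ∈ PG := by
      have h0 : n⁻¹ * x ^ k * n = y * ((g₀ : G)⁻¹ * x ^ k * g₀) * y⁻¹ := by rw [hny']; group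
      rw [h0]; exact mul_mem (mul_mem hy' hw) (inv_mem hy')
    have hxk : x ^ k ∈ PG := pow_mem hx k
    have hqP : (x ^ k)⁻¹ * (n⁻¹ * x ^ k * n) ∈ PG := mul_mem (inv_mem hxk) hvP
    have hqN : (x ^ k)⁻¹ * (n⁻¹ * x ^ k * n) ∈ N := by
      have h0 : (x ^ k)⁻¹ * (n⁻¹ * x ^ k * n) = ((x ^ k)⁻¹ * n⁻¹ * ((x ^ k)⁻¹)⁻¹) * n := by
        group
      rw [h0]
      exact mul_mem (Subgroup.Normal.conj_mem inferInstance _ (inv_mem hn') _) hn'
    have h1 : (g₀ : G)⁻¹ * x ^ k * g₀ = y⁻¹ * (n⁻¹ * x ^ k * n) * y := by rw [hny']; group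
    have h2 : n⁻¹ * x ^ k * n = x ^ k * ((x ^ k)⁻¹ * (n⁻¹ * x ^ k * n)) := by group
    rw [h1, hψmul _ _ (mul_mem (inv_mem hy') hvP) hy', hψmul _ _ (inv_mem hy') hvP,
      hψinv _ hy', h2, hψmul _ _ hxk hqP, hψpow _ _ hx]
    have h3 : ∀ a b c : A, a⁻¹ * (b * c) * a * b⁻¹ = c := by
      intro a b c
      rw [mul_comm (a⁻¹) _, mul_assoc _ (a⁻¹), inv_mul_cancel, mul_one,
        mul_comm b, mul_assoc, mul_inv_cancel, mul_one]
    rw [h3]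
    exact hψB _ hqP hqN
  have hTr := transfer_mul_pow_mem ϕ B xH hkey
  have hb2 := hB2 _ hTr
  have hV2 : V xT ^ 2 = 1 := hF3 x hx
  have hVx : MonoidHom.transfer ϕ ((xH : T)) = V xT := rfl
  rw [hVx, mul_pow, hV2, one_mul, inv_pow, inv_eq_one, ← pow_mul, mul_comm, pow_mul] at hb2
  have hm : Odd H.index := by
    have h1 : H.index ∣ PG.index := Subgroup.relIndex_dvd_index_of_le hPT
    have h2 : ¬ 2 ∣ PG.index := P.not_dvd_index
    have h3 : Odd PG.index := Nat.odd_iff.2 (by omega)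
    exact Odd.of_dvd_nat h3 h1
  obtain ⟨k, hk⟩ := hA2 (ϕ xH ^ 2)
  have h5 := eq_one_of_pow_two_pow_of_pow_odd _ k _ hk hb2 hm
  rw [hϕ] at h5
  have h6 : ψ (x ^ 2) = 1 := by rw [hψpow _ _ hx]; exact h5
  exact hψker' _ (pow_mem hx 2) h6

end Cfsg.Agent.S4582
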