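import Cfsg.Statements.S4584
import Cfsg.Agent.Lib.Helper76.PGroup

set_option autoImplicit false
open Cfsg

namespace Cfsg.Agent.S4584

open Subgroup Cfsg.Agent.Lib.Helper76

/-- powers of a prime dividing: if `a ∣ p^n` and `a > p^k` then `p^(k+1) ∣ a`. -/
theorem pow_succ_dvd_of_lt {p : ℕ} (hp : p.Prime) {a n k : ℕ} (ha : a ∣ p ^ n)
    (hk : p ^ k < a) : p ^ (k + 1) ∣ a := by
  obtain ⟨j, _, rfl⟩ := (Nat.dvd_prime_pow hp).1 ha
  have : k < j := (Nat.pow_lt_pow_iff_right hp.one_lt).1 hk
  exact pow_dvd_pow p this

theorem result {P : Type*} [Group P] [Finite P] (p : ℕ) [Fact p.Prime] (hP : Nat.card P = p ^ 4) :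
    Nat.card (commutator P) = p ↔ (Subgroup.center P).index = p ^ 2 := by
  classical
  have hp : p.Prime := Fact.out
  have hp1 : 1 < p := hp.one_lt
  have hpG : IsPGroup p P := IsPGroup.of_card hP
  have hZmul : Nat.card (center P) * (center P).index = p ^ 4 := by
    rw [Subgroup.card_mul_index, hP]
  -- card of any subgroup divides p^4
  have hsub : ∀ K : Subgroup P, Nat.card K ∣ p ^ 4 := fun K => hP ▸ Subgroup.card_subgroup_dvd_card K
  have hidx : ∀ K : Subgroup P, Nat.card K * K.index = p ^ 4 := fun K => by
    rw [Subgroup.card_mul_index, hP]
  constructor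
  · -- (⇒)
    intro hD
    have hDZ : commutator P ≤ center P := normal_card_prime_le_center hpG (commutator P) hD
    have hD1 : commutator P ≠ ⊥ := by
      intro h
      rw [h, Subgroup.card_bot] at hD
      exact hp1.ne hD
    have hZtop : center P ≠ ⊤ := fun h => hD1 ((commutator_eq_bot_iff_center_eq_top P).2 h)
    -- card Z is p or p^2
    have hZp : p ∣ Nat.card (center P) := by
      have := Subgroup.card_dvd_of_le hDZ
      rwa [hD] at this
    -- index not dividing p
    have hnot : ¬ (center P).index ∣ p := fun h => hZtop (center_eq_top_of_index_dvd_prime hp h)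
    obtain ⟨j, hj4, hj⟩ := (Nat.dvd_prime_pow hp).1 (Dvd.intro_left _ hZmul)
    have hj2 : 2 ≤ j := by
      by_contra hlt
      push Not at hlt
      apply hnot
      rw [hj]
      calc p ^ j ∣ p ^ 1 := pow_dvd_pow p (by omega)
        _ = p := pow_one p
    have hj3 : j ≤ 3 := by
      by_contra hlt
      push Not at hlt
      have hj' : j = 4 := by omega
      rw [hj, hj'] at hZmul
      have : Nat.card (center P) = 1 := by
        have hpos : 0 < p ^ 4 := pow_pos hp.pos 4
        exact Nat.eq_of_mul_eq_mul_right hpos (by rw [hZmul, one_mul])
      rw [this] at hZp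
      exact hp.one_lt.ne' (Nat.dvd_one.1 hZp)
    rcases (by omega : j = 2 ∨ j = 3) with h2 | h3
    · rw [hj, h2]
    · -- contradiction
      exfalso
      rw [hj, h3] at hZmul
      have hZcard : Nat.card (center P) = p := by
        have hpos : 0 < p ^ 3 := pow_pos hp.pos 3
        apply Nat.eq_of_mul_eq_mul_right hpos
        rw [hZmul]; ring
      -- centralizers of noncentral elements
      have hcent : ∀ x : P, x ∉ center P →
          (centralizer ({x} : Set P)).index = p ∧
          ∀ a b : P, a ∈ centralizer ({x} : Set P) → b ∈ centralizer ({x} : Set P) → a * b = b * a := by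
        intro x hx
        have hidxC : (centralizer ({x} : Set P)).index = p := by
          have h1 : (centralizer ({x} : Set P)).index ∣ p := by
            rw [← commHom_ker x hDZ, Subgroup.index_ker, ← hD]
            exact Subgroup.card_dvd_of_le (commHom_range_le x hDZ)
          rcases (Nat.dvd_prime hp).1 h1 with h | h
          · exfalso
            apply hx
            rw [Subgroup.index_eq_one] at h
            rw [mem_center_iff]
            intro g
            have hg : g ∈ centralizer ({x} : Set P) := by rw [h]; exact mem_top g
            rw [mem_centralizer_iff] at hg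
            exact (hg x (Set.mem_singleton x)).symm
          · exact h
        refine ⟨hidxC, ?_⟩
        set C := centralizer ({x} : Set P) with hC
        have hCcard : Nat.card C = p ^ 3 := by
          have := hidx C
          rw [hidxC] at this
          have hpos : 0 < p := hp.pos
          apply Nat.eq_of_mul_eq_mul_right hpos
          rw [this]; ring
        have hZC : center P ≤ C := Subgroup.center_le_centralizer _
        have hxC : x ∈ C := by
          rw [hC, mem_centralizer_iff]
          intro y hy
          rw [Set.mem_singleton_iff] at hy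
          rw [hy]
        -- the centre of C
        set W : Subgroup P := (center C).map C.subtype with hW
        have hZW : center P ≤ W := by
          intro z hz
          refine ⟨⟨z, hZC hz⟩, ?_, rfl⟩
          rw [SetLike.mem_coe, mem_center_iff]
          intro g
          apply Subtype.ext
          rw [mem_center_iff] at hz
          exact hz g
        have hxW : x ∈ W := by
          refine ⟨⟨x, hxC⟩, ?_, rfl⟩
          rw [SetLike.mem_coe, mem_center_iff]
          intro g
          apply Subtype.ext
          have hg : (g : P) ∈ centralizer ({x} : Set P) := g.2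
          rw [mem_centralizer_iff] at hg
          exact (hg x (Set.mem_singleton x)).symm
        have hWcard : Nat.card W = Nat.card (center C) :=
          Nat.card_congr ((center C).equivMapOfInjective C.subtype
            (Subgroup.subtype_injective C)).toEquiv.symm
        have hlt : Nat.card (center P) < Nat.card W := by
          apply Set.ncard_lt_ncard (s := (center P : Set P)) (t := (W : Set P)) _ (Set.toFinite _)
          exact ⟨hZW, fun h => hx (h hxW)⟩
        have hdvd : p ^ 2 ∣ Nat.card (center C) := by
          rw [← hWcard]
          apply pow_succ_dvd_of_lt hp (hsub W)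
          rw [pow_one, ← hZcard]; exact hlt
        have hidxZC : (center C).index ∣ p := by
          have h1 := Subgroup.card_mul_index (center C)
          rw [hCcard] at h1
          obtain ⟨c, hc⟩ := hdvd
          rw [hc] at h1
          have h2 : p ^ 2 * (c * (center C).index) = p ^ 2 * p := by
            rw [← mul_assoc, h1]; ring
          have h3 := Nat.eq_of_mul_eq_mul_left (pow_pos hp.pos 2) h2
          exact Dvd.intro_left _ h3
        have hcomm := comm_of_center_index_dvd_prime hp hidxZC
        intro a b ha hb
        have := hcomm ⟨a, ha⟩ ⟨b, hb⟩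
        exact congrArg Subtype.val this
      -- pick x ∉ Z
      have hexx : ∃ x : P, x ∉ center P := by
        by_contra h
        push Not at h
        exact hZtop (eq_top_iff.2 fun g _ => h g)
      obtain ⟨x, hx⟩ := hexx
      obtain ⟨hxidx, hxcomm⟩ := hcent x hx
      have hexy : ∃ y : P, y ∉ centralizer ({x} : Set P) := by
        by_contra h
        push Not at h
        have : centralizer ({x} : Set P) = ⊤ := eq_top_iff.2 fun g _ => h g
        rw [← Subgroup.index_eq_one, hxidx] at this
        exact hp1.ne' this
      obtain ⟨y, hy⟩ := hexy
      have hyZ : y ∉ center P := fun h => hy (Subgroup.center_le_centralizer _ h)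
      obtain ⟨hyidx, hycomm⟩ := hcent y hyZ
      set Cx := centralizer ({x} : Set P) with hCx
      set Cy := centralizer ({y} : Set P) with hCy
      have hyCy : y ∈ Cy := by
        rw [hCy, mem_centralizer_iff]
        intro z hz
        rw [Set.mem_singleton_iff] at hz
        rw [hz]
      -- Cx ⊔ Cy = ⊤
      have hsup : Cx ⊔ Cy = ⊤ := by
        rw [← Subgroup.index_eq_one]
        have h1 : (Cx ⊔ Cy).index ∣ p := by
          rw [← hxidx]; exact Subgroup.index_dvd_of_le le_sup_left
        rcases (Nat.dvd_prime hp).1 h1 with h | h
        · exact h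
        · exfalso
          have h2 : Cx = Cx ⊔ Cy := by
            apply Subgroup.eq_of_le_of_card_ge le_sup_left
            have h3 := hidx Cx
            have h4 := hidx (Cx ⊔ Cy)
            rw [hxidx] at h3
            rw [h] at h4
            have : Nat.card (Cx ⊔ Cy : Subgroup P) * p = Nat.card Cx * p := by rw [h3, h4]
            exact (Nat.eq_of_mul_eq_mul_right hp.pos this).le
          apply hy
          rw [h2]
          exact le_sup_right (a := Cx) hyCy
      -- A = Cx ⊓ Cy ≤ Z
      have hAZ : Cx ⊓ Cy ≤ center P := by
        intro a ha
        have h1 : Cx ⊔ Cy ≤ centralizer ({a} : Set P) := by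
          apply sup_le
          · intro g hg
            rw [mem_centralizer_iff]
            intro z hz
            rw [Set.mem_singleton_iff] at hz
            rw [hz]
            exact (hxcomm g a hg ha.1).symm
          · intro g hg
            rw [mem_centralizer_iff]
            intro z hz
            rw [Set.mem_singleton_iff] at hz
            rw [hz]
            exact (hycomm g a hg ha.2).symm
        rw [hsup] at h1
        rw [mem_center_iff]
        intro g
        have h2 := h1 (mem_top g)
        rw [mem_centralizer_iff] at h2
        exact (h2 a (Set.mem_singleton a)).symm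
      have hAcard : Nat.card (Cx ⊓ Cy : Subgroup P) ≤ p := by
        rw [← hZcard]; exact Subgroup.card_le_of_le hAZ
      have hAidx : (Cx ⊓ Cy).index ≤ p * p := by
        have := Subgroup.index_inf_le (H := Cx) (K := Cy)
        rwa [hxidx, hyidx] at this
      have h5 := hidx (Cx ⊓ Cy)
      have h6 : p ^ 4 ≤ p * (p * p) := by
        rw [← h5]; exact Nat.mul_le_mul hAcard hAidx
      have h7 : p * (p * p) = p ^ 3 := by ring
      rw [h7] at h6
      have h8 : p ^ 3 < p ^ 4 := Nat.pow_lt_pow_right hp1 (by norm_num)
      omega
  · -- (⇐)
    intro hZ
    have hZcard : Nat.card (center P) = p ^ 2 := by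
      rw [hZ] at hZmul
      apply Nat.eq_of_mul_eq_mul_right (pow_pos hp.pos 2)
      rw [hZmul]; ring
    have hZtop : center P ≠ ⊤ := by
      intro h
      rw [← Subgroup.index_eq_one, hZ] at h
      have : 1 < p ^ 2 := Nat.one_lt_pow (by norm_num) hp1
      omega
    have hD1 : commutator P ≠ ⊥ := fun h => hZtop ((commutator_eq_bot_iff_center_eq_top P).1 h)
    -- D ≤ Z
    have hDZ : commutator P ≤ center P := by
      have hq : Nat.card (P ⧸ center P) = p ^ 2 := hZ
      letI : CommGroup (P ⧸ center P) := IsPGroup.commGroupOfCardEqPrimeSq hq
      have := Abelianization.commutator_subset_ker (QuotientGroup.mk' (center P))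
      rwa [QuotientGroup.ker_mk'] at this
    obtain ⟨x, hx⟩ : ∃ x : P, x ∉ center P := by
      by_contra h
      push Not at h
      exact hZtop (eq_top_iff.2 fun g _ => h g)
    set I := (commHom x hDZ).range with hI
    have hIZ : I ≤ center P := (commHom_range_le x hDZ).trans hDZ
    haveI hIn : I.Normal := by
      constructor
      intro n hn g
      have := hIZ hn
      rw [mem_center_iff] at this
      rw [this g, mul_assoc, mul_inv_cancel, mul_one]
      exact hn
    -- card I ∣ p
    have hIcard : Nat.card I ∣ p := by
      rw [hI, ← Subgroup.index_ker, commHom_ker]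
      set C := centralizer ({x} : Set P) with hC
      have hZC : center P ≤ C := Subgroup.center_le_centralizer _
      have hxC : x ∈ C := by
        rw [hC, mem_centralizer_iff]
        intro y hy
        rw [Set.mem_singleton_iff] at hy
        rw [hy]
      have hlt : Nat.card (center P) < Nat.card C := by
        apply Set.ncard_lt_ncard (s := (center P : Set P)) (t := (C : Set P)) _ (Set.toFinite _)
        exact ⟨hZC, fun h => hx (h hxC)⟩
      have hdvd : p ^ 3 ∣ Nat.card C := by
        apply pow_succ_dvd_of_lt hp (hsub C)
        rw [← hZcard]; exact hlt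
      have h1 := hidx C
      obtain ⟨c, hc⟩ := hdvd
      rw [hc] at h1
      have h2 : p ^ 3 * (c * C.index) = p ^ 3 * p := by
        rw [← mul_assoc, h1]; ring
      have h3 := Nat.eq_of_mul_eq_mul_left (pow_pos hp.pos 3) h2
      exact Dvd.intro_left _ h3
    -- the quotient by I is commutative
    have hQcomm : ∀ a b : P ⧸ I, a * b = b * a := by
      apply comm_of_center_index_dvd_prime hp
      set C2 := (center (P ⧸ I)).comap (QuotientGroup.mk' I) with hC2
      have hidxeq : (center (P ⧸ I)).index = C2.index :=
        (Subgroup.index_comap_of_surjective _ (QuotientGroup.mk'_surjective I)).symm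
      rw [hidxeq]
      have hZC2 : center P ≤ C2 := by
        intro z hz
        rw [hC2, Subgroup.mem_comap, mem_center_iff]
        intro q
        obtain ⟨g, rfl⟩ := QuotientGroup.mk'_surjective I q
        rw [mem_center_iff] at hz
        rw [← map_mul, ← map_mul, hz g]
      have hxC2 : x ∈ C2 := by
        rw [hC2, Subgroup.mem_comap, mem_center_iff]
        intro q
        obtain ⟨g, rfl⟩ := QuotientGroup.mk'_surjective I q
        rw [← map_mul, ← map_mul]
        symm
        rw [QuotientGroup.mk'_apply, QuotientGroup.mk'_apply]
        rw [← mul_inv_eq_one, ← QuotientGroup.mk_inv, ← QuotientGroup.mk_mul,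
          QuotientGroup.eq_one_iff]
        have h1 : x * g * (g * x)⁻¹ = commHom x hDZ g := by
          rw [commHom_apply]; group
        rw [h1]
        exact ⟨g, rfl⟩
      have hlt : Nat.card (center P) < Nat.card C2 := by
        apply Set.ncard_lt_ncard (s := (center P : Set P)) (t := (C2 : Set P)) _ (Set.toFinite _)
        exact ⟨hZC2, fun h => hx (h hxC2)⟩
      have hdvd : p ^ 3 ∣ Nat.card C2 := by
        apply pow_succ_dvd_of_lt hp (hsub C2)
        rw [← hZcard]; exact hlt
      have h1 := hidx C2
      obtain ⟨c, hc⟩ := hdvd
      rw [hc] at h1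
      have h2 : p ^ 3 * (c * C2.index) = p ^ 3 * p := by
        rw [← mul_assoc, h1]; ring
      have h3 := Nat.eq_of_mul_eq_mul_left (pow_pos hp.pos 3) h2
      exact Dvd.intro_left _ h3
    have hDI : commutator P ≤ I := by
      letI : CommGroup (P ⧸ I) := { (inferInstance : Group (P ⧸ I)) with mul_comm := hQcomm }
      have := Abelianization.commutator_subset_ker (QuotientGroup.mk' I)
      rwa [QuotientGroup.ker_mk'] at this
    have h1 : Nat.card (commutator P) ∣ p := (Subgroup.card_dvd_of_le hDI).trans hIcard
    rcases (Nat.dvd_prime hp).1 h1 with h | h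
    · exact absurd (Subgroup.card_eq_one.1 h) hD1
    · exact h

end Cfsg.Agent.S4584
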