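import Cfsg.Statements.S4585
import Cfsg.Agent.Lib.Helper76.PGroup2
import Cfsg.Agent.S4584

set_option autoImplicit false
open Cfsg

namespace Cfsg.Agent.S4585

open Subgroup Cfsg.Agent.Lib.Helper76

theorem result {P : Type*} [Group P] [Finite P] (p : ℕ) [Fact p.Prime] (hP : Nat.card P = p ^ 4) :
    (commutator P).index = p ^ 2 ↔ Group.nilpotencyClass P = 3 := by
  have hp : p.Prime := Fact.out
  have hp1 : 1 < p := hp.one_lt
  have hpG : IsPGroup p P := IsPGroup.of_card hP
  haveI := hpG.isNilpotent
  haveI : Nontrivial P := by
    rw [← Finite.one_lt_card_iff_nontrivial, hP]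
    exact Nat.one_lt_pow (by norm_num) hp1
  have hle3 : Group.nilpotencyClass P ≤ 3 := nilpotencyClass_le_of_card_dvd 2 P (by rw [hP])
  have hZmul : Nat.card (center P) * (center P).index = p ^ 4 := by
    rw [Subgroup.card_mul_index, hP]
  have hDmul : Nat.card (commutator P) * (commutator P).index = p ^ 4 := by
    rw [Subgroup.card_mul_index, hP]
  have hqd : (center P).index ∣ p ^ 3 := card_quotient_center_dvd (n := 3) (by rw [hP])
  constructor
  · intro hD
    by_contra hne
    have hle2 : Group.nilpotencyClass P ≤ 2 := by omega
    rw [nilpotencyClass_le_two_iff] at hle2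
    have hDcard : Nat.card (commutator P) = p ^ 2 := by
      rw [hD] at hDmul
      apply Nat.eq_of_mul_eq_mul_right (pow_pos hp.pos 2)
      rw [hDmul]; ring
    have hD1 : commutator P ≠ ⊥ := by
      intro h
      rw [h, Subgroup.card_bot] at hDcard
      have : 1 < p ^ 2 := Nat.one_lt_pow (by norm_num) hp1
      omega
    have hnot : ¬ (center P).index ∣ p := by
      intro h
      apply hD1
      rw [commutator_eq_bot_iff_center_eq_top]
      exact center_eq_top_of_index_dvd_prime hp h
    have hZd : p ^ 2 ∣ Nat.card (center P) := hDcard ▸ Subgroup.card_dvd_of_le hle2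
    have hZidx : (center P).index = p ^ 2 := by
      obtain ⟨c, hc⟩ := hZd
      rw [hc] at hZmul
      have h2 : p ^ 2 * (c * (center P).index) = p ^ 2 * p ^ 2 := by
        rw [← mul_assoc, hZmul]; ring
      have h3 := Nat.eq_of_mul_eq_mul_left (pow_pos hp.pos 2) h2
      have h4 : (center P).index ∣ p ^ 2 := Dvd.intro_left _ h3
      obtain ⟨j, hj2, hj⟩ := (Nat.dvd_prime_pow hp).1 h4
      rcases (by omega : j = 0 ∨ j = 1 ∨ j = 2) with h | h | h
      · exfalso; apply hnot; rw [hj, h, pow_zero]; exact one_dvd p
      · exfalso; apply hnot; rw [hj, h, pow_one]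
      · rw [hj, h]
    have h5 := (Cfsg.Agent.S4584.result p hP).2 hZidx
    rw [hDcard] at h5
    have : p < p ^ 2 := by
      calc p = p ^ 1 := (pow_one p).symm
        _ < p ^ 2 := Nat.pow_lt_pow_right hp1 (by norm_num)
    omega
  · intro hc
    have hnDZ : ¬ commutator P ≤ center P := by
      rw [← nilpotencyClass_le_two_iff]; omega
    have hna : ¬ ∀ a b : P, a * b = b * a := by
      intro h
      apply hnDZ
      have : center P = ⊤ := by
        rw [eq_top_iff]; intro a _; rw [mem_center_iff]; intro b; exact h b a
      rw [this]; exact le_top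
    have hnot : ¬ (center P).index ∣ p := fun h => hna (comm_of_center_index_dvd_prime hp h)
    have hZidx : (center P).index = p ^ 3 := by
      obtain ⟨j, hj3, hj⟩ := (Nat.dvd_prime_pow hp).1 hqd
      rcases (by omega : j = 0 ∨ j = 1 ∨ j = 2 ∨ j = 3) with h | h | h | h
      · exfalso; apply hnot; rw [hj, h, pow_zero]; exact one_dvd p
      · exfalso; apply hnot; rw [hj, h, pow_one]
      · exfalso
        apply hnDZ
        have hq : Nat.card (P ⧸ center P) = p ^ 2 := by rw [← h, ← hj]; rfl
        letI : CommGroup (P ⧸ center P) := IsPGroup.commGroupOfCardEqPrimeSq hq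
        have := Abelianization.commutator_subset_ker (QuotientGroup.mk' (center P))
        rwa [QuotientGroup.ker_mk'] at this
      · rw [hj, h]
    have hZcard : Nat.card (center P) = p := by
      rw [hZidx] at hZmul
      apply Nat.eq_of_mul_eq_mul_right (pow_pos hp.pos 3)
      rw [hZmul]; ring
    have hD1 : commutator P ≠ ⊥ := by
      intro h; apply hnDZ; rw [h]; exact bot_le
    -- Z ≤ D
    have hZD : center P ≤ commutator P := by
      obtain ⟨b, hbD, hbZ, hb1⟩ := exists_mem_center_of_normal hpG (commutator P) hD1
      have hz : zpowers b = center P := by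
        apply Subgroup.eq_of_le_of_card_ge
        · rw [zpowers_le]; exact hbZ
        · rw [hZcard, Nat.card_zpowers]
          have h1 : orderOf b ∣ p := by
            rw [← hZcard]
            have := orderOf_dvd_natCard (⟨b, hbZ⟩ : center P)
            rwa [Subgroup.orderOf_mk] at this
          rcases (Nat.dvd_prime hp).1 h1 with h2 | h2
          · exact absurd (orderOf_eq_one_iff.1 h2) hb1
          · exact h2.ge
      rw [← hz, zpowers_le]
      exact hbD
    -- the quotient
    have hQcard : Nat.card (P ⧸ center P) = p ^ 3 := hZidx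
    have hQna : ¬ ∀ a b : P ⧸ center P, a * b = b * a := by
      intro h
      apply hnDZ
      letI : CommGroup (P ⧸ center P) :=
        { (inferInstance : Group (P ⧸ center P)) with mul_comm := h }
      have := Abelianization.commutator_subset_ker (QuotientGroup.mk' (center P))
      rwa [QuotientGroup.ker_mk'] at this
    have h6 := index_commutator_of_card_cube hQcard hQna
    have h7 : (commutator (P ⧸ center P)).comap (QuotientGroup.mk' (center P)) = commutator P := by
      have h8 : commutator (P ⧸ center P) = (commutator P).map (QuotientGroup.mk' (center P)) := by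
        rw [commutator_def, commutator_def, Subgroup.map_commutator,
          Subgroup.map_top_of_surjective _ (QuotientGroup.mk'_surjective _)]
      rw [h8, Subgroup.comap_map_eq, QuotientGroup.ker_mk']
      exact sup_eq_left.2 hZD
    rw [← h7, Subgroup.index_comap_of_surjective _ (QuotientGroup.mk'_surjective _)]
    exact h6

end Cfsg.Agent.S4585
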