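import Cfsg.Statements.S4586
import Cfsg.Agent.Lib.Helper76.PGroup
import Mathlib.GroupTheory.Abelianization.Finite

set_option autoImplicit false
open Cfsg

namespace Cfsg.Agent.S4586

open Subgroup Cfsg.Agent.Lib.Helper76
open scoped commutatorElement

variable {P : Type*} [Group P]

theorem sup_eq_top_of_prime_index [Finite P] {p : ℕ} (hp : p.Prime) (N K : Subgroup P)
    (hN : N.index = p) (hK : ¬ K ≤ N) : N ⊔ K = ⊤ := by
  rw [← Subgroup.index_eq_one]
  have h1 : (N ⊔ K).index ∣ p := by
    rw [← hN]; exact Subgroup.index_dvd_of_le le_sup_left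
  rcases (Nat.dvd_prime hp).1 h1 with h | h
  · exact h
  · exfalso
    apply hK
    have h2 : N = N ⊔ K := by
      apply Subgroup.eq_of_le_of_card_ge le_sup_left
      have h3 := Subgroup.card_mul_index N
      have h4 := Subgroup.card_mul_index (N ⊔ K)
      rw [hN] at h3
      rw [h] at h4
      have : Nat.card (N ⊔ K : Subgroup P) * p = Nat.card N * p := by rw [h3, h4]
      exact (Nat.eq_of_mul_eq_mul_right hp.pos this).le
    rw [h2]; exact le_sup_right

/-- The twisted commutator homomorphism `n ↦ [x,n]` into the abelianization of `N`. -/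
noncomputable def Psi (N : Subgroup P) [N.Normal] (x : P) : N →* Abelianization N :=
  (Abelianization.of.comp (MulAut.conjNormal x : N ≃* N).toMonoidHom) * (Abelianization.of)⁻¹

theorem Psi_apply (N : Subgroup P) [N.Normal] (x : P) (n : N) :
    Psi N x n = Abelianization.of (MulAut.conjNormal x n) * (Abelianization.of n)⁻¹ := rfl

theorem key [Finite P] {p : ℕ} (hp : p.Prime) (N : Subgroup P) [N.Normal] (hN : N.index = p)
    (x : P) (hx : x ∉ N) :
    (commutator P).index * Nat.card (commutator N) =
      p * Nat.card {n : N // x * n * x⁻¹ * (n : P)⁻¹ ∈ (commutator N).map N.subtype} := by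
  classical
  set Ψ := Psi N x with hΨ
  set J := Ψ.range with hJ
  set T' : Subgroup N := J.comap Abelianization.of with hT'
  set T : Subgroup P := T'.map N.subtype with hT
  -- membership in the kernel
  have hker : ∀ n : N, n ∈ Ψ.ker ↔
      x * n * x⁻¹ * (n : P)⁻¹ ∈ (commutator N).map N.subtype := by
    intro n
    rw [MonoidHom.mem_ker, hΨ, Psi_apply, mul_inv_eq_one, ← mul_inv_eq_one, ← map_inv, ← map_mul,
      ← MonoidHom.mem_ker, Abelianization.ker_of]
    constructor
    · intro h
      exact ⟨_, h, by simp⟩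
    · rintro ⟨d, hd, hdx⟩
      have : d = MulAut.conjNormal x n * n⁻¹ := by
        apply Subtype.ext
        have hdx' : (d : P) = x * n * x⁻¹ * (n : P)⁻¹ := hdx
        rw [hdx']; simp
      rw [← this]; exact hd
  -- elements of T
  have hT'mem : ∀ t : N, t ∈ T' ↔ Abelianization.of t ∈ J := fun t => Iff.rfl
  have hTmem : ∀ t : N, t ∈ T' → (t : P) ∈ T := fun t ht => Subgroup.mem_map.2 ⟨t, ht, rfl⟩
  have hcommT : ∀ d : N, d ∈ commutator N → (d : P) ∈ T := by
    intro d hd
    apply hTmem
    rw [hT'mem]
    have : Abelianization.of d = 1 := by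
      rw [← MonoidHom.mem_ker, Abelianization.ker_of]; exact hd
    rw [this]; exact one_mem _
  have hxnT : ∀ n : N, x * n * x⁻¹ * (n : P)⁻¹ ∈ T := by
    intro n
    have h1 : x * n * x⁻¹ * (n : P)⁻¹ = ((MulAut.conjNormal x n * n⁻¹ : N) : P) := by simp
    rw [h1]
    apply hTmem
    rw [hT'mem]
    refine ⟨n, ?_⟩
    rw [hΨ, Psi_apply, map_mul, map_inv]
  -- (i)
  have hNN : (commutator N).map N.subtype ≤ commutator P := by
    rw [Subgroup.map_subtype_commutator, _root_.commutator_def]
    exact Subgroup.commutator_mono le_top le_top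
  have hi : T ≤ commutator P := by
    intro t0 ht0
    obtain ⟨t, ht, rfl⟩ := Subgroup.mem_map.1 ht0
    rw [hT'mem] at ht
    obtain ⟨n, hn⟩ := ht
    rw [hΨ, Psi_apply, ← map_inv, ← map_mul] at hn
    have h1 : (MulAut.conjNormal x n * n⁻¹)⁻¹ * t ∈ commutator N := by
      rw [← Abelianization.ker_of, MonoidHom.mem_ker, map_mul, map_inv, hn, inv_mul_cancel]
    have h2 : (t : P) = (x * n * x⁻¹ * (n : P)⁻¹) *
        (((MulAut.conjNormal x n * n⁻¹)⁻¹ * t : N) : P) := by
      simp only [Subgroup.coe_mul, Subgroup.coe_inv, MulAut.conjNormal_apply]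
      group
    have h2' : N.subtype t = (t : P) := rfl
    rw [h2', h2]
    apply mul_mem
    · have : x * n * x⁻¹ * (n : P)⁻¹ = ⁅x, (n : P)⁆ := rfl
      rw [this]
      exact commutator_mem_commutator (mem_top x) (mem_top _)
    · exact hNN ⟨_, h1, rfl⟩
  -- N ⊔ zpowers x = ⊤
  have hsup : N ⊔ zpowers x = ⊤ := by
    apply sup_eq_top_of_prime_index hp N _ hN
    intro h
    exact hx (h (mem_zpowers x))
  -- T is normal
  have hcomm_inv : ∀ g : P, Commute g x → ∀ t : N, t ∈ T' → MulAut.conjNormal g t ∈ T' := by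
    intro g hg t ht
    rw [hT'mem] at ht ⊢
    obtain ⟨n, hn⟩ := ht
    refine ⟨MulAut.conjNormal g n, ?_⟩
    have h1 : Abelianization.of (MulAut.conjNormal g t) =
        Abelianization.map (MulAut.conjNormal g : N ≃* N).toMonoidHom (Abelianization.of t) := by
      rw [Abelianization.map_of]; rfl
    rw [h1, ← hn, hΨ, Psi_apply, Psi_apply, map_mul, map_inv, Abelianization.map_of,
      Abelianization.map_of]
    congr 2
    apply Subtype.ext
    simp only [MulEquiv.coe_toMonoidHom, MulAut.conjNormal_apply]
    have h3 : g * x = x * g := hg.eq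
    have h4 : g⁻¹ * x⁻¹ = x⁻¹ * g⁻¹ := by
      rw [← mul_inv_rev, ← mul_inv_rev, h3]
    calc x * (g * ↑n * g⁻¹) * x⁻¹ = (x * g) * n * (g⁻¹ * x⁻¹) := by group
      _ = (g * x) * n * (x⁻¹ * g⁻¹) := by rw [h3, h4]
      _ = g * (x * ↑n * x⁻¹) * g⁻¹ := by group
  have hTnorm : T.Normal := by
    rw [← Subgroup.normalizer_eq_top_iff, eq_top_iff, ← hsup]
    apply sup_le
    · rw [Subgroup.le_normalizer_iff]
      intro m hm t0 ht0
      obtain ⟨t, ht, rfl⟩ := Subgroup.mem_map.1 ht0
      have h1 : m * N.subtype t * m⁻¹ = ((⟨m, hm⟩ * t * ⟨m, hm⟩⁻¹ : N) : P) := by simp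
      rw [h1]
      apply hTmem
      rw [hT'mem] at ht ⊢
      rw [map_mul, map_mul, map_inv, mul_comm, ← mul_assoc, inv_mul_cancel, one_mul]
      exact ht
    · rw [Subgroup.le_normalizer_iff]
      intro h hh t0 ht0
      obtain ⟨t, ht, rfl⟩ := Subgroup.mem_map.1 ht0
      obtain ⟨k, rfl⟩ := Subgroup.mem_zpowers_iff.1 hh
      have hc : Commute (x ^ k) x := (Commute.refl x).zpow_left k
      have h1 : x ^ k * N.subtype t * (x ^ k)⁻¹ = ((MulAut.conjNormal (x ^ k) t : N) : P) :=
        (MulAut.conjNormal_apply (x ^ k) t).symm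
      rw [h1]
      exact hTmem _ (hcomm_inv _ hc t ht)
  -- (ii)
  have hii : commutator P ≤ T := by
    haveI := hTnorm
    have hQcomm : ∀ a b : P ⧸ T, a * b = b * a := by
      apply comm_of_center_index_dvd_prime hp
      set C := (center (P ⧸ T)).comap (QuotientGroup.mk' T) with hC
      have hidxeq : (center (P ⧸ T)).index = C.index :=
        (Subgroup.index_comap_of_surjective _ (QuotientGroup.mk'_surjective T)).symm
      rw [hidxeq, ← hN]
      apply Subgroup.index_dvd_of_le
      intro m hm
      rw [hC, Subgroup.mem_comap, mem_center_iff]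
      intro q
      obtain ⟨g, rfl⟩ := QuotientGroup.mk'_surjective T q
      -- the set of g commuting with m mod T is everything
      set Cm : Subgroup P :=
        (centralizer ({(QuotientGroup.mk' T m)} : Set (P ⧸ T))).comap (QuotientGroup.mk' T) with hCm
      have hCm_top : Cm = ⊤ := by
        rw [eq_top_iff, ← hsup]
        apply sup_le
        · intro m' hm'
          rw [hCm, Subgroup.mem_comap, mem_centralizer_iff]
          intro y hy
          rw [Set.mem_singleton_iff] at hy
          subst hy
          rw [← map_mul, ← map_mul, QuotientGroup.mk'_apply, QuotientGroup.mk'_apply,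
            QuotientGroup.eq]
          have h1 : (m * m')⁻¹ * (m' * m) = ((⁅(⟨m', hm'⟩ : N)⁻¹, (⟨m, hm⟩ : N)⁻¹⁆ : N) : P) := by
            simp [commutatorElement_def]; group
          rw [h1]
          apply hcommT
          exact commutator_mem_commutator (mem_top _) (mem_top _)
        · rw [zpowers_le, hCm, Subgroup.mem_comap, mem_centralizer_iff]
          intro y hy
          rw [Set.mem_singleton_iff] at hy
          subst hy
          rw [← map_mul, ← map_mul, QuotientGroup.mk'_apply, QuotientGroup.mk'_apply]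
          symm
          rw [← mul_inv_eq_one, ← QuotientGroup.mk_inv, ← QuotientGroup.mk_mul,
            QuotientGroup.eq_one_iff]
          have h1 : x * m * (m * x)⁻¹ = x * m * x⁻¹ * m⁻¹ := by group
          rw [h1]
          exact hxnT ⟨m, hm⟩
      have hg : g ∈ Cm := by rw [hCm_top]; exact mem_top g
      rw [hCm, Subgroup.mem_comap, mem_centralizer_iff] at hg
      exact (hg _ (Set.mem_singleton _)).symm
    letI : CommGroup (P ⧸ T) := { (inferInstance : Group (P ⧸ T)) with mul_comm := hQcomm }
    have := Abelianization.commutator_subset_ker (QuotientGroup.mk' T)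
    rwa [QuotientGroup.ker_mk'] at this
  have hPT : commutator P = T := le_antisymm hii hi
  -- counting
  have c1 : Ψ.ker.index = Nat.card J := Subgroup.index_ker Ψ
  have c2 : Nat.card Ψ.ker * Ψ.ker.index = Nat.card N := Subgroup.card_mul_index _
  have c3 : Nat.card {n : N // x * n * x⁻¹ * (n : P)⁻¹ ∈ (commutator N).map N.subtype} =
      Nat.card Ψ.ker :=
    Nat.card_congr (Equiv.subtypeEquivRight fun n => (hker n).symm)
  have c4 : T.index = T'.index * p := by rw [hT, Subgroup.index_map_subtype, hN]
  have c5 : T'.index = J.index :=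
    Subgroup.index_comap_of_surjective _ (QuotientGroup.mk'_surjective _)
  have c6 : Nat.card J * J.index = Nat.card (Abelianization N) := Subgroup.card_mul_index _
  have c7 : Nat.card (Abelianization N) = (commutator N).index := rfl
  have c8 : Nat.card (commutator N) * (commutator N).index = Nat.card N :=
    Subgroup.card_mul_index _
  have hJpos : 0 < Nat.card J := Nat.card_pos
  rw [hPT, c3, c4, c5]
  apply Nat.eq_of_mul_eq_mul_right hJpos
  calc J.index * p * Nat.card (commutator N) * Nat.card J
      = p * (Nat.card (commutator N) * (Nat.card J * J.index)) := by ring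
    _ = p * Nat.card N := by rw [c6, c7, c8]
    _ = p * (Nat.card Ψ.ker * Ψ.ker.index) := by rw [c2]
    _ = p * Nat.card Ψ.ker * Nat.card J := by rw [c1]; ring

theorem result {P : Type*} [Group P] [Finite P] (p : ℕ) [Fact p.Prime] (hP : IsPGroup p P) (N : Subgroup P) [N.Normal] (hN : N.index = p) :
    ((commutator P).index = p ^ 2 ↔ ∀ x : P, x ∉ N →
        Nat.card {n : N // x * n * x⁻¹ * (n : P)⁻¹ ∈ (commutator N).map N.subtype} = p * Nat.card (commutator N)) ∧
    ((commutator P).index = p ^ 2 ↔ ∃ x : P, x ∉ N ∧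
        Nat.card {n : N // x * n * x⁻¹ * (n : P)⁻¹ ∈ (commutator N).map N.subtype} = p * Nat.card (commutator N)) := by
  have hp : p.Prime := Fact.out
  have hpos : 0 < Nat.card (commutator N) := Nat.card_pos
  have hiff : ∀ x : P, x ∉ N → ((commutator P).index = p ^ 2 ↔
      Nat.card {n : N // x * n * x⁻¹ * (n : P)⁻¹ ∈ (commutator N).map N.subtype} =
        p * Nat.card (commutator N)) := by
    intro x hx
    have hk := key hp N hN x hx
    constructor
    · intro h
      rw [h] at hk
      apply Nat.eq_of_mul_eq_mul_left hp.pos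
      rw [← hk]; ring
    · intro h
      rw [h] at hk
      apply Nat.eq_of_mul_eq_mul_right hpos
      rw [hk]; ring
  have hex : ∃ x : P, x ∉ N := by
    by_contra h
    push Not at h
    have : N = ⊤ := eq_top_iff.2 fun g _ => h g
    rw [← Subgroup.index_eq_one, hN] at this
    exact hp.one_lt.ne' this
  refine ⟨⟨fun h x hx => (hiff x hx).1 h, fun h => ?_⟩, ⟨fun h => ?_, fun h => ?_⟩⟩
  · obtain ⟨x, hx⟩ := hex
    exact (hiff x hx).2 (h x hx)
  · obtain ⟨x, hx⟩ := hex
    exact ⟨x, hx, (hiff x hx).1 h⟩
  · obtain ⟨x, hx, hc⟩ := h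
    exact (hiff x hx).2 hc

end Cfsg.Agent.S4586
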