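import Cfsg.Statements.S4601
import Cfsg.Agent.Lib.Helper76.PSolvable
import Cfsg.Agent.Lib.Helper24.SylowInv

set_option autoImplicit false
open Cfsg

namespace Cfsg.Agent.S4601

open Cfsg.Agent.Lib.Helper76 Cfsg.Agent.Lib.Helper55 Cfsg.Agent.Lib.Helper32
  Cfsg.Agent.Lib.Helper33 Cfsg.Agent.Lib.Helper24

universe u

/-- the class size hypothesis -/
def Hyp (p q : ℕ) (G : Type*) [Group G] : Prop :=
  ∀ y : G, (∃ k : ℕ, orderOf y = q ^ k) → ¬ p ∣ (Subgroup.centralizer ({y} : Set G)).index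

/-- the conclusion -/
def Concl (p q : ℕ) (G : Type*) [Group G] : Prop :=
  ∃ (P : Sylow p G) (Q : Sylow q G),
    (P : Subgroup G) ≤ Subgroup.normalizer ((Q : Subgroup G) : Set G)

/-- an element killed by a power of `p` and a power of `q` is trivial -/
theorem eq_one_of_pow_pow {H : Type*} [Group H] {p q : ℕ} [hp : Fact p.Prime] [hq : Fact q.Prime]
    (hpq : p ≠ q) (y : H) {a b : ℕ} (h1 : y ^ (p ^ a) = 1) (h2 : y ^ (q ^ b) = 1) : y = 1 := by
  have d1 : orderOf y ∣ p ^ a := orderOf_dvd_of_pow_eq_one h1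
  have d2 : orderOf y ∣ q ^ b := orderOf_dvd_of_pow_eq_one h2
  have hc : (p ^ a).Coprime (q ^ b) :=
    Nat.Coprime.pow _ _ ((Nat.coprime_primes hp.out hq.out).2 hpq)
  have : orderOf y ∣ 1 := by
    have := Nat.dvd_gcd d1 d2
    rwa [hc] at this
  exact orderOf_eq_one_iff.mp (Nat.dvd_one.mp this)

theorem normal_le_sylow {G : Type*} [Group G] {p : ℕ} [Fact p.Prime] (N : Subgroup G) [N.Normal]
    (hN : IsPGroup p N) (P : Sylow p G) : N ≤ P := by
  have h := P.3 (P.2.to_sup_of_normal_right hN) le_sup_left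
  exact le_sup_right.trans h.le

theorem normal_pSubgroup_le_of_index {G : Type*} [Group G] [Finite G] {p : ℕ} [Fact p.Prime]
    (N : Subgroup G) [N.Normal] (hN : IsPGroup p N) (C : Subgroup G) (hC : ¬ p ∣ C.index) :
    N ≤ C := by
  obtain ⟨S⟩ : Nonempty (Sylow p C) := Sylow.nonempty
  have h1 : IsPGroup p ((S : Subgroup C).map C.subtype) := S.2.map _
  have h2 : ¬ p ∣ ((S : Subgroup C).map C.subtype).index := by
    rw [Subgroup.index_map_subtype]
    intro h
    rcases (Nat.Prime.dvd_mul Fact.out).1 h with h | h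
    · exact S.not_dvd_index h
    · exact hC h
  have := normal_le_sylow N hN (h1.toSylow h2)
  intro x hx
  have hx' : x ∈ (h1.toSylow h2 : Subgroup G) := this hx
  rw [IsPGroup.toSylow_coe] at hx'
  exact Subgroup.map_subtype_le _ hx'

theorem relIndex_sup_of_normal {G : Type*} [Group G] [Finite G] (A N : Subgroup G) [N.Normal] :
    A.relIndex (A ⊔ N) = A.relIndex N := by
  have e1 : Nat.card N * N.relIndex (A ⊔ N) = Nat.card (A ⊔ N : Subgroup G) :=
    card_mul_relIndex_eq le_sup_right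
  have e2 : Nat.card A * A.relIndex (A ⊔ N) = Nat.card (A ⊔ N : Subgroup G) :=
    card_mul_relIndex_eq le_sup_left
  have e3 : Nat.card (A ⊓ N : Subgroup G) * (A ⊓ N).relIndex A = Nat.card A :=
    card_mul_relIndex_eq inf_le_left
  have e4 : Nat.card (A ⊓ N : Subgroup G) * (A ⊓ N).relIndex N = Nat.card N :=
    card_mul_relIndex_eq inf_le_right
  rw [Subgroup.relIndex_sup_right] at e1
  rw [Subgroup.inf_relIndex_left] at e3
  rw [Subgroup.inf_relIndex_right] at e4
  have hpos : 0 < Nat.card A := Nat.card_pos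
  apply Nat.eq_of_mul_eq_mul_left hpos
  rw [e2, ← e1, ← e4, ← e3]
  ring

theorem hyp_quotient {G : Type*} [Group G] [Finite G] {p q : ℕ} [Fact q.Prime]
    (N : Subgroup G) [N.Normal] (h : Hyp p q G) : Hyp p q (G ⧸ N) := by
  rintro ybar ⟨k, hk⟩
  obtain ⟨x, rfl⟩ := QuotientGroup.mk'_surjective N ybar
  obtain ⟨a, m', hm', hx⟩ : ∃ a m', ¬ q ∣ m' ∧ orderOf x = q ^ a * m' :=
    Nat.exists_eq_pow_mul_and_not_dvd (orderOf_pos x).ne' q (Nat.Prime.ne_one Fact.out)
  have hcop : m'.Coprime (orderOf (QuotientGroup.mk' N x)) := by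
    rw [hk]
    exact Nat.Coprime.pow_right _ ((Nat.Prime.coprime_iff_not_dvd Fact.out).2 hm').symm
  obtain ⟨t, ht⟩ := exists_pow_eq_self_of_coprime hcop
  have hy1 : QuotientGroup.mk' N ((x ^ m') ^ t) = QuotientGroup.mk' N x := by
    rw [map_pow, map_pow, ht]
  have hy2 : ((x ^ m') ^ t) ^ (q ^ a) = 1 := by
    have e : ((x ^ m') ^ t) ^ (q ^ a) = (x ^ (q ^ a * m')) ^ t := by
      rw [← pow_mul, ← pow_mul, ← pow_mul]
      congr 1
      ring
    rw [e, ← hx, pow_orderOf_eq_one, one_pow]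
  have hy3 : ∃ j, orderOf ((x ^ m') ^ t) = q ^ j := by
    have := orderOf_dvd_of_pow_eq_one hy2
    obtain ⟨j, -, hj⟩ := (Nat.dvd_prime_pow Fact.out).1 this
    exact ⟨j, hj⟩
  have hy := h _ hy3
  intro hdvd
  apply hy
  have hle : (Subgroup.centralizer ({(x ^ m') ^ t} : Set G)).map (QuotientGroup.mk' N) ≤
      Subgroup.centralizer ({QuotientGroup.mk' N x} : Set (G ⧸ N)) := by
    rintro _ ⟨c, hc, rfl⟩
    have hc' := Subgroup.mem_centralizer_singleton_iff.1 hc
    rw [Subgroup.mem_centralizer_singleton_iff, ← hy1, ← map_mul, ← map_mul, hc']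
  exact hdvd.trans ((Subgroup.index_dvd_of_le hle).trans
    (Subgroup.index_map_dvd _ (QuotientGroup.mk'_surjective N)))

/-- Case of a normal `p`-subgroup. -/
theorem step_a {G : Type*} [Group G] [Finite G] {p q : ℕ} [Fact p.Prime] [Fact q.Prime]
    (hpq : p ≠ q) (h : Hyp p q G) (N : Subgroup G) [N.Normal] (hN : IsPGroup p N)
    (P : Sylow p G) (Q : Sylow q G)
    (hPM : (P : Subgroup G) ≤ Subgroup.normalizer (((Q : Subgroup G) ⊔ N : Subgroup G) : Set G)) :
    (P : Subgroup G) ≤ Subgroup.normalizer ((Q : Subgroup G) : Set G) := by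
  have key : ∀ g ∈ (P : Subgroup G), ∀ y ∈ (Q : Subgroup G), g * y * g⁻¹ ∈ (Q : Subgroup G) := by
    intro g hg y hy
    have hgN := hPM hg
    rw [Subgroup.mem_normalizer_iff] at hgN
    have hz : g * y * g⁻¹ ∈ (Q : Subgroup G) ⊔ N := (hgN y).1 (Subgroup.mem_sup_left hy)
    obtain ⟨y', hy', n, hn, hyn⟩ := Subgroup.mem_sup_of_normal_right.1 hz
    obtain ⟨k, hk⟩ := Q.isPGroup' ⟨y, hy⟩
    have hyk : y ^ (q ^ k) = 1 := by
      have := congrArg Subtype.val hk
      simpa using this
    obtain ⟨k', hk'⟩ := Q.isPGroup' ⟨y', hy'⟩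
    have hyk' : y' ^ (q ^ k') = 1 := by
      have := congrArg Subtype.val hk'
      simpa using this
    obtain ⟨l, hl⟩ := hN ⟨n, hn⟩
    have hnl : n ^ (p ^ l) = 1 := by
      have := congrArg Subtype.val hl
      simpa using this
    -- `n` commutes with `y'`
    have hy'q : ∃ j, orderOf y' = q ^ j := by
      obtain ⟨j, -, hj⟩ := (Nat.dvd_prime_pow Fact.out).1 (orderOf_dvd_of_pow_eq_one hyk')
      exact ⟨j, hj⟩
    have hNC := normal_pSubgroup_le_of_index N hN _ (h y' hy'q)
    have hcomm : Commute y' n := by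
      have := hNC hn
      rw [Subgroup.mem_centralizer_singleton_iff] at this
      exact this.symm
    have hzpow : (g * y * g⁻¹) ^ (q ^ (k + k')) = 1 := by
      rw [conj_pow, pow_add, pow_mul, hyk, one_pow]
      group
    rw [← hyn, hcomm.mul_pow] at hzpow
    have : y' ^ (q ^ (k + k')) = 1 := by
      rw [add_comm, pow_add, pow_mul, hyk', one_pow]
    rw [this, one_mul] at hzpow
    have hn1 : n = 1 := eq_one_of_pow_pow hpq n hnl hzpow
    rw [← hyn, hn1, mul_one]
    exact hy'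
  intro g hg
  rw [Subgroup.mem_normalizer_iff]
  intro y
  constructor
  · exact key g hg y
  · intro hy
    have := key g⁻¹ (Subgroup.inv_mem _ hg) _ hy
    simpa [mul_assoc] using this

/-- Case of a normal `q`-subgroup. -/
theorem step_c {G : Type*} [Group G] {p q : ℕ} [Fact q.Prime]
    (N : Subgroup G) [N.Normal] (hN : IsPGroup q N)
    (P : Sylow p G) (Q : Sylow q G)
    (hPM : (P : Subgroup G) ≤ Subgroup.normalizer (((Q : Subgroup G) ⊔ N : Subgroup G) : Set G)) :
    (P : Subgroup G) ≤ Subgroup.normalizer ((Q : Subgroup G) : Set G) := by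
  have : (Q : Subgroup G) ⊔ N = Q := sup_eq_left.2 (normal_le_sylow N hN Q)
  rwa [this] at hPM

/-- Cases of a normal `p'`-subgroup or a normal `q'`-subgroup. -/
theorem step_bd {G : Type*} [Group G] [Finite G] {p q : ℕ} [Fact p.Prime] [Fact q.Prime]
    (N : Subgroup G) [N.Normal] (P : Sylow p G) (Q : Sylow q G)
    (hPM : (P : Subgroup G) ≤ Subgroup.normalizer (((Q : Subgroup G) ⊔ N : Subgroup G) : Set G))
    (hidx : ¬ p ∣ (Subgroup.normalizer ((Q : Subgroup G) : Set G)).relIndex N) : Concl p q G := by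
  set NQ := Subgroup.normalizer ((Q : Subgroup G) : Set G) with hNQ
  -- Step 1: `P ≤ NQ ⊔ N`
  have h1 : (P : Subgroup G) ≤ NQ ⊔ N := by
    intro g hg
    have hgM := hPM hg
    have hcjM : cj g ((Q : Subgroup G) ⊔ N) = (Q : Subgroup G) ⊔ N := cj_eq_self_iff.2 hgM
    have hcjQ : cj g (Q : Subgroup G) ≤ (Q : Subgroup G) ⊔ N := by
      rw [← hcjM]; exact cj_mono le_sup_left
    have hQi : ¬ q ∣ (Q : Subgroup G).relIndex ((Q : Subgroup G) ⊔ N) := fun h =>
      Q.not_dvd_index (h.trans (Subgroup.relIndex_dvd_index_of_le le_sup_left))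
    obtain ⟨k, hk, hkeq⟩ := sylow_cj_of_facts ((Q : Subgroup G) ⊔ N) (Q : Subgroup G)
      (cj g (Q : Subgroup G)) le_sup_left Q.2 hQi hcjQ (isPGroup_cj Q.2) (card_cj g _)
    have hk' : k ∈ N ⊔ (Q : Subgroup G) := by rwa [sup_comm]
    obtain ⟨n, hn, y, hy, rfl⟩ := Subgroup.mem_sup_of_normal_left.1 hk'
    rw [cj_mul, cj_eq_self_of_mem hy] at hkeq
    have hfix : cj (n⁻¹ * g) (Q : Subgroup G) = Q := by rw [cj_mul, hkeq, cj_inv_cj]
    have hmem : n⁻¹ * g ∈ NQ := cj_eq_self_iff.1 hfix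
    have hg' : g = n * (n⁻¹ * g) := by group
    rw [hg']
    exact Subgroup.mul_mem _ (Subgroup.mem_sup_right hn) (Subgroup.mem_sup_left hmem)
  -- Step 2: a Sylow `p`-subgroup of `NQ`
  obtain ⟨S⟩ : Nonempty (Sylow p NQ) := Sylow.nonempty
  obtain ⟨hUle, hUp, hUi⟩ := sylow_map_facts NQ S
  have hUK : (S : Subgroup NQ).map NQ.subtype ≤ NQ ⊔ N := hUle.trans le_sup_left
  have hUi' : ¬ p ∣ ((S : Subgroup NQ).map NQ.subtype).relIndex (NQ ⊔ N) := by
    rw [← Subgroup.relIndex_mul_relIndex _ NQ (NQ ⊔ N) hUle le_sup_left, relIndex_sup_of_normal]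
    intro h
    rcases (Nat.Prime.dvd_mul Fact.out).1 h with h | h
    · exact hUi h
    · exact hidx h
  obtain ⟨c, hc, hcle⟩ := sylow_sub hUK hUp hUi' h1 P.2
  have h2 : cj c (P : Subgroup G) ≤ NQ := hcle.trans hUle
  have h3 : (P : Subgroup G) ≤
      Subgroup.normalizer ((cj c⁻¹ (Q : Subgroup G) : Subgroup G) : Set G) := by
    rw [normalizer_cj]; exact cj_le_iff.1 h2
  refine ⟨P, c⁻¹ • Q, ?_⟩
  rw [Sylow.coe_subgroup_smul, ← cj_eq_smul]
  exact h3

theorem not_dvd_relIndex_of_coprime {G : Type*} [Group G] [Finite G] {p q : ℕ} [Fact p.Prime]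
    [Fact q.Prime] (h : Hyp p q G) (N : Subgroup G) [N.Normal] (hNq : (Nat.card N).Coprime q)
    (Q : Sylow q G) : ¬ p ∣ (Subgroup.normalizer ((Q : Subgroup G) : Set G)).relIndex N := by
  have hQN : (Q : Subgroup G) ≤ Subgroup.normalizer (N : Set G) := by
    rw [Subgroup.normalizer_eq_top]; exact le_top
  have hcop : (Nat.card (Q : Subgroup G)).Coprime (Nat.card N) := by
    obtain ⟨k, hk⟩ := IsPGroup.iff_card.1 Q.2
    rw [hk]
    exact Nat.Coprime.pow_left _ hNq.symm
  have hnilQ : Group.IsNilpotent (Q : Subgroup G) := Q.2.isNilpotent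
  have hsolvQ : Group.IsSolvable (Q : Subgroup G) := inferInstance
  obtain ⟨S, hS⟩ := exists_invariant_sylow (p := p) (Q : Subgroup G) N hQN hcop (Or.inl hsolvQ)
  obtain ⟨hS'le, hS'p, hS'i⟩ := sylow_map_facts N S
  -- claim: `S' ≤ centralizer Q`
  have hcen : (S : Subgroup N).map N.subtype ≤ Subgroup.centralizer ((Q : Subgroup G) : Set G) := by
    intro s hs
    rw [Subgroup.mem_centralizer_iff]
    intro y hy
    have hAQ : Subgroup.zpowers y ≤ (Q : Subgroup G) := (Subgroup.zpowers_le).2 hy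
    have hAN : Subgroup.zpowers y ≤ Subgroup.normalizer (N : Set G) := hAQ.trans hQN
    have hAcop : (Nat.card (Subgroup.zpowers y)).Coprime (Nat.card N) :=
      Nat.Coprime.coprime_dvd_left (Subgroup.card_dvd_of_le hAQ) hcop
    have hAsolv : Group.IsSolvable (Subgroup.zpowers y) := inferInstance
    have hAS : Subgroup.zpowers y ≤
        Subgroup.normalizer (((S : Subgroup N).map N.subtype : Subgroup G) : Set G) := hAQ.trans hS
    have hy_q : ∃ k, orderOf y = q ^ k := by
      obtain ⟨k, hk⟩ := Q.isPGroup' ⟨y, hy⟩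
      have hyk : y ^ (q ^ k) = 1 := by
        have := congrArg Subtype.val hk
        simpa using this
      obtain ⟨j, -, hj⟩ := (Nat.dvd_prime_pow Fact.out).1 (orderOf_dvd_of_pow_eq_one hyk)
      exact ⟨j, hj⟩
    have hC := h y hy_q
    set C := Subgroup.centralizer ({y} : Set G) with hCdef
    have hCN : ¬ p ∣ (C ⊓ N).relIndex N := by
      rw [Subgroup.inf_relIndex_right, ← relIndex_sup_of_normal]
      exact fun hd => hC (hd.trans (Subgroup.relIndex_dvd_index_of_le le_sup_left))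
    obtain ⟨S1⟩ : Nonempty (Sylow p (C ⊓ N : Subgroup G)) := Sylow.nonempty
    obtain ⟨h1le, h1p, h1i⟩ := sylow_map_facts (C ⊓ N) S1
    have h1N : (S1 : Subgroup (C ⊓ N : Subgroup G)).map (C ⊓ N).subtype ≤ N := h1le.trans inf_le_right
    have h1C : (S1 : Subgroup (C ⊓ N : Subgroup G)).map (C ⊓ N).subtype ≤ C := h1le.trans inf_le_left
    have h1i' : ¬ p ∣ ((S1 : Subgroup (C ⊓ N : Subgroup G)).map (C ⊓ N).subtype).relIndex N := by
      rw [← Subgroup.relIndex_mul_relIndex _ (C ⊓ N) N h1le inf_le_right]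
      intro hd
      rcases (Nat.Prime.dvd_mul Fact.out).1 hd with hd | hd
      · exact h1i hd
      · exact hCN hd
    obtain ⟨T, hT⟩ := exists_sylow_map_eq N _ h1N h1p h1i'
    have hycen : y ∈ Subgroup.centralizer
        (((S1 : Subgroup (C ⊓ N : Subgroup G)).map (C ⊓ N).subtype : Subgroup G) : Set G) := by
      rw [Subgroup.mem_centralizer_iff]
      intro z hz
      have := h1C hz
      rw [hCdef, Subgroup.mem_centralizer_singleton_iff] at this
      exact this
    have hAT : Subgroup.zpowers y ≤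
        Subgroup.normalizer (((T : Subgroup N).map N.subtype : Subgroup G) : Set G) := by
      rw [hT]
      exact ((Subgroup.zpowers_le).2 hycen).trans (Subgroup.centralizer_le_normalizer _)
    obtain ⟨c, hc, hcc⟩ := invariant_sylow_conj (Subgroup.zpowers y) N hAN hAcop (Or.inl hAsolv)
      T S hAT hAS
    rw [hT] at hcc
    rw [← hcc, mem_cj] at hs
    have hs' := h1C hs
    rw [hCdef, Subgroup.mem_centralizer_singleton_iff] at hs'
    have hcy : c * y = y * c := by
      have : c ∈ Subgroup.centralizer ((Subgroup.zpowers y : Subgroup G) : Set G) := hc.2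
      rw [Subgroup.mem_centralizer_iff] at this
      exact (this y (Subgroup.mem_zpowers y)).symm
    -- hs' : c⁻¹ * s * c * y = y * (c⁻¹ * s * c)
    have hcy' : c⁻¹ * y = y * c⁻¹ := by
      have : c⁻¹ * (c * y) * c⁻¹ = c⁻¹ * (y * c) * c⁻¹ := by rw [hcy]
      simpa [mul_assoc] using this.symm
    calc y * s = c * (y * (c⁻¹ * s * c)) * c⁻¹ := by
          rw [← mul_assoc c y, hcy]; group
      _ = c * (c⁻¹ * s * c * y) * c⁻¹ := by rw [hs']
      _ = s * (c * y * c⁻¹) := by group
      _ = s * y := by rw [hcy]; group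
  -- conclusion
  intro hd
  have hle : (S : Subgroup N).map N.subtype ≤
      Subgroup.normalizer ((Q : Subgroup G) : Set G) ⊓ N :=
    le_inf (hcen.trans (Subgroup.centralizer_le_normalizer _)) hS'le
  have h2 : (Subgroup.normalizer ((Q : Subgroup G) : Set G) ⊓ N).relIndex N ∣
      ((S : Subgroup N).map N.subtype).relIndex N := Subgroup.relIndex_dvd_of_le_left N hle
  rw [Subgroup.inf_relIndex_right] at h2
  exact hS'i (hd.trans h2)

theorem lift {G : Type*} [Group G] [Finite G] {p q : ℕ} [Fact p.Prime] [Fact q.Prime]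
    (N : Subgroup G) [N.Normal] (hc : Concl p q (G ⧸ N)) :
    ∃ (P : Sylow p G) (Q : Sylow q G), (P : Subgroup G) ≤
      Subgroup.normalizer (((Q : Subgroup G) ⊔ N : Subgroup G) : Set G) := by
  obtain ⟨Pb, Qb, hb⟩ := hc
  obtain ⟨P, rfl⟩ := Sylow.mapSurjective_surjective (QuotientGroup.mk'_surjective N) p Pb
  obtain ⟨Q, rfl⟩ := Sylow.mapSurjective_surjective (QuotientGroup.mk'_surjective N) q Qb
  refine ⟨P, Q, ?_⟩
  intro g hg
  have h1 : QuotientGroup.mk' N g ∈ Subgroup.normalizer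
      (((Q : Subgroup G).map (QuotientGroup.mk' N) : Subgroup (G ⧸ N)) : Set (G ⧸ N)) := by
    apply hb
    rw [Sylow.coe_mapSurjective]
    exact Subgroup.mem_map_of_mem _ hg
  have h2 := Subgroup.le_normalizer_comap (H := (Q : Subgroup G).map (QuotientGroup.mk' N))
    (QuotientGroup.mk' N) (Subgroup.mem_comap.2 h1)
  rw [Subgroup.comap_map_eq, QuotientGroup.ker_mk'] at h2
  exact h2

theorem main (p q : ℕ) [Fact p.Prime] [Fact q.Prime] (hpq : p ≠ q) :
    ∀ (n : ℕ) (G : Type u) [Group G] [Finite G], Nat.card G = n →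
      (IsPSolvable p G ∨ IsPSolvable q G) → Hyp p q G → Concl p q G := by
  intro n
  induction n using Nat.strong_induction_on with
  | _ n ih =>
    intro G _ _ hn hsolv h
    by_cases htriv : Subsingleton G
    · obtain ⟨P⟩ : Nonempty (Sylow p G) := Sylow.nonempty
      obtain ⟨Q⟩ : Nonempty (Sylow q G) := Sylow.nonempty
      refine ⟨P, Q, fun g _ => ?_⟩
      have : g = 1 := Subsingleton.elim _ _
      rw [this]; exact Subgroup.one_mem _
    · have : Nontrivial G := not_subsingleton_iff_nontrivial.1 htriv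
      have hN : ∃ N : Subgroup G, N.Normal ∧ N ≠ ⊥ ∧
          (IsPGroup p N ∨ (Nat.card N).Coprime p ∨ IsPGroup q N ∨ (Nat.card N).Coprime q) := by
        rcases hsolv with hs | hs
        · obtain ⟨N, h1, h2, h3⟩ := exists_normal_of_isPSolvable hs
          rcases h3 with h3 | h3
          · exact ⟨N, h1, h2, Or.inl h3⟩
          · exact ⟨N, h1, h2, Or.inr (Or.inl h3)⟩
        · obtain ⟨N, h1, h2, h3⟩ := exists_normal_of_isPSolvable hs
          rcases h3 with h3 | h3
          · exact ⟨N, h1, h2, Or.inr (Or.inr (Or.inl h3))⟩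
          · exact ⟨N, h1, h2, Or.inr (Or.inr (Or.inr h3))⟩
      obtain ⟨N, hNn, hNbot, hNcase⟩ := hN
      have := hNn
      have hlt : Nat.card (G ⧸ N) < n := by
        rw [← hn, Subgroup.card_eq_card_quotient_mul_card_subgroup N]
        have h1 : 1 < Nat.card N := (Subgroup.one_lt_card_iff_ne_bot N).2 hNbot
        have h2 : 0 < Nat.card (G ⧸ N) := Nat.card_pos
        nlinarith
      have hsolv' : IsPSolvable p (G ⧸ N) ∨ IsPSolvable q (G ⧸ N) := by
        rcases hsolv with hs | hs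
        · exact Or.inl (isPSolvable_quotient N hs)
        · exact Or.inr (isPSolvable_quotient N hs)
      have hq := ih _ hlt (G ⧸ N) rfl hsolv' (hyp_quotient N h)
      obtain ⟨P, Q, hPM⟩ := lift N hq
      rcases hNcase with hp | hp' | hq | hq'
      · exact ⟨P, Q, step_a hpq h N hp P Q hPM⟩
      · refine step_bd N P Q hPM (fun hd => ?_)
        have h1 : (Subgroup.normalizer ((Q : Subgroup G) : Set G)).relIndex N ∣ Nat.card N :=
          Subgroup.relIndex_dvd_card _ _
        exact (Nat.Prime.coprime_iff_not_dvd Fact.out).1 hp'.symm (hd.trans h1)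
      · exact ⟨P, Q, step_c N hq P Q hPM⟩
      · exact step_bd N P Q hPM (not_dvd_relIndex_of_coprime h N hq' Q)

/-- Let p and q be primes and G a finite group that is p-solvable or q-solvable, in which no q-element has conjugacy class size divisible by p. Then some Sylow p-subgroup of G normalizes some Sylow q-subgroup of G. -/
theorem result {G : Type*} [Group G] [Finite G] (p q : ℕ) [Fact p.Prime] [Fact q.Prime] (hsolv : Cfsg.IsPSolvable p G ∨ Cfsg.IsPSolvable q G)
    (h : ∀ y : G, (∃ k : ℕ, orderOf y = q ^ k) → ¬ p ∣ (Subgroup.centralizer ({y} : Set G)).index) :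
    ∃ (P : Sylow p G) (Q : Sylow q G), (P : Subgroup G) ≤ Subgroup.normalizer ((Q : Subgroup G) : Set G) := by
  by_cases hpq : p = q
  · subst hpq
    obtain ⟨P⟩ : Nonempty (Sylow p G) := Sylow.nonempty
    exact ⟨P, P, Subgroup.le_normalizer⟩
  · exact main p q hpq _ G rfl hsolv h

end Cfsg.Agent.S4601
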