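import Cfsg.Statements.S4602
import Cfsg.Agent.Lib.Helper76.PSolvable
import Cfsg.Agent.Lib.Helper32.PPrimeP

set_option autoImplicit false
open Cfsg

namespace Cfsg.Agent.S4602

open Cfsg.Agent.Lib.Helper76 Cfsg.Agent.Lib.Helper55 Cfsg.Agent.Lib.Helper32

/-- an element killed by a power of `p` and a power of `q` is trivial -/
theorem eq_one_of_pow_pow {H : Type*} [Group H] {p q : ℕ} [hp : Fact p.Prime] [hq : Fact q.Prime]
    (hpq : p ≠ q) (y : H) {a b : ℕ} (h1 : y ^ (p ^ a) = 1) (h2 : y ^ (q ^ b) = 1) : y = 1 := by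
  have d1 : orderOf y ∣ p ^ a := orderOf_dvd_of_pow_eq_one h1
  have d2 : orderOf y ∣ q ^ b := orderOf_dvd_of_pow_eq_one h2
  have hc : (p ^ a).Coprime (q ^ b) :=
    Nat.Coprime.pow _ _ ((Nat.coprime_primes hp.out hq.out).2 hpq)
  have : orderOf y ∣ 1 := by
    have := Nat.dvd_gcd d1 d2
    rwa [hc] at this
  exact orderOf_eq_one_iff.mp (Nat.dvd_one.mp this)

theorem forward {G : Type*} [Group G] [Finite G] (p q : ℕ) [Fact p.Prime] [Fact q.Prime]
    (hpq : p ≠ q) (hsolv : Cfsg.IsPSolvable p G) (P : Sylow p G) (Q : Sylow q G)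
    (hPQ : (P : Subgroup G) ≤ Subgroup.normalizer ((Q : Subgroup G) : Set G)) :
    (Q : Subgroup G) ≤ Cfsg.pPrimeCore p G := by
  have hKn : (pPrimeCore p G).Normal := pPrimeCore_normal' p
  have hbot : pPrimeCore p (G ⧸ pPrimeCore p G) = ⊥ := pPrimeCore_quotient_eq_bot p
  have hsolv' : IsPSolvable p (G ⧸ pPrimeCore p G) := isPSolvable_quotient _ hsolv
  have hHH := centralizer_pCore_le_of_isPSolvable hsolv' hbot
  have hRp : IsPGroup p (pCore p (G ⧸ pPrimeCore p G)) := pCore_isPGroup p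
  have hRn : (pCore p (G ⧸ pPrimeCore p G)).Normal := pCore_normal' p
  -- `R` is the image of `P ⊓ O_{p',p}`
  have hR : pCore p (G ⧸ pPrimeCore p G) =
      ((P : Subgroup G) ⊓ pPrimePCore p G).map (QuotientGroup.mk' (pPrimeCore p G)) := by
    have h1 := pPrimeCore_sup_sylow_inf (G := G) P
    have h2 : (pPrimePCore p G).map (QuotientGroup.mk' (pPrimeCore p G)) =
        pCore p (G ⧸ pPrimeCore p G) := by
      unfold pPrimePCore
      exact Subgroup.map_comap_eq_self_of_surjective (QuotientGroup.mk'_surjective _) _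
    have h3 : (pPrimeCore p G).map (QuotientGroup.mk' (pPrimeCore p G)) = ⊥ :=
      QuotientGroup.map_mk'_self _
    calc pCore p (G ⧸ pPrimeCore p G)
        = (pPrimePCore p G).map (QuotientGroup.mk' (pPrimeCore p G)) := h2.symm
      _ = (pPrimeCore p G ⊔ (P : Subgroup G) ⊓ pPrimePCore p G).map
            (QuotientGroup.mk' (pPrimeCore p G)) := by rw [h1]
      _ = _ := by rw [Subgroup.map_sup, h3, bot_sup_eq]
  intro x hx
  obtain ⟨b, hb⟩ := Q.isPGroup' ⟨x, hx⟩
  have hxb : x ^ (q ^ b) = 1 := by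
    have := congrArg Subtype.val hb
    simpa using this
  have hxc : (QuotientGroup.mk' (pPrimeCore p G) x) ∈
      Subgroup.centralizer (pCore p (G ⧸ pPrimeCore p G) : Set (G ⧸ pPrimeCore p G)) := by
    rw [Subgroup.mem_centralizer_iff]
    intro rbar hrbar
    rw [SetLike.mem_coe, hR] at hrbar
    obtain ⟨r, hr, rfl⟩ := hrbar
    have hrP : r ∈ (P : Subgroup G) := hr.1
    have hrN := hPQ hrP
    rw [Subgroup.mem_normalizer_iff] at hrN
    have hcQ : r * x * r⁻¹ * x⁻¹ ∈ (Q : Subgroup G) :=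
      (Q : Subgroup G).mul_mem ((hrN x).1 hx) ((Q : Subgroup G).inv_mem hx)
    obtain ⟨c, hc⟩ := Q.isPGroup' ⟨_, hcQ⟩
    have hcq : (r * x * r⁻¹ * x⁻¹) ^ (q ^ c) = 1 := by
      have := congrArg Subtype.val hc
      simpa using this
    set f := QuotientGroup.mk' (pPrimeCore p G) with hf
    have hrR : f r ∈ pCore p (G ⧸ pPrimeCore p G) := by
      rw [hR]; exact ⟨r, hr, rfl⟩
    have hcR : f (r * x * r⁻¹ * x⁻¹) ∈ pCore p (G ⧸ pPrimeCore p G) := by
      have e : f (r * x * r⁻¹ * x⁻¹) = f r * (f x * (f r)⁻¹ * (f x)⁻¹) := by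
        simp only [map_mul, map_inv, mul_assoc]
      rw [e]
      exact Subgroup.mul_mem _ hrR (hRn.conj_mem _ (Subgroup.inv_mem _ hrR) _)
    obtain ⟨a, ha⟩ := hRp ⟨_, hcR⟩
    have hcp : (f (r * x * r⁻¹ * x⁻¹)) ^ (p ^ a) = 1 := by
      have := congrArg Subtype.val ha
      simpa using this
    have hcq' : (f (r * x * r⁻¹ * x⁻¹)) ^ (q ^ c) = 1 := by
      rw [← map_pow, hcq, map_one]
    have h1 := eq_one_of_pow_pow hpq _ hcp hcq'
    have e : f (r * x * r⁻¹ * x⁻¹) = f r * f x * (f r)⁻¹ * (f x)⁻¹ := by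
      simp only [map_mul, map_inv]
    rw [e] at h1
    -- f r * f x = f x * f r
    have : f r * f x = f x * f r := by
      have h2 : f r * f x * (f r)⁻¹ * (f x)⁻¹ * (f x) * (f r) = 1 * (f x) * (f r) := by rw [h1]
      simpa [mul_assoc] using h2
    exact this
  have hxR := hHH hxc
  obtain ⟨a, ha⟩ := hRp ⟨_, hxR⟩
  have hxp : (QuotientGroup.mk' (pPrimeCore p G) x) ^ (p ^ a) = 1 := by
    have := congrArg Subtype.val ha
    simpa using this
  have hxq : (QuotientGroup.mk' (pPrimeCore p G) x) ^ (q ^ b) = 1 := by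
    rw [← map_pow, hxb, map_one]
  have h1 := eq_one_of_pow_pow hpq _ hxp hxq
  have := (QuotientGroup.eq_one_iff (N := pPrimeCore p G) x).1 h1
  exact this

/-- Let G be a finite p-solvable group and q a prime different from p. Some Sylow p-subgroup of G normalizes some Sylow q-subgroup of G if and only if q does not divide the order of G/O_{p'}(G), the quotient by the largest normal subgroup of order prime to p. -/
theorem result {G : Type*} [Group G] [Finite G] (p q : ℕ) [Fact p.Prime] [Fact q.Prime] (hpq : p ≠ q) (hsolv : Cfsg.IsPSolvable p G) :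
    (∃ (P : Sylow p G) (Q : Sylow q G), (P : Subgroup G) ≤ Subgroup.normalizer ((Q : Subgroup G) : Set G)) ↔ ¬ q ∣ (Cfsg.pPrimeCore p G).index := by
  have hKn : (pPrimeCore p G).Normal := pPrimeCore_normal' p
  constructor
  · rintro ⟨P, Q, hPQ⟩ hdvd
    have hQK := forward p q hpq hsolv P Q hPQ
    have h1 : (pPrimeCore p G).index ∣ (Q : Subgroup G).index := Subgroup.index_dvd_of_le hQK
    exact Q.not_dvd_index (hdvd.trans h1)
  · intro hq
    obtain ⟨Q⟩ : Nonempty (Sylow q G) := Sylow.nonempty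
    obtain ⟨P⟩ : Nonempty (Sylow p G) := Sylow.nonempty
    -- `Q ≤ K`
    have hQK : (Q : Subgroup G) ≤ pPrimeCore p G := by
      intro x hx
      obtain ⟨b, hb⟩ := Q.isPGroup' ⟨x, hx⟩
      have hxb : x ^ (q ^ b) = 1 := by
        have := congrArg Subtype.val hb
        simpa using this
      have hxq : (QuotientGroup.mk' (pPrimeCore p G) x) ^ (q ^ b) = 1 := by
        rw [← map_pow, hxb, map_one]
      have d1 : orderOf (QuotientGroup.mk' (pPrimeCore p G) x) ∣ q ^ b := orderOf_dvd_of_pow_eq_one hxq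
      have d2 : orderOf (QuotientGroup.mk' (pPrimeCore p G) x) ∣ (pPrimeCore p G).index := by
        rw [Subgroup.index_eq_card]
        exact orderOf_dvd_natCard _
      have hc : (q ^ b).Coprime (pPrimeCore p G).index :=
        Nat.Coprime.pow_left _ ((Nat.Prime.coprime_iff_not_dvd Fact.out).2 hq)
      have : orderOf (QuotientGroup.mk' (pPrimeCore p G) x) ∣ 1 := by
        have := Nat.dvd_gcd d1 d2
        rwa [hc] at this
      have h1 := orderOf_eq_one_iff.mp (Nat.dvd_one.mp this)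
      exact (QuotientGroup.eq_one_iff (N := pPrimeCore p G) x).1 h1
    have hfr : Subgroup.normalizer ((Q : Subgroup G) : Set G) ⊔ pPrimeCore p G = ⊤ :=
      Sylow.normalizer_sup_eq_top' Q hQK
    have hci : Nat.card (Sylow q G) = (Subgroup.normalizer ((Q : Subgroup G) : Set G)).index :=
      Sylow.card_eq_index_normalizer Q
    have hcard : Nat.card (Sylow q G) ∣ Nat.card (pPrimeCore p G) := by
      rw [hci]
      have h1 := card_sup_dvd_mul (Subgroup.normalizer ((Q : Subgroup G) : Set G)) (pPrimeCore p G)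
      rw [hfr, Subgroup.card_top,
        ← Subgroup.card_mul_index (Subgroup.normalizer ((Q : Subgroup G) : Set G))] at h1
      exact Nat.dvd_of_mul_dvd_mul_left Nat.card_pos h1
    have hnd : ¬ p ∣ Nat.card (Sylow q G) := by
      intro h
      have h2 := pPrimeCore_card_coprime (G := G) p
      exact (Nat.Prime.coprime_iff_not_dvd Fact.out).1 h2.symm (h.trans hcard)
    obtain ⟨Q1, hQ1⟩ := P.2.nonempty_fixed_point_of_prime_not_dvd_card (Sylow q G) hnd
    exact ⟨P, Q1, (Subgroup.sylow_mem_fixedPoints_iff _).1 hQ1⟩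

end Cfsg.Agent.S4602
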