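import Cfsg.Statements.S4604
import Cfsg.Agent.S0876
import Cfsg.Agent.Lib.Helper81.PSection
import Cfsg.Agent.Lib.Helper81.LocalRing
import Cfsg.Agent.Lib.Helper80.JointEigen
import Cfsg.Agent.Lib.Helper74.Osima5
import Cfsg.Agent.Lib.Helper3.Degree

set_option autoImplicit false
set_option linter.style.haveILetI false
open Cfsg

namespace Cfsg.Agent.S4604

open Cfsg.Agent.Lib.Helper3 Cfsg.Agent.Lib.Helper81

universe u

section Aux

variable {G : Type u} [Group G] [Finite G]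

/-- `p` is not a unit in the ring of algebraic integers -/
theorem natCast_mem_nonunits (p : ℕ) (hp : p.Prime) : (p : AlgInt) ∈ nonunits AlgInt := by
  obtain ⟨M, hM⟩ := Cfsg.Agent.Lib.Helper74.exists_isPModular hp
  intro hu
  exact hM.2.1.ne_top (Ideal.eq_top_of_isUnit_mem _ hM.2.2 hu)

/-- `χ(g)^(p^a) ≡ χ(g^(p^a))` modulo `p` -/
theorem char_pow_congr (p : ℕ) [hp : Fact p.Prime] {χ : G → ℂ} (hχ : IsCharacter G χ) (g : G)
    (a : ℕ) : ∃ γ : AlgInt, χ g ^ (p ^ a) - χ (g ^ (p ^ a)) = (p : ℂ) * (γ : ℂ) := by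
  obtain ⟨n, α, β, hα, hβ, hval⟩ :=
    Cfsg.Agent.Lib.Helper80.exists_joint_eigenvalues hχ g 1 (by simp)
  have hβ1 : ∀ i, β i = 1 := by
    intro i
    have := hβ i
    rwa [orderOf_one, pow_one] at this
  have hv : ∀ s : ℕ, χ (g ^ s) = ∑ i, α i ^ s := by
    intro s
    have := hval s 0
    simpa using this
  have hint : ∀ i, IsIntegral ℤ (α i) := fun i =>
    IsIntegral.of_pow (orderOf_pos g) (by rw [hα i]; exact isIntegral_one)
  let z : Fin n → AlgInt := fun i => ⟨α i, hint i⟩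
  haveI := CharP.quotient AlgInt p (natCast_mem_nonunits p hp.out)
  have hq : (Ideal.Quotient.mk (Ideal.span {(p : AlgInt)}))
      ((∑ i, z i) ^ (p ^ a) - ∑ i, z i ^ (p ^ a)) = 0 := by
    rw [map_sub, map_pow, map_sum, map_sum, sum_pow_char_pow]
    simp only [map_pow, sub_self]
  rw [Ideal.Quotient.eq_zero_iff_mem, Ideal.mem_span_singleton] at hq
  obtain ⟨γ, hγ⟩ := hq
  refine ⟨γ, ?_⟩
  have h1 := congrArg (fun u : AlgInt => (u : ℂ)) hγ
  have h2 := hv 1
  rw [pow_one] at h2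
  rw [h2, hv]
  simp only [z] at h1
  simp only [pow_one]
  convert h1 using 1
  · push_cast
    rfl
  · push_cast
    rfl

end Aux

/-- Let G be a finite group, p a prime and p^a the p-part of the order of G. Let x, y ∈ G and let x′, y′ be their p-regular parts: x′ has order prime to p, commutes with x·x′⁻¹, and x·x′⁻¹ has p-power order (likewise for y). Then x′ and y′ are conjugate in G if and only if for every irreducible character χ of G the algebraic integer χ(x)^(p^a) − χ(y)^(p^a) is p times an algebraic integer. -/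
theorem result {G : Type*} [Group G] [Finite G] (p : ℕ) [Fact p.Prime] (x y x' y' : G)
    (hx : (∃ k : ℕ, orderOf (x * x'⁻¹) = p ^ k) ∧ Commute (x * x'⁻¹) x' ∧ ¬ p ∣ orderOf x')
    (hy : (∃ k : ℕ, orderOf (y * y'⁻¹) = p ^ k) ∧ Commute (y * y'⁻¹) y' ∧ ¬ p ∣ orderOf y') :
    IsConj x' y' ↔ ∀ χ : Cfsg.IrrCharacter G, ∃ γ : Cfsg.AlgInt,
      (χ : G → ℂ) x ^ (p ^ (Nat.card G).factorization p) - (χ : G → ℂ) y ^ (p ^ (Nat.card G).factorization p) = (p : ℂ) * (γ : ℂ) := by
  classical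
  have hp : p.Prime := Fact.out
  set a := (Nat.card G).factorization p with ha
  -- x ^ (p^a) = x' ^ (p^a)
  have hpow : ∀ (w w' : G), (∃ k : ℕ, orderOf (w * w'⁻¹) = p ^ k) → Commute (w * w'⁻¹) w' →
      w ^ (p ^ a) = w' ^ (p ^ a) := by
    intro w w' ⟨k, hk⟩ hcomm
    have h1 : w = (w * w'⁻¹) * w' := by group
    have h2 : (w * w'⁻¹) ^ (p ^ a) = 1 := by
      apply orderOf_dvd_iff_pow_eq_one.1
      rw [hk]
      apply pow_dvd_pow
      have h3 : p ^ k ∣ Nat.card G := hk ▸ orderOf_dvd_natCard _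
      exact (Nat.Prime.pow_dvd_iff_le_factorization hp Nat.card_pos.ne').1 h3
    conv_lhs => rw [h1]
    rw [hcomm.mul_pow, h2, one_mul]
  constructor
  · intro hconj χ
    have hχ := IsIrrCharacter.isCharacter χ.2
    obtain ⟨γ₁, h1⟩ := char_pow_congr p hχ x a
    obtain ⟨γ₂, h2⟩ := char_pow_congr p hχ y a
    have h3 : (χ : G → ℂ) (x ^ (p ^ a)) = (χ : G → ℂ) (y ^ (p ^ a)) := by
      rw [hpow x x' hx.1 hx.2.1, hpow y y' hy.1 hy.2.1]
      obtain ⟨c, hc⟩ := isConj_iff.1 hconj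
      rw [← hc, conj_pow]
      exact (IsCharacter.isClassFunction hχ _ c).symm
    refine ⟨γ₁ - γ₂, ?_⟩
    push_cast
    rw [mul_sub, ← h1, ← h2, h3]
    ring
  · intro h
    obtain ⟨M, hM⟩ := Cfsg.Agent.Lib.Helper74.exists_isPModular hp
    have hMp : M.IsPrime := isPrime_of_isPModular hM
    have hPx : Cfsg.IsPPart p x (x * x'⁻¹) :=
      ⟨x', by group, hx.2.1, hx.1, hx.2.2⟩
    have hPy : Cfsg.IsPPart p y (y * y'⁻¹) :=
      ⟨y', by group, hy.2.1, hy.1, hy.2.2⟩
    have h0 := (Cfsg.Agent.S0876.result p M hM x y _ _ hPx hPy).2 ?_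
    · have e1 : (x * x'⁻¹)⁻¹ * x = x' := by group
      have e2 : (y * y'⁻¹)⁻¹ * y = y' := by group
      rwa [e1, e2] at h0
    intro χ
    have hχ := IsIrrCharacter.isCharacter χ.2
    obtain ⟨γ, hγ⟩ := h χ
    let u : AlgInt := ⟨(χ : G → ℂ) x, IsCharacter.isIntegral hχ x⟩
    let v : AlgInt := ⟨(χ : G → ℂ) y, IsCharacter.isIntegral hχ y⟩
    have huv : u ^ (p ^ a) - v ^ (p ^ a) = (p : AlgInt) * γ := by
      apply Subtype.ext
      push_cast
      exact hγ
    haveI := charP_quotient_of_isPModular hM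
    have hq : (Ideal.Quotient.mk M) (u - v) ^ (p ^ a) = 0 := by
      rw [map_sub, sub_pow_char_pow, ← map_pow, ← map_pow, ← map_sub, huv, map_mul]
      have : (Ideal.Quotient.mk M) (p : AlgInt) = 0 :=
        Ideal.Quotient.eq_zero_iff_mem.2 hM.2.2
      rw [this, zero_mul]
    rw [← map_pow, Ideal.Quotient.eq_zero_iff_mem] at hq
    have huvM : u - v ∈ M := hMp.mem_of_pow_mem _ hq
    have := memLocalIdeal_of_mem hMp huvM
    simpa [u, v] using this

end Cfsg.Agent.S4604
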