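import Cfsg.Statements.S4620

set_option autoImplicit false
open scoped Pointwise
open Cfsg

namespace Cfsg.Agent.S4620

variable {H : Type*} [Group H]

theorem mem_conj_smul {K : Subgroup H} {g x : H} :
    x ∈ MulAut.conj g • K ↔ g⁻¹ * x * g ∈ K := by
  rw [Subgroup.mem_pointwise_smul_iff_inv_smul_mem]
  simp [MulAut.smul_def]

theorem ti_elem {p : ℕ} (P : Sylow p H)
    (hTI : ∀ g : H, g ∉ Subgroup.normalizer ((P : Subgroup H) : Set H) →
      (P : Subgroup H) ⊓ (MulAut.conj g • (P : Subgroup H)) = ⊥)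
    {g x : H} (hx : x ∈ (P : Subgroup H)) (hgx : g⁻¹ * x * g ∈ (P : Subgroup H)) (hx1 : x ≠ 1) :
    g ∈ Subgroup.normalizer ((P : Subgroup H) : Set H) := by
  by_contra hg
  have h := hTI g hg
  have h2 : x ∈ (P : Subgroup H) ⊓ (MulAut.conj g • (P : Subgroup H)) :=
    ⟨hx, mem_conj_smul.2 hgx⟩
  rw [h, Subgroup.mem_bot] at h2
  exact hx1 h2

theorem smul_eq_iff {p : ℕ} {g : H} {P : Sylow p H} :
    g • P = P ↔ g ∈ Subgroup.normalizer ((P : Subgroup H) : Set H) :=
  Sylow.smul_eq_iff_mem_normalizer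

theorem ti_elem_all [Finite H] {p : ℕ} [Fact p.Prime] (P : Sylow p H)
    (hTI : ∀ g : H, g ∉ Subgroup.normalizer ((P : Subgroup H) : Set H) →
      (P : Subgroup H) ⊓ (MulAut.conj g • (P : Subgroup H)) = ⊥)
    (P' : Sylow p H) {g x : H} (hx : x ∈ (P' : Subgroup H))
    (hgx : g⁻¹ * x * g ∈ (P' : Subgroup H)) (hx1 : x ≠ 1) :
    g ∈ Subgroup.normalizer ((P' : Subgroup H) : Set H) := by
  obtain ⟨k, rfl⟩ := MulAction.exists_smul_eq H P P'
  rw [Sylow.coe_subgroup_smul] at hx hgx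
  have hx' : k⁻¹ * x * k ∈ (P : Subgroup H) := mem_conj_smul.1 hx
  have hgx' : k⁻¹ * (g⁻¹ * x * g) * k ∈ (P : Subgroup H) := mem_conj_smul.1 hgx
  have h3 : (k⁻¹ * g * k)⁻¹ * (k⁻¹ * x * k) * (k⁻¹ * g * k) ∈ (P : Subgroup H) := by
    have : (k⁻¹ * g * k)⁻¹ * (k⁻¹ * x * k) * (k⁻¹ * g * k) = k⁻¹ * (g⁻¹ * x * g) * k := by
      group
    rw [this]; exact hgx'
  have h4 : k⁻¹ * x * k ≠ 1 := by
    intro h
    apply hx1
    have : x = k * (k⁻¹ * x * k) * k⁻¹ := by group
    rw [this, h]; group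
  have h5 := ti_elem P hTI hx' h3 h4
  rw [← smul_eq_iff] at h5 ⊢
  rw [← mul_smul] at ⊢
  have h6 : k • ((k⁻¹ * g * k) • P) = k • P := by rw [h5]
  rw [← mul_smul] at h6
  have : k * (k⁻¹ * g * k) = g * k := by group
  rw [this] at h6
  exact h6

theorem dvd_card_of_normal {p : ℕ} [Fact p.Prime]
    (hOp' : Cfsg.pPrimeCore p H = ⊥) (K : Subgroup H) (hK : K.Normal) (hK1 : K ≠ ⊥) :
    p ∣ Nat.card K := by
  by_contra h
  apply hK1
  rw [eq_bot_iff, ← hOp']
  apply le_sSup
  exact ⟨hK, ((Nat.Prime.coprime_iff_not_dvd (Fact.out)).2 h).symm⟩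

theorem not_pgroup_of_normal {p : ℕ} (hOp : Cfsg.pCore p H = ⊥) (K : Subgroup H)
    (hK : K.Normal) (hK1 : K ≠ ⊥) : ¬ IsPGroup p K := by
  intro h
  apply hK1
  rw [eq_bot_iff, ← hOp]
  exact le_sSup ⟨hK, h⟩

theorem exists_mem_sylow_inf {p : ℕ} [Fact p.Prime] [Finite H] (P : Sylow p H) (K : Subgroup H)
    (hK : K.Normal) (hp : p ∣ Nat.card K) :
    ∃ x : H, x ∈ (P : Subgroup H) ∧ x ∈ K ∧ x ≠ 1 := by
  obtain ⟨y, hy⟩ := exists_prime_orderOf_dvd_card' p hp
  have hyH : orderOf (y : H) = p := by rw [Subgroup.orderOf_coe]; exact hy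
  have hz : IsPGroup p (Subgroup.zpowers (y : H)) := by
    apply IsPGroup.of_card (n := 1)
    rw [Nat.card_zpowers, hyH, pow_one]
  obtain ⟨Q, hQ⟩ := hz.exists_le_sylow
  obtain ⟨k, rfl⟩ := MulAction.exists_smul_eq H P Q
  have hyQ : (y : H) ∈ ((k • P : Sylow p H) : Subgroup H) := hQ (Subgroup.mem_zpowers _)
  rw [Sylow.coe_subgroup_smul] at hyQ
  refine ⟨k⁻¹ * y * k, mem_conj_smul.1 hyQ, ?_, ?_⟩
  · have := hK.conj_mem (y : H) y.2 k⁻¹
    simpa using this
  · intro h
    have h1 : (y : H) = 1 := by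
      have : (y : H) = k * (k⁻¹ * y * k) * k⁻¹ := by group
      rw [this, h]; group
    rw [h1, orderOf_one] at hyH
    exact (Fact.out : p.Prime).one_lt.ne hyH

theorem not_le_normalizer {p : ℕ} [Fact p.Prime] [Finite H] (hOp : Cfsg.pCore p H = ⊥)
    (hOp' : Cfsg.pPrimeCore p H = ⊥) (P : Sylow p H) (K : Subgroup H) (hK : K.Normal)
    (hK1 : K ≠ ⊥) : ¬ K ≤ Subgroup.normalizer ((P : Subgroup H) : Set H) := by
  intro hle
  have hT : ((P : Subgroup H) ⊓ K).Normal := by
    constructor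
    intro x hx h
    have hyK : h * x * h⁻¹ ∈ K := hK.conj_mem x hx.2 h
    refine ⟨?_, hyK⟩
    have hyQ : h * x * h⁻¹ ∈ ((h • P : Sylow p H) : Subgroup H) := by
      rw [Sylow.coe_subgroup_smul, mem_conj_smul]
      have : h⁻¹ * (h * x * h⁻¹) * h = x := by group
      rw [this]; exact hx.1
    have hz : IsPGroup p (Subgroup.zpowers (h * x * h⁻¹)) :=
      (h • P).2.to_le (by rw [Subgroup.zpowers_le]; exact hyQ)
    have h1 : Subgroup.zpowers (h * x * h⁻¹) ≤
        Subgroup.normalizer ((P : Subgroup H) : Set H) := by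
      rw [Subgroup.zpowers_le]; exact hle hyK
    have h2 := hz.inf_normalizer_sylow P
    have h3 : Subgroup.zpowers (h * x * h⁻¹) ≤ (P : Subgroup H) := by
      have h4 : Subgroup.zpowers (h * x * h⁻¹) ⊓
          Subgroup.normalizer ((P : Subgroup H) : Set H) = Subgroup.zpowers (h * x * h⁻¹) :=
        inf_eq_left.2 h1
      rw [← h4]
      have h5 : Subgroup.zpowers (h * x * h⁻¹) ⊓
          Subgroup.normalizer ((P : Subgroup H) : Set H) =
          Subgroup.zpowers (h * x * h⁻¹) ⊓ (P : Subgroup H) := h2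
      rw [h5]
      exact inf_le_right
    exact h3 (Subgroup.mem_zpowers _)
  have hTp : IsPGroup p ((P : Subgroup H) ⊓ K : Subgroup H) := P.2.to_le inf_le_left
  have hT1 : (P : Subgroup H) ⊓ K ≠ ⊥ := by
    obtain ⟨x, hxP, hxK, hx1⟩ :=
      exists_mem_sylow_inf P K hK (dvd_card_of_normal hOp' K hK hK1)
    intro h
    have h2 : x ∈ (P : Subgroup H) ⊓ K := ⟨hxP, hxK⟩
    rw [h, Subgroup.mem_bot] at h2
    exact hx1 h2
  exact not_pgroup_of_normal hOp _ hT hT1 hTp

theorem card_sup_dvd [Finite H] (A B : Subgroup H)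
    (hBA : B ≤ Subgroup.normalizer (A : Set H)) :
    Nat.card (A ⊔ B : Subgroup H) ∣ Nat.card A * Nat.card B := by
  have h1 : A.relIndex (B ⊔ A) = A.relIndex B := by
    letI := Subgroup.normal_subgroupOf_of_le_normalizer hBA
    letI := Subgroup.normal_subgroupOf_sup_of_le_normalizer hBA
    exact Nat.card_congr
      (QuotientGroup.quotientInfEquivProdNormalizerQuotient B A hBA).toEquiv.symm
  have h2 : (⊥ : Subgroup H).relIndex A * A.relIndex (B ⊔ A) = (⊥ : Subgroup H).relIndex (B ⊔ A) :=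
    Subgroup.relIndex_mul_relIndex _ _ _ bot_le le_sup_right
  rw [Subgroup.relIndex_bot_left, Subgroup.relIndex_bot_left, h1] at h2
  rw [sup_comm, ← h2]
  exact Nat.mul_dvd_mul_left _ (Subgroup.relIndex_dvd_card A B)

theorem closure_trick [Finite H] (N : Subgroup H) (hN : N.Normal) (C : Subgroup H → Prop)
    (h0 : C ⊥)
    (hsup : ∀ A B : Subgroup H, C A → C B → B ≤ Subgroup.normalizer (A : Set H) → C (A ⊔ B))
    (hconj : ∀ (A : Subgroup H) (h : H), C A → C (MulAut.conj h • A))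
    (hnorm : ∀ A : Subgroup H, A.Normal → C A → A = ⊥) :
    ∀ A : Subgroup H, A ≤ N → N ≤ Subgroup.normalizer (A : Set H) → C A → A = ⊥ := by
  set F : Set (Subgroup H) := {A | A ≤ N ∧ N ≤ Subgroup.normalizer (A : Set H) ∧ C A} with hF
  have hbot : (⊥ : Subgroup H) ∈ F := by
    refine ⟨bot_le, ?_, h0⟩
    intro n _
    rw [Subgroup.mem_normalizer_iff]
    intro x
    simp [Subgroup.mem_bot]
  obtain ⟨A0, -, hA0⟩ := (Set.toFinite F).exists_le_maximal hbot
  have hA0F : A0 ∈ F := hA0.prop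
  have hle : ∀ B ∈ F, B ≤ A0 := by
    intro B hB
    have hsupF : A0 ⊔ B ∈ F := by
      refine ⟨sup_le hA0F.1 hB.1, ?_, hsup A0 B hA0F.2.2 hB.2.2 (hB.1.trans hA0F.2.1)⟩
      exact (le_inf hA0F.2.1 hB.2.1).trans
        (Subgroup.normalizer_inf_normalizer_le_normalizer_sup A0 B)
    have := hA0.le_of_ge hsupF le_sup_left
    exact le_sup_right.trans this
  have hconjF : ∀ h : H, MulAut.conj h • A0 ∈ F := by
    intro h
    refine ⟨?_, ?_, hconj A0 h hA0F.2.2⟩
    · intro x hx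
      rw [mem_conj_smul] at hx
      have h1 := hA0F.1 hx
      have h2 := hN.conj_mem _ h1 h
      have h3 : h * (h⁻¹ * x * h) * h⁻¹ = x := by group
      rw [h3] at h2; exact h2
    · intro n hn
      rw [Subgroup.mem_normalizer_iff]
      intro x
      rw [mem_conj_smul, mem_conj_smul]
      have hn' : h⁻¹ * n * h ∈ N := by
        have := hN.conj_mem n hn h⁻¹
        simpa using this
      have h1 := hA0F.2.1 hn'
      rw [Subgroup.mem_normalizer_iff] at h1
      have h2 := h1 (h⁻¹ * x * h)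
      have h3 : h⁻¹ * n * h * (h⁻¹ * x * h) * (h⁻¹ * n * h)⁻¹ = h⁻¹ * (n * x * n⁻¹) * h := by
        group
      rw [h3] at h2
      exact h2
  have hA0n : A0.Normal := by
    constructor
    intro x hx h
    have h1 := hle _ (hconjF h)
    apply h1
    rw [mem_conj_smul]
    have h3 : h⁻¹ * (h * x * h⁻¹) * h = x := by group
    rw [h3]; exact hx
  have hA0bot := hnorm A0 hA0n hA0F.2.2
  intro A hAN hNA hCA
  have := hle A ⟨hAN, hNA, hCA⟩
  rw [hA0bot] at this
  exact le_bot_iff.1 this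

theorem conj_NN (N : Subgroup H) (hN : N.Normal) (A : Subgroup H) (hAN : A ≤ N)
    (hNA : N ≤ Subgroup.normalizer (A : Set H)) (h : H) :
    MulAut.conj h • A ≤ N ∧ N ≤ Subgroup.normalizer ((MulAut.conj h • A : Subgroup H) : Set H) := by
  refine ⟨?_, ?_⟩
  · intro x hx
    rw [mem_conj_smul] at hx
    have h1 := hAN hx
    have h2 := hN.conj_mem _ h1 h
    have h3 : h * (h⁻¹ * x * h) * h⁻¹ = x := by group
    rw [h3] at h2; exact h2
  · intro n hn
    rw [Subgroup.mem_normalizer_iff]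
    intro x
    rw [mem_conj_smul, mem_conj_smul]
    have hn' : h⁻¹ * n * h ∈ N := by
      have := hN.conj_mem n hn h⁻¹
      simpa using this
    have h1 := hNA hn'
    rw [Subgroup.mem_normalizer_iff] at h1
    have h2 := h1 (h⁻¹ * x * h)
    have h3 : h⁻¹ * n * h * (h⁻¹ * x * h) * (h⁻¹ * n * h)⁻¹ = h⁻¹ * (n * x * n⁻¹) * h := by
      group
    rw [h3] at h2
    exact h2

theorem card_conj_smul (A : Subgroup H) (h : H) :
    Nat.card (MulAut.conj h • A : Subgroup H) = Nat.card A :=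
  (Nat.card_congr (Subgroup.equivSMul (MulAut.conj h) A).toEquiv).symm

theorem le_normalizer_inf (N A B : Subgroup H) (hA : N ≤ Subgroup.normalizer (A : Set H))
    (hB : N ≤ Subgroup.normalizer (B : Set H)) :
    N ≤ Subgroup.normalizer ((A ⊓ B : Subgroup H) : Set H) := by
  intro n hn
  have h1 := hA hn
  have h2 := hB hn
  rw [Subgroup.mem_normalizer_iff] at h1 h2 ⊢
  intro x
  rw [Subgroup.mem_inf, Subgroup.mem_inf, h1 x, h2 x]

theorem commute_of_mutual (A B : Subgroup H) (hAB : A ⊓ B = ⊥)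
    (hA : A ≤ Subgroup.normalizer (B : Set H)) (hB : B ≤ Subgroup.normalizer (A : Set H))
    {a b : H} (ha : a ∈ A) (hb : b ∈ B) : a * b = b * a := by
  have h1 : a * b * a⁻¹ * b⁻¹ ∈ A ⊓ B := by
    refine Subgroup.mem_inf.2 ⟨?_, ?_⟩
    · have h2 := hB hb
      rw [Subgroup.mem_normalizer_iff] at h2
      have h3 : b * a⁻¹ * b⁻¹ ∈ A := (h2 a⁻¹).1 (inv_mem ha)
      have h4 : a * b * a⁻¹ * b⁻¹ = a * (b * a⁻¹ * b⁻¹) := by group
      rw [h4]; exact mul_mem ha h3
    · have h2 := hA ha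
      rw [Subgroup.mem_normalizer_iff] at h2
      have h3 : a * b * a⁻¹ ∈ B := (h2 b).1 hb
      exact mul_mem h3 (inv_mem hb)
  rw [hAB, Subgroup.mem_bot] at h1
  have h5 : a * b = (a * b * a⁻¹ * b⁻¹) * (b * a) := by group
  rw [h5, h1, one_mul]

theorem result {H : Type*} [Group H] [Finite H] (p : ℕ) [Fact p.Prime] (hOp : Cfsg.pCore p H = ⊥) (hOp' : Cfsg.pPrimeCore p H = ⊥) (P : Sylow p H) (hP1 : (P : Subgroup H) ≠ ⊥)
    (hTI : ∀ g : H, g ∉ Subgroup.normalizer ((P : Subgroup H) : Set H) → (P : Subgroup H) ⊓ (MulAut.conj g • (P : Subgroup H)) = ⊥) :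
    ∃ N : Subgroup H, N.Normal ∧ N ≠ ⊥ ∧ (∀ K : Subgroup H, K.Normal → K ≠ ⊥ → N ≤ K) ∧
      IsSimpleGroup N ∧ ¬ IsMulCommutative N ∧ Subgroup.centralizer (N : Set H) = ⊥ ∧
      ∀ Q : Sylow p N, (Q : Subgroup N) ≠ ⊥ ∧
        ∀ n : N, n ∉ Subgroup.normalizer ((Q : Subgroup N) : Set N) → (Q : Subgroup N) ⊓ (MulAut.conj n • (Q : Subgroup N)) = ⊥ := by
  classical
  have htop : (⊤ : Subgroup H) ≠ ⊥ := by
    intro h; apply hP1; rw [eq_bot_iff, ← h]; exact le_top
  set S : Set (Subgroup H) := {K | K.Normal ∧ K ≠ ⊥} with hSdef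
  have hS : S.Nonempty := ⟨⊤, inferInstance, htop⟩
  obtain ⟨N, hNm⟩ := (Set.toFinite S).exists_minimal hS
  have hNS : N ∈ S := hNm.prop
  have hNmin : ∀ K ∈ S, K ≤ N → K = N := fun K hK hKN =>
    le_antisymm hKN (hNm.le_of_le hK hKN)
  obtain ⟨hNn, hN1⟩ := hNS
  -- C1
  have hC1 : ∀ K : Subgroup H, K.Normal → K ≠ ⊥ → N ≤ K := by
    intro K hKn hK1
    by_contra hNK
    have hD : N ⊓ K = ⊥ := by
      by_contra hD
      have hDn : (N ⊓ K).Normal := Subgroup.normal_inf_normal N K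
      have := hNmin (N ⊓ K) ⟨hDn, hD⟩ inf_le_left
      apply hNK; rw [← this]; exact inf_le_right
    have hcomm := Subgroup.commute_of_normal_of_disjoint N K hNn hKn (disjoint_iff.2 hD)
    obtain ⟨x, hxP, hxK, hx1⟩ :=
      exists_mem_sylow_inf P K hKn (dvd_card_of_normal hOp' K hKn hK1)
    apply not_le_normalizer hOp hOp' P N hNn hN1
    intro n hn
    apply ti_elem P hTI hxP _ hx1
    have h2 : n⁻¹ * x * n = x := by
      have h3 := hcomm n x hn hxK
      rw [mul_assoc, ← h3.eq, ← mul_assoc, inv_mul_cancel, one_mul]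
    rw [h2]; exact hxP
  -- C2a
  have hC2a : ∀ A : Subgroup H, A ≤ N → N ≤ Subgroup.normalizer (A : Set H) → A ≠ ⊥ →
      p ∣ Nat.card A := by
    intro A hAN hNA hA1
    by_contra hp
    apply hA1
    refine closure_trick N hNn (fun A => (Nat.card A).Coprime p) ?_ ?_ ?_ ?_ A hAN hNA ?_
    · simp
    · intro A B hA hB hBA
      exact Nat.Coprime.coprime_dvd_left (card_sup_dvd A B hBA) (Nat.Coprime.mul_left hA hB)
    · intro A h hA
      show (Nat.card (MulAut.conj h • A : Subgroup H)).Coprime p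
      rw [card_conj_smul]; exact hA
    · intro A hAn hA
      rw [eq_bot_iff, ← hOp']
      exact le_sSup ⟨hAn, hA⟩
    · exact ((Nat.Prime.coprime_iff_not_dvd Fact.out).2 hp).symm
  set S2 : Set (Subgroup H) :=
    {K | K ≤ N ∧ N ≤ Subgroup.normalizer (K : Set H) ∧ K ≠ ⊥} with hS2def
  have hNS2 : N ∈ S2 := ⟨le_rfl, Subgroup.le_normalizer, hN1⟩
  obtain ⟨K0, hK0le, hK0⟩ := (Set.toFinite S2).exists_le_minimal hNS2
  have hK0S : K0 ∈ S2 := hK0.prop
  have hK0min : ∀ K ∈ S2, K ≤ K0 → K = K0 := fun K hK hle =>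
    le_antisymm hle (hK0.le_of_le hK hle)
  have hK0N : K0 = N := by
    by_contra hne
    have hpK0 := hC2a K0 hK0S.1 hK0S.2.1 hK0S.2.2
    -- dichotomy
    have hdich : ∀ g : H, MulAut.conj g • K0 = K0 ∨ (MulAut.conj g • K0) ⊓ K0 = ⊥ := by
      intro g
      by_cases hD : (MulAut.conj g • K0) ⊓ K0 = ⊥
      · exact Or.inr hD
      · left
        have hc := conj_NN N hNn K0 hK0S.1 hK0S.2.1 g
        have hDS : (MulAut.conj g • K0) ⊓ K0 ∈ S2 :=
          ⟨inf_le_right.trans hK0S.1, le_normalizer_inf N _ _ hc.2 hK0S.2.1, hD⟩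
        have h1 := hK0min _ hDS inf_le_right
        have h2 : K0 ≤ MulAut.conj g • K0 := by
          have h2' : (MulAut.conj g • K0) ⊓ K0 ≤ MulAut.conj g • K0 := inf_le_left
          rw [h1] at h2'; exact h2'
        exact (Subgroup.eq_of_le_of_card_ge h2 (by rw [card_conj_smul])).symm
    -- some conjugate differs
    have hex : ∃ g1 : H, MulAut.conj g1 • K0 ≠ K0 := by
      by_contra hall
      have hall : ∀ g1 : H, MulAut.conj g1 • K0 = K0 := by
        intro g1
        by_contra hg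
        exact hall ⟨g1, hg⟩
      have hK0n : K0.Normal := by
        constructor
        intro x hx h
        have := hall h
        rw [← this, mem_conj_smul]
        have h3 : h⁻¹ * (h * x * h⁻¹) * h = x := by group
        rw [h3]; exact hx
      exact hne (hNmin K0 ⟨hK0n, hK0S.2.2⟩ hK0S.1)
    obtain ⟨g1, hg1⟩ := hex
    have hg1' : (MulAut.conj g1 • K0) ⊓ K0 = ⊥ := (hdich g1).resolve_left hg1
    -- element of order p in K0 and a Sylow containing it
    obtain ⟨y, hy⟩ := exists_prime_orderOf_dvd_card' p hpK0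
    have hyH : orderOf (y : H) = p := by rw [Subgroup.orderOf_coe]; exact hy
    have hz : IsPGroup p (Subgroup.zpowers (y : H)) := by
      apply IsPGroup.of_card (n := 1)
      rw [Nat.card_zpowers, hyH, pow_one]
    obtain ⟨P2, hP2⟩ := hz.exists_le_sylow
    have hyP2 : (y : H) ∈ (P2 : Subgroup H) := hP2 (Subgroup.mem_zpowers _)
    have hy1 : (y : H) ≠ 1 := by
      intro h
      rw [h, orderOf_one] at hyH
      exact (Fact.out : p.Prime).one_lt.ne hyH
    -- conjugates meeting K0 trivially normalize P2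
    have hcase1 : ∀ g : H, (MulAut.conj g • K0) ⊓ K0 = ⊥ →
        MulAut.conj g • K0 ≤ Subgroup.normalizer ((P2 : Subgroup H) : Set H) := by
      intro g hg a ha
      have hc := conj_NN N hNn K0 hK0S.1 hK0S.2.1 g
      have hcomm := commute_of_mutual (MulAut.conj g • K0) K0 hg
        (hc.1.trans hK0S.2.1) (hK0S.1.trans hc.2) ha y.2
      apply ti_elem_all P hTI P2 hyP2 _ hy1
      have h2 : a⁻¹ * (y : H) * a = y := by
        rw [mul_assoc, ← hcomm, ← mul_assoc, inv_mul_cancel, one_mul]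
      rw [h2]; exact hyP2
    -- K0 itself normalizes P2
    have hK0P2 : K0 ≤ Subgroup.normalizer ((P2 : Subgroup H) : Set H) := by
      have hpK1 : p ∣ Nat.card (MulAut.conj g1 • K0 : Subgroup H) := by
        rw [card_conj_smul]; exact hpK0
      obtain ⟨w, hw⟩ := exists_prime_orderOf_dvd_card' p hpK1
      have hwH : orderOf (w : H) = p := by rw [Subgroup.orderOf_coe]; exact hw
      have hzw : IsPGroup p (Subgroup.zpowers (w : H)) := by
        apply IsPGroup.of_card (n := 1)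
        rw [Nat.card_zpowers, hwH, pow_one]
      have hw1 : (w : H) ≠ 1 := by
        intro h
        rw [h, orderOf_one] at hwH
        exact (Fact.out : p.Prime).one_lt.ne hwH
      have hwN : Subgroup.zpowers (w : H) ≤
          Subgroup.normalizer ((P2 : Subgroup H) : Set H) := by
        rw [Subgroup.zpowers_le]; exact hcase1 g1 hg1' w.2
      have hwP2 : (w : H) ∈ (P2 : Subgroup H) := by
        have h2 : Subgroup.zpowers (w : H) ⊓ Subgroup.normalizer ((P2 : Subgroup H) : Set H) =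
          Subgroup.zpowers (w : H) ⊓ (P2 : Subgroup H) := hzw.inf_normalizer_sylow P2
        have h4 : Subgroup.zpowers (w : H) ⊓
            Subgroup.normalizer ((P2 : Subgroup H) : Set H) = Subgroup.zpowers (w : H) :=
          inf_eq_left.2 hwN
        have h3 : Subgroup.zpowers (w : H) ≤ (P2 : Subgroup H) := by
          rw [← h4, h2]; exact inf_le_right
        exact h3 (Subgroup.mem_zpowers _)
      intro b hb
      have hc := conj_NN N hNn K0 hK0S.1 hK0S.2.1 g1
      have hcomm := commute_of_mutual (MulAut.conj g1 • K0) K0 hg1'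
        (hc.1.trans hK0S.2.1) (hK0S.1.trans hc.2) w.2 hb
      apply ti_elem_all P hTI P2 hwP2 _ hw1
      have h2 : b⁻¹ * (w : H) * b = w := by
        rw [mul_assoc, hcomm, ← mul_assoc, inv_mul_cancel, one_mul]
      rw [h2]; exact hwP2
    -- normal closure
    have hncl : Subgroup.normalClosure (K0 : Set H) ≤
        Subgroup.normalizer ((P2 : Subgroup H) : Set H) := by
      unfold Subgroup.normalClosure
      rw [Subgroup.closure_le]
      intro a ha
      rw [Group.mem_conjugatesOfSet_iff] at ha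
      obtain ⟨b, hb, hba⟩ := ha
      rw [isConj_iff] at hba
      obtain ⟨c, rfl⟩ := hba
      have hmem : c * b * c⁻¹ ∈ MulAut.conj c • K0 := by
        rw [mem_conj_smul]
        have h3 : c⁻¹ * (c * b * c⁻¹) * c = b := by group
        rw [h3]; exact hb
      rcases hdich c with h | h
      · rw [h] at hmem; exact hK0P2 hmem
      · exact hcase1 c h hmem
    have hncl1 : Subgroup.normalClosure (K0 : Set H) ≠ ⊥ := by
      intro h
      apply hK0S.2.2
      rw [eq_bot_iff, ← h]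
      exact Subgroup.le_normalClosure
    exact not_le_normalizer hOp hOp' P2 _ Subgroup.normalClosure_normal hncl1 hncl
  have hNmin2 : ∀ K ∈ S2, K = N := by
    intro K hK
    have := hK0min K hK (by rw [hK0N]; exact hK.1)
    rw [this, hK0N]
  have hpN : p ∣ Nat.card N := dvd_card_of_normal hOp' N hNn hN1
  -- C2
  have hsimple : IsSimpleGroup N := by
    haveI : Nontrivial N := (Subgroup.nontrivial_iff_ne_bot N).2 hN1
    refine ⟨?_⟩
    intro A hA
    by_cases hA1 : A = ⊥
    · exact Or.inl hA1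
    · right
      have hmapS2 : A.map N.subtype ∈ S2 := by
        refine ⟨Subgroup.map_subtype_le A, ?_, ?_⟩
        · rw [Subgroup.le_normalizer_iff]
          rintro n hn k ⟨a, ha, rfl⟩
          refine ⟨⟨n, hn⟩ * a * ⟨n, hn⟩⁻¹, hA.conj_mem a ha ⟨n, hn⟩, ?_⟩
          simp
        · intro h
          apply hA1
          rw [eq_bot_iff]
          intro a ha
          have h2 : (a : H) ∈ A.map N.subtype := ⟨a, ha, rfl⟩
          rw [h, Subgroup.mem_bot] at h2
          rw [Subgroup.mem_bot]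
          exact Subtype.ext h2
      have h3 := hNmin2 _ hmapS2
      rw [eq_top_iff]
      intro a _
      have ha : (a : H) ∈ A.map N.subtype := by rw [h3]; exact a.2
      obtain ⟨b, hb, hba⟩ := ha
      have h4 : b = a := Subtype.ext hba
      rw [← h4]; exact hb
  -- C3
  have hnc : ¬ IsMulCommutative N := by
    intro hc
    obtain ⟨y, hy⟩ := exists_prime_orderOf_dvd_card' p hpN
    have hyH : orderOf (y : H) = p := by rw [Subgroup.orderOf_coe]; exact hy
    have hz : IsPGroup p (Subgroup.zpowers (y : H)) := by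
      apply IsPGroup.of_card (n := 1)
      rw [Nat.card_zpowers, hyH, pow_one]
    have hzN : Subgroup.zpowers (y : H) ≤ N := by rw [Subgroup.zpowers_le]; exact y.2
    have hzS2 : Subgroup.zpowers (y : H) ∈ S2 := by
      refine ⟨hzN, ?_, ?_⟩
      · rw [Subgroup.le_normalizer_iff]
        intro n hn k hk
        have hkN : k ∈ N := hzN hk
        have h1 : (⟨n, hn⟩ : N) * ⟨k, hkN⟩ = ⟨k, hkN⟩ * ⟨n, hn⟩ := hc.is_comm.comm _ _
        have h2 : n * k = k * n := congrArg Subtype.val h1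
        rw [h2, mul_assoc, mul_inv_cancel, mul_one]; exact hk
      · intro h
        have h2 : (y : H) ∈ Subgroup.zpowers (y : H) := Subgroup.mem_zpowers _
        rw [h, Subgroup.mem_bot] at h2
        rw [h2, orderOf_one] at hyH
        exact (Fact.out : p.Prime).one_lt.ne hyH
    have h3 := hNmin2 _ hzS2
    apply not_pgroup_of_normal hOp N hNn hN1
    rw [← h3]; exact hz
  -- C4
  have hcent : Subgroup.centralizer (N : Set H) = ⊥ := by
    by_contra hne
    haveI := hNn
    have hn : (Subgroup.centralizer (N : Set H)).Normal := Subgroup.normal_centralizer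
    have hle := hC1 _ hn hne
    apply hnc
    refine ⟨⟨fun a b => ?_⟩⟩
    have h1 := hle a.2
    rw [Subgroup.mem_centralizer_iff] at h1
    have h2 := h1 b b.2
    exact Subtype.ext h2.symm
  -- C5
  have hC5 : ∀ Q : Sylow p N, (Q : Subgroup N) ≠ ⊥ ∧
      ∀ n : N, n ∉ Subgroup.normalizer ((Q : Subgroup N) : Set N) →
        (Q : Subgroup N) ⊓ (MulAut.conj n • (Q : Subgroup N)) = ⊥ := by
    intro Q
    refine ⟨Q.ne_bot_of_dvd_card hpN, ?_⟩
    intro n hn
    rw [eq_bot_iff]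
    intro x hx
    rw [Subgroup.mem_bot]
    by_contra hx1
    obtain ⟨hxQ, hxnQ⟩ := Subgroup.mem_inf.1 hx
    rw [mem_conj_smul] at hxnQ
    have hQp : IsPGroup p ((Q : Subgroup N).map N.subtype) := Q.2.map N.subtype
    obtain ⟨P2, hP2⟩ := hQp.exists_le_sylow
    have hxP2 : (x : H) ∈ (P2 : Subgroup H) := hP2 ⟨x, hxQ, rfl⟩
    have hxnP2 : (n : H)⁻¹ * x * n ∈ (P2 : Subgroup H) := hP2 ⟨n⁻¹ * x * n, hxnQ, by simp⟩
    have hx1' : (x : H) ≠ 1 := fun h => hx1 (Subtype.ext h)
    have hnP2 := ti_elem_all P hTI P2 hxP2 hxnP2 hx1'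
    apply hn
    have hR : IsPGroup p ((P2 : Subgroup H).subgroupOf N) := P2.2.comap_subtype
    have hQR : (Q : Subgroup N) ≤ (P2 : Subgroup H).subgroupOf N := by
      intro q hq
      rw [Subgroup.mem_subgroupOf]
      exact hP2 ⟨q, hq, rfl⟩
    have hRQ := Q.3 hR hQR
    rw [Subgroup.mem_normalizer_iff]
    intro q
    rw [← hRQ, Subgroup.mem_subgroupOf, Subgroup.mem_subgroupOf]
    rw [Subgroup.mem_normalizer_iff] at hnP2
    have h5 := hnP2 q
    simpa using h5
  exact ⟨N, hNn, hN1, hC1, hsimple, hnc, hcent, hC5⟩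

end Cfsg.Agent.S4620
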