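import Cfsg.Statements.S4625
import Cfsg.Agent.Lib.Helper72.Sq2E6
import Cfsg.Agent.Lib.Helper20.SqSZ
import Cfsg.Agent.Lib.Helper20.Sq2F4
import Cfsg.Agent.Lib.Helper72.Sq3D4
import Cfsg.Agent.Lib.Helper20.SqPSU
import Cfsg.Agent.Lib.Helper9.SqPSP
import Cfsg.Agent.Lib.Helper72.SqCHEV
import Cfsg.Agent.Lib.Helper82.SqPSL
import Cfsg.Agent.Lib.Helper5.SqOPLUS
import Cfsg.Agent.Lib.Helper5.SqOMINUS

set_option autoImplicit false
open Cfsg

namespace Cfsg.Agent.S4625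

/-- Let G be a finite simple group of Lie type in characteristic 2, not counting the Tits group ²F₄(2)′. Then a Sylow 2-subgroup P of G has P/P' elementary abelian: the square of every element of P lies in the derived subgroup of P. -/
theorem result {G : Type*} [Group G] [Finite G] [IsSimpleGroup G] (hG : Cfsg.IsLieTypeChar 2 G) (P : Sylow 2 G) :
    ∀ x : (P : Subgroup G), x ^ 2 ∈ commutator (P : Subgroup G) := by
  classical
  have key : Cfsg.Agent.Lib.Helper20.Sq.SqD G := by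
    rcases hG with h | h | h | h | h | h | h | h | h | h | h
    · -- PSL
      obtain ⟨F, _, _, _, n, hn, -, ⟨e⟩⟩ := h
      exact Cfsg.Agent.Lib.Helper20.Sq.sqD_of_mulEquiv e
        (Cfsg.Agent.Lib.Helper20.Sq.sqD_quot _ (Cfsg.Agent.Lib.Helper20.Sq.sq_psl F n hn))
    · -- PSp
      obtain ⟨F, _, _, _, m, hm, -, ⟨e⟩⟩ := h
      exact Cfsg.Agent.Lib.Helper20.Sq.sqD_of_mulEquiv e
        (Cfsg.Agent.Lib.Helper20.Sq.sqD_quot _ (Cfsg.Agent.Lib.Helper20.Sq.sq_psp F m hm))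
    · -- PSU
      obtain ⟨F, _, _, _, n, q, hF, hn, -, ⟨e⟩⟩ := h
      exact Cfsg.Agent.Lib.Helper20.Sq.sqD_of_mulEquiv e
        (Cfsg.Agent.Lib.Helper20.Sq.sqD_quot _ (Cfsg.Agent.Lib.Helper20.Sq.sq_psu F n q hF hn))
    · -- odd-dimensional orthogonal groups: no field of characteristic 2 has odd order
      exfalso
      obtain ⟨F, _, _, _, m, -, hodd, -⟩ := h
      have h2 : ((Fintype.card F : ℕ) : F) = 0 := Nat.cast_card_eq_zero F
      rw [CharP.cast_eq_zero_iff F 2] at h2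
      exact (Nat.not_even_iff_odd.mpr hodd) (even_iff_two_dvd.mpr h2)
    · -- POmega+
      obtain ⟨F, _, _, _, m, hm, ⟨e⟩⟩ := h
      exact Cfsg.Agent.Lib.Helper20.Sq.sqD_of_mulEquiv e
        (Cfsg.Agent.Lib.Helper20.Sq.sqD_quot _ (Cfsg.Agent.Lib.Helper20.Sq.sq_oplus F m hm))
    · -- POmega-
      obtain ⟨F, _, _, _, m, a, b, hm, hab, ⟨e⟩⟩ := h
      exact Cfsg.Agent.Lib.Helper20.Sq.sqD_of_mulEquiv e
        (Cfsg.Agent.Lib.Helper20.Sq.sqD_quot _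
          (Cfsg.Agent.Lib.Helper20.Sq.sq_ominus F (m - 1) (by omega) a b hab))
    · -- exceptional Chevalley groups
      obtain ⟨F, _, _, _, h | h | h | h | h⟩ := h
      · obtain ⟨h3, ⟨e⟩⟩ := h
        exact Cfsg.Agent.Lib.Helper20.Sq.sqD_of_mulEquiv e (Cfsg.Agent.Lib.Helper20.Sq.sq_g2 F h3)
      · obtain ⟨e⟩ := h
        exact Cfsg.Agent.Lib.Helper20.Sq.sqD_of_mulEquiv e (Cfsg.Agent.Lib.Helper20.Sq.sq_f4 F)
      · obtain ⟨e⟩ := h
        exact Cfsg.Agent.Lib.Helper20.Sq.sqD_of_mulEquiv e (Cfsg.Agent.Lib.Helper20.Sq.sq_e6 F)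
      · obtain ⟨e⟩ := h
        exact Cfsg.Agent.Lib.Helper20.Sq.sqD_of_mulEquiv e (Cfsg.Agent.Lib.Helper20.Sq.sq_e7 F)
      · obtain ⟨e⟩ := h
        exact Cfsg.Agent.Lib.Helper20.Sq.sqD_of_mulEquiv e (Cfsg.Agent.Lib.Helper20.Sq.sq_e8 F)
    · -- twisted E6, D4
      obtain ⟨K, _, _, _, q, hq, h | h⟩ := h
      · obtain ⟨hK, ⟨e⟩⟩ := h
        exact Cfsg.Agent.Lib.Helper20.Sq.sqD_of_mulEquiv e
          (Cfsg.Agent.Lib.Helper20.Sq.sq_2e6 K q hq hK)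
      · obtain ⟨hK, ⟨e⟩⟩ := h
        exact Cfsg.Agent.Lib.Helper20.Sq.sqD_of_mulEquiv e
          (Cfsg.Agent.Lib.Helper20.Sq.sq_3d4 K q hq hK)
    · -- Suzuki
      obtain ⟨-, F, _, _, m, hm, hF, ⟨e⟩⟩ := h
      exact Cfsg.Agent.Lib.Helper20.Sq.sqD_of_mulEquiv e (Cfsg.Agent.Lib.Helper20.Sq.sq_sz F m hm hF)
    · -- 2F4
      obtain ⟨-, K, _, _, m, hm, hK, ⟨e⟩⟩ := h
      exact Cfsg.Agent.Lib.Helper20.Sq.sqD_of_mulEquiv e (Cfsg.Agent.Lib.Helper20.Sq.sq_2f4 K m hm hK)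
    · -- Ree groups live in characteristic 3
      exact absurd h.1 (by norm_num)
  exact Cfsg.Agent.Lib.Helper20.Sq.sqD_all key P

end Cfsg.Agent.S4625
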