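import Cfsg.Statements.S4626
import Cfsg.Agent.Lib.Helper77.DefectGroup
import Cfsg.Agent.Lib.Helper79.Basic

set_option autoImplicit false
open Cfsg

namespace Cfsg.Agent.S4626

/-- Let G be a finite group, p a prime, M a maximal ideal of the algebraic integers containing p, P a Sylow p-subgroup of G and N a normal subgroup of index prime to p containing the centralizer C_G(P). Then every irreducible character of G whose kernel contains N lies in the principal p-block of G. -/
theorem result {G : Type*} [Group G] [Finite G] (p : ℕ) [Fact p.Prime] (M : Ideal Cfsg.AlgInt) (hM : Cfsg.IsPModular p M) (P : Sylow p G) (N : Subgroup G) [N.Normal] (hidx : ¬ p ∣ N.index)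
    (hC : Subgroup.centralizer ((P : Subgroup G) : Set G) ≤ N) (χ : Cfsg.IrrCharacter G) (hker : ∀ n ∈ N, (χ : G → ℂ) n = (χ : G → ℂ) 1) :
    χ ∈ Cfsg.principalBlock M G := by
  classical
  have := Fintype.ofFinite G
  have := Fintype.ofFinite (G ⧸ N)
  have hMp : M.IsPrime := Cfsg.Agent.Lib.Helper81.isPrime_of_isPModular hM
  rw [Cfsg.Agent.Lib.Helper81.mem_principalBlock_iff]
  intro g
  by_cases hdvd : p ∣ (Subgroup.centralizer ({g} : Set G)).index
  · -- both terms lie in the local ideal
    refine Cfsg.Agent.Lib.Helper81.memLocalIdeal_sub hMp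
      ((Cfsg.Agent.Lib.Helper81.memLocalIdeal_natCast_iff hM _).mpr hdvd) ?_
    obtain ⟨ψ, hψ, hψχ⟩ := Cfsg.Agent.Lib.Helper79.isIrrCharacter_deflate χ.2 N hker
    set Cbar := Subgroup.centralizer ({(g : G ⧸ N)} : Set (G ⧸ N)) with hCbar
    set H := Cbar.comap (QuotientGroup.mk' N) with hH
    have hHidx : H.index = Cbar.index :=
      Subgroup.index_comap_of_surjective _ (QuotientGroup.mk'_surjective N)
    have hCH : Subgroup.centralizer ({g} : Set G) ≤ H := by
      intro y hy
      rw [hH, Subgroup.mem_comap, hCbar, Subgroup.mem_centralizer_singleton_iff]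
      rw [Subgroup.mem_centralizer_singleton_iff] at hy
      show (y : G ⧸ N) * (g : G ⧸ N) = (g : G ⧸ N) * (y : G ⧸ N)
      rw [← QuotientGroup.mk_mul, ← QuotientGroup.mk_mul, hy]
    have hmul := Subgroup.relIndex_mul_index hCH
    rw [hHidx] at hmul
    have hbar : ¬ p ∣ Cbar.index := by
      intro h
      apply hidx
      rw [Subgroup.index_eq_card]
      exact h.trans (Subgroup.index_dvd_card Cbar)
    have hr : p ∣ (Subgroup.centralizer ({g} : Set G)).relIndex H := by
      rw [← hmul] at hdvd
      exact ((Nat.Prime.dvd_mul (Fact.out : p.Prime)).mp hdvd).resolve_right hbar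
    have hrel : Cfsg.centralChar (χ : G → ℂ) g =
        (((Subgroup.centralizer ({g} : Set G)).relIndex H : ℕ) : ℂ) *
          Cfsg.centralChar ψ (g : G ⧸ N) := by
      unfold Cfsg.centralChar
      rw [← hmul, hψχ g]
      have h1 : ψ 1 = (χ : G → ℂ) 1 := hψχ 1
      rw [h1]
      push_cast
      ring
    rw [hrel]
    exact Cfsg.Agent.Lib.Helper81.memLocalIdeal_mul_right hMp
      ((Cfsg.Agent.Lib.Helper81.memLocalIdeal_natCast_iff hM _).mpr hr)
      (Cfsg.Agent.Lib.Helper77.memLocalRing_centralChar hMp hψ _)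
  · -- `g` centralizes a Sylow subgroup, hence lies in `N`
    obtain Q : Sylow p (Subgroup.centralizer ({g} : Set G)) := default
    have hcard : Nat.card ((Q : Subgroup (Subgroup.centralizer ({g} : Set G))).map
        (Subgroup.centralizer ({g} : Set G)).subtype) = p ^ (Nat.card G).factorization p := by
      rw [Subgroup.card_map_of_injective (Subgroup.subtype_injective _),
        Sylow.card_eq_multiplicity Q,
        Cfsg.Agent.Lib.Helper77.factorization_card_of_not_dvd_index _ hdvd]
    obtain ⟨x, hx⟩ := MulAction.exists_smul_eq G P (Sylow.ofCard _ hcard)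
    have hgN : x⁻¹ * g * x ∈ N := by
      apply hC
      rw [Subgroup.mem_centralizer_iff]
      intro y hy
      have h1 : x * y * x⁻¹ ∈ ((x • P : Sylow p G) : Subgroup G) := by
        rw [Sylow.coe_subgroup_smul, Subgroup.mem_pointwise_smul_iff_inv_smul_mem]
        have e : (MulAut.conj x)⁻¹ • (x * y * x⁻¹) = y := by
          simp [MulAut.smul_def, mul_assoc]
        rw [e]
        exact hy
      rw [hx, Sylow.coe_ofCard] at h1
      obtain ⟨z, -, hz⟩ := h1
      have h2 : x * y * x⁻¹ ∈ Subgroup.centralizer ({g} : Set G) := by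
        rw [← hz]; exact z.2
      rw [Subgroup.mem_centralizer_singleton_iff] at h2
      calc y * (x⁻¹ * g * x) = x⁻¹ * ((x * y * x⁻¹) * g) * x := by group
        _ = x⁻¹ * (g * (x * y * x⁻¹)) * x := by rw [h2]
        _ = x⁻¹ * g * x * y := by group
    have hgN' : g ∈ N := by
      have := ‹N.Normal›.conj_mem _ hgN x
      have e : x * (x⁻¹ * g * x) * x⁻¹ = g := by group
      rwa [e] at this
    have hone : (χ : G → ℂ) 1 ≠ 0 := Cfsg.Agent.Lib.Helper77.irr_one_ne_zero χ.2
    have : Cfsg.centralChar (χ : G → ℂ) g =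
        ((Subgroup.centralizer ({g} : Set G)).index : ℂ) := by
      unfold Cfsg.centralChar
      rw [hker g hgN', mul_div_assoc, div_self hone, mul_one]
    rw [this, sub_self]
    exact Cfsg.Agent.Lib.Helper81.memLocalIdeal_zero hMp

end Cfsg.Agent.S4626
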