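import Cfsg.Statements.S4627
import Cfsg.Agent.Lib.Helper20.SylKerBase

set_option autoImplicit false
set_option linter.style.haveILetI false
set_option linter.unusedSimpArgs false
open Cfsg

namespace Cfsg.Agent.S4627

/-- Let F be a finite field of odd order q and m ≥ 1. If 4 divides q + 1, or if 4 divides q − 1 and m is a power of 2, then a Sylow 2-subgroup P of SL_{2m}(F) has P/P' elementary abelian: the square of every element of P lies in the derived subgroup of P. -/
theorem result {F : Type*} [Field F] [Fintype F] (hF : Odd (Fintype.card F)) (m : ℕ) (hm : 1 ≤ m)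
    (hq : 4 ∣ Fintype.card F + 1 ∨ (4 ∣ Fintype.card F - 1 ∧ ∃ j : ℕ, m = 2 ^ j)) (P : Sylow 2 (Matrix.SpecialLinearGroup (Fin (2 * m)) F)) :
    ∀ x : (P : Subgroup (Matrix.SpecialLinearGroup (Fin (2 * m)) F)), x ^ 2 ∈ commutator (P : Subgroup (Matrix.SpecialLinearGroup (Fin (2 * m)) F)) := by
  classical
  open Cfsg.Agent.Lib.Helper20.SylModel in
  have key : SqDer ↥(P : Subgroup (Matrix.SpecialLinearGroup (Fin (2 * m)) F)) := by
    have hq1 : 1 < Fintype.card F := Fintype.one_lt_card
    have h2F : (2 : F) ≠ 0 :=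
      Cfsg.Agent.Lib.Helper20.SympWreath.two_ne_zero_of_odd_card _ rfl hF
    by_cases hm1 : m = 1
    · subst hm1
      exact sqDer_sylow_sl2 hF P
    have hm2 : 2 ≤ m := by omega
    have hA2 : A2 (Fintype.card F) 2 =
        padicValNat 2 (Fintype.card F - 1) + padicValNat 2 (Fintype.card F ^ 2 - 1) := by
      have := (A2_even_odd _ hF hq1 1).1
      simp only [mul_one, one_mul, T2_one, add_zero] at this
      exact this
    rcases hq with h4 | ⟨h4, j, hj⟩
    · have h3 : Fintype.card F % 4 = 3 := by omega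
      obtain ⟨Q2⟩ : Nonempty (Sylow 2 (Matrix.GeneralLinearGroup (Fin 2) F)) := inferInstance
      obtain ⟨hQ2, hQ2sq⟩ := isDetModel_base2 h3 Q2
      obtain ⟨G, hG, hGm, -⟩ := exists_detmodel hQ2 hQ2sq h2F ⟨1, by rw [zpow_one]⟩ m hm
      have hc : m * A2 (Fintype.card F) 2 + T2 m = A2 (Fintype.card F) (2 * m) := by
        rw [(A2_even_odd _ hF hq1 m).1, hA2]
        ring
      exact sylow_sl_of_detmodel hF (hGm.mono (fun _ => ⟨hm2, by decide⟩)) hc P
    · have h1 : Fintype.card F % 4 = 1 := by omega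
      obtain ⟨Q1⟩ : Nonempty (Sylow 2 (Matrix.GeneralLinearGroup (Fin 1) F)) := inferInstance
      obtain ⟨a, hQ1, hneg⟩ := isDetModel_base1 hF Q1
      have hj1 : 1 ≤ j := by
        by_contra hcon
        have : j = 0 := by omega
        rw [this, pow_zero] at hj
        omega
      obtain ⟨G, hG, hGm, -⟩ := exists_detmodel_pow hQ1 h2F hneg (j + 1)
      have hn : 1 * 2 ^ (j + 1) = 2 * m := by
        rw [hj, pow_succ]
        ring
      have ha : padicValNat 2 (Fintype.card F ^ 2 - 1) =
          padicValNat 2 (Fintype.card F - 1) + 1 := by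
        rw [v2_sq_sub_one _ hq1, v2_of_mod_four (Fintype.card F + 1) (by omega)]
      have hc : 2 ^ (j + 1) * padicValNat 2 (Fintype.card F - 1) + T2 (2 ^ (j + 1)) =
          A2 (Fintype.card F) (2 * m) := by
        have e : 2 ^ (j + 1) = 2 * m := by
          rw [hj, pow_succ]
          ring
        rw [e, (A2_even_odd _ hF hq1 m).1, ha, T2_two_mul]
        ring
      have hflag : 1 ≤ j + 1 ∧ 4 ∣ 1 * 2 ^ (j + 1) := by
        refine ⟨by omega, ?_⟩
        obtain ⟨j', rfl⟩ : ∃ j', j = j' + 1 := ⟨j - 1, by omega⟩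
        exact ⟨2 ^ j', by rw [pow_succ, pow_succ]; ring⟩
      exact sylow_sl_of_detmodel hF ((hGm.of_eq hn rfl).mono (fun _ => hflag)) hc P
  exact key

end Cfsg.Agent.S4627
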