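import Cfsg.Statements.S4636

set_option autoImplicit false
open scoped Pointwise
open Cfsg

namespace Cfsg.Agent.S4636

/-- In a finite cyclic group, two subgroups of the same prime order coincide. -/
theorem core {α : Type*} [Group α] [Finite α] [IsCyclic α] (p : ℕ) (hp : 0 < p)
    (H₁ H₂ : Subgroup α) (c₁ : Nat.card H₁ = p) (c₂ : Nat.card H₂ = p) : H₁ = H₂ := by
  classical
  have := Fintype.ofFinite α
  have hS : (Finset.univ.filter (fun a : α => a ^ p = 1)).card ≤ p :=
    IsCyclic.card_pow_eq_one_le hp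
  have key : ∀ H : Subgroup α, Nat.card H = p →
      (Finset.univ.filter (fun a : α => a ∈ H)) = Finset.univ.filter (fun a : α => a ^ p = 1) := by
    intro H hH
    apply Finset.eq_of_subset_of_card_le
    · intro a ha
      simp only [Finset.mem_filter, Finset.mem_univ, true_and] at ha ⊢
      have : (⟨a, ha⟩ : H) ^ Nat.card H = 1 := pow_card_eq_one'
      rw [hH] at this
      exact congrArg Subtype.val this
    · have : (Finset.univ.filter (fun a : α => a ∈ H)).card = p := by
        rw [← hH, Nat.card_eq_fintype_card, Fintype.card_subtype]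
      rw [this]; exact hS
  have h12 := (key H₁ c₁).trans (key H₂ c₂).symm
  ext a
  have := congrArg (fun s => a ∈ s) h12
  simpa using this

theorem uniq {G : Type*} [Group G] [Finite G] (p : ℕ) (hp : 0 < p) (C : Subgroup G)
    (hC : IsCyclic C) (Z₁ Z₂ : Subgroup G) (h₁ : Z₁ ≤ C) (h₂ : Z₂ ≤ C)
    (c₁ : Nat.card Z₁ = p) (c₂ : Nat.card Z₂ = p) : Z₁ = Z₂ := by
  have e₁ : Nat.card (Z₁.subgroupOf C) = p := by
    rw [← c₁]; exact Nat.card_congr (Subgroup.subgroupOfEquivOfLe h₁).toEquiv
  have e₂ : Nat.card (Z₂.subgroupOf C) = p := by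
    rw [← c₂]; exact Nat.card_congr (Subgroup.subgroupOfEquivOfLe h₂).toEquiv
  have := core p hp (Z₁.subgroupOf C) (Z₂.subgroupOf C) e₁ e₂
  rw [Subgroup.subgroupOf_inj] at this
  rwa [inf_of_le_left h₁, inf_of_le_left h₂] at this

/-- A nontrivial `p`-subgroup contains a subgroup of order `p`. -/
theorem exists_sub {G : Type*} [Group G] [Finite G] (p : ℕ) [Fact p.Prime] (Q : Subgroup G)
    (hQ : IsPGroup p Q) (hQ1 : Q ≠ ⊥) : ∃ Y : Subgroup G, Y ≤ Q ∧ Nat.card Y = p := by
  obtain ⟨n, hn⟩ := hQ.exists_card_eq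
  have hn0 : n ≠ 0 := by
    rintro rfl
    rw [pow_zero] at hn
    exact hQ1 (Subgroup.eq_bot_of_card_eq Q hn)
  have hdvd : p ^ 1 ∣ Nat.card Q := by
    rw [hn]; exact pow_dvd_pow p (Nat.one_le_iff_ne_zero.mpr hn0)
  obtain ⟨Y, hY⟩ := Sylow.exists_subgroup_card_pow_prime (G := Q) p hdvd
  refine ⟨Y.map Q.subtype, Subgroup.map_subtype_le Y, ?_⟩
  rw [Subgroup.card_map_of_injective Q.subtype_injective, hY, pow_one]

theorem card_conj {G : Type*} [Group G] (x : G) (Z : Subgroup G) :
    Nat.card (MulAut.conj x • Z : Subgroup G) = Nat.card Z := by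
  exact Nat.card_congr (Subgroup.equivSMul (MulAut.conj x) Z).toEquiv.symm

/-- Let P be a nontrivial cyclic p-subgroup of the finite group G and Z its subgroup of order p. For every x outside N_G(Z), P meets its conjugate xPx⁻¹ trivially; consequently N_G(Q) ≤ N_G(Z) for every nontrivial subgroup Q of P. -/
theorem result {G : Type*} [Group G] [Finite G] (p : ℕ) [Fact p.Prime] (P : Subgroup G) (hP : IsPGroup p P) (hP1 : P ≠ ⊥) (hcyc : IsCyclic P) (Z : Subgroup G) (hZ : Z ≤ P) (hZcard : Nat.card Z = p) : (∀ x : G, x ∉ Subgroup.normalizer (Z : Set G) → P ⊓ MulAut.conj x • P = ⊥) ∧ ∀ Q : Subgroup G, Q ≤ P → Q ≠ ⊥ → Subgroup.normalizer (Q : Set G) ≤ Subgroup.normalizer (Z : Set G) := by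
  have hp : 0 < p := (Fact.out : p.Prime).pos
  -- normalizer membership from equality of conjugate
  have hnorm : ∀ x : G, MulAut.conj x • Z = Z → x ∈ Subgroup.normalizer (Z : Set G) := by
    intro x hx
    rw [Subgroup.mem_normalizer_iff]
    intro h
    constructor
    · intro hh
      have : x * h * x⁻¹ ∈ MulAut.conj x • Z := by
        rw [Subgroup.mem_pointwise_smul_iff_inv_smul_mem]
        simpa [MulAut.smul_def, mul_assoc] using hh
      rwa [hx] at this
    · intro hh
      rw [← hx, Subgroup.mem_pointwise_smul_iff_inv_smul_mem] at hh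
      simpa [MulAut.smul_def, mul_assoc] using hh
  constructor
  · intro x hx
    by_contra hne
    have hQp : IsPGroup p (P ⊓ MulAut.conj x • P : Subgroup G) := hP.to_le inf_le_left
    obtain ⟨Y, hYle, hYc⟩ := exists_sub p _ hQp hne
    have hY1 : Y = Z := uniq p hp P hcyc Y Z (hYle.trans inf_le_left) hZ hYc hZcard
    have hcyc' : IsCyclic (MulAut.conj x • P : Subgroup G) :=
      (Subgroup.equivSMul (MulAut.conj x) P).isCyclic.mp hcyc
    have hY2 : Y = MulAut.conj x • Z :=
      uniq p hp (MulAut.conj x • P) hcyc' Y (MulAut.conj x • Z) (hYle.trans inf_le_right)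
        (Subgroup.pointwise_smul_le_pointwise_smul_iff.mpr hZ) hYc
        ((card_conj x Z).trans hZcard)
    exact hx (hnorm x (hY2.symm.trans hY1))
  · intro Q hQP hQ1 x hx
    have hQp : IsPGroup p Q := hP.to_le hQP
    obtain ⟨Y, hYle, hYc⟩ := exists_sub p _ hQp hQ1
    have hY1 : Y = Z := uniq p hp P hcyc Y Z (hYle.trans hQP) hZ hYc hZcard
    subst hY1
    have hxQ : MulAut.conj x • Q = Q := by
      have := Subgroup.mem_normalizer_iff_map_conj_eq.mp hx
      exact this
    have hle : MulAut.conj x • Y ≤ P := by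
      calc MulAut.conj x • Y ≤ MulAut.conj x • Q :=
            Subgroup.pointwise_smul_le_pointwise_smul_iff.mpr hYle
        _ = Q := hxQ
        _ ≤ P := hQP
    have := uniq p hp P hcyc (MulAut.conj x • Y) Y hle hZ ((card_conj x Y).trans hYc) hYc
    exact hnorm x this

end Cfsg.Agent.S4636
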