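import Cfsg.Statements.S4637
import Cfsg.Agent.Lib.Helper77.KfH

set_option autoImplicit false
open Cfsg

namespace Cfsg.Agent.S4637

/-- Let B be a block of the finite group G relative to a maximal ideal M of the algebraic integers containing 2, with a Klein four defect group P. Let c be a block of C_G(P) inducing B, T the stabilizer of c in N_G(P) and e the index of C_G(P) in T (the inertial index). Then e is 1 or 3, B contains exactly four irreducible characters, and the 2-regular rank of B (its number of irreducible Brauer characters) equals e. -/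
theorem result {G : Type*} [Group G] [Finite G] (M : Ideal Cfsg.AlgInt) (hM : Cfsg.IsPModular 2 M) (B : Set (Cfsg.IrrCharacter G)) (hB : Cfsg.IsPBlock M B) (P : Subgroup G) (hPD : Cfsg.IsDefectGroup 2 M B P) (hV : IsKleinFour P) (c : Set (Cfsg.IrrCharacter (Subgroup.centralizer (P : Set G)))) (hc : Cfsg.IsInducedBlock M (Subgroup.centralizer (P : Set G)) c B) (T : Subgroup G) (hT : ∀ g : G, g ∈ T ↔ (g ∈ Subgroup.normalizer (P : Set G) ∧ Cfsg.StabilizesBlock (Subgroup.centralizer (P : Set G)) c g)) (e : ℕ) (he : (Subgroup.centralizer (P : Set G)).relIndex T = e) : (e = 1 ∨ e = 3) ∧ Nat.card B = 4 ∧ Cfsg.blockRank 2 B = e := by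
  classical
  have hF2 : Fact (Nat.Prime 2) := ⟨Nat.prime_two⟩
  have hFin : Fintype G := Fintype.ofFinite G
  have hMp : M.IsPrime := hM.2.1.isPrime
  have hPp : IsPGroup 2 P := Cfsg.Agent.Lib.Helper77.isPGroup_of_isDefectGroup hPD
  have hBP := Cfsg.Agent.Lib.Helper77.isBrauerPairOf_of_isInducedBlock hM hPp hc
  have hmax := Cfsg.Agent.Lib.Helper77.isMaximalBrauerPair_of_isDefectGroup hM hBP hPD
  have hab : ∀ x ∈ P, ∀ y ∈ P, x * y = y * x := by
    intro x hx y hy
    have := mul_comm_of_exponent_two (IsKleinFour.exponent_two (G := P)) ⟨x, hx⟩ ⟨y, hy⟩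
    exact congrArg Subtype.val this
  have hcard : Nat.card P = 4 := IsKleinFour.card_four
  -- the inertial index
  have hTN : T ≤ Subgroup.normalizer (P : Set G) := fun t ht => ((hT t).mp ht).1
  have hCT : Subgroup.centralizer (P : Set G) ≤ T := by
    intro x hx
    have := Fintype.ofFinite (Subgroup.centralizer (P : Set G))
    exact (hT x).mpr ⟨Subgroup.centralizer_le_normalizer _ hx,
      Cfsg.Agent.Lib.Helper77.stabilizesBlock_of_mem _ c hx⟩
  have hodd : ¬ 2 ∣ e := by
    rw [← he]
    apply Cfsg.Agent.Lib.Helper77.Kf.relIndex_centralizer_odd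
    rintro g hg ⟨k, hk⟩
    have hg' := (hT g).mp hg
    exact Cfsg.Agent.Lib.Helper77.ppow_mem_centralizer_of_abelian hM hmax hab hg'.1 hg'.2 hk
  have hdvd : e ∣ Nat.factorial 4 := by
    rw [← he, ← hcard]
    exact Cfsg.Agent.Lib.Helper77.Kf.relIndex_centralizer_dvd_factorial hTN hCT
  have he13 := Cfsg.Agent.Lib.Helper77.Kf.eq_one_or_three_of_dvd hdvd hodd
  have hk : Nat.card B = 4 := Cfsg.Agent.Lib.Helper77.Kf.card_block_eq_four M hM B hB P hPD hcard
  refine ⟨he13, hk, ?_⟩
  rcases he13 with h | h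
  · rw [h]
    exact Cfsg.Agent.Lib.Helper77.Kf.blockRank_eq_one hM hB hmax hT (he.trans h) hk
  · rw [h]
    exact Cfsg.Agent.Lib.Helper77.Kf.blockRank_eq_three hM hB hmax hPD hT (he.trans h) hk

end Cfsg.Agent.S4637
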