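import Cfsg.Statements.S4645
import Cfsg.Agent.Lib.Helper52.NlC
import Cfsg.Agent.Lib.Helper77.AbLocal2
import Cfsg.Agent.Lib.Helper77.LTransC
import Cfsg.Agent.Lib.Helper25.SelfNormCyclic
import Cfsg.Agent.S4633

set_option autoImplicit false
open Cfsg

namespace Cfsg.Agent.S4645

open Cfsg.Agent.Lib.Helper77 in
/-- a subgroup of a cyclic subgroup `P` is normalized by `N_G(P)` -/
theorem mem_normalizer_of_cyclic {G : Type*} [Group G] [Finite G] {P Q : Subgroup G}
    (hcyc : IsCyclic P) (hQP : Q ≤ P) {t : G} (ht : t ∈ Subgroup.normalizer (P : Set G)) :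
    t ∈ Subgroup.normalizer (Q : Set G) := by
  have key : ∀ s : G, s ∈ Subgroup.normalizer (P : Set G) → ∀ q ∈ Q, s * q * s⁻¹ ∈ Q := by
    intro s hs q hq
    have h1 : s * q * s⁻¹ ∈ P := (Subgroup.mem_normalizer_iff.mp hs q).mp (hQP hq)
    rw [Cfsg.Agent.Lib.Helper25.mem_iff_pow_card_eq_one_of_isCyclic P Q hQP h1]
    have h2 : q ^ Nat.card Q = 1 :=
      (Cfsg.Agent.Lib.Helper25.mem_iff_pow_card_eq_one_of_isCyclic P Q hQP (hQP hq)).mp hq
    rw [conj_pow, h2, mul_one, mul_inv_cancel]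
  rw [Subgroup.mem_normalizer_iff]
  intro h
  constructor
  · exact key t ht h
  · intro hh
    have := key t⁻¹ (Subgroup.inv_mem _ ht) _ hh
    simpa [mul_assoc] using this

/-- Let B be a block of the finite group G relative to a maximal ideal M of the algebraic integers containing the prime p, with a nontrivial cyclic defect group P; let c be a block of C_G(P) inducing B and T the stabilizer of c in N_G(P). Let Q be a nontrivial subgroup of P (so C_G(P) ≤ C_G(Q)), f the block of C_G(Q) induced by c inside C_G(Q), and T' the stabilizer of f in N_G(Q). Then T' = T·C_G(Q), the index of C_G(Q) in T' equals the index of C_G(P) in T, f has p-regular rank 1, and f is a nilpotent block of C_G(Q). -/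
theorem result {G : Type*} [Group G] [Finite G] (p : ℕ) [Fact p.Prime] (M : Ideal Cfsg.AlgInt) (hM : Cfsg.IsPModular p M) (B : Set (Cfsg.IrrCharacter G)) (hB : Cfsg.IsPBlock M B) (P : Subgroup G) (hPD : Cfsg.IsDefectGroup p M B P) (hP1 : P ≠ ⊥) (hcyc : IsCyclic P) (c : Set (Cfsg.IrrCharacter (Subgroup.centralizer (P : Set G)))) (hc : Cfsg.IsInducedBlock M (Subgroup.centralizer (P : Set G)) c B) (T : Subgroup G) (hT : ∀ g : G, g ∈ T ↔ (g ∈ Subgroup.normalizer (P : Set G) ∧ Cfsg.StabilizesBlock (Subgroup.centralizer (P : Set G)) c g)) (Q : Subgroup G) (hQP : Q ≤ P) (hQ1 : Q ≠ ⊥) (f : Set (Cfsg.IrrCharacter (Subgroup.centralizer (Q : Set G)))) (hf : Cfsg.IsInducedBlockIn M (Subgroup.centralizer (Q : Set G)) (Subgroup.centralizer (P : Set G)) c f) (T' : Subgroup G) (hT' : ∀ g : G, g ∈ T' ↔ (g ∈ Subgroup.normalizer (Q : Set G) ∧ Cfsg.StabilizesBlock (Subgroup.centralizer (Q : Set G)) f g)) : T' = T ⊔ Subgroup.centralizer (Q : Set G) ∧ (Subgroup.centralizer (Q : Set G)).relIndex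 T' = (Subgroup.centralizer (P : Set G)).relIndex T ∧ Cfsg.blockRank p f = 1 ∧ Cfsg.IsNilpotentBlock p M f := by
  classical
  have := Fintype.ofFinite G
  have := Fintype.ofFinite (Subgroup.centralizer (P : Set G))
  have := Fintype.ofFinite (Subgroup.centralizer (Q : Set G))
  have hPp : IsPGroup p P := Cfsg.Agent.Lib.Helper77.isPGroup_of_isDefectGroup hPD
  have hcomm : ∀ a b : P, a * b = b * a := fun a b =>
    (IsCyclic.isMulCommutative (α := P)).is_comm.comm a b
  have hab : ∀ x ∈ P, ∀ y ∈ P, x * y = y * x := fun x hx y hy =>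
    congrArg Subtype.val (hcomm ⟨x, hx⟩ ⟨y, hy⟩)
  have hBP : IsBrauerPairOf p M B P c :=
    Cfsg.Agent.Lib.Helper77.isBrauerPairOf_of_isInducedBlock hM hPp hc
  have hmax := Cfsg.Agent.Lib.Helper77.isMaximalBrauerPair_of_isDefectGroup hM hBP hPD
  have hle : SubpairLE p M Q f P c :=
    Cfsg.Agent.Lib.Helper77.subpairLE_of_isInducedBlockIn hM hBP hPD hab hQP hf
  have hTN : T ≤ Subgroup.normalizer (P : Set G) := fun t ht => ((hT t).mp ht).1
  have hTNC : T ≤ Subgroup.normalizer ((Subgroup.centralizer (P : Set G) : Subgroup G) : Set G) :=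
    fun t ht => Cfsg.Agent.S4691.normalizer_le_normalizer_centralizer' P (hTN ht)
  have hCn : ((Subgroup.centralizer (P : Set G)).subgroupOf T).Normal :=
    Subgroup.normal_subgroupOf_of_le_normalizer hTNC
  obtain ⟨-, -, hfree⟩ := Cfsg.Agent.S4633.result p M hM B hB P hPD hP1 hcyc c hc T hT
  have hnilf : IsNilpotentBlock p M f :=
    Cfsg.Agent.Lib.Helper77.local_nilpotent_of_free hM hmax hab hQ1 hle hT hfree
  have hPL : P ≤ Subgroup.centralizer (Q : Set G) :=
    Cfsg.Agent.Lib.Helper77.le_centralizer_of_abelian hab hQP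
  obtain ⟨hDf, -⟩ := Cfsg.Agent.Lib.Helper77.abelian_pair_local hM hBP hPD hab hQP hle hPL
  have habf : ∀ x ∈ P.subgroupOf (Subgroup.centralizer (Q : Set G)),
      ∀ y ∈ P.subgroupOf (Subgroup.centralizer (Q : Set G)), x * y = y * x := by
    intro x hx y hy
    apply Subtype.ext
    exact hab x hx y hy
  have hrank : blockRank p f = 1 :=
    Cfsg.Agent.Lib.Helper52.NlC.blockRank_eq_one_of_nilpotent_abelian hM _
      (Subgroup.centralizer (Q : Set G)) rfl f hnilf _ hDf habf
  obtain ⟨hfac, hidx⟩ := Cfsg.Agent.Lib.Helper77.abelian_stab_factor hM hmax hab hQP hle T' hT' T hT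
  -- `T ≤ T'`
  have hTT' : T ≤ T' := by
    intro t ht
    obtain ⟨htN, htst⟩ := (hT t).mp ht
    have htNQ := mem_normalizer_of_cyclic hcyc hQP htN
    exact (hT' t).mpr ⟨htNQ,
      Cfsg.Agent.Lib.Helper77.stabilizes_of_stab_of_subpairLE hM hBP.1 hle htN htst htNQ⟩
  have hCT' : Subgroup.centralizer (Q : Set G) ≤ T' := fun x hx =>
    (hT' x).mpr ⟨Subgroup.centralizer_le_normalizer _ hx,
      Cfsg.Agent.Lib.Helper77.stabilizesBlock_of_mem _ f hx⟩
  have hCPT : Subgroup.centralizer (P : Set G) ≤ T := fun x hx =>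
    (hT x).mpr ⟨Subgroup.centralizer_le_normalizer _ hx,
      Cfsg.Agent.Lib.Helper77.stabilizesBlock_of_mem _ c hx⟩
  refine ⟨?_, ?_, hrank, hnilf⟩
  · apply le_antisymm
    · intro x hx
      obtain ⟨y, hy, z, hz, rfl⟩ := hfac x hx
      exact Subgroup.mul_mem _ (Subgroup.mem_sup_left hy) (Subgroup.mem_sup_right hz)
    · exact sup_le hTT' hCT'
  · have h1 : T ⊓ Subgroup.normalizer (Q : Set G) = T :=
      inf_eq_left.mpr (fun t ht => mem_normalizer_of_cyclic hcyc hQP (hTN ht))
    have h2 : T ⊓ Subgroup.centralizer (Q : Set G) = Subgroup.centralizer (P : Set G) := by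
      apply le_antisymm
      · rintro t ⟨htT, htC⟩
        obtain ⟨⟨q, hqQ⟩, hq1⟩ := (Subgroup.ne_bot_iff_exists_ne_one).mp hQ1
        have hq1' : q ≠ 1 := fun h => hq1 (Subtype.ext h)
        have hfix : t * q * t⁻¹ = q := by
          have := (Subgroup.mem_centralizer_iff.mp htC) q hqQ
          rw [← this, mul_inv_cancel_right]
        exact hfree t htT q (hQP hqQ) hq1' hfix
      · exact le_inf hCPT (Subgroup.centralizer_le hQP)
    show ((Subgroup.centralizer (Q : Set G)).subgroupOf T').index = _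
    rw [hidx, h1, h2]
    rfl

end Cfsg.Agent.S4645
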