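import Cfsg.Statements.S4646
import Cfsg.Agent.S4691
import Cfsg.Agent.S0939
import Cfsg.Agent.Lib.Helper16.WBO
import Cfsg.Agent.Lib.Helper79.Basic
import Cfsg.Agent.Lib.Helper19.PNil
import Cfsg.Agent.Lib.Helper33.NormalPComp
import Cfsg.Agent.Lib.Helper81.OneIrr
import Cfsg.Agent.Lib.Helper80.Orthogonality

set_option autoImplicit false
open Cfsg
open scoped ComplexConjugate

namespace Cfsg.Agent.S4646

open Classical in
theorem pRegPart_apply {G : Type*} [Group G] (p : ℕ) (f : G → ℂ) (s : G) :
    pRegularPart p f s = if ¬ p ∣ orderOf s then f s else 0 := by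
  unfold pRegularPart IsPRegular
  congr

/-- A finite group has a normal `p`-complement iff the `p`-regular rank of its principal
block is one. -/
theorem npc_iff_blockRank {G : Type*} [Group G] [Finite G] (p : ℕ) [Fact p.Prime]
    (M : Ideal Cfsg.AlgInt) (hM : Cfsg.IsPModular p M) :
    Cfsg.HasNormalPComplement p G ↔ Cfsg.blockRank p (Cfsg.principalBlock M G) = 1 := by
  classical
  have hp : p.Prime := Fact.out
  have hMp : M.IsPrime := hM.2.1.isPrime
  have h1reg : ¬ p ∣ orderOf (1 : G) := by
    rw [orderOf_one]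
    exact hp.one_lt.ne' ∘ Nat.dvd_one.mp
  set v : G → ℂ := pRegularPart p (fun _ : G => (1 : ℂ)) with hv
  have hv1 : v 1 = 1 := by
    rw [hv, pRegPart_apply, if_pos h1reg]
  have hvne : v ≠ 0 := by
    intro h
    rw [h] at hv1
    simp at hv1
  have hone : Cfsg.Agent.Lib.Helper81.oneIrr G ∈ principalBlock M G :=
    Cfsg.Agent.Lib.Helper81.oneIrr_mem_principalBlock hMp
  have hvmem : v ∈ Submodule.span ℂ
      ((fun χ : IrrCharacter G => pRegularPart p (χ : G → ℂ)) '' principalBlock M G) :=
    Submodule.subset_span ⟨Cfsg.Agent.Lib.Helper81.oneIrr G, hone, rfl⟩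
  constructor
  · intro h
    obtain ⟨N, hN, hcop, k, hk⟩ := Cfsg.Agent.Lib.Helper19.normal_hall_of_hnpc h
    have hKn : (Cfsg.pPrimeCore p G).Normal := Cfsg.Agent.Lib.Helper22.pPrimeCore_normal' p G
    have hNle : N ≤ Cfsg.pPrimeCore p G := le_sSup ⟨hN, hcop⟩
    have hdvd : (Cfsg.pPrimeCore p G).index ∣ p ^ k := by
      rw [← hk]
      exact Subgroup.index_dvd_of_le hNle
    obtain ⟨j, _, hj⟩ := (Nat.dvd_prime_pow hp).mp hdvd
    have hb₀ := Cfsg.Agent.S0939.result p M hM ⟨j, hj⟩
    have hspan : Submodule.span ℂ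
        ((fun χ : IrrCharacter G => pRegularPart p (χ : G → ℂ)) '' principalBlock M G) =
        Submodule.span ℂ {v} := by
      apply le_antisymm
      · rw [Submodule.span_le]
        rintro _ ⟨χ, hχ, rfl⟩
        rw [SetLike.mem_coe, Submodule.mem_span_singleton]
        refine ⟨(χ : G → ℂ) 1, ?_⟩
        funext g
        show ((χ : G → ℂ) 1 • v) g = pRegularPart p (χ : G → ℂ) g
        rw [Pi.smul_apply, hv, pRegPart_apply, pRegPart_apply]
        by_cases hg : ¬ p ∣ orderOf g
        · rw [if_pos hg, if_pos hg, smul_eq_mul, mul_one]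
          have hgK : g ∈ Cfsg.pPrimeCore p G :=
            Cfsg.Agent.Lib.Helper16.mem_of_regular_of_index _ hj hg
          rw [hb₀] at hχ
          exact (hχ g hgK).symm
        · rw [if_neg hg, if_neg hg, smul_zero]
      · rw [Submodule.span_le, Set.singleton_subset_iff]
        exact hvmem
    unfold blockRank
    rw [hspan]
    exact finrank_span_singleton hvne
  · intro h
    unfold blockRank at h
    set S := Submodule.span ℂ
      ((fun χ : IrrCharacter G => pRegularPart p (χ : G → ℂ)) '' principalBlock M G) with hS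
    have hv' : (⟨v, hvmem⟩ : S) ≠ 0 := by
      intro h0
      exact hvne (congrArg Subtype.val h0)
    have hall := (finrank_eq_one_iff_of_nonzero' (⟨v, hvmem⟩ : S) hv').mp h
    -- every member of the principal block is constant on the `p`-regular elements
    have hconst : ∀ χ ∈ principalBlock M G, ∀ g : G, ¬ p ∣ orderOf g →
        (χ : G → ℂ) g = (χ : G → ℂ) 1 := by
      intro χ hχ g hg
      have hmem : pRegularPart p (χ : G → ℂ) ∈ S := Submodule.subset_span ⟨χ, hχ, rfl⟩
      obtain ⟨c, hc⟩ := hall ⟨_, hmem⟩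
      have hc' : c • v = pRegularPart p (χ : G → ℂ) := congrArg Subtype.val hc
      have e1 := congrFun hc' 1
      have eg := congrFun hc' g
      rw [Pi.smul_apply, hv1, pRegPart_apply, if_pos h1reg, smul_eq_mul, mul_one] at e1
      rw [Pi.smul_apply, hv, pRegPart_apply, pRegPart_apply, if_pos hg, if_pos hg, smul_eq_mul,
        mul_one] at eg
      rw [← eg, e1]
    -- the intersection of the kernels
    let K : Subgroup G := ⨅ χ : {χ : IrrCharacter G // χ ∈ principalBlock M G},
      Cfsg.Agent.Lib.Helper79.charKer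
        (Cfsg.Agent.Lib.Helper79.isCharacter_of_isIrrCharacter χ.1.2)
    have hKmem : ∀ g : G, g ∈ K ↔ ∀ χ ∈ principalBlock M G, (χ : G → ℂ) g = (χ : G → ℂ) 1 := by
      intro g
      simp only [K, Subgroup.mem_iInf, Cfsg.Agent.Lib.Helper79.mem_charKer]
      constructor
      · intro hh χ hχ
        exact hh ⟨χ, hχ⟩
      · intro hh χ
        exact hh χ.1 χ.2
    have : Fintype G := Fintype.ofFinite G
    have : Fintype (IrrCharacter G) := Fintype.ofFinite _
    apply Cfsg.Agent.Lib.Helper33.hasNormalPComplement_of_coprime_elements K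
    intro x
    rw [hKmem, Nat.coprime_comm, Nat.Prime.coprime_iff_not_dvd hp]
    constructor
    · intro hx hsing
      have hwbo := Cfsg.Agent.Lib.Helper16.weak_block_orthogonality_finset hM
        (Cfsg.Agent.Lib.Helper81.oneIrr G) h1reg hsing
      have hterm : ∀ χ ∈ Finset.univ.filter (fun χ : IrrCharacter G =>
          χ ∈ blockOf M ((Cfsg.Agent.Lib.Helper81.oneIrr G : IrrCharacter G) : G → ℂ)),
          (χ : G → ℂ) 1 * conj ((χ : G → ℂ) x) = ((Complex.normSq ((χ : G → ℂ) 1) : ℝ) : ℂ) := by
        intro χ hχ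
        have hχ' : χ ∈ principalBlock M G := (Finset.mem_filter.mp hχ).2
        rw [hx χ hχ', Complex.mul_conj]
      rw [Finset.sum_congr rfl hterm, ← Complex.ofReal_sum, Complex.ofReal_eq_zero] at hwbo
      have hz := (Finset.sum_eq_zero_iff_of_nonneg (fun χ _ => Complex.normSq_nonneg _)).mp hwbo
        (Cfsg.Agent.Lib.Helper81.oneIrr G) (Finset.mem_filter.mpr ⟨Finset.mem_univ _, hone⟩)
      rw [Cfsg.Agent.Lib.Helper81.oneIrr_apply] at hz
      simp at hz
    · intro hx χ hχ
      exact hconst χ hχ x hx

/-- For a finite group G, a prime p and a maximal ideal M of the algebraic integers containing p: the principal block of G is nilpotent if and only if its p-regular rank is 1 (the trivial Brauer character is its only irreducible Brauer character). -/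
theorem result {G : Type*} [Group G] [Finite G] (p : ℕ) [Fact p.Prime] (M : Ideal Cfsg.AlgInt) (hM : Cfsg.IsPModular p M) : Cfsg.IsNilpotentBlock p M (Cfsg.principalBlock M G) ↔ Cfsg.blockRank p (Cfsg.principalBlock M G) = 1 := by
  have : Fintype G := Fintype.ofFinite G
  rw [← Cfsg.Agent.S4691.result p M hM]
  exact npc_iff_blockRank p M hM

end Cfsg.Agent.S4646
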