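import Cfsg.Statements.S4664
import Cfsg.Agent.Lib.Helper80.JointEigen
import Cfsg.Agent.Lib.Helper16.WBO
import Cfsg.Agent.Lib.Helper77.Osima
import Cfsg.Agent.Lib.Helper75.Constituent

set_option autoImplicit false
set_option linter.style.haveILetI false
open Cfsg

namespace Cfsg.Agent.S4664

open Cfsg.Agent.Lib.Helper75 Cfsg.Agent.Lib.Helper3
open scoped ComplexConjugate

/-- A character value at an element whose order divides `m` lies in the `m`-th cyclotomic
field. -/
theorem character_mem_adjoin {G : Type*} [Group G] [Finite G] {χ : G → ℂ} (hχ : IsCharacter G χ)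
    (m : ℕ) (hm : m ≠ 0) (g : G) (hg : orderOf g ∣ m) :
    χ g ∈ IntermediateField.adjoin ℚ
      ({Complex.exp (2 * Real.pi * Complex.I / (m : ℂ))} : Set ℂ) := by
  haveI : NeZero m := ⟨hm⟩
  obtain ⟨n, α, β, hα, _, hval⟩ :=
    Cfsg.Agent.Lib.Helper80.exists_joint_eigenvalues hχ g 1 (by simp)
  have h1 := hval 1 0
  simp only [pow_one, pow_zero, mul_one] at h1
  rw [h1]
  refine sum_mem fun i _ => ?_
  have hprim := Complex.isPrimitiveRoot_exp m hm
  have hαm : α i ^ m = 1 := by
    obtain ⟨c, hc⟩ := hg
    rw [hc, pow_mul, hα i, one_pow]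
  obtain ⟨j, _, hj⟩ := hprim.eq_pow_of_pow_eq_one hαm
  rw [← hj]
  exact pow_mem (IntermediateField.subset_adjoin ℚ _ (Set.mem_singleton _)) j

/-- Fix a prime p and a maximal ideal M of the algebraic integers containing p, and let B be a p-block of the finite group G. Let m be the p'-part of the order of G and η = exp(2πi/m). Then every coefficient of the idempotent of B lies in the cyclotomic field ℚ(η). -/
theorem result {G : Type*} [Group G] [Fintype G] (p : ℕ) [Fact p.Prime] (M : Ideal Cfsg.AlgInt) (hM : Cfsg.IsPModular p M) (B : Set (Cfsg.IrrCharacter G)) (hB : Cfsg.IsPBlock M B) (g : G) : Cfsg.blockCoeff B g ∈ IntermediateField.adjoin ℚ ({Complex.exp (2 * Real.pi * Complex.I / ((Nat.card G / p ^ (Nat.card G).factorization p : ℕ) : ℂ))} : Set ℂ) := by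
  classical
  have hp : p.Prime := Fact.out
  obtain ⟨χ₀, rfl⟩ := hB
  by_cases hg : p ∣ orderOf g
  · rw [Cfsg.Agent.Lib.Helper16.blockCoeff_eq_zero_of_singular hM χ₀ hg]
    exact zero_mem _
  · haveI : Finite (IrrCharacter G) := irrCharacter_finite
    haveI := Fintype.ofFinite (IrrCharacter G)
    set m := Nat.card G / p ^ (Nat.card G).factorization p with hmdef
    have hcard0 : Nat.card G ≠ 0 := Nat.card_pos.ne'
    have hmul : p ^ (Nat.card G).factorization p * m = Nat.card G :=
      Nat.ordProj_mul_ordCompl_eq_self (Nat.card G) p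
    have hm0 : m ≠ 0 := by
      intro h0
      rw [h0, mul_zero] at hmul
      exact hcard0 hmul.symm
    have hord : orderOf g⁻¹ ∣ m := by
      rw [orderOf_inv]
      have h1 : orderOf g ∣ p ^ (Nat.card G).factorization p * m := by
        rw [hmul]; exact orderOf_dvd_natCard g
      have hcop : Nat.Coprime (orderOf g) (p ^ (Nat.card G).factorization p) :=
        Nat.Coprime.pow_right _ (Nat.Coprime.symm ((Nat.Prime.coprime_iff_not_dvd hp).mpr hg))
      exact hcop.dvd_of_dvd_mul_left h1
    rw [Cfsg.Agent.Lib.Helper77.blockCoeff_eq_sum]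
    refine mul_mem (inv_mem (natCast_mem _ _)) (sum_mem fun χ _ => ?_)
    refine mul_mem ?_ ?_
    · obtain ⟨d, hd, _, _⟩ := irr_degree_nat χ
      rw [hd]
      exact natCast_mem _ _
    · rw [← IsCharacter.inv (IsIrrCharacter.isCharacter χ.2) g]
      exact character_mem_adjoin (IsIrrCharacter.isCharacter χ.2) m hm0 g⁻¹ hord

end Cfsg.Agent.S4664
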