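import Cfsg.Statements.S4665

set_option autoImplicit false
open Cfsg

namespace Cfsg.Agent.S4665

open scoped Classical in
/-- For a character `ψ` of `G` and a subgroup `S`, the sum of `ψ` over `S` is `|S|` times a natural
number. -/
theorem sum_subgroup {G : Type*} [Group G] [Fintype G] (S : Subgroup G) (ψ : G → ℂ)
    (hψ : Cfsg.IsIrrCharacter G ψ) :
    ∃ d : ℕ, ∑ s : S, ψ (s : G) = (Nat.card S : ℂ) * (d : ℂ) := by
  obtain ⟨n, ρ, -, rfl⟩ := hψ
  let σ : Representation ℂ S (Fin n → ℂ) := ρ.comp S.subtype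
  have hS0 : (Nat.card S : ℂ) ≠ 0 := by
    exact_mod_cast (Nat.card_pos (α := S)).ne'
  have : Invertible (Nat.card S : ℂ) := invertibleOfNonzero hS0
  have h := Representation.card_inv_mul_sum_char_eq_finrank σ
  refine ⟨Module.finrank ℂ (Representation.invariants σ), ?_⟩
  have h2 : ∑ s : S, σ.character s = (Nat.card S : ℂ) * (Module.finrank ℂ (Representation.invariants σ) : ℂ) := by
    rw [← h, ← mul_assoc, mul_inv_cancel₀ hS0, one_mul]
  exact h2

theorem irr_one_ne_zero {G : Type*} [Group G] (ψ : G → ℂ) (hψ : Cfsg.IsIrrCharacter G ψ) :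
    ψ 1 ≠ 0 := by
  obtain ⟨n, ρ, hirr, rfl⟩ := hψ
  rw [Representation.char_one]
  have : Nontrivial (Subrepresentation ρ) := hirr.toNontrivial
  have hV : Nontrivial (Fin n → ℂ) := by
    by_contra hne
    rw [not_nontrivial_iff_subsingleton] at hne
    obtain ⟨a, b, hab⟩ := this
    apply hab
    apply Subrepresentation.toSubmodule_injective
    apply Subsingleton.elim
  have : 0 < Module.finrank ℂ (Fin n → ℂ) := Module.finrank_pos
  exact_mod_cast this.ne'

/-- Fix a prime p, a maximal ideal M of the algebraic integers containing p, and a p-block B of the finite group G, and let p^a be the p-part of the order of G. Let χ be an integer combination of the irreducible characters in B. If the function that agrees with χ on p-regular elements and vanishes on p-singular elements is again an integer combination of the irreducible characters in B, then p^a divides χ(1). -/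
theorem result {G : Type*} [Group G] [Fintype G] (p : ℕ) [Fact p.Prime] (M : Ideal Cfsg.AlgInt) (hM : Cfsg.IsPModular p M) (B : Set (Cfsg.IrrCharacter G)) (hB : Cfsg.IsPBlock M B) (χ : G → ℂ) (hχ : (∃ n : Cfsg.IrrCharacter G → ℤ, ∀ g : G, χ g = ∑ᶠ ψ ∈ B, (n ψ : ℂ) * (ψ : G → ℂ) g)) (h0 : (∃ n : Cfsg.IrrCharacter G → ℤ, ∀ g : G, Cfsg.pRegularPart p χ g = ∑ᶠ ψ ∈ B, (n ψ : ℂ) * (ψ : G → ℂ) g)) : ∃ k : ℤ, χ 1 = (p ^ (Nat.card G).factorization p : ℂ) * k := by
  classical
  obtain ⟨n, hn⟩ := h0
  have hp : p.Prime := Fact.out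
  -- value at one
  have h1 : Cfsg.pRegularPart p χ 1 = χ 1 := by
    unfold Cfsg.pRegularPart Cfsg.IsPRegular
    rw [if_pos]
    rw [orderOf_one]
    exact hp.one_lt.ne' ∘ Nat.dvd_one.mp
  by_cases hT : {ψ : Cfsg.IrrCharacter G | ψ ∈ B ∧ n ψ ≠ 0}.Finite
  · -- finite support
    obtain S₀ : Sylow p G := default
    have hS₀ : IsPGroup p (S₀ : Subgroup G) := S₀.2
    have hScard₀ : Nat.card (S₀ : Subgroup G) = p ^ (Nat.card G).factorization p :=
      Sylow.card_eq_multiplicity S₀
    obtain ⟨S, hSp, hScard⟩ : ∃ S : Subgroup G, IsPGroup p S ∧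
        Nat.card S = p ^ (Nat.card G).factorization p := ⟨S₀, hS₀, hScard₀⟩
    have hsum : ∀ g : G, Cfsg.pRegularPart p χ g = ∑ ψ ∈ hT.toFinset, (n ψ : ℂ) * (ψ : G → ℂ) g := by
      intro g
      rw [hn g]
      apply finsum_mem_eq_sum_of_inter_support_eq
      ext ψ
      simp only [Set.mem_inter_iff, Function.mem_support, ne_eq, mul_eq_zero, Int.cast_eq_zero,
        not_or, Set.Finite.coe_toFinset, Set.mem_ofPred_eq]
      tauto
    -- sum over the Sylow subgroup
    have hvan : ∀ s : S, s ≠ 1 → Cfsg.pRegularPart p χ (s : G) = 0 := by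
      intro s hs
      unfold Cfsg.pRegularPart Cfsg.IsPRegular
      rw [if_neg]
      rw [not_not, Subgroup.orderOf_coe]
      exact hSp.dvd_orderOf hs
    have hA : ∑ s : S, Cfsg.pRegularPart p χ (s : G) = χ 1 := by
      rw [Finset.sum_eq_single (1 : S)]
      · simpa using h1
      · intro s _ hs
        exact hvan s hs
      · intro h; exact absurd (Finset.mem_univ _) h
    choose d hd using fun ψ : Cfsg.IrrCharacter G => sum_subgroup (S : Subgroup G) ψ.1 ψ.2
    have hB' : ∑ s : S, Cfsg.pRegularPart p χ (s : G)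
        = (Nat.card S : ℂ) * ∑ ψ ∈ hT.toFinset, (n ψ : ℂ) * (d ψ : ℂ) := by
      simp_rw [hsum]
      rw [Finset.sum_comm, Finset.mul_sum]
      apply Finset.sum_congr rfl
      intro ψ _
      rw [← Finset.mul_sum, hd ψ]
      ring
    refine ⟨∑ ψ ∈ hT.toFinset, n ψ * (d ψ : ℤ), ?_⟩
    rw [← hA, hB', hScard]
    push_cast
    rfl
  · -- infinite support: the finsum at 1 vanishes
    refine ⟨0, ?_⟩
    rw [← h1, hn 1]
    simp only [Int.cast_zero, mul_zero]
    apply finsum_mem_eq_zero_of_infinite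
    refine Set.Infinite.mono ?_ hT
    intro ψ hψ
    refine ⟨hψ.1, ?_⟩
    simp only [Function.mem_support, ne_eq, mul_eq_zero, Int.cast_eq_zero, not_or]
    exact ⟨hψ.2, irr_one_ne_zero ψ.1 ψ.2⟩

end Cfsg.Agent.S4665
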