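import Cfsg.Statements.S4666
import Cfsg.Agent.Lib.Helper74.PReg1
-- import your own Cfsg.Agent.* helpers here

set_option autoImplicit false
open Cfsg

namespace Cfsg.Agent.S4666

/-- Fix a prime p and a maximal ideal M of the algebraic integers containing p, and a p-block B of the finite group G of defect d. For every integer combination χ of the irreducible characters in B, p^d times the function that agrees with χ on p-regular elements and vanishes elsewhere is again an integer combination of the irreducible characters in B. -/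
theorem result {G : Type*} [Group G] [Fintype G] (p : ℕ) [Fact p.Prime] (M : Ideal Cfsg.AlgInt) (hM : Cfsg.IsPModular p M) (B : Set (Cfsg.IrrCharacter G)) (hB : Cfsg.IsPBlock M B) (χ : G → ℂ) (hχ : (∃ n : Cfsg.IrrCharacter G → ℤ, ∀ g : G, χ g = ∑ᶠ ψ ∈ B, (n ψ : ℂ) * (ψ : G → ℂ) g)) : (∃ n : Cfsg.IrrCharacter G → ℤ, ∀ g : G, (p ^ Cfsg.blockDefect p B : ℂ) * Cfsg.pRegularPart p χ g = ∑ᶠ ψ ∈ B, (n ψ : ℂ) * (ψ : G → ℂ) g) := by
  classical
  have := Fintype.ofFinite (Cfsg.IrrCharacter G)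
  obtain ⟨n, hn⟩ := hχ
  have hB' := hB
  obtain ⟨χ₀, hχ₀⟩ := hB'
  -- integer coefficients
  have hint : ∀ ψ φ : Cfsg.IrrCharacter G, ∃ z : ℤ, ψ ∈ B →
      (p ^ Cfsg.blockDefect p B : ℂ) *
        Cfsg.classInner (Cfsg.pRegularPart p (ψ : G → ℂ)) (φ : G → ℂ) = (z : ℂ) := by
    intro ψ φ
    by_cases hψ : ψ ∈ B
    · obtain ⟨z, hz⟩ := Cfsg.Agent.Lib.Helper74.pow_defect_mul_classInner_pRegularPart_int p B ψ φ hψ
      exact ⟨z, fun _ => hz⟩
    · exact ⟨0, fun h => absurd h hψ⟩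
  choose c hc using hint
  refine ⟨fun φ => ∑ ψ ∈ Finset.univ.filter (fun ψ => ψ ∈ B), n ψ * c ψ φ, ?_⟩
  intro g
  rw [Cfsg.Agent.Lib.Helper74.finsum_mem_set_eq_sum_filter]
  -- expand the p-regular part of χ
  have h1 : Cfsg.pRegularPart p χ g =
      ∑ ψ ∈ Finset.univ.filter (fun ψ => ψ ∈ B), (n ψ : ℂ) * Cfsg.pRegularPart p (ψ : G → ℂ) g := by
    simp only [Cfsg.Agent.Lib.Helper74.pRegularPart_apply]
    split_ifs with h
    · simp
    · rw [hn g, Cfsg.Agent.Lib.Helper74.finsum_mem_set_eq_sum_filter]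
  rw [h1, Finset.mul_sum]
  have h2 : ∀ ψ ∈ Finset.univ.filter (fun ψ : Cfsg.IrrCharacter G => ψ ∈ B),
      (p ^ Cfsg.blockDefect p B : ℂ) * ((n ψ : ℂ) * Cfsg.pRegularPart p (ψ : G → ℂ) g) =
      ∑ φ ∈ Finset.univ.filter (fun φ : Cfsg.IrrCharacter G => φ ∈ B),
        ((n ψ * c ψ φ : ℤ) : ℂ) * (φ : G → ℂ) g := by
    intro ψ hψ
    have hψB : ψ ∈ B := (Finset.mem_filter.mp hψ).2
    have hψB' : ψ ∈ Cfsg.blockOf M (χ₀ : G → ℂ) := hχ₀ ▸ hψB
    have h3 := Cfsg.Agent.Lib.Helper74.pRegularPart_expansion p M hM χ₀ ψ hψB' g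
    rw [h3, ← hχ₀, Finset.mul_sum, Finset.mul_sum]
    apply Finset.sum_congr rfl
    intro φ _
    push_cast
    rw [← hc ψ φ hψB]
    ring
  rw [Finset.sum_congr rfl h2, Finset.sum_comm]
  apply Finset.sum_congr rfl
  intro φ _
  push_cast
  rw [Finset.sum_mul]

end Cfsg.Agent.S4666
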