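import Cfsg.Statements.S4668
import Cfsg.Agent.Lib.Helper77.BlockIdemSupp
import Cfsg.Agent.Lib.Helper16.WBO
import Cfsg.Agent.Lib.Helper24.PxQ

set_option autoImplicit false
open Cfsg

namespace Cfsg.Agent.S4668

/-- Fix a prime p and a maximal ideal M of the algebraic integers containing p. Let Q₀ < Q₁ < ⋯ < Q_m be a strictly increasing chain of p-subgroups of the finite group G and N the intersection of their normalizers. Then every block idempotent of N is supported on C_G(Q_m): for every p-block E of N, the idempotent coefficient of E vanishes at every element of N outside C_G(Q_m). -/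
theorem result {G : Type*} [Group G] [Fintype G] (p : ℕ) [Fact p.Prime] (M : Ideal Cfsg.AlgInt) (hM : Cfsg.IsPModular p M) (m : ℕ) (Q : Fin (m + 1) → Subgroup G) (hQ : StrictMono Q) (hQp : ∀ i, IsPGroup p (Q i)) (N : Subgroup G) (hN : ∀ g : G, g ∈ N ↔ ∀ i, g ∈ Subgroup.normalizer (Q i : Set G)) (E : Set (Cfsg.IrrCharacter N)) (hE : Cfsg.IsPBlock M E) (n : N) (hn : (n : G) ∉ Subgroup.centralizer (Q (Fin.last m) : Set G)) : Cfsg.blockCoeff E n = 0 := by
  classical
  have hp : p.Prime := Fact.out
  obtain ⟨χ₀, rfl⟩ := hE
  by_contra hne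
  -- `n` is `p`-regular
  have hreg : ¬ p ∣ orderOf (n : G) := by
    intro hdvd
    apply hne
    apply Cfsg.Agent.Lib.Helper16.blockCoeff_eq_zero_of_singular hM χ₀
    rwa [Subgroup.orderOf_coe] at hdvd
  -- `n` centralizes the part of each `Q i` lying in `N`
  have hcent : ∀ i : Fin (m + 1), ∀ x : G, x ∈ Q i → x ∈ N → x * (n : G) = (n : G) * x := by
    intro i x hxQ hxN
    have hnorm : ((Q i).subgroupOf N).Normal := by
      refine ⟨fun a ha b => ?_⟩
      rw [Subgroup.mem_subgroupOf] at ha ⊢
      have hb := (hN b).mp b.2 i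
      rw [Subgroup.mem_normalizer_iff] at hb
      have := (hb a).mp ha
      simpa using this
    have hpg : IsPGroup p ((Q i).subgroupOf N) := (hQp i).comap_subtype
    have hmem : n ∈ Subgroup.centralizer (((Q i).subgroupOf N : Subgroup N) : Set N) := by
      by_contra hnot
      exact hne (Cfsg.Agent.Lib.Helper77.blockCoeff_eq_zero_of_not_mem_centralizer hM
        ((Q i).subgroupOf N) hpg χ₀ hnot)
    have h1 := hmem ⟨x, hxN⟩ (by rw [SetLike.mem_coe, Subgroup.mem_subgroupOf]; exact hxQ)
    have h2 := congrArg (Subtype.val : N → G) h1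
    simpa using h2
  -- members of `Q i` normalize the later terms
  have hle : ∀ i j : Fin (m + 1), i ≤ j → Q i ≤ Q j := fun i j hij => hQ.monotone hij
  -- induction along the chain
  have key : ∀ k : ℕ, ∀ hk : k < m + 1, ∀ x ∈ Q ⟨k, hk⟩, x * (n : G) = (n : G) * x := by
    intro k
    induction k with
    | zero =>
      intro hk x hx
      apply hcent ⟨0, hk⟩ x hx
      rw [hN]
      intro j
      exact Subgroup.le_normalizer (hle ⟨0, hk⟩ j (Fin.mk_le_of_le_val (Nat.zero_le _)) hx)
    | succ k ih =>
      intro hk x hx
      have hk' : k < m + 1 := by omega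
      have ihk := ih hk'
      have hQcop : (Nat.card (Subgroup.zpowers (n : G))).Coprime p := by
        rw [Nat.card_zpowers, Nat.coprime_comm]
        exact (Nat.Prime.coprime_iff_not_dvd hp).mpr hreg
      have hT := Cfsg.Agent.Lib.Helper24.thompson_PxQ (Q ⟨k, hk'⟩) (Subgroup.zpowers (n : G))
        (Q ⟨k + 1, hk⟩) (hQp _) hQcop (hQp _) ?_ ?_ ?_ ?_
      · have h1 := hT (Subgroup.mem_zpowers (n : G))
        rw [Subgroup.mem_centralizer_iff] at h1
        exact h1 x hx
      · intro y hy
        rw [Subgroup.mem_centralizer_iff]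
        intro z hz
        rw [SetLike.mem_coe, Subgroup.mem_zpowers_iff] at hz
        obtain ⟨t, rfl⟩ := hz
        have hc : Commute y (n : G) := ihk y hy
        exact (hc.zpow_right t).eq.symm
      · exact (hle ⟨k, hk'⟩ ⟨k + 1, hk⟩ (by simp [Fin.le_def])).trans Subgroup.le_normalizer
      · rw [Subgroup.zpowers_le]
        exact (hN n).mp n.2 _
      · rintro y ⟨hy1, hy2⟩
        replace hy1 : y ∈ Q ⟨k + 1, hk⟩ := hy1
        replace hy2 : y ∈ Subgroup.centralizer ((Q ⟨k, hk'⟩ : Subgroup G) : Set G) := hy2
        rw [Subgroup.mem_centralizer_iff] at hy2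
        have hyN : y ∈ N := by
          rw [hN]
          intro j
          by_cases hj : (j : ℕ) ≤ k
          · -- `y` centralizes `Q j`
            rw [Subgroup.mem_normalizer_iff]
            intro z
            have hsub : Q j ≤ Q ⟨k, hk'⟩ := hle j ⟨k, hk'⟩ (by simpa [Fin.le_def] using hj)
            constructor
            · intro hz
              have := hy2 z (hsub hz)
              have e : y * z * y⁻¹ = z := by rw [← this]; group
              rwa [e]
            · intro hz
              have hz' : y * z * y⁻¹ ∈ Q ⟨k, hk'⟩ := hsub hz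
              have := hy2 _ hz'
              have e : z = y * z * y⁻¹ := by
                have e2 : y * z * y⁻¹ = y⁻¹ * (y * (y * z * y⁻¹)) := by group
                rw [e2, ← this]
                group
              rw [e]
              exact hz
          · have hsub : Q ⟨k + 1, hk⟩ ≤ Q j := hle ⟨k + 1, hk⟩ j (by
              rw [Fin.le_def]; simp only; omega)
            exact Subgroup.le_normalizer (hsub hy1)
        rw [Subgroup.mem_centralizer_iff]
        intro z hz
        rw [SetLike.mem_coe, Subgroup.mem_zpowers_iff] at hz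
        obtain ⟨t, rfl⟩ := hz
        have hc : Commute y (n : G) := hcent ⟨k + 1, hk⟩ y hy1 hyN
        exact (hc.zpow_right t).eq.symm
  apply hn
  rw [Subgroup.mem_centralizer_iff]
  intro x hx
  have := key m (Nat.lt_succ_self m) x (by simpa [Fin.last] using hx)
  exact this

end Cfsg.Agent.S4668
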