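import Cfsg.Statements.S4677
import Cfsg.Agent.Lib.Helper52.BlockSat2
import Cfsg.Agent.S4679

set_option autoImplicit false
open Cfsg

namespace Cfsg.Agent.S4677

open Cfsg.Agent.Lib.Helper52.BlockFus Cfsg.Agent.Lib.Helper52.BlockSat

/-- Fix a prime p and a maximal ideal M of the algebraic integers containing p, a p-block B of the finite group G and a maximal Brauer pair (P, e) of B. Then the fusion system of B on (P, e) exists and is saturated: there is a saturated fusion system over P, with ambient group G, whose maps with source a subgroup Q of P are exactly the conjugation maps by elements g of G that carry the Brauer pair (Q, e_Q) below (P, e) to a Brauer pair again below (P, e). -/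
theorem result {G : Type*} [Group G] [Fintype G] (p : ℕ) [Fact p.Prime] (M : Ideal Cfsg.AlgInt) (hM : Cfsg.IsPModular p M) (B : Set (Cfsg.IrrCharacter G)) (P : Subgroup G) (e : Set (Cfsg.IrrCharacter (Subgroup.centralizer (P : Set G)))) (hmax : Cfsg.IsMaximalBrauerPair p M B P e) : ∃ F : Cfsg.FusionSystem P, Cfsg.IsBlockFusionSystemOn p M B P e F ∧ F.IsSaturated p := by
  classical
  have hMp : M.IsPrime := Cfsg.Agent.Lib.Helper81.isPrime_of_isPModular hM
  have hPe : IsBrauerPair p M P e := hmax.1.1
  refine ⟨blockFusionSystem hM hPe, isBlockFusionSystemOn_blockFusionSystem hM hmax, ?_⟩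
  refine Cfsg.Agent.Lib.Helper85.isSaturated_of_RS hPe.1 _ (isFullyAutomized_top hM hmax)
    (fun Q hQ => ?_)
  have hQP : Q ≤ P := hQ.1
  obtain ⟨f, hf, hle⟩ := Cfsg.Agent.Lib.Helper52.Subpairs.exists_subpairLE hM _ P Q e rfl hPe hQP
  obtain ⟨T, hTdef⟩ : ∃ T : Subgroup G,
      T = Cfsg.Agent.Lib.Helper77.stabSub (Subgroup.centralizer (Q : Set G)) f ⊓
        Subgroup.normalizer (Q : Set G) := ⟨_, rfl⟩
  have hT : ∀ y : G, y ∈ T ↔ y ∈ Subgroup.normalizer (Q : Set G) ∧
      StabilizesBlock (Subgroup.centralizer (Q : Set G)) f y := by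
    intro y
    rw [hTdef, Subgroup.mem_inf, Cfsg.Agent.Lib.Helper77.mem_stabSub_iff hMp _ hf, and_comm]
  obtain ⟨F', hF', hF'c, hdef⟩ := (Cfsg.Agent.S4679.result p M hM B P e hmax _
    (isBlockFusionSystemOn_blockFusionSystem hM hmax) Q f hQP hf hle T hT).mp hQ
  exact isReceptive_of_setting hM ⟨hPe, hQP, hle, hT, hF', hF'c, hdef⟩

end Cfsg.Agent.S4677
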