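import Cfsg.Statements.S4686
import Cfsg.Agent.Lib.Helper77.NilB
import Cfsg.Agent.Lib.Helper77.LTransC

set_option autoImplicit false
open Cfsg

namespace Cfsg.Agent.S4686

/-- Fix a prime p and a maximal ideal M of the algebraic integers containing p, a p-block B of the finite group G with maximal Brauer pair (P, e) and fusion system F on P. Then B is nilpotent (for every Brauer pair (Q, f) of B the stabilizer of f in N_G(Q) is C_G(Q) extended by a p-group) if and only if F is the inner fusion system of P: its maps from each subgroup of P are exactly the conjugations by elements of P. -/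
theorem result {G : Type*} [Group G] [Fintype G] (p : ℕ) [Fact p.Prime] (M : Ideal Cfsg.AlgInt) (hM : Cfsg.IsPModular p M) (B : Set (Cfsg.IrrCharacter G)) (P : Subgroup G) (e : Set (Cfsg.IrrCharacter (Subgroup.centralizer (P : Set G)))) (hmax : Cfsg.IsMaximalBrauerPair p M B P e) (F : Cfsg.FusionSystem P) (hF : Cfsg.IsBlockFusionSystemOn p M B P e F) : Cfsg.IsNilpotentBlock p M B ↔ ∀ Q : Subgroup G, F.Hom Q = (Cfsg.innerFusionSystem P).Hom Q := by
  classical
  have hMp : M.IsPrime := Cfsg.Agent.Lib.Helper81.isPrime_of_isPModular hM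
  have hp : p.Prime := Fact.out
  have hBP := hmax.1
  have hPe : IsBrauerPair p M P e := hBP.1
  have hPp : IsPGroup p P := hPe.1
  constructor
  · intro hnil Q
    ext φ
    constructor
    · intro hφ
      obtain ⟨hQP, g, hg, -, f, hle, hgle⟩ := (hF.2 Q φ).mp hφ
      obtain ⟨u, hu, hcong⟩ := Cfsg.Agent.Lib.Helper77.control_of_fusion hM hmax hnil _
        ⟨Q, f⟩ rfl hle g hgle
      exact ⟨hQP, u, hu, fun x => by rw [hg x]; exact hcong x x.2⟩
    · rintro ⟨hQP, u, hu, hφ⟩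
      have h1 : φ = conjHom Q u := MonoidHom.ext hφ
      rw [h1]
      exact F.conj_mem hQP hu
  · intro h
    refine ⟨hBP.2.1, fun Q₀ f₀ hQf₀ x₀ hx₀N hx₀st hreg => ?_⟩
    obtain ⟨g, hgle⟩ := Cfsg.Agent.Lib.Helper77.exists_conj_subpairLE hM hmax hQf₀
    have hQP : Q₀.map (MulAut.conj g).toMonoidHom ≤ P :=
      Cfsg.Agent.Lib.Helper52.Subpairs.le_of_reflTransGen hgle
    have hxN : g * x₀ * g⁻¹ ∈ Subgroup.normalizer
        ((Q₀.map (MulAut.conj g).toMonoidHom : Subgroup G) : Set G) := by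
      rw [← Subgroup.map_equiv_normalizer_eq Q₀ (MulAut.conj g)]
      exact ⟨x₀, hx₀N, rfl⟩
    have hxst := (Cfsg.Agent.Lib.Helper77.stabilizesBlock_conjBlock_iff Q₀ g x₀ f₀).mpr hx₀st
    have hf : IsPBlock M (conjBlock Q₀ g f₀) :=
      Cfsg.Agent.Lib.Helper77.isPBlock_of_subpairLE hPe.2 hgle
    have hidx := Cfsg.Agent.Lib.Helper77.conj_stab_idx hMp hf hxN hxst
    have hmemF : conjHom (Q₀.map (MulAut.conj g).toMonoidHom) (g * x₀ * g⁻¹) ∈
        F.Hom (Q₀.map (MulAut.conj g).toMonoidHom) := by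
      rw [hF.2]
      have hle2 : SubpairLE p M
          ((Q₀.map (MulAut.conj g).toMonoidHom).map (MulAut.conj (g * x₀ * g⁻¹)).toMonoidHom)
          (conjBlock (Q₀.map (MulAut.conj g).toMonoidHom) (g * x₀ * g⁻¹) (conjBlock Q₀ g f₀))
          P e := by
        show Relation.ReflTransGen _ _ _
        rw [hidx]
        exact hgle
      exact ⟨hQP, g * x₀ * g⁻¹, fun u => rfl,
        Cfsg.Agent.Lib.Helper52.Subpairs.le_of_reflTransGen hle2, conjBlock Q₀ g f₀, hgle, hle2⟩
    rw [h] at hmemF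
    obtain ⟨-, u, hu, hφ⟩ := hmemF
    have hcong : ∀ q ∈ Q₀.map (MulAut.conj g).toMonoidHom,
        g * x₀ * g⁻¹ * q * (g * x₀ * g⁻¹)⁻¹ = u * q * u⁻¹ := fun q hq => hφ ⟨q, hq⟩
    have hpow : ∀ k : ℕ, ∀ q ∈ Q₀.map (MulAut.conj g).toMonoidHom,
        (g * x₀ * g⁻¹) ^ k * q * ((g * x₀ * g⁻¹) ^ k)⁻¹ = u ^ k * q * (u ^ k)⁻¹ := by
      intro k
      induction k with
      | zero => intro q _; simp
      | succ k ih =>
        intro q hq
        have hq' : g * x₀ * g⁻¹ * q * (g * x₀ * g⁻¹)⁻¹ ∈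
            Q₀.map (MulAut.conj g).toMonoidHom :=
          (Subgroup.mem_normalizer_iff.mp hxN q).mp hq
        have h1 := ih _ hq'
        rw [hcong q hq] at h1
        have h2 : (g * x₀ * g⁻¹) ^ (k + 1) * q * ((g * x₀ * g⁻¹) ^ (k + 1))⁻¹ =
            (g * x₀ * g⁻¹) ^ k * (g * x₀ * g⁻¹ * q * (g * x₀ * g⁻¹)⁻¹) *
              ((g * x₀ * g⁻¹) ^ k)⁻¹ := by
          rw [pow_succ]
          group
        rw [h2, hcong q hq, h1, pow_succ]
        group
    obtain ⟨m, hm⟩ := hPp ⟨u, hu⟩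
    have hum : u ^ p ^ m = 1 := by
      have := congrArg Subtype.val hm
      simpa using this
    have hxpC : (g * x₀ * g⁻¹) ^ p ^ m ∈ Subgroup.centralizer
        ((Q₀.map (MulAut.conj g).toMonoidHom : Subgroup G) : Set G) := by
      intro q hq
      have h1 := hpow (p ^ m) q hq
      rw [hum] at h1
      simp only [one_mul, inv_one, mul_one] at h1
      have h2 : (g * x₀ * g⁻¹) ^ p ^ m * q = q * (g * x₀ * g⁻¹) ^ p ^ m :=
        mul_inv_eq_iff_eq_mul.mp h1
      exact h2.symm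
    rw [conj_pow, Cfsg.Agent.Lib.Helper77.mem_centralizer_map_conj_iff] at hxpC
    have e1 : g⁻¹ * (g * x₀ ^ p ^ m * g⁻¹) * g = x₀ ^ p ^ m := by group
    rw [e1] at hxpC
    have hcop : (p ^ m).Coprime (orderOf x₀) :=
      Nat.Coprime.pow_left m ((Nat.Prime.coprime_iff_not_dvd hp).mpr hreg)
    obtain ⟨j, hj⟩ := exists_pow_eq_self_of_coprime hcop
    rw [← hj]
    exact Subgroup.pow_mem _ hxpC j

end Cfsg.Agent.S4686
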