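import Cfsg.Statements.S4694
import Cfsg.Agent.Lib.Helper16.WeightPair
import Cfsg.Agent.Lib.Helper77.BPairK
import Cfsg.Agent.Lib.Helper77.BPairI

set_option autoImplicit false
open Cfsg

namespace Cfsg.Agent.S4694

open Cfsg.Agent.Lib.Helper16 Cfsg.Agent.Lib.Helper77 Cfsg.Agent.Lib.Helper80 Cfsg.Agent.Lib.Helper81

/-- Fix a prime p and a maximal ideal M of the algebraic integers containing p, a p-block B of the finite group G and a Brauer pair (Q, e) of B. Let T be the stabilizer of e in N_G(Q) and suppose that (Q, e) carries a weight: the block of T whose idempotent is that of e contains an irreducible character χ that is constant on the cosets of Q and whose degree has p-part equal to the p-part of the index of Q in T. Then Z(Q) is a defect group of e as a block of C_G(Q), and Q is the largest normal p-subgroup of T: every p-subgroup of T normalized by T lies in Q. -/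
theorem result {G : Type*} [Group G] [Fintype G] (p : ℕ) [Fact p.Prime] (M : Ideal Cfsg.AlgInt) (hM : Cfsg.IsPModular p M) (B : Set (Cfsg.IrrCharacter G)) (Q : Subgroup G) (e : Set (Cfsg.IrrCharacter (Subgroup.centralizer (Q : Set G)))) (hQe : Cfsg.IsBrauerPairOf p M B Q e) (T : Subgroup G) (hT : ∀ y : G, y ∈ T ↔ y ∈ Subgroup.normalizer (Q : Set G) ∧ Cfsg.StabilizesBlock (Subgroup.centralizer (Q : Set G)) e y) (F' : Set (Cfsg.IrrCharacter T)) (hF' : Cfsg.IsPBlock M F') (hF'e : ∀ t : T, Cfsg.blockCoeff F' t = Cfsg.subgroupBlockCoeff (Subgroup.centralizer (Q : Set G)) e (t : G)) (χ : Cfsg.IrrCharacter T) (hχ : χ ∈ F') (hχQ : ∀ q : G, q ∈ Q → ∀ t : T, ∀ t' : T, (t' : G) = q * (t : G) → (χ : T → ℂ) t' = (χ : T → ℂ) t) (hdeg : (Cfsg.charDegree (χ : T → ℂ)).factorization p + (Nat.card Q).factorization p = (Nat.card T).factorization p) : Cfsg.IsDefectGroup p M e ((Q ⊓ Subgroup.centralizer (Q : Set G)).subgroupOf (Subgroup.centralizer (Q : Set G))) ∧ ∀ R : Subgroup G, R ≤ T → IsPGroup p R →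 (∀ t ∈ T, t ∈ Subgroup.normalizer (R : Set G)) → R ≤ Q := by
  classical
  obtain ⟨⟨hQp, he⟩, -, -⟩ := hQe
  have := Fintype.ofFinite T
  have := Fintype.ofFinite (Subgroup.centralizer (Q : Set G))
  have hCT : Subgroup.centralizer (Q : Set G) ≤ T := fun c hc =>
    (hT c).mpr ⟨Subgroup.centralizer_le_normalizer _ hc, stabilizesBlock_of_mem _ e hc⟩
  have hQT : Q ≤ T := fun q hq =>
    (hT q).mpr ⟨Subgroup.le_normalizer hq, stabilizesBlock_of_mem_self Q e hq⟩
  have hTN : T ≤ Subgroup.normalizer (Q : Set G) := fun t ht => ((hT t).mp ht).1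
  have hTNC : T ≤ Subgroup.normalizer ((Subgroup.centralizer (Q : Set G) : Subgroup G) : Set G) :=
    fun t ht => ((hT t).mp ht).2.1
  have hQn : (Q.subgroupOf T).Normal := Subgroup.normal_subgroupOf_of_le_normalizer hTN
  have hCn : ((Subgroup.centralizer (Q : Set G)).subgroupOf T).Normal :=
    Subgroup.normal_subgroupOf_of_le_normalizer hTNC
  have hQtp : IsPGroup p (Q.subgroupOf T) := hQp.comap_subtype
  have := Fintype.ofFinite ((Subgroup.centralizer (Q : Set G)).subgroupOf T)
  set eqv : (Subgroup.centralizer (Q : Set G)).subgroupOf T ≃* Subgroup.centralizer (Q : Set G) :=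
    Subgroup.subgroupOfEquivOfLe hCT with heqv
  have heqvval : ∀ x : (Subgroup.centralizer (Q : Set G)).subgroupOf T,
      ((eqv x : Subgroup.centralizer (Q : Set G)) : G) = ((x : T) : G) := fun x => rfl
  set e' : Set (Cfsg.IrrCharacter ((Subgroup.centralizer (Q : Set G)).subgroupOf T)) :=
    irrMap eqv '' e with he'def
  have he' : Cfsg.IsPBlock M e' := isPBlock_irrMap_image eqv he
  -- stability
  have hst' : ∀ t : T, ∀ θ ∈ e',
      Cfsg.Agent.Lib.Helper77.conjIrr ((Subgroup.centralizer (Q : Set G)).subgroupOf T) t θ ∈ e' := by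
    rintro t _ ⟨θ₀, hθ₀, rfl⟩
    have h1 : Cfsg.StabilizesBlock (Subgroup.centralizer (Q : Set G)) e ((t⁻¹ : T) : G) :=
      ((hT _).mp (t⁻¹).2).2
    obtain ⟨θ₁, hθ₁, hconj⟩ := h1.2 θ₀ hθ₀
    refine ⟨θ₁, hθ₁, ?_⟩
    apply Subtype.ext
    funext x
    rw [Cfsg.Agent.Lib.Helper77.conjIrr_apply, irrMap_apply, irrMap_apply]
    apply hconj
    rw [heqvval, heqvval]
    push_cast
    group
  -- the idempotent
  have hFe' : ∀ t : T, Cfsg.blockCoeff F' t =
      Cfsg.subgroupBlockCoeff ((Subgroup.centralizer (Q : Set G)).subgroupOf T) e' t := by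
    intro t
    rw [hF'e t]
    by_cases ht : (t : G) ∈ Subgroup.centralizer (Q : Set G)
    · have ht' : t ∈ (Subgroup.centralizer (Q : Set G)).subgroupOf T :=
        Subgroup.mem_subgroupOf.mpr ht
      rw [subgroupBlockCoeff_of_mem _ ht, subgroupBlockCoeff_of_mem _ ht',
        blockCoeff_irrMap_image]
      rfl
    · have ht' : t ∉ (Subgroup.centralizer (Q : Set G)).subgroupOf T :=
        fun h => ht (Subgroup.mem_subgroupOf.mp h)
      rw [subgroupBlockCoeff_of_not_mem _ ht, subgroupBlockCoeff_of_not_mem _ ht']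
  have hZ' : ∀ z ∈ Q.subgroupOf T ⊓ (Subgroup.centralizer (Q : Set G)).subgroupOf T,
      ∀ c ∈ (Subgroup.centralizer (Q : Set G)).subgroupOf T, z * c = c * z := by
    intro z hz c hc
    apply Subtype.ext
    have hzQ : (z : G) ∈ Q := Subgroup.mem_subgroupOf.mp hz.1
    have hcC : (c : G) ∈ Subgroup.centralizer (Q : Set G) := Subgroup.mem_subgroupOf.mp hc
    exact (Subgroup.mem_centralizer_iff.mp hcC) (z : G) hzQ
  have hχQ' : ∀ q ∈ Q.subgroupOf T, ∀ t : T, (χ : T → ℂ) (q * t) = (χ : T → ℂ) t :=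
    fun q hq t => hχQ (q : G) (Subgroup.mem_subgroupOf.mp hq) t (q * t) rfl
  have hdeg' : (Cfsg.charDegree (χ : T → ℂ)).factorization p +
      (Nat.card (Q.subgroupOf T)).factorization p = (Nat.card T).factorization p := by
    rw [Nat.card_congr (Subgroup.subgroupOfEquivOfLe hQT).toEquiv]
    exact hdeg
  refine ⟨?_, ?_⟩
  · have h1 := weight_centric p M hM (Q.subgroupOf T) hQtp
      ((Subgroup.centralizer (Q : Set G)).subgroupOf T) hZ' e' he' hst' F' hFe' χ hχ hχQ' hdeg'
    have h2 := isDefectGroup_irrMap_image eqv.symm h1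
    have h3 : irrMap eqv.symm '' e' = e := by
      rw [he'def, Set.image_image]
      simp only [irrMap_symm_irrMap, Set.image_id']
    have h4 : ((Q.subgroupOf T ⊓ (Subgroup.centralizer (Q : Set G)).subgroupOf T).subgroupOf
        ((Subgroup.centralizer (Q : Set G)).subgroupOf T)).comap eqv.symm.toMonoidHom =
        (Q ⊓ Subgroup.centralizer (Q : Set G)).subgroupOf (Subgroup.centralizer (Q : Set G)) := by
      ext c
      rw [Subgroup.mem_comap, Subgroup.mem_subgroupOf, Subgroup.mem_subgroupOf, Subgroup.mem_inf,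
        Subgroup.mem_inf, Subgroup.mem_subgroupOf, Subgroup.mem_subgroupOf]
      rfl
    rw [h3, h4] at h2
    exact h2
  · intro R hRT hRp hRn
    have hRn' : (R.subgroupOf T).Normal := by
      apply Subgroup.normal_subgroupOf_of_le_normalizer
      intro t ht
      exact hRn t ht
    have h1 := weight_radical p M hM (Q.subgroupOf T) χ hχQ' hdeg' (R.subgroupOf T) hRn'
      hRp.comap_subtype
    intro r hr
    have h2 : (⟨r, hRT hr⟩ : T) ∈ R.subgroupOf T := Subgroup.mem_subgroupOf.mpr hr
    exact Subgroup.mem_subgroupOf.mp (h1 h2)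

end Cfsg.Agent.S4694
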