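import Mathlib
import Cfsg.Statements.S4702
import Cfsg.Agent.S0727
import Cfsg.Agent.Lib.Helper21.SL2Recognize

set_option autoImplicit false
open Cfsg

namespace Cfsg.Agent.S4702

open Equiv MulAction
open Cfsg.Agent.Lib.Helper12.Sharp2

theorem sharp_of_fix {α : Type*} [Fintype α] [DecidableEq α] (G : Subgroup (Equiv.Perm α))
    (hfix : ∀ g : G, 3 ≤ Nat.card (MulAction.fixedBy α g) → g = 1) :
    ∀ x : Fin 3 ↪ α, MulAction.stabilizer G x = ⊥ := by
  intro x
  rw [eq_bot_iff]
  intro g hg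
  rw [Subgroup.mem_bot]
  apply hfix
  rw [mem_stabilizer_iff] at hg
  have hmem : ∀ i, x i ∈ MulAction.fixedBy α g := by
    intro i
    rw [MulAction.mem_fixedBy]
    have := congrArg (fun f : Fin 3 ↪ α => f i) hg
    exact this
  let φ : Fin 3 → MulAction.fixedBy α g := fun i => ⟨x i, hmem i⟩
  have hφ : Function.Injective φ := by
    intro i j hij
    apply x.injective
    exact congrArg Subtype.val hij
  have := Nat.card_le_card_of_injective φ hφ
  simpa using this

theorem sl2_equiv_of_psl {F : Type} [Field F] [Fintype F] {a : ℕ} (ha : 1 ≤ a)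
    (hF : Fintype.card F = 2 ^ a) :
    Nonempty (Matrix.SpecialLinearGroup (Fin 2) F ≃* Matrix.ProjectiveSpecialLinearGroup (Fin 2) F) := by
  classical
  apply Cfsg.Agent.Lib.Helper21.sl_equiv_psl
  -- characteristic two
  obtain ⟨p, hp⟩ := CharP.exists F
  have hpp : p.Prime := by
    rcases CharP.char_is_prime_or_zero F p with h | h
    · exact h
    · subst h
      haveI := hp
      exact absurd (CharP.charP_to_charZero F) (by
        intro hz
        exact not_finite F)
  have hdvd : p ∣ Fintype.card F := by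
    haveI := hp
    haveI : Fact p.Prime := ⟨hpp⟩
    obtain ⟨n, hn⟩ := FiniteField.card F p
    rw [hn.2]
    exact dvd_pow_self p n.ne_zero
  rw [hF] at hdvd
  have hp2 : p = 2 := (Nat.prime_dvd_prime_iff_eq hpp Nat.prime_two).mp (hpp.dvd_of_dvd_pow hdvd)
  subst hp2
  haveI := hp
  exact_mod_cast CharP.cast_eq_zero F 2

/-- Let G be a triply transitive permutation group on a finite set of odd size m ≥ 3 in which only the identity fixes three or more points. Then m = 2^a + 1 for some a ≥ 1 and G is isomorphic to SL(2, 2^a). -/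
theorem result {α : Type*} [Fintype α] [DecidableEq α] (hm : 3 ≤ Fintype.card α) (hodd : Odd (Fintype.card α)) (G : Subgroup (Equiv.Perm α)) (h3 : MulAction.IsMultiplyPretransitive G α 3) (hfix : ∀ g : G, 3 ≤ Nat.card (MulAction.fixedBy α g) → g = 1) : ∃ a : ℕ, 1 ≤ a ∧ Fintype.card α = 2 ^ a + 1 ∧ ∃ (F : Type) (_ : Field F) (_ : Fintype F), Fintype.card F = 2 ^ a ∧ Nonempty (G ≃* Matrix.SpecialLinearGroup (Fin 2) F) := by
  classical
  have hsharp := sharp_of_fix G hfix
  have hs := Cfsg.Agent.S0727.sharp3_of hsharp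
  have ht := Cfsg.Agent.S0727.trans3_of h3
  have hcard := Cfsg.Agent.S0727.card_G h3 hsharp hm
  obtain ⟨x⟩ : Nonempty α := Fintype.card_pos_iff.mp (by omega)
  have hsh := Cfsg.Agent.S0727.stab_sharp2 hs ht hcard hm x
  have hβ : Fintype.card (SubMulAction.ofStabilizer G x) = Fintype.card α - 1 := by
    have := SubMulAction.nat_card_ofStabilizer_add_one_eq (G := G) (α := α) x
    rw [Nat.card_eq_fintype_card, Nat.card_eq_fintype_card] at this
    omega
  obtain ⟨p, j, hp, hj, hpj, he⟩ := kernel_exp hsh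
  rw [hβ] at hpj
  have hp2 : p = 2 := by
    have h2 : 2 ∣ p ^ j := by
      rw [← hpj]
      obtain ⟨k, hk⟩ := hodd
      exact ⟨k, by omega⟩
    have := Nat.prime_two.dvd_of_dvd_pow h2
    exact ((Nat.prime_dvd_prime_iff_eq Nat.prime_two hp).mp this).symm
  subst hp2
  have hα : Fintype.card α = 2 ^ j + 1 := by omega
  refine ⟨j, hj, hα, ?_⟩
  by_cases hf2 : 2 ≤ j
  · obtain ⟨F, hF1, hF2, hFc, ⟨e⟩⟩ := Cfsg.Agent.S0727.main_large hf2 hα G h3 hsharp
    obtain ⟨e2⟩ := sl2_equiv_of_psl hj hFc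
    exact ⟨F, hF1, hF2, hFc, ⟨e.trans e2.symm⟩⟩
  · have hf1 : j = 1 := by omega
    subst hf1
    have hα3 : Fintype.card α = 3 := by rw [hα]; norm_num
    have hGtop : G = ⊤ := by
      apply Subgroup.eq_top_of_card_eq
      rw [hcard, hα3, Nat.card_eq_fintype_card, Fintype.card_perm, hα3]
      rfl
    obtain ⟨e2⟩ := Cfsg.Agent.S0727.pgl2_two_equiv hα3
    have hc2 : Fintype.card (ZMod 2) = 2 ^ 1 := by simp [ZMod.card]
    obtain ⟨e3⟩ := Cfsg.Agent.S0727.psl_equiv_pgl (F := ZMod 2) (f := 1) le_rfl hc2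
    obtain ⟨e4⟩ := sl2_equiv_of_psl (F := ZMod 2) (a := 1) le_rfl hc2
    refine ⟨ZMod 2, inferInstance, inferInstance, hc2, ⟨?_⟩⟩
    exact (MulEquiv.subgroupCongr hGtop).trans (Subgroup.topEquiv.trans (e2.trans (e3.symm.trans e4.symm)))

end Cfsg.Agent.S4702
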