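import Cfsg.Statements.S4709
import Cfsg.Agent.Lib.Helper1.BL6

set_option autoImplicit false
open Cfsg

namespace Cfsg.Agent.S4709

/-- Let p be a prime, M a maximal ideal of the algebraic integers containing p, and G a finite group with a nontrivial abelian Sylow p-subgroup P; put N = N_G(P), C = C_G(P). Suppose N/C is cyclic of order m with 1 < m < #P − 1 (C has index m in N and N is generated by C and one element), and C_G(y) ∩ N = C for every non-identity y ∈ P. Put r = (#P − 1)/m. Then there is s ≤ m such that the principal p-block is the disjoint union of a set X of s characters containing the principal character and a set Y of r characters, with integers a_χ ≠ 0 (χ ∈ X), d and a sign δ = ±1, such that: every χ ∈ X takes the value a_χ at every element whose p-part is a non-identity element of P; there is a map ζ from the non-principal linear characters ψ of P onto Y, constant on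 N-conjugacy classes, with ζ_ψ(z) = d + δ·Σ ψ'(y) for every z whose p-part y is a non-identity element of P, the sum running over the N-conjugates ψ' of ψ; (d − δ)^2 + (r − 1) d^2 + Σ_{χ ∈ X} a_χ^2 = m + 1; all members of Y agree on p-regular elements; and (r d − δ) η(g) + Σ_{χ ∈ X} a_χ χ(g) = 0 for every η ∈ Y and every p-regular g. -/
theorem result {G : Type*} [Group G] [Finite G] (p : ℕ) [Fact p.Prime] (M : Ideal Cfsg.AlgInt) (hM : Cfsg.IsPModular p M) (P : Sylow p G) (hab : IsMulCommutative P) (hP1 : Nat.card P ≠ 1) (m : ℕ) (hm1 : 1 < m) (hm2 : m + 1 < Nat.card P) (hCN : (Subgroup.centralizer ((P : Subgroup G) : Set G)).relIndex (Subgroup.normalizer ((P : Subgroup G) : Set G)) = m) (hcyc : ∃ g : G, g ∈ Subgroup.normalizer ((P : Subgroup G) : Set G) ∧ Subgroup.centralizer ((P : Subgroup G) : Set G) ⊔ Subgroup.zpowers g = Subgroup.normalizer ((P : Subgroup G) : Set G)) (hfrob : ∀ y :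 G, y ∈ (P : Subgroup G) → y ≠ 1 → Subgroup.centralizer ({y} : Set G) ⊓ Subgroup.normalizer ((P : Subgroup G) : Set G) = Subgroup.centralizer ((P : Subgroup G) : Set G)) : ∃ (s : ℕ) (X Y : Set (Cfsg.IrrCharacter G)), s ≤ m ∧ Cfsg.principalBlock M G = X ∪ Y ∧ Disjoint X Y ∧ Nat.card X = s ∧ Nat.card Y = (Nat.card P - 1) / m ∧ (∃ χ₁ ∈ X, (χ₁ : G → ℂ) = fun _ => 1) ∧ ∃ (a : Cfsg.IrrCharacter G → ℤ) (d δ : ℤ) (ζ : (↥(P : Subgroup G) →* ℂˣ) → Cfsg.IrrCharacter G), (δ = 1 ∨ δ = -1) ∧ (∀ χ ∈ X, a χ ≠ 0 ∧ ∀ z y : G, Cfsg.IsPPart p z y → y ∈ (P : Subgroup G) → y ≠ 1 → (χ : G → ℂ) z = (a χ : ℂ)) ∧ (∀ ψ : ↥(P : Subgroup G) →* ℂˣ, ψ ≠ 1 → ζ ψ ∈ Y) ∧ (∀ η ∈ Y, ∃ ψ : ↥(P : Subgroup G) →* ℂˣ, ψ ≠ 1 ∧ ζ ψ = η) ∧ (∀ ψ ψ' : ↥(P : Subgroup G) →* ℂˣ, ψ ≠ 1 → (∃ n : G, n ∈ Subgroup.normalizer ((P : Subgroup G) : Set G) ∧ ∀ w w' : ↥(P : Subgroup G), (w' : G) = n * w * n⁻¹ → ψ' w' = ψ w) → ζ ψ' = ζ ψ) ∧ (∀ ψ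 : ↥(P : Subgroup G) →* ℂˣ, ψ ≠ 1 → ∀ (z : G) (y : ↥(P : Subgroup G)), Cfsg.IsPPart p z (y : G) → (y : G) ≠ 1 → (ζ ψ : G → ℂ) z = (d : ℂ) + (δ : ℂ) * ∑ᶠ ψ' ∈ {ψ' : ↥(P : Subgroup G) →* ℂˣ | ∃ n : G, n ∈ Subgroup.normalizer ((P : Subgroup G) : Set G) ∧ ∀ w w' : ↥(P : Subgroup G), (w' : G) = n * w * n⁻¹ → ψ' w' = ψ w}, ((ψ' y : ℂˣ) : ℂ)) ∧ ((d - δ) ^ 2 + ((Nat.card P - 1) / m - 1 : ℤ) * d ^ 2 + ∑ᶠ χ ∈ X, a χ ^ 2 = (m : ℤ) + 1) ∧ (∀ η ∈ Y, ∀ η' ∈ Y, ∀ g : G, ¬ p ∣ orderOf g → (η : G → ℂ) g = (η' : G → ℂ) g) ∧ (∀ η ∈ Y, ∀ g : G, ¬ p ∣ orderOf g → ((((Nat.card P - 1) / m : ℕ) : ℂ) * d - δ) * (η : G → ℂ) g + ∑ᶠ χ ∈ X, (a χ : ℂ) * (χ : G → ℂ) g = 0) := by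
  classical
  have := Fintype.ofFinite G
  have := Fintype.ofFinite ↥(P : Subgroup G)
  have := Fintype.ofFinite ↥(Subgroup.normalizer ((P : Subgroup G) : Set G))
  have := Cfsg.Agent.Lib.Helper81.finite_irrCharacter (G := G)
  have := Fintype.ofFinite (Cfsg.IrrCharacter G)
  have hc : ∀ a b : ↥(P : Subgroup G), a * b = b * a := fun a b =>
    Subtype.ext (Cfsg.Agent.Lib.Helper1.BL.comm_of_mem P a.2 b.2)
  have := Cfsg.Agent.Lib.Helper1.BL.finite_dual hc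
  have := Fintype.ofFinite (↥(P : Subgroup G) →* ℂˣ)
  have hf : Cfsg.Agent.Lib.Helper1.BL.FreeAct P := hfrob
  have hCleN : Subgroup.centralizer ((P : Subgroup G) : Set G) ≤
      Subgroup.normalizer ((P : Subgroup G) : Set G) := Subgroup.centralizer_le_normalizer _
  have hm : Nat.card ↥(Subgroup.normalizer ((P : Subgroup G) : Set G)) =
      m * Nat.card ↥(Subgroup.centralizer ((P : Subgroup G) : Set G)) := by
    have h := Subgroup.relIndex_mul_relIndex (⊥ : Subgroup G) _ _ bot_le hCleN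
    rw [Subgroup.relIndex_bot_left, Subgroup.relIndex_bot_left, hCN] at h
    rw [← h, mul_comm]
  have hPpos : 0 < Nat.card ↥(P : Subgroup G) := Nat.card_pos
  have hP1' : 1 < Nat.card ↥(P : Subgroup G) := by omega
  obtain ⟨l0, hl0⟩ := Cfsg.Agent.Lib.Helper1.BL.exists_ne_one P hP1'
  obtain ⟨l1, hl1, hrel⟩ := Cfsg.Agent.Lib.Helper1.BL.exists_not_rel P hf hm hm2 hl0
  obtain ⟨D⟩ := Cfsg.Agent.Lib.Helper1.BL.exists_blData (M := M) P hM hf m hm
    ⟨l0, l1, hl0, hl1, hrel⟩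
  have hY := Cfsg.Agent.Lib.Helper1.BL.card_Yset P hf hm D
  have hm0 : 0 < m := by omega
  set Xf := Finset.univ.filter (fun χ : Cfsg.IrrCharacter G =>
    χ ∈ Cfsg.Agent.Lib.Helper1.BL.Xset P D) with hXf
  set Yf := Finset.univ.filter (fun χ : Cfsg.IrrCharacter G =>
    χ ∈ Cfsg.Agent.Lib.Helper1.BL.Yset P D) with hYf
  have hr : (Nat.card ↥(P : Subgroup G) - 1) / m = Yf.card := by
    rw [← hY]
    exact Nat.mul_div_cancel _ hm0
  have hrZ : ((Nat.card ↥(P : Subgroup G) : ℤ) - 1) / (m : ℤ) = (Yf.card : ℤ) := by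
    have h1 : ((Nat.card ↥(P : Subgroup G) : ℤ) - 1) = (Yf.card : ℤ) * (m : ℤ) := by
      have : ((Yf.card * m : ℕ) : ℤ) = ((Nat.card ↥(P : Subgroup G) - 1 : ℕ) : ℤ) := by
        rw [hY]
      rw [Nat.cast_sub hPpos] at this
      push_cast at this
      linarith
    rw [h1]
    exact Int.mul_ediv_cancel _ (by exact_mod_cast hm0.ne')
  have hr2 : 2 ≤ Yf.card := by
    by_contra hlt
    have h1 : Yf.card ≤ 1 := by omega
    have h2 : Yf.card * m ≤ 1 * m := Nat.mul_le_mul_right m h1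
    omega
  have hnorm := Cfsg.Agent.Lib.Helper1.BL.norm_eq P D
  have hδ2 : D.δ ^ 2 = 1 := by
    rcases D.hδ with h | h <;> rw [h] <;> norm_num
  have hcardX : Nat.card ↥(Cfsg.Agent.Lib.Helper1.BL.Xset P D) = Xf.card := by
    rw [Nat.card_eq_fintype_card, Fintype.card_subtype]
  have hcardY : Nat.card ↥(Cfsg.Agent.Lib.Helper1.BL.Yset P D) = Yf.card := by
    rw [Nat.card_eq_fintype_card, Fintype.card_subtype]
  refine ⟨Nat.card ↥(Cfsg.Agent.Lib.Helper1.BL.Xset P D), Cfsg.Agent.Lib.Helper1.BL.Xset P D,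
    Cfsg.Agent.Lib.Helper1.BL.Yset P D, ?_, Cfsg.Agent.Lib.Helper1.BL.block_eq P D,
    Cfsg.Agent.Lib.Helper1.BL.disjoint_XY P D, rfl, ?_,
    ⟨Cfsg.Agent.Lib.Helper81.oneIrr G, ?_, rfl⟩, D.a, D.d, D.δ, D.ζ, D.hδ, ?_, ?_, ?_, ?_, ?_,
    ?_, ?_, ?_⟩
  · -- s ≤ m
    rw [hcardX]
    have h1 : (Xf.card : ℤ) ≤ ∑ χ ∈ Xf, D.a χ ^ 2 := by
      rw [Finset.card_eq_sum_ones, Nat.cast_sum]
      refine Finset.sum_le_sum fun χ hχ => ?_
      have hne := Cfsg.Agent.Lib.Helper1.BL.X_a_ne P hM hP1 D (Finset.mem_filter.mp hχ).2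
      have hpos : 0 < D.a χ ^ 2 := by positivity
      push_cast
      linarith
    have h2 : 0 ≤ (Yf.card : ℤ) * D.d ^ 2 - 2 * D.δ * D.d := by
      have hr2' : (2 : ℤ) ≤ (Yf.card : ℤ) := by exact_mod_cast hr2
      have hd2 : 0 ≤ D.d ^ 2 := sq_nonneg _
      rcases D.hδ with h | h
      · rw [h]
        have : 0 ≤ D.d * (D.d - 1) := by
          rcases le_or_gt D.d 0 with h0 | h0
          · nlinarith
          · nlinarith
        nlinarith
      · rw [h]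
        have : 0 ≤ D.d * (D.d + 1) := by
          rcases le_or_gt D.d (-1) with h0 | h0
          · nlinarith
          · nlinarith
        nlinarith
    have h3 : (Xf.card : ℤ) ≤ (m : ℤ) := by linarith
    exact_mod_cast h3
  · rw [hcardY, hr]
  · refine ⟨Cfsg.Agent.Lib.Helper81.oneIrr_mem_principalBlock
      (Cfsg.Agent.Lib.Helper81.isPrime_of_isPModular hM), ?_⟩
    rintro ⟨ψ, hψ, h⟩
    exact Cfsg.Agent.Lib.Helper1.BL.zeta_ne_one P hM hf hm hm2 D hψ h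
  · intro χ hχ
    refine ⟨Cfsg.Agent.Lib.Helper1.BL.X_a_ne P hM hP1 D hχ, fun z y hzy hy hy1 => ?_⟩
    rw [Cfsg.Agent.Lib.Helper1.BL.value_Z P hM hf hχ.1 hzy hy hy1]
    exact Cfsg.Agent.Lib.Helper1.BL.X_value P D hχ (u := ⟨y, hy⟩)
      (fun h => hy1 (congrArg Subtype.val h))
  · intro ψ hψ
    exact ⟨ψ, hψ, rfl⟩
  · intro η hη
    exact hη
  · intro ψ ψ' hψ hrel'
    have hrel'' : Cfsg.Agent.Lib.Helper1.BL.Rel P ψ ψ' := hrel'
    have hψ' : ψ' ≠ 1 := by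
      rintro rfl
      exact hψ ((Cfsg.Agent.Lib.Helper1.BL.rel_one_iff P ψ).mp hrel'')
    exact (D.hζ ψ' ψ hψ' hψ).mpr (Cfsg.Agent.Lib.Helper1.BL.rel_symm P hrel'')
  · intro ψ hψ z y hzy hy1
    rw [Cfsg.Agent.Lib.Helper1.BL.value_Z P hM hf (D.hζB ψ hψ) hzy y.2 hy1,
      Cfsg.Agent.Lib.Helper1.BL.Y_value P D hψ (u := y) (fun h => hy1 (by rw [h]; rfl)),
      Cfsg.Agent.Lib.Helper77.finsum_mem_eq_sum_filter_gen]
    rfl
  · rw [hrZ, Cfsg.Agent.Lib.Helper77.finsum_mem_eq_sum_filter_gen]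
    linear_combination hnorm + hδ2
  · intro η hη η' hη' g hg
    exact Cfsg.Agent.Lib.Helper1.BL.preg_Y_eq P hM D hη hη' hg
  · intro η hη g hg
    rw [hr, Cfsg.Agent.Lib.Helper77.finsum_mem_eq_sum_filter_gen]
    exact Cfsg.Agent.Lib.Helper1.BL.preg_sum P hM D hη hg

end Cfsg.Agent.S4709
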