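import Cfsg.Statements.S4710
import Cfsg.Agent.Lib.Helper74.BrFeit2
-- import your own Cfsg.Agent.* helpers here

set_option autoImplicit false
open Cfsg

namespace Cfsg.Agent.S4710

/-- Let p be a prime, M a maximal ideal of the algebraic integers containing p, and B a p-block of defect d of the finite group G containing k irreducible characters. If B contains a character of positive height then 2k ≤ p^(2d − 2); and every character in B has height 0 when d ≤ 1 and height at most d − 2 when d ≥ 2. -/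
theorem result {G : Type*} [Group G] [Finite G] (p : ℕ) [Fact p.Prime] (M : Ideal Cfsg.AlgInt) (hM : Cfsg.IsPModular p M) (B : Set (Cfsg.IrrCharacter G)) (hB : Cfsg.IsPBlock M B) (d : ℕ) (hd : Cfsg.blockDefect p B = d) : ((∃ χ ∈ B, 0 < Cfsg.blockHeight p B (χ : G → ℂ)) → 2 * Nat.card B ≤ p ^ (2 * d - 2)) ∧ ∀ χ ∈ B, (d ≤ 1 → Cfsg.blockHeight p B (χ : G → ℂ) = 0) ∧ (2 ≤ d → Cfsg.blockHeight p B (χ : G → ℂ) ≤ d - 2) := by
  classical
  have := Fintype.ofFinite G
  have := Fintype.ofFinite (Cfsg.IrrCharacter G)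
  obtain ⟨χ₀, rfl⟩ := hB
  subst hd
  have hMp : M.IsPrime := Cfsg.Agent.Lib.Helper81.isPrime_of_isPModular hM
  have hχ₀B : χ₀ ∈ Cfsg.blockOf M (χ₀ : G → ℂ) := Cfsg.Agent.Lib.Helper81.sameBlock_refl hMp _
  have hma := Cfsg.Agent.Lib.Helper16.minDegVal_le_card p
    (B := Cfsg.blockOf M (χ₀ : G → ℂ)) ⟨χ₀, hχ₀B⟩
  constructor
  · rintro ⟨χ, hχ, hpos⟩
    rw [Cfsg.Agent.Lib.Helper16.blockHeight_eq] at hpos
    have h := Cfsg.Agent.Lib.Helper74.two_mul_card_block_le p M hM χ₀ χ hχ (by omega)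
    have hc : Nat.card (Cfsg.blockOf M (χ₀ : G → ℂ)) =
        (Finset.univ.filter (fun ψ : Cfsg.IrrCharacter G =>
          ψ ∈ Cfsg.blockOf M (χ₀ : G → ℂ))).card := by
      rw [Nat.card_eq_fintype_card, ← Fintype.card_subtype]
    rw [hc]
    exact h
  · intro χ hχ
    have hmv := Cfsg.Agent.Lib.Helper16.minDegVal_le p hχ
    rw [Cfsg.Agent.Lib.Helper16.blockHeight_eq, Cfsg.Agent.Lib.Helper16.blockDefect_eq]
    rcases Cfsg.Agent.Lib.Helper74.height_zero_or_le p M hM χ₀ χ hχ with h | h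
    · constructor
      · intro _
        omega
      · intro _
        omega
    · constructor
      · intro h1
        omega
      · intro _
        omega

end Cfsg.Agent.S4710
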