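import Cfsg.Statements.S4714
import Cfsg.Agent.Lib.Helper16.PC7
import Cfsg.Agent.Lib.Helper77.PPow

set_option autoImplicit false
open Cfsg

namespace Cfsg.Agent.S4714

open Cfsg.Agent.Lib.Helper16 Cfsg.Agent.Lib.Helper77 Cfsg.Agent.Lib.Helper80 Cfsg.Agent.Lib.Helper81

/-- Let p be a prime, M a maximal ideal of the algebraic integers containing p, D a p-subgroup of the finite group G with G = D·C_G(D), and B a p-block with defect group D. Let χ be a member of B having D in its kernel (there is exactly one, the canonical character of B). Then the irreducible characters in B are exactly the functions θ on G for which there is an irreducible character ζ of D such that θ(yx) = ζ(y)χ(x) whenever y ∈ D, x has order prime to p and x commutes with y, and θ(z) = 0 whenever the p-part of z does not lie in D. -/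
theorem result {G : Type*} [Group G] [Finite G] (p : ℕ) [Fact p.Prime] (M : Ideal Cfsg.AlgInt) (hM : Cfsg.IsPModular p M) (D : Subgroup G) (hD : IsPGroup p D) (hG : D ⊔ Subgroup.centralizer (D : Set G) = ⊤) (B : Set (Cfsg.IrrCharacter G)) (hB : Cfsg.IsPBlock M B) (hBD : Cfsg.IsDefectGroup p M B D) (χ : Cfsg.IrrCharacter G) (hχ : χ ∈ B) (hχD : ∀ y ∈ D, (χ : G → ℂ) y = (χ : G → ℂ) 1) : (∀ θ : Cfsg.IrrCharacter G, θ ∈ B ↔ ∃ ζ : Cfsg.IrrCharacter D, (∀ (y : D) (x : G), ¬ p ∣ orderOf x → Commute (y : G) x → (θ : G → ℂ) ((y : G) * x) = (ζ : D → ℂ) y * (χ : G → ℂ) x) ∧ (∀ z : G, (∀ y : G, Cfsg.IsPPart p z y → y ∉ D) → (θ : G → ℂ) z = 0)) ∧ ∀ ζ : Cfsg.IrrCharacter D, ∃ θ ∈ B, (∀ (y : D) (x : G), ¬ p ∣ orderOf x → Commute (y : G) x → (θ : G → ℂ) ((y : G) * x) = (ζ : D → ℂ) y * (χ : G → ℂ) x) ∧ (∀ z : G, (∀ y : G, Cfsg.IsPPart p z y → y ∉ D) → (θ : G → ℂ) z = 0) := by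
  classical
  have := Fintype.ofFinite G
  have := Fintype.ofFinite (IrrCharacter G)
  have := Fintype.ofFinite D
  have := Fintype.ofFinite (IrrCharacter D)
  have hp : p.Prime := Fact.out
  have hMp : M.IsPrime := isPrime_of_isPModular hM
  have hDn : D.Normal := normal_of_sup_centralizer_eq_top D hG
  have hBeq : B = blockOf M (χ : G → ℂ) := eq_blockOf_of_mem hMp hB hχ
  subst hBeq
  obtain ⟨K, r, N, hcard, hpr, hrN, hN1⟩ := exists_ppart_exponent G p hp
  -- forward direction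
  have hA : ∀ θ : IrrCharacter G, θ ∈ blockOf M (χ : G → ℂ) → ∀ ζ : IrrCharacter D,
      LiesOver D θ ζ →
      (∀ (y : D) (x : G), ¬ p ∣ orderOf x → Commute (y : G) x →
        (θ : G → ℂ) ((y : G) * x) = (ζ : D → ℂ) y * (χ : G → ℂ) x) ∧
      (∀ z : G, (∀ y : G, Cfsg.IsPPart p z y → y ∉ D) → (θ : G → ℂ) z = 0) := by
    intro θ hθ ζ hlo
    constructor
    · intro y x hx _
      have hxC : x ∈ Subgroup.centralizer (D : Set G) := mem_centralizer_of_pRegular p D hD hG x hx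
      have h1 := char_mul_of_sup_centralizer_eq_top D hG θ.2 y.2 hxC
      have h2 := hlo y
      have h3 := regular_value_eq D hM hD hG χ hBD χ hχ hχD θ hθ ζ hlo x hx
      have hθ1 : (θ : G → ℂ) 1 ≠ 0 := Cfsg.Agent.Lib.Helper77.irr_one_ne_zero θ.2
      have hζ1 : (ζ : D → ℂ) 1 ≠ 0 := Cfsg.Agent.Lib.Helper77.irr_one_ne_zero ζ.2
      apply mul_right_cancel₀ hθ1
      rw [h1, h3]
      calc (θ : G → ℂ) (y : G) * ((ζ : D → ℂ) 1 * (χ : G → ℂ) x)
          = ((θ : G → ℂ) (y : G) * (ζ : D → ℂ) 1) * (χ : G → ℂ) x := by ring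
        _ = ((ζ : D → ℂ) y * (θ : G → ℂ) 1) * (χ : G → ℂ) x := by rw [h2]
        _ = (ζ : D → ℂ) y * (χ : G → ℂ) x * (θ : G → ℂ) 1 := by ring
    · intro z hz
      have hpp := isPPart_pow hp hcard hpr hrN hN1 z
      exact eq_zero_of_ppart_notMem p M hM D _ ⟨χ, rfl⟩ hBD θ hθ hpp (hz _ hpp)
  -- existence
  have hE : ∀ ζ : IrrCharacter D, ∃ θ ∈ blockOf M (χ : G → ℂ), LiesOver D θ ζ := by
    intro ζ
    obtain ⟨θ, hθ⟩ := exists_fiber_eq_singleton D hM hD hG χ hBD ζ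
    have hθmem : θ ∈ ((Finset.univ.filter
        (fun θ : IrrCharacter G => θ ∈ blockOf M (χ : G → ℂ))).filter
        (fun θ => LiesOver D θ ζ)) := by rw [hθ]; exact Finset.mem_singleton_self _
    exact ⟨θ, (Finset.mem_filter.mp (Finset.mem_filter.mp hθmem).1).2,
      (Finset.mem_filter.mp hθmem).2⟩
  refine ⟨fun θ => ⟨fun hθ => ?_, ?_⟩, fun ζ => ?_⟩
  · obtain ⟨ζ, hlo⟩ := exists_liesOver D hG θ
    exact ⟨ζ, hA θ hθ ζ hlo⟩
  · rintro ⟨ζ, hQ1, hQ2⟩
    obtain ⟨θ', hθ'B, hlo'⟩ := hE ζ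
    obtain ⟨hQ1', hQ2'⟩ := hA θ' hθ'B ζ hlo'
    have heq : θ = θ' := by
      apply Subtype.ext
      funext z
      have hpp := isPPart_pow hp hcard hpr hrN hN1 z
      by_cases hzD : z ^ N ∈ D
      · obtain ⟨x, hx1, hx2, -, hx4⟩ := hpp
        rw [← hx1]
        rw [hQ1 ⟨z ^ N, hzD⟩ x hx4 hx2, hQ1' ⟨z ^ N, hzD⟩ x hx4 hx2]
      · have hall : ∀ y : G, Cfsg.IsPPart p z y → y ∉ D := by
          intro y hy
          rw [← pow_eq_of_isPPart hp hcard hpr hrN hN1 hy]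
          exact hzD
        rw [hQ2 z hall, hQ2' z hall]
    rw [heq]
    exact hθ'B
  · obtain ⟨θ, hθB, hlo⟩ := hE ζ
    exact ⟨θ, hθB, hA θ hθB ζ hlo⟩

end Cfsg.Agent.S4714
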