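import Cfsg.Statements.S4715
import Cfsg.Agent.Lib.Helper52.HtF
import Cfsg.Agent.Lib.Helper52.HtG
import Cfsg.Agent.Lib.Helper52.HtH
import Cfsg.Agent.Lib.Helper52.HtI
import Cfsg.Agent.Lib.Helper52.Subpairs2
import Cfsg.Agent.Lib.Helper77.AbLocal
import Cfsg.Agent.Lib.Helper77.DefectConj

set_option autoImplicit false
open Cfsg

namespace Cfsg.Agent.S4715

open Cfsg.Agent.Lib.Helper81 Cfsg.Agent.Lib.Helper77 Cfsg.Agent.Lib.Helper74
  Cfsg.Agent.Lib.Helper77.Ctb in
/-- Let p be a prime, M a maximal ideal of the algebraic integers containing p, B a p-block of the finite group G with defect group D of order p^d, H = D·C_G(D), b a block of H inducing B, T the stabilizer of b in N_G(D) and e = [T : H] the inertial index of B; let n be the integer with p^n ≤ e < p^(n+1) and p^c the order of the centre of D. Then every irreducible character in B has height h with h + c ≤ n + d. -/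
theorem result {G : Type*} [Group G] [Finite G] (p : ℕ) [Fact p.Prime] (M : Ideal Cfsg.AlgInt) (hM : Cfsg.IsPModular p M) (B : Set (Cfsg.IrrCharacter G)) (hB : Cfsg.IsPBlock M B) (D : Subgroup G) (hBD : Cfsg.IsDefectGroup p M B D) (d : ℕ) (hDd : Nat.card D = p ^ d) (H : Subgroup G) (hH : H = D ⊔ Subgroup.centralizer (D : Set G)) (b : Set (Cfsg.IrrCharacter H)) (hind : Cfsg.IsInducedBlock M H b B) (T : Subgroup G) (hT : ∀ g : G, g ∈ T ↔ (g ∈ Subgroup.normalizer (D : Set G) ∧ ∀ θ ∈ b, ∀ θ' : Cfsg.IrrCharacter H, (∀ h h' : H, (h' : G) = g * h * g⁻¹ → (θ' : H → ℂ) h' = (θ : H → ℂ) h) → θ' ∈ b)) (e : ℕ) (he : H.relIndex T = e) (n : ℕ) (hn : p ^ n ≤ e ∧ e < p ^ (n + 1)) (c : ℕ) (hc : Nat.card (Subgroup.center D) = p ^ c) : ∀ χ ∈ B, Cfsg.blockHeight p B (χ : G → ℂ) + c ≤ n + d := by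
  classical
  intro χ hχ
  subst hH
  have := Fintype.ofFinite G
  have := Fintype.ofFinite (IrrCharacter G)
  have hp : p.Prime := Fact.out
  have hMp := isPrime_of_isPModular hM
  have hDp : IsPGroup p D := isPGroup_of_isDefectGroup hBD
  obtain ⟨c₀, hc₀ind, hc₀stab⟩ := Cfsg.Agent.Lib.Helper52.HtF.exists_centralizer_block hM hDp hind
  have hBP : IsBrauerPairOf p M B D c₀ := isBrauerPairOf_of_isInducedBlock hM hDp hc₀ind
  -- the centre of `D` as a subgroup of `G`
  set Z : Subgroup G := (Subgroup.center D).map D.subtype with hZ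
  have hZD : Z ≤ D := by
    rintro _ ⟨z, -, rfl⟩
    exact z.2
  have hDZ : D ≤ Subgroup.centralizer (Z : Set G) := by
    intro x hx
    rw [Subgroup.mem_centralizer_iff]
    rintro _ ⟨z, hz, rfl⟩
    have h1 := Subgroup.mem_center_iff.mp hz ⟨x, hx⟩
    exact (congrArg Subtype.val h1).symm
  have hcardZ : Nat.card Z = p ^ c := by
    rw [hZ, Subgroup.card_map_of_injective (Subgroup.subtype_injective _), hc]
  have hHZ : D ⊔ Subgroup.centralizer (D : Set G) ≤ Subgroup.centralizer (Z : Set G) :=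
    sup_le hDZ (Subgroup.centralizer_le hZD)
  -- the family of subpairs
  have : ∀ Q : Subgroup G, Fintype (Subgroup.centralizer (Q : Set G)) := fun Q =>
    Fintype.ofFinite _
  have : ∀ Q : Subgroup G, Fintype (IrrCharacter (Subgroup.centralizer (Q : Set G))) := fun Q =>
    Fintype.ofFinite _
  have hexF : ∀ Q : Subgroup G, ∃ f : Set (IrrCharacter (Subgroup.centralizer (Q : Set G))),
      Q ≤ D → SubpairLE p M Q f D c₀ := by
    intro Q
    by_cases hQ : Q ≤ D
    · obtain ⟨f, -, hf⟩ := Cfsg.Agent.Lib.Helper52.Subpairs.exists_subpairLE hM _ D Q c₀ rfl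
        hBP.1 hQ
      exact ⟨f, fun _ => hf⟩
    · exact ⟨∅, fun h => absurd h hQ⟩
  choose F hF using hexF
  have hF' : ∀ z ∈ Z, SubpairLE p M (Subgroup.zpowers z) (F (Subgroup.zpowers z)) D c₀ :=
    fun z hz => hF _ (by
      rw [Subgroup.zpowers_le]
      exact hZD hz)
  have : Fintype Z := Fintype.ofFinite _
  have hlow := Cfsg.Agent.Lib.Helper52.HtG.lower_bound hM hBP hBD Z hZD hDZ F hF' χ hχ
  -- the orbit bound
  have hNH : ∀ t : G, t ∈ Subgroup.normalizer (D : Set G) → t ∈ Subgroup.normalizer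
      ((D ⊔ Subgroup.centralizer (D : Set G) : Subgroup G) : Set G) := by
    intro t ht
    have h1 := Subgroup.mem_normalizer_iff_map_conj_eq.mp ht
    have h2 := Subgroup.mem_normalizer_iff_map_conj_eq.mp
      (Cfsg.Agent.S4691.normalizer_le_normalizer_centralizer' D ht)
    apply Subgroup.mem_normalizer_iff_map_conj_eq.mpr
    rw [Subgroup.map_sup, h1, h2]
  have horb : ∀ (z₀ : Z) (S : Finset Z), (∀ z ∈ S, ∃ t : G,
      t ∈ Subgroup.normalizer (D : Set G) ∧
      StabilizesBlock (Subgroup.centralizer (D : Set G)) c₀ t ∧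
        t * (z₀ : G) * t⁻¹ = (z : G)) → S.card ≤ e := by
    intro z₀ S hS
    rw [← he]
    refine Cfsg.Agent.Lib.Helper52.HtI.card_le_relIndex_of_conj _ T Z hHZ z₀ S ?_
    intro z hz
    obtain ⟨t, htN, hst, htz⟩ := hS z hz
    refine ⟨t, ?_, htz⟩
    rw [hT]
    refine ⟨htN, fun θ hθ θ' hrel => ?_⟩
    have h1 := hc₀stab t (hNH t htN) hst θ hθ
    have h2 := eq_cjIrr_of_isConjCharOf _ t (hNH t htN) (θ := θ) (θ' := θ') hrel
    rw [h2]
    exact h1
  have hup := Cfsg.Agent.Lib.Helper52.HtH.upper_bound hM hBP hBD Z hZD hDZ F hF' χ e horb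
  -- the defect
  have hdB : blockDefect p B = d := by
    obtain ⟨χ₀, hχ₀⟩ := hB
    rw [hχ₀] at hBD ⊢
    have h1 := card_eq_pow_blockDefect_of_isDefectGroup hM χ₀ hBD
    rw [hDd] at h1
    exact (Nat.pow_right_injective hp.two_le h1).symm
  -- the arithmetic
  have hsum : ∑ z : Z, ‖((p ^ blockDefect p B : ℕ) : ℂ) *
      ctb p (z : G) (Subgroup.centralizer ((Subgroup.zpowers (z : G) : Subgroup G) : Set G))
        (F (Subgroup.zpowers (z : G))) (χ : G → ℂ) (χ : G → ℂ)‖ =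
      ((p ^ d : ℕ) : ℝ) * ∑ z : Z, ‖ctb p (z : G)
        (Subgroup.centralizer ((Subgroup.zpowers (z : G) : Subgroup G) : Set G))
          (F (Subgroup.zpowers (z : G))) (χ : G → ℂ) (χ : G → ℂ)‖ := by
    rw [Finset.mul_sum, hdB]
    refine Finset.sum_congr rfl fun z _ => ?_
    rw [norm_mul, Complex.norm_natCast]
  rw [hsum] at hlow
  have hpd : (0 : ℝ) ≤ ((p ^ d : ℕ) : ℝ) := Nat.cast_nonneg _
  have h1 : (Fintype.card Z : ℝ) * (p : ℝ) ^ blockHeight p B (χ : G → ℂ) ≤
      ((p ^ d : ℕ) : ℝ) * (e : ℝ) := hlow.trans (mul_le_mul_of_nonneg_left hup hpd)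
  have h2 : p ^ c * p ^ blockHeight p B (χ : G → ℂ) ≤ p ^ d * e := by
    rw [← hcardZ, Nat.card_eq_fintype_card]
    exact_mod_cast h1
  have h3 : p ^ (c + blockHeight p B (χ : G → ℂ)) < p ^ (d + (n + 1)) := by
    rw [pow_add, pow_add]
    exact lt_of_le_of_lt h2 (Nat.mul_lt_mul_of_pos_left hn.2 (pow_pos hp.pos d))
  have h4 := (Nat.pow_lt_pow_iff_right hp.one_lt).mp h3
  omega

end Cfsg.Agent.S4715
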