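import Cfsg.Statements.S4721
import Cfsg.Agent.Lib.Helper80.BL721f

set_option linter.style.haveILetI false

set_option autoImplicit false
open Cfsg

namespace Cfsg.Agent.S4721

/-- Let p be a prime, M a maximal ideal of the algebraic integers containing p, and G a finite group with a nontrivial abelian Sylow p-subgroup P, N = N_G(P), C = C_G(P), such that N/C is cyclic of order 3, #P > 4, and C_G(y) ∩ N = C for every non-identity y ∈ P. Then the principal p-block is the disjoint union of a set X of exactly 3 characters containing the principal character and a set Y of (#P − 1)/3 characters, with signs a_χ = ±1 (χ ∈ X, a = 1 at the principal character) and δ = ±1 such that every χ ∈ X takes the value a_χ at every element whose p-part is a non-identity element of P, and there is a map ζ from the non-principal linear characters of P onto Y, constant on N-conjugacy classes, with ζ_ψ(z) = δ·Σ ψ'(y) over the N-orbit of ψ, for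 z with p-part y ≠ 1 in P. If moreover G has an involution lying in no proper normal subgroup of G, then exactly two of the three numbers −δ and a_χ (χ ∈ X non-principal) equal −1, and the product of the degrees of the two non-principal members of X and of any member of Y is a perfect square. -/
theorem result {G : Type*} [Group G] [Finite G] (p : ℕ) [Fact p.Prime] (M : Ideal Cfsg.AlgInt) (hM : Cfsg.IsPModular p M) (P : Sylow p G) (hab : IsMulCommutative P) (hP1 : Nat.card P ≠ 1) (hCN : (Subgroup.centralizer ((P : Subgroup G) : Set G)).relIndex (Subgroup.normalizer ((P : Subgroup G) : Set G)) = 3) (hcyc : ∃ g : G, g ∈ Subgroup.normalizer ((P : Subgroup G) : Set G) ∧ Subgroup.centralizer ((P : Subgroup G) : Set G) ⊔ Subgroup.zpowers g = Subgroup.normalizer ((P : Subgroup G) : Set G)) (hm2 : 3 + 1 < Nat.card P) (hfrob : ∀ y : G, y ∈ (P : Subgroup G) → y ≠ 1 → Subgroup.centralizer ({y} : Set G) ⊓ Subgroup.normalizer ((P :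 Subgroup G) : Set G) = Subgroup.centralizer ((P : Subgroup G) : Set G)) : ∃ (X Y : Set (Cfsg.IrrCharacter G)), Cfsg.principalBlock M G = X ∪ Y ∧ Disjoint X Y ∧ Nat.card X = 3 ∧ Nat.card Y = (Nat.card P - 1) / 3 ∧ (∃ χ₁ ∈ X, (χ₁ : G → ℂ) = fun _ => 1) ∧ ∃ (a : Cfsg.IrrCharacter G → ℤ) (δ : ℤ) (ζ : (↥(P : Subgroup G) →* ℂˣ) → Cfsg.IrrCharacter G), (δ = 1 ∨ δ = -1) ∧ (∀ χ ∈ X, (a χ = 1 ∨ a χ = -1) ∧ ∀ z y : G, Cfsg.IsPPart p z y → y ∈ (P : Subgroup G) → y ≠ 1 → (χ : G → ℂ) z = (a χ : ℂ)) ∧ (∀ ψ : ↥(P : Subgroup G) →* ℂˣ, ψ ≠ 1 → ζ ψ ∈ Y) ∧ (∀ η ∈ Y, ∃ ψ : ↥(P : Subgroup G) →* ℂˣ, ψ ≠ 1 ∧ ζ ψ = η) ∧ (∀ ψ ψ' : ↥(P : Subgroup G) →* ℂˣ, ψ ≠ 1 → (∃ n : G, n ∈ Subgroup.normalizer ((P : Subgroup G) : Set G) ∧ ∀ w w' : ↥(P : Subgroup G), (w' : G) = n * w * n⁻¹ → ψ' w' = ψ w) → ζ ψ' = ζ ψ) ∧ (∀ ψ : ↥(P : Subgroup G) →* ℂˣ, ψ ≠ 1 → ∀ (z : G) (y : ↥(P : Subgroup G)), Cfsg.IsPPart p z (y : G) → (y : G) ≠ 1 → (ζ ψ : G → ℂ) z = (δ : ℂ)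 * ∑ᶠ ψ' ∈ {ψ' : ↥(P : Subgroup G) →* ℂˣ | ∃ n : G, n ∈ Subgroup.normalizer ((P : Subgroup G) : Set G) ∧ ∀ w w' : ↥(P : Subgroup G), (w' : G) = n * w * n⁻¹ → ψ' w' = ψ w}, ((ψ' y : ℂˣ) : ℂ)) ∧ ((∃ t : G, orderOf t = 2 ∧ ∀ K : Subgroup G, K.Normal → t ∈ K → K = ⊤) → Nat.card {χ : Cfsg.IrrCharacter G // χ ∈ X ∧ (χ : G → ℂ) ≠ (fun _ => 1) ∧ a χ = -1} + (if δ = 1 then 1 else 0) = 2 ∧ ∀ η ∈ Y, IsSquare (Cfsg.charDegree (η : G → ℂ) * ∏ᶠ χ ∈ {χ : Cfsg.IrrCharacter G | χ ∈ X ∧ (χ : G → ℂ) ≠ fun _ => 1}, Cfsg.charDegree (χ : G → ℂ))) := by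
  classical
  have := Fintype.ofFinite G
  have := Fintype.ofFinite ↥(P : Subgroup G)
  have := Fintype.ofFinite ↥(Subgroup.normalizer ((P : Subgroup G) : Set G))
  have := Cfsg.Agent.Lib.Helper81.finite_irrCharacter (G := G)
  have := Fintype.ofFinite (Cfsg.IrrCharacter G)
  have hc : ∀ a b : ↥(P : Subgroup G), a * b = b * a := fun a b =>
    Subtype.ext (Cfsg.Agent.Lib.Helper1.BL.comm_of_mem P a.2 b.2)
  have := Cfsg.Agent.Lib.Helper1.BL.finite_dual hc
  have := Fintype.ofFinite (↥(P : Subgroup G) →* ℂˣ)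
  have hf : Cfsg.Agent.Lib.Helper1.BL.FreeAct P := hfrob
  have hCleN : Subgroup.centralizer ((P : Subgroup G) : Set G) ≤
      Subgroup.normalizer ((P : Subgroup G) : Set G) := Subgroup.centralizer_le_normalizer _
  have hm : Nat.card ↥(Subgroup.normalizer ((P : Subgroup G) : Set G)) =
      3 * Nat.card ↥(Subgroup.centralizer ((P : Subgroup G) : Set G)) := by
    have h := Subgroup.relIndex_mul_relIndex (⊥ : Subgroup G) _ _ bot_le hCleN
    rw [Subgroup.relIndex_bot_left, Subgroup.relIndex_bot_left, hCN] at h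
    rw [← h, mul_comm]
  have hPpos : 0 < Nat.card ↥(P : Subgroup G) := Nat.card_pos
  have hm2' : 3 + 1 < Nat.card ↥(P : Subgroup G) := hm2
  obtain ⟨D, hd⟩ := Cfsg.Agent.Lib.Helper80.BL3.exists_blData_zero (M := M) P hM hf hCN hm hm2'
  obtain ⟨χ₂, χ₃, h23, h2, h3, hX, ha₂, ha₃⟩ :=
    Cfsg.Agent.Lib.Helper80.BL3.X_structure P hM hf hm hm2' D hd
  have ha1 := Cfsg.Agent.Lib.Helper80.BL3.a_one P hM hf hm hm2' hP1 D
  have hY := Cfsg.Agent.Lib.Helper1.BL.card_Yset P hf hm D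
  set Xf := Finset.univ.filter (fun χ : Cfsg.IrrCharacter G =>
    χ ∈ Cfsg.Agent.Lib.Helper1.BL.Xset P D) with hXf
  set Yf := Finset.univ.filter (fun χ : Cfsg.IrrCharacter G =>
    χ ∈ Cfsg.Agent.Lib.Helper1.BL.Yset P D) with hYf
  have hr : (Nat.card ↥(P : Subgroup G) - 1) / 3 = Yf.card := by
    rw [← hY]
    exact Nat.mul_div_cancel _ (by norm_num)
  have hcardX : Nat.card ↥(Cfsg.Agent.Lib.Helper1.BL.Xset P D) = Xf.card := by
    rw [Nat.card_eq_fintype_card, Fintype.card_subtype]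
  have hcardY : Nat.card ↥(Cfsg.Agent.Lib.Helper1.BL.Yset P D) = Yf.card := by
    rw [Nat.card_eq_fintype_card, Fintype.card_subtype]
  have hmemX : ∀ χ : Cfsg.IrrCharacter G, χ ∈ Cfsg.Agent.Lib.Helper1.BL.Xset P D ↔
      χ = Cfsg.Agent.Lib.Helper81.oneIrr G ∨ χ = χ₂ ∨ χ = χ₃ := by
    intro χ
    have : χ ∈ Xf ↔ χ ∈ Cfsg.Agent.Lib.Helper1.BL.Xset P D := by
      rw [hXf, Finset.mem_filter]
      exact ⟨fun h => h.2, fun h => ⟨Finset.mem_univ _, h⟩⟩
    rw [← this, hX]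
    simp
  have hne1 : ∀ χ : Cfsg.IrrCharacter G, ((χ : G → ℂ) ≠ fun _ => 1) ↔
      χ ≠ Cfsg.Agent.Lib.Helper81.oneIrr G := by
    intro χ
    constructor
    · intro h h'
      apply h
      rw [h']
      rfl
    · intro h h'
      exact h (Subtype.ext h')
  have haX : ∀ χ ∈ Cfsg.Agent.Lib.Helper1.BL.Xset P D, D.a χ = 1 ∨ D.a χ = -1 := by
    intro χ hχ
    rcases (hmemX χ).mp hχ with rfl | rfl | rfl
    · left; exact ha1
    · exact ha₂
    · exact ha₃
  refine ⟨Cfsg.Agent.Lib.Helper1.BL.Xset P D, Cfsg.Agent.Lib.Helper1.BL.Yset P D,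
    Cfsg.Agent.Lib.Helper1.BL.block_eq P D, Cfsg.Agent.Lib.Helper1.BL.disjoint_XY P D, ?_, ?_,
    ⟨Cfsg.Agent.Lib.Helper81.oneIrr G, (hmemX _).mpr (Or.inl rfl), rfl⟩,
    D.a, D.δ, D.ζ, D.hδ, ?_, ?_, ?_, ?_, ?_, ?_⟩
  · -- card X = 3
    rw [hcardX, hX]
    rw [Finset.card_insert_of_notMem (by simp [h2.symm, h3.symm]),
      Finset.card_insert_of_notMem (by simp [h23]), Finset.card_singleton]
  · rw [hcardY, hr]
  · intro χ hχ
    refine ⟨haX χ hχ, fun z y hzy hy hy1 => ?_⟩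
    rw [Cfsg.Agent.Lib.Helper1.BL.value_Z P hM hf hχ.1 hzy hy hy1]
    exact Cfsg.Agent.Lib.Helper1.BL.X_value P D hχ (u := ⟨y, hy⟩)
      (fun h => hy1 (congrArg Subtype.val h))
  · intro ψ hψ
    exact ⟨ψ, hψ, rfl⟩
  · intro η hη
    exact hη
  · intro ψ ψ' hψ hrel'
    have hrel'' : Cfsg.Agent.Lib.Helper1.BL.Rel P ψ ψ' := hrel'
    have hψ' : ψ' ≠ 1 := by
      rintro rfl
      exact hψ ((Cfsg.Agent.Lib.Helper1.BL.rel_one_iff P ψ).mp hrel'')
    exact (D.hζ ψ' ψ hψ' hψ).mpr (Cfsg.Agent.Lib.Helper1.BL.rel_symm P hrel'')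
  · intro ψ hψ z y hzy hy1
    rw [Cfsg.Agent.Lib.Helper1.BL.value_Z P hM hf (D.hζB ψ hψ) hzy y.2 hy1,
      Cfsg.Agent.Lib.Helper1.BL.Y_value P D hψ (u := y) (fun h => hy1 (by rw [h]; rfl)),
      Cfsg.Agent.Lib.Helper77.finsum_mem_eq_sum_filter_gen, hd, Int.cast_zero, zero_add]
    rfl
  · -- the involution clause
    rintro ⟨t, hto, htK⟩
    by_cases hp2 : p = 2
    · exact (Cfsg.Agent.Lib.Helper80.BL3.involution_clause_even P hM hf hCN hm hm2' D hd h23 h2 h3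
        hX ha₂ ha₃ hp2 hto htK).elim
    · have hP1' : 1 < Nat.card ↥(P : Subgroup G) := by omega
      obtain ⟨l0, hl0⟩ := Cfsg.Agent.Lib.Helper1.BL.exists_ne_one P hP1'
      have hη0 : D.ζ l0 ∈ Cfsg.Agent.Lib.Helper1.BL.Yset P D := ⟨l0, hl0, rfl⟩
      have hmain := fun (η : Cfsg.IrrCharacter G)
          (hη : η ∈ Cfsg.Agent.Lib.Helper1.BL.Yset P D) =>
        Cfsg.Agent.Lib.Helper80.BL3.involution_clause_odd P hM hf hCN hm hm2' D hd h23 h2 h3
          hX ha₂ ha₃ hp2 hto htK hη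
      have hset : {χ : Cfsg.IrrCharacter G | χ ∈ Cfsg.Agent.Lib.Helper1.BL.Xset P D ∧
          (χ : G → ℂ) ≠ fun _ => 1} = {χ₂, χ₃} := by
        ext χ
        simp only [Set.mem_ofPred_eq, Set.mem_insert_iff, Set.mem_singleton_iff]
        rw [hmemX, hne1]
        constructor
        · rintro ⟨h | h | h, hne⟩
          · exact absurd h hne
          · exact Or.inl h
          · exact Or.inr h
        · rintro (h | h)
          · exact ⟨Or.inr (Or.inl h), h ▸ h2⟩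
          · exact ⟨Or.inr (Or.inr h), h ▸ h3⟩
      constructor
      · have hcount := (hmain _ hη0).1
        have hcard : Nat.card {χ : Cfsg.IrrCharacter G //
            χ ∈ Cfsg.Agent.Lib.Helper1.BL.Xset P D ∧ (χ : G → ℂ) ≠ (fun _ => 1) ∧ D.a χ = -1} =
            (({χ₂, χ₃} : Finset (Cfsg.IrrCharacter G)).filter (fun χ => D.a χ = -1)).card := by
          rw [Nat.card_eq_fintype_card, Fintype.card_subtype]
          congr 1
          ext χ
          simp only [Finset.mem_filter, Finset.mem_univ, true_and, Finset.mem_insert,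
            Finset.mem_singleton]
          rw [hmemX, hne1]
          constructor
          · rintro ⟨h | h | h, hne, ha⟩
            · exact absurd h hne
            · exact ⟨Or.inl h, ha⟩
            · exact ⟨Or.inr h, ha⟩
          · rintro ⟨h | h, ha⟩
            · exact ⟨Or.inr (Or.inl h), h ▸ h2, ha⟩
            · exact ⟨Or.inr (Or.inr h), h ▸ h3, ha⟩
        rw [hcard, Finset.filter_insert, Finset.filter_singleton]
        rcases ha₂ with e₂ | e₂ <;> rcases ha₃ with e₃ | e₃ <;> rcases D.hδ with e₄ | e₄ <;>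
          simp [e₂, e₃, e₄, h23] at hcount ⊢
      · intro η hη
        rw [hset, finprod_mem_pair h23]
        exact (hmain η hη).2


end Cfsg.Agent.S4721
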