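import Cfsg.Statements.S4723
import Cfsg.Agent.Lib.Helper1.FongCover4

set_option autoImplicit false
open Cfsg
open Cfsg.Agent.Lib.Helper1 Cfsg.Agent.Lib.Helper77 Cfsg.Agent.Lib.Helper80 Cfsg.Agent.Lib.Helper81 Cfsg.Agent.Lib.Helper16

namespace Cfsg.Agent.S4723

/-- Let p be a prime, M a maximal ideal of the algebraic integers containing p, H a normal subgroup of the finite group G and b a p-block of H. Let T be the stabilizer of b in G. Then b contains a character θ of height zero whose own stabilizer in G (the elements g with θ(g h g⁻¹) = θ(h) for all h ∈ H) has index prime to p in T, i.e. contains a Sylow p-subgroup of T. -/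
theorem result {G : Type*} [Group G] [Finite G] (p : ℕ) [Fact p.Prime] (M : Ideal Cfsg.AlgInt) (hM : Cfsg.IsPModular p M) (H : Subgroup G) [H.Normal] (b : Set (Cfsg.IrrCharacter ↥H)) (hb : Cfsg.IsPBlock M b) (T : Subgroup G) (hT : (∀ g : G, g ∈ T ↔ ∀ θ ∈ b, ∀ θ' : Cfsg.IrrCharacter ↥H, (∀ h h' : ↥H, (h' : G) = g * h * g⁻¹ → (θ' : ↥H → ℂ) h' = (θ : ↥H → ℂ) h) → θ' ∈ b)) : ∃ θ ∈ b, Cfsg.blockHeight p b (θ : ↥H → ℂ) = 0 ∧ ∃ S : Subgroup G, S ≤ T ∧ (∀ g : G, g ∈ S ↔ (g ∈ T ∧ ∀ h h' : ↥H, (h' : G) = g * h * g⁻¹ → (θ : ↥H → ℂ) h' = (θ : ↥H → ℂ) h)) ∧ ¬ p ∣ S.relIndex T := by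
  classical
  have := Fintype.ofFinite G
  have hMp : M.IsPrime := isPrime_of_isPModular hM
  have hHnorm : H.Normal := inferInstance
  -- `H ≤ T`
  have hHT : H ≤ T := by
    intro g hg
    rw [hT]
    intro θ hθ θ' h
    have hθθ' : θ' = θ := by
      apply Subtype.ext
      funext x
      have hx : g⁻¹ * (x : G) * g ∈ H := by
        have := hHnorm.conj_mem x x.2 g⁻¹
        simpa using this
      have h1 := h ⟨g⁻¹ * (x : G) * g, hx⟩ x (by simp [mul_assoc])
      rw [h1]
      have h2 := isClassFunction_of_isCharacter θ.2 x (⟨g, hg⟩ : H)⁻¹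
      rw [← h2]
      refine congrArg _ (Subtype.ext ?_)
      simp
    rw [hθθ']
    exact hθ
  set H' : Subgroup T := H.subgroupOf T with hH'
  set φ : H' ≃* H := Subgroup.subgroupOfEquivOfLe hHT with hφ
  have hφcoe : ∀ n : H', ((φ n : H) : G) = ((n : T) : G) := fun n => rfl
  have hφsymm : ∀ h : H, (((φ.symm h : H') : T) : G) = (h : G) := by
    intro h
    rw [← hφcoe, MulEquiv.apply_symm_apply]
  set b' : Set (IrrCharacter H') := irrMap φ '' b with hb'
  have hb'blk : IsPBlock M b' := isPBlock_irrMap_image φ hb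
  have hinv' : GInv H' b' := by
    rintro t θ₁ ⟨θ, hθ, rfl⟩ θ₁' h
    have ht : ((t : G))⁻¹ ∈ T := T.inv_mem t.2
    have hθ' : irrMap φ.symm θ₁' ∈ b := by
      refine (hT _).mp ht θ hθ (irrMap φ.symm θ₁') ?_
      intro x x' hxx'
      rw [irrMap_apply, h, irrMap_apply]
      refine congrArg _ (Subtype.ext ?_)
      rw [hφcoe]
      show (t : G) * (((φ.symm x' : H') : T) : G) * ((t : G))⁻¹ = (x : G)
      rw [hφsymm, hxx']
      simp [mul_assoc]
    exact ⟨irrMap φ.symm θ₁', hθ', irrMap_irrMap_symm φ θ₁'⟩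
  obtain ⟨θ₁, ⟨θ, hθb, rfl⟩, hht, hidx⟩ :=
    exists_height_zero_inertia H' hM hb'blk hinv'
  refine ⟨θ, hθb, ?_, ?_⟩
  · rw [blockHeight_eq] at hht ⊢
    have h1 : charDegree (irrMap φ θ : H' → ℂ) = charDegree (θ : H → ℂ) := by
      unfold charDegree
      rw [irrMap_apply, map_one]
    have h2 : minDegVal p b' = minDegVal p b := by
      unfold minDegVal
      rw [hb', Set.image_image]
      have h3 : (fun x : IrrCharacter H => (charDegree (irrMap φ x : H' → ℂ)).factorization p) =
          fun χ : IrrCharacter H => (charDegree (χ : H → ℂ)).factorization p := by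
        funext ψ
        unfold charDegree
        rw [irrMap_apply, map_one]
      rw [h3]
    rw [h1, h2] at hht
    exact hht
  · refine ⟨(Cfsg.Agent.Lib.Helper79.inertia H' (irrMap φ θ : H' → ℂ)).map T.subtype,
      Subgroup.map_subtype_le _, ?_, ?_⟩
    · intro g
      constructor
      · rintro ⟨t, ht, rfl⟩
        refine ⟨t.2, ?_⟩
        intro x x' hxx'
        have h1 := congrFun ((Cfsg.Agent.Lib.Helper79.mem_inertia H' _ t).mp ht) (φ.symm x)
        rw [Cfsg.Agent.Lib.Helper75.conjFun_apply, irrMap_apply, irrMap_apply,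
          MulEquiv.apply_symm_apply] at h1
        rw [← h1]
        refine congrArg _ (Subtype.ext ?_)
        rw [hφcoe]
        show (x' : G) = (t : G) * (((φ.symm x : H') : T) : G) * ((t : G))⁻¹
        rw [hφsymm, hxx']
        rfl
      · rintro ⟨hgT, hg⟩
        refine ⟨⟨g, hgT⟩, ?_, rfl⟩
        rw [SetLike.mem_coe, Cfsg.Agent.Lib.Helper79.mem_inertia]
        funext n
        rw [Cfsg.Agent.Lib.Helper75.conjFun_apply, irrMap_apply, irrMap_apply]
        apply hg
        rw [hφcoe, hφcoe]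
        rfl
    · unfold Subgroup.relIndex Subgroup.subgroupOf
      rw [Subgroup.comap_map_eq_self_of_injective (Subgroup.subtype_injective T)]
      exact hidx

end Cfsg.Agent.S4723
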