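import Cfsg.Statements.S4725
import Cfsg.Agent.Lib.Helper77.IndPart
import Cfsg.Agent.Lib.Helper74.DZ4
import Cfsg.Agent.Lib.Helper81.Irr
import Cfsg.Agent.Lib.Helper3.Induced
-- import your own Cfsg.Agent.* helpers here

set_option autoImplicit false
open Cfsg

namespace Cfsg.Agent.S4725

/-- Let p be a prime, M a maximal ideal of the algebraic integers containing p, H a subgroup of the finite group G, and b a p-block of H inducing the p-block B of G, with b and B of the same defect. Then for every height-zero ζ ∈ b there is a height-zero χ ∈ B whose multiplicity in the character induced from ζ is not divisible by p. -/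
theorem result {G : Type*} [Group G] [Fintype G] (p : ℕ) [Fact p.Prime] (M : Ideal Cfsg.AlgInt) (hM : Cfsg.IsPModular p M) (H : Subgroup G) (b : Set (Cfsg.IrrCharacter ↥H)) (B : Set (Cfsg.IrrCharacter G)) (hind : Cfsg.IsInducedBlock M H b B) (hdef : Cfsg.blockDefect p b = Cfsg.blockDefect p B) (ζ : Cfsg.IrrCharacter ↥H) (hζ : ζ ∈ b) (hζ0 : Cfsg.blockHeight p b (ζ : ↥H → ℂ) = 0) : ∃ χ ∈ B, Cfsg.blockHeight p B (χ : G → ℂ) = 0 ∧ ∃ a : ℕ, Cfsg.classInner (Cfsg.indFun H (ζ : ↥H → ℂ)) (χ : G → ℂ) = (a : ℂ) ∧ ¬ p ∣ a := by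
  classical
  have := Fintype.ofFinite H
  have := Fintype.ofFinite (Cfsg.IrrCharacter G)
  have hp : p.Prime := Fact.out
  have hMp : M.IsPrime := Cfsg.Agent.Lib.Helper81.isPrime_of_isPModular hM
  obtain ⟨χ₁, hBχ₁⟩ := hind.2.1
  have hχ₁ : χ₁ ∈ B := by
    rw [hBχ₁]
    exact Cfsg.Agent.Lib.Helper81.sameBlock_refl hMp _
  obtain ⟨n, hn, hn1, -⟩ := Cfsg.Agent.Lib.Helper77.indFun_blockPart_valuation hM H hind hζ χ₁
  obtain ⟨hn0, hnfac⟩ := hn1 hχ₁
  rw [← hBχ₁] at hn
  -- multiplicities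
  have hζc : Cfsg.IsCharacter H (ζ : H → ℂ) := Cfsg.Agent.Lib.Helper3.IsIrrCharacter.isCharacter ζ.2
  have hindc : Cfsg.IsCharacter G (Cfsg.indFun H (ζ : H → ℂ)) :=
    Cfsg.Agent.Lib.Helper3.isCharacter_indFun H hζc
  have hmult : ∀ χ : Cfsg.IrrCharacter G, ∃ m : ℕ,
      Cfsg.classInner (Cfsg.indFun H (ζ : H → ℂ)) (χ : G → ℂ) = (m : ℂ) := fun χ =>
    Cfsg.Agent.Lib.Helper15.exists_nat_classInner hindc
      (Cfsg.Agent.Lib.Helper3.IsIrrCharacter.isCharacter χ.2)
  choose m hm using hmult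
  -- `n = ∑_{χ ∈ B} m χ * χ(1)`
  have hnsum : n = ∑ χ ∈ Finset.univ.filter (fun χ : Cfsg.IrrCharacter G => χ ∈ B),
      m χ * Cfsg.charDegree (χ : G → ℂ) := by
    have h1 := Cfsg.Agent.Lib.Helper77.blockPart_eq_sum B (Cfsg.indFun H (ζ : H → ℂ)) 1
    rw [hn] at h1
    have h2 : ((n : ℕ) : ℂ) = ((∑ χ ∈ Finset.univ.filter (fun χ : Cfsg.IrrCharacter G => χ ∈ B),
        m χ * Cfsg.charDegree (χ : G → ℂ) : ℕ) : ℂ) := by
      rw [h1]
      push_cast
      apply Finset.sum_congr rfl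
      intro χ _
      rw [hm χ, Cfsg.Agent.Lib.Helper81.irr_apply_one_eq_charDegree χ]
    exact_mod_cast h2
  -- valuations
  set aG := (Nat.card G).factorization p with haG
  set aH := (Nat.card H).factorization p with haH
  set sB := sInf ((fun χ : Cfsg.IrrCharacter G =>
    (Cfsg.charDegree (χ : G → ℂ)).factorization p) '' B) with hsB
  set sb := sInf ((fun χ : Cfsg.IrrCharacter H =>
    (Cfsg.charDegree (χ : H → ℂ)).factorization p) '' b) with hsb
  have hdefB : Cfsg.blockDefect p B = aG - sB := rfl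
  have hdefb : Cfsg.blockDefect p b = aH - sb := rfl
  have hhtζ : Cfsg.blockHeight p b (ζ : H → ℂ) =
      (Cfsg.charDegree (ζ : H → ℂ)).factorization p - sb := rfl
  have hsbζ : sb ≤ (Cfsg.charDegree (ζ : H → ℂ)).factorization p := Nat.sInf_le ⟨ζ, hζ, rfl⟩
  have hζfac : (Cfsg.charDegree (ζ : H → ℂ)).factorization p = sb := by omega
  have hfac_le : ∀ {K : Type _} [Group K] [Fintype K] (ψ : Cfsg.IrrCharacter K),
      (Cfsg.charDegree (ψ : K → ℂ)).factorization p ≤ (Nat.card K).factorization p := by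
    intro K _ _ ψ
    have hd := Cfsg.Agent.Lib.Helper74.irr_charDegree_dvd_card ψ
    exact (Nat.factorization_le_iff_dvd (Cfsg.Agent.Lib.Helper81.irr_charDegree_ne_zero ψ)
      Nat.card_pos.ne').mpr hd p
  have hsb_le : sb ≤ aH := le_trans hsbζ (hfac_le ζ)
  have hsBχ₁ : sB ≤ (Cfsg.charDegree (χ₁ : G → ℂ)).factorization p := Nat.sInf_le ⟨χ₁, hχ₁, rfl⟩
  have hsB_le : sB ≤ aG := le_trans hsBχ₁ (hfac_le χ₁)
  -- index
  have hidx : (H.index).factorization p + aH = aG := by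
    have h1 : H.index * Nat.card H = Nat.card G := H.index_mul_card
    rw [haG, ← h1, Nat.factorization_mul Subgroup.index_ne_zero_of_finite Nat.card_pos.ne']
    rfl
  -- degree of the induced character
  have hζ1 := Cfsg.Agent.Lib.Helper81.irr_apply_one_eq_charDegree ζ
  have hdeg : Cfsg.charDegree (Cfsg.indFun H (ζ : H → ℂ)) =
      H.index * Cfsg.charDegree (ζ : H → ℂ) :=
    Cfsg.Agent.Lib.Helper77.charDegree_indFun H hζ1
  have hnval : n.factorization p = sB := by
    rw [hnfac, hdeg, Nat.factorization_mul Subgroup.index_ne_zero_of_finite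
      (Cfsg.Agent.Lib.Helper81.irr_charDegree_ne_zero ζ)]
    simp only [Finsupp.coe_add, Pi.add_apply]
    rw [hζfac]
    omega
  -- contradiction argument
  by_contra hcon
  push Not at hcon
  have hall : ∀ χ ∈ Finset.univ.filter (fun χ : Cfsg.IrrCharacter G => χ ∈ B),
      p ^ (sB + 1) ∣ m χ * Cfsg.charDegree (χ : G → ℂ) := by
    intro χ hχ
    have hχB : χ ∈ B := (Finset.mem_filter.mp hχ).2
    have hsχ : sB ≤ (Cfsg.charDegree (χ : G → ℂ)).factorization p := Nat.sInf_le ⟨χ, hχB, rfl⟩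
    have hdχ : p ^ (Cfsg.charDegree (χ : G → ℂ)).factorization p ∣ Cfsg.charDegree (χ : G → ℂ) :=
      Nat.ordProj_dvd _ _
    by_cases hht : Cfsg.blockHeight p B (χ : G → ℂ) = 0
    · have hpm : p ∣ m χ := hcon χ hχB hht (m χ) (hm χ)
      have hpow : p ^ sB ∣ Cfsg.charDegree (χ : G → ℂ) :=
        dvd_trans (pow_dvd_pow p hsχ) hdχ
      rw [pow_succ, mul_comm]
      exact Nat.mul_dvd_mul hpm hpow
    · have hhtχ : Cfsg.blockHeight p B (χ : G → ℂ) =
          (Cfsg.charDegree (χ : G → ℂ)).factorization p - sB := rfl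
      have : sB + 1 ≤ (Cfsg.charDegree (χ : G → ℂ)).factorization p := by omega
      exact Dvd.dvd.mul_left (dvd_trans (pow_dvd_pow p this) hdχ) _
  have hdvdn : p ^ (sB + 1) ∣ n := by
    rw [hnsum]
    exact Finset.dvd_sum hall
  have := (hp.pow_dvd_iff_le_factorization hn0).mp hdvdn
  omega

end Cfsg.Agent.S4725
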