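import Cfsg.Statements.S4726
import Cfsg.Agent.Lib.Helper16.InducedDefect

set_option autoImplicit false
open Cfsg

namespace Cfsg.Agent.S4726

open Cfsg.Agent.Lib.Helper16 Cfsg.Agent.Lib.Helper77 Cfsg.Agent.Lib.Helper80 Cfsg.Agent.Lib.Helper81
open scoped Pointwise

/-- Let p be a prime, M a maximal ideal of the algebraic integers containing p, H a subgroup of the finite group G and b a p-block of H with defect group D₀ such that C_G(D₀) ≤ H. Then b induces a block of G, and for every block B of G induced by b there is a defect group D of B with Z(D) ≤ Z(D₀) ≤ D₀ ≤ D (as subgroups of G). In particular, if the defect groups of B are abelian then D₀ is a defect group of B. -/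
theorem result {G : Type*} [Group G] [Finite G] (p : ℕ) [Fact p.Prime] (M : Ideal Cfsg.AlgInt) (hM : Cfsg.IsPModular p M) (H : Subgroup G) (b : Set (Cfsg.IrrCharacter ↥H)) (hb : Cfsg.IsPBlock M b) (D₀ : Subgroup ↥H) (hD₀ : Cfsg.IsDefectGroup p M b D₀) (hC : Subgroup.centralizer ((D₀.map H.subtype : Subgroup G) : Set G) ≤ H) : Cfsg.InducedBlockDefined M H b ∧ ∀ B : Set (Cfsg.IrrCharacter G), Cfsg.IsInducedBlock M H b B → (∃ D : Subgroup G, Cfsg.IsDefectGroup p M B D ∧ (Subgroup.center ↥D).map D.subtype ≤ ((Subgroup.center ↥D₀).map D₀.subtype).map H.subtype ∧ ((Subgroup.center ↥D₀).map D₀.subtype).map H.subtype ≤ D₀.map H.subtype ∧ D₀.map H.subtype ≤ D) ∧ (∀ D : Subgroup G, Cfsg.IsDefectGroup p M B D → IsMulCommutative ↥D → Cfsg.IsDefectGroup p M B (D₀.map H.subtype)) := by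
  classical
  have := Fintype.ofFinite G
  have hMp : M.IsPrime := isPrime_of_isPModular hM
  obtain ⟨B₁, hind, D, hD, hP₀D, hinf⟩ := induced_defect_main p M hM H b hb D₀ hD₀ hC
  refine ⟨⟨B₁, hind⟩, ?_⟩
  intro B hB
  have hBB : B = B₁ := Cfsg.Agent.Lib.Helper77.isInducedBlock_unique hMp hB hind
  rw [hBB]
  refine ⟨⟨D, hD, ?_, Subgroup.map_mono (Subgroup.map_subtype_le _), hP₀D⟩, ?_⟩
  · rintro _ ⟨z, hz, rfl⟩
    have hzD : (z : G) ∈ D := z.2
    have hzcomm : ∀ u : G, ∀ hu : u ∈ D, u * (z : G) = (z : G) * u := fun u hu =>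
      congrArg Subtype.val (Subgroup.mem_center_iff.mp hz ⟨u, hu⟩)
    have hzC : (z : G) ∈ Subgroup.centralizer ((D₀.map H.subtype : Subgroup G) : Set G) := by
      rw [Subgroup.mem_centralizer_iff]
      intro u hu
      exact hzcomm u (hP₀D hu)
    obtain ⟨h, hhD₀, hhz⟩ := hinf ⟨hzD, hzC⟩
    refine ⟨h, ⟨⟨h, hhD₀⟩, ?_, rfl⟩, hhz⟩
    rw [SetLike.mem_coe, Subgroup.mem_center_iff]
    intro d
    apply Subtype.ext
    apply Subtype.ext
    have hd : ((d : H) : G) ∈ D := hP₀D ⟨d, d.2, rfl⟩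
    have h1 := hzcomm _ hd
    rw [← hhz] at h1
    exact h1
  · intro D' hD' hab
    obtain ⟨χ₀, hχ₀⟩ := hind.2.1
    rw [hχ₀] at hD hD'
    obtain ⟨x, hx⟩ := exists_conj_le_of_isDefectGroup hM χ₀ hD' hD
    have hcomm' : ∀ u ∈ D', ∀ v ∈ D', u * v = v * u := fun u hu v hv =>
      congrArg Subtype.val ((isMulCommutative_iff.mp hab) ⟨u, hu⟩ ⟨v, hv⟩)
    have hDcomm : ∀ u ∈ D, ∀ v ∈ D, u * v = v * u := by
      intro u hu v hv
      have h1 : x * u * x⁻¹ ∈ D' := hx (Subgroup.smul_mem_pointwise_smul _ _ _ hu)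
      have h2 : x * v * x⁻¹ ∈ D' := hx (Subgroup.smul_mem_pointwise_smul _ _ _ hv)
      have h3 := hcomm' _ h1 _ h2
      have h4 : x * (u * v) * x⁻¹ = x * (v * u) * x⁻¹ := by
        calc x * (u * v) * x⁻¹ = (x * u * x⁻¹) * (x * v * x⁻¹) := by group
          _ = (x * v * x⁻¹) * (x * u * x⁻¹) := h3
          _ = x * (v * u) * x⁻¹ := by group
      exact mul_left_cancel (mul_right_cancel h4)
    have hDle : D ≤ D₀.map H.subtype := by
      intro u hu
      have huC : u ∈ Subgroup.centralizer ((D₀.map H.subtype : Subgroup G) : Set G) := by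
        rw [Subgroup.mem_centralizer_iff]
        intro w hw
        exact hDcomm w (hP₀D hw) u hu
      exact hinf ⟨hu, huC⟩
    have hDeq : D = D₀.map H.subtype := le_antisymm hDle hP₀D
    rw [hχ₀, ← hDeq]
    exact hD

end Cfsg.Agent.S4726
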