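import Cfsg.Statements.S4729
import Cfsg.Agent.Lib.Helper3.Eigen
import Cfsg.Agent.Lib.Helper81.LocalRing
import Cfsg.Agent.Lib.Helper81.Irr
import Cfsg.Agent.Lib.Helper80.IrrApi

set_option autoImplicit false
open Cfsg
open scoped ComplexConjugate

namespace Cfsg.Agent.S4729

open Cfsg.Agent.Lib.Helper81

/-- geometric sum of a root of unity -/
theorem geom_sum_root {x : ℂ} {o : ℕ} (hx : x ^ o = 1) :
    ∑ k ∈ Finset.range o, x ^ k = if x = 1 then (o : ℂ) else 0 := by
  split_ifs with h
  · rw [h]; simp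
  · have h1 : (x - 1) * ∑ k ∈ Finset.range o, x ^ k = 0 := by
      rw [mul_comm, geom_sum_mul, hx, sub_self]
    rcases mul_eq_zero.mp h1 with h2 | h2
    · exact absurd (sub_eq_zero.mp h2) h
    · exact h2

/-- Fourier inversion for eigenvalue multiplicities. -/
theorem mult_formula {ι : Type*} [Fintype ι] [DecidableEq ι] (μ : ι → ℂ) (o : ℕ)
    (hμ : ∀ i, μ i ^ o = 1) (δ : ℂ) (hδ : δ ^ o = 1) :
    ∑ k ∈ Finset.range o, (∑ i, μ i ^ k) * δ ^ k =
      (o : ℂ) * ((Finset.univ.filter (fun i => μ i * δ = 1)).card : ℂ) := by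
  classical
  have h1 : ∑ k ∈ Finset.range o, (∑ i, μ i ^ k) * δ ^ k =
      ∑ i, ∑ k ∈ Finset.range o, (μ i * δ) ^ k := by
    rw [Finset.sum_comm]
    apply Finset.sum_congr rfl
    intro k _
    rw [Finset.sum_mul]
    apply Finset.sum_congr rfl
    intro i _
    rw [mul_pow]
  rw [h1]
  have h2 : ∀ i, ∑ k ∈ Finset.range o, (μ i * δ) ^ k = if μ i * δ = 1 then (o : ℂ) else 0 := by
    intro i
    apply geom_sum_root
    rw [mul_pow, hμ i, hδ, one_mul]
  simp only [h2]
  rw [← Finset.sum_filter, Finset.sum_const, nsmul_eq_mul, mul_comm]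

/-- a rational number `N / d` in the local ideal: `p ^ (v_p(d) + 1)` divides `N`. -/
theorem dvd_of_memLocalIdeal_div {p : ℕ} [Fact p.Prime] {M : Ideal AlgInt} (hM : IsPModular p M)
    {N d : ℕ} (hd : d ≠ 0) (h : MemLocalIdeal M ((N : ℂ) / (d : ℂ))) :
    p ^ (d.factorization p + 1) ∣ N := by
  have hp : p.Prime := Fact.out
  have hMp : M.IsPrime := isPrime_of_isPModular hM
  by_cases hN : N = 0
  · rw [hN]; exact dvd_zero _
  by_contra hnd
  have hlt : N.factorization p < d.factorization p + 1 := by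
    by_contra hge
    rw [not_lt] at hge
    exact hnd ((hp.pow_dvd_iff_le_factorization hN).mpr hge)
  set c := d.factorization p with hc
  set e := N.factorization p with he
  set u := d / p ^ c with hu
  set w := N / p ^ e with hw
  have hdu : p ^ c * u = d := Nat.ordProj_mul_ordCompl_eq_self d p
  have hNw : p ^ e * w = N := Nat.ordProj_mul_ordCompl_eq_self N p
  have hpu : ¬ p ∣ u := Nat.not_dvd_ordCompl hp hd
  have hpw : ¬ p ∣ w := Nat.not_dvd_ordCompl hp hN
  have huC : (u : ℂ) ≠ 0 := by
    intro h0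
    apply hpu
    have : u = 0 := by exact_mod_cast h0
    rw [this]; exact dvd_zero p
  have hwC : (w : ℂ) ≠ 0 := by
    intro h0
    apply hpw
    have : w = 0 := by exact_mod_cast h0
    rw [this]; exact dvd_zero p
  have hpC : (p : ℂ) ≠ 0 := by exact_mod_cast hp.ne_zero
  have hce : c = e + (c - e) := by omega
  have h1 : (1 : ℂ) = ((N : ℂ) / (d : ℂ)) * (((p ^ (c - e) * u : ℕ) : ℂ) * ((w : ℂ))⁻¹) := by
    rw [← hdu, ← hNw]
    push_cast
    rw [hce]
    have : e + (c - e) - e = c - e := by omega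
    rw [this, pow_add]
    field_simp
  apply not_memLocalIdeal_one hMp
  rw [h1]
  apply memLocalIdeal_mul_right hMp h
  exact memLocalRing_mul hMp (memLocalRing_natCast hMp _) (memLocalRing_inv_natCast hM hpw)

/-- The counting argument: fewer than `2p` eigenvalues of `p'`-order with product one, every
nontrivial eigenvalue having multiplicity divisible by `p ^ (v_p(n) + 1)`: all are one. -/
theorem all_one {ι : Type*} [Fintype ι] [DecidableEq ι] (μ : ι → ℂ) (o p : ℕ) (hp : p.Prime)
    (hop : ¬ p ∣ o) (hμ : ∀ i, μ i ^ o = 1) (hcard : Fintype.card ι < 2 * p)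
    (hdvd : ∀ ε : ℂ, ε ≠ 1 → ε ^ o = 1 →
      p ^ ((Fintype.card ι).factorization p + 1) ∣ (Finset.univ.filter (fun i => μ i = ε)).card)
    (hprod : ∏ i, μ i = 1) : ∀ i, μ i = 1 := by
  classical
  by_contra hne
  push Not at hne
  obtain ⟨i₀, hi₀⟩ := hne
  set c := (Fintype.card ι).factorization p with hc
  have hcard0 : Fintype.card ι ≠ 0 := by
    have : Nonempty ι := ⟨i₀⟩
    exact Fintype.card_ne_zero
  -- multiplicities of nontrivial eigenvalues are at least `p ^ (c+1)`
  have hge : ∀ j, μ j ≠ 1 → p ^ (c + 1) ≤ (Finset.univ.filter (fun i => μ i = μ j)).card := by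
    intro j hj
    apply Nat.le_of_dvd
    · apply Finset.card_pos.mpr
      exact ⟨j, by simp⟩
    · exact hdvd (μ j) hj (hμ j)
  have hle : ∀ ε : ℂ, (Finset.univ.filter (fun i => μ i = ε)).card ≤ Fintype.card ι := by
    intro ε
    exact Finset.card_le_univ _
  -- `c = 0`
  have hc0 : c = 0 := by
    by_contra hc1
    have h1 : p ^ c ∣ Fintype.card ι := Nat.ordProj_dvd _ _
    have h2 : p ^ (c + 1) ≤ Fintype.card ι := (hge i₀ hi₀).trans (hle _)
    have h3 : p ^ 2 ≤ p ^ (c + 1) := Nat.pow_le_pow_right hp.pos (by omega)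
    have h4 : 2 * p ≤ p ^ 2 := by
      rw [pow_two]
      exact Nat.mul_le_mul_right p hp.two_le
    omega
  rw [hc0, zero_add, pow_one] at hge
  -- only one nontrivial eigenvalue
  have honly : ∀ j, μ j = 1 ∨ μ j = μ i₀ := by
    intro j
    by_contra hj
    push Not at hj
    have h1 := hge i₀ hi₀
    have h2 := hge j hj.1
    have hdisj : Disjoint (Finset.univ.filter (fun i => μ i = μ i₀))
        (Finset.univ.filter (fun i => μ i = μ j)) := by
      rw [Finset.disjoint_filter]
      intro i _ h3 h4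
      exact hj.2 (h4.symm.trans h3)
    have h3 := Finset.card_union_of_disjoint hdisj
    have h4 : ((Finset.univ.filter (fun i => μ i = μ i₀)) ∪
        (Finset.univ.filter (fun i => μ i = μ j))).card ≤ Fintype.card ι := Finset.card_le_univ _
    omega
  -- the multiplicity of that eigenvalue is exactly `p`
  have hN : (Finset.univ.filter (fun i => μ i = μ i₀)).card = p := by
    have h1 := hge i₀ hi₀
    have h2 := hle (μ i₀)
    have h3 := hdvd (μ i₀) hi₀ (hμ i₀)
    rw [hc0, zero_add, pow_one] at h3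
    obtain ⟨t, ht⟩ := h3
    have : t = 1 := by
      rcases t with _ | _ | t
      · omega
      · rfl
      · exfalso
        have h5 : p * (t + 1 + 1) = p * t + 2 * p := by ring
        rw [h5] at ht
        omega
    rw [ht, this, mul_one]
  -- the product of the eigenvalues
  have hprod2 : ∏ i, μ i = μ i₀ ^ p := by
    rw [← Finset.prod_filter_mul_prod_filter_not Finset.univ (fun i => μ i = μ i₀)]
    have h1 : ∏ i ∈ Finset.univ.filter (fun i => μ i = μ i₀), μ i = μ i₀ ^ p := by
      rw [← hN]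
      apply Finset.prod_eq_pow_card
      intro i hi
      exact (Finset.mem_filter.mp hi).2
    have h2 : ∏ i ∈ Finset.univ.filter (fun i => ¬ μ i = μ i₀), μ i = 1 := by
      apply Finset.prod_eq_one
      intro i hi
      rcases honly i with h | h
      · exact h
      · exact absurd h (Finset.mem_filter.mp hi).2
    rw [h1, h2, mul_one]
  rw [hprod] at hprod2
  have h5 := pow_gcd_eq_one.mpr ⟨hprod2.symm, hμ i₀⟩
  have hcop : Nat.gcd p o = 1 := (Nat.Prime.coprime_iff_not_dvd hp).mpr hop
  rw [hcop, pow_one] at h5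
  exact hi₀ h5

/-- A `p`-regular element centralizing a Sylow `p`-subgroup is trivial. -/
theorem eq_one_of_regular {G : Type*} [Group G] [Finite G] (p : ℕ) [Fact p.Prime]
    (M : Ideal Cfsg.AlgInt) (hM : Cfsg.IsPModular p M) (hperf : commutator G = ⊤) (P : Sylow p G)
    (χ : Cfsg.IrrCharacter G) (hχ : χ ∈ Cfsg.principalBlock M G)
    (hfaith : ∀ g : G, (χ : G → ℂ) g = (χ : G → ℂ) 1 → g = 1)
    (hdeg : Cfsg.charDegree (χ : G → ℂ) < 2 * p) (y : G)
    (hy : y ∈ Subgroup.centralizer ((P : Subgroup G) : Set G)) (hreg : ¬ p ∣ orderOf y) :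
    y = 1 := by
  classical
  have hp : p.Prime := Fact.out
  have hMp : M.IsPrime := isPrime_of_isPModular hM
  have := Fintype.ofFinite G
  obtain ⟨n, ρ, hρ, hχρ⟩ := χ.2
  have hfr : Module.finrank ℂ (Fin n → ℂ) = n := by simp
  have h1 : (χ : G → ℂ) 1 = (n : ℂ) := by rw [← hχρ, Representation.char_one, hfr]
  have hdegn : charDegree (χ : G → ℂ) = n := charDegree_eq_of_apply_one h1
  have hn0 : n ≠ 0 := by rw [← hdegn]; exact irr_charDegree_ne_zero χ
  obtain ⟨b, μ, hb, hμ⟩ := Cfsg.Agent.Lib.Helper3.exists_eigenbasis_rep ρ y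
  set o := orderOf y with ho
  have ho0 : 0 < o := orderOf_pos y
  have hcardι : Fintype.card (Fin (Module.finrank ℂ (Fin n → ℂ))) = n := by
    rw [Fintype.card_fin, hfr]
  -- `χ (y ^ k) = ∑ μ_i ^ k`
  have hpow : ∀ k : ℕ, (χ : G → ℂ) (y ^ k) = ∑ i, μ i ^ k := by
    intro k
    rw [← hχρ]
    apply Cfsg.Agent.Lib.Helper3.trace_eq_sum_of_eigenbasis (ρ (y ^ k)) b (fun i => μ i ^ k)
    intro i
    rw [map_pow]
    exact Cfsg.Agent.Lib.Helper3.pow_apply_of_apply_eq_smul (ρ y) (μ i) (b i) (hb i) k
  -- the local congruence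
  have hloc : ∀ k : ℕ, MemLocalIdeal M ((χ : G → ℂ) (y ^ k) / (χ : G → ℂ) 1 - 1) := by
    intro k
    have hle : (P : Subgroup G) ≤ Subgroup.centralizer ({y ^ k} : Set G) := by
      intro x hx
      rw [Subgroup.mem_centralizer_iff]
      intro z hz
      rw [Set.mem_singleton_iff] at hz
      subst hz
      have h2 : y ^ k ∈ Subgroup.centralizer ((P : Subgroup G) : Set G) :=
        Subgroup.pow_mem _ hy k
      exact (Subgroup.mem_centralizer_iff.mp h2 x hx).symm
    have hidx : ¬ p ∣ (Subgroup.centralizer ({y ^ k} : Set G)).index := by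
      intro hdvd
      exact P.not_dvd_index (dvd_trans hdvd (Subgroup.index_dvd_of_le hle))
    have h2 := (mem_principalBlock_iff χ).mp hχ (y ^ k)
    have hne : ((Subgroup.centralizer ({y ^ k} : Set G)).index : ℂ) ≠ 0 := by
      intro h0
      apply hidx
      have : (Subgroup.centralizer ({y ^ k} : Set G)).index = 0 := by exact_mod_cast h0
      rw [this]; exact dvd_zero p
    have h3 := memLocalIdeal_mul_left hMp (memLocalRing_inv_natCast hM hidx) (memLocalIdeal_neg h2)
    have h4 : ((Subgroup.centralizer ({y ^ k} : Set G)).index : ℂ)⁻¹ *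
        -(((Subgroup.centralizer ({y ^ k} : Set G)).index : ℂ) - centralChar (χ : G → ℂ) (y ^ k)) =
        (χ : G → ℂ) (y ^ k) / (χ : G → ℂ) 1 - 1 := by
      unfold centralChar
      field_simp
      ring
    rw [h4] at h3
    exact h3
  -- the determinant is trivial
  have hdet : ∏ i, μ i = 1 := by
    have h2 : LinearMap.det (ρ y) = ∏ i, μ i := by
      rw [← LinearMap.det_toMatrix b]
      have h3 : LinearMap.toMatrix b b (ρ y) = Matrix.diagonal μ := by
        ext i j
        rw [LinearMap.toMatrix_apply, hb j, map_smul, Matrix.diagonal_apply]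
        by_cases hij : i = j
        · subst hij; simp
        · rw [if_neg hij]
          simp [Ne.symm hij]
      rw [h3, Matrix.det_diagonal]
    rw [← h2]
    let φ : G →* ℂ := (LinearMap.det : ((Fin n → ℂ) →ₗ[ℂ] (Fin n → ℂ)) →* ℂ).comp ρ
    have hφ : ∀ g : G, g ∈ commutator G → φ g = 1 := by
      have hker : commutator G ≤ φ.toHomUnits.ker := Abelianization.commutator_subset_ker _
      intro g hg
      have h3 := hker hg
      rw [MonoidHom.mem_ker] at h3
      have h4 := congrArg Units.val h3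
      simpa using h4
    have : y ∈ commutator G := by rw [hperf]; trivial
    exact hφ y this
  -- all eigenvalues are one
  have hall : ∀ i, μ i = 1 := by
    apply all_one μ o p hp hreg hμ _ _ hdet
    · rw [hcardι, ← hdegn]; exact hdeg
    · intro ε hε1 hεo
      rw [hcardι]
      have hε0 : ε ≠ 0 := by
        intro h0
        rw [h0, zero_pow ho0.ne'] at hεo
        exact zero_ne_one hεo
      have hδ : (ε⁻¹) ^ o = 1 := by rw [inv_pow, hεo, inv_one]
      have hform := mult_formula μ o hμ ε⁻¹ hδ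
      have hfilter : (Finset.univ.filter (fun i => μ i * ε⁻¹ = 1)) =
          (Finset.univ.filter (fun i => μ i = ε)) := by
        apply Finset.filter_congr
        intro i _
        rw [mul_inv_eq_one₀ hε0]
      rw [hfilter] at hform
      set N := (Finset.univ.filter (fun i => μ i = ε)).card with hN
      apply dvd_of_memLocalIdeal_div hM hn0
      -- `o * N / n = ∑_k (χ(y^k)/χ(1) - 1) δ^k`
      have hδ1 : ε⁻¹ ≠ 1 := by
        intro h
        apply hε1
        rw [inv_eq_one] at h
        exact h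
      have hgeom : ∑ k ∈ Finset.range o, (ε⁻¹) ^ k = 0 := by
        rw [geom_sum_root hδ, if_neg hδ1]
      have hsum : ((o : ℂ) * (N : ℂ)) / (n : ℂ) =
          ∑ k ∈ Finset.range o, ((χ : G → ℂ) (y ^ k) / (χ : G → ℂ) 1 - 1) * (ε⁻¹) ^ k := by
        rw [← hform]
        simp only [sub_mul, one_mul, Finset.sum_sub_distrib, hgeom, sub_zero, hpow, h1]
        rw [Finset.sum_div]
        apply Finset.sum_congr rfl
        intro k _
        ring
      have hmem : MemLocalIdeal M (((o : ℂ) * (N : ℂ)) / (n : ℂ)) := by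
        rw [hsum]
        apply memLocalIdeal_sum hMp
        intro k _
        apply memLocalIdeal_mul_right hMp (hloc k)
        have hint : IsIntegral ℤ ((ε⁻¹) ^ k) := by
          apply IsIntegral.pow
          refine ⟨Polynomial.X ^ o - 1, ?_, ?_⟩
          · exact Polynomial.monic_X_pow_sub_C 1 ho0.ne'
          · simp [hδ]
        exact memLocalRing_algInt hMp ⟨_, hint⟩
      have hoC : (o : ℂ) ≠ 0 := by exact_mod_cast ho0.ne'
      have h5 := memLocalIdeal_mul_left hMp (memLocalRing_inv_natCast hM hreg) hmem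
      have h6 : ((o : ℂ))⁻¹ * (((o : ℂ) * (N : ℂ)) / (n : ℂ)) = (N : ℂ) / (n : ℂ) := by
        field_simp
      rw [h6] at h5
      exact h5
  -- hence `χ y = χ 1`
  apply hfaith
  have h2 := hpow 1
  rw [pow_one] at h2
  rw [h2, h1]
  simp only [hall, one_pow, Finset.sum_const, Finset.card_univ, hcardι, nsmul_eq_mul, mul_one]

/-- Let p be a prime, M a maximal ideal of the algebraic integers containing p, G a finite perfect group and P a Sylow p-subgroup. If the principal p-block of G contains a faithful irreducible character of degree less than 2p, then the centralizer of P is a p-group. -/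
theorem result {G : Type*} [Group G] [Finite G] (p : ℕ) [Fact p.Prime] (M : Ideal Cfsg.AlgInt) (hM : Cfsg.IsPModular p M) (hperf : commutator G = ⊤) (P : Sylow p G) (χ : Cfsg.IrrCharacter G) (hχ : χ ∈ Cfsg.principalBlock M G) (hfaith : ∀ g : G, (χ : G → ℂ) g = (χ : G → ℂ) 1 → g = 1) (hdeg : Cfsg.charDegree (χ : G → ℂ) < 2 * p) : IsPGroup p ↥(Subgroup.centralizer ((P : Subgroup G) : Set G)) := by
  have hp : p.Prime := Fact.out
  intro g
  have hg0 : orderOf (g : G) ≠ 0 := (orderOf_pos (g : G)).ne'
  set a := (orderOf (g : G)).factorization p with ha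
  refine ⟨a, ?_⟩
  have hy : ((g : G) ^ p ^ a) ∈ Subgroup.centralizer ((P : Subgroup G) : Set G) :=
    Subgroup.pow_mem _ g.2 _
  have hord : orderOf ((g : G) ^ p ^ a) = orderOf (g : G) / p ^ a := by
    rw [orderOf_pow' _ (pow_ne_zero a hp.ne_zero), Nat.gcd_eq_right (Nat.ordProj_dvd _ _)]
  have hreg : ¬ p ∣ orderOf ((g : G) ^ p ^ a) := by
    rw [hord]
    exact Nat.not_dvd_ordCompl hp hg0
  have h1 := eq_one_of_regular p M hM hperf P χ hχ hfaith hdeg _ hy hreg
  apply Subtype.ext
  rw [Subgroup.coe_pow, h1, Subgroup.coe_one]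

end Cfsg.Agent.S4729
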