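import Cfsg.Statements.S4730
import Cfsg.Agent.Lib.Helper3.Burnside
import Cfsg.Agent.Lib.Helper81.LocalRing
import Cfsg.Agent.Lib.Helper81.Irr
import Cfsg.Agent.Lib.Helper79.Basic
import Cfsg.Agent.Lib.Helper15.IrrCrit

set_option autoImplicit false
open Cfsg
open scoped ComplexConjugate

namespace Cfsg.Agent.S4730

open Cfsg.Agent.Lib.Helper81

/-- Burnside: a faithful irreducible character of a group with trivial centre vanishes at every
nontrivial element whose class size is prime to the degree. -/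
theorem vanish {G : Type*} [Group G] [Finite G] (hZ : Subgroup.center G = ⊥) (χ : IrrCharacter G)
    (hfaith : ∀ g : G, (χ : G → ℂ) g = (χ : G → ℂ) 1 → g = 1) (z : G) (hz : z ≠ 1)
    (hcop : Nat.Coprime (charDegree (χ : G → ℂ)) (Subgroup.centralizer ({z} : Set G)).index) :
    (χ : G → ℂ) z = 0 := by
  classical
  have := Fintype.ofFinite G
  obtain ⟨n, ρ, hρ, hχρ⟩ := χ.2
  have hfr : Module.finrank ℂ (Fin n → ℂ) = n := by simp
  have h1 : (χ : G → ℂ) 1 = (n : ℂ) := by rw [← hχρ, Representation.char_one, hfr]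
  have hdeg : charDegree (χ : G → ℂ) = n := charDegree_eq_of_apply_one h1
  have hcop' : Nat.Coprime (Module.finrank ℂ (Fin n → ℂ))
      (Subgroup.centralizer ({z} : Set G)).index := by
    rw [hfr, ← hdeg]; exact hcop
  have := hρ
  rcases Cfsg.Agent.Lib.Helper3.character_eq_zero_or_norm_eq_of_coprime ρ z hcop' with h0 | h2
  · rw [← hχρ]; exact h0
  · exfalso
    obtain ⟨ω, hω⟩ := (Cfsg.Agent.S0138.result ρ z).mp h2
    apply hz
    have hzc : z ∈ Subgroup.center G := by
      rw [Subgroup.mem_center_iff]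
      intro x
      have h3 : ρ (x * z) = ρ (z * x) := by
        rw [map_mul, map_mul, hω]
        ext v
        simp
      have h4 : ρ ((x * z) * (z * x)⁻¹) = 1 := by
        rw [map_mul, h3, ← map_mul, mul_inv_cancel, map_one]
      have h5 : (χ : G → ℂ) ((x * z) * (z * x)⁻¹) = (χ : G → ℂ) 1 := by
        rw [← hχρ]
        show LinearMap.trace ℂ _ (ρ ((x * z) * (z * x)⁻¹)) = LinearMap.trace ℂ _ (ρ 1)
        rw [h4, map_one ρ]
      have h6 := hfaith _ h5
      exact mul_inv_eq_one.mp h6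
    rw [hZ, Subgroup.mem_bot] at hzc
    exact hzc

/-- If `p ^ b * m / d - 1` lies in the local ideal (with `d ≠ 0`), then `p ^ b` divides the
`p`-part of `d`. -/
theorem le_factorization_of_congr {p : ℕ} [Fact p.Prime] {M : Ideal AlgInt} (hM : IsPModular p M)
    {b m d : ℕ} (hd : d ≠ 0)
    (h : MemLocalIdeal M (((p : ℂ) ^ b * (m : ℂ)) / (d : ℂ) - 1)) : b ≤ d.factorization p := by
  have hp : p.Prime := Fact.out
  have hMp : M.IsPrime := isPrime_of_isPModular hM
  by_contra hlt
  rw [not_le] at hlt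
  set c := d.factorization p with hc
  set u := d / p ^ c with hu
  have hdu : p ^ c * u = d := Nat.ordProj_mul_ordCompl_eq_self d p
  have hpu : ¬ p ∣ u := Nat.not_dvd_ordCompl hp hd
  have huC : (u : ℂ) ≠ 0 := by
    intro h0
    apply hpu
    have : u = 0 := by exact_mod_cast h0
    rw [this]; exact dvd_zero p
  have hpC : (p : ℂ) ≠ 0 := by exact_mod_cast hp.ne_zero
  have hbc : b = c + 1 + (b - 1 - c) := by omega
  have hval : ((p : ℂ) ^ b * (m : ℂ)) / (d : ℂ) =
      (p : ℂ) * ((((p ^ (b - 1 - c) * m : ℕ) : ℂ)) * ((u : ℂ))⁻¹) := by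
    rw [← hdu, hbc]
    push_cast
    have : c + 1 + (b - 1 - c) - 1 - c = b - 1 - c := by omega
    rw [this]
    field_simp
    ring
  have hmem : MemLocalIdeal M (((p : ℂ) ^ b * (m : ℂ)) / (d : ℂ)) := by
    rw [hval]
    apply memLocalIdeal_mul_right hMp
    · exact (memLocalIdeal_natCast_iff hM p).mpr (dvd_refl p)
    · exact memLocalRing_mul hMp (memLocalRing_natCast hMp _) (memLocalRing_inv_natCast hM hpu)
  have h1 : MemLocalIdeal M 1 := by
    have := memLocalIdeal_sub hMp hmem h
    simpa using this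
  exact not_memLocalIdeal_one hMp h1

/-- Every character in the block of `χ` has degree divisible by `|Z(P)|`. -/
theorem le_factorization {G : Type*} [Group G] [Finite G] (p : ℕ) [Fact p.Prime]
    (M : Ideal Cfsg.AlgInt) (hM : Cfsg.IsPModular p M) (hZ : Subgroup.center G = ⊥)
    (P : Sylow p G) (b : ℕ) (hb : Nat.card (Subgroup.center ↥(P : Subgroup G)) = p ^ b)
    (χ : Cfsg.IrrCharacter G)
    (hfaith : ∀ g : G, (χ : G → ℂ) g = (χ : G → ℂ) 1 → g = 1) (n : ℕ)
    (hdeg : Cfsg.charDegree (χ : G → ℂ) = p ^ n) (ψ : IrrCharacter G)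
    (hψ : ψ ∈ blockOf M (χ : G → ℂ)) : b ≤ (charDegree (ψ : G → ℂ)).factorization p := by
  classical
  have hp : p.Prime := Fact.out
  have hMp : M.IsPrime := isPrime_of_isPModular hM
  set ZP : Subgroup G := (Subgroup.center ↥(P : Subgroup G)).map (P : Subgroup G).subtype with hZP
  have hcardZ : Nat.card ZP = p ^ b := by
    rw [hZP, Subgroup.card_map_of_injective (Subgroup.subtype_injective _)]
    exact hb
  -- class sizes of elements of `Z(P)` are prime to `p`
  have hidx : ∀ z ∈ ZP, ¬ p ∣ (Subgroup.centralizer ({z} : Set G)).index := by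
    intro z hz
    have hle : (P : Subgroup G) ≤ Subgroup.centralizer ({z} : Set G) := by
      intro x hx
      rw [Subgroup.mem_centralizer_iff]
      intro y hy
      rw [Set.mem_singleton_iff] at hy
      subst hy
      rw [hZP, Subgroup.mem_map] at hz
      obtain ⟨w, hw, rfl⟩ := hz
      have := Subgroup.mem_center_iff.mp hw ⟨x, hx⟩
      have h2 := congrArg Subtype.val this
      simpa using h2.symm
    intro hdvd
    exact P.not_dvd_index (dvd_trans hdvd (Subgroup.index_dvd_of_le hle))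
  -- `χ` vanishes on `Z(P) \ {1}`
  have hvan : ∀ z ∈ ZP, z ≠ 1 → (χ : G → ℂ) z = 0 := by
    intro z hz hz1
    apply vanish hZ χ hfaith z hz1
    rw [hdeg]
    exact Nat.Coprime.pow_left n ((Nat.Prime.coprime_iff_not_dvd hp).mpr (hidx z hz))
  -- hence `ψ z / ψ 1` is in the local ideal
  have hψ1 : (ψ : G → ℂ) 1 = (charDegree (ψ : G → ℂ) : ℂ) := irr_apply_one_eq_charDegree ψ
  have hd0 : charDegree (ψ : G → ℂ) ≠ 0 := irr_charDegree_ne_zero ψ
  have hloc : ∀ z ∈ ZP, z ≠ 1 → MemLocalIdeal M ((ψ : G → ℂ) z / (ψ : G → ℂ) 1) := by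
    intro z hz hz1
    have h1 := hψ z
    have h2 : centralChar (χ : G → ℂ) z = 0 := by
      unfold centralChar
      rw [hvan z hz hz1, mul_zero, zero_div]
    rw [h2, zero_sub] at h1
    have h3 := memLocalIdeal_neg h1
    rw [neg_neg] at h3
    have h4 := memLocalIdeal_mul_left hMp (memLocalRing_inv_natCast hM (hidx z hz)) h3
    have hne : ((Subgroup.centralizer ({z} : Set G)).index : ℂ) ≠ 0 := by
      intro h0
      apply hidx z hz
      have : (Subgroup.centralizer ({z} : Set G)).index = 0 := by exact_mod_cast h0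
      rw [this]; exact dvd_zero p
    have h5 : ((Subgroup.centralizer ({z} : Set G)).index : ℂ)⁻¹ * centralChar (ψ : G → ℂ) z =
        (ψ : G → ℂ) z / (ψ : G → ℂ) 1 := by
      unfold centralChar
      field_simp
    rw [h5] at h4
    exact h4
  -- the sum over `Z(P)` of `ψ` is `|Z(P)|` times a natural number
  have := Fintype.ofFinite ZP
  have hchar : IsCharacter ZP (fun x : ZP => (ψ : G → ℂ) x) :=
    Cfsg.Agent.Lib.Helper79.isCharacter_restrict
      (Cfsg.Agent.Lib.Helper3.IsIrrCharacter.isCharacter ψ.2) ZP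
  have hone : IsCharacter ZP (fun _ : ZP => (1 : ℂ)) :=
    Cfsg.Agent.Lib.Helper3.IsIrrCharacter.isCharacter Cfsg.Agent.Lib.Helper3.isIrrCharacter_one
  obtain ⟨m, hm⟩ := Cfsg.Agent.Lib.Helper15.exists_nat_classInner hchar hone
  have hsum : ∑ z : ZP, (ψ : G → ℂ) z = (p : ℂ) ^ b * (m : ℂ) := by
    unfold classInner at hm
    rw [hcardZ] at hm
    have hpb : ((p ^ b : ℕ) : ℂ) ≠ 0 := by exact_mod_cast (pow_pos hp.pos b).ne'
    have h1 : ∑ z : ZP, (ψ : G → ℂ) z = ((p ^ b : ℕ) : ℂ) * (m : ℂ) := by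
      rw [← hm, ← mul_assoc, mul_inv_cancel₀ hpb, one_mul]
      apply Finset.sum_congr rfl
      intro z _
      simp
    rw [h1]; push_cast; rfl
  apply le_factorization_of_congr hM hd0 (m := m)
  -- `p ^ b * m / ψ 1 - 1 = ∑_{z ≠ 1} ψ z / ψ 1`
  have hdecomp : ((p : ℂ) ^ b * (m : ℂ)) / (charDegree (ψ : G → ℂ) : ℂ) - 1 =
      ∑ z ∈ (Finset.univ : Finset ZP).erase 1, (ψ : G → ℂ) z / (ψ : G → ℂ) 1 := by
    rw [← hsum, ← hψ1, Finset.sum_div,
      ← Finset.add_sum_erase Finset.univ _ (Finset.mem_univ (1 : ZP))]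
    have h11 : (ψ : G → ℂ) ((1 : ZP) : G) / (ψ : G → ℂ) 1 = 1 := by
      rw [Subgroup.coe_one]
      exact div_self (irr_apply_one_ne_zero ψ)
    rw [h11]
    ring
  rw [hdecomp]
  apply memLocalIdeal_sum hMp
  intro z hz
  apply hloc z z.2
  intro h1
  apply (Finset.mem_erase.mp hz).1
  exact Subtype.ext h1

/-- Let p be a prime, M a maximal ideal of the algebraic integers containing p, and G a finite group with trivial centre, Sylow p-subgroup P of order p^a and centre Z(P) of order p^b. If χ is a faithful irreducible character of G whose degree is a power of p, then the p-block of χ has defect at most a − b; in particular, if P is abelian then χ lies in a block of defect zero. -/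
theorem result {G : Type*} [Group G] [Finite G] (p : ℕ) [Fact p.Prime] (M : Ideal Cfsg.AlgInt) (hM : Cfsg.IsPModular p M) (hZ : Subgroup.center G = ⊥) (P : Sylow p G) (a b : ℕ) (ha : Nat.card P = p ^ a) (hb : Nat.card (Subgroup.center ↥(P : Subgroup G)) = p ^ b) (χ : Cfsg.IrrCharacter G) (hfaith : ∀ g : G, (χ : G → ℂ) g = (χ : G → ℂ) 1 → g = 1) (n : ℕ) (hdeg : Cfsg.charDegree (χ : G → ℂ) = p ^ n) : Cfsg.blockDefect p (Cfsg.blockOf M (χ : G → ℂ)) ≤ a - b ∧ (IsMulCommutative ↥(P : Subgroup G) → Cfsg.blockDefect p (Cfsg.blockOf M (χ : G → ℂ)) = 0) := by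
  classical
  have hp : p.Prime := Fact.out
  have hMp : M.IsPrime := isPrime_of_isPModular hM
  have hfa : (Nat.card G).factorization p = a := by
    have h1 := P.card_eq_multiplicity
    rw [ha] at h1
    exact (Nat.pow_right_injective hp.two_le h1).symm
  have hχB : χ ∈ blockOf M (χ : G → ℂ) := sameBlock_refl hMp _
  have hmain : Cfsg.blockDefect p (Cfsg.blockOf M (χ : G → ℂ)) ≤ a - b := by
    unfold blockDefect
    rw [hfa]
    apply Nat.sub_le_sub_left
    have hne : ((fun ψ : IrrCharacter G => (charDegree (ψ : G → ℂ)).factorization p) ''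
        (blockOf M (χ : G → ℂ))).Nonempty := ⟨_, χ, hχB, rfl⟩
    obtain ⟨ψ, hψ, hψe⟩ := Nat.sInf_mem hne
    rw [← hψe]
    exact le_factorization p M hM hZ P b hb χ hfaith n hdeg ψ hψ
  refine ⟨hmain, fun hcomm => ?_⟩
  have htop : Subgroup.center ↥(P : Subgroup G) = ⊤ := by
    rw [eq_top_iff]
    intro x _
    rw [Subgroup.mem_center_iff]
    intro y
    exact hcomm.is_comm.comm y x
  have hab : a = b := by
    rw [htop, Subgroup.card_top] at hb
    have : p ^ a = p ^ b := by rw [← ha, ← hb]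
    exact Nat.pow_right_injective hp.two_le this
  rw [hab, Nat.sub_self] at hmain
  exact Nat.le_zero.mp hmain

end Cfsg.Agent.S4730
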