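import Cfsg.Statements.S4733
import Cfsg.Agent.Lib.Helper74.BR3

set_option autoImplicit false
open Cfsg

namespace Cfsg.Agent.S4733

/-- Let p be a prime, M a maximal ideal of the algebraic integers containing p, and B a p-block of the finite group G with k irreducible characters and p-regular rank l (the number of irreducible Brauer characters). Then l ≤ k, and the following are equivalent: B has defect 0; k = l = 1; k = l. -/
theorem result {G : Type*} [Group G] [Finite G] (p : ℕ) [Fact p.Prime] (M : Ideal Cfsg.AlgInt) (hM : Cfsg.IsPModular p M) (B : Set (Cfsg.IrrCharacter G)) (hB : Cfsg.IsPBlock M B) : Cfsg.blockRank p B ≤ Nat.card B ∧ (Cfsg.blockDefect p B = 0 ↔ (Nat.card B = 1 ∧ Cfsg.blockRank p B = 1)) ∧ (Cfsg.blockDefect p B = 0 ↔ Nat.card B = Cfsg.blockRank p B) := by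
  classical
  have := Fintype.ofFinite G
  have := Fintype.ofFinite (Cfsg.IrrCharacter G)
  obtain ⟨χ₀, rfl⟩ := hB
  have h1 : Cfsg.blockDefect p (Cfsg.blockOf M (χ₀ : G → ℂ)) = 0 →
      (Nat.card (Cfsg.blockOf M (χ₀ : G → ℂ)) = 1 ∧
        Cfsg.blockRank p (Cfsg.blockOf M (χ₀ : G → ℂ)) = 1) := by
    intro h
    have hs := Cfsg.Agent.Lib.Helper74.blockDefect_eq_zero_imp_singleton p M hM χ₀ h
    rw [hs]
    refine ⟨?_, Cfsg.Agent.Lib.Helper74.blockRank_singleton p χ₀⟩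
    rw [Nat.card_eq_fintype_card]
    exact Fintype.card_unique
  have h2 : Nat.card (Cfsg.blockOf M (χ₀ : G → ℂ)) =
      Cfsg.blockRank p (Cfsg.blockOf M (χ₀ : G → ℂ)) →
      Cfsg.blockDefect p (Cfsg.blockOf M (χ₀ : G → ℂ)) = 0 :=
    Cfsg.Agent.Lib.Helper74.blockDefect_eq_zero_of_card_eq_rank p M hM χ₀
  refine ⟨Cfsg.Agent.Lib.Helper74.blockRank_le_card p _, ⟨h1, ?_⟩, ⟨?_, h2⟩⟩
  · rintro ⟨ha, hb⟩
    exact h2 (by rw [ha, hb])
  · intro h
    obtain ⟨ha, hb⟩ := h1 h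
    rw [ha, hb]

end Cfsg.Agent.S4733
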