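import Cfsg.Statements.S4735
import Cfsg.Agent.S4611
import Cfsg.Agent.S4708
import Cfsg.Agent.Lib.Helper75.GaloisNorm
import Cfsg.Agent.Lib.Helper3.Ortho

set_option autoImplicit false
open Cfsg

namespace Cfsg.Agent.S4735

open Cfsg.Agent.Lib.Helper81 Cfsg.Agent.Lib.Helper74
open scoped ComplexConjugate

universe u

section Infl

variable {G : Type u} [Group G] (N : Subgroup G) [N.Normal]

/-- Inflation of irreducible characters. -/
noncomputable def infl (ψ : IrrCharacter (G ⧸ N)) : IrrCharacter G :=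
  ⟨fun g : G => (ψ : G ⧸ N → ℂ) (g : G ⧸ N), Cfsg.Agent.Lib.Helper79.isIrrCharacter_inflate N ψ.2⟩

theorem infl_apply (ψ : IrrCharacter (G ⧸ N)) (g : G) :
    (infl N ψ : G → ℂ) g = (ψ : G ⧸ N → ℂ) (g : G ⧸ N) := rfl

theorem infl_injective : Function.Injective (infl N) := by
  intro ψ ψ' h
  apply Subtype.ext
  funext q
  obtain ⟨x, rfl⟩ := QuotientGroup.mk_surjective q
  exact congrFun (congrArg Subtype.val h) x

theorem charDegree_infl (ψ : IrrCharacter (G ⧸ N)) :
    charDegree (infl N ψ : G → ℂ) = charDegree (ψ : G ⧸ N → ℂ) := by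
  unfold charDegree
  rw [infl_apply, QuotientGroup.mk_one]

/-- Over a normal `p'`-subgroup, inflation is a bijection between the principal blocks. -/
theorem bijOn_infl [Finite G] (p : ℕ) [Fact p.Prime] (M : Ideal AlgInt) (hM : IsPModular p M)
    (hN : ¬ p ∣ Nat.card N) :
    Set.BijOn (infl N) (principalBlock M (G ⧸ N)) (principalBlock M G) := by
  have hMp : M.IsPrime := isPrime_of_isPModular hM
  refine ⟨?_, (infl_injective N).injOn, ?_⟩
  · intro ψ hψ
    have h1 : SameBlock M (fun _ : G ⧸ N => (1 : ℂ)) (ψ : G ⧸ N → ℂ) := hψ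
    exact Cfsg.Agent.S4611.sameBlock_inflate hMp N _ _ h1
  · intro χ hχ
    have h1 : χ ∈ blockOf M (((oneIrr (G ⧸ N) : IrrCharacter (G ⧸ N)) :
        G ⧸ N → ℂ) ∘ QuotientGroup.mk) := hχ
    obtain ⟨ψ', hψ', hs⟩ := Cfsg.Agent.S0967.result p M hM N hN (oneIrr (G ⧸ N)) χ h1
    refine ⟨ψ', hs, ?_⟩
    apply Subtype.ext
    rw [hψ']
    rfl

end Infl

section Galois

variable {G : Type u} [Group G] [Fintype G]

/-- The Galois twist of an irreducible character. -/
noncomputable def twist (τ : ℂ ≃+* ℂ) (χ : IrrCharacter G) : IrrCharacter G :=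
  ⟨fun g => τ ((χ : G → ℂ) g), Cfsg.Agent.Lib.Helper75.isIrrCharacter_ringEquiv_comp τ χ.2⟩

omit [Fintype G] in
theorem twist_apply (τ : ℂ ≃+* ℂ) (χ : IrrCharacter G) (g : G) :
    (twist τ χ : G → ℂ) g = τ ((χ : G → ℂ) g) := rfl

omit [Fintype G] in
theorem twist_symm_twist (τ : ℂ ≃+* ℂ) (χ : IrrCharacter G) : twist τ.symm (twist τ χ) = χ := by
  apply Subtype.ext
  funext g
  simp [twist_apply]

omit [Fintype G] in
theorem twist_twist_symm (τ : ℂ ≃+* ℂ) (χ : IrrCharacter G) : twist τ (twist τ.symm χ) = χ := by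
  apply Subtype.ext
  funext g
  simp [twist_apply]

theorem classInner_pTilde_twist (p : ℕ) (τ : ℂ ≃+* ℂ) (χ : IrrCharacter G) :
    classInner (pTilde p (fun _ : G => (1 : ℂ))) (twist τ χ : G → ℂ) =
      τ (classInner (pTilde p (fun _ : G => (1 : ℂ))) (χ : G → ℂ)) := by
  unfold classInner
  rw [map_mul, map_inv₀, map_natCast, map_sum]
  congr 1
  refine Finset.sum_congr rfl fun g _ => ?_
  rw [map_mul]
  congr 1
  · simp only [pTilde_apply]
    split_ifs
    · simp
    · simp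
  · rw [← Cfsg.Agent.Lib.Helper80.irr_conj_inv, ← Cfsg.Agent.Lib.Helper80.irr_conj_inv, twist_apply]

theorem twist_mem_principal [Fintype (IrrCharacter G)] (p : ℕ) [Fact p.Prime] (M : Ideal AlgInt)
    (hM : IsPModular p M) (τ : ℂ ≃+* ℂ) (χ : IrrCharacter G) :
    twist τ χ ∈ principalBlock M G ↔ χ ∈ principalBlock M G := by
  rw [Cfsg.Agent.S4708.mem_principalBlock_iff_pTilde p M hM,
    Cfsg.Agent.S4708.mem_principalBlock_iff_pTilde p M hM, classInner_pTilde_twist]
  exact (map_ne_zero_iff τ τ.injective)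

open Classical in
/-- The sum of `|χ(x)|²` over the principal block is a positive integer. -/
theorem exists_nat_sum_normSq [Fintype (IrrCharacter G)] (p : ℕ) [Fact p.Prime]
    (M : Ideal AlgInt) (hM : IsPModular p M) (x : G) :
    ∃ n : ℕ, 0 < n ∧
      ∑ χ ∈ Finset.univ.filter (fun χ : IrrCharacter G => χ ∈ principalBlock M G),
        Complex.normSq ((χ : G → ℂ) x) = n := by
  have hMp : M.IsPrime := isPrime_of_isPModular hM
  set SG := Finset.univ.filter (fun χ : IrrCharacter G => χ ∈ principalBlock M G) with hSG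
  set S : ℂ := ∑ χ ∈ SG, (χ : G → ℂ) x * (χ : G → ℂ) x⁻¹ with hS
  have hint : IsIntegral ℤ S := by
    apply IsIntegral.sum
    intro χ _
    exact (Cfsg.Agent.Lib.Helper80.irr_isIntegral χ x).mul
      (Cfsg.Agent.Lib.Helper80.irr_isIntegral χ x⁻¹)
  have hfix : ∀ τ : ℂ ≃+* ℂ, τ S = S := by
    intro τ
    rw [hS, map_sum]
    apply Finset.sum_nbij' (fun χ => twist τ χ) (fun χ => twist τ.symm χ)
    · intro χ hχ
      rw [hSG, Finset.mem_filter] at hχ ⊢
      exact ⟨Finset.mem_univ _, (twist_mem_principal p M hM τ χ).mpr hχ.2⟩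
    · intro χ hχ
      rw [hSG, Finset.mem_filter] at hχ ⊢
      exact ⟨Finset.mem_univ _, (twist_mem_principal p M hM τ.symm χ).mpr hχ.2⟩
    · intro χ _
      exact twist_symm_twist τ χ
    · intro χ _
      exact twist_twist_symm τ χ
    · intro χ _
      rw [map_mul, twist_apply, twist_apply]
  obtain ⟨z, hz⟩ := Cfsg.Agent.Lib.Helper75.exists_int_eq_of_forall_ringEquiv_eq S hint hfix
  have hSreal : S = ((∑ χ ∈ SG, Complex.normSq ((χ : G → ℂ) x) : ℝ) : ℂ) := by
    rw [hS]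
    push_cast
    refine Finset.sum_congr rfl fun χ _ => ?_
    rw [Cfsg.Agent.Lib.Helper80.irr_conj_inv, Complex.mul_conj]
  have hzr : (z : ℝ) = ∑ χ ∈ SG, Complex.normSq ((χ : G → ℂ) x) := by
    have h1 : ((z : ℝ) : ℂ) = ((∑ χ ∈ SG, Complex.normSq ((χ : G → ℂ) x) : ℝ) : ℂ) := by
      rw [← hSreal, ← hz]
      push_cast
      rfl
    exact_mod_cast h1
  have h1mem : oneIrr G ∈ SG := by
    rw [hSG, Finset.mem_filter]
    exact ⟨Finset.mem_univ _, oneIrr_mem_principalBlock hMp⟩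
  have hpos : (1 : ℝ) ≤ ∑ χ ∈ SG, Complex.normSq ((χ : G → ℂ) x) := by
    have h2 := Finset.single_le_sum (f := fun χ : IrrCharacter G => Complex.normSq ((χ : G → ℂ) x))
      (fun _ _ => Complex.normSq_nonneg _) h1mem
    simpa [oneIrr_apply] using h2
  rw [← hzr] at hpos
  have hz1 : 1 ≤ z := by exact_mod_cast hpos
  refine ⟨z.toNat, by omega, ?_⟩
  rw [← hzr]
  have : ((z.toNat : ℤ) : ℝ) = (z : ℝ) := by
    rw [Int.toNat_of_nonneg (by omega)]
  exact_mod_cast this.symm

end Galois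

section Main

variable {G : Type u} [Group G] [Fintype G]

open Classical in
theorem sum_normSq_le_card_centralizer [Fintype (IrrCharacter G)] (B : Set (IrrCharacter G))
    (x : G) :
    ∑ χ ∈ Finset.univ.filter (fun χ : IrrCharacter G => χ ∈ B), Complex.normSq ((χ : G → ℂ) x) ≤
      (Nat.card (Subgroup.centralizer ({x} : Set G)) : ℝ) := by
  have h1 := Cfsg.Agent.Lib.Helper3.column_orthogonality x x
  rw [if_pos (IsConj.refl x)] at h1
  have h2 : ∑ χ : IrrCharacter G, Complex.normSq ((χ : G → ℂ) x) =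
      (Nat.card (Subgroup.centralizer ({x} : Set G)) : ℝ) := by
    have h3 : ((∑ χ : IrrCharacter G, Complex.normSq ((χ : G → ℂ) x) : ℝ) : ℂ) =
        ((Nat.card (Subgroup.centralizer ({x} : Set G)) : ℝ) : ℂ) := by
      push_cast
      rw [← h1]
      refine Finset.sum_congr rfl fun χ _ => ?_
      rw [Complex.mul_conj]
    exact_mod_cast h3
  rw [← h2]
  exact Finset.sum_le_sum_of_subset_of_nonneg (Finset.filter_subset _ _)
    (fun _ _ _ => Complex.normSq_nonneg _)

theorem sum_charDegree_sq [Fintype (IrrCharacter G)] :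
    ∑ χ : IrrCharacter G, charDegree (χ : G → ℂ) ^ 2 = Nat.card G := by
  have h1 := sum_irr_deg_mul_one (G := G)
  have h2 : ((∑ χ : IrrCharacter G, charDegree (χ : G → ℂ) ^ 2 : ℕ) : ℂ) = (Nat.card G : ℂ) := by
    rw [← h1]
    push_cast
    refine Finset.sum_congr rfl fun χ _ => ?_
    rw [irr_apply_one_eq_charDegree χ, pow_two]
  exact_mod_cast h2

open Classical in
theorem sum_filter_eq_iff [Fintype (IrrCharacter G)] (B : Set (IrrCharacter G)) :
    ∑ χ ∈ Finset.univ.filter (fun χ : IrrCharacter G => χ ∈ B), charDegree (χ : G → ℂ) ^ 2 =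
      Nat.card G ↔ ∀ χ : IrrCharacter G, χ ∈ B := by
  rw [← sum_charDegree_sq]
  constructor
  · intro h χ
    by_contra hχ
    have h1 := Finset.sum_sdiff (f := fun χ : IrrCharacter G => charDegree (χ : G → ℂ) ^ 2)
      (Finset.subset_univ (Finset.univ.filter (fun χ : IrrCharacter G => χ ∈ B)))
    rw [h] at h1
    have h2 : ∑ χ ∈ Finset.univ \ Finset.univ.filter (fun χ : IrrCharacter G => χ ∈ B),
        charDegree (χ : G → ℂ) ^ 2 = 0 := by omega
    rw [Finset.sum_eq_zero_iff] at h2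
    have h3 := h2 χ (by
      rw [Finset.mem_sdiff, Finset.mem_filter]
      exact ⟨Finset.mem_univ _, fun h => hχ h.2⟩)
    have h4 := irr_charDegree_ne_zero χ
    exact h4 (by simpa using h3)
  · intro h
    congr 1
    ext χ
    simp [h χ]

end Main

/-- Let p be a prime, M a maximal ideal of the algebraic integers containing p, G a finite group, H = O_p'(G) and Ḡ = G/H. For x ∈ G write λ(G, x) for the sum of |χ(x)|^2 over the irreducible characters χ in the principal p-block of G. Then λ(G, x) is a positive integer, λ(G, x) = λ(Ḡ, x̄) where x̄ is the image of x, and λ(G, x) ≤ #C_Ḡ(x̄). Moreover λ(G, 1) = [G : H] if and only if the principal block is the only p-block of Ḡ. -/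
theorem result {G : Type*} [Group G] [Finite G] (p : ℕ) [Fact p.Prime] (M : Ideal Cfsg.AlgInt) (hM : Cfsg.IsPModular p M) (x : G) : (∃ n : ℕ, 0 < n ∧ ∑ᶠ χ ∈ Cfsg.principalBlock M G, Complex.normSq ((χ : G → ℂ) x) = n) ∧ ∑ᶠ χ ∈ Cfsg.principalBlock M G, Complex.normSq ((χ : G → ℂ) x) = ∑ᶠ ψ ∈ Cfsg.principalBlock M (G ⧸ Cfsg.pPrimeCore p G), Complex.normSq ((ψ : G ⧸ Cfsg.pPrimeCore p G → ℂ) (QuotientGroup.mk x)) ∧ ∑ᶠ χ ∈ Cfsg.principalBlock M G, Complex.normSq ((χ : G → ℂ) x) ≤ (Nat.card ↥(Subgroup.centralizer ({(QuotientGroup.mk x : G ⧸ Cfsg.pPrimeCore p G)} : Set (G ⧸ Cfsg.pPrimeCore p G))) : ℝ) ∧ ((∑ᶠ χ ∈ Cfsg.principalBlock M G, Cfsg.charDegree (χ : G → ℂ) ^ 2) = (Cfsg.pPrimeCore p G).index ↔ ∀ B : Set (Cfsg.IrrCharacter (G ⧸ Cfsg.pPrimeCore p G)), Cfsg.IsPBlock M B → B = Cfsg.principalBlock M (G ⧸ Cfsg.pPrimeCore p G)) := by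
  classical
  have hp : p.Prime := Fact.out
  have hMp : M.IsPrime := isPrime_of_isPModular hM
  have := Fintype.ofFinite G
  have := Fintype.ofFinite (G ⧸ pPrimeCore p G)
  have hfinG : Finite (IrrCharacter G) := finite_irrCharacter
  have := Fintype.ofFinite (IrrCharacter G)
  have hfinQ : Finite (IrrCharacter (G ⧸ pPrimeCore p G)) := finite_irrCharacter
  have := Fintype.ofFinite (IrrCharacter (G ⧸ pPrimeCore p G))
  have hN : ¬ p ∣ Nat.card (pPrimeCore p G) := by
    have h := Cfsg.Agent.Lib.Helper55.pPrimeCore_card_coprime (G := G) p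
    exact fun hd => (Nat.Prime.coprime_iff_not_dvd hp).mp h.symm hd
  have hbij := bijOn_infl (pPrimeCore p G) p M hM hN
  have hb : ∑ᶠ χ ∈ principalBlock M G, Complex.normSq ((χ : G → ℂ) x) =
      ∑ᶠ ψ ∈ principalBlock M (G ⧸ pPrimeCore p G),
        Complex.normSq ((ψ : G ⧸ pPrimeCore p G → ℂ) (QuotientGroup.mk x)) :=
    (finsum_mem_eq_of_bijOn (infl (pPrimeCore p G)) hbij (fun ψ _ => rfl)).symm
  have hd : ∑ᶠ χ ∈ principalBlock M G, charDegree (χ : G → ℂ) ^ 2 =
      ∑ᶠ ψ ∈ principalBlock M (G ⧸ pPrimeCore p G),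
        charDegree (ψ : G ⧸ pPrimeCore p G → ℂ) ^ 2 :=
    (finsum_mem_eq_of_bijOn (infl (pPrimeCore p G)) hbij
      (fun ψ _ => by rw [charDegree_infl])).symm
  refine ⟨?_, hb, ?_, ?_⟩
  · rw [Cfsg.Agent.S4708.finsum_mem_eq_sum_filter']
    exact exists_nat_sum_normSq p M hM x
  · rw [hb, Cfsg.Agent.S4708.finsum_mem_eq_sum_filter']
    exact sum_normSq_le_card_centralizer _ _
  · rw [hd, Cfsg.Agent.S4708.finsum_mem_eq_sum_filter', Subgroup.index_eq_card,
      sum_filter_eq_iff]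
    constructor
    · intro h B hB
      obtain ⟨χ₀, rfl⟩ := hB
      have h1 : χ₀ ∈ blockOf M ((oneIrr (G ⧸ pPrimeCore p G) :
          IrrCharacter (G ⧸ pPrimeCore p G)) : G ⧸ pPrimeCore p G → ℂ) := h χ₀
      have h2 : SameBlock M (fun _ : G ⧸ pPrimeCore p G => (1 : ℂ))
          (χ₀ : G ⧸ pPrimeCore p G → ℂ) := h1
      ext ψ
      constructor
      · intro hψ
        exact sameBlock_trans hMp h2 hψ
      · intro hψ
        exact sameBlock_trans hMp (sameBlock_symm h2) hψ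
    · intro h χ
      rw [← h (blockOf M (χ : G ⧸ pPrimeCore p G → ℂ)) ⟨χ, rfl⟩]
      exact sameBlock_refl hMp _

end Cfsg.Agent.S4735
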