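import Cfsg.Statements.S4736
import Cfsg.Agent.S4735
import Cfsg.Agent.S4713
import Cfsg.Agent.Lib.Helper84.PCore

set_option autoImplicit false
open Cfsg

namespace Cfsg.Agent.S4736

open Cfsg.Agent.Lib.Helper81 Cfsg.Agent.Lib.Helper74
open Cfsg.Agent.S4735

universe u

/-- In the principal block, height zero means degree prime to `p`. -/
theorem blockHeight_principal_eq_zero_iff {G : Type u} [Group G] [Finite G] (p : ℕ)
    [Fact p.Prime] (M : Ideal AlgInt) (hM : IsPModular p M) (χ : IrrCharacter G) :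
    blockHeight p (principalBlock M G) (χ : G → ℂ) = 0 ↔ ¬ p ∣ charDegree (χ : G → ℂ) := by
  have hp : p.Prime := Fact.out
  have hMp : M.IsPrime := isPrime_of_isPModular hM
  have hinf : sInf ((fun ψ : IrrCharacter G => (charDegree (ψ : G → ℂ)).factorization p) ''
      principalBlock M G) = 0 := by
    apply Nat.eq_zero_of_le_zero
    apply Nat.sInf_le
    refine ⟨oneIrr G, oneIrr_mem_principalBlock hMp, ?_⟩
    show (charDegree (fun _ : G => (1 : ℂ))).factorization p = 0
    rw [Cfsg.Agent.S4708.charDegree_one_fun]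
    simp
  unfold blockHeight
  rw [hinf, Nat.sub_zero]
  have h0 : charDegree (χ : G → ℂ) ≠ 0 := irr_charDegree_ne_zero χ
  rw [Nat.factorization_eq_zero_iff]
  constructor
  · rintro (h | h | h)
    · exact absurd hp h
    · exact h
    · exact absurd h h0
  · intro h
    exact Or.inr (Or.inl h)

/-- Let p be a prime, M a maximal ideal of the algebraic integers containing p, and G a finite p-solvable group with Sylow p-subgroup P. Then P is abelian if and only if every irreducible character in the principal p-block of G has height zero. -/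
theorem result {G : Type*} [Group G] [Finite G] (p : ℕ) [Fact p.Prime] (M : Ideal Cfsg.AlgInt) (hM : Cfsg.IsPModular p M) (hsolv : Cfsg.IsPSolvable p G) (P : Sylow p G) : IsMulCommutative P ↔ ∀ χ ∈ Cfsg.principalBlock M G, Cfsg.blockHeight p (Cfsg.principalBlock M G) (χ : G → ℂ) = 0 := by
  classical
  have hp : p.Prime := Fact.out
  have hMp : M.IsPrime := isPrime_of_isPModular hM
  have hN : ¬ p ∣ Nat.card (pPrimeCore p G) := by
    have h := Cfsg.Agent.Lib.Helper55.pPrimeCore_card_coprime (G := G) p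
    exact fun hd => (Nat.Prime.coprime_iff_not_dvd hp).mp h.symm hd
  have hbij := bijOn_infl (pPrimeCore p G) p M hM hN
  have hpsq : IsPSolvable p (G ⧸ pPrimeCore p G) :=
    Cfsg.Agent.Lib.Helper76.isPSolvable_quotient (pPrimeCore p G) hsolv
  have hcore : pPrimeCore p (G ⧸ pPrimeCore p G) = ⊥ :=
    Cfsg.Agent.Lib.Helper55.pPrimeCore_quotient_eq_bot p
  have hconstr := Cfsg.Agent.Lib.Helper76.centralizer_pCore_le_of_isPSolvable hpsq hcore
  have hsurj : Function.Surjective (QuotientGroup.mk' (pPrimeCore p G)) :=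
    QuotientGroup.mk'_surjective _
  set Pb : Sylow p (G ⧸ pPrimeCore p G) := P.mapSurjective hsurj with hPb
  have hPbcoe : (Pb : Subgroup (G ⧸ pPrimeCore p G)) =
      (P : Subgroup G).map (QuotientGroup.mk' (pPrimeCore p G)) := Sylow.coe_mapSurjective hsurj P
  have h4713 := Cfsg.Agent.S4713.result p hpsq Pb
  constructor
  · intro hcomm χ hχ
    rw [blockHeight_principal_eq_zero_iff p M hM]
    -- the image of `P` is a normal abelian Sylow subgroup of the quotient
    have hPbcomm : ∀ a ∈ (Pb : Subgroup (G ⧸ pPrimeCore p G)),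
        ∀ b ∈ (Pb : Subgroup (G ⧸ pPrimeCore p G)), a * b = b * a := by
      intro a ha b hb
      rw [hPbcoe, Subgroup.mem_map] at ha hb
      obtain ⟨a', ha', rfl⟩ := ha
      obtain ⟨b', hb', rfl⟩ := hb
      have h1 : (⟨a', ha'⟩ : P) * ⟨b', hb'⟩ = ⟨b', hb'⟩ * ⟨a', ha'⟩ := hcomm.is_comm.comm _ _
      have h2 : a' * b' = b' * a' := congrArg Subtype.val h1
      rw [← map_mul, ← map_mul, h2]
    have hle : pCore p (G ⧸ pPrimeCore p G) ≤ Pb := Cfsg.Agent.Lib.Helper84.pCore_le_sylow Pb
    have hPbeq : (Pb : Subgroup (G ⧸ pPrimeCore p G)) = pCore p (G ⧸ pPrimeCore p G) := by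
      apply le_antisymm _ hle
      refine le_trans ?_ hconstr
      intro a ha
      rw [Subgroup.mem_centralizer_iff]
      intro b hb
      exact hPbcomm b (hle hb) a ha
    have hPbn : (Pb : Subgroup (G ⧸ pPrimeCore p G)).Normal := by
      rw [hPbeq]
      infer_instance
    have hPbc : IsMulCommutative Pb :=
      ⟨⟨fun a b => Subtype.ext (hPbcomm a a.2 b b.2)⟩⟩
    have hdeg := h4713.mp ⟨hPbn, hPbc⟩
    obtain ⟨ψ, -, rfl⟩ := hbij.surjOn hχ
    rw [charDegree_infl]
    exact hdeg ψ
  · intro hht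
    have hdeg : ∀ ψ : IrrCharacter (G ⧸ pPrimeCore p G),
        ¬ p ∣ charDegree (ψ : G ⧸ pPrimeCore p G → ℂ) := by
      intro ψ
      have hmem : infl (pPrimeCore p G) ψ ∈ principalBlock M G := by
        rw [Cfsg.Agent.S4611.mem_principalBlock_iff p M hM hsolv]
        intro n hn
        rw [infl_apply, infl_apply, (QuotientGroup.eq_one_iff n).mpr hn, QuotientGroup.mk_one]
      have h1 := hht _ hmem
      rw [blockHeight_principal_eq_zero_iff p M hM, charDegree_infl] at h1
      exact h1
    obtain ⟨-, hPbc⟩ := h4713.mpr hdeg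
    refine ⟨⟨fun a b => ?_⟩⟩
    have ha : (QuotientGroup.mk' (pPrimeCore p G)) (a : G) ∈
        (Pb : Subgroup (G ⧸ pPrimeCore p G)) := by
      rw [hPbcoe]; exact Subgroup.mem_map_of_mem _ a.2
    have hb : (QuotientGroup.mk' (pPrimeCore p G)) (b : G) ∈
        (Pb : Subgroup (G ⧸ pPrimeCore p G)) := by
      rw [hPbcoe]; exact Subgroup.mem_map_of_mem _ b.2
    have h1 : (⟨_, ha⟩ : Pb) * ⟨_, hb⟩ = ⟨_, hb⟩ * ⟨_, ha⟩ := hPbc.is_comm.comm _ _
    have h2 : (QuotientGroup.mk' (pPrimeCore p G)) ((a : G) * (b : G)) =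
        (QuotientGroup.mk' (pPrimeCore p G)) ((b : G) * (a : G)) := by
      rw [map_mul, map_mul]
      exact congrArg Subtype.val h1
    -- `(a b)(b a)⁻¹` lies in `P ∩ O_{p'}(G) = 1`
    set c : G := (a : G) * (b : G) * ((b : G) * (a : G))⁻¹ with hc
    have hcN : c ∈ pPrimeCore p G := by
      rw [← QuotientGroup.eq_one_iff, hc, QuotientGroup.mk_mul, QuotientGroup.mk_inv]
      have h3 : ((((a : G) * (b : G) : G)) : G ⧸ pPrimeCore p G) =
          (((b : G) * (a : G) : G) : G ⧸ pPrimeCore p G) := h2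
      rw [h3, mul_inv_cancel]
    have hcP : c ∈ (P : Subgroup G) := by
      rw [hc]
      exact Subgroup.mul_mem _ (Subgroup.mul_mem _ a.2 b.2)
        (Subgroup.inv_mem _ (Subgroup.mul_mem _ b.2 a.2))
    have hc1 : c = 1 := by
      obtain ⟨k, hk⟩ := (P.2 ⟨c, hcP⟩)
      have hk' : c ^ p ^ k = 1 := congrArg Subtype.val hk
      have h5 : orderOf c ∣ p ^ k := orderOf_dvd_of_pow_eq_one hk'
      have h6 : orderOf c ∣ Nat.card (pPrimeCore p G) := by
        have := orderOf_dvd_natCard (⟨c, hcN⟩ : pPrimeCore p G)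
        rwa [Subgroup.orderOf_mk] at this
      have hcop : Nat.Coprime (p ^ k) (Nat.card (pPrimeCore p G)) :=
        Nat.Coprime.pow_left k ((Nat.Prime.coprime_iff_not_dvd hp).mpr hN)
      have h7 : orderOf c = 1 := Nat.eq_one_of_dvd_coprimes hcop h5 h6
      exact orderOf_eq_one_iff.mp h7
    apply Subtype.ext
    show (a : G) * (b : G) = (b : G) * (a : G)
    have := mul_inv_eq_one.mp hc1
    exact this
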