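import Cfsg.Statements.S4738
import Cfsg.Agent.Lib.Helper80.InvSylow
import Cfsg.Agent.Lib.Helper80.Conv

set_option autoImplicit false
set_option linter.style.haveILetI false
open Cfsg

namespace Cfsg.Agent.S4738

/-- Let p be an odd prime and G a finite group of even order containing no element of order 2p. Then either G has an irreducible character of p-defect zero (its degree has the same p-part as the order of G), or every Sylow p-subgroup of G is abelian and all involutions of G are conjugate. -/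
theorem result {G : Type*} [Group G] [Finite G] (p : ℕ) [Fact p.Prime] (hp2 : p ≠ 2) (hG : Even (Nat.card G)) (h2p : ∀ g : G, orderOf g ≠ 2 * p) : (∃ χ : Cfsg.IrrCharacter G, (Cfsg.charDegree (χ : G → ℂ)).factorization p = (Nat.card G).factorization p) ∨ ((∀ P : Sylow p G, IsMulCommutative ↥(P : Subgroup G)) ∧ ∀ s t : G, orderOf s = 2 → orderOf t = 2 → IsConj s t) := by
  by_cases hpG : p ∣ Nat.card G
  swap
  · left
    refine ⟨Cfsg.Agent.Lib.Helper80.trivIrr G, ?_⟩
    have h1 : Cfsg.charDegree ((Cfsg.Agent.Lib.Helper80.trivIrr G : Cfsg.IrrCharacter G) : G → ℂ)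
        = 1 := by
      simp [Cfsg.charDegree, Cfsg.Agent.Lib.Helper80.trivIrr_apply]
    rw [h1, Nat.factorization_eq_zero_of_not_dvd hpG]
    simp
  by_cases hDZ : Cfsg.Agent.Lib.Helper80.HasDZ p G
  · left; exact hDZ
  right
  have hC := Cfsg.Agent.Lib.Helper80.oddCent_of_no_two_p hp2 h2p
  haveI : Fact (Nat.Prime 2) := ⟨Nat.prime_two⟩
  have h2G : 2 ∣ Nat.card G := even_iff_two_dvd.mp hG
  obtain ⟨t, ht⟩ := exists_prime_orderOf_dvd_card' 2 h2G
  constructor
  · intro P
    obtain ⟨s, -, hs2, hsN, hsinv⟩ :=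
      Cfsg.Agent.Lib.Helper80.sylow_inverted hp2 hC hpG hDZ P t ht
    have hcomm := Cfsg.Agent.Lib.Helper80.comm_of_inverts s (P : Subgroup G) hsinv
    exact ⟨⟨fun a b => Subtype.ext (hcomm a a.2 b b.2)⟩⟩
  · intro s t hs ht
    exact Cfsg.Agent.Lib.Helper80.involutions_conj hp2 hC hpG hDZ s t hs ht

end Cfsg.Agent.S4738
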