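import Cfsg.Statements.S4740
import Cfsg.Agent.Lib.Helper80.ClassConst
import Cfsg.Agent.Lib.Helper80.Kernel

set_option autoImplicit false
open Cfsg

namespace Cfsg.Agent.S4740

theorem inverts_of_involutions {G : Type*} [Group G] {g h z : G} (hg : g * g = 1)
    (hh : h * h = 1) (hz : g * h = z) : g * z * g⁻¹ = z⁻¹ := by
  have hginv : g⁻¹ = g := inv_eq_of_mul_eq_one_left hg
  have hhinv : h⁻¹ = h := inv_eq_of_mul_eq_one_left hh
  rw [← hz, mul_inv_rev, hginv, hhinv, ← mul_assoc, hg, one_mul]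

/-- Let p be an odd prime, G a finite group of even order, x an involution of G and P a subgroup of G of order p ^ c such that no conjugate of x inverts a non-identity element of P. If p ^ a is the p-part of the order of C_G(x), then some irreducible character of G has degree divisible by p ^ (c - a). -/
theorem result {G : Type*} [Group G] [Finite G] (p : ℕ) [Fact p.Prime] (hp2 : p ≠ 2) (hG : Even (Nat.card G)) (x : G) (hx : orderOf x = 2) (P : Subgroup G) (c : ℕ) (hP : Nat.card ↥P = p ^ c) (hinv : ∀ g : G, IsConj x g → ∀ z ∈ P, z ≠ 1 → g * z * g⁻¹ ≠ z⁻¹) (a : ℕ) (ha : (Nat.card ↥(Subgroup.centralizer ({x} : Set G))).factorization p = a) : ∃ χ : Cfsg.IrrCharacter G, p ^ (c - a) ∣ Cfsg.charDegree (χ : G → ℂ) := by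
  classical
  have := Fintype.ofFinite G
  have := Fintype.ofFinite (Cfsg.IrrCharacter G)
  have hp : p.Prime := Fact.out
  by_contra hcon
  push Not at hcon
  have hxx : x * x = 1 := by
    have := pow_orderOf_eq_one x
    rwa [hx, pow_two] at this
  have hxinv : x⁻¹ = x := inv_eq_of_mul_eq_one_left hxx
  -- degrees and multiplicities
  have hd : ∀ χ : Cfsg.IrrCharacter G, (Cfsg.charDegree (χ : G → ℂ) : ℂ) = (χ : G → ℂ) 1 :=
    Cfsg.Agent.Lib.Helper80.irr_charDegree_cast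
  have hd0 : ∀ χ : Cfsg.IrrCharacter G, Cfsg.charDegree (χ : G → ℂ) ≠ 0 := fun χ =>
    (Cfsg.Agent.Lib.Helper80.irr_charDegree_pos χ).ne'
  have hmex : ∀ χ : Cfsg.IrrCharacter G, ∃ m : ℕ,
      ∑ z : P, (χ : G → ℂ) z = (Nat.card P : ℂ) * m := fun χ =>
    Cfsg.Agent.Lib.Helper80.exists_sum_subgroup_eq
      (Cfsg.Agent.Lib.Helper3.IsIrrCharacter.isCharacter χ.2) P
  choose m hm using hmex
  -- vanishing of the class constants on `P \ 1`
  have hvan : ∀ z : P, z ≠ 1 → ∑ χ : Cfsg.IrrCharacter G,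
      (χ : G → ℂ) x * (χ : G → ℂ) x * (χ : G → ℂ) (z : G)⁻¹ / (χ : G → ℂ) 1 = 0 := by
    intro z hz1
    have hcc := Cfsg.Agent.Lib.Helper80.class_constant x x (z : G)
    have hempty : (Finset.univ.filter
        (fun st : G × G => st.1 * x * st.1⁻¹ * (st.2 * x * st.2⁻¹) = (z : G))) = ∅ := by
      rw [Finset.filter_eq_empty_iff]
      rintro ⟨s, t⟩ _ hst
      simp only at hst
      have hg : (s * x * s⁻¹) * (s * x * s⁻¹) = 1 := by
        have : (s * x * s⁻¹) * (s * x * s⁻¹) = s * (x * x) * s⁻¹ := by group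
        rw [this, hxx, mul_one, mul_inv_cancel]
      have hh : (t * x * t⁻¹) * (t * x * t⁻¹) = 1 := by
        have : (t * x * t⁻¹) * (t * x * t⁻¹) = t * (x * x) * t⁻¹ := by group
        rw [this, hxx, mul_one, mul_inv_cancel]
      have hinv' := inverts_of_involutions hg hh hst
      have hconj : IsConj x (s * x * s⁻¹) := isConj_iff.mpr ⟨s, rfl⟩
      refine hinv _ hconj (z : G) z.2 ?_ hinv'
      intro h1
      exact hz1 (Subtype.ext h1)
    rw [hempty, Finset.card_empty, Nat.cast_zero] at hcc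
    have hG : (Nat.card G : ℂ) ≠ 0 := by exact_mod_cast Nat.card_pos.ne'
    exact (mul_eq_zero.mp hcc.symm).resolve_left hG
  -- the sum over `P`
  have hsumP : ∑ z : P, ∑ χ : Cfsg.IrrCharacter G,
      (χ : G → ℂ) x * (χ : G → ℂ) x * (χ : G → ℂ) (z : G)⁻¹ / (χ : G → ℂ) 1 =
      ∑ χ : Cfsg.IrrCharacter G, (χ : G → ℂ) x * (χ : G → ℂ) x := by
    rw [Finset.sum_eq_single (1 : P)]
    · refine Finset.sum_congr rfl fun χ _ => ?_
      have := Cfsg.Agent.Lib.Helper80.irr_one_ne_zero χ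
      simp only [Subgroup.coe_one, inv_one]
      field_simp
    · intro z _ hz
      exact hvan z hz
    · intro h
      exact absurd (Finset.mem_univ _) h
  have hcol : ∑ χ : Cfsg.IrrCharacter G, (χ : G → ℂ) x * (χ : G → ℂ) x =
      (Nat.card (Subgroup.centralizer ({x} : Set G)) : ℂ) := by
    have h := Cfsg.Agent.Lib.Helper80.irr_column_orthogonality x x
    rw [if_pos (IsConj.refl x)] at h
    rw [← h]
    refine Finset.sum_congr rfl fun χ _ => ?_
    rw [← Cfsg.Agent.Lib.Helper80.irr_conj_inv χ x, hxinv]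
  have hswap : ∑ z : P, ∑ χ : Cfsg.IrrCharacter G,
      (χ : G → ℂ) x * (χ : G → ℂ) x * (χ : G → ℂ) (z : G)⁻¹ / (χ : G → ℂ) 1 =
      ∑ χ : Cfsg.IrrCharacter G, ((χ : G → ℂ) x * (χ : G → ℂ) x * (m χ : ℂ)) * (p ^ c : ℂ) /
        (Cfsg.charDegree (χ : G → ℂ) : ℂ) := by
    rw [Finset.sum_comm]
    refine Finset.sum_congr rfl fun χ _ => ?_
    have e1 : ∑ z : P, (χ : G → ℂ) (z : G)⁻¹ = ∑ z : P, (χ : G → ℂ) z := by
      refine Fintype.sum_equiv (Equiv.inv P) _ _ ?_
      intro z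
      simp
    have e2 : ∑ z : P, (χ : G → ℂ) x * (χ : G → ℂ) x * (χ : G → ℂ) (z : G)⁻¹ /
        (χ : G → ℂ) 1 = (χ : G → ℂ) x * (χ : G → ℂ) x / (χ : G → ℂ) 1 *
          ∑ z : P, (χ : G → ℂ) (z : G)⁻¹ := by
      rw [Finset.mul_sum]
      refine Finset.sum_congr rfl fun z _ => ?_
      ring
    rw [e2, e1, hm χ, hd χ, hP]
    push_cast
    ring
  have key : ∑ χ : Cfsg.IrrCharacter G, ((χ : G → ℂ) x * (χ : G → ℂ) x * (m χ : ℂ)) *
      (p ^ c : ℂ) / (Cfsg.charDegree (χ : G → ℂ) : ℂ) =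
      (Nat.card (Subgroup.centralizer ({x} : Set G)) : ℂ) := by
    rw [← hswap, hsumP, hcol]
  have hdvd := Cfsg.Agent.Lib.Helper80.pow_dvd_of_sum_eq p hp
    (fun χ : Cfsg.IrrCharacter G => (χ : G → ℂ) x * (χ : G → ℂ) x * (m χ : ℂ))
    (fun χ => ((Cfsg.Agent.Lib.Helper80.irr_isIntegral χ x).mul
      (Cfsg.Agent.Lib.Helper80.irr_isIntegral χ x)).mul (isIntegral_natCast _))
    (fun χ : Cfsg.IrrCharacter G => Cfsg.charDegree (χ : G → ℂ)) hd0 c a
    (Nat.card (Subgroup.centralizer ({x} : Set G))) key hcon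
  have hC0 : Nat.card (Subgroup.centralizer ({x} : Set G)) ≠ 0 := Nat.card_pos.ne'
  have := (hp.pow_dvd_iff_le_factorization hC0).mp hdvd
  omega

end Cfsg.Agent.S4740
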