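import Cfsg.Statements.S4742
import Cfsg.Agent.Lib.Helper74.CZ2
-- import your own Cfsg.Agent.* helpers here

set_option autoImplicit false
open Cfsg

namespace Cfsg.Agent.S4742

/-- Let p ≠ q be primes dividing the order of the finite group G, and suppose the centralizer of every non-identity p-element of G has order prime to q. Then either G has an irreducible character of p-defect zero, or for every non-identity q-element z of G there are conjugates g, h of z such that g h⁻¹ is a non-identity p-element. -/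
theorem result {G : Type*} [Group G] [Finite G] (p q : ℕ) [Fact p.Prime] [Fact q.Prime] (hppq : p ≠ q) (hpG : p ∣ Nat.card G) (hqG : q ∣ Nat.card G) (hC : ∀ g : G, g ≠ 1 → (∃ k : ℕ, orderOf g = p ^ k) → ¬ q ∣ Nat.card ↥(Subgroup.centralizer ({g} : Set G))) : (∃ χ : Cfsg.IrrCharacter G, (Cfsg.charDegree (χ : G → ℂ)).factorization p = (Nat.card G).factorization p) ∨ ∀ z : G, z ≠ 1 → (∃ k : ℕ, orderOf z = q ^ k) → ∃ g h : G, IsConj z g ∧ IsConj z h ∧ g * h⁻¹ ≠ 1 ∧ ∃ k : ℕ, orderOf (g * h⁻¹) = p ^ k := by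
  classical
  have hp : p.Prime := Fact.out
  have hq : q.Prime := Fact.out
  haveI : Fintype G := Fintype.ofFinite G
  by_cases hdz : ∃ χ : Cfsg.IrrCharacter G,
      (Cfsg.charDegree (χ : G → ℂ)).factorization p = (Nat.card G).factorization p
  · exact Or.inl hdz
  right
  push_neg at hdz
  intro z hz1 hzq
  by_contra hcon
  push_neg at hcon
  let P : Sylow p G := default
  have hdvd : p ∣ Nat.card (Subgroup.centralizer ({z} : Set G)) := by
    apply Cfsg.Agent.Lib.Helper74.dvd_card_centralizer_of_no_defect_zero p hpG hdz P z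
    intro y hyP hy1 u hc
    obtain ⟨k, hk⟩ := (IsPGroup.iff_orderOf.mp P.isPGroup') ⟨y, hyP⟩
    have hk' : orderOf y = p ^ k := by
      rw [← hk]
      exact (Subgroup.orderOf_mk y hyP).symm
    have h1 : y * (u * z * u⁻¹) * (u * z * u⁻¹)⁻¹ = y := by group
    have := hcon (y * (u * z * u⁻¹)) (u * z * u⁻¹) hc (isConj_iff.mpr ⟨u, rfl⟩)
      (by rw [h1]; exact hy1) k
    rw [h1] at this
    exact this hk'
  obtain ⟨y, hy⟩ := exists_prime_orderOf_dvd_card' p hdvd
  have hyG : orderOf (y : G) = p := by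
    rw [← hy]
    exact Subgroup.orderOf_coe y
  have hy1 : (y : G) ≠ 1 := by
    intro h
    rw [h, orderOf_one] at hyG
    exact hp.one_lt.ne hyG
  have hnq := hC (y : G) hy1 ⟨1, by rw [hyG, pow_one]⟩
  apply hnq
  have hzmem : z ∈ Subgroup.centralizer ({(y : G)} : Set G) := by
    rw [Subgroup.mem_centralizer_singleton_iff]
    have := y.2
    rw [Subgroup.mem_centralizer_singleton_iff] at this
    exact this.symm
  obtain ⟨k, hk⟩ := hzq
  have hk0 : k ≠ 0 := by
    intro h
    rw [h, pow_zero, orderOf_eq_one_iff] at hk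
    exact hz1 hk
  have h1 : orderOf z ∣ Nat.card (Subgroup.centralizer ({(y : G)} : Set G)) := by
    have := orderOf_dvd_natCard (⟨z, hzmem⟩ : Subgroup.centralizer ({(y : G)} : Set G))
    rwa [Subgroup.orderOf_mk] at this
  exact dvd_trans (hk ▸ dvd_pow_self q hk0) h1

end Cfsg.Agent.S4742
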