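import Cfsg.Statements.S4743
import Cfsg.Agent.S4742

set_option autoImplicit false
set_option linter.style.haveILetI false
open Cfsg

namespace Cfsg.Agent.S4743

/-- In a `p`-solvable group of order divisible by `p` and `q` there is a normal subgroup whose order
is divisible by exactly one of `p`, `q`. -/
theorem exists_normal_one_prime {G : Type*} [Group G] [Finite G] (p q : ℕ) [Fact p.Prime]
    [Fact q.Prime] (hpq : p ≠ q) (hpG : p ∣ Nat.card G)
    (hs : Cfsg.IsPSolvable p G) :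
    ∃ L : Subgroup G, L.Normal ∧ ((p ∣ Nat.card L ∧ ¬ q ∣ Nat.card L) ∨
      (q ∣ Nat.card L ∧ ¬ p ∣ Nat.card L)) := by
  have hp : p.Prime := Fact.out
  have hq : q.Prime := Fact.out
  obtain ⟨n, H, h0, hn, hmono, hnorm, hstep⟩ := hs
  have hex : ∃ i : Fin n, (¬ p ∣ Nat.card (H i.castSucc) ∧ ¬ q ∣ Nat.card (H i.castSucc)) ∧
      ¬ (¬ p ∣ Nat.card (H i.succ) ∧ ¬ q ∣ Nat.card (H i.succ)) := by
    by_contra hcon
    push Not at hcon
    have hall : ∀ i : Fin (n + 1), ¬ p ∣ Nat.card (H i) ∧ ¬ q ∣ Nat.card (H i) := by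
      intro i
      induction i using Fin.induction with
      | zero =>
        rw [h0, Subgroup.card_bot]
        exact ⟨hp.one_lt.ne' ∘ Nat.dvd_one.mp, hq.one_lt.ne' ∘ Nat.dvd_one.mp⟩
      | succ i ih =>
        exact hcon i ih
    have h1 := (hall (Fin.last n)).1
    rw [hn, Subgroup.card_top] at h1
    exact h1 hpG
  obtain ⟨i, ⟨hpi, hqi⟩, hsucc⟩ := hex
  have hle : H i.castSucc ≤ H i.succ := hmono (Fin.castSucc_lt_succ).le
  have hcard : Nat.card (H i.succ) = Nat.card (H i.castSucc) * (H i.castSucc).relIndex (H i.succ) := by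
    rw [← Subgroup.relIndex_bot_left, ← Subgroup.relIndex_bot_left (H i.castSucc)]
    exact (Subgroup.relIndex_mul_relIndex ⊥ (H i.castSucc) (H i.succ) bot_le hle).symm
  refine ⟨H i.succ, hnorm _, ?_⟩
  rcases hstep i with ⟨m, hm⟩ | hcop
  · left
    have hq' : ¬ q ∣ Nat.card (H i.succ) := by
      rw [hcard, hm]
      intro h
      rcases (Nat.Prime.dvd_mul hq).mp h with h | h
      · exact hqi h
      · have := (Nat.prime_dvd_prime_iff_eq hq hp).mp (hq.dvd_of_dvd_pow h)
        exact hpq this.symm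
    refine ⟨?_, hq'⟩
    by_contra hp'
    exact hsucc ⟨hp', hq'⟩
  · right
    have hp' : ¬ p ∣ Nat.card (H i.succ) := by
      rw [hcard]
      intro h
      rcases (Nat.Prime.dvd_mul hp).mp h with h | h
      · exact hpi h
      · exact (Nat.Prime.coprime_iff_not_dvd hp).mp hcop.symm h
    refine ⟨?_, hp'⟩
    by_contra hq'
    exact hsucc ⟨hp', hq'⟩

/-- The conclusion of `S4742` is incompatible with a normal subgroup of order divisible by `q`
but not by `p`. -/
theorem key {G : Type*} [Group G] [Finite G] (p q : ℕ) [Fact p.Prime] [Fact q.Prime]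
    (h1 : ∀ z : G, z ≠ 1 → (∃ k : ℕ, orderOf z = q ^ k) → ∃ g h : G, IsConj z g ∧ IsConj z h ∧
      g * h⁻¹ ≠ 1 ∧ ∃ k : ℕ, orderOf (g * h⁻¹) = p ^ k)
    (L : Subgroup G) (hL : L.Normal) (hqL : q ∣ Nat.card L) (hpL : ¬ p ∣ Nat.card L) : False := by
  have hq : q.Prime := Fact.out
  obtain ⟨z, hz⟩ := exists_prime_orderOf_dvd_card' q hqL
  have hzG : orderOf (z : G) = q := by
    rw [← hz]
    exact Subgroup.orderOf_coe z
  have hz1 : (z : G) ≠ 1 := by
    intro h
    rw [h, orderOf_one] at hzG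
    exact hq.one_lt.ne hzG
  obtain ⟨g, h, hg, hh, hne, k, hk⟩ := h1 (z : G) hz1 ⟨1, by rw [hzG, pow_one]⟩
  have hgL : g ∈ L := by
    obtain ⟨c, hc⟩ := isConj_iff.mp hg
    rw [← hc]
    exact hL.conj_mem _ z.2 c
  have hhL : h ∈ L := by
    obtain ⟨c, hc⟩ := isConj_iff.mp hh
    rw [← hc]
    exact hL.conj_mem _ z.2 c
  have hmem : g * h⁻¹ ∈ L := L.mul_mem hgL (L.inv_mem hhL)
  have hk0 : k ≠ 0 := by
    intro h0
    rw [h0, pow_zero, orderOf_eq_one_iff] at hk
    exact hne hk
  apply hpL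
  have h2 : orderOf (g * h⁻¹) ∣ Nat.card L := by
    have := orderOf_dvd_natCard (⟨g * h⁻¹, hmem⟩ : L)
    rwa [Subgroup.orderOf_mk] at this
  rw [hk] at h2
  exact dvd_trans (dvd_pow_self p hk0) h2

/-- The hypothesis on centralizers is symmetric in `p` and `q`. -/
theorem symm_hyp {G : Type*} [Group G] [Finite G] (p q : ℕ) [Fact p.Prime] [Fact q.Prime]
    (hC : ∀ g : G, g ≠ 1 → (∃ k : ℕ, orderOf g = p ^ k) →
      ¬ q ∣ Nat.card ↥(Subgroup.centralizer ({g} : Set G))) :
    ∀ g : G, g ≠ 1 → (∃ k : ℕ, orderOf g = q ^ k) →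
      ¬ p ∣ Nat.card ↥(Subgroup.centralizer ({g} : Set G)) := by
  have hp : p.Prime := Fact.out
  intro g hg1 ⟨k, hk⟩ hdvd
  obtain ⟨y, hy⟩ := exists_prime_orderOf_dvd_card' p hdvd
  have hyG : orderOf (y : G) = p := by
    rw [← hy]
    exact Subgroup.orderOf_coe y
  have hy1 : (y : G) ≠ 1 := by
    intro h
    rw [h, orderOf_one] at hyG
    exact hp.one_lt.ne hyG
  apply hC (y : G) hy1 ⟨1, by rw [hyG, pow_one]⟩
  have hgmem : g ∈ Subgroup.centralizer ({(y : G)} : Set G) := by
    rw [Subgroup.mem_centralizer_singleton_iff]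
    have := y.2
    rw [Subgroup.mem_centralizer_singleton_iff] at this
    exact this.symm
  have hk0 : k ≠ 0 := by
    intro h0
    rw [h0, pow_zero, orderOf_eq_one_iff] at hk
    exact hg1 hk
  have h2 : orderOf g ∣ Nat.card (Subgroup.centralizer ({(y : G)} : Set G)) := by
    have := orderOf_dvd_natCard (⟨g, hgmem⟩ : Subgroup.centralizer ({(y : G)} : Set G))
    rwa [Subgroup.orderOf_mk] at this
  rw [hk] at h2
  exact dvd_trans (dvd_pow_self q hk0) h2

/-- Let p ≠ q be primes dividing the order of the finite group G, suppose the centralizer of every non-identity p-element has order prime to q, and suppose G is p-solvable or q-solvable. Then G has an irreducible character of p-defect zero or an irreducible character of q-defect zero. -/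
theorem result {G : Type*} [Group G] [Finite G] (p q : ℕ) [Fact p.Prime] [Fact q.Prime] (hppq : p ≠ q) (hpG : p ∣ Nat.card G) (hqG : q ∣ Nat.card G) (hC : ∀ g : G, g ≠ 1 → (∃ k : ℕ, orderOf g = p ^ k) → ¬ q ∣ Nat.card ↥(Subgroup.centralizer ({g} : Set G))) (hsolv : Cfsg.IsPSolvable p G ∨ Cfsg.IsPSolvable q G) : (∃ χ : Cfsg.IrrCharacter G, (Cfsg.charDegree (χ : G → ℂ)).factorization p = (Nat.card G).factorization p) ∨ (∃ χ : Cfsg.IrrCharacter G, (Cfsg.charDegree (χ : G → ℂ)).factorization q = (Nat.card G).factorization q) := by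
  by_contra hcon
  push Not at hcon
  obtain ⟨hnp, hnq⟩ := hcon
  have hC' := symm_hyp p q hC
  have h1 := (Cfsg.Agent.S4742.result p q hppq hpG hqG hC).resolve_left (fun ⟨χ, h⟩ => hnp χ h)
  have h2 := (Cfsg.Agent.S4742.result q p hppq.symm hqG hpG hC').resolve_left (fun ⟨χ, h⟩ => hnq χ h)
  rcases hsolv with hs | hs
  · obtain ⟨L, hL, h | h⟩ := exists_normal_one_prime p q hppq hpG hs
    · exact key q p h2 L hL h.1 h.2
    · exact key p q h1 L hL h.1 h.2
  · obtain ⟨L, hL, h | h⟩ := exists_normal_one_prime q p hppq.symm hqG hs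
    · exact key p q h1 L hL h.1 h.2
    · exact key q p h2 L hL h.1 h.2

end Cfsg.Agent.S4743
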