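import Cfsg.Statements.S4744
import Cfsg.Agent.Lib.Helper80.InvSylow

set_option autoImplicit false
set_option linter.style.haveILetI false
open Cfsg

namespace Cfsg.Agent.S4744

/-- Let p be an odd prime and G a finite group of even order divisible by p in which the centralizer of every non-identity p-element has odd order. Then either G has an irreducible character of p-defect zero, or the normalizer of every Sylow p-subgroup P of G has even order and P is abelian. -/
theorem result {G : Type*} [Group G] [Finite G] (p : ℕ) [Fact p.Prime] (hp2 : p ≠ 2) (hpG : p ∣ Nat.card G) (h2G : 2 ∣ Nat.card G) (hC : ∀ g : G, g ≠ 1 → (∃ k : ℕ, orderOf g = p ^ k) → Odd (Nat.card ↥(Subgroup.centralizer ({g} : Set G)))) : (∃ χ : Cfsg.IrrCharacter G, (Cfsg.charDegree (χ : G → ℂ)).factorization p = (Nat.card G).factorization p) ∨ ∀ P : Sylow p G, Even (Nat.card ↥(Subgroup.normalizer ((P : Subgroup G) : Set G))) ∧ IsMulCommutative ↥(P : Subgroup G) := by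
  by_cases hDZ : Cfsg.Agent.Lib.Helper80.HasDZ p G
  · left; exact hDZ
  right
  intro P
  haveI : Fact (Nat.Prime 2) := ⟨Nat.prime_two⟩
  obtain ⟨t, ht⟩ := exists_prime_orderOf_dvd_card' 2 h2G
  obtain ⟨s, -, hs2, hsN, hsinv⟩ :=
    Cfsg.Agent.Lib.Helper80.sylow_inverted hp2 hC hpG hDZ P t ht
  constructor
  · have h1 : orderOf (⟨s, hsN⟩ : ↥(Subgroup.normalizer ((P : Subgroup G) : Set G))) = 2 := by
      rw [Subgroup.orderOf_mk]; exact hs2
    have hdvd : 2 ∣ Nat.card ↥(Subgroup.normalizer ((P : Subgroup G) : Set G)) := by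
      rw [← h1]; exact orderOf_dvd_natCard _
    exact even_iff_two_dvd.mpr hdvd
  · have hcomm := Cfsg.Agent.Lib.Helper80.comm_of_inverts s (P : Subgroup G) hsinv
    exact ⟨⟨fun a b => Subtype.ext (hcomm a a.2 b b.2)⟩⟩

end Cfsg.Agent.S4744
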