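import Cfsg.Statements.S4754
import Cfsg.Agent.Lib.Helper79.Classes

set_option autoImplicit false
open Cfsg

namespace Cfsg.Agent.S4754

open Cfsg.Agent.Lib.Helper79

/-- For elements x, y of a finite group G, the conjugacy class of x y equals the set of all products of a conjugate of x with a conjugate of y if and only if χ(1) χ(a x a⁻¹ b y b⁻¹) = χ(x) χ(y) for all a, b ∈ G and every irreducible character χ. -/
theorem result {G : Type*} [Group G] [Finite G] (x y : G) : (∀ z : G, IsConj (x * y) z ↔ ∃ a b : G, z = a * x * a⁻¹ * (b * y * b⁻¹)) ↔ ∀ (a b : G) (χ : Cfsg.IrrCharacter G), (χ : G → ℂ) 1 * (χ : G → ℂ) (a * x * a⁻¹ * (b * y * b⁻¹)) = (χ : G → ℂ) x * (χ : G → ℂ) y := by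
  classical
  have : Fintype G := Fintype.ofFinite G
  have hcf : ∀ χ : Cfsg.IrrCharacter G, ∀ g h : G, IsConj g h → (χ : G → ℂ) g = (χ : G → ℂ) h := by
    intro χ g h hgh
    have hc := Cfsg.Agent.Lib.Helper3.IsCharacter.isClassFunction (Cfsg.Agent.Lib.Helper3.IsIrrCharacter.isCharacter χ.2)
    obtain ⟨c, hc'⟩ := isConj_iff.mp hgh
    rw [← hc', hc g c]
  constructor
  · intro H a b χ
    have hz : ∀ c d : G, (χ : G → ℂ) (c * x * c⁻¹ * (d * y * d⁻¹)) = (χ : G → ℂ) (x * y) := by
      intro c d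
      exact (hcf χ _ _ ((H _).mpr ⟨c, d, rfl⟩)).symm
    have hsum := irr_one_mul_sum_conj χ x y
    have hterm : ∀ c : G, (χ : G → ℂ) (x * (c * y * c⁻¹)) = (χ : G → ℂ) (x * y) := by
      intro c
      have := hz 1 c
      simpa using this
    simp only [hterm, Finset.sum_const, Finset.card_univ, nsmul_eq_mul] at hsum
    rw [← Nat.card_eq_fintype_card] at hsum
    have hG : (Nat.card G : ℂ) ≠ 0 := by exact_mod_cast (Nat.card_pos (α := G)).ne'
    rw [hz a b]
    have : (Nat.card G : ℂ) * ((χ : G → ℂ) 1 * (χ : G → ℂ) (x * y)) =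
        (Nat.card G : ℂ) * ((χ : G → ℂ) x * (χ : G → ℂ) y) := by
      linear_combination hsum
    exact mul_left_cancel₀ hG this
  · intro H z
    constructor
    · intro hz
      obtain ⟨c, hc⟩ := isConj_iff.mp hz
      refine ⟨c, c, ?_⟩
      rw [← hc]
      group
    · rintro ⟨a, b, rfl⟩
      apply isConj_of_forall_irr_eq
      intro χ
      have h1 := H a b χ
      have h2 := H 1 1 χ
      simp only [one_mul, inv_one, mul_one] at h2
      have hne := irr_one_ne_zero χ
      have : (χ : G → ℂ) 1 * (χ : G → ℂ) (x * y) =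
          (χ : G → ℂ) 1 * (χ : G → ℂ) (a * x * a⁻¹ * (b * y * b⁻¹)) := by rw [h1, h2]
      exact mul_left_cancel₀ hne this

end Cfsg.Agent.S4754
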