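import Cfsg.Statements.S4755
import Cfsg.Agent.Lib.Helper79.Classes

set_option autoImplicit false
open Cfsg

namespace Cfsg.Agent.S4755

open Cfsg.Agent.Lib.Helper79
open scoped ComplexConjugate commutatorElement

theorem irr_conj_eq {G : Type*} [Group G] (χ : Cfsg.IrrCharacter G) (g c : G) :
    (χ : G → ℂ) (c * g * c⁻¹) = (χ : G → ℂ) g :=
  Cfsg.Agent.Lib.Helper3.IsCharacter.isClassFunction
    (Cfsg.Agent.Lib.Helper3.IsIrrCharacter.isCharacter χ.2) g c

/-- Column sum at `g`, `z` when every nonlinear character vanishes at `g` and `g⁻¹ z` lies in the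
commutator subgroup: it is nonzero. -/
theorem isConj_of_commutator {G : Type*} [Group G] [Finite G] (g z : G)
    (hvan : ∀ χ : Cfsg.IrrCharacter G, (χ : G → ℂ) 1 ≠ 1 → (χ : G → ℂ) g = 0)
    (hz : g⁻¹ * z ∈ commutator G) : IsConj g z := by
  classical
  have : Fintype G := Fintype.ofFinite G
  have : Fintype (IrrCharacter G) := Fintype.ofFinite _
  by_contra hne
  have h1 := Cfsg.Agent.Lib.Helper3.column_orthogonality g z
  rw [if_neg hne] at h1
  have hterm : ∀ χ : IrrCharacter G, (χ : G → ℂ) g * conj ((χ : G → ℂ) z) =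
      if (χ : G → ℂ) 1 = 1 then 1 else 0 := by
    intro χ
    by_cases h1 : (χ : G → ℂ) 1 = 1
    · rw [if_pos h1]
      have hchar := Cfsg.Agent.Lib.Helper3.IsIrrCharacter.isCharacter χ.2
      obtain ⟨φ, hφ⟩ := exists_monoidHom_of_isCharacter_of_one hchar h1
      have hz1 : (χ : G → ℂ) (g⁻¹ * z) = 1 := isCharacter_one_commutator hchar h1 hz
      have hzz : (χ : G → ℂ) z = (χ : G → ℂ) g := by
        have : z = g * (g⁻¹ * z) := by group
        rw [this, hφ, map_mul, Units.val_mul, ← hφ, ← hφ, hz1, mul_one]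
      rw [hzz, ← Cfsg.Agent.Lib.Helper3.IsCharacter.inv hchar g, hφ g, hφ g⁻¹, ← Units.val_mul,
        ← map_mul, mul_inv_cancel, map_one, Units.val_one]
    · rw [if_neg h1, hvan χ h1, zero_mul]
  simp only [hterm] at h1
  rw [Finset.sum_ite, Finset.sum_const_zero, add_zero, Finset.sum_const, nsmul_eq_mul,
    mul_one] at h1
  have hcard : (Finset.filter (fun χ : IrrCharacter G => (χ : G → ℂ) 1 = 1) Finset.univ).card ≠ 0 := by
    apply Finset.card_ne_zero_of_mem (a := ⟨fun g => (((1 : G →* ℂˣ) g : ℂˣ) : ℂ),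
      isIrrCharacter_of_monoidHom 1⟩)
    simp
  exact hcard (by exact_mod_cast h1)

/-- Let x, y be non-identity elements of the finite group G such that χ(x' y') = χ(x') χ(y') for all conjugates x' of x, y' of y and every irreducible character χ. Then the conjugacy class of x y is the set of all products of a conjugate of x with a conjugate of y; every irreducible character of degree greater than 1 vanishes at x y; and the conjugacy class of x y is the coset of the commutator subgroup containing x y. -/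
theorem result {G : Type*} [Group G] [Finite G] (x y : G) (hx : x ≠ 1) (hy : y ≠ 1) (h : ∀ (a b : G) (χ : Cfsg.IrrCharacter G), (χ : G → ℂ) (a * x * a⁻¹ * (b * y * b⁻¹)) = (χ : G → ℂ) (a * x * a⁻¹) * (χ : G → ℂ) (b * y * b⁻¹)) : (∀ z : G, IsConj (x * y) z ↔ ∃ a b : G, z = a * x * a⁻¹ * (b * y * b⁻¹)) ∧ (∀ χ : Cfsg.IrrCharacter G, (χ : G → ℂ) 1 ≠ 1 → (χ : G → ℂ) (x * y) = 0) ∧ (∀ z : G, IsConj (x * y) z ↔ (x * y)⁻¹ * z ∈ commutator G) := by
  classical
  have : Fintype G := Fintype.ofFinite G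
  have hxy : ∀ (a b : G) (χ : Cfsg.IrrCharacter G),
      (χ : G → ℂ) (a * x * a⁻¹ * (b * y * b⁻¹)) = (χ : G → ℂ) x * (χ : G → ℂ) y := by
    intro a b χ
    rw [h a b χ, irr_conj_eq, irr_conj_eq]
  have hprod : ∀ χ : Cfsg.IrrCharacter G, (χ : G → ℂ) (x * y) = (χ : G → ℂ) x * (χ : G → ℂ) y := by
    intro χ
    have := hxy 1 1 χ
    simpa using this
  have hvan : ∀ χ : Cfsg.IrrCharacter G, (χ : G → ℂ) 1 ≠ 1 → (χ : G → ℂ) (x * y) = 0 := by
    intro χ hχ
    have hsum := irr_one_mul_sum_conj χ x y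
    have hterm : ∀ c : G, (χ : G → ℂ) (x * (c * y * c⁻¹)) = (χ : G → ℂ) x * (χ : G → ℂ) y := by
      intro c
      have := hxy 1 c χ
      simpa using this
    simp only [hterm, Finset.sum_const, Finset.card_univ, nsmul_eq_mul] at hsum
    rw [← Nat.card_eq_fintype_card] at hsum
    have hG : (Nat.card G : ℂ) ≠ 0 := by exact_mod_cast (Nat.card_pos (α := G)).ne'
    have h0 : ((χ : G → ℂ) 1 - 1) * ((χ : G → ℂ) x * (χ : G → ℂ) y) = 0 := by
      have : (Nat.card G : ℂ) * (((χ : G → ℂ) 1 - 1) * ((χ : G → ℂ) x * (χ : G → ℂ) y)) = 0 := by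
        linear_combination hsum
      exact (mul_eq_zero.mp this).resolve_left hG
    rw [hprod χ]
    exact (mul_eq_zero.mp h0).resolve_left (sub_ne_zero.mpr hχ)
  refine ⟨?_, hvan, ?_⟩
  · intro z
    constructor
    · intro hz
      obtain ⟨c, hc⟩ := isConj_iff.mp hz
      refine ⟨c, c, ?_⟩
      rw [← hc]
      group
    · rintro ⟨a, b, rfl⟩
      apply isConj_of_forall_irr_eq
      intro χ
      rw [hxy a b χ, hprod χ]
  · intro z
    constructor
    · intro hz
      obtain ⟨c, hc⟩ := isConj_iff.mp hz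
      rw [← hc]
      have : (x * y)⁻¹ * (c * (x * y) * c⁻¹) = ⁅(x * y)⁻¹, c⁆ := by
        rw [commutatorElement_def]; group
      rw [this]
      exact Subgroup.commutator_mem_commutator (Subgroup.mem_top _) (Subgroup.mem_top _)
    · intro hz
      exact isConj_of_commutator (x * y) z hvan hz

end Cfsg.Agent.S4755
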