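import Cfsg.Statements.S4757
import Cfsg.Agent.Lib.Helper79.Classes
import Cfsg.Agent.Lib.Helper30.PPrimeCore

set_option autoImplicit false
open Cfsg

namespace Cfsg.Agent.S4757

open Cfsg.Agent.Lib.Helper79
open scoped ComplexConjugate

variable {G : Type*} [Group G]

/-- The linear irreducible character attached to a homomorphism. -/
noncomputable def lin (φ : G →* ℂˣ) : Cfsg.IrrCharacter G :=
  ⟨fun g => ((φ g : ℂˣ) : ℂ), isIrrCharacter_of_monoidHom φ⟩

theorem lin_apply (φ : G →* ℂˣ) (g : G) : (lin φ : G → ℂ) g = ((φ g : ℂˣ) : ℂ) := rfl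

theorem lin_one_coe : (lin (1 : G →* ℂˣ) : G → ℂ) = fun _ => (1 : ℂ) := by
  funext g
  simp [lin_apply]

theorem lin_ne_triv {φ : G →* ℂˣ} (h : φ ≠ 1) : (lin φ : G → ℂ) ≠ fun _ => (1 : ℂ) := by
  intro heq
  apply h
  ext g
  have := congrFun heq g
  simpa [lin_apply] using this

theorem irr_one_nat (χ : Cfsg.IrrCharacter G) : ∃ n : ℕ, 0 < n ∧ (χ : G → ℂ) 1 = (n : ℂ) := by
  obtain ⟨χ, n, ρ, hirr, rfl⟩ := χ
  refine ⟨n, ?_, by simp⟩
  have := Cfsg.Agent.Lib.Helper80.finrank_pos_of_irreducible ρ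
  simpa using this

theorem irr_linear_of_one [Finite G] (χ : Cfsg.IrrCharacter G) (h : (χ : G → ℂ) 1 = 1) :
    ∃ φ : G →* ℂˣ, χ = lin φ := by
  obtain ⟨φ, hφ⟩ := exists_monoidHom_of_isCharacter_of_one
    (Cfsg.Agent.Lib.Helper3.IsIrrCharacter.isCharacter χ.2) h
  exact ⟨φ, Subtype.ext (funext hφ)⟩

section Main

variable [Finite G] (u : G) (hu : u ≠ 1) (c : ℂ)
  (hyp : ∀ χ : Cfsg.IrrCharacter G, (χ : G → ℂ) ≠ (fun _ => (1 : ℂ)) →
    ((χ : G → ℂ) 1 - (χ : G → ℂ) u = c ∨ (χ : G → ℂ) u = 0))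

include hu in
/-- Column orthogonality between `u` and `1`, real parts. -/
theorem col_re [Fintype (Cfsg.IrrCharacter G)] :
    ∑ χ : Cfsg.IrrCharacter G, ((χ : G → ℂ) u * conj ((χ : G → ℂ) 1)).re = 0 := by
  classical
  have : Fintype G := Fintype.ofFinite G
  have h := Cfsg.Agent.Lib.Helper3.column_orthogonality u (1 : G)
  have hne : ¬ IsConj u 1 := by
    intro hc
    exact hu (isConj_one_left.mp hc)
  rw [if_neg hne] at h
  have := congrArg Complex.re h
  simpa using this

include hu in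
/-- If all non-principal terms are nonnegative we get a contradiction. -/
theorem false_of_nonneg
    (h : ∀ χ : Cfsg.IrrCharacter G, (χ : G → ℂ) ≠ (fun _ => (1 : ℂ)) →
      0 ≤ ((χ : G → ℂ) u * conj ((χ : G → ℂ) 1)).re) : False := by
  classical
  have : Fintype (Cfsg.IrrCharacter G) := Fintype.ofFinite _
  have hsum := col_re u hu
  have hall : ∀ χ ∈ (Finset.univ : Finset (Cfsg.IrrCharacter G)),
      0 ≤ ((χ : G → ℂ) u * conj ((χ : G → ℂ) 1)).re := by
    intro χ _
    by_cases hχ : (χ : G → ℂ) = fun _ => (1 : ℂ)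
    · rw [hχ]; simp
    · exact h χ hχ
  have h1 := Finset.single_le_sum hall (Finset.mem_univ (lin (1 : G →* ℂˣ)))
  rw [hsum, lin_one_coe] at h1
  simp at h1
  linarith

include hu hyp in
theorem c_ne_zero : c ≠ 0 := by
  rintro rfl
  apply false_of_nonneg u hu
  intro χ hχ
  obtain ⟨n, hn, h1⟩ := irr_one_nat χ
  rcases hyp χ hχ with h | h
  · have : (χ : G → ℂ) u = (n : ℂ) := by
      rw [← h1]; linear_combination -h
    rw [this, h1]
    simp
    positivity
  · rw [h]; simp

include hu hyp in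
/-- Every nontrivial linear character takes the value `-1` at `u`, and `c = 2`. -/
theorem lin_val (φ : G →* ℂˣ) (hφ : φ ≠ 1) : ((φ u : ℂˣ) : ℂ) = -1 ∧ c = 2 := by
  have hc0 := c_ne_zero u hu c hyp
  have hval : ∀ ψ : G →* ℂˣ, ψ ≠ 1 → 1 - ((ψ u : ℂˣ) : ℂ) = c := by
    intro ψ hψ
    rcases hyp (lin ψ) (lin_ne_triv hψ) with h | h
    · simpa [lin_apply] using h
    · exfalso
      rw [lin_apply] at h
      exact (Units.ne_zero (ψ u)) h
  have h1 := hval φ hφ
  have hφu1 : ((φ u : ℂˣ) : ℂ) ≠ 1 := by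
    intro h
    apply hc0
    rw [← h1, h, sub_self]
  have hsq : ((φ u : ℂˣ) : ℂ) ^ 2 = 1 := by
    by_cases hsq1 : φ * φ = 1
    · have := DFunLike.congr_fun hsq1 u
      rw [MonoidHom.mul_apply, MonoidHom.one_apply] at this
      have := congrArg (fun z : ℂˣ => (z : ℂ)) this
      simpa [sq] using this
    · exfalso
      have h2 := hval (φ * φ) hsq1
      rw [MonoidHom.mul_apply, Units.val_mul] at h2
      apply hφu1
      have hne : ((φ u : ℂˣ) : ℂ) ≠ 0 := Units.ne_zero _
      have : ((φ u : ℂˣ) : ℂ) * (((φ u : ℂˣ) : ℂ) - 1) = 0 := by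
        linear_combination h1 - h2
      rcases mul_eq_zero.mp this with h | h
      · exact absurd h hne
      · exact sub_eq_zero.mp h
  have hm1 : ((φ u : ℂˣ) : ℂ) = -1 := by
    have : (((φ u : ℂˣ) : ℂ) - 1) * (((φ u : ℂˣ) : ℂ) + 1) = 0 := by
      linear_combination hsq
    rcases mul_eq_zero.mp this with h | h
    · exact absurd (sub_eq_zero.mp h) hφu1
    · exact eq_neg_of_add_eq_zero_left h
  refine ⟨hm1, ?_⟩
  rw [← h1, hm1]
  norm_num

include hu hyp in
/-- (c) → (b). -/
theorem not_perfect_of_c (hc : c = 2) : commutator G ≠ ⊤ := by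
  intro hperf
  apply false_of_nonneg u hu
  intro χ hχ
  obtain ⟨n, hn, h1⟩ := irr_one_nat χ
  have hn2 : 2 ≤ n := by
    by_contra hlt
    have hn1 : n = 1 := by omega
    rw [hn1, Nat.cast_one] at h1
    apply hχ
    funext g
    have hg : g ∈ commutator G := hperf ▸ Subgroup.mem_top g
    exact isCharacter_one_commutator (Cfsg.Agent.Lib.Helper3.IsIrrCharacter.isCharacter χ.2) h1 hg
  rcases hyp χ hχ with h | h
  · have : (χ : G → ℂ) u = ((n : ℂ) - 2) := by
      rw [← h1, ← hc]; linear_combination -h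
    rw [this, h1]
    have : ((n : ℂ) - 2) * conj (n : ℂ) = (((n : ℝ) - 2) * (n : ℝ) : ℝ) := by
      simp
    rw [this, Complex.ofReal_re]
    have : (2 : ℝ) ≤ n := by exact_mod_cast hn2
    nlinarith
  · rw [h]; simp

include hu hyp in
/-- Any two nontrivial homomorphisms to `ℂˣ` coincide, and they square to one. -/
theorem lin_unique (φ ψ : G →* ℂˣ) (hφ : φ ≠ 1) (hψ : ψ ≠ 1) : φ * ψ = 1 := by
  by_contra hne
  have h1 := (lin_val u hu c hyp φ hφ).1
  have h2 := (lin_val u hu c hyp ψ hψ).1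
  have h3 := (lin_val u hu c hyp (φ * ψ) hne).1
  rw [MonoidHom.mul_apply, Units.val_mul, h1, h2] at h3
  norm_num at h3

/-- (a) → (b). -/
theorem not_perfect_of_a (h2 : orderOf u = 2)
    (hsup : Subgroup.zpowers u ⊔ Cfsg.oddCore G = ⊤) : commutator G ≠ ⊤ := by
  intro hperf
  have hN : (Cfsg.oddCore G).Normal := Subgroup.normal_of_characteristic _
  have hsup' : Cfsg.oddCore G ⊔ Subgroup.zpowers u = ⊤ := by rw [sup_comm]; exact hsup
  have hle : commutator G ≤ Cfsg.oddCore G :=
    Subgroup.Normal.commutator_le_of_self_sup_commutative_eq_top hsup' inferInstance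
  rw [hperf, top_le_iff] at hle
  have hcop : (Nat.card (Cfsg.oddCore G)).Coprime 2 :=
    Cfsg.Agent.Lib.Helper30.pPrimeCore_card_coprime 2
  rw [hle, Subgroup.card_top] at hcop
  have hdvd : 2 ∣ Nat.card G := h2 ▸ orderOf_dvd_natCard u
  have := Nat.Coprime.eq_one_of_dvd hcop.symm hdvd
  omega

include hu hyp in
/-- (b) → (a). -/
theorem a_of_not_perfect (hnp : commutator G ≠ ⊤) :
    orderOf u = 2 ∧ Subgroup.zpowers u ⊔ Cfsg.oddCore G = ⊤ ∧
      Subgroup.centralizer ({u} : Set G) = Subgroup.zpowers u := by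
  classical
  have : Fintype G := Fintype.ofFinite G
  have : Fintype (Cfsg.IrrCharacter G) := Fintype.ofFinite _
  obtain ⟨φ, hφ⟩ := exists_monoidHom_ne_one hnp
  obtain ⟨hφu, hc⟩ := lin_val u hu c hyp φ hφ
  have hφφ : φ * φ = 1 := lin_unique u hu c hyp φ φ hφ hφ
  have hφval : ∀ g : G, ((φ g : ℂˣ) : ℂ) = 1 ∨ ((φ g : ℂˣ) : ℂ) = -1 := by
    intro g
    have := DFunLike.congr_fun hφφ g
    rw [MonoidHom.mul_apply, MonoidHom.one_apply] at this
    have h1 : ((φ g : ℂˣ) : ℂ) * ((φ g : ℂˣ) : ℂ) = 1 := by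
      have := congrArg (fun z : ℂˣ => (z : ℂ)) this
      simpa using this
    have : (((φ g : ℂˣ) : ℂ) - 1) * (((φ g : ℂˣ) : ℂ) + 1) = 0 := by
      linear_combination h1
    rcases mul_eq_zero.mp this with h | h
    · exact Or.inl (sub_eq_zero.mp h)
    · exact Or.inr (eq_neg_of_add_eq_zero_left h)
  -- classification of characters
  have hnonlin : ∀ χ : Cfsg.IrrCharacter G, (χ : G → ℂ) ≠ (fun _ => (1 : ℂ)) → χ ≠ lin φ →
      ∃ n : ℕ, 2 ≤ n ∧ (χ : G → ℂ) 1 = (n : ℂ) := by
    intro χ hχ1 hχ2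
    obtain ⟨n, hn, h1⟩ := irr_one_nat χ
    refine ⟨n, ?_, h1⟩
    by_contra hlt
    have hn1 : n = 1 := by omega
    rw [hn1, Nat.cast_one] at h1
    obtain ⟨ψ, rfl⟩ := irr_linear_of_one χ h1
    by_cases hψ : ψ = 1
    · apply hχ1
      rw [hψ, lin_one_coe]
    · apply hχ2
      have h3 := lin_unique u hu c hyp φ ψ hφ hψ
      have : ψ = φ := by
        have h4 : φ * ψ = φ * φ := by rw [h3, hφφ]
        exact (mul_left_cancel h4)
      rw [this]
  -- all other characters vanish at u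
  have hterm_nonneg : ∀ χ : Cfsg.IrrCharacter G, (χ : G → ℂ) ≠ (fun _ => (1 : ℂ)) → χ ≠ lin φ →
      0 ≤ ((χ : G → ℂ) u * conj ((χ : G → ℂ) 1)).re ∧
      (((χ : G → ℂ) u * conj ((χ : G → ℂ) 1)).re = 0 → (χ : G → ℂ) u = 0) := by
    intro χ hχ1 hχ2
    obtain ⟨n, hn2, h1⟩ := hnonlin χ hχ1 hχ2
    rcases hyp χ hχ1 with h | h
    · have hval : (χ : G → ℂ) u = ((n : ℂ) - 2) := by
        rw [← h1, ← hc]; linear_combination -h
      rw [hval, h1]
      have hre : ((n : ℂ) - 2) * conj (n : ℂ) = (((n : ℝ) - 2) * (n : ℝ) : ℝ) := by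
        simp
      rw [hre, Complex.ofReal_re]
      have h2 : (2 : ℝ) ≤ n := by exact_mod_cast hn2
      refine ⟨by nlinarith, fun h0 => ?_⟩
      have : ((n : ℝ) - 2) = 0 := by
        rcases mul_eq_zero.mp h0 with h | h
        · exact h
        · linarith
      have hn' : (n : ℂ) = 2 := by
        have : (n : ℝ) = 2 := by linarith
        exact_mod_cast this
      rw [hn']; ring
    · rw [h]; simp
  have hvan : ∀ χ : Cfsg.IrrCharacter G, (χ : G → ℂ) ≠ (fun _ => (1 : ℂ)) → χ ≠ lin φ →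
      (χ : G → ℂ) u = 0 := by
    have hsum := col_re u hu
    have hne : lin (1 : G →* ℂˣ) ≠ lin φ := by
      intro h
      apply lin_ne_triv hφ
      rw [← h, lin_one_coe]
    rw [← Finset.add_sum_erase _ _ (Finset.mem_univ (lin (1 : G →* ℂˣ))),
      ← Finset.add_sum_erase _ _ (Finset.mem_erase.mpr ⟨hne.symm, Finset.mem_univ (lin φ)⟩)] at hsum
    have ht1 : ((lin (1 : G →* ℂˣ) : G → ℂ) u * conj ((lin (1 : G →* ℂˣ) : G → ℂ) 1)).re = 1 := by
      rw [lin_one_coe]; simp
    have ht2 : ((lin φ : G → ℂ) u * conj ((lin φ : G → ℂ) 1)).re = -1 := by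
      rw [lin_apply, lin_apply, hφu]; simp
    rw [ht1, ht2] at hsum
    have hrest : ∑ χ ∈ (Finset.univ.erase (lin (1 : G →* ℂˣ))).erase (lin φ),
        ((χ : G → ℂ) u * conj ((χ : G → ℂ) 1)).re = 0 := by linarith
    intro χ hχ1 hχ2
    have hmem : χ ∈ (Finset.univ.erase (lin (1 : G →* ℂˣ))).erase (lin φ) := by
      refine Finset.mem_erase.mpr ⟨hχ2, Finset.mem_erase.mpr ⟨?_, Finset.mem_univ _⟩⟩
      intro h
      apply hχ1
      rw [h, lin_one_coe]
    have hall : ∀ ψ ∈ (Finset.univ.erase (lin (1 : G →* ℂˣ))).erase (lin φ),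
        0 ≤ ((ψ : G → ℂ) u * conj ((ψ : G → ℂ) 1)).re := by
      intro ψ hψ
      have h1 := (Finset.mem_erase.mp hψ).1
      have h2 := (Finset.mem_erase.mp (Finset.mem_erase.mp hψ).2).1
      refine (hterm_nonneg ψ ?_ h1).1
      intro h
      apply h2
      apply Subtype.ext
      rw [h, lin_one_coe]
    have := (Finset.sum_eq_zero_iff_of_nonneg hall).mp hrest χ hmem
    exact (hterm_nonneg χ hχ1 hχ2).2 this
  -- column sums at (u, z) for z with φ z = -1
  have hcol : ∀ z : G, ((φ z : ℂˣ) : ℂ) = -1 →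
      ∑ χ : Cfsg.IrrCharacter G, (χ : G → ℂ) u * conj ((χ : G → ℂ) z) = 2 := by
    intro z hz
    have hne : lin (1 : G →* ℂˣ) ≠ lin φ := by
      intro h
      apply lin_ne_triv hφ
      rw [← h, lin_one_coe]
    rw [← Finset.add_sum_erase _ _ (Finset.mem_univ (lin (1 : G →* ℂˣ))),
      ← Finset.add_sum_erase _ _ (Finset.mem_erase.mpr ⟨hne.symm, Finset.mem_univ (lin φ)⟩)]
    have ht1 : ((lin (1 : G →* ℂˣ) : G → ℂ) u * conj ((lin (1 : G →* ℂˣ) : G → ℂ) z)) = 1 := by
      rw [lin_one_coe]; simp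
    have ht2 : ((lin φ : G → ℂ) u * conj ((lin φ : G → ℂ) z)) = 1 := by
      rw [lin_apply, lin_apply, hφu, hz]; simp
    rw [ht1, ht2]
    have hrest : ∑ χ ∈ (Finset.univ.erase (lin (1 : G →* ℂˣ))).erase (lin φ),
        (χ : G → ℂ) u * conj ((χ : G → ℂ) z) = 0 := by
      apply Finset.sum_eq_zero
      intro ψ hψ
      have h1 := (Finset.mem_erase.mp hψ).1
      have h2 := (Finset.mem_erase.mp (Finset.mem_erase.mp hψ).2).1
      rw [hvan ψ _ h1, zero_mul]
      intro h
      apply h2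
      apply Subtype.ext
      rw [h, lin_one_coe]
    rw [hrest]
    norm_num
  have hconj : ∀ z : G, ((φ z : ℂˣ) : ℂ) = -1 → IsConj u z := by
    intro z hz
    by_contra hne
    have h1 := Cfsg.Agent.Lib.Helper3.column_orthogonality u z
    rw [if_neg hne, hcol z hz] at h1
    norm_num at h1
  -- the centralizer has order two
  have hcent : Nat.card (Subgroup.centralizer ({u} : Set G)) = 2 := by
    have h1 := Cfsg.Agent.Lib.Helper3.column_orthogonality u u
    rw [if_pos (IsConj.refl u), hcol u hφu] at h1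
    have : ((2 : ℕ) : ℂ) = (Nat.card (Subgroup.centralizer ({u} : Set G)) : ℂ) := by
      rw [← h1]; norm_num
    exact (Nat.cast_injective this).symm
  have hzle : Subgroup.zpowers u ≤ Subgroup.centralizer ({u} : Set G) := by
    rw [Subgroup.zpowers_le, Subgroup.mem_centralizer_iff]
    intro x hx
    rw [Set.mem_singleton_iff.mp hx]
  have hord_le : orderOf u ≤ 2 := by
    rw [← Nat.card_zpowers, ← hcent]
    exact Subgroup.card_le_of_le hzle
  have hord : orderOf u = 2 := by
    have h1 : orderOf u ≠ 1 := fun h => hu (orderOf_eq_one_iff.mp h)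
    have h0 : 0 < orderOf u := orderOf_pos u
    omega
  have hcenteq : Subgroup.centralizer ({u} : Set G) = Subgroup.zpowers u := by
    symm
    apply Subgroup.eq_of_le_of_card_ge hzle
    rw [hcent, Nat.card_zpowers, hord]
  refine ⟨hord, ?_, hcenteq⟩
  -- the kernel of φ has odd order
  set K : Subgroup G := φ.ker with hK
  have huK : u ∉ K := by
    intro h
    rw [hK, MonoidHom.mem_ker] at h
    rw [h] at hφu
    norm_num at hφu
  have hinv : ∀ k ∈ K, u * k * u = k⁻¹ := by
    intro k hk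
    rw [hK, MonoidHom.mem_ker] at hk
    have hz : ((φ (u * k) : ℂˣ) : ℂ) = -1 := by
      rw [map_mul, hk, mul_one, hφu]
    have hc' := hconj (u * k) hz
    have hord' : orderOf (u * k) = 2 := by
      obtain ⟨g, hg⟩ := isConj_iff.mp hc'
      rw [← hg, ← MulAut.conj_apply, MulEquiv.orderOf_eq, hord]
    have hsq : (u * k) ^ 2 = 1 := by rw [← hord']; exact pow_orderOf_eq_one _
    have hu2 : u ^ 2 = 1 := by rw [← hord]; exact pow_orderOf_eq_one _
    rw [sq] at hsq hu2
    have : u * k * u = k⁻¹ := by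
      have h1 : u * k * (u * k) = 1 := hsq
      have : u * k * u * k = 1 := by rw [← h1]; group
      exact eq_inv_of_mul_eq_one_left this
    exact this
  have hKodd : (Nat.card K).Coprime 2 := by
    rw [Nat.coprime_two_right, ← Nat.not_even_iff_odd]
    intro heven
    have h2dvd : 2 ∣ Nat.card K := even_iff_two_dvd.mp heven
    obtain ⟨k, hk⟩ := exists_prime_orderOf_dvd_card' (G := K) 2 h2dvd
    have hk2 : (k : G) ^ 2 = 1 := by
      have := pow_orderOf_eq_one k
      rw [hk] at this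
      exact congrArg Subtype.val this
    have hkinv : (k : G)⁻¹ = k := by
      rw [sq] at hk2
      exact inv_eq_of_mul_eq_one_left hk2
    have hcomm : u * k = k * u := by
      have h1 := hinv k k.2
      rw [hkinv] at h1
      have hu2 : u * u = 1 := by
        have : u ^ 2 = 1 := by rw [← hord]; exact pow_orderOf_eq_one _
        rwa [sq] at this
      calc u * k = u * k * (u * u) := by rw [hu2, mul_one]
        _ = (u * k * u) * u := by group
        _ = k * u := by rw [h1]
    have hkc : (k : G) ∈ Subgroup.centralizer ({u} : Set G) := by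
      rw [Subgroup.mem_centralizer_iff]
      intro x hx
      rw [Set.mem_singleton_iff.mp hx]
      exact hcomm
    rw [hcenteq, Subgroup.mem_zpowers_iff] at hkc
    obtain ⟨i, hi⟩ := hkc
    have hk1 : (k : G) ≠ 1 := by
      intro h
      have : k = 1 := Subtype.ext h
      rw [this, orderOf_one] at hk
      omega
    -- u ^ i is 1 or u
    rcases Int.emod_two_eq_zero_or_one i with h0 | h1
    · apply hk1
      rw [← hi]
      have : i = 2 * (i / 2) := by omega
      rw [this, zpow_mul, zpow_ofNat, ← hord, pow_orderOf_eq_one, one_zpow]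
    · apply huK
      have : i = 2 * (i / 2) + 1 := by omega
      have hku : (k : G) = u := by
        rw [← hi, this, zpow_add, zpow_mul, zpow_ofNat, ← hord, pow_orderOf_eq_one, one_zpow,
          one_mul, zpow_one]
      rw [← hku]
      exact k.2
  have hKle : K ≤ Cfsg.oddCore G := Cfsg.Agent.Lib.Helper30.le_pPrimeCore 2 K hKodd
  rw [eq_top_iff]
  intro g _
  rcases hφval g with h1 | h1
  · apply (le_sup_right : Cfsg.oddCore G ≤ _)
    apply hKle
    rw [hK, MonoidHom.mem_ker]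
    exact Units.ext h1
  · have hmem : u⁻¹ * g ∈ K := by
      rw [hK, MonoidHom.mem_ker]
      apply Units.ext
      rw [map_mul, map_inv, Units.val_mul, Units.val_inv_eq_inv_val, hφu, h1]
      norm_num
    have : g = u * (u⁻¹ * g) := by group
    rw [this]
    exact Subgroup.mul_mem _ ((le_sup_left : Subgroup.zpowers u ≤ _) (Subgroup.mem_zpowers u))
      ((le_sup_right : Cfsg.oddCore G ≤ _) (hKle hmem))

end Main

/-- Let u ≠ 1 be an element of the finite group G and c a complex number such that every non-principal irreducible character χ satisfies χ(1) − χ(u) = c or χ(u) = 0. Then the following are equivalent: (a) u has order 2, G is generated by u together with O(G), the largest normal subgroup of G of odd order, and the centralizer of u is {1, u}; (b) G is not perfect; (c) c = 2. -/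
theorem result {G : Type*} [Group G] [Finite G] (u : G) (hu : u ≠ 1) (c : ℂ) (hyp : ∀ χ : Cfsg.IrrCharacter G, (χ : G → ℂ) ≠ (fun _ => (1 : ℂ)) → ((χ : G → ℂ) 1 - (χ : G → ℂ) u = c ∨ (χ : G → ℂ) u = 0)) : ((orderOf u = 2 ∧ Subgroup.zpowers u ⊔ Cfsg.oddCore G = ⊤ ∧ Subgroup.centralizer ({u} : Set G) = Subgroup.zpowers u) ↔ commutator G ≠ ⊤) ∧ (commutator G ≠ ⊤ ↔ c = 2) := by
  refine ⟨⟨fun h => not_perfect_of_a u h.1 h.2.1, fun h => a_of_not_perfect u hu c hyp h⟩,
    ⟨fun h => ?_, fun h => not_perfect_of_c u hu c hyp h⟩⟩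
  obtain ⟨φ, hφ⟩ := exists_monoidHom_ne_one h
  exact (lin_val u hu c hyp φ hφ).2

end Cfsg.Agent.S4757
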