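import Cfsg.Statements.S4763
import Cfsg.Agent.Lib.Helper80.PNilpotentOne
import Cfsg.Agent.S4452
import Cfsg.Agent.Lib.Helper3.Ortho

set_option autoImplicit false
set_option linter.style.haveILetI false
open Cfsg

namespace Cfsg.Agent.S4763

/-- A `p`-group acting by conjugation on a stable subset of cardinality prime to `p` has a fixed
point. -/
theorem exists_fixed_of_stable' {G : Type*} [Group G] {p : ℕ} [Fact p.Prime] (P : Subgroup G)
    (hP : IsPGroup p P) (T : Set G) (hT : ∀ x ∈ P, ∀ t ∈ T, x * t * x⁻¹ ∈ T)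
    (hcard : ¬ p ∣ Nat.card T) : ∃ t ∈ T, ∀ x ∈ P, x * t * x⁻¹ = t := by
  let _ : MulAction P T :=
    { smul := fun x t => ⟨(x : G) * t * (x : G)⁻¹, hT x x.2 t t.2⟩
      one_smul := fun t => by
        apply Subtype.ext
        change ((1 : P) : G) * t * ((1 : P) : G)⁻¹ = t
        simp
      mul_smul := fun x y t => by
        apply Subtype.ext
        change ((x * y : P) : G) * t * ((x * y : P) : G)⁻¹ =
          (x : G) * ((y : G) * t * (y : G)⁻¹) * (x : G)⁻¹
        simp [mul_assoc] }
  obtain ⟨t, ht⟩ := hP.nonempty_fixed_point_of_prime_not_dvd_card T hcard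
  refine ⟨t, t.2, fun x hx => ?_⟩
  exact congrArg Subtype.val (ht ⟨x, hx⟩)


/-- Let p be a prime and G a finite group that is not nilpotent and has a normal p-complement (a normal subgroup of order prime to p and index a power of p). If G has exactly one irreducible complex character of degree divisible by p, then G has exactly one conjugacy class whose size is divisible by p. -/
theorem result {G : Type*} [Group G] [Finite G] (p : ℕ) [Fact p.Prime] (hnil : ¬ Group.IsNilpotent G) (N : Subgroup G) [N.Normal] (hN : (Nat.card N).Coprime p) (hidx : ∃ k : ℕ, N.index = p ^ k) (hone : Nat.card {χ : Cfsg.IrrCharacter G // p ∣ Cfsg.charDegree (χ : G → ℂ)} = 1) : Nat.card {C : ConjClasses G // p ∣ Nat.card C.carrier} = 1 := by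
  classical
  have hp : p.Prime := Fact.out
  have hp0 : 0 < p := hp.pos
  have hNn : N.Normal := inferInstance
  have := Fintype.ofFinite G
  obtain ⟨k, hk⟩ := hidx
  obtain ⟨hsub, ⟨⟨χ₀, hχ₀⟩⟩⟩ := Nat.card_eq_one_iff_unique.mp hone
  have hone' : ∀ χ ψ : Cfsg.IrrCharacter G, p ∣ Cfsg.charDegree (χ : G → ℂ) →
      p ∣ Cfsg.charDegree (ψ : G → ℂ) → χ = ψ := fun χ ψ h1 h2 =>
    congrArg Subtype.val (hsub.elim ⟨χ, h1⟩ ⟨ψ, h2⟩)
  have hcommQ := Cfsg.Agent.Lib.Helper80.quotient_comm_of_one_p_degree p hnil N k hk hone'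
  -- a Sylow p-subgroup
  obtain ⟨P⟩ : Nonempty (Sylow p G) := inferInstance
  obtain ⟨j, hj⟩ := IsPGroup.iff_card.mp P.isPGroup'
  have hcop : (Nat.card N).Coprime (Nat.card (P : Subgroup G)) := by
    rw [hj]
    exact Nat.Coprime.pow_right j hN
  have hdisj : N ⊓ (P : Subgroup G) = ⊥ := by
    apply Subgroup.eq_bot_of_card_eq
    have h1 : Nat.card (N ⊓ (P : Subgroup G) : Subgroup G) ∣ Nat.card N :=
      Subgroup.card_dvd_of_le inf_le_left
    have h2 : Nat.card (N ⊓ (P : Subgroup G) : Subgroup G) ∣ Nat.card (P : Subgroup G) :=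
      Subgroup.card_dvd_of_le inf_le_right
    exact Nat.eq_one_of_dvd_coprimes hcop h1 h2
  have hPidx : ¬ p ∣ (P : Subgroup G).index := P.not_dvd_index
  have hsup : N ⊔ (P : Subgroup G) = ⊤ := by
    rw [← Subgroup.index_eq_one]
    have h1 : (N ⊔ (P : Subgroup G)).index ∣ N.index := Subgroup.index_dvd_of_le le_sup_left
    have h2 : (N ⊔ (P : Subgroup G)).index ∣ (P : Subgroup G).index :=
      Subgroup.index_dvd_of_le le_sup_right
    rw [hk] at h1
    obtain ⟨i, -, hi⟩ := (Nat.dvd_prime_pow hp).1 h1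
    by_contra hne
    apply hPidx
    have hi0 : i ≠ 0 := by
      intro h0
      apply hne
      rw [hi, h0, pow_zero]
    exact dvd_trans (by rw [hi]; exact dvd_pow_self p hi0) h2
  -- P is abelian
  have hPab : ∀ x ∈ (P : Subgroup G), ∀ y ∈ (P : Subgroup G), x * y = y * x := by
    intro x hx y hy
    have h1 : x * y * x⁻¹ * y⁻¹ ∈ N ⊓ (P : Subgroup G) :=
      ⟨hcommQ x y, (P : Subgroup G).mul_mem ((P : Subgroup G).mul_mem
        ((P : Subgroup G).mul_mem hx hy) ((P : Subgroup G).inv_mem hx))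
        ((P : Subgroup G).inv_mem hy)⟩
    rw [hdisj, Subgroup.mem_bot] at h1
    calc x * y = x * y * x⁻¹ * y⁻¹ * (y * x) := by group
      _ = y * x := by rw [h1, one_mul]
  -- the normalizer centralizes P
  set M : Subgroup G := Subgroup.normalizer ((P : Subgroup G) : Set G) with hM
  have hPM : (P : Subgroup G) ≤ M := Subgroup.le_normalizer
  have hMC : ∀ x ∈ M, ∀ t ∈ (P : Subgroup G), x * t = t * x := by
    intro x hx t ht
    have hx' : x ∈ N ⊔ (P : Subgroup G) := by rw [hsup]; exact Subgroup.mem_top x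
    obtain ⟨n, hn, y, hy, rfl⟩ := Subgroup.mem_sup_of_normal_left.mp hx'
    have hnM : n ∈ M := by
      have h1 : n = n * y * y⁻¹ := by group
      rw [h1]
      exact M.mul_mem hx (M.inv_mem (hPM hy))
    have hc : n * t * n⁻¹ * t⁻¹ ∈ N ⊓ (P : Subgroup G) := by
      constructor
      · have h1 : n * t * n⁻¹ * t⁻¹ = n * (t * n⁻¹ * t⁻¹) := by group
        rw [h1]
        exact N.mul_mem hn (hNn.conj_mem n⁻¹ (N.inv_mem hn) t)
      · exact (P : Subgroup G).mul_mem ((Subgroup.mem_normalizer_iff.mp hnM t).mp ht)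
          ((P : Subgroup G).inv_mem ht)
    rw [hdisj, Subgroup.mem_bot] at hc
    have hnt : n * t = t * n := by
      calc n * t = n * t * n⁻¹ * t⁻¹ * (t * n) := by group
        _ = t * n := by rw [hc, one_mul]
    calc n * y * t = n * (y * t) := by group
      _ = n * (t * y) := by rw [hPab y hy t ht]
      _ = (n * t) * y := by group
      _ = t * n * y := by rw [hnt]
      _ = t * (n * y) := by group
  have hMcent : ∀ x ∈ M, x ∈ Subgroup.centralizer ((P : Subgroup G) : Set G) := by
    intro x hx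
    rw [Subgroup.mem_centralizer_iff]
    intro t ht
    exact (hMC x hx t ht).symm
  -- p divides the order of G
  have hpG : p ∣ Nat.card G := by
    obtain ⟨n, hn1, hndvd, -⟩ := Cfsg.Agent.Lib.Helper3.IsIrrCharacter.apply_one_dvd_card χ₀.2
    have h1 : Cfsg.charDegree (χ₀ : G → ℂ) = n := by
      have h2 := Cfsg.Agent.Lib.Helper80.irr_charDegree_cast χ₀
      rw [hn1] at h2
      exact_mod_cast h2
    rw [h1] at hχ₀
    exact dvd_trans hχ₀ hndvd
  have hj0 : 0 < j := by
    rcases Nat.eq_zero_or_pos j with h0 | h0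
    · exfalso
      apply P.ne_bot_of_dvd_card hpG
      apply Subgroup.eq_bot_of_card_eq
      rw [hj, h0, pow_zero]
    · exact h0
  have hcopiff : ∀ d : ℕ, d.Coprime (Nat.card (P : Subgroup G)) ↔ ¬ p ∣ d := by
    intro d
    rw [hj, Nat.coprime_pow_right_iff hj0, Nat.coprime_comm, Nat.Prime.coprime_iff_not_dvd hp]
  -- characters
  have hsolv : Group.IsSolvable (P : Subgroup G) := by
    haveI : Group.IsNilpotent (P : Subgroup G) := P.isPGroup'.isNilpotent
    exact IsNilpotent.to_isSolvable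
  have h4 := Cfsg.Agent.S4452.result N (P : Subgroup G) hsup hcop hsolv
  have h4a : Nat.card {χ : Cfsg.IrrCharacter G // ¬ p ∣ Cfsg.charDegree (χ : G → ℂ)} =
      Nat.card {χ : Cfsg.IrrCharacter G //
        (Cfsg.charDegree (χ : G → ℂ)).Coprime (Nat.card (P : Subgroup G))} :=
    Nat.card_congr (Equiv.subtypeEquivRight (fun χ => (hcopiff _).symm))
  have := Fintype.ofFinite M
  have hMdeg : ∀ η : Cfsg.IrrCharacter M, ¬ p ∣ Cfsg.charDegree (η : M → ℂ) := by
    intro η
    haveI : ((P : Subgroup G).subgroupOf M).Normal := Subgroup.normal_in_normalizer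
    have hcomm : ∀ a ∈ (P : Subgroup G).subgroupOf M, ∀ b ∈ (P : Subgroup G).subgroupOf M,
        a * b = b * a := by
      intro a ha b hb
      apply Subtype.ext
      rw [Subgroup.coe_mul, Subgroup.coe_mul]
      exact hPab _ (Subgroup.mem_subgroupOf.mp ha) _ (Subgroup.mem_subgroupOf.mp hb)
    have h1 := Cfsg.Agent.Lib.Helper79.ito_aux _ M rfl ((P : Subgroup G).subgroupOf M) hcomm
      (η : M → ℂ) η.2 _ (Cfsg.Agent.Lib.Helper80.irr_charDegree_cast η).symm
    have h2 : ((P : Subgroup G).subgroupOf M).index ∣ (P : Subgroup G).index := by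
      have h3 := Subgroup.relIndex_mul_index hPM
      exact Dvd.intro _ h3
    intro hdvd
    exact hPidx (dvd_trans hdvd (dvd_trans h1 h2))
  have h5 : Nat.card {η : Cfsg.IrrCharacter M //
      (Cfsg.charDegree (η : M → ℂ)).Coprime (Nat.card (P : Subgroup G))} =
      Nat.card (Cfsg.IrrCharacter M) :=
    Nat.card_congr (Equiv.subtypeUnivEquiv (fun η => (hcopiff _).mpr (hMdeg η)))
  haveI : Finite (Cfsg.IrrCharacter G) := Cfsg.Agent.Lib.Helper3.irrCharacter_finite
  have hIrr : Nat.card (Cfsg.IrrCharacter G) =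
      1 + Nat.card {χ : Cfsg.IrrCharacter G // ¬ p ∣ Cfsg.charDegree (χ : G → ℂ)} := by
    rw [← hone, ← Nat.card_sum]
    exact Nat.card_congr
      (Equiv.sumCompl (fun χ : Cfsg.IrrCharacter G => p ∣ Cfsg.charDegree (χ : G → ℂ))).symm
  -- classes
  have hclsplit : Nat.card (ConjClasses G) =
      Nat.card {C : ConjClasses G // p ∣ Nat.card C.carrier} +
      Nat.card {C : ConjClasses G // ¬ p ∣ Nat.card C.carrier} := by
    rw [← Nat.card_sum]
    exact Nat.card_congr
      (Equiv.sumCompl (fun C : ConjClasses G => p ∣ Nat.card C.carrier)).symm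
  have hfwd : ∀ c : ConjClasses M, ¬ p ∣ Nat.card (ConjClasses.map M.subtype c).carrier := by
    intro c
    obtain ⟨m, rfl⟩ := ConjClasses.exists_rep c
    show ¬ p ∣ Nat.card (ConjClasses.mk (m : G)).carrier
    rw [← Cfsg.Agent.Lib.Helper69.index_centralizer_eq_card_carrier]
    have h1 : (P : Subgroup G) ≤ Subgroup.centralizer ({(m : G)} : Set G) := by
      intro t ht
      rw [Subgroup.mem_centralizer_singleton_iff]
      exact (hMC m m.2 t ht).symm
    intro hdvd
    exact hPidx (dvd_trans hdvd (Subgroup.index_dvd_of_le h1))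
  have h6 : Nat.card (ConjClasses M) =
      Nat.card {C : ConjClasses G // ¬ p ∣ Nat.card C.carrier} := by
    apply Nat.card_congr
    refine Equiv.ofBijective (fun c => ⟨ConjClasses.map M.subtype c, hfwd c⟩) ⟨?_, ?_⟩
    · intro c c' hcc
      obtain ⟨m, rfl⟩ := ConjClasses.exists_rep c
      obtain ⟨m', rfl⟩ := ConjClasses.exists_rep c'
      have h1 : ConjClasses.mk (m : G) = ConjClasses.mk (m' : G) := congrArg Subtype.val hcc
      rw [ConjClasses.mk_eq_mk_iff_isConj, isConj_iff] at h1
      obtain ⟨g, hg⟩ := h1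
      have h2 := Sylow.conj_eq_normalizer_conj_of_mem_centralizer P (m : G) g⁻¹
        (hMcent m m.2) (by
          rw [inv_inv, hg]
          exact hMcent m' m'.2)
      obtain ⟨n, hn, hn2⟩ := h2
      rw [inv_inv, hg] at hn2
      rw [ConjClasses.mk_eq_mk_iff_isConj, isConj_iff]
      refine ⟨⟨n⁻¹, M.inv_mem hn⟩, ?_⟩
      apply Subtype.ext
      rw [Subgroup.coe_mul, Subgroup.coe_mul, Subgroup.coe_inv, inv_inv]
      exact hn2.symm
    · rintro ⟨C, hC⟩
      obtain ⟨t, ht, htfix⟩ := exists_fixed_of_stable' (P : Subgroup G) P.isPGroup' C.carrier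
        (by
          intro x _ t ht
          rw [ConjClasses.mem_carrier_iff_mk_eq] at ht ⊢
          rw [← ht, ConjClasses.mk_eq_mk_iff_isConj, isConj_iff]
          exact ⟨x⁻¹, by group⟩) hC
      have htM : t ∈ M := by
        apply Subgroup.centralizer_le_normalizer
        rw [Subgroup.mem_centralizer_iff]
        intro x hx
        have := htfix x hx
        calc x * t = x * t * x⁻¹ * x := by group
          _ = t * x := by rw [this]
      refine ⟨ConjClasses.mk ⟨t, htM⟩, ?_⟩
      apply Subtype.ext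
      show ConjClasses.mk t = C
      exact ConjClasses.mem_carrier_iff_mk_eq.mp ht
  have h7 := Cfsg.Agent.Lib.Helper3.card_irrCharacter (G := G)
  have h8 := Cfsg.Agent.Lib.Helper3.card_irrCharacter (G := M)
  have e1 : Nat.card {χ : Cfsg.IrrCharacter G // ¬ p ∣ Cfsg.charDegree (χ : G → ℂ)} =
      Nat.card (ConjClasses M) := by
    rw [h4a, h4, h5, h8]
  rw [h7, hclsplit, e1, h6] at hIrr
  omega

end Cfsg.Agent.S4763
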