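import Cfsg.Statements.S4768
import Cfsg.Agent.Lib.Helper80.PSingular
import Cfsg.Agent.Lib.Helper79.KGV2

set_option autoImplicit false
set_option linter.style.haveILetI false
open Cfsg

namespace Cfsg.Agent.S4768

universe u

theorem derived_injective {A B : Type*} [Group A] [Group B] (f : A →* B)
    (hf : Function.Injective f) (k : ℕ) (h : derivedSeries B k = ⊥) : derivedSeries A k = ⊥ := by
  have h1 := map_derivedSeries_le_derivedSeries f k
  rw [h, le_bot_iff] at h1
  exact (Subgroup.map_eq_bot_iff_of_injective _ hf).mp h1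

theorem derived_of_ker_comm {A B : Type*} [Group A] [Group B] (f : A →* B)
    (hker : ∀ a ∈ f.ker, ∀ b ∈ f.ker, a * b = b * a) (k : ℕ) (h : derivedSeries B k = ⊥) :
    derivedSeries A (k + 1) = ⊥ := by
  have h1 := map_derivedSeries_le_derivedSeries f k
  rw [h, le_bot_iff] at h1
  have h2 : derivedSeries A k ≤ f.ker := by
    intro x hx
    rw [MonoidHom.mem_ker]
    have h3 : f x ∈ (derivedSeries A k).map f := Subgroup.mem_map_of_mem f hx
    rw [h1] at h3
    exact Subgroup.mem_bot.mp h3
  rw [derivedSeries_succ, eq_bot_iff, Subgroup.commutator_le]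
  intro a ha b hb
  rw [Subgroup.mem_bot, commutatorElement_eq_one_iff_mul_comm]
  exact hker a (h2 ha) b (h2 hb)

theorem derived_mono {A : Type*} [Group A] {k k' : ℕ} (hk : k ≤ k')
    (h : derivedSeries A k = ⊥) : derivedSeries A k' = ⊥ :=
  eq_bot_iff.mpr (h ▸ derivedSeries_antitone A hk)

theorem derived_one_of_comm {A : Type*} [Group A] (h : ∀ a b : A, a * b = b * a) :
    derivedSeries A 1 = ⊥ := by
  rw [derivedSeries_succ, eq_bot_iff, Subgroup.commutator_le]
  intro a _ b _
  rw [Subgroup.mem_bot, commutatorElement_eq_one_iff_mul_comm]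
  exact h a b

/-- The number of `p`-singular irreducible characters. -/
noncomputable def nsing (p : ℕ) (G : Type u) [Group G] : ℕ :=
  Nat.card {χ : Cfsg.IrrCharacter G // p ∣ Cfsg.charDegree (χ : G → ℂ)}

/-- Inflation on `p`-singular characters. -/
noncomputable def inflSing (p : ℕ) {G : Type u} [Group G] (N : Subgroup G) [N.Normal] :
    {ψ : Cfsg.IrrCharacter (G ⧸ N) // p ∣ Cfsg.charDegree (ψ : G ⧸ N → ℂ)} →
      {χ : Cfsg.IrrCharacter G // p ∣ Cfsg.charDegree (χ : G → ℂ)} :=
  fun ψ => ⟨Cfsg.Agent.Lib.Helper79.inflIrr N ψ.1, ψ.2⟩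

theorem inflSing_injective (p : ℕ) {G : Type u} [Group G] (N : Subgroup G) [N.Normal] :
    Function.Injective (inflSing p N) := by
  intro a b hab
  apply Subtype.ext
  apply Cfsg.Agent.Lib.Helper79.inflIrr_injective N
  exact congrArg Subtype.val hab

theorem nsing_quotient_le (p : ℕ) {G : Type u} [Group G] [Finite G] (N : Subgroup G) [N.Normal] :
    nsing p (G ⧸ N) ≤ nsing p G := by
  haveI : Finite (Cfsg.IrrCharacter G) := Cfsg.Agent.Lib.Helper3.irrCharacter_finite
  exact Nat.card_le_card_of_injective _ (inflSing_injective p N)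

theorem nsing_quotient_lt (p : ℕ) {G : Type u} [Group G] [Finite G] (N : Subgroup G) [N.Normal]
    (χ : Cfsg.IrrCharacter G) (hχ : p ∣ Cfsg.charDegree (χ : G → ℂ))
    (hx : ∃ x ∈ N, (χ : G → ℂ) x ≠ (χ : G → ℂ) 1) : nsing p (G ⧸ N) < nsing p G := by
  classical
  haveI : Finite (Cfsg.IrrCharacter G) := Cfsg.Agent.Lib.Helper3.irrCharacter_finite
  haveI : Finite (Cfsg.IrrCharacter (G ⧸ N)) := Cfsg.Agent.Lib.Helper3.irrCharacter_finite
  have := Fintype.ofFinite {ψ : Cfsg.IrrCharacter (G ⧸ N) // p ∣ Cfsg.charDegree (ψ : G ⧸ N → ℂ)}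
  have := Fintype.ofFinite {χ : Cfsg.IrrCharacter G // p ∣ Cfsg.charDegree (χ : G → ℂ)}
  unfold nsing
  rw [Nat.card_eq_fintype_card, Nat.card_eq_fintype_card]
  apply Fintype.card_lt_of_injective_of_notMem (inflSing p N) (inflSing_injective p N)
    (b := ⟨χ, hχ⟩)
  rintro ⟨ψ, hψ⟩
  obtain ⟨x, hxN, hxne⟩ := hx
  apply hxne
  have h1 : (χ : G → ℂ) = fun g : G => (ψ.1 : G ⧸ N → ℂ) (g : G ⧸ N) :=
    (congrArg (fun c => (c.1 : G → ℂ)) hψ).symm
  rw [h1]
  have h2 : ((x : G) : G ⧸ N) = 1 := (QuotientGroup.eq_one_iff _).mpr hxN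
  show (ψ.1 : G ⧸ N → ℂ) (x : G ⧸ N) = (ψ.1 : G ⧸ N → ℂ) ((1 : G) : G ⧸ N)
  rw [h2]
  rfl

theorem main (p : ℕ) [Fact p.Prime] : ∀ (n : ℕ) (G : Type u) [Group G] [Finite G],
    Nat.card G = n → Cfsg.IsPSolvable p G → ∀ H : Subgroup G, IsPGroup p H →
      derivedSeries ↥H (nsing p G + 1) = ⊥ := by
  intro n
  induction n using Nat.strong_induction_on with
  | _ n ih =>
  intro G _ _ hcard hG H hH
  classical
  have hp : p.Prime := Fact.out
  haveI : Finite (Cfsg.IrrCharacter G) := Cfsg.Agent.Lib.Helper3.irrCharacter_finite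
  rcases Nat.eq_zero_or_pos (nsing p G) with hk0 | hkpos
  · -- all degrees prime to `p`: Itô–Michler
    have hall : ∀ χ : Cfsg.IrrCharacter G, ¬ p ∣ Cfsg.charDegree (χ : G → ℂ) := by
      intro χ hχ
      haveI : Nonempty {χ : Cfsg.IrrCharacter G // p ∣ Cfsg.charDegree (χ : G → ℂ)} := ⟨⟨χ, hχ⟩⟩
      have h1 : 0 < nsing p G := Nat.card_pos
      omega
    obtain ⟨Q, hQ⟩ := hH.exists_le_sylow
    have hab := ((Cfsg.Agent.S4713.result p hG Q).mpr hall).2
    rw [hk0]
    apply derived_one_of_comm
    intro a b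
    apply Subtype.ext
    have h1 := hab.is_comm.comm ⟨a, hQ a.2⟩ ⟨b, hQ b.2⟩
    exact congrArg (fun c : ↥(Q : Subgroup G) => (c : G)) h1
  · by_cases hnt : Nontrivial G
    · obtain ⟨N, hNn, hN1, hNcase⟩ := Cfsg.Agent.Lib.Helper76.exists_normal_of_isPSolvable hG
      haveI := hNn
      -- a general step: passing to the quotient by a normal subgroup `M ≠ ⊥`
      have hquot : ∀ M : Subgroup G, ∀ _ : M.Normal, M ≠ ⊥ →
          derivedSeries ↥(H.map (QuotientGroup.mk' M)) (nsing p (G ⧸ M) + 1) = ⊥ := by
        intro M hMn hM1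
        haveI := hMn
        have hlt : Nat.card (G ⧸ M) < n := by
          rw [← hcard, Subgroup.card_eq_card_quotient_mul_card_subgroup M]
          have h1 : 1 < Nat.card M := (Subgroup.one_lt_card_iff_ne_bot M).mpr hM1
          have h2 : 0 < Nat.card (G ⧸ M) := Nat.card_pos
          nlinarith
        exact ih _ hlt (G ⧸ M) rfl (Cfsg.Agent.Lib.Helper76.isPSolvable_quotient M hG) _
          (hH.map _)
      have hker : ∀ M : Subgroup G, ∀ _ : M.Normal,
          ∀ a ∈ ((QuotientGroup.mk' M).subgroupMap H).ker, (a : G) ∈ M := by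
        intro M hMn a ha
        haveI := hMn
        rw [MonoidHom.mem_ker] at ha
        have h1 := congrArg Subtype.val ha
        exact (QuotientGroup.eq_one_iff _).mp h1
      rcases hNcase with hNp | hNp'
      · -- `N` is a `p`-group: use its centre
        haveI : Nontrivial N := (Subgroup.nontrivial_iff_ne_bot N).mpr hN1
        haveI : Finite N := inferInstance
        set N₁ : Subgroup G := (Subgroup.center N).map N.subtype with hN₁
        haveI hN₁n : N₁.Normal := by
          rw [hN₁]
          infer_instance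
        have hN₁le : N₁ ≤ N := Subgroup.map_subtype_le _
        have hN₁p : IsPGroup p N₁ := hNp.to_le hN₁le
        have hN₁1 : N₁ ≠ ⊥ := by
          haveI : Nontrivial (Subgroup.center N) := hNp.center_nontrivial
          rw [hN₁, Ne, Subgroup.map_eq_bot_iff_of_injective _ N.subtype_injective]
          exact (Subgroup.nontrivial_iff_ne_bot _).mp inferInstance
        have hN₁ab : ∀ a ∈ N₁, ∀ b ∈ N₁, a * b = b * a := by
          rintro _ ⟨a, ha, rfl⟩ _ ⟨b, hb, rfl⟩
          have h1 := Subgroup.mem_center_iff.mp ha b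
          have h2 := congrArg Subtype.val h1
          simpa using h2.symm
        by_cases hex : ∃ χ : Cfsg.IrrCharacter G, p ∣ Cfsg.charDegree (χ : G → ℂ) ∧
            ∃ x ∈ N₁, (χ : G → ℂ) x ≠ (χ : G → ℂ) 1
        · obtain ⟨χ, hχp, hχx⟩ := hex
          have hlt := nsing_quotient_lt p N₁ χ hχp hχx
          have h1 := hquot N₁ hN₁n hN₁1
          have h2 := derived_of_ker_comm ((QuotientGroup.mk' N₁).subgroupMap H) (by
            intro a ha b hb
            apply Subtype.ext
            exact hN₁ab _ (hker N₁ hN₁n a ha) _ (hker N₁ hN₁n b hb)) _ h1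
          exact derived_mono (by omega) h2
        · push Not at hex
          obtain ⟨Q, hQ⟩ := hH.exists_le_sylow
          have hcomm := Cfsg.Agent.Lib.Helper80.comm_mem_of_psingular_kernel p hG N₁ hN₁p hN₁1
            hex Q
          have h1 : derivedSeries ↥(H.map (QuotientGroup.mk' N₁)) 1 = ⊥ := by
            apply derived_one_of_comm
            rintro ⟨_, a, ha, rfl⟩ ⟨_, b, hb, rfl⟩
            apply Subtype.ext
            show (QuotientGroup.mk' N₁) a * (QuotientGroup.mk' N₁) b =
              (QuotientGroup.mk' N₁) b * (QuotientGroup.mk' N₁) a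
            have h3 := hcomm a (hQ ha) b (hQ hb)
            have h4 : (QuotientGroup.mk' N₁) (a * b * a⁻¹ * b⁻¹) = 1 :=
              (QuotientGroup.eq_one_iff _).mpr h3
            rw [map_mul, map_mul, map_mul, map_inv, map_inv] at h4
            calc (QuotientGroup.mk' N₁) a * (QuotientGroup.mk' N₁) b
                = ((QuotientGroup.mk' N₁) a * (QuotientGroup.mk' N₁) b *
                  ((QuotientGroup.mk' N₁) a)⁻¹ * ((QuotientGroup.mk' N₁) b)⁻¹) *
                  ((QuotientGroup.mk' N₁) b * (QuotientGroup.mk' N₁) a) := by group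
              _ = (QuotientGroup.mk' N₁) b * (QuotientGroup.mk' N₁) a := by rw [h4, one_mul]
          have h2 := derived_of_ker_comm ((QuotientGroup.mk' N₁).subgroupMap H) (by
            intro a ha b hb
            apply Subtype.ext
            exact hN₁ab _ (hker N₁ hN₁n a ha) _ (hker N₁ hN₁n b hb)) _ h1
          exact derived_mono (by omega) h2
      · -- `N` is a `p'`-group
        have h1 := hquot N hNn hN1
        have hle := nsing_quotient_le p N
        have hinj : Function.Injective ((QuotientGroup.mk' N).subgroupMap H) := by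
          rw [injective_iff_map_eq_one]
          intro a ha
          have haN : (a : G) ∈ N := hker N hNn a (MonoidHom.mem_ker.mpr ha)
          have h3 : orderOf (a : G) ∣ Nat.card N := by
            have := orderOf_dvd_natCard (⟨(a : G), haN⟩ : N)
            rwa [Subgroup.orderOf_mk] at this
          obtain ⟨k, hk⟩ := hH a
          have h4 : orderOf (a : G) ∣ p ^ k := by
            apply orderOf_dvd_of_pow_eq_one
            have := congrArg Subtype.val hk
            simpa using this
          have h5 : orderOf (a : G) = 1 :=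
            Nat.eq_one_of_dvd_coprimes (Nat.Coprime.pow_right k hNp') h3 h4
          apply Subtype.ext
          exact orderOf_eq_one_iff.mp h5
        have h2 := derived_injective _ hinj _ h1
        exact derived_mono (by omega) h2
    · rw [not_nontrivial_iff_subsingleton] at hnt
      haveI := hnt
      haveI : Subsingleton (Subgroup ↥H) := inferInstance
      exact Subsingleton.elim _ _

/-- Let p be a prime, G a finite p-solvable group and P a Sylow p-subgroup of G. If n is the number of irreducible complex characters of G whose degree is divisible by p, then the (n+1)-st term of the derived series of P is trivial. (The p-solvable case has a direct inductive proof.) -/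
theorem result {G : Type*} [Group G] [Finite G] (p : ℕ) [Fact p.Prime] (hG : Cfsg.IsPSolvable p G) (P : Sylow p G) : derivedSeries ↥(P : Subgroup G) (Nat.card {χ : Cfsg.IrrCharacter G // p ∣ Cfsg.charDegree (χ : G → ℂ)} + 1) = ⊥ := by
  exact main p _ G rfl hG (P : Subgroup G) P.isPGroup'

end Cfsg.Agent.S4768
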