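import Cfsg.Statements.S4774
import Cfsg.Agent.Lib.Helper38.PSL2DegreeGraphOdd

set_option autoImplicit false
open Cfsg

namespace Cfsg.Agent.S4774

/-- Let F be a finite field of odd characteristic t with q > 5 elements and let S be isomorphic to PSL(2,F) or to SL(2,F). Then the vertices of the character degree graph of S are the primes dividing q(q²−1); the prime t is adjacent to no vertex; two distinct primes dividing q² − 1 are adjacent exactly when one of them is 2, or both divide q + 1, or both divide q − 1. -/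
theorem result (F : Type*) [Field F] [Fintype F] (t : ℕ) [Fact t.Prime] [CharP F t] (ht : t ≠ 2) (q : ℕ) (hq : Fintype.card F = q) (h5 : 5 < q) {S : Type*} [Group S] [Finite S] (hS : Nonempty (S ≃* Matrix.ProjectiveSpecialLinearGroup (Fin 2) F) ∨ Nonempty (S ≃* Matrix.SpecialLinearGroup (Fin 2) F)) : Cfsg.degreePrimes S = {r : ℕ | r.Prime ∧ r ∣ q * (q ^ 2 - 1)} ∧ ∀ r s : ℕ, (Cfsg.degreeGraph S).Adj r s ↔ (r ≠ s ∧ r.Prime ∧ s.Prime ∧ r ∣ q ^ 2 - 1 ∧ s ∣ q ^ 2 - 1 ∧ (r = 2 ∨ s = 2 ∨ (r ∣ q + 1 ∧ s ∣ q + 1) ∨ (r ∣ q - 1 ∧ s ∣ q - 1))) := by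
  classical
  obtain ⟨n, -, hn⟩ := FiniteField.card F t
  have htodd : Odd t := Nat.Prime.odd_of_ne_two (Fact.out : t.Prime) ht
  have hqodd : Odd (Fintype.card F) := by
    rw [hn]; exact htodd.pow
  obtain ⟨k, hk⟩ := hqodd
  subst hq
  have hk3 : 3 ≤ k := by omega
  have hsubSL := Cfsg.Agent.Lib.Helper38.charDegrees_SL2_odd_subset hk
  have hmem := Cfsg.Agent.Lib.Helper38.mem_charDegrees_PSL2_odd hk hk3
  have hPS := Cfsg.Agent.Lib.Helper38.charDegrees_PSL2_subset (F := F)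
  rw [hk]
  rcases hS with h | h
  · obtain ⟨e⟩ := h
    have hc := Cfsg.Agent.Lib.Helper38.charDegrees_congr e
    exact Cfsg.Agent.Lib.Helper38.degreeGraph_odd t (n : ℕ) k (Fact.out : t.Prime)
      (by rw [← hk, hn]) (by rw [hc]; exact hPS.trans hsubSL) (by rw [hc]; exact hmem.1)
      (by rw [hc]; exact hmem.2.1) (by rw [hc]; exact hmem.2.2)
  · obtain ⟨e⟩ := h
    have hc := Cfsg.Agent.Lib.Helper38.charDegrees_congr e
    exact Cfsg.Agent.Lib.Helper38.degreeGraph_odd t (n : ℕ) k (Fact.out : t.Prime)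
      (by rw [← hk, hn]) (by rw [hc]; exact hsubSL) (by rw [hc]; exact hPS hmem.1)
      (by rw [hc]; exact hPS hmem.2.1) (by rw [hc]; exact hPS hmem.2.2)

end Cfsg.Agent.S4774
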