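import Cfsg.Statements.S4796
import Cfsg.Agent.Lib.Helper79.Abelian
import Cfsg.Agent.Lib.Helper79.GroupLemmas
import Cfsg.Agent.Lib.Helper79.Frobenius

set_option autoImplicit false
open Cfsg

namespace Cfsg.Agent.S4796

open Cfsg.Agent.Lib.Helper79

/-- Let G be a finite group with a faithful irreducible complex character χ whose codegree #G / χ(1) is a prime p (for a faithful character the kernel is trivial, so the codegree is #G / χ(1)). Then either G is cyclic of order p, or G is a Frobenius group whose Frobenius kernel has order p: some proper non-trivial subgroup H satisfies H ∩ gHg⁻¹ = 1 for every element g outside H, and the set of elements lying in no conjugate of H, together with the identity, has exactly p elements. -/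
theorem result {G : Type*} [Group G] [Finite G] (χ : Cfsg.IrrCharacter G) (hfaith : ∀ g : G, (χ : G → ℂ) g = (χ : G → ℂ) 1 → g = 1) (p : ℕ) (hp : p.Prime) (hcod : Nat.card G = p * Cfsg.charDegree (χ : G → ℂ)) : (IsCyclic G ∧ Nat.card G = p) ∨ ∃ H : Subgroup G, Cfsg.IsFrobeniusComplement H ∧ Nat.card ↥(Cfsg.frobeniusKernel H) = p := by
  classical
  obtain ⟨χ, n, ρ, hirr, rfl⟩ := χ
  simp only at hfaith hcod
  rw [charDegree_rep] at hcod
  have : Fintype G := Fintype.ofFinite G
  have : Fact p.Prime := ⟨hp⟩
  have hn : 0 < n := by
    have := Cfsg.Agent.Lib.Helper80.finrank_pos_of_irreducible ρ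
    simpa using this
  have hsq : n ^ 2 ≤ Nat.card G := by
    have := finrank_sq_le_card ρ
    simpa using this
  have hnp : n ≤ p := by
    rw [hcod] at hsq
    have : n * n ≤ n * p := by rw [← sq, mul_comm n p]; exact hsq
    exact Nat.le_of_mul_le_mul_left this hn
  have hab : ∀ A : Subgroup G, IsMulCommutative A → Nat.card A ≤ p := by
    intro A hA
    have := card_comm_subgroup_mul_degree_le ρ hirr A
    rw [hcod] at this
    exact Nat.le_of_mul_le_mul_right this hn
  rcases Nat.lt_or_ge n p with hlt | hge
  · rcases Nat.lt_or_ge 1 n with h1n | hn1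
    · -- the Frobenius case
      right
      obtain ⟨P⟩ : Nonempty (Sylow p G) := inferInstance
      obtain ⟨hnormal, hPcard, hidx⟩ := sylow_normal_of_card_eq_prime_mul p n hn hlt hcod P
      have hcop : Nat.Coprime (Nat.card (P : Subgroup G)) (P : Subgroup G).index := by
        rw [hPcard, hidx]
        exact (Nat.Prime.coprime_iff_not_dvd hp).mpr (fun h => by
          have := Nat.le_of_dvd hn h
          omega)
      have := hnormal
      obtain ⟨H, hc⟩ := Subgroup.exists_left_complement'_of_coprime hcop
      have hHcard : Nat.card H = n := by
        have := hc.card_mul_card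
        rw [hPcard, hcod, mul_comm] at this
        exact Nat.eq_of_mul_eq_mul_left hp.pos this
      have hHne : H ≠ ⊥ := by
        rintro rfl
        rw [Subgroup.card_bot] at hHcard
        omega
      have hPne : (P : Subgroup G) ≠ ⊥ := by
        intro h
        rw [h, Subgroup.card_bot] at hPcard
        exact hp.one_lt.ne hPcard
      have hdisj : ∀ z : G, z ∈ H → z ∈ (P : Subgroup G) → z = 1 := by
        intro z hzH hzP
        have := hc.disjoint
        rw [Subgroup.disjoint_def] at this
        exact this hzH hzP
      have hfpf : ∀ h ∈ H, h ≠ 1 → ∀ x ∈ (P : Subgroup G), x ≠ 1 → h * x ≠ x * h := by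
        intro h hh h1 x hx x1 hcomm
        have hcommA : IsMulCommutative (Subgroup.closure ({x, h} : Set G)) := by
          apply Subgroup.isMulCommutative_closure
          intro a ha b hb
          simp only [Set.mem_insert_iff, Set.mem_singleton_iff] at ha hb
          rcases ha with rfl | rfl <;> rcases hb with rfl | rfl
          · rfl
          · exact hcomm.symm
          · exact hcomm
          · rfl
        have hA := hab _ hcommA
        have hxord : orderOf x = p := by
          apply orderOf_eq_prime _ x1
          have := pow_card_eq_one' (G := (P : Subgroup G)) (x := ⟨x, hx⟩)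
          rw [hPcard] at this
          exact congrArg Subtype.val this
        have hzle : Subgroup.zpowers x ≤ Subgroup.closure ({x, h} : Set G) := by
          rw [Subgroup.zpowers_le]
          exact Subgroup.subset_closure (by simp)
        have hzcard : Nat.card (Subgroup.zpowers x) = p := by
          rw [Nat.card_zpowers, hxord]
        have heq := Subgroup.eq_of_le_of_card_ge hzle (by rw [hzcard]; exact hA)
        have hhmem : h ∈ Subgroup.zpowers x := by
          rw [heq]
          exact Subgroup.subset_closure (by simp)
        have hhP : h ∈ (P : Subgroup G) := (Subgroup.zpowers_le.mpr hx) hhmem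
        exact h1 (hdisj h hh hhP)
      obtain ⟨hfrob, hker⟩ := frobenius_of_fpf (P : Subgroup G) H hPne hHne hc hfpf
      refine ⟨H, hfrob, ?_⟩
      rw [hker]
      exact hPcard
    · left
      have hn1' : n = 1 := by omega
      rw [hn1', mul_one] at hcod
      exact ⟨isCyclic_of_prime_card hcod, hcod⟩
  · exfalso
    have hnp' : n = p := le_antisymm hnp hge
    rw [hnp'] at hcod
    have hsq' : Nat.card G = p ^ 2 := by rw [hcod, sq]
    have hcomm : IsMulCommutative G := IsPGroup.isMulCommutative_of_card_eq_prime_sq hsq'
    have hcommtop : IsMulCommutative (⊤ : Subgroup G) :=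
      ⟨⟨fun a b => Subtype.ext (hcomm.is_comm.comm a.1 b.1)⟩⟩
    have := hab ⊤ hcommtop
    rw [Subgroup.card_top, hsq'] at this
    have h2 := hp.two_le
    nlinarith

end Cfsg.Agent.S4796
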