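import Cfsg.Statements.S4797
import Cfsg.Agent.Lib.Helper79.Basic
import Cfsg.Agent.Lib.Helper79.GroupLemmas
import Cfsg.Agent.Lib.Helper79.Degree

set_option autoImplicit false
open Cfsg

namespace Cfsg.Agent.S4797

open Cfsg.Agent.Lib.Helper79

theorem not_perfect_imp {G : Type*} [Group G] [Finite G] (h : commutator G ≠ ⊤) :
    ∃ χ : Cfsg.IrrCharacter G, ((Nat.card G / (Nat.card {g : G // (χ : G → ℂ) g = (χ : G → ℂ) 1} * Cfsg.charDegree (χ : G → ℂ)))).Prime := by
  obtain ⟨φ, p, hp, hidx⟩ := exists_monoidHom_ker_index_prime h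
  refine ⟨⟨fun g => ((φ g : ℂˣ) : ℂ), isIrrCharacter_of_monoidHom φ⟩, ?_⟩
  have hdeg : Cfsg.charDegree (fun g => ((φ g : ℂˣ) : ℂ)) = 1 := by
    simp [Cfsg.charDegree]
  have hker : Nat.card {g : G // ((φ g : ℂˣ) : ℂ) = ((φ 1 : ℂˣ) : ℂ)} = Nat.card φ.ker := by
    apply Nat.card_congr
    apply Equiv.subtypeEquivRight
    intro g
    rw [MonoidHom.mem_ker, map_one]
    simp
  simp only [hdeg, hker, mul_one]
  have := Subgroup.card_mul_index φ.ker
  rw [← this, hidx, Nat.mul_div_cancel_left _ Nat.card_pos]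
  exact hp

theorem perfect_imp {G : Type*} [Group G] [Finite G] (hperf : commutator G = ⊤)
    (χ : Cfsg.IrrCharacter G) :
    ¬ ((Nat.card G / (Nat.card {g : G // (χ : G → ℂ) g = (χ : G → ℂ) 1} * Cfsg.charDegree (χ : G → ℂ)))).Prime := by
  intro hprime
  obtain ⟨χ, n, ρ, hirr, rfl⟩ := χ
  simp only at hprime
  set K : Subgroup G := MonoidHom.ker ρ with hK
  have hkercard : Nat.card {g : G // ρ.character g = ρ.character 1} = Nat.card K := by
    apply Nat.card_congr
    exact Equiv.subtypeEquivRight (fun g => (rep_mem_ker_iff ρ g).symm)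
  rw [hkercard, charDegree_rep] at hprime
  obtain ⟨ρ', hirr', hρ', -⟩ := exists_quotient_ker_rep ρ hirr
  have : Fintype (G ⧸ K) := Fintype.ofFinite _
  have hdvd : n ∣ Nat.card (G ⧸ K) := by
    have := Cfsg.Agent.Lib.Helper80.finrank_dvd_card ρ'
    simpa using this
  have hsq : n ^ 2 ≤ Nat.card (G ⧸ K) := by
    have := finrank_sq_le_card ρ'
    simpa using this
  have hn : 0 < n := by
    have := Cfsg.Agent.Lib.Helper80.finrank_pos_of_irreducible ρ'
    simpa using this
  have hcard : Nat.card G = Nat.card (G ⧸ K) * Nat.card K :=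
    Subgroup.card_eq_card_quotient_mul_card_subgroup K
  obtain ⟨p, hp⟩ := hdvd
  have hKpos : 0 < Nat.card K := Nat.card_pos
  have hquot : Nat.card G / (Nat.card K * n) = p := by
    rw [hcard, hp]
    have : n * p * Nat.card K = p * (Nat.card K * n) := by ring
    rw [this, Nat.mul_div_cancel _ (Nat.mul_pos hKpos hn)]
  rw [hquot] at hprime
  -- the quotient is perfect
  have hperf' : commutator (G ⧸ K) = ⊤ := commutator_quotient_eq_top hperf K
  have hnp : n ≤ p := by
    rw [hp] at hsq
    have : n * n ≤ n * p := by rw [← sq]; exact hsq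
    exact Nat.le_of_mul_le_mul_left this hn
  exact false_of_perfect_of_card_eq_prime_mul hperf' p n hprime hn hnp (by rw [hp, mul_comm])

/-- The codegree of an irreducible complex character χ of a finite group G is [G : ker χ] / χ(1), where ker χ is the set of elements at which χ takes the value χ(1). A non-trivial finite group is perfect if and only if no irreducible complex character of it has prime codegree. -/
theorem result {G : Type*} [Group G] [Finite G] [Nontrivial G] : commutator G = ⊤ ↔ ∀ χ : Cfsg.IrrCharacter G, ¬ ((Nat.card G / (Nat.card {g : G // (χ : G → ℂ) g = (χ : G → ℂ) 1} * Cfsg.charDegree (χ : G → ℂ)))).Prime := by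
  constructor
  · intro h χ
    exact perfect_imp h χ
  · intro h
    by_contra hne
    obtain ⟨χ, hχ⟩ := not_perfect_imp hne
    exact h χ hχ

end Cfsg.Agent.S4797
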