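import Cfsg.Statements.S4798
import Cfsg.Agent.Lib.Helper75.Constituent
import Cfsg.Agent.Lib.Helper75.CliffordCorr
import Cfsg.Agent.Lib.Helper25.CharUtil
import Cfsg.Agent.Lib.Helper25.Ind
import Cfsg.Agent.Lib.Helper3.Induced

set_option autoImplicit false
set_option linter.style.haveILetI false
open Cfsg

namespace Cfsg.Agent.S4798

open Cfsg.Agent.Lib.Helper75 Cfsg.Agent.Lib.Helper3
open scoped ComplexConjugate

/-- Let p be a prime and χ a faithful irreducible complex character of the finite group G (χ(g) = χ(1) only for g = 1), so that its codegree is #G / χ(1). Then #G / χ(1) is a power of p if and only if χ is induced from a character of a Sylow p-subgroup of G. -/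
theorem result {G : Type*} [Group G] [Fintype G] (p : ℕ) [Fact p.Prime] (χ : Cfsg.IrrCharacter G) (hfaith : ∀ g : G, (χ : G → ℂ) g = (χ : G → ℂ) 1 → g = 1) : (∃ k : ℕ, Nat.card G = p ^ k * Cfsg.charDegree (χ : G → ℂ)) ↔ ∃ (P : Sylow p G) (θ : ↥(P : Subgroup G) → ℂ), Cfsg.IsCharacter ↥(P : Subgroup G) θ ∧ (χ : G → ℂ) = Cfsg.indFun (P : Subgroup G) θ := by
  classical
  have hp : p.Prime := Fact.out
  obtain ⟨d, hd1, hdpos, hddvd⟩ := irr_degree_nat χ
  have hcd : Cfsg.charDegree (χ : G → ℂ) = d := by
    unfold Cfsg.charDegree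
    rw [hd1]
    simp
  rw [hcd]
  constructor
  · rintro ⟨k, hk⟩
    obtain ⟨P⟩ : Nonempty (Sylow p G) := inferInstance
    refine ⟨P, ?_⟩
    haveI : Fintype (P : Subgroup G) := Fintype.ofFinite _
    haveI : Finite (IrrCharacter (P : Subgroup G)) := irrCharacter_finite
    haveI := Fintype.ofFinite (IrrCharacter (P : Subgroup G))
    set a := (Nat.card G).factorization p with ha
    have hPcard : Nat.card (P : Subgroup G) = p ^ a := P.card_eq_multiplicity
    have hidx : (P : Subgroup G).index * p ^ a = Nat.card G := by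
      rw [← hPcard]; exact (P : Subgroup G).index_mul_card
    have hndvd : ¬ p ∣ (P : Subgroup G).index := P.not_dvd_index
    have hidxpos : 0 < (P : Subgroup G).index := Nat.pos_of_ne_zero (Subgroup.index_ne_zero_of_finite)
    -- `k ≤ a` and `d = index * p ^ (a - k)`
    have hka : k ≤ a := by
      have h1 : p ^ k ∣ (P : Subgroup G).index * p ^ a := by rw [hidx, hk]; exact Dvd.intro _ rfl
      have hcop : Nat.Coprime (p ^ k) (P : Subgroup G).index :=
        Nat.Coprime.pow_left k ((Nat.Prime.coprime_iff_not_dvd hp).mpr hndvd)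
      have h2 : p ^ k ∣ p ^ a := hcop.dvd_of_dvd_mul_left h1
      exact (Nat.pow_dvd_pow_iff_le_right hp.one_lt).mp h2
    have hd : d = (P : Subgroup G).index * p ^ (a - k) := by
      have h1 : p ^ k * d = p ^ k * ((P : Subgroup G).index * p ^ (a - k)) := by
        rw [← hk, ← hidx]
        have : p ^ a = p ^ k * p ^ (a - k) := by rw [← pow_add]; congr 1; omega
        rw [this]; ring
      exact Nat.eq_of_mul_eq_mul_left (pow_pos hp.pos k) h1
    -- restriction
    have hres : IsCharacter (P : Subgroup G) (fun x : (P : Subgroup G) => (χ : G → ℂ) x) :=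
      IsCharacter.restrict (IsIrrCharacter.isCharacter χ.2) _
    obtain ⟨m, hm, hdec⟩ := IsCharacter.exists_mult hres
    choose e he hepos hedvd using fun ψ : IrrCharacter (P : Subgroup G) => irr_degree_nat ψ
    have hsum : d = ∑ ψ : IrrCharacter (P : Subgroup G), m ψ * e ψ := by
      have h1 : (fun x : (P : Subgroup G) => (χ : G → ℂ) x) 1 = (d : ℂ) := by
        simpa using hd1
      rw [hdec, Finset.sum_apply] at h1
      have h2 : (∑ ψ : IrrCharacter (P : Subgroup G), ((m ψ * e ψ : ℕ) : ℂ)) = (d : ℂ) := by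
        rw [← h1]
        refine Finset.sum_congr rfl fun ψ _ => ?_
        simp [he ψ]
      have h3 : ((∑ ψ : IrrCharacter (P : Subgroup G), m ψ * e ψ : ℕ) : ℂ) = (d : ℂ) := by
        rw [← h2]; push_cast; rfl
      exact_mod_cast h3.symm
    have hex : ∃ ψ : IrrCharacter (P : Subgroup G), m ψ ≠ 0 ∧ e ψ ∣ p ^ (a - k) := by
      by_contra hno
      simp only [not_exists, not_and] at hno
      have hall : ∀ ψ : IrrCharacter (P : Subgroup G), p ^ (a - k + 1) ∣ m ψ * e ψ := by
        intro ψ
        by_cases hmz : m ψ = 0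
        · rw [hmz]; simp
        · have h1 : e ψ ∣ p ^ a := by rw [← hPcard]; exact hedvd ψ
          obtain ⟨j, hj, hje⟩ := (Nat.dvd_prime_pow hp).mp h1
          have h2 : ¬ j ≤ a - k := by
            intro hle
            apply hno ψ hmz
            rw [hje]
            exact pow_dvd_pow p hle
          have h3 : p ^ (a - k + 1) ∣ e ψ := by
            rw [hje]; exact pow_dvd_pow p (by omega)
          exact Dvd.dvd.mul_left h3 _
      have hdvd : p ^ (a - k + 1) ∣ d := by
        rw [hsum]; exact Finset.dvd_sum fun ψ _ => hall ψ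
      rw [hd, pow_succ] at hdvd
      have : p ∣ (P : Subgroup G).index := by
        have h4 : p ^ (a - k) * p ∣ p ^ (a - k) * (P : Subgroup G).index := by
          rw [mul_comm (p ^ (a - k)) (P : Subgroup G).index]; exact hdvd
        exact (Nat.mul_dvd_mul_iff_left (pow_pos hp.pos _)).mp h4
      exact hndvd this
    obtain ⟨ψ, hmψ, heψ⟩ := hex
    refine ⟨ψ.1, IsIrrCharacter.isCharacter ψ.2, ?_⟩
    have hind : IsCharacter G (indFun (P : Subgroup G) ψ.1) :=
      isCharacter_indFun _ (IsIrrCharacter.isCharacter ψ.2)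
    symm
    apply eq_of_constituent_of_degree_le hind χ.2
    · rw [Cfsg.Agent.Lib.Helper25.frobenius_reciprocity _ _ _
        (IsCharacter.isClassFunction (IsIrrCharacter.isCharacter χ.2))]
      rw [classInner_conj_symm, hm ψ]
      simpa using hmψ
    · rw [indFun_apply_one, hd1, he ψ]
      have hle : (P : Subgroup G).index * e ψ ≤ d := by
        rw [hd]
        exact Nat.mul_le_mul_left _ (Nat.le_of_dvd (pow_pos hp.pos _) heψ)
      have : (((P : Subgroup G).index * e ψ : ℕ) : ℝ) ≤ (d : ℝ) := by exact_mod_cast hle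
      simpa using this
  · rintro ⟨P, θ, hθ, hχθ⟩
    obtain ⟨n, hn⟩ := Cfsg.Agent.Lib.Helper25.char_degree hθ
    set a := (Nat.card G).factorization p with ha
    have hPcard : Nat.card (P : Subgroup G) = p ^ a := P.card_eq_multiplicity
    have hidx : (P : Subgroup G).index * p ^ a = Nat.card G := by
      rw [← hPcard]; exact (P : Subgroup G).index_mul_card
    have hidxpos : 0 < (P : Subgroup G).index := Nat.pos_of_ne_zero (Subgroup.index_ne_zero_of_finite)
    have hd : d = (P : Subgroup G).index * n := by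
      have h1 : (χ : G → ℂ) 1 = ((P : Subgroup G).index : ℂ) * (n : ℂ) := by
        rw [hχθ, indFun_apply_one, hn]
      rw [hd1] at h1
      exact_mod_cast h1
    have hn_dvd : n ∣ p ^ a := by
      have h1 : (P : Subgroup G).index * n ∣ (P : Subgroup G).index * p ^ a := by
        rw [hidx, ← hd]; exact hddvd
      exact (Nat.mul_dvd_mul_iff_left hidxpos).mp h1
    obtain ⟨j, hj, hjn⟩ := (Nat.dvd_prime_pow hp).mp hn_dvd
    refine ⟨a - j, ?_⟩
    rw [hd, hjn, ← hidx]
    have : p ^ a = p ^ (a - j) * p ^ j := by rw [← pow_add]; congr 1; omega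
    rw [this]; ring

end Cfsg.Agent.S4798
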