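import Cfsg.Statements.S4801
import Cfsg.Agent.Lib.Helper81.ProdIrr
import Cfsg.Agent.Lib.Helper81.OneIrr
import Cfsg.Agent.Lib.Helper80.Kernel
import Cfsg.Agent.Lib.Helper3.CharBasic

set_option autoImplicit false
open Cfsg

namespace Cfsg.Agent.S4801

open scoped ComplexConjugate

/-- An irreducible character that is constant is the trivial character. -/
theorem eq_oneIrr_of_const {S : Type*} [Group S] [Finite S] (χ : IrrCharacter S)
    (h : ∀ g : S, (χ : S → ℂ) g = (χ : S → ℂ) 1) :
    χ = Cfsg.Agent.Lib.Helper81.oneIrr S := by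
  classical
  haveI : Fintype S := Fintype.ofFinite S
  have h1 := Cfsg.Agent.Lib.Helper3.classInner_irr χ.2 (Cfsg.Agent.Lib.Helper81.oneIrr S).2
  by_contra hne
  rw [if_neg (fun heq => hne (Subtype.ext heq))] at h1
  unfold classInner at h1
  have h2 : ∑ g : S, (χ : S → ℂ) g * conj (((Cfsg.Agent.Lib.Helper81.oneIrr S : IrrCharacter S) : S → ℂ) g)
      = (Nat.card S : ℂ) * (χ : S → ℂ) 1 := by
    have : ∀ g : S, (χ : S → ℂ) g * conj (((Cfsg.Agent.Lib.Helper81.oneIrr S : IrrCharacter S) : S → ℂ) g)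
        = (χ : S → ℂ) 1 := by
      intro g
      rw [Cfsg.Agent.Lib.Helper81.oneIrr_apply, map_one, mul_one, h g]
    rw [Finset.sum_congr rfl (fun g _ => this g), Finset.sum_const, Finset.card_univ,
      nsmul_eq_mul, Nat.card_eq_fintype_card]
  rw [h2] at h1
  have hS : (Nat.card S : ℂ) ≠ 0 := by exact_mod_cast Nat.card_pos.ne'
  have hdeg : (χ : S → ℂ) 1 ≠ 0 := by
    rw [← Cfsg.Agent.Lib.Helper80.irr_charDegree_cast χ]
    exact_mod_cast (Cfsg.Agent.Lib.Helper80.irr_charDegree_pos χ).ne'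
  rw [← mul_assoc, inv_mul_cancel₀ hS, one_mul] at h1
  exact hdeg h1

theorem charDegree_oneIrr {S : Type*} [Group S] :
    charDegree ((Cfsg.Agent.Lib.Helper81.oneIrr S : IrrCharacter S) : S → ℂ) = 1 := by
  unfold charDegree
  rw [Cfsg.Agent.Lib.Helper81.oneIrr_apply]
  simp

/-- The codegree of an irreducible complex character χ of a finite group G is [G : ker χ] / χ(1), where ker χ is the set of elements at which χ takes the value χ(1). Let S be a finite simple group and G a finite group such that every codegree of an irreducible character of S is a codegree of an irreducible character of G. Then the order of S divides the order of G. -/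
theorem result {S : Type*} [Group S] [Finite S] (hS : IsSimpleGroup S) {G : Type*} [Group G] [Finite G] (hsub : ∀ χ : Cfsg.IrrCharacter S, ∃ ψ : Cfsg.IrrCharacter G, (Nat.card S / (Nat.card {g : S // (χ : S → ℂ) g = (χ : S → ℂ) 1} * Cfsg.charDegree (χ : S → ℂ))) = (Nat.card G / (Nat.card {g : G // (ψ : G → ℂ) g = (ψ : G → ℂ) 1} * Cfsg.charDegree (ψ : G → ℂ)))) : Nat.card S ∣ Nat.card G := by
  classical
  haveI : Finite (IrrCharacter S) := Cfsg.Agent.Lib.Helper81.finite_irrCharacter
  haveI : Fintype (IrrCharacter S) := Fintype.ofFinite _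
  have hSpos : 0 < Nat.card S := Nat.card_pos
  have hGpos : 0 < Nat.card G := Nat.card_pos
  rw [← Nat.factorization_le_iff_dvd hSpos.ne' hGpos.ne']
  intro p
  by_cases hp : p.Prime
  swap
  · rw [Nat.factorization_eq_zero_of_not_prime _ hp]; exact Nat.zero_le _
  by_cases hpS : p ∣ Nat.card S
  swap
  · rw [Nat.factorization_eq_zero_of_not_dvd hpS]; exact Nat.zero_le _
  -- a nontrivial character of degree prime to p
  have hsum := Cfsg.Agent.Lib.Helper81.sum_charDegree_sq (G := S)
  obtain ⟨χ, hχne, hχp⟩ : ∃ χ : IrrCharacter S, χ ≠ Cfsg.Agent.Lib.Helper81.oneIrr S ∧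
      ¬ p ∣ charDegree (χ : S → ℂ) := by
    by_contra hcon
    push Not at hcon
    rw [← Finset.add_sum_erase _ _ (Finset.mem_univ (Cfsg.Agent.Lib.Helper81.oneIrr S))] at hsum
    rw [charDegree_oneIrr] at hsum
    have h2 : p ∣ ∑ χ ∈ Finset.univ.erase (Cfsg.Agent.Lib.Helper81.oneIrr S),
        charDegree (χ : S → ℂ) ^ 2 :=
      Finset.dvd_sum (fun χ hχ => dvd_pow (hcon χ (Finset.ne_of_mem_erase hχ)) two_ne_zero)
    have h3 : p ∣ 1 ^ 2 := by
      rw [← hsum] at hpS
      exact (Nat.dvd_add_left h2).mp hpS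
    rw [one_pow] at h3
    exact hp.one_lt.ne' (Nat.dvd_one.mp h3)
  -- its kernel is trivial
  obtain ⟨K, hKn, hK, hdvd⟩ := Cfsg.Agent.Lib.Helper80.irr_exists_ker χ
  have hKbot : K = ⊥ := by
    rcases hKn.eq_bot_or_eq_top with h | h
    · exact h
    · exfalso
      apply hχne
      apply eq_oneIrr_of_const
      intro g
      rw [← hK, h]
      exact Subgroup.mem_top g
  have hcardK : Nat.card {g : S // (χ : S → ℂ) g = (χ : S → ℂ) 1} = 1 := by
    have : Nat.card {g : S // (χ : S → ℂ) g = (χ : S → ℂ) 1} = Nat.card K :=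
      Nat.card_congr (Equiv.subtypeEquivRight (fun g => (hK g).symm))
    rw [this, hKbot, Subgroup.card_bot]
  obtain ⟨ψ, hψ⟩ := hsub χ
  rw [hcardK, one_mul] at hψ
  have hdvdS : charDegree (χ : S → ℂ) ∣ Nat.card S := by
    have := Cfsg.Agent.Lib.Helper80.irr_card_ker_mul_degree_dvd χ
    rwa [hcardK, one_mul] at this
  have hdvdG := Cfsg.Agent.Lib.Helper80.irr_card_ker_mul_degree_dvd ψ
  have hdpos : 0 < charDegree (χ : S → ℂ) := Cfsg.Agent.Lib.Helper80.irr_charDegree_pos χ
  -- factorization of the codegree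
  have h1 : (Nat.card S / charDegree (χ : S → ℂ)).factorization p = (Nat.card S).factorization p := by
    rw [Nat.factorization_div hdvdS]
    simp [Nat.factorization_eq_zero_of_not_dvd hχp]
  have h2 : (Nat.card G / (Nat.card {g : G // (ψ : G → ℂ) g = (ψ : G → ℂ) 1} *
      Cfsg.charDegree (ψ : G → ℂ))) ∣ Nat.card G := Nat.div_dvd_of_dvd hdvdG
  rw [← h1, hψ]
  have hne : Nat.card G / (Nat.card {g : G // (ψ : G → ℂ) g = (ψ : G → ℂ) 1} *
      Cfsg.charDegree (ψ : G → ℂ)) ≠ 0 := by
    intro h0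
    rw [h0] at h2
    exact hGpos.ne' (Nat.eq_zero_of_zero_dvd h2)
  exact (Nat.factorization_le_iff_dvd hne hGpos.ne').mpr h2 p

end Cfsg.Agent.S4801
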