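-- Statement S4802
import Cfsg.Statements.S4802
import Cfsg.Agent.Lib.Helper80.Normal

set_option autoImplicit false
open Cfsg

namespace Cfsg.Agent.S4802

open Cfsg.Agent.Lib.Helper80
open scoped ComplexConjugate

section Aux

variable {G : Type*} [Group G] [Fintype G] [Fintype (Cfsg.IrrCharacter G)]

open Classical in
theorem col_orth (a b : G) :
    ∑ χ : Cfsg.IrrCharacter G, (χ : G → ℂ) a * conj ((χ : G → ℂ) b) =
      if IsConj a b then (Nat.card (Subgroup.centralizer ({a} : Set G)) : ℂ) else 0 :=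
  irr_column_orthogonality a b

open Classical in
/-- If the class of `g` contains the coset `g N`, the characters not containing `N` in their
kernel vanish at `g`. -/
theorem vanish_of_coset_conj (N : Subgroup G) [N.Normal] (g : G)
    (hcoset : ∀ n ∈ N, IsConj g (g * n)) (χ₀ : Cfsg.IrrCharacter G)
    (hbad : ∃ x ∈ N, (χ₀ : G → ℂ) x ≠ (χ₀ : G → ℂ) 1) : (χ₀ : G → ℂ) g = 0 := by
  have hNne : (Nat.card N : ℂ) ≠ 0 := by
    have : 0 < Nat.card N := Nat.card_pos
    exact_mod_cast this.ne'
  -- D computed via column orthogonality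
  have hD1 : ∑ n : G, (if n ∈ N then
      ∑ χ : Cfsg.IrrCharacter G, (χ : G → ℂ) g * conj ((χ : G → ℂ) (g * n)) else 0) =
      (Nat.card N : ℂ) * (Nat.card (Subgroup.centralizer ({g} : Set G)) : ℂ) := by
    have : ∀ n : G, (if n ∈ N then
        ∑ χ : Cfsg.IrrCharacter G, (χ : G → ℂ) g * conj ((χ : G → ℂ) (g * n)) else 0) =
        if n ∈ N then (Nat.card (Subgroup.centralizer ({g} : Set G)) : ℂ) else 0 := by
      intro n
      split_ifs with hn
      · rw [col_orth, if_pos (hcoset n hn)]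
      · rfl
    simp only [this]
    rw [← Finset.sum_filter, Finset.sum_const, nsmul_eq_mul]
    congr 1
    rw [Nat.card_eq_fintype_card, Fintype.card_subtype]
  -- D computed via coset sums
  have hD2 : ∑ n : G, (if n ∈ N then
      ∑ χ : Cfsg.IrrCharacter G, (χ : G → ℂ) g * conj ((χ : G → ℂ) (g * n)) else 0) =
      (Nat.card N : ℂ) * ∑ χ : Cfsg.IrrCharacter G,
        (if ∀ x ∈ N, (χ : G → ℂ) x = (χ : G → ℂ) 1 then
          (χ : G → ℂ) g * conj ((χ : G → ℂ) g) else 0) := by
    have h1 : ∀ n : G, (if n ∈ N then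
        ∑ χ : Cfsg.IrrCharacter G, (χ : G → ℂ) g * conj ((χ : G → ℂ) (g * n)) else 0) =
        ∑ χ : Cfsg.IrrCharacter G, (χ : G → ℂ) g *
          conj (if n ∈ N then (χ : G → ℂ) (g * n) else 0) := by
      intro n
      split_ifs
      · rfl
      · simp
    simp only [h1]
    rw [Finset.sum_comm, Finset.mul_sum]
    refine Finset.sum_congr rfl fun χ _ => ?_
    rw [← Finset.mul_sum, ← map_sum]
    split_ifs with hgood
    · rw [(irr_sum_normal χ N g).1 hgood, map_mul, Complex.conj_natCast]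
      ring
    · push Not at hgood
      rw [(irr_sum_normal χ N g).2 hgood, map_zero, mul_zero, mul_zero]
  have hgoodsum : ∑ χ : Cfsg.IrrCharacter G,
      (if ∀ x ∈ N, (χ : G → ℂ) x = (χ : G → ℂ) 1 then
        (χ : G → ℂ) g * conj ((χ : G → ℂ) g) else 0) =
      (Nat.card (Subgroup.centralizer ({g} : Set G)) : ℂ) := by
    have := hD1.symm.trans hD2
    exact (mul_left_cancel₀ hNne this).symm
  have hall : ∑ χ : Cfsg.IrrCharacter G, (χ : G → ℂ) g * conj ((χ : G → ℂ) g) =
      (Nat.card (Subgroup.centralizer ({g} : Set G)) : ℂ) := by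
    rw [col_orth, if_pos (IsConj.refl g)]
  -- the bad part of the sum vanishes
  have hbadsum : ∑ χ : Cfsg.IrrCharacter G,
      (if ∀ x ∈ N, (χ : G → ℂ) x = (χ : G → ℂ) 1 then (0 : ℝ) else
        Complex.normSq ((χ : G → ℂ) g)) = 0 := by
    have h2 : ((∑ χ : Cfsg.IrrCharacter G,
        (if ∀ x ∈ N, (χ : G → ℂ) x = (χ : G → ℂ) 1 then (0 : ℝ) else
          Complex.normSq ((χ : G → ℂ) g)) : ℝ) : ℂ) = 0 := by
      push_cast
      have h3 : ∀ χ : Cfsg.IrrCharacter G,
          ((if ∀ x ∈ N, (χ : G → ℂ) x = (χ : G → ℂ) 1 then (0 : ℝ) else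
            Complex.normSq ((χ : G → ℂ) g) : ℝ) : ℂ) =
          (χ : G → ℂ) g * conj ((χ : G → ℂ) g) -
            (if ∀ x ∈ N, (χ : G → ℂ) x = (χ : G → ℂ) 1 then
              (χ : G → ℂ) g * conj ((χ : G → ℂ) g) else 0) := by
        intro χ
        split_ifs
        · simp
        · rw [Complex.mul_conj]; simp
      simp only [h3]
      rw [Finset.sum_sub_distrib, hall, hgoodsum, sub_self]
    exact_mod_cast h2
  have hterm := (Finset.sum_eq_zero_iff_of_nonneg (fun χ _ => by
    split_ifs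
    · exact le_refl _
    · exact Complex.normSq_nonneg _)).mp hbadsum χ₀ (Finset.mem_univ χ₀)
  have hnot : ¬ ∀ x ∈ N, (χ₀ : G → ℂ) x = (χ₀ : G → ℂ) 1 := by
    push Not
    exact hbad
  rw [if_neg hnot] at hterm
  exact Complex.normSq_eq_zero.mp hterm

open Classical in
/-- If the good characters agree at `g` and `h` and the bad ones vanish at `g`, then `g` and `h`
are conjugate. -/
theorem conj_of_chars (N : Subgroup G) (g h : G)
    (hgood : ∀ χ : Cfsg.IrrCharacter G, (∀ x ∈ N, (χ : G → ℂ) x = (χ : G → ℂ) 1) →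
      (χ : G → ℂ) h = (χ : G → ℂ) g)
    (hbad : ∀ χ : Cfsg.IrrCharacter G, (∃ x ∈ N, (χ : G → ℂ) x ≠ (χ : G → ℂ) 1) →
      (χ : G → ℂ) g = 0) : IsConj g h := by
  by_contra hnc
  have h0 := col_orth g h
  rw [if_neg hnc] at h0
  have h1 : ∀ χ : Cfsg.IrrCharacter G, (χ : G → ℂ) g * conj ((χ : G → ℂ) h) =
      (((if ∀ x ∈ N, (χ : G → ℂ) x = (χ : G → ℂ) 1 then
        Complex.normSq ((χ : G → ℂ) g) else 0 : ℝ)) : ℂ) := by
    intro χ
    split_ifs with hg
    · rw [hgood χ hg, Complex.mul_conj]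
    · push Not at hg
      rw [hbad χ hg, zero_mul]; simp
  simp only [h1] at h0
  have h2 : ∑ χ : Cfsg.IrrCharacter G, (if ∀ x ∈ N, (χ : G → ℂ) x = (χ : G → ℂ) 1 then
      Complex.normSq ((χ : G → ℂ) g) else 0 : ℝ) = 0 := by
    exact_mod_cast h0
  have hterm := (Finset.sum_eq_zero_iff_of_nonneg (fun χ _ => by
    split_ifs
    · exact Complex.normSq_nonneg _
    · exact le_refl _)).mp h2 (trivIrr G) (Finset.mem_univ _)
  have htriv : ∀ x ∈ N, ((trivIrr G : Cfsg.IrrCharacter G) : G → ℂ) x =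
      ((trivIrr G : Cfsg.IrrCharacter G) : G → ℂ) 1 := fun x _ => rfl
  rw [if_pos htriv, trivIrr_apply] at hterm
  simp at hterm

end Aux

/-- Let N < M be normal subgroups of the finite group G and g ∈ M ∖ N. Then the conjugacy class of g is exactly M ∖ N if and only if every irreducible complex character of G whose kernel contains N takes the same value at all elements of M ∖ N, and every irreducible complex character of G whose kernel does not contain N vanishes at g. -/
theorem result {G : Type*} [Group G] [Finite G] (N M : Subgroup G) [N.Normal] [M.Normal] (hNM : N < M) (g : G) (hgM : g ∈ M) (hgN : g ∉ N) : {h : G | IsConj g h} = (M : Set G) \ (N : Set G) ↔ ((∀ χ : Cfsg.IrrCharacter G, (∀ x ∈ N, (χ : G → ℂ) x = (χ : G → ℂ) 1) → ∀ x ∈ M, x ∉ N → ∀ y ∈ M, y ∉ N → (χ : G → ℂ) x = (χ : G → ℂ) y) ∧ (∀ χ : Cfsg.IrrCharacter G, (∃ x ∈ N, (χ : G → ℂ) x ≠ (χ : G → ℂ) 1) → (χ : G → ℂ) g = 0)) := by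
  classical
  have := Fintype.ofFinite G
  have := Fintype.ofFinite (Cfsg.IrrCharacter G)
  constructor
  · intro hcl
    have hmem : ∀ x : G, x ∈ M → x ∉ N → IsConj g x := by
      intro x hxM hxN
      have : x ∈ (M : Set G) \ (N : Set G) := ⟨hxM, hxN⟩
      rw [← hcl] at this
      exact this
    constructor
    · intro χ _ x hxM hxN y hyM hyN
      obtain ⟨c, hc⟩ := isConj_iff.mp (hmem x hxM hxN)
      obtain ⟨d, hd⟩ := isConj_iff.mp (hmem y hyM hyN)
      rw [← hc, ← hd, irr_class, irr_class]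
    · intro χ hbad
      apply vanish_of_coset_conj N g _ χ hbad
      intro n hn
      apply hmem
      · exact M.mul_mem hgM (hNM.le hn)
      · intro hgn
        exact hgN ((Subgroup.mul_mem_cancel_right N hn).mp hgn)
  · rintro ⟨hA, hB⟩
    ext h
    simp only [Set.mem_ofPred_eq, Set.mem_sdiff, SetLike.mem_coe]
    constructor
    · intro hc
      obtain ⟨c, hc⟩ := isConj_iff.mp hc
      rw [← hc]
      constructor
      · exact Subgroup.Normal.conj_mem inferInstance g hgM c
      · intro hn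
        apply hgN
        have := Subgroup.Normal.conj_mem (inferInstance : N.Normal) _ hn c⁻¹
        simpa [mul_assoc] using this
    · rintro ⟨hM, hN⟩
      exact conj_of_chars N g h (fun χ hg => hA χ hg h hM hN g hgM hgN) hB

end Cfsg.Agent.S4802
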