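-- Statement S4814
import Cfsg.Statements.S4814
import Cfsg.Agent.Lib.Helper80.Conv

set_option autoImplicit false
open Cfsg

namespace Cfsg.Agent.S4814

open Cfsg.Agent.Lib.Helper80

section Aux

variable {G : Type*} [Group G] [Fintype G] [Fintype (Cfsg.IrrCharacter G)]

/-- The key convolution identity. -/
theorem conv_identity (g : G) :
    ∑ u : G, (∑ χ : Cfsg.IrrCharacter G, (χ : G → ℂ) u / (χ : G → ℂ) 1) *
        (∑ ψ : Cfsg.IrrCharacter G, (ψ : G → ℂ) (u⁻¹ * g) / (ψ : G → ℂ) 1) =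
      (Nat.card G : ℂ) * ∑ χ : Cfsg.IrrCharacter G, (χ : G → ℂ) g / (χ : G → ℂ) 1 ^ 3 := by
  classical
  have h1 : ∀ u : G, (∑ χ : Cfsg.IrrCharacter G, (χ : G → ℂ) u / (χ : G → ℂ) 1) *
        (∑ ψ : Cfsg.IrrCharacter G, (ψ : G → ℂ) (u⁻¹ * g) / (ψ : G → ℂ) 1) =
      ∑ χ : Cfsg.IrrCharacter G, ∑ ψ : Cfsg.IrrCharacter G,
        ((χ : G → ℂ) 1)⁻¹ * ((ψ : G → ℂ) 1)⁻¹ * ((χ : G → ℂ) u * (ψ : G → ℂ) (u⁻¹ * g)) := by
    intro u
    rw [Finset.sum_mul_sum]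
    refine Finset.sum_congr rfl fun χ _ => Finset.sum_congr rfl fun ψ _ => ?_
    rw [div_eq_mul_inv, div_eq_mul_inv]
    ring
  simp only [h1]
  rw [Finset.sum_comm]
  have h2 : ∀ χ : Cfsg.IrrCharacter G, ∑ u : G, ∑ ψ : Cfsg.IrrCharacter G,
        ((χ : G → ℂ) 1)⁻¹ * ((ψ : G → ℂ) 1)⁻¹ * ((χ : G → ℂ) u * (ψ : G → ℂ) (u⁻¹ * g)) =
      (Nat.card G : ℂ) * ((χ : G → ℂ) g / (χ : G → ℂ) 1 ^ 3) := by
    intro χ
    rw [Finset.sum_comm]
    have h3 : ∀ ψ : Cfsg.IrrCharacter G, ∑ u : G,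
        ((χ : G → ℂ) 1)⁻¹ * ((ψ : G → ℂ) 1)⁻¹ * ((χ : G → ℂ) u * (ψ : G → ℂ) (u⁻¹ * g)) =
        ((χ : G → ℂ) 1)⁻¹ * ((ψ : G → ℂ) 1)⁻¹ *
          (if χ = ψ then (Nat.card G : ℂ) * (χ : G → ℂ) g / (χ : G → ℂ) 1 else 0) := by
      intro ψ
      rw [← Finset.mul_sum, irr_convolution]
    simp only [h3]
    rw [Finset.sum_eq_single χ]
    · rw [if_pos rfl]
      have := irr_one_ne_zero χ
      field_simp
    · intro ψ _ hne
      rw [if_neg (Ne.symm hne), mul_zero]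
    · intro hh; exact absurd (Finset.mem_univ χ) hh
  simp only [h2]
  rw [← Finset.mul_sum]

end Aux

/-- Let G be a finite group such that the sum, over the irreducible complex characters χ of G, of 1/χ(1)² is less than 2. Then every element of G is a product of two commutators. -/
theorem result {G : Type*} [Group G] [Finite G]
    (h : ∑ᶠ χ : Cfsg.IrrCharacter G, 1 / ‖(χ : G → ℂ) 1‖ ^ 2 < (2 : ℝ)) (g : G) :
    ∃ a b c d : G, (a * b * a⁻¹ * b⁻¹) * (c * d * c⁻¹ * d⁻¹) = g := by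
  classical
  have := Fintype.ofFinite G
  have := Fintype.ofFinite (Cfsg.IrrCharacter G)
  rw [finsum_eq_sum_of_fintype] at h
  have hG : (Nat.card G : ℂ) ≠ 0 := by
    have : 0 < Nat.card G := Nat.card_pos
    exact_mod_cast this.ne'
  -- the count in terms of characters
  have hN : ∀ u : G, (Nat.card {xy : G × G // xy.1 * xy.2 * xy.1⁻¹ * xy.2⁻¹ = u} : ℂ) =
      (Nat.card G : ℂ) * ∑ χ : Cfsg.IrrCharacter G, (χ : G → ℂ) u / (χ : G → ℂ) 1 := by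
    intro u
    rw [commutator_count u, finsum_eq_sum_of_fintype]
  -- T ≠ 0
  have hT : ∑ χ : Cfsg.IrrCharacter G, (χ : G → ℂ) g / (χ : G → ℂ) 1 ^ 3 ≠ 0 := by
    intro hzero
    rw [← Finset.add_sum_erase Finset.univ _ (Finset.mem_univ (trivIrr G))] at hzero
    rw [← Finset.add_sum_erase Finset.univ _ (Finset.mem_univ (trivIrr G))] at h
    simp only [trivIrr_apply, one_pow, div_one, norm_one] at hzero h
    have hbound : ‖∑ χ ∈ Finset.univ.erase (trivIrr G),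
        (χ : G → ℂ) g / (χ : G → ℂ) 1 ^ 3‖ ≤
        ∑ χ ∈ Finset.univ.erase (trivIrr G), 1 / ‖(χ : G → ℂ) 1‖ ^ 2 := by
      refine (norm_sum_le _ _).trans (Finset.sum_le_sum fun χ _ => ?_)
      have h1 : 0 < ‖(χ : G → ℂ) 1‖ := norm_pos_iff.mpr (irr_one_ne_zero χ)
      rw [norm_div, norm_pow, div_le_div_iff₀ (pow_pos h1 3) (pow_pos h1 2)]
      calc ‖(χ : G → ℂ) g‖ * ‖(χ : G → ℂ) 1‖ ^ 2
          ≤ ‖(χ : G → ℂ) 1‖ * ‖(χ : G → ℂ) 1‖ ^ 2 :=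
            mul_le_mul_of_nonneg_right (irr_norm_le χ g) (by positivity)
        _ = 1 * ‖(χ : G → ℂ) 1‖ ^ 3 := by ring
    have h2 : ∑ χ ∈ Finset.univ.erase (trivIrr G), (χ : G → ℂ) g / (χ : G → ℂ) 1 ^ 3 = -1 := by
      linear_combination hzero
    rw [h2, norm_neg, norm_one] at hbound
    linarith
  by_contra hcon
  have hzero : ∀ u : G,
      (∑ χ : Cfsg.IrrCharacter G, (χ : G → ℂ) u / (χ : G → ℂ) 1) *
        (∑ ψ : Cfsg.IrrCharacter G, (ψ : G → ℂ) (u⁻¹ * g) / (ψ : G → ℂ) 1) = 0 := by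
    intro u
    by_contra hne
    have hne1 : ∑ χ : Cfsg.IrrCharacter G, (χ : G → ℂ) u / (χ : G → ℂ) 1 ≠ 0 :=
      left_ne_zero_of_mul hne
    have hne2 : ∑ ψ : Cfsg.IrrCharacter G, (ψ : G → ℂ) (u⁻¹ * g) / (ψ : G → ℂ) 1 ≠ 0 :=
      right_ne_zero_of_mul hne
    have hc1 : Nat.card {xy : G × G // xy.1 * xy.2 * xy.1⁻¹ * xy.2⁻¹ = u} ≠ 0 := by
      intro h0
      have := hN u
      rw [h0, Nat.cast_zero] at this
      exact (mul_ne_zero hG hne1) this.symm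
    have hc2 : Nat.card {xy : G × G // xy.1 * xy.2 * xy.1⁻¹ * xy.2⁻¹ = u⁻¹ * g} ≠ 0 := by
      intro h0
      have := hN (u⁻¹ * g)
      rw [h0, Nat.cast_zero] at this
      exact (mul_ne_zero hG hne2) this.symm
    obtain ⟨⟨⟨a, b⟩, hab⟩⟩ := (Nat.card_ne_zero.mp hc1).1
    obtain ⟨⟨⟨c, d⟩, hcd⟩⟩ := (Nat.card_ne_zero.mp hc2).1
    apply hcon
    refine ⟨a, b, c, d, ?_⟩
    simp only at hab hcd
    rw [hab, hcd, mul_inv_cancel_left]
  have hsum := conv_identity g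
  simp only [hzero, Finset.sum_const_zero] at hsum
  rcases mul_eq_zero.mp hsum.symm with h0 | h0
  · exact hG h0
  · exact hT h0

end Cfsg.Agent.S4814
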