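import Cfsg.Statements.S4825
import Cfsg.Agent.Lib.Helper77.Osima
import Cfsg.Agent.Lib.Helper79.CliffordCorr
import Cfsg.Agent.Lib.Helper81.Irr

set_option autoImplicit false
open Cfsg

namespace Cfsg.Agent.S4825

open Cfsg.Agent.Lib.Helper77 Cfsg.Agent.Lib.Helper79 Cfsg.Agent.Lib.Helper81
open scoped ComplexConjugate

/-- A normal subgroup that does not contain a Sylow `p`-subgroup has index divisible by `p`. -/
theorem dvd_index_of_not_le {G : Type*} [Group G] [Finite G] (p : ℕ) [hp : Fact p.Prime]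
    (P : Sylow p G) (N : Subgroup G) [N.Normal] (h : ¬ (P : Subgroup G) ≤ N) : p ∣ N.index := by
  by_contra hnd
  apply h
  intro x hx
  have h1 : orderOf (QuotientGroup.mk' N x) ∣ orderOf x := orderOf_map_dvd _ x
  have h2 : orderOf (QuotientGroup.mk' N x) ∣ N.index := by
    rw [Subgroup.index_eq_card]
    exact orderOf_dvd_natCard _
  obtain ⟨k, hk⟩ := (IsPGroup.iff_orderOf.mp P.isPGroup') ⟨x, hx⟩
  have hox : orderOf x = p ^ k := by
    rw [← hk]
    exact (Subgroup.orderOf_mk x hx).symm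
  rw [hox] at h1
  have hcop : Nat.Coprime (p ^ k) N.index :=
    Nat.Coprime.pow_left k ((Nat.Prime.coprime_iff_not_dvd hp.out).mpr hnd)
  have h3 : orderOf (QuotientGroup.mk' N x) = 1 :=
    Nat.dvd_one.mp (hcop ▸ Nat.dvd_gcd h1 h2)
  have h4 : QuotientGroup.mk' N x = 1 := orderOf_eq_one_iff.mp h3
  exact (QuotientGroup.eq_one_iff x).mp h4

/-- The arithmetic heart: if `p` divides the sum of the squares of the members of a finite family
`d` of natural numbers, then the number of members prime to `p` is not one, and for `p ≤ 3` it is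
divisible by `p`. -/
theorem count_of_dvd_sum_sq {ι : Type*} [DecidableEq ι] (p : ℕ) (hp : p.Prime) (X : Finset ι)
    (d : ι → ℕ) (h : p ∣ ∑ i ∈ X, d i ^ 2) :
    ((X.filter fun i => ¬ p ∣ d i).card = 0 ∨ 2 ≤ (X.filter fun i => ¬ p ∣ d i).card) ∧
      (p ≤ 3 → p ∣ (X.filter fun i => ¬ p ∣ d i).card) := by
  classical
  set Y := X.filter fun i => ¬ p ∣ d i with hY
  have hsplit : ∑ i ∈ X, d i ^ 2 = ∑ i ∈ Y, d i ^ 2 + ∑ i ∈ X.filter (fun i => ¬ ¬ p ∣ d i), d i ^ 2 :=
    (Finset.sum_filter_add_sum_filter_not X (fun i => ¬ p ∣ d i) (fun i => d i ^ 2)).symm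
  have hrest : p ∣ ∑ i ∈ X.filter (fun i => ¬ ¬ p ∣ d i), d i ^ 2 := by
    apply Finset.dvd_sum
    intro i hi
    have : p ∣ d i := not_not.mp (Finset.mem_filter.mp hi).2
    exact dvd_pow this (by norm_num)
  have hYsum : p ∣ ∑ i ∈ Y, d i ^ 2 := by
    rw [hsplit] at h
    exact (Nat.dvd_add_left hrest).mp h
  refine ⟨?_, ?_⟩
  · by_cases h1 : Y.card = 1
    · exfalso
      obtain ⟨i, hi⟩ := Finset.card_eq_one.mp h1
      rw [hi, Finset.sum_singleton] at hYsum
      have hdi : p ∣ d i := hp.dvd_of_dvd_pow hYsum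
      have hmem : i ∈ Y := by rw [hi]; exact Finset.mem_singleton_self i
      exact (Finset.mem_filter.mp hmem).2 hdi
    · omega
  · intro hp3
    have hp2 : 2 ≤ p := hp.two_le
    have hcong : ∀ i ∈ Y, d i ^ 2 % p = 1 := by
      intro i hi
      have hnd : ¬ p ∣ d i := (Finset.mem_filter.mp hi).2
      have hp23 : p = 2 ∨ p = 3 := by omega
      rcases hp23 with rfl | rfl
      · have : d i % 2 = 1 := by omega
        rw [Nat.pow_mod, this]
      · have : d i % 3 = 1 ∨ d i % 3 = 2 := by omega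
        rcases this with h' | h' <;> rw [Nat.pow_mod, h']
    have hmod : (∑ i ∈ Y, d i ^ 2) % p = Y.card % p := by
      rw [Finset.sum_nat_mod]
      have : ∑ i ∈ Y, d i ^ 2 % p = ∑ _i ∈ Y, 1 := Finset.sum_congr rfl hcong
      rw [this]
      simp
    rw [Nat.dvd_iff_mod_eq_zero] at hYsum ⊢
    rw [← hmod]
    exact hYsum

/-- Let p be a prime, G a finite group with Sylow p-subgroup P, M a maximal ideal of the algebraic integers containing p, and B a p-block of G with defect group P. Let N be a normal subgroup of G not containing P and θ an irreducible character of N. Then the number of irreducible characters in B of degree prime to p lying over θ (having θ as a constituent on restriction to N) is either 0 or at least 2, and when p ≤ 3 it is divisible by p. -/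
theorem result {G : Type*} [Group G] [Fintype G] (p : ℕ) [Fact p.Prime] (P : Sylow p G) (M : Ideal Cfsg.AlgInt) (hM : Cfsg.IsPModular p M) (B : Set (Cfsg.IrrCharacter G)) (hB : Cfsg.IsPBlock M B) (hBP : Cfsg.IsDefectGroup p M B P) (N : Subgroup G) [N.Normal] [Fintype N] (hPN : ¬ (P : Subgroup G) ≤ N) (θ : Cfsg.IrrCharacter N) :
    (Nat.card {χ : Cfsg.IrrCharacter G // χ ∈ B ∧ ¬ p ∣ Cfsg.charDegree (χ : G → ℂ) ∧ Cfsg.classInner (fun n : N => (χ : G → ℂ) n) (θ : N → ℂ) ≠ 0} = 0 ∨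
      2 ≤ Nat.card {χ : Cfsg.IrrCharacter G // χ ∈ B ∧ ¬ p ∣ Cfsg.charDegree (χ : G → ℂ) ∧ Cfsg.classInner (fun n : N => (χ : G → ℂ) n) (θ : N → ℂ) ≠ 0}) ∧
    (p ≤ 3 → p ∣ Nat.card {χ : Cfsg.IrrCharacter G // χ ∈ B ∧ ¬ p ∣ Cfsg.charDegree (χ : G → ℂ) ∧ Cfsg.classInner (fun n : N => (χ : G → ℂ) n) (θ : N → ℂ) ≠ 0}) := by
  classical
  have hMp : M.IsPrime := isPrime_of_isPModular hM
  obtain ⟨χ₀, rfl⟩ := hB
  haveI : Fintype (IrrCharacter G) := Fintype.ofFinite _
  have hpidx : p ∣ N.index := dvd_index_of_not_le p P N hPN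
  -- notation
  set m : IrrCharacter G → ℂ :=
    fun χ => classInner (fun n : N => (χ : G → ℂ) n) (θ : N → ℂ) with hm
  set idx : ℕ := (inertia N (θ : N → ℂ)).index with hidx
  set dθ : ℕ := charDegree (θ : N → ℂ) with hdθ
  have hθ1 : (θ : N → ℂ) 1 = (dθ : ℂ) := irr_apply_one_eq_charDegree θ
  have hdθ0 : (dθ : ℂ) ≠ 0 := by
    rw [← hθ1]; exact irr_apply_one_ne_zero θ
  have hidx0 : (idx : ℂ) ≠ 0 := by
    have : idx ≠ 0 := Subgroup.index_ne_zero_of_finite
    exact_mod_cast this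
  -- the restricted idempotent
  set a : N → ℂ := fun n => blockCoeff (blockOf M (χ₀ : G → ℂ)) (n : G) with ha
  have haC : IsClassFunction N a := by
    intro g h
    have := blockCoeff_isClassFunction (blockOf M (χ₀ : G → ℂ)) (g : G) (h : G)
    simpa [ha] using this
  have haS : ∀ n, MemLocalRing M (a n) := fun n => memLocalRing_blockCoeff hM χ₀ (n : G)
  have hs : MemLocalRing M (omega (θ : N → ℂ) a) := memLocalRing_omega hMp θ.2 haC haS
  -- the set of characters of the block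
  set BF : Finset (IrrCharacter G) :=
    Finset.univ.filter (fun χ : IrrCharacter G => χ ∈ blockOf M (χ₀ : G → ℂ)) with hBF
  -- key identity 1
  have hconjm : ∀ χ : IrrCharacter G,
      ∑ n : N, conj ((χ : G → ℂ) n) * (θ : N → ℂ) n = (Nat.card N : ℂ) * conj (m χ) := by
    intro χ
    have hN0 : (Nat.card N : ℂ) ≠ 0 := by
      have : Nat.card N ≠ 0 := Nat.card_pos.ne'
      exact_mod_cast this
    simp only [hm, classInner, map_mul, map_inv₀, map_natCast, map_sum, Complex.conj_conj]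
    rw [← mul_assoc, mul_inv_cancel₀ hN0, one_mul]
  have key1 : ∑ n : N, a n * (θ : N → ℂ) n =
      (Nat.card G : ℂ)⁻¹ * (Nat.card N : ℂ) * ∑ χ ∈ BF, (χ : G → ℂ) 1 * conj (m χ) := by
    calc ∑ n : N, a n * (θ : N → ℂ) n
        = ∑ n : N, ∑ χ ∈ BF, (Nat.card G : ℂ)⁻¹ *
            ((χ : G → ℂ) 1 * (conj ((χ : G → ℂ) n) * (θ : N → ℂ) n)) := by
          apply Finset.sum_congr rfl
          intro n _
          simp only [ha]
          rw [blockCoeff_eq_sum, Finset.mul_sum, Finset.sum_mul]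
          apply Finset.sum_congr rfl
          intro χ _
          ring
      _ = ∑ χ ∈ BF, (Nat.card G : ℂ)⁻¹ * ((χ : G → ℂ) 1 *
            ∑ n : N, conj ((χ : G → ℂ) n) * (θ : N → ℂ) n) := by
          rw [Finset.sum_comm]
          apply Finset.sum_congr rfl
          intro χ _
          rw [Finset.mul_sum, Finset.mul_sum]
      _ = (Nat.card G : ℂ)⁻¹ * (Nat.card N : ℂ) * ∑ χ ∈ BF, (χ : G → ℂ) 1 * conj (m χ) := by
          rw [Finset.mul_sum]
          apply Finset.sum_congr rfl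
          intro χ _
          rw [hconjm χ]
          ring
  -- key identity 2 : Clifford
  have key2 : ∀ χ : IrrCharacter G, (χ : G → ℂ) 1 * conj (m χ) * ((idx : ℂ) * (dθ : ℂ)) =
      if m χ ≠ 0 then ((charDegree (χ : G → ℂ) ^ 2 : ℕ) : ℂ) else 0 := by
    intro χ
    by_cases h0 : m χ = 0
    · simp [h0]
    · rw [if_pos h0]
      have hcd := clifford_degree N χ.2 θ.2 h0
      rw [hθ1] at hcd
      have hχ1 : (χ : G → ℂ) 1 = (charDegree (χ : G → ℂ) : ℂ) := irr_apply_one_eq_charDegree χ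
      have hmeq : m χ = (charDegree (χ : G → ℂ) : ℂ) / ((idx : ℂ) * (dθ : ℂ)) := by
        rw [eq_div_iff (mul_ne_zero hidx0 hdθ0), ← hχ1, hcd]
        simp only [hm, hidx]
        ring
      rw [hmeq, hχ1]
      simp only [map_div₀, map_mul, map_natCast]
      push_cast
      field_simp
  -- key identity 3
  have key3 : ∑ n : N, a n * (θ : N → ℂ) n = omega (θ : N → ℂ) a * (dθ : ℂ) := by
    unfold omega
    rw [hθ1, div_mul_cancel₀ _ hdθ0]
  -- the set X of characters of B over θ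
  set X : Finset (IrrCharacter G) := BF.filter (fun χ => m χ ≠ 0) with hX
  have hcard : (Nat.card N : ℂ) * (N.index : ℂ) = (Nat.card G : ℂ) := by
    have := N.card_mul_index
    exact_mod_cast this
  have hN0 : (Nat.card N : ℂ) ≠ 0 := by
    have : Nat.card N ≠ 0 := Nat.card_pos.ne'
    exact_mod_cast this
  have hG0 : (Nat.card G : ℂ) ≠ 0 := by
    have : Nat.card G ≠ 0 := Nat.card_pos.ne'
    exact_mod_cast this
  have hI0 : (N.index : ℂ) ≠ 0 := by
    have : N.index ≠ 0 := Subgroup.index_ne_zero_of_finite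
    exact_mod_cast this
  have hsumX : ((∑ χ ∈ X, charDegree (χ : G → ℂ) ^ 2 : ℕ) : ℂ) =
      (N.index : ℂ) * (((idx * dθ * dθ : ℕ) : ℂ) * omega (θ : N → ℂ) a) := by
    have e1 : ((∑ χ ∈ X, charDegree (χ : G → ℂ) ^ 2 : ℕ) : ℂ) =
        ∑ χ ∈ BF, (χ : G → ℂ) 1 * conj (m χ) * ((idx : ℂ) * (dθ : ℂ)) := by
      rw [Nat.cast_sum, hX, Finset.sum_filter]
      apply Finset.sum_congr rfl
      intro χ _
      rw [key2 χ]
    rw [e1, ← Finset.sum_mul]
    have e2 : ∑ χ ∈ BF, (χ : G → ℂ) 1 * conj (m χ) =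
        (N.index : ℂ) * (omega (θ : N → ℂ) a * (dθ : ℂ)) := by
      rw [← key3, key1, ← hcard]
      field_simp
    rw [e2]
    push_cast
    ring
  have hdvd : p ∣ ∑ χ ∈ X, charDegree (χ : G → ℂ) ^ 2 := by
    rw [← memLocalIdeal_natCast_iff hM, hsumX]
    exact memLocalIdeal_mul_right hMp ((memLocalIdeal_natCast_iff hM _).mpr hpidx)
      (memLocalRing_mul hMp (memLocalRing_natCast hMp _) hs)
  have hfin := count_of_dvd_sum_sq p (Fact.out : p.Prime) X
    (fun χ => charDegree (χ : G → ℂ)) hdvd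
  have hcount : Nat.card {χ : Cfsg.IrrCharacter G // χ ∈ blockOf M (χ₀ : G → ℂ) ∧
      ¬ p ∣ Cfsg.charDegree (χ : G → ℂ) ∧
      Cfsg.classInner (fun n : N => (χ : G → ℂ) n) (θ : N → ℂ) ≠ 0} =
      (X.filter fun χ : IrrCharacter G => ¬ p ∣ charDegree (χ : G → ℂ)).card := by
    rw [Nat.card_eq_fintype_card, Fintype.card_subtype]
    refine congrArg Finset.card ?_
    ext χ
    simp only [hX, hBF, hm, Finset.mem_filter, Finset.mem_univ, true_and]
    tauto
  rw [hcount]
  exact hfin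

end Cfsg.Agent.S4825
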