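import Cfsg.Statements.S4828
import Cfsg.Agent.Lib.Helper52.MaxPairCrit
import Cfsg.Agent.Lib.Helper16.NormalDefect

set_option autoImplicit false
open Cfsg

namespace Cfsg.Agent.S4828

/-- Let p be a prime, M a maximal ideal of the algebraic integers containing p, and (Q, e) a Brauer pair of the finite group G (Q a p-subgroup, e a block of C_G(Q)). Then (Q, e) is a maximal Brauer pair of some block of G if and only if e contains an irreducible character θ such that θ takes the value θ(1) at every element of Z(Q) = Q ∩ C_G(Q), the p-part of θ(1) times the p-part of the order of Z(Q) equals the p-part of the order of C_G(Q) (θ has defect zero as a character of C_G(Q)/Z(Q)), and every element of N_G(Q) of p-power order that stabilizes e lies in Q·C_G(Q) (the stabilizer of e in N_G(Q) has index prime to p over Q·C_G(Q)). -/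
theorem result {G : Type*} [Group G] [Finite G] (p : ℕ) [Fact p.Prime] (M : Ideal Cfsg.AlgInt) (hM : Cfsg.IsPModular p M) (Q : Subgroup G) (e : Set (Cfsg.IrrCharacter (Subgroup.centralizer (Q : Set G)))) (he : Cfsg.IsBrauerPair p M Q e) :
    (∃ B : Set (Cfsg.IrrCharacter G), Cfsg.IsMaximalBrauerPair p M B Q e) ↔
      ∃ θ ∈ e, (∀ z : Subgroup.centralizer (Q : Set G), (z : G) ∈ Q → (θ : Subgroup.centralizer (Q : Set G) → ℂ) z = (θ : Subgroup.centralizer (Q : Set G) → ℂ) 1) ∧
        (Cfsg.charDegree (θ : Subgroup.centralizer (Q : Set G) → ℂ)).factorization p + (Nat.card ↥(Q ⊓ Subgroup.centralizer (Q : Set G))).factorization p = (Nat.card (Subgroup.centralizer (Q : Set G))).factorization p ∧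
        (∀ g : G, g ∈ Subgroup.normalizer (Q : Set G) → Cfsg.StabilizesBlock (Subgroup.centralizer (Q : Set G)) e g → (∃ k : ℕ, orderOf g = p ^ k) → g ∈ Q ⊔ Subgroup.centralizer (Q : Set G)) := by
  classical
  have := Fintype.ofFinite G
  constructor
  · rintro ⟨B, hmax⟩
    obtain ⟨hdef, hst⟩ := Cfsg.Agent.Lib.Helper52.MaxPairCrit.forward hM hmax
    haveI hZn : ((Q ⊓ Subgroup.centralizer (Q : Set G)).subgroupOf
        (Subgroup.centralizer (Q : Set G))).Normal := by
      refine ⟨fun z hz g => ?_⟩
      have hzQ : (z : G) ∈ Q := (Subgroup.mem_inf.mp (Subgroup.mem_subgroupOf.mp hz)).1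
      have hcomm : (g : G) * (z : G) = (z : G) * (g : G) :=
        ((Subgroup.mem_centralizer_iff.mp g.2) (z : G) hzQ).symm
      have h2 : g * z * g⁻¹ = z := by
        apply Subtype.ext
        show (g : G) * (z : G) * (g : G)⁻¹ = (z : G)
        rw [hcomm]; group
      rw [h2]; exact hz
    obtain ⟨ξ, hξ, hker, hdeg⟩ := Cfsg.Agent.Lib.Helper16.exists_ker_height_zero p M hM _ e
      he.2 hdef
    refine ⟨ξ, hξ, fun z hz => hker z (Subgroup.mem_subgroupOf.mpr
      (Subgroup.mem_inf.mpr ⟨hz, z.2⟩)), ?_, hst⟩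
    have hcardZ : Nat.card ((Q ⊓ Subgroup.centralizer (Q : Set G)).subgroupOf
        (Subgroup.centralizer (Q : Set G))) =
        Nat.card ↥(Q ⊓ Subgroup.centralizer (Q : Set G)) :=
      Nat.card_congr (Subgroup.subgroupOfEquivOfLe
        (inf_le_right : Q ⊓ Subgroup.centralizer (Q : Set G) ≤ _)).toEquiv
    rw [← hcardZ]
    exact hdeg
  · rintro ⟨θ, hθ, h1, h2, h3⟩
    exact Cfsg.Agent.Lib.Helper52.MaxPairCrit.backward hM he θ hθ h1 h2 h3

end Cfsg.Agent.S4828
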