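import Cfsg.Statements.S4835
import Cfsg.Agent.Lib.Helper80.Gagola3

set_option autoImplicit false
open Cfsg

namespace Cfsg.Agent.S4835

/-- Let G be a finite group of order greater than 2 with an irreducible character χ that is nonzero on exactly two conjugacy classes. Then G has a unique minimal normal subgroup N; N is an elementary abelian p-group for some prime p; χ is nonzero exactly at the elements of N; and any two nonidentity elements of N are conjugate in G. -/
theorem result {G : Type*} [Group G] [Finite G] (hG : 2 < Nat.card G) (χ : Cfsg.IrrCharacter G) (hχ : Nat.card {C : ConjClasses G // ∃ g ∈ C.carrier, (χ : G → ℂ) g ≠ 0} = 2) :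
    ∃ N : Subgroup G, N.Normal ∧ N ≠ ⊥ ∧ (∀ K : Subgroup G, K.Normal → K ≠ ⊥ → N ≤ K) ∧
      (∃ p : ℕ, p.Prime ∧ Cfsg.IsElementaryAbelian p N) ∧
      (∀ g : G, (χ : G → ℂ) g ≠ 0 ↔ g ∈ N) ∧
      (∀ x ∈ N, ∀ y ∈ N, x ≠ 1 → y ≠ 1 → ∃ g : G, g * x * g⁻¹ = y) := by
  obtain ⟨c, N, hc1, hc, hNn, hN, hsupp, hker, _⟩ :=
    Cfsg.Agent.Lib.Helper80.gagola_subgroup hG χ hχ
  have hcN : c ∈ N := (hN c).mpr (Or.inr (IsConj.refl c))
  refine ⟨N, hNn, ?_, ?_, ?_, hsupp, ?_⟩
  · intro h
    rw [h, Subgroup.mem_bot] at hcN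
    exact hc1 hcN
  · intro K hKn hK
    have hcK : c ∈ K := by
      by_contra hcK
      obtain ⟨ψ, hψK, hψc⟩ := Cfsg.Agent.Lib.Helper80.exists_good_char_ne K c hcK
      have hψχ : ψ = χ := by
        by_contra hne
        exact hψc (hker ψ hne c hcN)
      apply hK
      rw [Subgroup.eq_bot_iff_forall]
      intro x hx
      apply Cfsg.Agent.Lib.Helper80.gagola_faithful hG χ hχ x
      rw [← hψχ]
      exact hψK x hx
    intro g hg
    rcases (hN g).mp hg with h | h
    · rw [h]; exact K.one_mem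
    · obtain ⟨d, hd⟩ := isConj_iff.mp h
      rw [← hd]
      exact hKn.conj_mem c hcK d
  · exact Cfsg.Agent.Lib.Helper80.gagola_elementary_abelian c hc1 N hN
  · intro x hx y hy hx1 hy1
    exact Cfsg.Agent.Lib.Helper80.gagola_conj c N hN x y hx hy hx1 hy1

end Cfsg.Agent.S4835
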