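import Cfsg.Statements.S4837
import Cfsg.Agent.Lib.Helper80.Gagola5

set_option autoImplicit false
open Cfsg

namespace Cfsg.Agent.S4837

/-- Let G be a finite group of order greater than 2 with an irreducible character χ nonzero on exactly two conjugacy classes, and let N be the set of elements where χ is nonzero, given as a nontrivial normal p-subgroup of G for the prime p. Then for every nonidentity x in N the centralizer C_G(x) is a Sylow p-subgroup of G, and for every irreducible character λ ≠ 1 of N the stabilizer of λ in G (its inertia group) is a Sylow p-subgroup of G. -/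
theorem result {G : Type*} [Group G] [Finite G] (hG : 2 < Nat.card G) (χ : Cfsg.IrrCharacter G) (hχ : Nat.card {C : ConjClasses G // ∃ g ∈ C.carrier, (χ : G → ℂ) g ≠ 0} = 2) (p : ℕ) [Fact p.Prime] (N : Subgroup G) [N.Normal] (hN : ∀ g : G, g ∈ N ↔ (χ : G → ℂ) g ≠ 0) (hNp : IsPGroup p N) (hN1 : N ≠ ⊥) :
    (∀ x ∈ N, x ≠ 1 → ∃ P : Sylow p G, Subgroup.centralizer ({x} : Set G) = P) ∧
      (∀ μ : Cfsg.IrrCharacter N, (μ : N → ℂ) ≠ (fun _ => (1 : ℂ)) → ∃ P : Sylow p G, ∀ g : G, g ∈ (P : Subgroup G) ↔ ∀ n n' : N, (n' : G) = g * n * g⁻¹ → (μ : N → ℂ) n' = (μ : N → ℂ) n) := by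
  classical
  constructor
  · intro x hx hx1
    have hcard := Cfsg.Agent.Lib.Helper80.gagola_centralizer_sylow hG χ hχ p N hN hNp hN1 x hx hx1
    exact ⟨Sylow.ofCard (Subgroup.centralizer ({x} : Set G)) hcard, rfl⟩
  · intro μ hμ
    have hcard := Cfsg.Agent.Lib.Helper80.gagola_inertia_card hG χ hχ p N hN hNp hN1 μ hμ
    refine ⟨Sylow.ofCard _ hcard, ?_⟩
    intro g
    let _ := Cfsg.Agent.Lib.Helper80.irrConjAction N
    show g ∈ ((Sylow.ofCard _ hcard : Sylow p G) : Subgroup G) ↔ _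
    rw [Sylow.coe_ofCard]
    rw [MulAction.mem_stabilizer_iff]
    have hsmul : ((g • μ : Cfsg.IrrCharacter N) : N → ℂ) =
        Cfsg.Agent.Lib.Helper75.conjFun N g⁻¹ (μ : N → ℂ) := rfl
    constructor
    · intro h n n' hn'
      have h1 : ((g • μ : Cfsg.IrrCharacter N) : N → ℂ) n' = (μ : N → ℂ) n' := by rw [h]
      rw [hsmul, Cfsg.Agent.Lib.Helper75.conjFun_apply] at h1
      rw [← h1]
      have e : (⟨g⁻¹ * (n' : G) * g⁻¹⁻¹, ‹N.Normal›.conj_mem n' n'.2 g⁻¹⟩ : N) = n := by
        apply Subtype.ext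
        simp only [hn']
        group
      rw [e]
    · intro h
      apply Subtype.ext
      rw [hsmul]
      funext n
      rw [Cfsg.Agent.Lib.Helper75.conjFun_apply]
      have hmem : g⁻¹ * (n : G) * g⁻¹⁻¹ ∈ N := ‹N.Normal›.conj_mem n n.2 g⁻¹
      have := h ⟨g⁻¹ * (n : G) * g⁻¹⁻¹, hmem⟩ n (by simp only []; group)
      exact this.symm

end Cfsg.Agent.S4837
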