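import Cfsg.Statements.S4843
import Cfsg.Agent.Lib.Helper39.GalProdA
import Cfsg.Agent.Lib.Helper39.GalProdB
import Cfsg.Agent.Lib.Helper81.OneIrr

set_option autoImplicit false
open Cfsg

namespace Cfsg.Agent.S4843

open Cfsg.Agent.Lib.Helper3 Cfsg.Agent.Lib.Helper39.GalProd
open scoped ComplexConjugate

section Aux

universe u

variable {G : Type u} [Group G] [Fintype G]

/-- The character-theoretic contradiction: `χ conj χ = α + β` with `α` invariant under the
`k`-th power map, containing the trivial character, of degree `≠ 1`, is incompatible with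
`χ · χ^(k)` irreducible. -/
theorem false_of_sub_character {χ : G → ℂ} (hχ : IsIrrCharacter G χ) (k : ℕ)
    (hk : Nat.Coprime k (Nat.card G)) (hirr : IsIrrCharacter G (fun g => χ g * χ (g ^ k)))
    {α β : G → ℂ} (hα : IsCharacter G α) (hβ : IsCharacter G β)
    (hsum : ∀ g, α g + β g = χ g⁻¹ * χ g) (hpow : ∀ g, α (g ^ k) = α g)
    (hone : classInner α (fun _ => (1 : ℂ)) = 1) (hdeg : α 1 ≠ 1) : False := by
  classical
  have hχc : IsCharacter G χ := IsIrrCharacter.isCharacter hχ
  have hβk : IsCharacter G (fun g => β (g ^ k)) :=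
    Cfsg.Agent.Lib.Helper75.isCharacter_pow hβ k hk
  -- norm of α is at least two
  obtain ⟨m, hm⟩ := Cfsg.Agent.Lib.Helper15.exists_nat_classInner hα hα
  have hm2 : 2 ≤ m := by
    by_contra hlt
    have hm01 : m = 0 ∨ m = 1 := by omega
    rcases hm01 with h0 | h1
    · -- α = 0
      have hα0 : ∀ g, α g = 0 := by
        intro g
        by_contra hg
        have := Cfsg.Agent.Lib.Helper75.classInner_self_ne_zero (f := α) (g := g) hg
        rw [hm, h0] at this
        simp at this
      have : classInner α (fun _ => (1 : ℂ)) = 0 := by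
        have : α = 0 := funext hα0
        rw [this, classInner_zero_left]
      rw [this] at hone
      exact zero_ne_one hone
    · have hαirr : IsIrrCharacter G α :=
        isIrrCharacter_of_classInner_self_eq_one hα (by rw [hm, h1]; simp)
      have h := classInner_irr hαirr (Cfsg.Agent.Lib.Helper81.isIrrCharacter_one (G := G))
      rw [hone] at h
      by_cases hα1 : α = fun _ => (1 : ℂ)
      · apply hdeg
        rw [hα1]
      · rw [if_neg hα1] at h
        exact one_ne_zero h
  -- the inner product of ψ and ψ^(k)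
  have h1 : classInner (α + β) (α + fun g => β (g ^ k)) = 1 := by
    have hirr1 := classInner_irr hirr hirr
    rw [if_pos rfl] at hirr1
    rw [← hirr1]
    unfold classInner
    congr 1
    apply Finset.sum_congr rfl
    intro g _
    simp only [Pi.add_apply]
    have e1 : α g + β g = conj (χ g) * χ g := by
      rw [hsum g, IsCharacter.inv hχc]
    have e2 : α g + β (g ^ k) = conj (χ (g ^ k)) * χ (g ^ k) := by
      rw [← hpow g, hsum (g ^ k), IsCharacter.inv hχc]
    rw [e1, e2]
    simp only [map_mul, Complex.conj_conj]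
    ring
  rw [classInner_add_left, classInner_add_right, classInner_add_right] at h1
  obtain ⟨n2, hn2⟩ := Cfsg.Agent.Lib.Helper15.exists_nat_classInner hα hβk
  obtain ⟨n3, hn3⟩ := Cfsg.Agent.Lib.Helper15.exists_nat_classInner hβ hα
  obtain ⟨n4, hn4⟩ := Cfsg.Agent.Lib.Helper15.exists_nat_classInner hβ hβk
  rw [hm, hn2, hn3, hn4] at h1
  have : m + n2 + (n3 + n4) = 1 := by exact_mod_cast h1
  omega

/-- Under the hypotheses, every nilpotent normal subgroup is central. -/
theorem le_center_of_nilpotent {χ : G → ℂ} (hχ : IsIrrCharacter G χ)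
    (hfaith : ∀ g : G, χ g = χ 1 → g = 1) (k : ℕ)
    (hk : Nat.Coprime k (Nat.card G)) (hirr : IsIrrCharacter G (fun g => χ g * χ (g ^ k)))
    (N : Subgroup G) [hN : N.Normal] (hnil : Group.IsNilpotent N) :
    N ≤ Subgroup.center G := by
  classical
  by_contra hnot
  obtain ⟨x₁, hx₁N, hx₁c⟩ := SetLike.not_le_iff_exists.mp hnot
  -- the centre of N is central in G
  have hZN : N ⊓ Subgroup.centralizer (N : Set G) ≤ Subgroup.center G := by
    apply le_center_of_mul_pow_irr hχ hfaith k hk hirr
    intro a ha b hb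
    have hb2 := (Subgroup.mem_inf.mp hb).2
    rw [Subgroup.mem_centralizer_iff] at hb2
    exact hb2 a (Subgroup.mem_inf.mp ha).1
  -- the image of N modulo the centre of G
  let π := QuotientGroup.mk' (Subgroup.center G)
  haveI hNbar : (N.map π).Normal := Subgroup.Normal.map hN π (QuotientGroup.mk'_surjective _)
  haveI : Group.IsNilpotent (N.map π) :=
    Group.nilpotent_of_surjective (π.subgroupMap N) (π.subgroupMap_surjective N)
  haveI : Nontrivial (N.map π) := by
    refine ⟨⟨⟨π x₁, Subgroup.mem_map_of_mem π hx₁N⟩, 1, ?_⟩⟩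
    intro h
    have h1 : π x₁ = 1 := congrArg Subtype.val h
    exact hx₁c ((QuotientGroup.eq_one_iff x₁).mp h1)
  have hcne := Group.IsNilpotent.center_ne_bot (G := N.map π)
  obtain ⟨zb, hzb⟩ := (Subgroup.ne_bot_iff_exists_ne_one).mp hcne
  obtain ⟨x₀, hx₀N, hx₀⟩ := Subgroup.mem_map.mp zb.1.2
  have hx₀c : x₀ ∉ Subgroup.center G := by
    intro hc
    apply hzb
    have h1 : π x₀ = 1 := (QuotientGroup.eq_one_iff x₀).mpr hc
    apply Subtype.ext
    apply Subtype.ext
    rw [← hx₀, h1]
    rfl
  have hx₀comm : ∀ y ∈ N, π y * π x₀ = π x₀ * π y := by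
    intro y hy
    have h1 := (Subgroup.mem_center_iff.mp zb.2) ⟨π y, Subgroup.mem_map_of_mem π hy⟩
    have h2 := congrArg Subtype.val h1
    simp only [Subgroup.coe_mul] at h2
    rw [hx₀]
    exact h2
  -- the subgroup M
  set M : Subgroup G :=
    N ⊓ (Subgroup.centralizer ((N.map π : Subgroup (G ⧸ Subgroup.center G)) : Set _)).comap π
    with hMdef
  haveI hMn : M.Normal := by rw [hMdef]; infer_instance
  have hx₀M : x₀ ∈ M := by
    rw [hMdef, Subgroup.mem_inf]
    refine ⟨hx₀N, ?_⟩
    rw [Subgroup.mem_comap, Subgroup.mem_centralizer_iff]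
    intro h hh
    obtain ⟨y, hy, rfl⟩ := Subgroup.mem_map.mp hh
    exact hx₀comm y hy
  letI : Fintype M := Fintype.ofFinite _
  obtain ⟨n, ρ, hρirr, hρχ⟩ := hχ
  have hdeg : ρ.character 1 = (n : ℂ) := by
    rw [Representation.char_one]; simp
  have hvan : ∀ x ∈ M, x ∉ Subgroup.center G → ρ.character x = 0 := by
    intro x hxM hxc
    rw [hMdef, Subgroup.mem_inf] at hxM
    obtain ⟨hxN, hxπ⟩ := hxM
    rw [Subgroup.mem_comap, Subgroup.mem_centralizer_iff] at hxπ
    by_cases hall : ∀ y ∈ N, y * x = x * y
    · exfalso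
      apply hxc
      apply hZN
      rw [Subgroup.mem_inf, Subgroup.mem_centralizer_iff]
      exact ⟨hxN, hall⟩
    · push Not at hall
      obtain ⟨y, hyN, hyx⟩ := hall
      have hzc : y * x * y⁻¹ * x⁻¹ ∈ Subgroup.center G := by
        rw [← QuotientGroup.eq_one_iff]
        have h1 := hxπ (π y) (Subgroup.mem_map_of_mem π hyN)
        have : ((y * x * y⁻¹ * x⁻¹ : G) : G ⧸ Subgroup.center G) = π y * π x * (π y)⁻¹ * (π x)⁻¹ := rfl
        rw [this, h1]
        group
      have hz1 : y * x * y⁻¹ * x⁻¹ ≠ 1 := by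
        intro h
        apply hyx
        have : y * x * y⁻¹ * x⁻¹ * (x * y) = 1 * (x * y) := by rw [h]
        rw [one_mul] at this
        rw [← this]
        group
      have h1 : ρ.character x = ρ.character (y * x * y⁻¹ * x⁻¹ * x) := by
        have : y * x * y⁻¹ * x⁻¹ * x = y * x * y⁻¹ := by group
        rw [this, Representation.char_conj]
      have h2 := char_central_mul hρirr hzc x
      rw [← h1] at h2
      have h3 : ρ.character (y * x * y⁻¹ * x⁻¹) ≠ (n : ℂ) := by
        intro h
        apply hz1
        apply hfaith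
        rw [← hρχ, h, hdeg]
      have h4 : ((n : ℂ) - ρ.character (y * x * y⁻¹ * x⁻¹)) * ρ.character x = 0 := by
        linear_combination h2
      rcases mul_eq_zero.mp h4 with h | h
      · exact absurd (sub_eq_zero.mp h).symm h3
      · exact h
  obtain ⟨α, β, hα, hβ, hsum, hpow, hone, hdeg1⟩ :=
    exists_sub_character M hρirr hvan ⟨x₀, hx₀M, hx₀c⟩ k hk
  have hχ' : IsIrrCharacter G χ := ⟨n, ρ, hρirr, hρχ⟩
  refine false_of_sub_character hχ' k hk hirr hα hβ ?_ hpow hone hdeg1
  intro g
  rw [hsum g, hρχ]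

end Aux

/-- Let G be a finite group with a faithful irreducible character χ (taking the value χ(1) only at the identity) and let k be prime to the order of G, so that g ↦ χ(g^k) is a Galois conjugate of χ. If the pointwise product g ↦ χ(g)·χ(g^k) is again an irreducible character, then the Fitting subgroup of G equals its centre. -/
theorem result {G : Type*} [Group G] [Finite G] (χ : Cfsg.IrrCharacter G) (hfaith : ∀ g : G, (χ : G → ℂ) g = (χ : G → ℂ) 1 → g = 1) (k : ℕ) (hk : Nat.Coprime k (Nat.card G)) (hirr : Cfsg.IsIrrCharacter G (fun g => (χ : G → ℂ) g * (χ : G → ℂ) (g ^ k))) : Cfsg.fittingSubgroup G = Subgroup.center G := by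
  classical
  letI : Fintype G := Fintype.ofFinite G
  apply le_antisymm
  · unfold Cfsg.fittingSubgroup
    apply sSup_le
    rintro N ⟨hNn, hNnil⟩
    haveI := hNn
    exact le_center_of_nilpotent χ.2 hfaith k hk hirr N hNnil
  · unfold Cfsg.fittingSubgroup
    apply le_sSup
    refine ⟨inferInstance, ?_⟩
    letI : CommGroup (Subgroup.center G) :=
      { (inferInstance : Group (Subgroup.center G)) with
        mul_comm := fun a b => Subtype.ext ((Subgroup.mem_center_iff.mp b.2) a) }
    exact CommGroup.isNilpotent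

end Cfsg.Agent.S4843
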