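import Cfsg.Statements.S4859
import Cfsg.Agent.Lib.Helper80.SquareRoots

set_option autoImplicit false
open Cfsg

namespace Cfsg.Agent.S4859

theorem not_square_aux {G : Type*} [Group G] [Finite G] (p : ℕ) [Fact p.Prime] (hp : p ≠ 2) (x : G)
    (hx : ∃ k : ℕ, orderOf x = p ^ k)
    (heven : Even (Nat.card (Subgroup.centralizer ({x} : Set G)))) (y : G)
    (hy : y ∈ Subgroup.centralizer ({x} : Set G)) (hy2 : ∃ k : ℕ, orderOf y = 2 ^ k)
    (hmax : ∀ z ∈ Subgroup.centralizer ({x} : Set G), (∃ k : ℕ, orderOf z = 2 ^ k) →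
      orderOf z ≤ orderOf y) : ¬ ∃ u : G, u * u = x * y := by
  rintro ⟨u, hu⟩
  obtain ⟨k, hk⟩ := hx
  obtain ⟨l, hl⟩ := hy2
  have hxy : Commute x y := by
    have := Subgroup.mem_centralizer_iff.mp hy x (Set.mem_singleton x)
    exact this
  have hpodd : Nat.Coprime p 2 :=
    (Nat.coprime_primes (Fact.out : p.Prime) Nat.prime_two).mpr hp
  have hcop : Nat.Coprime (orderOf y) (orderOf x) := by
    rw [hk, hl]
    exact Nat.Coprime.pow _ _ hpodd.symm
  -- l ≥ 1
  have hl1 : l ≠ 0 := by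
    intro h0
    have h2 : 2 ∣ Nat.card (Subgroup.centralizer ({x} : Set G)) := heven.two_dvd
    obtain ⟨z, hz⟩ := exists_prime_orderOf_dvd_card' 2 h2
    have hz' : orderOf (z : G) = 2 := by rw [Subgroup.orderOf_coe]; exact hz
    have := hmax z z.2 ⟨1, by rw [hz', pow_one]⟩
    rw [hz', hl, h0, pow_zero] at this
    omega
  -- x and y are powers of u * u
  obtain ⟨m, hm⟩ := exists_pow_eq_self_of_coprime hcop
  obtain ⟨m', hm'⟩ := exists_pow_eq_self_of_coprime hcop.symm
  have hxpow : (u * u) ^ (orderOf y * m) = x := by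
    rw [hu, hxy.mul_pow, pow_mul, pow_mul y, pow_orderOf_eq_one, one_pow, mul_one, hm]
  have hypow : (u * u) ^ (orderOf x * m') = y := by
    rw [hu, hxy.mul_pow, pow_mul, pow_orderOf_eq_one, one_pow, one_mul, pow_mul, hm']
  have hux : Commute u x := by
    rw [← hxpow]
    exact ((Commute.refl u).mul_right (Commute.refl u)).pow_right _
  have huC : u ∈ Subgroup.centralizer ({x} : Set G) := by
    rw [Subgroup.mem_centralizer_iff]
    intro h hh
    rw [Set.mem_singleton_iff] at hh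
    rw [hh]
    exact hux.symm
  -- orders
  have hdvd : orderOf y ∣ orderOf (u * u) := by
    rw [← hypow]
    exact orderOf_pow_dvd _
  have huu : u * u = u ^ 2 := (pow_two u).symm
  rw [huu, orderOf_pow u, hl] at hdvd
  have hNpos : 0 < orderOf u := orderOf_pos u
  have h2l : 2 ∣ 2 ^ l := dvd_pow_self 2 hl1
  have hNeven : 2 ∣ orderOf u := by
    have h1 : 2 ∣ orderOf u / Nat.gcd (orderOf u) 2 := h2l.trans hdvd
    exact h1.trans (Nat.div_dvd_of_dvd (Nat.gcd_dvd_left _ _))
  have hgcd : Nat.gcd (orderOf u) 2 = 2 := Nat.gcd_eq_right hNeven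
  rw [hgcd] at hdvd
  have hdvd2 : 2 ^ (l + 1) ∣ orderOf u := by
    obtain ⟨c, hc⟩ := hdvd
    refine ⟨c, ?_⟩
    have := Nat.div_mul_cancel hNeven
    rw [hc] at this
    rw [pow_succ, ← this]
    ring
  obtain ⟨c, hc⟩ := hdvd2
  have hc0 : c ≠ 0 := by
    rintro rfl
    rw [mul_zero] at hc
    omega
  have hw : orderOf (u ^ c) = 2 ^ (l + 1) := by
    rw [orderOf_pow_of_dvd hc0 ⟨2 ^ (l + 1), by rw [hc]; ring⟩, hc]
    exact Nat.mul_div_cancel _ (Nat.pos_of_ne_zero hc0)
  have := hmax (u ^ c) (Subgroup.pow_mem _ huC c) ⟨l + 1, hw⟩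
  rw [hw, hl] at this
  have : 2 ^ l < 2 ^ (l + 1) := Nat.pow_lt_pow_right (by norm_num) (Nat.lt_succ_self l)
  omega

/-- Let p be an odd prime, G a finite group and x an element of G whose order is a power of p (possibly 1) and whose centralizer has even order. Let y be a 2-element of the centralizer of x whose order is largest among the 2-elements of that centralizer. Then x * y is not a square in G, and some non-principal real-valued irreducible character of G does not vanish at x * y. -/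
theorem result {G : Type*} [Group G] [Finite G] (p : ℕ) [Fact p.Prime] (hp : p ≠ 2) (x : G) (hx : ∃ k : ℕ, orderOf x = p ^ k) (heven : Even (Nat.card (Subgroup.centralizer ({x} : Set G)))) (y : G) (hy : y ∈ Subgroup.centralizer ({x} : Set G)) (hy2 : ∃ k : ℕ, orderOf y = 2 ^ k) (hmax : ∀ z ∈ Subgroup.centralizer ({x} : Set G), (∃ k : ℕ, orderOf z = 2 ^ k) → orderOf z ≤ orderOf y) : (¬ ∃ u : G, u * u = x * y) ∧ ∃ χ : Cfsg.IrrCharacter G, ¬ ((χ : G → ℂ) = fun _ => (1 : ℂ)) ∧ (∀ g : G, ((χ : G → ℂ) g).im = 0) ∧ (χ : G → ℂ) (x * y) ≠ 0 := by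
  have := Fintype.ofFinite G
  have h1 := not_square_aux p hp x hx heven y hy hy2 hmax
  exact ⟨h1, Cfsg.Agent.Lib.Helper80.exists_real_irr_of_not_square (x * y) h1⟩

end Cfsg.Agent.S4859
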