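import Cfsg.Statements.S4866
import Cfsg.Agent.Lib.Helper81.Orbits

set_option autoImplicit false
open Cfsg
open Cfsg.Agent.Lib.Helper81
open scoped ComplexConjugate

namespace Cfsg.Agent.S4866

section Aux

universe u
variable {G : Type u} [Group G] (K : Subgroup G) [K.Normal]

/-- The action of `G` on the irreducible characters of the normal subgroup `K`. -/
noncomputable def TG : G →* Equiv.Perm (IrrCharacter ↥K) :=
  (irrTwistHom ↥K).comp MulAut.conjNormal

/-- The action of `G` on the conjugacy classes of the normal subgroup `K`. -/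
noncomputable def CG : G →* Equiv.Perm (ConjClasses ↥K) :=
  (classMapHom ↥K).comp MulAut.conjNormal

theorem TG_apply (g : G) (θ : IrrCharacter ↥K) (x : ↥K) :
    ((TG K g θ : IrrCharacter ↥K) : ↥K → ℂ) x =
      (θ : ↥K → ℂ) ((MulAut.conjNormal g : MulAut ↥K).symm x) := rfl

theorem CG_mk (g : G) (k : ↥K) :
    CG K g (ConjClasses.mk k) = ConjClasses.mk ((MulAut.conjNormal g : MulAut ↥K) k) := rfl

theorem TG_of_mem {x : G} (hx : x ∈ K) : TG K x = 1 := by
  have : (MulAut.conjNormal x : MulAut ↥K) = MulAut.conj (⟨x, hx⟩ : ↥K) :=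
    MulAut.conjNormal_val (h := (⟨x, hx⟩ : ↥K))
  change irrTwist (MulAut.conjNormal x : MulAut ↥K) = 1
  rw [this, irrTwist_conj]

theorem CG_of_mem {x : G} (hx : x ∈ K) : CG K x = 1 := by
  have : (MulAut.conjNormal x : MulAut ↥K) = MulAut.conj (⟨x, hx⟩ : ↥K) :=
    MulAut.conjNormal_val (h := (⟨x, hx⟩ : ↥K))
  change classMap (MulAut.conjNormal x : MulAut ↥K) = 1
  rw [this, classMap_conj]

theorem TG_pow_index (g : G) : (TG K g) ^ K.index = 1 := by
  rw [← map_pow]
  exact TG_of_mem K (K.pow_index_mem g)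

theorem CG_pow_index (g : G) : (CG K g) ^ K.index = 1 := by
  rw [← map_pow]
  exact CG_of_mem K (K.pow_index_mem g)

theorem irrConj_TG (g : G) : irrConj ↥K * TG K g = TG K g * irrConj ↥K :=
  irrConj_mul_irrTwist _

theorem classInv_CG (g : G) : classInv ↥K * CG K g = CG K g * classInv ↥K :=
  classInv_mul_classMap _

theorem pX_inv (g : G) (θ : IrrCharacter ↥K) :
    irrConj ↥K (TG K g θ) = TG K g θ ↔ irrConj ↥K θ = θ := by
  have h : irrConj ↥K (TG K g θ) = TG K g (irrConj ↥K θ) := by
    have := congrArg (fun f : Equiv.Perm (IrrCharacter ↥K) => f θ) (irrConj_TG K g)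
    simpa only [Equiv.Perm.mul_apply] using this
  rw [h]
  exact (TG K g).injective.eq_iff

theorem pC_inv (g : G) (C : ConjClasses ↥K) :
    classInv ↥K (CG K g C) = CG K g C ↔ classInv ↥K C = C := by
  have h : classInv ↥K (CG K g C) = CG K g (classInv ↥K C) := by
    have := congrArg (fun f : Equiv.Perm (ConjClasses ↥K) => f C) (classInv_CG K g)
    simpa only [Equiv.Perm.mul_apply] using this
  rw [h]
  exact (CG K g).injective.eq_iff

/-- The action on real characters. -/
noncomputable def φX : G →* Equiv.Perm {θ : IrrCharacter ↥K // irrConj ↥K θ = θ} :=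
  restrictHom (TG K) (fun θ => irrConj ↥K θ = θ) (pX_inv K)

/-- The action on real classes. -/
noncomputable def ψC : G →* Equiv.Perm {C : ConjClasses ↥K // classInv ↥K C = C} :=
  restrictHom (CG K) (fun C => classInv ↥K C = C) (pC_inv K)

theorem compat [Finite G] (g : G) (χ : IrrCharacter ↥K) (C : ConjClasses ↥K) :
    irrAt ((irrConj ↥K * TG K g) χ) ((classInv ↥K * CG K g) C) = irrAt χ C := by
  obtain ⟨k, rfl⟩ := ConjClasses.exists_rep C
  rw [Equiv.Perm.mul_apply, Equiv.Perm.mul_apply, CG_mk, classInv_mk, irrAt_mk, irrAt_mk,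
    irrConj_apply, TG_apply, map_inv, MulEquiv.symm_apply_apply, irr_inv_eq_conj,
    Complex.conj_conj]

theorem card_fixed_eq [Finite G] (hodd : Odd K.index) (g : G) :
    Nat.card {a : {θ : IrrCharacter ↥K // irrConj ↥K θ = θ} // φX K g a = a} =
      Nat.card {b : {C : ConjClasses ↥K // classInv ↥K C = C} // ψC K g b = b} := by
  have hB := brauer_permutation (G := ↥K) (irrConj ↥K * TG K g) (classInv ↥K * CG K g)
    (compat K g)
  have e1 : {a : {θ : IrrCharacter ↥K // irrConj ↥K θ = θ} // φX K g a = a} ≃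
      {θ : IrrCharacter ↥K // (irrConj ↥K * TG K g) θ = θ} :=
    { toFun := fun a => ⟨a.1.1, (fixed_mul_iff _ _ (irrConj_TG K g) irrConj_mul_self hodd
        (TG_pow_index K g) a.1.1).2 ⟨a.1.2, congrArg Subtype.val a.2⟩⟩
      invFun := fun θ =>
        have h := (fixed_mul_iff _ _ (irrConj_TG K g) irrConj_mul_self hodd
          (TG_pow_index K g) θ.1).1 θ.2
        ⟨⟨θ.1, h.1⟩, Subtype.ext h.2⟩
      left_inv := fun a => rfl
      right_inv := fun θ => rfl }
  have e2 : {b : {C : ConjClasses ↥K // classInv ↥K C = C} // ψC K g b = b} ≃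
      {C : ConjClasses ↥K // (classInv ↥K * CG K g) C = C} :=
    { toFun := fun b => ⟨b.1.1, (fixed_mul_iff _ _ (classInv_CG K g) classInv_mul_self hodd
        (CG_pow_index K g) b.1.1).2 ⟨b.1.2, congrArg Subtype.val b.2⟩⟩
      invFun := fun C =>
        have h := (fixed_mul_iff _ _ (classInv_CG K g) classInv_mul_self hodd
          (CG_pow_index K g) C.1).1 C.2
        ⟨⟨C.1, h.1⟩, Subtype.ext h.2⟩
      left_inv := fun b => rfl
      right_inv := fun C => rfl }
  rw [Nat.card_congr e1, Nat.card_congr e2]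
  exact hB


theorem lhs_link :
    Nat.card (Quot (fun θ η : {θ : Cfsg.IrrCharacter ↥K // (∀ k : ↥K, ((θ : ↥K → ℂ) k).im = 0)} =>
      ∃ g : G, ∀ k k' : ↥K, (k' : G) = g * (k : G) * g⁻¹ →
        (η.1 : ↥K → ℂ) k' = (θ.1 : ↥K → ℂ) k)) =
    Nat.card (Quot (fun a a' : {θ : IrrCharacter ↥K // irrConj ↥K θ = θ} =>
      ∃ g : G, φX K g a = a')) := by
  apply card_quot_eq_of_surjective _ _ (orbitRel_equivalence (φX K))
    (fun θ => (⟨θ.1, (irrConj_eq_self_iff θ.1).2 θ.2⟩ :
      {θ : IrrCharacter ↥K // irrConj ↥K θ = θ}))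
  · intro a
    exact ⟨⟨a.1, (irrConj_eq_self_iff a.1).1 a.2⟩, rfl⟩
  · intro θ η
    constructor
    · rintro ⟨g, hg⟩
      refine ⟨g, ?_⟩
      apply Subtype.ext
      apply Subtype.ext
      funext x
      change (θ.1 : ↥K → ℂ) ((MulAut.conjNormal g : MulAut ↥K).symm x) = (η.1 : ↥K → ℂ) x
      symm
      apply hg
      rw [MulAut.conjNormal_symm_apply]
      group
    · rintro ⟨g, hg⟩
      refine ⟨g, ?_⟩
      intro k k' hk
      have h1 := congrFun (congrArg Subtype.val (congrArg Subtype.val hg)) k'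
      change (θ.1 : ↥K → ℂ) ((MulAut.conjNormal g : MulAut ↥K).symm k') = (η.1 : ↥K → ℂ) k' at h1
      have hk2 : (MulAut.conjNormal g : MulAut ↥K).symm k' = k := by
        apply Subtype.ext
        rw [MulAut.conjNormal_symm_apply, hk]
        group
      rw [← h1, hk2]

theorem rhs_link :
    Nat.card (Quot (fun x y : {x : ↥K // IsConj x x⁻¹} => ∃ g : G, (y.1 : G) = g * x.1 * g⁻¹)) =
    Nat.card (Quot (fun b b' : {C : ConjClasses ↥K // classInv ↥K C = C} =>
      ∃ g : G, ψC K g b = b')) := by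
  apply card_quot_eq_of_surjective _ _ (orbitRel_equivalence (ψC K))
    (fun x => (⟨ConjClasses.mk x.1, by
      rw [classInv_mk, ConjClasses.mk_eq_mk_iff_isConj]; exact x.2.symm⟩ :
      {C : ConjClasses ↥K // classInv ↥K C = C}))
  · rintro ⟨C, hC⟩
    obtain ⟨k, rfl⟩ := ConjClasses.exists_rep C
    refine ⟨⟨k, ?_⟩, rfl⟩
    rw [classInv_mk, ConjClasses.mk_eq_mk_iff_isConj] at hC
    exact hC.symm
  · intro x y
    constructor
    · rintro ⟨g, hg⟩
      refine ⟨g, ?_⟩
      apply Subtype.ext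
      change ConjClasses.mk ((MulAut.conjNormal g : MulAut ↥K) x.1) = ConjClasses.mk y.1
      congr 1
      apply Subtype.ext
      rw [MulAut.conjNormal_apply, hg]
    · rintro ⟨g, hg⟩
      have h1 := congrArg Subtype.val hg
      change ConjClasses.mk ((MulAut.conjNormal g : MulAut ↥K) x.1) = ConjClasses.mk y.1 at h1
      rw [ConjClasses.mk_eq_mk_iff_isConj, isConj_iff] at h1
      obtain ⟨c, hc⟩ := h1
      refine ⟨(c : G) * g, ?_⟩
      have h2 := congrArg Subtype.val hc
      simp only [Subgroup.coe_mul, Subgroup.coe_inv, MulAut.conjNormal_apply] at h2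
      rw [← h2]
      group

theorem main [Finite G] (hodd : Odd K.index) :
    Nat.card (Quot (fun θ η : {θ : Cfsg.IrrCharacter ↥K // (∀ k : ↥K, ((θ : ↥K → ℂ) k).im = 0)} =>
      ∃ g : G, ∀ k k' : ↥K, (k' : G) = g * (k : G) * g⁻¹ →
        (η.1 : ↥K → ℂ) k' = (θ.1 : ↥K → ℂ) k)) =
    Nat.card (Quot (fun x y : {x : ↥K // IsConj x x⁻¹} =>
      ∃ g : G, (y.1 : G) = g * x.1 * g⁻¹)) := by
  have := finite_irrCharacter (G := ↥K)
  rw [lhs_link, rhs_link]
  exact card_quot_eq_of_card_fixed_eq (φX K) (ψC K) (card_fixed_eq K hodd)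

end Aux

/-- Let K be a normal subgroup of odd index in the finite group G. Then G has as many orbits on the real-valued irreducible complex characters of K (acting by conjugation) as it has orbits on the conjugacy classes of K that are real in K; equivalently, the number of G-orbits of real-valued irreducible characters of K equals the number of G-conjugacy classes of elements of K that are conjugate in K to their inverses. -/
theorem result {G : Type*} [Group G] [Finite G] (K : Subgroup G) [K.Normal] (hodd : Odd K.index) : Nat.card (Quot (fun θ η : {θ : Cfsg.IrrCharacter ↥K // (∀ k : ↥K, ((θ : ↥K → ℂ) k).im = 0)} => ∃ g : G, ∀ k k' : ↥K, (k' : G) = g * (k : G) * g⁻¹ → (η.1 : ↥K → ℂ) k' = (θ.1 : ↥K → ℂ) k)) = Nat.card (Quot (fun x y : {x : ↥K // IsConj x x⁻¹} => ∃ g : G, (y.1 : G) = g * x.1 * g⁻¹)) := by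
  exact main K hodd

end Cfsg.Agent.S4866
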