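import Cfsg.Statements.S4885
import Cfsg.Agent.Lib.Helper82.PrinTwoB
import Cfsg.Agent.Lib.Helper80.Kernel
import Cfsg.Agent.Lib.Helper76.PSolvable
import Cfsg.Agent.Lib.Helper55.Cores
import Cfsg.Agent.Lib.Helper55.SolvCore

set_option autoImplicit false
open Cfsg

namespace Cfsg.Agent.S4885

/-- Let p and q be primes dividing the order of the finite group G, and suppose G is p-solvable and q-solvable. Fix maximal ideals of the algebraic integers containing p and q, defining the principal p-block and the principal q-block. If the irreducible characters of degree prime to p in the principal p-block are exactly the irreducible characters of degree prime to q in the principal q-block, then p = q. -/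
theorem result {G : Type*} [Group G] [Finite G] (p q : ℕ) [Fact p.Prime] [Fact q.Prime] (hp : p ∣ Nat.card G) (hq : q ∣ Nat.card G) (hps : Cfsg.IsPSolvable p G) (hqs : Cfsg.IsPSolvable q G) (Mp Mq : Ideal Cfsg.AlgInt) (hMp : Cfsg.IsPModular p Mp) (hMq : Cfsg.IsPModular q Mq) (h : ∀ χ : Cfsg.IrrCharacter G, (χ ∈ Cfsg.principalBlock Mp G ∧ ¬ p ∣ Cfsg.charDegree (χ : G → ℂ)) ↔ (χ ∈ Cfsg.principalBlock Mq G ∧ ¬ q ∣ Cfsg.charDegree (χ : G → ℂ))) : p = q := by
  classical
  by_contra hpq
  have hpp : p.Prime := Fact.out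
  have hqp : q.Prime := Fact.out
  haveI hKpn : (pPrimeCore p G).Normal := Cfsg.Agent.Lib.Helper55.pPrimeCore_normal' p
  haveI hKqn : (pPrimeCore q G).Normal := Cfsg.Agent.Lib.Helper55.pPrimeCore_normal' q
  set N : Subgroup G := pPrimeCore p G ⊔ pPrimeCore q G with hNdef
  haveI hNn : N.Normal := Subgroup.sup_normal _ _
  -- every character in the common set has `N` in its kernel
  have hker : ∀ χ : IrrCharacter G, χ ∈ principalBlock Mp G → χ ∈ principalBlock Mq G →
      ∀ n ∈ N, (χ : G → ℂ) n = (χ : G → ℂ) 1 := by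
    intro χ h1 h3
    obtain ⟨K, hKn, hK, _⟩ := Cfsg.Agent.Lib.Helper80.irr_exists_ker χ
    have hKp : pPrimeCore p G ≤ K := fun n hn =>
      (hK n).mpr ((Cfsg.Agent.S4611.mem_principalBlock_iff p Mp hMp hps χ).mp h1 n hn)
    have hKq : pPrimeCore q G ≤ K := fun n hn =>
      (hK n).mpr ((Cfsg.Agent.S4611.mem_principalBlock_iff q Mq hMq hqs χ).mp h3 n hn)
    intro n hn
    exact (hK n).mp (sup_le hKp hKq hn)
  have hypp : ∀ χ : IrrCharacter G, χ ∈ principalBlock Mp G →
      ¬ p ∣ charDegree (χ : G → ℂ) → ∀ n ∈ N, (χ : G → ℂ) n = (χ : G → ℂ) 1 :=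
    fun χ h1 h2 => hker χ h1 ((h χ).mp ⟨h1, h2⟩).1
  have hypq : ∀ χ : IrrCharacter G, χ ∈ principalBlock Mq G →
      ¬ q ∣ charDegree (χ : G → ℂ) → ∀ n ∈ N, (χ : G → ℂ) n = (χ : G → ℂ) 1 :=
    fun χ h1 h2 => hker χ ((h χ).mpr ⟨h1, h2⟩).1 h1
  obtain ⟨hAp, hBp⟩ := Cfsg.Agent.Lib.Helper82.PrinTwo.one_sided p Mp hMp hps N le_sup_left hypp
  obtain ⟨hAq, hBq⟩ := Cfsg.Agent.Lib.Helper82.PrinTwo.one_sided q Mq hMq hqs N le_sup_right hypq
  by_cases hN : N = ⊤
  · have hc := hBp hN
    exact (Nat.Prime.coprime_iff_not_dvd hpp).mp hc.symm hp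
  · haveI : Nontrivial (G ⧸ N) := QuotientGroup.nontrivial_iff.mpr hN
    obtain ⟨W, hWn, hWne, hW⟩ := Cfsg.Agent.Lib.Helper76.exists_normal_of_isPSolvable
      (Cfsg.Agent.Lib.Helper76.isPSolvable_quotient N hps)
    have hsurj : Function.Surjective (QuotientGroup.mk' N) := QuotientGroup.mk'_surjective N
    set V : Subgroup G := W.comap (QuotientGroup.mk' N) with hVdef
    have hVn : V.Normal := hWn.comap _
    have hNV : N ≤ V := by
      have h0 := Subgroup.ker_le_comap (QuotientGroup.mk' N) W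
      rwa [QuotientGroup.ker_mk'] at h0
    have hrel : N.relIndex V = Nat.card W := by
      have h0 : N = (⊥ : Subgroup (G ⧸ N)).comap (QuotientGroup.mk' N) := by
        show N = (QuotientGroup.mk' N).ker
        exact (QuotientGroup.ker_mk' N).symm
      conv_lhs => rw [h0]
      rw [Subgroup.relIndex_comap, hVdef, Subgroup.map_comap_eq_self_of_surjective hsurj,
        Subgroup.relIndex_bot_left]
    have hfin : V ≤ N → False := by
      intro hVN
      apply hWne
      rw [eq_bot_iff]
      have h0 : W = V.map (QuotientGroup.mk' N) := by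
        rw [hVdef, Subgroup.map_comap_eq_self_of_surjective hsurj]
      rw [h0]
      have h1 : V.map (QuotientGroup.mk' N) ≤ N.map (QuotientGroup.mk' N) := Subgroup.map_mono hVN
      rwa [QuotientGroup.map_mk'_self] at h1
    rcases hW with hWp | hWc
    · -- `W` is a `p`-group, hence a `q'`-group
      obtain ⟨k, hk⟩ := IsPGroup.iff_card.mp hWp
      apply hfin
      apply hAq V hVn hNV
      rw [hrel, hk]
      intro hdvd
      have := (Nat.prime_dvd_prime_iff_eq hqp hpp).mp (hqp.dvd_of_dvd_pow hdvd)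
      exact hpq this.symm
    · apply hfin
      apply hAp V hVn hNV
      rw [hrel]
      exact (Nat.Prime.coprime_iff_not_dvd hpp).mp hWc.symm

end Cfsg.Agent.S4885
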