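import Cfsg.Statements.S4888
import Cfsg.Agent.S0939
import Cfsg.Agent.Lib.Helper52.PrincipalLinear

set_option autoImplicit false
open Cfsg

namespace Cfsg.Agent.S4888

/-- Let G be a finite group, p a prime and M a maximal ideal of the algebraic integers containing p. Then all height-zero irreducible characters of the principal p-block of G (equivalently, all its characters of degree prime to p) have the same degree if and only if G has a normal p-complement. -/
theorem result {G : Type*} [Group G] [Finite G] (p : ℕ) [Fact p.Prime] (M : Ideal Cfsg.AlgInt) (hM : Cfsg.IsPModular p M) : (∃ d : ℕ, ∀ χ : Cfsg.IrrCharacter G, χ ∈ (Cfsg.principalBlock M G) → Cfsg.blockHeight p (Cfsg.principalBlock M G) (χ : G → ℂ) = 0 → Cfsg.charDegree (χ : G → ℂ) = d) ↔ Cfsg.HasNormalPComplement p G := by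
  classical
  have hp : p.Prime := Fact.out
  have hMp : M.IsPrime := hM.2.1.isPrime
  have : Fintype G := Fintype.ofFinite G
  have hone : Cfsg.Agent.Lib.Helper81.oneIrr G ∈ principalBlock M G :=
    Cfsg.Agent.Lib.Helper81.oneIrr_mem_principalBlock hMp
  have hdeg1 : charDegree ((Cfsg.Agent.Lib.Helper81.oneIrr G : IrrCharacter G) : G → ℂ) = 1 :=
    Cfsg.Agent.Lib.Helper52.PrincipalLinear.charDegree_one_fun
  constructor
  · rintro ⟨d, hd⟩
    have hd1 : d = 1 := by
      have h := hd _ hone (by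
        rw [Cfsg.Agent.Lib.Helper52.PrincipalLinear.blockHeight_principal p hMp, hdeg1]
        simp)
      rw [hdeg1] at h
      exact h.symm
    have hT : ∀ χ : IrrCharacter G, χ ∈ principalBlock M G → ¬ p ∣ charDegree (χ : G → ℂ) →
        charDegree (χ : G → ℂ) = 1 := by
      intro χ hχ hnd
      rw [← hd1]
      apply hd χ hχ
      rw [Cfsg.Agent.Lib.Helper52.PrincipalLinear.blockHeight_principal p hMp]
      exact Nat.factorization_eq_zero_of_not_dvd hnd
    obtain ⟨P⟩ : Nonempty (Sylow p G) := inferInstance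
    exact Cfsg.Agent.Lib.Helper52.SylowLinear.hnpc_of_linear_extend p P
      (Cfsg.Agent.Lib.Helper52.PrincipalLinear.exists_extend p M hM hT P)
  · intro h
    refine ⟨1, ?_⟩
    intro χ hχ hht
    rw [Cfsg.Agent.Lib.Helper52.PrincipalLinear.blockHeight_principal p hMp] at hht
    obtain ⟨N, hN, hcop, k, hk⟩ := Cfsg.Agent.Lib.Helper19.normal_hall_of_hnpc h
    have hKn : (Cfsg.pPrimeCore p G).Normal := Cfsg.Agent.Lib.Helper22.pPrimeCore_normal' p G
    have hNle : N ≤ Cfsg.pPrimeCore p G := le_sSup ⟨hN, hcop⟩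
    have hdvd : (Cfsg.pPrimeCore p G).index ∣ p ^ k := by
      rw [← hk]
      exact Subgroup.index_dvd_of_le hNle
    obtain ⟨j, _, hj⟩ := (Nat.dvd_prime_pow hp).mp hdvd
    have hb₀ := Cfsg.Agent.S0939.result p M hM ⟨j, hj⟩
    rw [hb₀] at hχ
    obtain ⟨ψ, hψ, hψχ⟩ := Cfsg.Agent.Lib.Helper79.isIrrCharacter_deflate χ.2
      (Cfsg.pPrimeCore p G) hχ
    obtain ⟨d, hd0, hd1, hd2, hd3⟩ := Cfsg.Agent.Lib.Helper16.irr_degree_spec
      (⟨ψ, hψ⟩ : IrrCharacter (G ⧸ Cfsg.pPrimeCore p G))
    have hχd : charDegree (χ : G → ℂ) = d := by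
      rw [← hd2]
      unfold charDegree
      have : (χ : G → ℂ) 1 = ψ 1 := by
        rw [← hψχ 1]
        rfl
      rw [this]
    rw [← Subgroup.index_eq_card, hj] at hd3
    obtain ⟨i, _, hi⟩ := (Nat.dvd_prime_pow hp).mp hd3
    rw [hχd, hi, Nat.Prime.factorization_pow hp, Finsupp.single_eq_same] at hht
    rw [hχd, hi, hht, pow_zero]

end Cfsg.Agent.S4888
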