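import Cfsg.Statements.S4914
import Cfsg.Agent.Lib.Helper76.RelDeg

set_option autoImplicit false
open Cfsg

namespace Cfsg.Agent.S4914

open Subgroup Cfsg.Agent.Lib.Helper76.Rel Cfsg.Agent.S4447 Cfsg.Agent.S4448
open Cfsg.Agent.Lib.Helper82 Cfsg.Agent.Lib.Helper3

/-- invariance in the frozen form versus invariance under `act` -/
theorem inv_iff_act {G : Type*} [Group G] {K P : Subgroup G} (hPK : P ≤ normalizer (K : Set G))
    (χ : K → ℂ) :
    (∀ x ∈ P, ∀ k k' : K, (k' : G) = x * (k : G) * x⁻¹ → χ k' = χ k) ↔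
      ∀ x ∈ P, act K x χ = χ := by
  constructor
  · intro h s hs
    funext n
    rw [act_apply K (hPK hs)]
    exact h s hs n _ rfl
  · intro h s hs g g' hgg'
    have e : g' = cEquiv K s (hPK hs) g := Subtype.ext hgg'
    rw [e, ← act_apply K (hPK hs) χ g, h s hs]

/-- a `p`-subgroup of `K` lies in the normal Sylow `p`-subgroup -/
theorem le_of_isPGroup {G : Type*} [Group G] [Finite G] {p : ℕ} [hp : Fact p.Prime]
    {K Q R : Subgroup G} (hKQ : K ≤ normalizer (Q : Set G)) (hidx : ¬ p ∣ Q.relIndex K)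
    (hRK : R ≤ K) (hR : IsPGroup p R) : R ≤ Q := by
  have hRN : R ≤ normalizer (Q : Set G) := hRK.trans hKQ
  have h1 : Nat.card (img Q hRN) ∣ Nat.card (img Q hKQ) :=
    Subgroup.card_dvd_of_le (img_mono Q hKQ hRK)
  rw [card_img Q hKQ] at h1
  obtain ⟨k, hk⟩ := (isPGroup_img Q hRN hR).exists_card_eq
  have hk0 : k = 0 := by
    by_contra hne
    apply hidx
    refine dvd_trans ?_ h1
    rw [hk]
    exact dvd_pow_self p hne
  rw [hk0, pow_zero] at hk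
  intro r hr
  have h2 : projR Q hRN ⟨r, hr⟩ = 1 := by
    have : Subsingleton (img Q hRN) := (Nat.card_eq_one_iff_unique.1 hk).1
    exact Subsingleton.elim _ _
  exact (projR_eq_one_iff Q hRN ⟨r, hr⟩).1 h2

/-- Let P and K be subgroups of a finite group G with P a p-group normalizing K, and suppose K has a normal Sylow p-subgroup Q. Let C be the subgroup of those k ∈ K whose commutator with every element of P lies in Q (so that C/Q is the fixed-point subgroup of P on K/Q). Then there is a bijection f from the P-invariant irreducible complex characters of K onto the P-invariant irreducible complex characters of C such that, for every P-invariant irreducible character χ of K, the multiplicity of f(χ) in the restriction of χ to C is a natural number congruent to 1 or to −1 modulo p, every other P-invariant irreducible character of C occurs in that restriction with multiplicity divisible by p, and the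 degrees of χ and f(χ) are congruent modulo p up to sign. -/
theorem result {G : Type*} [Group G] [Finite G] (p : ℕ) [Fact p.Prime] (P K Q C : Subgroup G) (hP : IsPGroup p ↥P) (hPK : P ≤ Subgroup.normalizer (K : Set G)) (hQK : Q ≤ K) (hQn : ∀ k ∈ K, ∀ q ∈ Q, k * q * k⁻¹ ∈ Q) (hQp : ∃ a : ℕ, Nat.card ↥Q = p ^ a) (hQsyl : ¬ p ∣ Q.relIndex K) (hCK : C ≤ K) (hC : ∀ k : G, k ∈ C ↔ (k ∈ K ∧ ∀ x ∈ P, x * k * x⁻¹ * k⁻¹ ∈ Q)) : ∃ f : {χ : Cfsg.IrrCharacter ↥K // (∀ x ∈ P, ∀ k k' : ↥K, (k' : G) = x * (k : G) * x⁻¹ → (χ : ↥K → ℂ) k' = (χ : ↥K → ℂ) k)} → {ξ : Cfsg.IrrCharacter ↥C // (∀ x ∈ P, ∀ k k' : ↥C, (k' : G) = x * (k : G) * x⁻¹ → (ξ : ↥C → ℂ) k' = (ξ : ↥C → ℂ) k)}, Function.Bijective f ∧ ∀ χ, (∀ ξ : {ξ : Cfsg.IrrCharacter ↥C // (∀ x ∈ P, ∀ k k' : ↥C, (k' : G) = x * (k : G) * x⁻¹ → (ξ : ↥C → ℂ) k' = (ξ : ↥C → ℂ) k)}, ∃ m : ℕ, (Nat.card ↥C : ℂ)⁻¹ * ∑ᶠ c : ↥C, (χ.1 : ↥K → ℂ) (Subgroup.inclusion hCK c) * (starRingEnd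 ℂ) ((ξ.1 : ↥C → ℂ) c) = (m : ℂ) ∧ (ξ = f χ → ((m : ZMod p) = 1 ∨ (m : ZMod p) = -1)) ∧ (ξ ≠ f χ → p ∣ m)) ∧ ((Cfsg.charDegree ((f χ).1 : ↥C → ℂ) : ZMod p) = (Cfsg.charDegree (χ.1 : ↥K → ℂ) : ZMod p) ∨ (Cfsg.charDegree ((f χ).1 : ↥C → ℂ) : ZMod p) = -(Cfsg.charDegree (χ.1 : ↥K → ℂ) : ZMod p)) := by
  classical
  have : Fintype K := Fintype.ofFinite _
  have : Fintype C := Fintype.ofFinite _
  have : Fintype Q := Fintype.ofFinite _
  have hp : Fact p.Prime := inferInstance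
  -- the global setting
  have hKQ : K ≤ normalizer (Q : Set G) := le_normalizer_of_conj_mem K Q hQn
  obtain ⟨a, ha⟩ := hQp
  have hQpg : IsPGroup p Q := IsPGroup.of_card ha
  have hPQ : P ≤ normalizer (Q : Set G) := by
    apply le_normalizer_of_conj_mem
    intro x hx q hq
    have hR : IsPGroup p (Q.map (MulAut.conj x).toMonoidHom) := hQpg.map _
    have hRK : Q.map (MulAut.conj x).toMonoidHom ≤ K := by
      rintro y ⟨q', hq', rfl⟩
      exact (mem_normalizer_iff.mp (hPK hx) q').mp (hQK hq')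
    have := le_of_isPGroup hKQ hQsyl hRK hR
    exact this ⟨q, hq, rfl⟩
  have M : MainSetup p P K Q C := ⟨hP, hPK, hQK, hKQ, hPQ, ⟨a, ha⟩, hQsyl, hC⟩
  have hPC := M.hPC
  -- existence in subtype form
  have hex : ∀ χ : {χ : Cfsg.IrrCharacter ↥K // (∀ x ∈ P, ∀ k k' : ↥K, (k' : G) = x * (k : G) * x⁻¹ → (χ : ↥K → ℂ) k' = (χ : ↥K → ℂ) k)},
      ∃ (ξ₀ : {ξ : Cfsg.IrrCharacter ↥C // (∀ x ∈ P, ∀ k k' : ↥C, (k' : G) = x * (k : G) * x⁻¹ → (ξ : ↥C → ℂ) k' = (ξ : ↥C → ℂ) k)}) (ε : ℤ),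
        (ε = 1 ∨ ε = -1) ∧
        ∀ ξ : {ξ : Cfsg.IrrCharacter ↥C // (∀ x ∈ P, ∀ k k' : ↥C, (k' : G) = x * (k : G) * x⁻¹ → (ξ : ↥C → ℂ) k' = (ξ : ↥C → ℂ) k)},
          ∃ m : ℕ, Cfsg.classInner (fun c : C => (χ.1 : ↥K → ℂ) ⟨c, M.hCK c.2⟩) (ξ.1 : ↥C → ℂ) = (m : ℂ) ∧
            (ξ = ξ₀ → (m : ℤ) ≡ ε [ZMOD p]) ∧ (ξ ≠ ξ₀ → p ∣ m) := by
    intro χ
    obtain ⟨ξ₀, ε, hξ₀, hξ₀inv, hε, hall⟩ := main_ex M χ.1.2 ((inv_iff_act hPK _).1 χ.2)
    refine ⟨⟨⟨ξ₀, hξ₀⟩, (inv_iff_act hPC _).2 hξ₀inv⟩, ε, hε, ?_⟩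
    intro ξ
    obtain ⟨m, hm, h1, h2⟩ := hall ξ.1.1 ξ.1.2 ((inv_iff_act hPC _).1 ξ.2)
    refine ⟨m, hm, ?_, ?_⟩
    · intro heq
      apply h1
      rw [heq]
    · intro hne
      apply h2
      intro heq
      apply hne
      apply Subtype.ext
      apply Subtype.ext
      exact heq
  choose f ε hε hf using hex
  have hnd : ∀ χ, ∀ m : ℕ, Cfsg.classInner (fun c : C => (χ.1 : ↥K → ℂ) ⟨c, M.hCK c.2⟩) ((f χ).1 : ↥C → ℂ) = (m : ℂ) → ¬ p ∣ m := by
    intro χ m hm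
    obtain ⟨m', hm', h1, -⟩ := hf χ (f χ)
    have : m = m' := by
      rw [hm] at hm'
      exact_mod_cast hm'
    rw [this]
    exact Cfsg.Agent.Lib.Helper15.not_dvd_of_modEq_sign hp.out (hε χ) (h1 rfl)
  refine ⟨f, ⟨?_, ?_⟩, fun χ => ⟨fun ξ => ?_, ?_⟩⟩
  · -- injective
    intro χ χ' heq
    obtain ⟨m, hm, -, -⟩ := hf χ (f χ)
    obtain ⟨m', hm', -, -⟩ := hf χ' (f χ')
    have hpm := hnd χ m hm
    have hpm' := hnd χ' m' hm'
    rw [← heq] at hm'
    have := main_inj M χ.1.2 ((inv_iff_act hPK _).1 χ.2) χ'.1.2 ((inv_iff_act hPK _).1 χ'.2)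
      (f χ).1.2 ((inv_iff_act hPC _).1 (f χ).2) hm hpm hm' hpm'
    apply Subtype.ext
    apply Subtype.ext
    exact this
  · -- surjective
    intro ξ
    obtain ⟨χ₀, hχ₀, hχ₀inv, m, hm, hpm⟩ := main_surj M ξ.1.2 ((inv_iff_act hPC _).1 ξ.2)
    refine ⟨⟨⟨χ₀, hχ₀⟩, (inv_iff_act hPK _).2 hχ₀inv⟩, ?_⟩
    by_contra hne
    obtain ⟨m', hm', -, h2⟩ := hf ⟨⟨χ₀, hχ₀⟩, (inv_iff_act hPK _).2 hχ₀inv⟩ ξ
    have hmm : m = m' := by
      have h3 : Cfsg.classInner (fun c : C => χ₀ ⟨c, M.hCK c.2⟩) (ξ.1 : ↥C → ℂ) = (m' : ℂ) := hm'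
      rw [hm] at h3
      exact_mod_cast h3
    apply hpm
    rw [hmm]
    exact h2 (fun h => hne h.symm)
  · -- multiplicities
    obtain ⟨m, hm, h1, h2⟩ := hf χ ξ
    refine ⟨m, ?_, ?_, h2⟩
    · rw [finsum_eq_sum_of_fintype]
      exact hm
    · intro heq
      have h3 := (ZMod.intCast_eq_intCast_iff _ _ _).2 (h1 heq)
      rcases hε χ with he | he
      · left
        rw [he] at h3
        simpa using h3
      · right
        rw [he] at h3
        simpa using h3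
  · -- degrees
    have hd := deg_congr M χ.1.2 ((inv_iff_act hPK _).1 χ.2) (f χ).1.2
      ((inv_iff_act hPC _).1 (f χ).2) (ε := ε χ) (by
        intro ξ hξ hξinv
        obtain ⟨m, hm, h1, h2⟩ := hf χ ⟨⟨ξ, hξ⟩, (inv_iff_act hPC _).2 hξinv⟩
        refine ⟨m, hm, ?_, ?_⟩
        · intro heq
          apply h1
          apply Subtype.ext
          apply Subtype.ext
          exact heq
        · intro hne
          apply h2
          intro heq
          apply hne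
          have := congrArg (fun t => ((t.1 : Cfsg.IrrCharacter ↥C) : ↥C → ℂ)) heq
          exact this)
    rcases hε χ with he | he
    · left
      rw [he] at hd
      rw [hd]
      simp
    · right
      rw [he] at hd
      rw [hd]
      simp

end Cfsg.Agent.S4914
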