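import Cfsg.Statements.S4916
import Cfsg.Agent.Lib.Helper81.OneIrr
import Cfsg.Agent.S0913

set_option autoImplicit false
open Cfsg
open Cfsg.Agent.Lib.Helper81

namespace Cfsg.Agent.S4916

theorem backward {G : Type*} [Group G] [Finite G] (p : ℕ) [Fact p.Prime] (M : Ideal Cfsg.AlgInt)
    (hM : Cfsg.IsPModular p M) (hp : ¬ p ∣ Nat.card G) (χ : Cfsg.IrrCharacter G)
    (hχ : χ ∈ Cfsg.principalBlock M G) : (χ : G → ℂ) = fun _ => (1 : ℂ) := by
  classical
  have hMp := isPrime_of_isPModular hM
  haveI : Fintype G := Fintype.ofFinite G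
  by_contra hne
  have hsum := irr_sum_eq_zero_of_ne_one χ hne
  rw [mem_principalBlock_iff] at hχ
  have hχ1 := irr_apply_one_ne_zero χ
  have key : ∀ g : G, MemLocalIdeal M (1 - (χ : G → ℂ) g / (χ : G → ℂ) 1) := by
    intro g
    have hidx : (Subgroup.centralizer ({g} : Set G)).index ∣ Nat.card G :=
      Subgroup.index_dvd_card _
    have hnd : ¬ p ∣ (Subgroup.centralizer ({g} : Set G)).index := fun h => hp (h.trans hidx)
    have hinv := memLocalRing_inv_natCast hM hnd
    have h0 : ((Subgroup.centralizer ({g} : Set G)).index : ℂ) ≠ 0 := by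
      have : (Subgroup.centralizer ({g} : Set G)).index ≠ 0 := by
        intro h0
        rw [h0] at hnd
        exact hnd (dvd_zero p)
      exact_mod_cast this
    have := memLocalIdeal_mul_left hMp hinv (hχ g)
    convert this using 1
    unfold centralChar
    field_simp
  have hS := memLocalIdeal_sum hMp Finset.univ _ (fun g _ => key g)
  rw [Finset.sum_sub_distrib, ← Finset.sum_div, hsum, zero_div, sub_zero] at hS
  simp only [Finset.sum_const, Finset.card_univ, nsmul_eq_mul, mul_one] at hS
  rw [memLocalIdeal_natCast_iff hM, Fintype.card_eq_nat_card] at hS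
  exact hp hS

theorem forward {G : Type*} [Group G] [Finite G] (p : ℕ) [Fact p.Prime] (M : Ideal Cfsg.AlgInt)
    (hM : Cfsg.IsPModular p M)
    (hOsima : MemLocalRing M (blockCoeff (principalBlock M G) 1))
    (h : ∀ χ : Cfsg.IrrCharacter G, χ ∈ Cfsg.principalBlock M G →
      ¬ p ∣ Cfsg.charDegree (χ : G → ℂ) → (χ : G → ℂ) = fun _ => (1 : ℂ)) :
    ¬ p ∣ Nat.card G := by
  classical
  have hMp := isPrime_of_isPModular hM
  haveI := finite_irrCharacter (G := G)
  haveI : Fintype (IrrCharacter G) := Fintype.ofFinite _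
  intro hp
  have hG : (Nat.card G : ℂ) ≠ 0 := by exact_mod_cast Nat.card_pos.ne'
  -- the sum of squares over the block lies in the local ideal
  have hfin : (principalBlock M G).Finite := Set.toFinite _
  have h1 : MemLocalIdeal M ((Nat.card G : ℂ) * blockCoeff (principalBlock M G) 1) :=
    memLocalIdeal_mul_right hMp ((memLocalIdeal_natCast_iff hM _).2 hp) hOsima
  unfold blockCoeff at h1
  rw [← mul_assoc, mul_inv_cancel₀ hG, one_mul, finsum_mem_eq_finite_toFinset_sum _ hfin] at h1
  -- split off the trivial character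
  have hone : oneIrr G ∈ hfin.toFinset := by
    rw [Set.Finite.mem_toFinset]
    exact oneIrr_mem_principalBlock hMp
  rw [← Finset.add_sum_erase _ _ hone] at h1
  have h2 : MemLocalIdeal M (∑ χ ∈ hfin.toFinset.erase (oneIrr G),
      (χ : G → ℂ) 1 * (starRingEnd ℂ) ((χ : G → ℂ) 1)) := by
    apply memLocalIdeal_sum hMp
    intro χ hχ
    rw [Finset.mem_erase, Set.Finite.mem_toFinset] at hχ
    have hdvd : p ∣ charDegree (χ : G → ℂ) := by
      by_contra hnd
      apply hχ.1
      apply Subtype.ext
      exact h χ hχ.2 hnd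
    rw [irr_apply_one_eq_charDegree χ, Complex.conj_natCast]
    apply memLocalIdeal_mul_left hMp (memLocalRing_natCast hMp _)
    exact (memLocalIdeal_natCast_iff hM _).2 hdvd
  have h3 := memLocalIdeal_sub hMp h1 h2
  rw [add_sub_cancel_right] at h3
  simp only [oneIrr_apply, map_one, mul_one] at h3
  exact not_memLocalIdeal_one hMp h3

/-- Let G be a finite group, p a prime and M a maximal ideal of the algebraic integers containing p. Then the principal character is the only irreducible character of degree prime to p in the principal p-block of G if and only if p does not divide the order of G. -/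
theorem result {G : Type*} [Group G] [Finite G] (p : ℕ) [Fact p.Prime] (M : Ideal Cfsg.AlgInt) (hM : Cfsg.IsPModular p M) : (∀ χ : Cfsg.IrrCharacter G, χ ∈ Cfsg.principalBlock M G → ¬ p ∣ Cfsg.charDegree (χ : G → ℂ) → (χ : G → ℂ) = fun _ => (1 : ℂ)) ↔ ¬ p ∣ Nat.card G := by
  constructor
  · intro h
    exact forward p M hM
      (Cfsg.Agent.S0913.result p M hM (principalBlock M G) (isPBlock_principalBlock M) 1) h
  · intro hp χ hχ _
    exact backward p M hM hp χ hχ

end Cfsg.Agent.S4916
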