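import Cfsg.Statements.S4931
import Cfsg.Agent.Lib.Helper82.SylExtB
import Cfsg.Agent.Lib.Helper80.Kernel
import Cfsg.Agent.Lib.Helper79.Basic
import Cfsg.Agent.Lib.Helper33.NormalPComp

set_option autoImplicit false
open Cfsg
open scoped commutatorElement

namespace Cfsg.Agent.S4931

/-- Let G be a finite group, p a prime and P a Sylow p-subgroup of G with normalizer N. Then every irreducible complex character of N of degree not divisible by p is the restriction of an irreducible character of G if and only if there is a normal subgroup K of G with KN = G and K ∩ N = 1. -/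
theorem result {G : Type*} [Group G] [Finite G] (p : ℕ) [Fact p.Prime] (P : Sylow p G) :
    (∀ θ : Cfsg.IrrCharacter ↥(Subgroup.normalizer ((P : Subgroup G) : Set G)), ¬ p ∣ Cfsg.charDegree (θ : ↥(Subgroup.normalizer ((P : Subgroup G) : Set G)) → ℂ) →
        ∃ χ : Cfsg.IrrCharacter G, ∀ x : ↥(Subgroup.normalizer ((P : Subgroup G) : Set G)), (χ : G → ℂ) x = (θ : ↥(Subgroup.normalizer ((P : Subgroup G) : Set G)) → ℂ) x) ↔
      ∃ K : Subgroup G, K.Normal ∧ K ⊔ Subgroup.normalizer ((P : Subgroup G) : Set G) = ⊤ ∧ K ⊓ Subgroup.normalizer ((P : Subgroup G) : Set G) = ⊥ := by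
  classical
  set N : Subgroup G := Subgroup.normalizer ((P : Subgroup G) : Set G) with hNdef
  have hPN : (P : Subgroup G) ≤ N := Subgroup.le_normalizer
  constructor
  · -- (⇒)
    intro hext
    set PN : Subgroup ↥N := (P : Subgroup G).subgroupOf N with hPNdef
    haveI hPNn : PN.Normal := Subgroup.normal_in_normalizer
    have hidx : ¬ p ∣ PN.index := by
      intro hdvd
      have h1 : PN.index ∣ (P : Subgroup G).index := Subgroup.relIndex_dvd_index_of_le hPN
      exact P.not_dvd_index (hdvd.trans h1)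
    have hmapPN : PN.map N.subtype = (P : Subgroup G) := Subgroup.map_subgroupOf_eq_of_le hPN
    have hcomm : (⁅PN, PN⁆).map N.subtype = ⁅(P : Subgroup G), (P : Subgroup G)⁆ := by
      rw [Subgroup.map_commutator, hmapPN]
    -- the good characters
    let hΘ : IrrCharacter ↥N → Prop := fun θ =>
      ¬ p ∣ charDegree (θ : ↥N → ℂ) ∧ ∀ y ∈ ⁅PN, PN⁆, (θ : ↥N → ℂ) y = (θ : ↥N → ℂ) 1
    let 𝒦 : Set (Subgroup G) := {K | K.Normal ∧ ∃ θ : IrrCharacter ↥N, hΘ θ ∧
      ∀ n : ↥N, (n : G) ∈ K ↔ (θ : ↥N → ℂ) n = (θ : ↥N → ℂ) 1}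
    set K₁ : Subgroup G := sInf 𝒦 with hK₁def
    haveI hK₁n : K₁.Normal := by
      constructor
      intro x hx g
      rw [hK₁def, Subgroup.mem_sInf] at hx ⊢
      intro K hK
      exact hK.1.conj_mem x (hx K hK) g
    have ker_ext : ∀ θ : IrrCharacter ↥N, hΘ θ → ∃ K ∈ 𝒦,
        ∀ n : ↥N, (n : G) ∈ K ↔ (θ : ↥N → ℂ) n = (θ : ↥N → ℂ) 1 := by
      intro θ hθ
      obtain ⟨χ, hχ⟩ := hext θ hθ.1
      obtain ⟨K, hKn, hK, _⟩ := Cfsg.Agent.Lib.Helper80.irr_exists_ker χ
      have hmem : ∀ n : ↥N, (n : G) ∈ K ↔ (θ : ↥N → ℂ) n = (θ : ↥N → ℂ) 1 := by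
        intro n
        rw [hK, hχ n]
        have h1 := hχ 1
        rw [Subgroup.coe_one] at h1
        rw [h1]
      exact ⟨K, ⟨hKn, θ, hθ, hmem⟩, hmem⟩
    have h5a : ⁅(P : Subgroup G), (P : Subgroup G)⁆ ≤ K₁ := by
      intro x hx
      rw [hK₁def, Subgroup.mem_sInf]
      rintro K ⟨_, θ, hθ, hK⟩
      rw [← hcomm] at hx
      obtain ⟨y, hy, rfl⟩ := hx
      exact (hK y).mpr (hθ.2 y hy)
    have h5b : ∀ x ∈ (P : Subgroup G), x ∈ K₁ →
        x ∈ ⁅(P : Subgroup G), (P : Subgroup G)⁆ := by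
      intro x hx hxK
      by_contra hx'
      have hxN : (⟨x, hPN hx⟩ : ↥N) ∈ PN := by
        rw [hPNdef, Subgroup.mem_subgroupOf]; exact hx
      have hxN' : (⟨x, hPN hx⟩ : ↥N) ∉ ⁅PN, PN⁆ := by
        intro h
        apply hx'
        rw [← hcomm]
        exact ⟨_, h, rfl⟩
      obtain ⟨θ, hθ1, hθ2, hθ3⟩ :=
        Cfsg.Agent.Lib.Helper82.SylExt.exists_irr_coprime_sep p PN hidx hxN hxN'
      obtain ⟨K, hK𝒦, hK⟩ := ker_ext θ ⟨hθ1, hθ2⟩
      have hxK' : x ∈ K := by
        rw [hK₁def, Subgroup.mem_sInf] at hxK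
        exact hxK K hK𝒦
      exact hθ3 ((hK ⟨x, hPN hx⟩).mp hxK')
    set M : Subgroup G := Subgroup.normalClosure ((P : Subgroup G) : Set G) with hMdef
    haveI hMn : M.Normal := Subgroup.normalClosure_normal
    have hPM : (P : Subgroup G) ≤ M := Subgroup.le_normalClosure
    have h5c : ∀ n ∈ M, n ∈ Subgroup.normalizer ((P : Subgroup G) : Set G) →
        n ∈ (P : Subgroup G) := by
      intro n hnM hnN
      by_contra hn
      have hnN' : (⟨n, hnN⟩ : ↥N) ∉ PN := by
        rw [hPNdef, Subgroup.mem_subgroupOf]; exact hn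
      obtain ⟨θ, hθ1, hθ2⟩ := Cfsg.Agent.Lib.Helper82.SylExt.exists_irr_sep PN hnN'
      have hdeg : ¬ p ∣ charDegree (θ : ↥N → ℂ) := by
        intro hdvd
        exact hidx (hdvd.trans
          (Cfsg.Agent.Lib.Helper82.SylExt.charDegree_dvd_index_of_le_ker PN θ hθ1))
      have hθ : hΘ θ := ⟨hdeg, fun y hy => hθ1 y (Subgroup.commutator_le_left PN PN hy)⟩
      obtain ⟨K, ⟨hKn, _⟩, hK⟩ := ker_ext θ hθ
      haveI := hKn
      have hPK : ((P : Subgroup G) : Set G) ⊆ K := by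
        intro x hx
        have hxN : (⟨x, hPN hx⟩ : ↥N) ∈ PN := by
          rw [hPNdef, Subgroup.mem_subgroupOf]; exact hx
        exact (hK ⟨x, hPN hx⟩).mpr (hθ1 _ hxN)
      have hMK : M ≤ K := Subgroup.normalClosure_le_normal hPK
      exact hθ2 ((hK ⟨n, hnN⟩).mp (hMK hnM))
    obtain ⟨K', hK'n, hK'c⟩ :=
      Cfsg.Agent.Lib.Helper82.SylExt.exists_compl_in P K₁ M hPM h5a h5b h5c
    set PM : Sylow p M := P.subtype hPM with hPMdef
    have hPMcoe : (PM : Subgroup M) = (P : Subgroup G).subgroupOf M := Sylow.coe_subtype _ _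
    have hmapP : (PM : Subgroup M).map M.subtype = (P : Subgroup G) := by
      rw [hPMcoe]; exact Subgroup.map_subgroupOf_eq_of_le hPM
    have hi1 : (PM : Subgroup M).index = Nat.card K' := hK'c.index_eq_card
    have hi2 : K'.index = Nat.card (PM : Subgroup M) := hK'c.symm.index_eq_card
    have hcop : (Nat.card K').Coprime p := by
      rw [← hi1, Nat.coprime_comm, Nat.Prime.coprime_iff_not_dvd (Fact.out : p.Prime)]
      exact PM.not_dvd_index
    obtain ⟨k, hk⟩ := (IsPGroup.iff_card.mp PM.isPGroup')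
    have hidx' : K'.index = p ^ k := by rw [hi2, hk]
    have hmem := Cfsg.Agent.Lib.Helper33.mem_iff_coprime_of_normal_hall K' hcop hidx'
    have hconj : ∀ g x : G, orderOf (g * x * g⁻¹) = orderOf x := by
      intro g x
      have h1 : g * x * g⁻¹ = MulAut.conj g x := by rw [MulAut.conj_apply]
      rw [h1]
      exact orderOf_injective (MulAut.conj g).toMonoidHom (MulAut.conj g).injective x
    refine ⟨K'.map M.subtype, ?_, ?_, ?_⟩
    · constructor
      rintro _ ⟨n, hn, rfl⟩ g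
      have hx : g * (n : G) * g⁻¹ ∈ M := hMn.conj_mem _ n.2 g
      refine ⟨⟨g * (n : G) * g⁻¹, hx⟩, ?_, rfl⟩
      have hn : n ∈ K' := hn
      change (⟨g * (n : G) * g⁻¹, hx⟩ : M) ∈ K'
      rw [hmem] at hn ⊢
      have h1 : orderOf (⟨g * (n : G) * g⁻¹, hx⟩ : M) = orderOf (g * (n : G) * g⁻¹) := by
        rw [← Subgroup.orderOf_coe]
      have h2 : orderOf (n : M) = orderOf (n : G) := by rw [← Subgroup.orderOf_coe]
      rw [h1, hconj, ← h2]
      exact hn
    · have h1 : K'.map M.subtype ⊔ (P : Subgroup G) = M := by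
        rw [← hmapP, ← Subgroup.map_sup, hK'c.sup_eq_top, ← MonoidHom.range_eq_map,
          Subgroup.range_subtype]
      have h2 : N ⊔ M = ⊤ := Sylow.normalizer_sup_eq_top' P hPM
      rw [eq_top_iff, ← h2]
      apply sup_le le_sup_right
      exact h1.symm.le.trans (sup_le le_sup_left (hPN.trans le_sup_right))
    · rw [eq_bot_iff]
      rintro x ⟨⟨k', hk', rfl⟩, hxN⟩
      have hxP : ((k' : M) : G) ∈ (P : Subgroup G) := h5c _ k'.2 hxN
      have hkPM : k' ∈ (PM : Subgroup M) := by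
        rw [hPMcoe, Subgroup.mem_subgroupOf]; exact hxP
      have hdisj := hK'c.disjoint
      have h1 : k' ∈ K' ⊓ (PM : Subgroup M) := ⟨hk', hkPM⟩
      rw [hdisj.eq_bot, Subgroup.mem_bot] at h1
      rw [Subgroup.mem_bot, h1]
      rfl
  · -- (⇐)
    rintro ⟨K, hKn, hsup, hinf⟩ θ _
    haveI := hKn
    let f : ↥N →* G ⧸ K := (QuotientGroup.mk' K).comp N.subtype
    have hf : Function.Bijective f := by
      constructor
      · rw [injective_iff_map_eq_one]
        intro a ha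
        have h1 : (a : G) ∈ K := (QuotientGroup.eq_one_iff _).mp ha
        have h2 : (a : G) ∈ K ⊓ N := ⟨h1, a.2⟩
        rw [hinf, Subgroup.mem_bot] at h2
        exact Subtype.ext h2
      · intro q
        obtain ⟨g, rfl⟩ := QuotientGroup.mk_surjective q
        have hg : g ∈ K ⊔ N := by rw [hsup]; exact Subgroup.mem_top g
        obtain ⟨y, hy, z, hz, rfl⟩ := Subgroup.mem_sup_of_normal_left.mp hg
        refine ⟨⟨z, hz⟩, ?_⟩
        show ((z : G) : G ⧸ K) = ((y * z : G) : G ⧸ K)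
        rw [QuotientGroup.mk_mul, (QuotientGroup.eq_one_iff y).mpr hy, one_mul]
    let e : ↥N ≃* G ⧸ K := MulEquiv.ofBijective f hf
    have hψ : IsIrrCharacter (G ⧸ K) (fun q => (θ : ↥N → ℂ) (e.symm q)) :=
      Cfsg.Agent.Lib.Helper79.isIrrCharacter_comp_surjective θ.2 e.symm.toMonoidHom
        e.symm.surjective
    have hχ := Cfsg.Agent.Lib.Helper79.isIrrCharacter_inflate K hψ
    refine ⟨⟨_, hχ⟩, ?_⟩
    intro x
    show (θ : ↥N → ℂ) (e.symm ((x : G) : G ⧸ K)) = (θ : ↥N → ℂ) x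
    have h1 : ((x : G) : G ⧸ K) = e x := rfl
    rw [h1, MulEquiv.symm_apply_apply]

end Cfsg.Agent.S4931
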