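import Cfsg.Statements.S4956
import Mathlib.Tactic.Group
import Mathlib.GroupTheory.Index
import Mathlib.GroupTheory.OrderOfElement
import Mathlib.GroupTheory.GroupAction.ConjAct

set_option autoImplicit false
open Cfsg

namespace Cfsg.Agent.S4956

theorem decomp₂ {A : Type*} [Group A] [Finite A] (α : MulAut A) (m : ℕ) (hm : α ^ m = 1)
    (hcop : (Nat.card A).Coprime m) (b : A) (h : α (b * (α b)⁻¹) = b * (α b)⁻¹) :
    b * (α b)⁻¹ = 1 := by
  set x := b * (α b)⁻¹ with hx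
  have h1 : α b = x⁻¹ * b := by rw [hx]; group
  have hi : ∀ i : ℕ, (α ^ i) b = (x ^ i)⁻¹ * b := by
    intro i
    induction i with
    | zero => simp
    | succ i ih =>
      rw [pow_succ', MulAut.mul_apply, ih, map_mul, map_inv, map_pow, h, h1, pow_succ]
      group
  have h2 := hi m
  rw [hm] at h2
  have hxm : x ^ m = 1 := by
    have h3 : (x ^ m)⁻¹ * b = b := h2.symm
    simpa using h3
  have hord : orderOf x ∣ m := orderOf_dvd_of_pow_eq_one hxm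
  have hord2 : orderOf x ∣ Nat.card A := orderOf_dvd_natCard x
  have h4 : orderOf x ∣ Nat.gcd (Nat.card A) m := Nat.dvd_gcd hord2 hord
  rw [hcop] at h4
  exact orderOf_eq_one_iff.mp (Nat.dvd_one.mp h4)

theorem decomp₁ {A : Type*} [Group A] [Finite A] (hcomm : ∀ a b : A, a * b = b * a)
    (α : MulAut A) (m : ℕ) (hm : α ^ m = 1)
    (hcop : (Nat.card A).Coprime m) (a : A) :
    ∃ c b : A, α c = c ∧ a = c * (b * (α b)⁻¹) := by
  let T : A →* A := MonoidHom.mk' (fun b => b * (α b)⁻¹) (by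
    intro x y
    simp only [map_mul, mul_inv_rev]
    rw [hcomm (α y)⁻¹ (α x)⁻¹, mul_assoc, ← mul_assoc y, hcomm y, mul_assoc, mul_assoc])
  have hT : ∀ b, T b = b * (α b)⁻¹ := fun b => rfl
  have hdisj : Disjoint T.ker T.range := by
    rw [Subgroup.disjoint_def]
    rintro x hxk ⟨b, rfl⟩
    rw [hT]
    apply decomp₂ α m hm hcop b
    have h5 : T b * (α (T b))⁻¹ = 1 := hxk
    rw [hT] at h5
    exact (mul_inv_eq_one.mp h5).symm
  have hcard : Nat.card T.ker * Nat.card T.range = Nat.card A := by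
    rw [← Subgroup.index_ker, Subgroup.card_mul_index]
  have hcompl := Subgroup.isComplement'_of_card_mul_and_disjoint hcard hdisj
  obtain ⟨⟨⟨c, hc⟩, ⟨d, hd⟩⟩, hcd, -⟩ := hcompl.existsUnique a
  obtain ⟨b, rfl⟩ := hd
  refine ⟨c, b, ?_, hcd.symm⟩
  have h6 : c * (α c)⁻¹ = 1 := hc
  exact (mul_inv_eq_one.mp h6).symm

section inX

variable {X : Type*} [Group X] [Finite X] (V : Subgroup X) [V.Normal]

theorem conj_pow_eq_one (g : X) (m : ℕ) (hg : g ^ m = 1) :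
    (MulAut.conjNormal g : MulAut ↥V) ^ m = 1 := by
  rw [← map_pow, hg, map_one]

theorem xdecomp₁ (hab : ∀ a ∈ V, ∀ b ∈ V, a * b = b * a) (g : X) (m : ℕ) (hg : g ^ m = 1)
    (hcop : (Nat.card V).Coprime m) (u : X) (hu : u ∈ V) :
    ∃ c ∈ V, ∃ b ∈ V, g * c * g⁻¹ = c ∧ u = c * (b * (g * b * g⁻¹)⁻¹) := by
  obtain ⟨c, b, h1, h2⟩ := decomp₁ (A := ↥V) (fun a b => Subtype.ext (hab a a.2 b b.2))
    (MulAut.conjNormal g) m (conj_pow_eq_one V g m hg) hcop ⟨u, hu⟩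
  refine ⟨c, c.2, b, b.2, ?_, ?_⟩
  · have := congrArg Subtype.val h1
    simpa [MulAut.conjNormal_apply] using this
  · have := congrArg Subtype.val h2
    simpa [MulAut.conjNormal_apply] using this

theorem xdecomp₂ (g : X) (m : ℕ) (hg : g ^ m = 1)
    (hcop : (Nat.card V).Coprime m) (b : X) (hb : b ∈ V)
    (h : g * (b * (g * b * g⁻¹)⁻¹) * g⁻¹ = b * (g * b * g⁻¹)⁻¹) :
    b * (g * b * g⁻¹)⁻¹ = 1 := by
  have := decomp₂ (A := ↥V) (MulAut.conjNormal g) m (conj_pow_eq_one V g m hg) hcop ⟨b, hb⟩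
    (by
      apply Subtype.ext
      simpa [MulAut.conjNormal_apply, mul_assoc] using h)
  have := congrArg Subtype.val this
  simpa [MulAut.conjNormal_apply] using this

end inX

section main

variable {X : Type*} [Group X] [Finite X] (V : Subgroup X) [V.Normal] (G : Subgroup X)

omit [Finite X] [V.Normal] in
theorem pow_card_G {g : X} (hg : g ∈ G) : g ^ Nat.card G = 1 := by
  have h := pow_card_eq_one' (G := ↥G) (x := ⟨g, hg⟩)
  have h2 := congrArg Subtype.val h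
  simpa only [Subgroup.coe_pow, Subgroup.coe_one] using h2

omit [Finite X] [V.Normal] in
theorem exists_decomp (hGV : Subgroup.IsComplement' V G) (x : X) :
    ∃ u ∈ V, ∃ g ∈ G, x = u * g := by
  obtain ⟨⟨⟨u, hu⟩, ⟨g, hg⟩⟩, h, -⟩ := Subgroup.IsComplement.existsUnique hGV x
  exact ⟨u, hu, g, hg, h.symm⟩

omit [Finite X] [V.Normal] in
theorem decomp_unique (hGV : Subgroup.IsComplement' V G) {u g u' g' : X} (hu : u ∈ V) (hg : g ∈ G)
    (hu' : u' ∈ V) (hg' : g' ∈ G) (h : u * g = u' * g') : u = u' ∧ g = g' := by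
  have h1 := (Subgroup.IsComplement.existsUnique hGV (u * g)).unique
    (y₁ := ((⟨u, hu⟩ : (V : Set X)), (⟨g, hg⟩ : (G : Set X))))
    (y₂ := ((⟨u', hu'⟩ : (V : Set X)), (⟨g', hg'⟩ : (G : Set X)))) rfl h.symm
  have h2 := congrArg (fun p => (p.1.1, p.2.1)) h1
  simp only [Prod.mk.injEq] at h2
  exact h2

theorem surj_aux (hab : ∀ a ∈ V, ∀ b ∈ V, a * b = b * a) (hGV : Subgroup.IsComplement' V G)
    (hcop : (Nat.card V).Coprime (Nat.card G)) (S : Finset X)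
    (hrep : ∀ v ∈ V, ∃! s, s ∈ S ∧ ∃ g ∈ G, g * v * g⁻¹ = s) (x : X) :
    ∃ s ∈ S, ∃ d ∈ G ⊓ Subgroup.centralizer ({s} : Set X), ∃ y : X, y * x * y⁻¹ = s * d := by
  obtain ⟨u, hu, g, hg, rfl⟩ := exists_decomp V G hGV x
  obtain ⟨c, hc, b, hb, hgc, hucb⟩ := xdecomp₁ V hab g (Nat.card G) (pow_card_G G hg) hcop u hu
  obtain ⟨s, ⟨hsS, t, ht, hts⟩, -⟩ := hrep c hc
  have hgc' : g * c = c * g := mul_inv_eq_iff_eq_mul.mp hgc
  refine ⟨s, hsS, t * g * t⁻¹, Subgroup.mem_inf.mpr ⟨G.mul_mem (G.mul_mem ht hg) (G.inv_mem ht), ?_⟩, t * b⁻¹, ?_⟩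
  · rw [Subgroup.mem_centralizer_singleton_iff, ← hts]
    calc t * g * t⁻¹ * (t * c * t⁻¹) = t * (g * c) * t⁻¹ := by group
      _ = t * (c * g) * t⁻¹ := by rw [hgc']
      _ = t * c * t⁻¹ * (t * g * t⁻¹) := by group
  · have e1 : u * g = c * b * g * b⁻¹ := by rw [hucb]; group
    have e2 : b⁻¹ * c * b = c := by
      rw [hab b⁻¹ (V.inv_mem hb) c hc, inv_mul_cancel_right]
    calc t * b⁻¹ * (u * g) * (t * b⁻¹)⁻¹ = t * (b⁻¹ * (u * g) * b) * t⁻¹ := by group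
      _ = t * (b⁻¹ * c * b * g) * t⁻¹ := by rw [e1]; group
      _ = t * (c * g) * t⁻¹ := by rw [e2]
      _ = t * c * t⁻¹ * (t * g * t⁻¹) := by group
      _ = s * (t * g * t⁻¹) := by rw [hts]

theorem inj_aux (hab : ∀ a ∈ V, ∀ b ∈ V, a * b = b * a) (hGV : Subgroup.IsComplement' V G)
    (hcop : (Nat.card V).Coprime (Nat.card G)) (S : Finset X)
    (hrep : ∀ v ∈ V, ∃! s, s ∈ S ∧ ∃ g ∈ G, g * v * g⁻¹ = s)
    {s s' c c' : X} (hs : s ∈ S) (hs' : s' ∈ S) (hsV : s ∈ V) (hs'V : s' ∈ V)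
    (hc : c ∈ G ⊓ Subgroup.centralizer ({s} : Set X))
    (hc' : c' ∈ G ⊓ Subgroup.centralizer ({s'} : Set X)) (x : X)
    (hx : x * (s * c) * x⁻¹ = s' * c') :
    s = s' ∧ ∃ t ∈ G ⊓ Subgroup.centralizer ({s} : Set X), t * c * t⁻¹ = c' := by
  obtain ⟨w, hw, t, ht, rfl⟩ := exists_decomp V G hGV x
  obtain ⟨hcG, hcs⟩ := Subgroup.mem_inf.mp hc
  obtain ⟨hc'G, hc's'⟩ := Subgroup.mem_inf.mp hc'
  rw [Subgroup.mem_centralizer_singleton_iff] at hcs hc's'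
  have hs''V : t * s * t⁻¹ ∈ V := ‹V.Normal›.conj_mem s hsV t
  have hc''G : t * c * t⁻¹ ∈ G := G.mul_mem (G.mul_mem ht hcG) (G.inv_mem ht)
  have hcw : t * c * t⁻¹ * w⁻¹ * (t * c * t⁻¹)⁻¹ ∈ V :=
    ‹V.Normal›.conj_mem w⁻¹ (V.inv_mem hw) (t * c * t⁻¹)
  have e0 : w * t * (s * c) * (w * t)⁻¹ =
      (w * (t * s * t⁻¹) * (t * c * t⁻¹ * w⁻¹ * (t * c * t⁻¹)⁻¹)) * (t * c * t⁻¹) := by group
  rw [e0] at hx
  obtain ⟨h1, h2⟩ := decomp_unique V G hGV
    (V.mul_mem (V.mul_mem hw hs''V) hcw) hc''G hs'V hc'G hx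
  -- s'' commutes with c''
  have hcs'' : t * c * t⁻¹ * (t * s * t⁻¹) = t * s * t⁻¹ * (t * c * t⁻¹) := by
    calc t * c * t⁻¹ * (t * s * t⁻¹) = t * (c * s) * t⁻¹ := by group
      _ = t * (s * c) * t⁻¹ := by rw [hcs]
      _ = t * s * t⁻¹ * (t * c * t⁻¹) := by group
  rw [← h2] at hc's'
  -- z
  have hz : w * (t * c * t⁻¹ * w * (t * c * t⁻¹)⁻¹)⁻¹ = (t * s * t⁻¹)⁻¹ * s' := by
    rw [← h1, hab w hw _ hs''V]
    group
  have hzfix : (t * c * t⁻¹) * (w * (t * c * t⁻¹ * w * (t * c * t⁻¹)⁻¹)⁻¹) * (t * c * t⁻¹)⁻¹ =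
      w * (t * c * t⁻¹ * w * (t * c * t⁻¹)⁻¹)⁻¹ := by
    rw [hz]
    have a1 : (t * c * t⁻¹) * (t * s * t⁻¹)⁻¹ = (t * s * t⁻¹)⁻¹ * (t * c * t⁻¹) := by
      rw [eq_inv_mul_iff_mul_eq, ← mul_assoc, ← hcs'', mul_inv_cancel_right]
    calc t * c * t⁻¹ * ((t * s * t⁻¹)⁻¹ * s') * (t * c * t⁻¹)⁻¹
        = (t * c * t⁻¹ * (t * s * t⁻¹)⁻¹) * s' * (t * c * t⁻¹)⁻¹ := by group
      _ = (t * s * t⁻¹)⁻¹ * (t * c * t⁻¹ * s') * (t * c * t⁻¹)⁻¹ := by rw [a1]; group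
      _ = (t * s * t⁻¹)⁻¹ * (s' * (t * c * t⁻¹)) * (t * c * t⁻¹)⁻¹ := by rw [hc's']
      _ = (t * s * t⁻¹)⁻¹ * s' := by group
  have hz1 := xdecomp₂ V (t * c * t⁻¹) (Nat.card G) (pow_card_G G hc''G) hcop w hw hzfix
  rw [hz] at hz1
  have hss' : s' = t * s * t⁻¹ := by
    have := inv_mul_eq_one.mp hz1
    exact this.symm
  have hss : s = s' := by
    obtain ⟨s₀, -, huniq⟩ := hrep s hsV
    have ha := huniq s ⟨hs, 1, G.one_mem, by simp⟩
    have hb := huniq s' ⟨hs', t, ht, hss'.symm⟩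
    rw [ha, hb]
  refine ⟨hss, t, Subgroup.mem_inf.mpr ⟨ht, ?_⟩, h2⟩
  rw [Subgroup.mem_centralizer_singleton_iff]
  rw [← hss] at hss'
  calc t * s = (t * s * t⁻¹) * t := by group
    _ = s * t := by rw [← hss']

end main


theorem result {X : Type*} [Group X] [Finite X] (V : Subgroup X) [V.Normal] (hab : ∀ a ∈ V, ∀ b ∈ V, a * b = b * a) (G : Subgroup X) (hGV : Subgroup.IsComplement' V G) (hcop : (Nat.card V).Coprime (Nat.card G)) (S : Finset X) (hSV : ∀ s ∈ S, s ∈ V) (hrep : ∀ v ∈ V, ∃! s, s ∈ S ∧ ∃ g ∈ G, g * v * g⁻¹ = s) : Nat.card (ConjClasses X) = ∑ s ∈ S, Nat.card (ConjClasses ↥(G ⊓ Subgroup.centralizer ({s} : Set X))) := by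
  classical
  let Ψ : (Σ s : {s // s ∈ S}, ConjClasses ↥(G ⊓ Subgroup.centralizer ({(s : X)} : Set X))) →
      ConjClasses X :=
    fun p => Quotient.liftOn p.2 (fun c => ConjClasses.mk ((p.1 : X) * (c : X))) (by
      intro c c' hcc
      obtain ⟨t, ht⟩ := isConj_iff.mp hcc
      apply ConjClasses.mk_eq_mk_iff_isConj.mpr
      apply isConj_iff.mpr
      refine ⟨(t : X), ?_⟩
      have htc : (t : X) * (p.1 : X) = (p.1 : X) * (t : X) :=
        Subgroup.mem_centralizer_singleton_iff.mp (Subgroup.mem_inf.mp t.2).2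
      have ht' : (t : X) * (c : X) * (t : X)⁻¹ = (c' : X) := by
        have := congrArg Subtype.val ht
        simpa using this
      calc (t : X) * ((p.1 : X) * (c : X)) * (t : X)⁻¹
          = ((t : X) * (p.1 : X)) * (c : X) * (t : X)⁻¹ := by group
        _ = (p.1 : X) * ((t : X) * (c : X) * (t : X)⁻¹) := by rw [htc]; group
        _ = (p.1 : X) * (c' : X) := by rw [ht'])
  have hΨ : ∀ (s : {s // s ∈ S}) (c : ↥(G ⊓ Subgroup.centralizer ({(s : X)} : Set X))),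
      Ψ ⟨s, ConjClasses.mk c⟩ = ConjClasses.mk ((s : X) * (c : X)) := fun s c => rfl
  have hinj : Function.Injective Ψ := by
    rintro ⟨s, q⟩ ⟨s', q'⟩ h
    induction q using Quotient.inductionOn with | _ c => ?_
    induction q' using Quotient.inductionOn with | _ c' => ?_
    change Ψ ⟨s, ConjClasses.mk c⟩ = Ψ ⟨s', ConjClasses.mk c'⟩ at h
    rw [hΨ, hΨ] at h
    obtain ⟨x, hx⟩ := isConj_iff.mp (ConjClasses.mk_eq_mk_iff_isConj.mp h)
    obtain ⟨hss, t, ht, htc⟩ := inj_aux V G hab hGV hcop S hrep s.2 s'.2 (hSV _ s.2) (hSV _ s'.2)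
      c.2 c'.2 x hx
    have hss' : s = s' := Subtype.ext hss
    subst hss'
    have : (Quotient.mk _ c : ConjClasses ↥(G ⊓ Subgroup.centralizer ({(s : X)} : Set X))) =
        Quotient.mk _ c' := by
      apply Quotient.sound
      apply isConj_iff.mpr
      exact ⟨⟨t, ht⟩, Subtype.ext (by simpa using htc)⟩
    rw [this]
  have hsurj : Function.Surjective Ψ := by
    intro q
    induction q using Quotient.inductionOn with | _ x => ?_
    obtain ⟨s, hs, d, hd, y, hy⟩ := surj_aux V G hab hGV hcop S hrep x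
    refine ⟨⟨⟨s, hs⟩, ConjClasses.mk ⟨d, hd⟩⟩, ?_⟩
    rw [hΨ]
    apply ConjClasses.mk_eq_mk_iff_isConj.mpr
    apply isConj_iff.mpr
    refine ⟨y⁻¹, ?_⟩
    simp only
    rw [← hy]
    group
  rw [← Nat.card_congr (Equiv.ofBijective Ψ ⟨hinj, hsurj⟩), Nat.card_sigma,
    Finset.sum_coe_sort S (fun s => Nat.card (ConjClasses ↥(G ⊓ Subgroup.centralizer ({s} : Set X))))]

end Cfsg.Agent.S4956
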