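import Cfsg.Statements.S4965
import Mathlib.Tactic.Group
import Mathlib.GroupTheory.GroupAction.CardCommute

set_option autoImplicit false
open Cfsg

namespace Cfsg.Agent.S4965

section aux

variable {X : Type*} [Group X] (V : Subgroup X)

/-- retraction of the ambient group onto the subgroup (junk value `1` outside). -/
noncomputable def retr (x : X) : ↥V := by
  classical
  exact if h : x ∈ V then ⟨x, h⟩ else 1

theorem retr_of_mem {x : X} (h : x ∈ V) : retr V x = ⟨x, h⟩ := by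
  classical
  simp [retr, h]

/-- a chosen commuting pair above a pair of cosets (junk `(1,1)` if there is none). -/
noncomputable def base (q : (X ⧸ V) × (X ⧸ V)) : X × X := by
  classical
  exact if h : ∃ p : X × X, Commute p.1 p.2 ∧ (QuotientGroup.mk p.1 : X ⧸ V) = q.1 ∧
      (QuotientGroup.mk p.2 : X ⧸ V) = q.2 then Classical.choose h else (1, 1)

theorem base_spec (q : (X ⧸ V) × (X ⧸ V))
    (h : ∃ p : X × X, Commute p.1 p.2 ∧ (QuotientGroup.mk p.1 : X ⧸ V) = q.1 ∧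
      (QuotientGroup.mk p.2 : X ⧸ V) = q.2) :
    Commute (base V q).1 (base V q).2 ∧ (QuotientGroup.mk (base V q).1 : X ⧸ V) = q.1 ∧
      (QuotientGroup.mk (base V q).2 : X ⧸ V) = q.2 := by
  classical
  unfold base
  rw [dif_pos h]
  exact Classical.choose_spec h

theorem mul_inv_mem_of_mk_eq [V.Normal] {x y : X}
    (h : (QuotientGroup.mk x : X ⧸ V) = QuotientGroup.mk y) :
    x * y⁻¹ ∈ V := by
  have h1 : y⁻¹ * x ∈ V := QuotientGroup.eq.mp h.symm
  have h2 := ‹V.Normal›.conj_mem _ h1 y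
  simpa [mul_assoc] using h2

variable [V.Normal] (φ : X ⧸ V →* MulAut ↥V)

/-- the map on pairs -/
noncomputable def FF (p : X × X) : SemidirectProduct ↥V (X ⧸ V) φ × SemidirectProduct ↥V (X ⧸ V) φ :=
  (⟨retr V (p.1 * (base V (QuotientGroup.mk p.1, QuotientGroup.mk p.2)).1⁻¹), QuotientGroup.mk p.1⟩,
   ⟨retr V (p.2 * (base V (QuotientGroup.mk p.1, QuotientGroup.mk p.2)).2⁻¹), QuotientGroup.mk p.2⟩)

theorem hex (p : X × X) (hp : Commute p.1 p.2) :
    ∃ r : X × X, Commute r.1 r.2 ∧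
      (QuotientGroup.mk r.1 : X ⧸ V) =
        ((QuotientGroup.mk p.1 : X ⧸ V), (QuotientGroup.mk p.2 : X ⧸ V)).1 ∧
      (QuotientGroup.mk r.2 : X ⧸ V) =
        ((QuotientGroup.mk p.1 : X ⧸ V), (QuotientGroup.mk p.2 : X ⧸ V)).2 :=
  ⟨p, hp, rfl, rfl⟩

theorem FF_comm
    (hφ : ∀ (x : X) (v : ↥V), ((φ (QuotientGroup.mk x) v : ↥V) : X) = x * v * x⁻¹)
    (p : X × X) (hp : Commute p.1 p.2) : Commute (FF V φ p).1 (FF V φ p).2 := by
  obtain ⟨hc, h1, h2⟩ := base_spec V _ (hex V p hp)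
  have hxm : p.1 * (base V (QuotientGroup.mk p.1, QuotientGroup.mk p.2)).1⁻¹ ∈ V :=
    mul_inv_mem_of_mk_eq V h1.symm
  have hym : p.2 * (base V (QuotientGroup.mk p.1, QuotientGroup.mk p.2)).2⁻¹ ∈ V :=
    mul_inv_mem_of_mk_eq V h2.symm
  have hpc : p.1 * p.2 = p.2 * p.1 := hp
  have hc' : (base V (QuotientGroup.mk p.1, QuotientGroup.mk p.2)).1 *
      (base V (QuotientGroup.mk p.1, QuotientGroup.mk p.2)).2 =
      (base V (QuotientGroup.mk p.1, QuotientGroup.mk p.2)).2 *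
      (base V (QuotientGroup.mk p.1, QuotientGroup.mk p.2)).1 := hc
  show (FF V φ p).1 * (FF V φ p).2 = (FF V φ p).2 * (FF V φ p).1
  unfold FF
  generalize (base V (QuotientGroup.mk p.1, QuotientGroup.mk p.2)).1 = x₁ at *
  generalize (base V (QuotientGroup.mk p.1, QuotientGroup.mk p.2)).2 = y₁ at *
  simp only at h1 h2
  apply SemidirectProduct.ext
  · simp only [SemidirectProduct.mul_left]
    rw [retr_of_mem V hxm, retr_of_mem V hym]
    apply Subtype.ext
    rw [Subgroup.coe_mul, Subgroup.coe_mul]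
    rw [← h1, ← h2, hφ, hφ]
    simp only
    have l1 : p.1 * x₁⁻¹ * (x₁ * (p.2 * y₁⁻¹) * x₁⁻¹) = (p.1 * p.2) * (x₁ * y₁)⁻¹ := by
      group
    have l2 : p.2 * y₁⁻¹ * (y₁ * (p.1 * x₁⁻¹) * y₁⁻¹) = (p.2 * p.1) * (y₁ * x₁)⁻¹ := by
      group
    rw [l1, l2, hpc, hc']
  · simp only [SemidirectProduct.mul_right]
    have := congrArg (QuotientGroup.mk : X → X ⧸ V) hpc
    simpa using this

theorem FF_inj (p p' : X × X) (hp : Commute p.1 p.2) (hp' : Commute p'.1 p'.2)
    (h0 : FF V φ p = FF V φ p') : p = p' := by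
  have ha : (QuotientGroup.mk p.1 : X ⧸ V) = QuotientGroup.mk p'.1 := by
    have := congrArg (fun t : SemidirectProduct ↥V (X ⧸ V) φ × SemidirectProduct ↥V (X ⧸ V) φ => t.1.right) h0
    simpa [FF] using this
  have hb : (QuotientGroup.mk p.2 : X ⧸ V) = QuotientGroup.mk p'.2 := by
    have := congrArg (fun t : SemidirectProduct ↥V (X ⧸ V) φ × SemidirectProduct ↥V (X ⧸ V) φ => t.2.right) h0
    simpa [FF] using this
  obtain ⟨hc, h1, h2⟩ := base_spec V _ (hex V p hp)
  have hl1 := congrArg (fun t : SemidirectProduct ↥V (X ⧸ V) φ × SemidirectProduct ↥V (X ⧸ V) φ => t.1.left) h0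
  have hl2 := congrArg (fun t : SemidirectProduct ↥V (X ⧸ V) φ × SemidirectProduct ↥V (X ⧸ V) φ => t.2.left) h0
  simp only [FF] at hl1 hl2
  rw [← ha, ← hb] at hl1 hl2
  have hxm : p.1 * (base V (QuotientGroup.mk p.1, QuotientGroup.mk p.2)).1⁻¹ ∈ V :=
    mul_inv_mem_of_mk_eq V h1.symm
  have hym : p.2 * (base V (QuotientGroup.mk p.1, QuotientGroup.mk p.2)).2⁻¹ ∈ V :=
    mul_inv_mem_of_mk_eq V h2.symm
  have hxm' : p'.1 * (base V (QuotientGroup.mk p.1, QuotientGroup.mk p.2)).1⁻¹ ∈ V :=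
    mul_inv_mem_of_mk_eq V (by rw [← ha]; exact h1.symm)
  have hym' : p'.2 * (base V (QuotientGroup.mk p.1, QuotientGroup.mk p.2)).2⁻¹ ∈ V :=
    mul_inv_mem_of_mk_eq V (by rw [← hb]; exact h2.symm)
  rw [retr_of_mem V hxm, retr_of_mem V hxm'] at hl1
  rw [retr_of_mem V hym, retr_of_mem V hym'] at hl2
  have e1 := congrArg Subtype.val hl1
  have e2 := congrArg Subtype.val hl2
  simp only at e1 e2
  exact Prod.ext (mul_right_cancel e1) (mul_right_cancel e2)

end aux

theorem result {X : Type*} [Group X] [Finite X] (V : Subgroup X) [V.Normal] (hab : ∀ a ∈ V, ∀ b ∈ V, a * b = b * a) (φ : X ⧸ V →* MulAut ↥V) (hφ : ∀ (x : X) (v : ↥V), ((φ (QuotientGroup.mk x) v : ↥V) : X) = x * v * x⁻¹) : Nat.card (ConjClasses X) ≤ Nat.card (ConjClasses (SemidirectProduct ↥V (X ⧸ V) φ)) := by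
  classical
  have hfinS : Finite (SemidirectProduct ↥V (X ⧸ V) φ) :=
    Finite.of_equiv _ SemidirectProduct.equivProd.symm
  let F' : {p : X × X // Commute p.1 p.2} →
      {p : SemidirectProduct ↥V (X ⧸ V) φ × SemidirectProduct ↥V (X ⧸ V) φ // Commute p.1 p.2} :=
    fun p => ⟨FF V φ p.1, FF_comm V φ hφ p.1 p.2⟩
  have hFinj : Function.Injective F' := by
    intro p p' h
    have h0 : FF V φ p.1 = FF V φ p'.1 := congrArg Subtype.val h
    exact Subtype.ext (FF_inj V φ p.1 p'.1 p.2 p'.2 h0)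
  have hcard := Nat.card_le_card_of_injective F' hFinj
  rw [card_comm_eq_card_conjClasses_mul_card, card_comm_eq_card_conjClasses_mul_card] at hcard
  have hS : Nat.card (SemidirectProduct ↥V (X ⧸ V) φ) = Nat.card X := by
    rw [SemidirectProduct.card, mul_comm, ← Subgroup.card_eq_card_quotient_mul_card_subgroup]
  rw [hS] at hcard
  exact Nat.le_of_mul_le_mul_right hcard Nat.card_pos

end Cfsg.Agent.S4965
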