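import Cfsg.Statements.S4966
import Mathlib.RepresentationTheory.Maschke
import Mathlib.LinearAlgebra.Dual.Lemmas
import Mathlib.LinearAlgebra.FiniteDimensional.Lemmas

set_option autoImplicit false
open Cfsg

namespace Cfsg.Agent.S4966

section basics

variable {F : Type*} [Field F] {G : Type*} [Group G]
  {V : Type*} [AddCommGroup V] [Module F V] (ρ : Representation F G V)

/-- invariant subspace -/
def Inv (U : Submodule F V) : Prop := ∀ g : G, ∀ u ∈ U, ρ g u ∈ U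

/-- alternating, invariant, nondegenerate on `U` -/
def AltOn (A : LinearMap.BilinForm F V) (U : Submodule F V) : Prop :=
  (∀ x ∈ U, A x x = 0) ∧ (∀ g : G, ∀ x ∈ U, ∀ y ∈ U, A (ρ g x) (ρ g y) = A x y) ∧
    (∀ x ∈ U, (∀ y ∈ U, A x y = 0) → x = 0)

/-- symmetric, invariant, nondegenerate on `W` -/
def SymOn (S : LinearMap.BilinForm F V) (W : Submodule F V) : Prop :=
  (∀ x ∈ W, ∀ y ∈ W, S x y = S y x) ∧ (∀ g : G, ∀ x ∈ W, ∀ y ∈ W, S (ρ g x) (ρ g y) = S x y) ∧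
    (∀ x ∈ W, (∀ y ∈ W, S x y = 0) → x = 0)

/-- projections attached to two disjoint subspaces -/
theorem exists_projs (U₁ U₂ : Submodule F V) (hd : U₁ ⊓ U₂ = ⊥) :
    ∃ q₁ q₂ : V →ₗ[F] V, (∀ x ∈ U₁, q₁ x = x) ∧ (∀ x ∈ U₂, q₁ x = 0) ∧
      (∀ x ∈ U₁, q₂ x = 0) ∧ (∀ x ∈ U₂, q₂ x = x) := by
  let f : (U₁ × U₂) →ₗ[F] V := U₁.subtype.coprod U₂.subtype
  have hf : LinearMap.ker f = ⊥ := by
    rw [LinearMap.ker_eq_bot']
    rintro ⟨a, b⟩ hab
    have h1 : (a : V) + (b : V) = 0 := by simpa [f] using hab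
    have h2 : (a : V) = -(b : V) := eq_neg_of_add_eq_zero_left h1
    have h3 : (a : V) ∈ U₁ ⊓ U₂ := ⟨a.2, by rw [h2]; exact U₂.neg_mem b.2⟩
    rw [hd, Submodule.mem_bot] at h3
    have h4 : (b : V) = 0 := by rw [h3, zero_add] at h1; exact h1
    ext <;> simp [h3, h4]
  obtain ⟨g, hg⟩ := f.exists_leftInverse_of_injective hf
  have hg' : ∀ z, g (f z) = z := fun z => LinearMap.congr_fun hg z
  refine ⟨U₁.subtype ∘ₗ (LinearMap.fst F U₁ U₂) ∘ₗ g, U₂.subtype ∘ₗ (LinearMap.snd F U₁ U₂) ∘ₗ g,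
    ?_, ?_, ?_, ?_⟩
  · intro x hx
    have : g x = (⟨x, hx⟩, 0) := by
      rw [← hg' (⟨x, hx⟩, 0)]; simp [f]
    simp [this]
  · intro x hx
    have : g x = (0, ⟨x, hx⟩) := by
      rw [← hg' (0, ⟨x, hx⟩)]; simp [f]
    simp [this]
  · intro x hx
    have : g x = (⟨x, hx⟩, 0) := by
      rw [← hg' (⟨x, hx⟩, 0)]; simp [f]
    simp [this]
  · intro x hx
    have : g x = (0, ⟨x, hx⟩) := by
      rw [← hg' (0, ⟨x, hx⟩)]; simp [f]
    simp [this]

theorem glueAlt (U₁ U₂ : Submodule F V) (hd : U₁ ⊓ U₂ = ⊥) (h1 : Inv ρ U₁) (h2 : Inv ρ U₂)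
    (A₁ A₂ : LinearMap.BilinForm F V) (hA₁ : AltOn ρ A₁ U₁) (hA₂ : AltOn ρ A₂ U₂) :
    ∃ A : LinearMap.BilinForm F V, AltOn ρ A (U₁ ⊔ U₂) := by
  obtain ⟨q₁, q₂, h11, h12, h21, h22⟩ := exists_projs U₁ U₂ hd
  let A : LinearMap.BilinForm F V := A₁.compl₁₂ q₁ q₁ + A₂.compl₁₂ q₂ q₂
  have hA : ∀ x₁ ∈ U₁, ∀ x₂ ∈ U₂, ∀ y₁ ∈ U₁, ∀ y₂ ∈ U₂,
      A (x₁ + x₂) (y₁ + y₂) = A₁ x₁ y₁ + A₂ x₂ y₂ := by
    intro x₁ hx₁ x₂ hx₂ y₁ hy₁ y₂ hy₂
    have e1 : q₁ (x₁ + x₂) = x₁ := by rw [map_add, h11 _ hx₁, h12 _ hx₂, add_zero]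
    have e2 : q₁ (y₁ + y₂) = y₁ := by rw [map_add, h11 _ hy₁, h12 _ hy₂, add_zero]
    have e3 : q₂ (x₁ + x₂) = x₂ := by rw [map_add, h21 _ hx₁, h22 _ hx₂, zero_add]
    have e4 : q₂ (y₁ + y₂) = y₂ := by rw [map_add, h21 _ hy₁, h22 _ hy₂, zero_add]
    show A₁ (q₁ (x₁ + x₂)) (q₁ (y₁ + y₂)) + A₂ (q₂ (x₁ + x₂)) (q₂ (y₁ + y₂)) = _
    rw [e1, e2, e3, e4]
  refine ⟨A, ?_, ?_, ?_⟩
  · intro x hx
    obtain ⟨x₁, hx₁, x₂, hx₂, rfl⟩ := Submodule.mem_sup.mp hx
    rw [hA _ hx₁ _ hx₂ _ hx₁ _ hx₂, hA₁.1 _ hx₁, hA₂.1 _ hx₂, add_zero]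
  · intro g x hx y hy
    obtain ⟨x₁, hx₁, x₂, hx₂, rfl⟩ := Submodule.mem_sup.mp hx
    obtain ⟨y₁, hy₁, y₂, hy₂, rfl⟩ := Submodule.mem_sup.mp hy
    rw [(ρ g).map_add x₁ x₂, (ρ g).map_add y₁ y₂, hA _ (h1 g _ hx₁) _ (h2 g _ hx₂) _ (h1 g _ hy₁) _ (h2 g _ hy₂),
      hA _ hx₁ _ hx₂ _ hy₁ _ hy₂, hA₁.2.1 g _ hx₁ _ hy₁, hA₂.2.1 g _ hx₂ _ hy₂]
  · intro x hx hxy
    obtain ⟨x₁, hx₁, x₂, hx₂, rfl⟩ := Submodule.mem_sup.mp hx
    have e1 : x₁ = 0 := by
      apply hA₁.2.2 _ hx₁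
      intro y hy
      have := hxy y (Submodule.mem_sup_left hy)
      have h3 := hA _ hx₁ _ hx₂ _ hy _ U₂.zero_mem
      rw [add_zero] at h3
      rw [h3, map_zero, add_zero] at this
      exact this
    have e2 : x₂ = 0 := by
      apply hA₂.2.2 _ hx₂
      intro y hy
      have := hxy y (Submodule.mem_sup_right hy)
      have h3 := hA _ hx₁ _ hx₂ _ U₁.zero_mem _ hy
      rw [zero_add] at h3
      rw [h3, map_zero, zero_add] at this
      exact this
    rw [e1, e2, add_zero]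


theorem glueSym (U₁ U₂ : Submodule F V) (hd : U₁ ⊓ U₂ = ⊥) (h1 : Inv ρ U₁) (h2 : Inv ρ U₂)
    (A₁ A₂ : LinearMap.BilinForm F V) (hA₁ : SymOn ρ A₁ U₁) (hA₂ : SymOn ρ A₂ U₂) :
    ∃ A : LinearMap.BilinForm F V, SymOn ρ A (U₁ ⊔ U₂) := by
  obtain ⟨q₁, q₂, h11, h12, h21, h22⟩ := exists_projs U₁ U₂ hd
  let A : LinearMap.BilinForm F V := A₁.compl₁₂ q₁ q₁ + A₂.compl₁₂ q₂ q₂
  have hA : ∀ x₁ ∈ U₁, ∀ x₂ ∈ U₂, ∀ y₁ ∈ U₁, ∀ y₂ ∈ U₂,
      A (x₁ + x₂) (y₁ + y₂) = A₁ x₁ y₁ + A₂ x₂ y₂ := by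
    intro x₁ hx₁ x₂ hx₂ y₁ hy₁ y₂ hy₂
    have e1 : q₁ (x₁ + x₂) = x₁ := by rw [map_add, h11 _ hx₁, h12 _ hx₂, add_zero]
    have e2 : q₁ (y₁ + y₂) = y₁ := by rw [map_add, h11 _ hy₁, h12 _ hy₂, add_zero]
    have e3 : q₂ (x₁ + x₂) = x₂ := by rw [map_add, h21 _ hx₁, h22 _ hx₂, zero_add]
    have e4 : q₂ (y₁ + y₂) = y₂ := by rw [map_add, h21 _ hy₁, h22 _ hy₂, zero_add]
    show A₁ (q₁ (x₁ + x₂)) (q₁ (y₁ + y₂)) + A₂ (q₂ (x₁ + x₂)) (q₂ (y₁ + y₂)) = _
    rw [e1, e2, e3, e4]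
  refine ⟨A, ?_, ?_, ?_⟩
  · intro x hx y hy
    obtain ⟨x₁, hx₁, x₂, hx₂, rfl⟩ := Submodule.mem_sup.mp hx
    obtain ⟨y₁, hy₁, y₂, hy₂, rfl⟩ := Submodule.mem_sup.mp hy
    rw [hA _ hx₁ _ hx₂ _ hy₁ _ hy₂, hA _ hy₁ _ hy₂ _ hx₁ _ hx₂, hA₁.1 _ hx₁ _ hy₁,
      hA₂.1 _ hx₂ _ hy₂]
  · intro g x hx y hy
    obtain ⟨x₁, hx₁, x₂, hx₂, rfl⟩ := Submodule.mem_sup.mp hx
    obtain ⟨y₁, hy₁, y₂, hy₂, rfl⟩ := Submodule.mem_sup.mp hy
    rw [(ρ g).map_add x₁ x₂, (ρ g).map_add y₁ y₂,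
      hA _ (h1 g _ hx₁) _ (h2 g _ hx₂) _ (h1 g _ hy₁) _ (h2 g _ hy₂),
      hA _ hx₁ _ hx₂ _ hy₁ _ hy₂, hA₁.2.1 g _ hx₁ _ hy₁, hA₂.2.1 g _ hx₂ _ hy₂]
  · intro x hx hxy
    obtain ⟨x₁, hx₁, x₂, hx₂, rfl⟩ := Submodule.mem_sup.mp hx
    have e1 : x₁ = 0 := by
      apply hA₁.2.2 _ hx₁
      intro y hy
      have := hxy y (Submodule.mem_sup_left hy)
      have h3 := hA _ hx₁ _ hx₂ _ hy _ U₂.zero_mem
      rw [add_zero] at h3
      rw [h3, map_zero, add_zero] at this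
      exact this
    have e2 : x₂ = 0 := by
      apply hA₂.2.2 _ hx₂
      intro y hy
      have := hxy y (Submodule.mem_sup_right hy)
      have h3 := hA _ hx₁ _ hx₂ _ U₁.zero_mem _ hy
      rw [zero_add] at h3
      rw [h3, map_zero, zero_add] at this
      exact this
    rw [e1, e2, add_zero]

/-- the decomposition property for an invariant subspace `P` -/
def Good (p : ℕ) (P : Submodule F V) : Prop :=
  ∃ U W : Submodule F V, U ⊓ W = ⊥ ∧ U ⊔ W = P ∧ Inv ρ U ∧ Inv ρ W ∧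
    (∃ A : LinearMap.BilinForm F V, AltOn ρ A U) ∧ (∃ S : LinearMap.BilinForm F V, SymOn ρ S W) ∧
    (p = 2 → W = ⊥)

theorem altOn_bot (A : LinearMap.BilinForm F V) : AltOn ρ A ⊥ := by
  refine ⟨?_, ?_, ?_⟩
  · intro x hx; rw [(Submodule.mem_bot F).mp hx]; simp
  · intro g x hx y hy; rw [(Submodule.mem_bot F).mp hx]; simp
  · intro x hx _; exact (Submodule.mem_bot F).mp hx

theorem symOn_bot (A : LinearMap.BilinForm F V) : SymOn ρ A ⊥ := by
  refine ⟨?_, ?_, ?_⟩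
  · intro x hx y hy; rw [(Submodule.mem_bot F).mp hx, (Submodule.mem_bot F).mp hy]
  · intro g x hx y hy; rw [(Submodule.mem_bot F).mp hx]; simp
  · intro x hx _; exact (Submodule.mem_bot F).mp hx

theorem inv_bot : Inv ρ (⊥ : Submodule F V) := by
  intro g u hu
  rw [(Submodule.mem_bot F).mp hu, map_zero]
  exact Submodule.zero_mem _

theorem inv_sup {U₁ U₂ : Submodule F V} (h1 : Inv ρ U₁) (h2 : Inv ρ U₂) : Inv ρ (U₁ ⊔ U₂) := by
  intro g u hu
  obtain ⟨x₁, hx₁, x₂, hx₂, rfl⟩ := Submodule.mem_sup.mp hu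
  rw [map_add]
  exact Submodule.add_mem _ (Submodule.mem_sup_left (h1 g _ hx₁)) (Submodule.mem_sup_right (h2 g _ hx₂))

theorem glueGood (p : ℕ) (P₁ P₂ : Submodule F V) (hd : P₁ ⊓ P₂ = ⊥)
    (h1 : Good ρ p P₁) (h2 : Good ρ p P₂) : Good ρ p (P₁ ⊔ P₂) := by
  obtain ⟨U₁, W₁, hUW₁, hsup₁, hU₁, hW₁, ⟨A₁, hA₁⟩, ⟨S₁, hS₁⟩, htwo₁⟩ := h1
  obtain ⟨U₂, W₂, hUW₂, hsup₂, hU₂, hW₂, ⟨A₂, hA₂⟩, ⟨S₂, hS₂⟩, htwo₂⟩ := h2
  have hU₁P : U₁ ≤ P₁ := hsup₁ ▸ le_sup_left
  have hW₁P : W₁ ≤ P₁ := hsup₁ ▸ le_sup_right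
  have hU₂P : U₂ ≤ P₂ := hsup₂ ▸ le_sup_left
  have hW₂P : W₂ ≤ P₂ := hsup₂ ▸ le_sup_right
  have hdU : U₁ ⊓ U₂ = ⊥ := le_bot_iff.mp (hd ▸ inf_le_inf hU₁P hU₂P)
  have hdW : W₁ ⊓ W₂ = ⊥ := le_bot_iff.mp (hd ▸ inf_le_inf hW₁P hW₂P)
  refine ⟨U₁ ⊔ U₂, W₁ ⊔ W₂, ?_, ?_, inv_sup ρ hU₁ hU₂, inv_sup ρ hW₁ hW₂,
    glueAlt ρ U₁ U₂ hdU hU₁ hU₂ A₁ A₂ hA₁ hA₂, glueSym ρ W₁ W₂ hdW hW₁ hW₂ S₁ S₂ hS₁ hS₂, ?_⟩
  · rw [Submodule.eq_bot_iff]
    rintro x ⟨hxU, hxW⟩
    obtain ⟨u₁, hu₁, u₂, hu₂, rfl⟩ := Submodule.mem_sup.mp hxU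
    obtain ⟨w₁, hw₁, w₂, hw₂, hw⟩ := Submodule.mem_sup.mp hxW
    have h3 : u₁ - w₁ = w₂ - u₂ := by
      rw [sub_eq_sub_iff_add_eq_add, add_comm w₂, hw, add_comm]
    have h4 : u₁ - w₁ ∈ P₁ ⊓ P₂ :=
      ⟨P₁.sub_mem (hU₁P hu₁) (hW₁P hw₁), h3 ▸ P₂.sub_mem (hW₂P hw₂) (hU₂P hu₂)⟩
    rw [hd, Submodule.mem_bot] at h4
    have h5 : w₂ - u₂ = 0 := by rw [← h3, h4]
    have e1 : u₁ = w₁ := sub_eq_zero.mp h4
    have e2 : w₂ = u₂ := sub_eq_zero.mp h5
    have h6 : u₁ ∈ U₁ ⊓ W₁ := ⟨hu₁, e1 ▸ hw₁⟩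
    have h7 : u₂ ∈ U₂ ⊓ W₂ := ⟨hu₂, e2 ▸ hw₂⟩
    rw [hUW₁, Submodule.mem_bot] at h6
    rw [hUW₂, Submodule.mem_bot] at h7
    rw [h6, h7, add_zero]
  · rw [sup_sup_sup_comm, hsup₁, hsup₂]
  · intro h
    rw [htwo₁ h, htwo₂ h, sup_bot_eq]

end basics

section dual

variable {F : Type*} [Field F]

theorem dual_surj {N : Type*} [AddCommGroup N] [Module F N] [FiniteDimensional F N]
    (b : N →ₗ[F] N →ₗ[F] F) (hb : ∀ x, (∀ y, b x y = 0) → x = 0) :
    (∀ φ : N →ₗ[F] F, ∃ x, ∀ y, b x y = φ y) ∧ (∀ y, (∀ x, b x y = 0) → y = 0) ∧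
    (∀ φ : N →ₗ[F] F, ∃ y, ∀ x, b x y = φ x) := by
  have hfr : Module.finrank F N = Module.finrank F (Module.Dual F N) :=
    (Subspace.dual_finrank_eq).symm
  have hinj : Function.Injective (b : N →ₗ[F] Module.Dual F N) := by
    rw [injective_iff_map_eq_zero]
    intro x hx
    apply hb
    intro y
    rw [hx]; rfl
  have hsurj : Function.Surjective (b : N →ₗ[F] Module.Dual F N) :=
    (LinearMap.injective_iff_surjective_of_finrank_eq_finrank hfr).mp hinj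
  have h1 : ∀ φ : N →ₗ[F] F, ∃ x, ∀ y, b x y = φ y := by
    intro φ
    obtain ⟨x, hx⟩ := hsurj φ
    exact ⟨x, fun y => by rw [hx]⟩
  have h2 : ∀ y, (∀ x, b x y = 0) → y = 0 := by
    intro y hy
    rw [← Module.forall_dual_apply_eq_zero_iff F y]
    intro φ
    obtain ⟨x, hx⟩ := h1 φ
    rw [← hx y]; exact hy x
  refine ⟨h1, h2, ?_⟩
  have hinj' : Function.Injective (b.flip : N →ₗ[F] Module.Dual F N) := by
    rw [injective_iff_map_eq_zero]
    intro y hy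
    apply h2
    intro x
    have : b.flip y x = 0 := by rw [hy]; rfl
    simpa using this
  have hsurj' : Function.Surjective (b.flip : N →ₗ[F] Module.Dual F N) :=
    (LinearMap.injective_iff_surjective_of_finrank_eq_finrank hfr).mp hinj'
  intro φ
  obtain ⟨y, hy⟩ := hsurj' φ
  refine ⟨y, fun x => ?_⟩
  have : b.flip y x = φ x := by rw [hy]
  simpa using this

variable {V : Type*} [AddCommGroup V] [Module F V] [FiniteDimensional F V]

/-- left nondegenerate on a subspace -/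
def LeftNondegOn (B : LinearMap.BilinForm F V) (P : Submodule F V) : Prop :=
  ∀ x ∈ P, (∀ y ∈ P, B x y = 0) → x = 0

theorem sub_dual (B : LinearMap.BilinForm F V) (N : Submodule F V)
    (hN : LeftNondegOn B N) :
    (∀ φ : V →ₗ[F] F, ∃ x ∈ N, ∀ y ∈ N, B x y = φ y) ∧
    (∀ y ∈ N, (∀ x ∈ N, B x y = 0) → y = 0) ∧
    (∀ φ : V →ₗ[F] F, ∃ y ∈ N, ∀ x ∈ N, B x y = φ x) := by
  have hb : ∀ x : N, (∀ y : N, B.domRestrict₁₂ N N x y = 0) → x = 0 := by
    intro x hx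
    have := hN x.1 x.2 (fun y hy => hx ⟨y, hy⟩)
    exact Subtype.ext this
  obtain ⟨h1, h2, h3⟩ := dual_surj (B.domRestrict₁₂ N N) hb
  refine ⟨?_, ?_, ?_⟩
  · intro φ
    obtain ⟨x, hx⟩ := h1 (φ ∘ₗ N.subtype)
    exact ⟨x.1, x.2, fun y hy => hx ⟨y, hy⟩⟩
  · intro y hy hxy
    have := h2 ⟨y, hy⟩ (fun x => hxy x.1 x.2)
    exact congrArg Subtype.val this
  · intro φ
    obtain ⟨y, hy⟩ := h3 (φ ∘ₗ N.subtype)
    exact ⟨y.1, y.2, fun x hx => hy ⟨x, hx⟩⟩

/-- right perpendicular of `N` inside `P` -/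
def rperp (B : LinearMap.BilinForm F V) (P N : Submodule F V) : Submodule F V where
  carrier := {y | y ∈ P ∧ ∀ n ∈ N, B n y = 0}
  add_mem' := by
    rintro a b ⟨ha, ha'⟩ ⟨hb, hb'⟩
    exact ⟨P.add_mem ha hb, fun n hn => by rw [map_add, ha' n hn, hb' n hn, add_zero]⟩
  zero_mem' := ⟨P.zero_mem, fun n _ => by rw [map_zero]⟩
  smul_mem' := by
    rintro c a ⟨ha, ha'⟩
    exact ⟨P.smul_mem c ha, fun n hn => by rw [map_smul, ha' n hn, smul_zero]⟩

theorem mem_rperp {B : LinearMap.BilinForm F V} {P N : Submodule F V} {y : V} :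
    y ∈ rperp B P N ↔ y ∈ P ∧ ∀ n ∈ N, B n y = 0 := Iff.rfl

theorem rperp_le (B : LinearMap.BilinForm F V) (P N : Submodule F V) : rperp B P N ≤ P :=
  fun _ hy => hy.1

theorem oc (B : LinearMap.BilinForm F V) (P N : Submodule F V) (hNP : N ≤ P)
    (hP : LeftNondegOn B P) (hN : LeftNondegOn B N) :
    N ⊓ rperp B P N = ⊥ ∧ N ⊔ rperp B P N = P ∧ LeftNondegOn B (rperp B P N) := by
  obtain ⟨h1, h2, h3⟩ := sub_dual B N hN
  have hinf : N ⊓ rperp B P N = ⊥ := by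
    rw [Submodule.eq_bot_iff]
    rintro x ⟨hxN, hxP⟩
    exact h2 x hxN (fun n hn => hxP.2 n hn)
  have hsup : N ⊔ rperp B P N = P := by
    apply le_antisymm (sup_le hNP (rperp_le B P N))
    intro x hx
    obtain ⟨y, hy, hyx⟩ := h3 (B.flip x)
    have hmem : x - y ∈ rperp B P N := by
      refine ⟨P.sub_mem hx (hNP hy), fun n hn => ?_⟩
      rw [map_sub, hyx n hn, LinearMap.BilinForm.flip_apply, sub_self]
    have : x = y + (x - y) := by abel
    rw [this]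
    exact Submodule.add_mem _ (Submodule.mem_sup_left hy) (Submodule.mem_sup_right hmem)
  refine ⟨hinf, hsup, ?_⟩
  intro x hx hxy
  obtain ⟨m, hm, hmx⟩ := h1 (B x)
  have hxm : x - m = 0 := by
    apply hP _ (P.sub_mem hx.1 (hNP hm))
    intro y hy
    rw [← hsup] at hy
    obtain ⟨n, hn, y', hy', rfl⟩ := Submodule.mem_sup.mp hy
    have e1 : B (x - m) n = 0 := by
      rw [map_sub, LinearMap.sub_apply, hmx n hn, sub_self]
    have e2 : B (x - m) y' = 0 := by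
      rw [map_sub, LinearMap.sub_apply, hxy y' hy', hy'.2 m hm, sub_self]
    rw [map_add, e1, e2, add_zero]
  have hxm' : x = m := sub_eq_zero.mp hxm
  have : x ∈ N ⊓ rperp B P N := ⟨hxm' ▸ hm, hx⟩
  rw [hinf, Submodule.mem_bot] at this
  exact this

end dual

section claim

variable {F : Type*} [Field F] {G : Type*} [Group G]
  {V : Type*} [AddCommGroup V] [Module F V] (ρ : Representation F G V)

/-- `B` is invariant on `P` -/
def InvOn (B : LinearMap.BilinForm F V) (P : Submodule F V) : Prop :=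
  ∀ g : G, ∀ x ∈ P, ∀ y ∈ P, B (ρ g x) (ρ g y) = B x y

theorem rho_inv_apply (g : G) (x : V) : ρ g (ρ g⁻¹ x) = x := by
  have : (ρ g * ρ g⁻¹) x = x := by rw [← map_mul, mul_inv_cancel, map_one]; rfl
  exact this

theorem InvOn.mono {B : LinearMap.BilinForm F V} {P Q : Submodule F V} (h : InvOn ρ B P)
    (hQ : Q ≤ P) : InvOn ρ B Q :=
  fun g x hx y hy => h g x (hQ hx) y (hQ hy)

theorem inv_rperp (B : LinearMap.BilinForm F V) (P N : Submodule F V) (hP : Inv ρ P)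
    (hN : Inv ρ N) (hB : InvOn ρ B P) (hNP : N ≤ P) : Inv ρ (rperp B P N) := by
  intro g y hy
  refine ⟨hP g y hy.1, fun n hn => ?_⟩
  have h1 : ρ g⁻¹ n ∈ N := hN g⁻¹ n hn
  have h2 := hB g _ (hNP h1) y hy.1
  rw [rho_inv_apply] at h2
  rw [h2]
  exact hy.2 _ h1

/-- the part of `P` on which `B` is symmetric against all of `P` -/
def symPart (B : LinearMap.BilinForm F V) (P : Submodule F V) : Submodule F V where
  carrier := {x | x ∈ P ∧ ∀ y ∈ P, B x y = B y x}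
  add_mem' := by
    rintro a b ⟨ha, ha'⟩ ⟨hb, hb'⟩
    exact ⟨P.add_mem ha hb, fun y hy => by
      rw [map_add, LinearMap.add_apply, map_add, ha' y hy, hb' y hy]⟩
  zero_mem' := ⟨P.zero_mem, fun y _ => by rw [map_zero, map_zero, LinearMap.zero_apply]⟩
  smul_mem' := by
    rintro c a ⟨ha, ha'⟩
    exact ⟨P.smul_mem c ha, fun y hy => by
      rw [map_smul, LinearMap.smul_apply, map_smul, ha' y hy]⟩

theorem symPart_le (B : LinearMap.BilinForm F V) (P : Submodule F V) : symPart B P ≤ P :=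
  fun _ hy => hy.1

theorem inv_symPart (B : LinearMap.BilinForm F V) (P : Submodule F V) (hP : Inv ρ P)
    (hB : InvOn ρ B P) : Inv ρ (symPart B P) := by
  intro g x hx
  refine ⟨hP g x hx.1, fun y hy => ?_⟩
  have h1 : ρ g⁻¹ y ∈ P := hP g⁻¹ y hy
  have h2 := hB g x hx.1 _ h1
  have h3 := hB g _ h1 x hx.1
  rw [rho_inv_apply] at h2 h3
  rw [h2, h3]
  exact hx.2 _ h1

theorem maschke [Finite G] [NeZero (Nat.card G : F)] (M : Submodule F V) (hM : Inv ρ M) :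
    ∃ C : Submodule F V, Inv ρ C ∧ M ⊓ C = ⊥ ∧ M ⊔ C = ⊤ := by
  obtain ⟨τ, hτ⟩ := exists_isCompl (⟨M, fun g v hv => hM g v hv⟩ : Subrepresentation ρ)
  refine ⟨τ.toSubmodule, fun g v hv => τ.apply_mem_toSubmodule g hv, ?_, ?_⟩
  · have := congrArg Subrepresentation.toSubmodule hτ.inf_eq_bot
    exact this
  · have := congrArg Subrepresentation.toSubmodule hτ.sup_eq_top
    exact this

end claim


section claim2

variable {F : Type*} [Field F] {G : Type*} [Group G]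
  {V : Type*} [AddCommGroup V] [Module F V] (ρ : Representation F G V)

theorem hyp_piece [Finite G] [FiniteDimensional F V] [NeZero (Nat.card G : F)]
    (B : LinearMap.BilinForm F V) (P Z : Submodule F V) (hP : Inv ρ P) (hBP : InvOn ρ B P)
    (hnd : LeftNondegOn B P) (hZP : Z ≤ P) (hZ : Inv ρ Z)
    (hZsym : ∀ z ∈ Z, ∀ y ∈ P, B z y = B y z) (hZiso : ∀ z ∈ Z, ∀ z' ∈ Z, B z z' = 0) :
    ∃ N : Submodule F V, N ≤ P ∧ Z ≤ N ∧ Inv ρ N ∧ LeftNondegOn B N ∧
      ∃ A : LinearMap.BilinForm F V, AltOn ρ A N := by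
  have hZpinv : Inv ρ (rperp B P Z) := inv_rperp ρ B P Z hP hZ hBP hZP
  have hZZp : Z ≤ rperp B P Z := fun z hz => ⟨hZP hz, fun n hn => hZiso n hn z hz⟩
  obtain ⟨C, hC, hC1, hC2⟩ := maschke ρ (rperp B P Z) hZpinv
  have hYinv : Inv ρ (P ⊓ C) := fun g y hy => ⟨hP g y hy.1, hC g y hy.2⟩
  have hYP : P ⊓ C ≤ P := inf_le_left
  have hZpY : rperp B P Z ⊓ (P ⊓ C) = ⊥ :=
    le_bot_iff.mp (hC1 ▸ inf_le_inf le_rfl inf_le_right)
  have hZpYsup : rperp B P Z ⊔ (P ⊓ C) = P := by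
    have := sup_inf_assoc_of_le C (rperp_le B P Z)
    rw [hC2, top_inf_eq] at this
    rw [inf_comm]; exact this.symm
  have hd : Z ⊓ (P ⊓ C) = ⊥ := le_bot_iff.mp (hZpY ▸ inf_le_inf hZZp le_rfl)
  have key1 : ∀ z ∈ Z, (∀ y ∈ P ⊓ C, B z y = 0) → z = 0 := by
    intro z hz hzy
    apply hnd z (hZP hz)
    intro w hw
    rw [← hZpYsup] at hw
    obtain ⟨a, ha, y, hy, rfl⟩ := Submodule.mem_sup.mp hw
    rw [map_add, ha.2 z hz, hzy y hy, add_zero]
  have key2 : ∀ y ∈ P ⊓ C, (∀ z ∈ Z, B z y = 0) → y = 0 := by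
    intro y hy hzy
    have : y ∈ rperp B P Z ⊓ (P ⊓ C) := ⟨⟨hYP hy, hzy⟩, hy⟩
    rw [hZpY, Submodule.mem_bot] at this
    exact this
  obtain ⟨q₁, q₂, h11, h12, h21, h22⟩ := exists_projs Z (P ⊓ C) hd
  refine ⟨Z ⊔ (P ⊓ C), sup_le hZP hYP, le_sup_left, inv_sup ρ hZ hYinv, ?_, ?_⟩
  · intro x hx hxy
    obtain ⟨z, hz, y, hy, rfl⟩ := Submodule.mem_sup.mp hx
    have hy0 : y = 0 := by
      apply key2 y hy
      intro z' hz'
      have := hxy z' (Submodule.mem_sup_left hz')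
      rw [map_add, LinearMap.add_apply, hZiso z hz z' hz', zero_add] at this
      rw [hZsym z' hz' y (hYP hy)]
      exact this
    have hz0 : z = 0 := by
      apply key1 z hz
      intro y' hy'
      have := hxy y' (Submodule.mem_sup_right hy')
      rw [hy0, add_zero] at this
      exact this
    rw [hy0, hz0, add_zero]
  · let A : LinearMap.BilinForm F V :=
      B.compl₁₂ q₁ q₂ - LinearMap.flip (B.compl₁₂ q₁ q₂)
    have hA : ∀ z ∈ Z, ∀ y ∈ P ⊓ C, ∀ z' ∈ Z, ∀ y' ∈ P ⊓ C,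
        A (z + y) (z' + y') = B z y' - B z' y := by
      intro z hz y hy z' hz' y' hy'
      have e1 : q₁ (z + y) = z := by rw [map_add, h11 _ hz, h12 _ hy, add_zero]
      have e2 : q₂ (z' + y') = y' := by rw [map_add, h21 _ hz', h22 _ hy', zero_add]
      have e3 : q₁ (z' + y') = z' := by rw [map_add, h11 _ hz', h12 _ hy', add_zero]
      have e4 : q₂ (z + y) = y := by rw [map_add, h21 _ hz, h22 _ hy, zero_add]
      show B (q₁ (z + y)) (q₂ (z' + y')) - B (q₁ (z' + y')) (q₂ (z + y)) = _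
      rw [e1, e2, e3, e4]
    refine ⟨A, ?_, ?_, ?_⟩
    · intro x hx
      obtain ⟨z, hz, y, hy, rfl⟩ := Submodule.mem_sup.mp hx
      rw [hA z hz y hy z hz y hy, sub_self]
    · intro g x hx x' hx'
      obtain ⟨z, hz, y, hy, rfl⟩ := Submodule.mem_sup.mp hx
      obtain ⟨z', hz', y', hy', rfl⟩ := Submodule.mem_sup.mp hx'
      rw [(ρ g).map_add z y, (ρ g).map_add z' y',
        hA _ (hZ g z hz) _ (hYinv g y hy) _ (hZ g z' hz') _ (hYinv g y' hy'),
        hA z hz y hy z' hz' y' hy', hBP g z (hZP hz) y' (hYP hy'), hBP g z' (hZP hz') y (hYP hy)]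
    · intro x hx hxy
      obtain ⟨z, hz, y, hy, rfl⟩ := Submodule.mem_sup.mp hx
      have hz0 : z = 0 := by
        apply key1 z hz
        intro y' hy'
        have := hxy y' (Submodule.mem_sup_right hy')
        have h3 := hA z hz y hy 0 Z.zero_mem y' hy'
        rw [zero_add] at h3
        rw [h3, map_zero, LinearMap.zero_apply, sub_zero] at this
        exact this
      have hy0 : y = 0 := by
        apply key2 y hy
        intro z' hz'
        have := hxy z' (Submodule.mem_sup_left hz')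
        have h3 := hA z hz y hy z' hz' 0 (Submodule.zero_mem _)
        rw [add_zero] at h3
        rw [h3, map_zero, zero_sub, neg_eq_zero] at this
        exact this
      rw [hy0, hz0, add_zero]

theorem alt_of_char2 [Finite G] [NeZero (Nat.card G : F)] (h2 : (2 : F) = 0)
    (B : LinearMap.BilinForm F V) (R : Submodule F V) (hR : Inv ρ R)
    (hsym : ∀ x ∈ R, ∀ y ∈ R, B x y = B y x) (hinv : InvOn ρ B R)
    (hfix : ∀ x ∈ R, (∀ g, ρ g x = x) → x = 0) : ∀ x ∈ R, B x x = 0 := by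
  classical
  cases nonempty_fintype G
  intro x hx
  have hadd : ∀ a ∈ R, ∀ b ∈ R, B (a + b) (a + b) = B a a + B b b := by
    intro a ha b hb
    have e : B (a + b) (a + b) = B a a + B b b + (B a b + B b a) := by
      simp only [map_add, LinearMap.add_apply]; ring
    rw [e, hsym b hb a ha, ← two_mul, h2, zero_mul, add_zero]
  have hT : ∀ T : Finset G, (∑ g ∈ T, ρ g x) ∈ R ∧
      B (∑ g ∈ T, ρ g x) (∑ g ∈ T, ρ g x) = (T.card : F) * B x x := by
    intro T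
    induction T using Finset.induction_on with
    | empty => simp
    | insert a T ha ih =>
      rw [Finset.sum_insert ha, Finset.card_insert_of_notMem ha]
      refine ⟨R.add_mem (hR a x hx) ih.1, ?_⟩
      rw [hadd _ (hR a x hx) _ ih.1, ih.2, hinv a x hx x hx]
      push_cast
      ring
  have hs : (∑ g : G, ρ g x) = 0 := by
    apply hfix _ (hT Finset.univ).1
    intro h
    rw [map_sum]
    apply Fintype.sum_equiv (Equiv.mulLeft h)
    intro g
    show ρ h (ρ g x) = ρ (h * g) x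
    rw [map_mul]; rfl
  have h3 := (hT Finset.univ).2
  rw [hs, map_zero, Finset.card_univ, ← Nat.card_eq_fintype_card] at h3
  rcases mul_eq_zero.mp h3.symm with h | h
  · exact absurd h (NeZero.ne _)
  · exact h

theorem claim [Finite G] [FiniteDimensional F V] [NeZero (Nat.card G : F)] (p : ℕ)
    (h2 : p = 2 → (2 : F) = 0) (B : LinearMap.BilinForm F V) :
    ∀ n : ℕ, ∀ P : Submodule F V, Module.finrank F P = n → Inv ρ P → InvOn ρ B P →
      LeftNondegOn B P → (p = 2 → ∀ x ∈ P, (∀ g, ρ g x = x) → x = 0) → Good ρ p P := by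
  intro n
  induction n using Nat.strong_induction_on with
  | _ n ih =>
    intro P hn hP hBP hnd hfix
    have tail : ∀ N : Submodule F V, N ≤ P → Inv ρ N → LeftNondegOn B N → N ≠ ⊥ →
        Good ρ p N → Good ρ p P := by
      intro N hNP hN hNnd hN0 hNgood
      obtain ⟨hinf, hsup, hnd'⟩ := oc B P N hNP hnd hNnd
      have hN'P := rperp_le B P N
      have hlt : Module.finrank F (rperp B P N) < n := by
        have h := Submodule.finrank_sup_add_finrank_inf_eq N (rperp B P N)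
        rw [hinf, hsup, finrank_bot, add_zero, hn] at h
        have : 0 < Module.finrank F N :=
          Nat.pos_of_ne_zero (fun h0 => hN0 (Submodule.finrank_eq_zero.mp h0))
        omega
      have hgood' : Good ρ p (rperp B P N) :=
        ih _ hlt (rperp B P N) rfl (inv_rperp ρ B P N hP hN hBP hNP) (hBP.mono ρ hN'P) hnd'
          (fun h x hx => hfix h x (hN'P hx))
      have := glueGood ρ p N (rperp B P N) hinf hNgood hgood'
      rwa [hsup] at this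
    have hRP := symPart_le B P
    have hRinv := inv_symPart ρ B P hP hBP
    by_cases hR : symPart B P = ⊥
    · refine ⟨P, ⊥, inf_bot_eq _, sup_bot_eq _, hP, inv_bot ρ,
        ⟨B - LinearMap.flip B, ?_, ?_, ?_⟩, ⟨0, symOn_bot ρ 0⟩, fun _ => rfl⟩
      · intro x _
        rw [LinearMap.sub_apply, LinearMap.sub_apply, LinearMap.flip_apply, sub_self]
      · intro g x hx y hy
        rw [LinearMap.sub_apply, LinearMap.sub_apply, LinearMap.flip_apply, LinearMap.sub_apply,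
          LinearMap.sub_apply, LinearMap.flip_apply, hBP g x hx y hy, hBP g y hy x hx]
      · intro x hx hxy
        have : x ∈ symPart B P := by
          refine ⟨hx, fun y hy => ?_⟩
          have := hxy y hy
          rw [LinearMap.sub_apply, LinearMap.sub_apply, LinearMap.flip_apply] at this
          exact sub_eq_zero.mp this
        rw [hR, Submodule.mem_bot] at this
        exact this
    · by_cases hZ : symPart B P ⊓ rperp B P (symPart B P) = ⊥
      · have hRnd : LeftNondegOn B (symPart B P) := by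
          intro x hx hxy
          have : x ∈ symPart B P ⊓ rperp B P (symPart B P) := by
            refine ⟨hx, hx.1, fun y hy => ?_⟩
            rw [hy.2 x hx.1]
            exact hxy y hy
          rw [hZ, Submodule.mem_bot] at this
          exact this
        apply tail (symPart B P) hRP hRinv hRnd hR
        by_cases hp : p = 2
        · refine ⟨symPart B P, ⊥, inf_bot_eq _, sup_bot_eq _, hRinv, inv_bot ρ,
            ⟨B, ?_, hBP.mono ρ hRP, hRnd⟩, ⟨0, symOn_bot ρ 0⟩, fun _ => rfl⟩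
          exact alt_of_char2 ρ (h2 hp) B (symPart B P) hRinv
            (fun x hx y hy => hx.2 y hy.1) (hBP.mono ρ hRP)
            (fun x hx => hfix hp x hx.1)
        · refine ⟨⊥, symPart B P, bot_inf_eq _, bot_sup_eq _, inv_bot ρ, hRinv,
            ⟨0, altOn_bot ρ 0⟩, ⟨B, ?_, hBP.mono ρ hRP, hRnd⟩, fun h => absurd h hp⟩
          exact fun x hx y hy => hx.2 y hy.1
      · have hZP : symPart B P ⊓ rperp B P (symPart B P) ≤ P := inf_le_left.trans hRP
        have hZinv : Inv ρ (symPart B P ⊓ rperp B P (symPart B P)) := fun g z hz =>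
          ⟨hRinv g z hz.1, inv_rperp ρ B P (symPart B P) hP hRinv hBP hRP g z hz.2⟩
        obtain ⟨N, hNP, hZN, hNinv, hNnd, A, hA⟩ := hyp_piece ρ B P
          (symPart B P ⊓ rperp B P (symPart B P)) hP hBP hnd hZP hZinv
          (fun z hz y hy => hz.1.2 y hy) (fun z hz z' hz' => hz'.2.2 z hz.1)
        have hN0 : N ≠ ⊥ := fun h => hZ (le_bot_iff.mp (h ▸ hZN))
        apply tail N hNP hNinv hNnd hN0
        exact ⟨N, ⊥, inf_bot_eq _, sup_bot_eq _, hNinv, inv_bot ρ, ⟨A, hA⟩,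
          ⟨0, symOn_bot ρ 0⟩, fun _ => rfl⟩

end claim2


section final

variable {F : Type*} [Field F] {G : Type*} [Group G]
  {V : Type*} [AddCommGroup V] [Module F V] (ρ : Representation F G V)

/-- extend forms from the pieces to global alternating / symmetric forms -/
theorem finish_alt (U W : Submodule F V) (hinf : U ⊓ W = ⊥) (hsup : U ⊔ W = ⊤) (hU : Inv ρ U)
    (A : LinearMap.BilinForm F V) (hA : AltOn ρ A U) :
    ∃ A' : LinearMap.BilinForm F V, (∀ x : V, A' x x = 0) ∧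
      (∀ g : G, ∀ x ∈ U, ∀ y ∈ U, A' (ρ g x) (ρ g y) = A' x y) ∧
      (∀ x ∈ U, (∀ y ∈ U, A' x y = 0) → x = 0) := by
  obtain ⟨q₁, q₂, h11, h12, h21, h22⟩ := exists_projs U W hinf
  have hq : ∀ x, q₁ x ∈ U := by
    intro x
    have hx : x ∈ U ⊔ W := hsup ▸ Submodule.mem_top
    obtain ⟨u, hu, w, hw, rfl⟩ := Submodule.mem_sup.mp hx
    rw [map_add, h11 u hu, h12 w hw, add_zero]
    exact hu
  have hA' : ∀ x y, (A.compl₁₂ q₁ q₁) x y = A (q₁ x) (q₁ y) := fun x y => rfl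
  refine ⟨A.compl₁₂ q₁ q₁, ?_, ?_, ?_⟩
  · intro x
    rw [hA']
    exact hA.1 _ (hq x)
  · intro g x hx y hy
    rw [hA', hA', h11 _ (hU g x hx), h11 _ (hU g y hy), h11 x hx, h11 y hy]
    exact hA.2.1 g x hx y hy
  · intro x hx hxy
    apply hA.2.2 x hx
    intro y hy
    have := hxy y hy
    rw [hA', h11 x hx, h11 y hy] at this
    exact this

theorem finish_sym (U W : Submodule F V) (hinf : U ⊓ W = ⊥) (hsup : U ⊔ W = ⊤) (hW : Inv ρ W)
    (S : LinearMap.BilinForm F V) (hS : SymOn ρ S W) :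
    ∃ S' : LinearMap.BilinForm F V, (∀ x y : V, S' x y = S' y x) ∧
      (∀ g : G, ∀ x ∈ W, ∀ y ∈ W, S' (ρ g x) (ρ g y) = S' x y) ∧
      (∀ x ∈ W, (∀ y ∈ W, S' x y = 0) → x = 0) := by
  obtain ⟨q₁, q₂, h11, h12, h21, h22⟩ := exists_projs U W hinf
  have hq : ∀ x, q₂ x ∈ W := by
    intro x
    have hx : x ∈ U ⊔ W := hsup ▸ Submodule.mem_top
    obtain ⟨u, hu, w, hw, rfl⟩ := Submodule.mem_sup.mp hx
    rw [map_add, h21 u hu, h22 w hw, zero_add]
    exact hw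
  have hS' : ∀ x y, (S.compl₁₂ q₂ q₂) x y = S (q₂ x) (q₂ y) := fun x y => rfl
  refine ⟨S.compl₁₂ q₂ q₂, ?_, ?_, ?_⟩
  · intro x y
    rw [hS', hS']
    exact hS.1 _ (hq x) _ (hq y)
  · intro g x hx y hy
    rw [hS', hS', h22 _ (hW g x hx), h22 _ (hW g y hy), h22 x hx, h22 y hy]
    exact hS.2.1 g x hx y hy
  · intro x hx hxy
    apply hS.2.2 x hx
    intro y hy
    have := hxy y hy
    rw [hS', h22 x hx, h22 y hy] at this
    exact this

/-- any finite-dimensional subspace carries a nondegenerate symmetric form -/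
theorem exists_sym_nondeg [FiniteDimensional F V] (W : Submodule F V) :
    ∃ S : LinearMap.BilinForm F V, (∀ x y : V, S x y = S y x) ∧
      (∀ x ∈ W, (∀ y ∈ W, S x y = 0) → x = 0) := by
  classical
  obtain ⟨π, hπ⟩ := W.subtype.exists_leftInverse_of_injective (Submodule.ker_subtype W)
  have hπ' : ∀ w : W, π w.1 = w := fun w => LinearMap.congr_fun hπ w
  let b := Module.finBasis F W
  let L : V →ₗ[F] (Fin (Module.finrank F W) → F) := b.equivFun.toLinearMap ∘ₗ π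
  let S : LinearMap.BilinForm F V := LinearMap.mk₂ F (fun x y => ∑ i, L x i * L y i)
    (by intro a b c; simp [add_mul, Finset.sum_add_distrib])
    (by intro c a b; simp [Finset.mul_sum, mul_assoc])
    (by intro a b c; simp [mul_add, Finset.sum_add_distrib])
    (by intro c a b; simp [Finset.mul_sum, mul_left_comm])
  have hS : ∀ x y, S x y = ∑ i, L x i * L y i := fun x y => rfl
  refine ⟨S, ?_, ?_⟩
  · intro x y
    rw [hS, hS]
    exact Finset.sum_congr rfl (fun i _ => mul_comm _ _)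
  · intro x hx hxy
    have hL : L x = 0 := by
      funext i
      have h1 := hxy (b i).1 (b i).2
      have h2 : ∀ j, L (b i).1 j = if i = j then 1 else 0 := by
        intro j
        show b.equivFun (π (b i).1) j = _
        rw [hπ', Module.Basis.equivFun_self]
      rw [hS, Finset.sum_congr rfl (fun j _ => by rw [h2 j])] at h1
      simpa using h1
    have h3 : b.equivFun (π x) = 0 := hL
    have h4 : π x = 0 := by
      simpa using h3
    have h5 := hπ' ⟨x, hx⟩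
    rw [h4] at h5
    exact (congrArg Subtype.val h5).symm

/-- the fixed vectors -/
def fixedSub : Submodule F V where
  carrier := {x | ∀ g : G, ρ g x = x}
  add_mem' := by intro a b ha hb g; rw [map_add, ha g, hb g]
  zero_mem' := by intro g; rw [map_zero]
  smul_mem' := by intro c a ha g; rw [map_smul, ha g]

theorem fixed_split [Finite G] [NeZero (Nat.card G : F)]
    (B : LinearMap.BilinForm F V) (hBinv : ∀ g : G, ∀ x y : V, B (ρ g x) (ρ g y) = B x y)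
    (hB : ∀ x, (∀ y, B x y = 0) → x = 0) :
    ∃ P : Submodule F V, fixedSub ρ ⊓ P = ⊥ ∧ fixedSub ρ ⊔ P = ⊤ ∧ Inv ρ P ∧
      LeftNondegOn B P ∧ (∀ x ∈ P, (∀ g, ρ g x = x) → x = 0) := by
  classical
  cases nonempty_fintype G
  have hc : ((Fintype.card G : ℕ) : F) ≠ 0 := by
    rw [← Nat.card_eq_fintype_card]; exact NeZero.ne _
  let avg : V →ₗ[F] V := ∑ g : G, ρ g
  have havg : ∀ x, avg x = ∑ g : G, ρ g x := fun x => by
    show (∑ g : G, ρ g) x = _
    rw [LinearMap.sum_apply]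
  have havg_fix : ∀ x (h : G), ρ h (avg x) = avg x := by
    intro x h
    rw [havg, map_sum]
    apply Fintype.sum_equiv (Equiv.mulLeft h)
    intro g
    show ρ h (ρ g x) = ρ (h * g) x
    rw [map_mul]; rfl
  have havg_inv : ∀ x (h : G), avg (ρ h x) = avg x := by
    intro x h
    rw [havg, havg]
    apply Fintype.sum_equiv (Equiv.mulRight h)
    intro g
    show ρ g (ρ h x) = ρ (g * h) x
    rw [map_mul]; rfl
  have havg_of_fix : ∀ x, (∀ g : G, ρ g x = x) → avg x = (Fintype.card G : F) • x := by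
    intro x hx
    rw [havg, Finset.sum_congr rfl (fun g _ => hx g), Finset.sum_const, Finset.card_univ,
      Nat.cast_smul_eq_nsmul]
  have hnofix : ∀ x ∈ LinearMap.ker avg, (∀ g, ρ g x = x) → x = 0 := by
    intro x hx hfix
    have h1 := havg_of_fix x hfix
    rw [LinearMap.mem_ker.mp hx] at h1
    rcases smul_eq_zero.mp h1.symm with h | h
    · exact absurd h hc
    · exact h
  have hsup : fixedSub ρ ⊔ LinearMap.ker avg = ⊤ := by
    rw [eq_top_iff]
    intro x _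
    have h1 : ((Fintype.card G : F))⁻¹ • avg x ∈ fixedSub ρ :=
      (fixedSub ρ).smul_mem _ (fun g => havg_fix x g)
    have h2 : x - ((Fintype.card G : F))⁻¹ • avg x ∈ LinearMap.ker avg := by
      rw [LinearMap.mem_ker, map_sub, map_smul, havg_of_fix (avg x) (fun g => havg_fix x g),
        smul_smul, inv_mul_cancel₀ hc, one_smul, sub_self]
    have : x = ((Fintype.card G : F))⁻¹ • avg x + (x - ((Fintype.card G : F))⁻¹ • avg x) := by
      abel
    rw [this]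
    exact Submodule.add_mem _ (Submodule.mem_sup_left h1) (Submodule.mem_sup_right h2)
  refine ⟨LinearMap.ker avg, ?_, hsup, ?_, ?_, hnofix⟩
  · rw [Submodule.eq_bot_iff]
    rintro x ⟨hx1, hx2⟩
    exact hnofix x hx2 hx1
  · intro h x hx
    rw [LinearMap.mem_ker] at hx ⊢
    rw [havg_inv, hx]
  · intro x hx hxy
    apply hB
    intro y
    have hy : y ∈ fixedSub ρ ⊔ LinearMap.ker avg := hsup ▸ Submodule.mem_top
    obtain ⟨f, hf, y', hy', rfl⟩ := Submodule.mem_sup.mp hy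
    have h1 : B (avg x) f = (Fintype.card G : F) • B x f := by
      rw [havg, map_sum, LinearMap.sum_apply]
      have : ∀ g ∈ (Finset.univ : Finset G), B (ρ g x) f = B x f := by
        intro g _
        have := hBinv g x f
        rw [hf g] at this
        exact this
      rw [Finset.sum_congr rfl this, Finset.sum_const, Finset.card_univ, Nat.cast_smul_eq_nsmul]
    rw [LinearMap.mem_ker.mp hx, map_zero, LinearMap.zero_apply] at h1
    have h2 : B x f = 0 := by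
      rcases smul_eq_zero.mp h1.symm with h | h
      · exact absurd h hc
      · exact h
    rw [map_add, h2, hxy y' hy', add_zero]

end final

/-- Let F be a finite field of characteristic p, G a finite group of order prime to p, and V a finite-dimensional representation of G over F carrying a nondegenerate G-invariant bilinear form (equivalently, V is self-dual). Then V is the direct sum of two G-invariant subspaces U and W such that U carries a G-invariant alternating bilinear form that is nondegenerate on U and W carries a G-invariant symmetric bilinear form that is nondegenerate on W; moreover when p = 2 the decomposition can be chosen with G acting trivially on W. -/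
theorem result {F : Type*} [Field F] [Fintype F] (p : ℕ) [Fact p.Prime] [CharP F p] {G : Type*} [Group G] [Finite G] (hcop : ¬ p ∣ Nat.card G) {V : Type*} [AddCommGroup V] [Module F V] [FiniteDimensional F V] (ρ : Representation F G V) (B : LinearMap.BilinForm F V) (hB : B.Nondegenerate) (hBinv : ∀ g : G, ∀ x y : V, B (ρ g x) (ρ g y) = B x y) : ∃ U W : Submodule F V, IsCompl U W ∧ (∀ g : G, ∀ u ∈ U, ρ g u ∈ U) ∧ (∀ g : G, ∀ w ∈ W, ρ g w ∈ W) ∧ (∃ A : LinearMap.BilinForm F V, (∀ x : V, A x x = 0) ∧ (∀ g : G, ∀ x ∈ U, ∀ y ∈ U, A (ρ g x) (ρ g y) = A x y) ∧ (∀ x ∈ U, (∀ y ∈ U, A x y = 0) → x = 0)) ∧ (∃ S : LinearMap.BilinForm F V, (∀ x y : V, S x y = S y x) ∧ (∀ g : G, ∀ x ∈ W, ∀ y ∈ W, S (ρ g x) (ρ g y) = S x y) ∧ (∀ x ∈ W, (∀ y ∈ W, S x y = 0) → x = 0)) ∧ (p = 2 → ∀ g : G, ∀ w ∈ W, ρ g w = w) := by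
  have : NeZero (Nat.card G : F) := ⟨fun h => hcop ((CharP.cast_eq_zero_iff F p _).mp h)⟩
  have h2 : p = 2 → (2 : F) = 0 := by
    intro hp
    have := CharP.cast_eq_zero F p
    rw [hp] at this
    exact_mod_cast this
  have hBl : ∀ x, (∀ y, B x y = 0) → x = 0 := hB.1
  by_cases hp : p = 2
  · obtain ⟨P, hinf, hsup, hP, hPnd, hPfix⟩ := fixed_split ρ B hBinv hBl
    obtain ⟨U, W, hUW, hUWsup, hU, hW, ⟨A, hA⟩, -, hW0⟩ :=
      claim ρ p h2 B _ P rfl hP (fun g x _ y _ => hBinv g x y) hPnd (fun _ => hPfix)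
    have hUP : U = P := by rw [← hUWsup, hW0 hp, sup_bot_eq]
    rw [hUP] at hA
    have hinf' : P ⊓ fixedSub ρ = ⊥ := by rw [inf_comm]; exact hinf
    have hsup' : P ⊔ fixedSub ρ = ⊤ := by rw [sup_comm]; exact hsup
    have hFinv : Inv ρ (fixedSub ρ) := fun g w hw => by rw [hw g]; exact hw
    obtain ⟨S, hS1, hS2⟩ := exists_sym_nondeg (fixedSub ρ)
    refine ⟨P, fixedSub ρ, IsCompl.of_eq hinf' hsup', hP, hFinv,
      finish_alt ρ P (fixedSub ρ) hinf' hsup' hP A hA, ⟨S, hS1, ?_, hS2⟩, fun _ g w hw => hw g⟩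
    intro g x hx y hy
    rw [hx g, hy g]
  · obtain ⟨U, W, hUW, hUWsup, hU, hW, ⟨A, hA⟩, ⟨S, hS⟩, -⟩ :=
      claim ρ p h2 B _ ⊤ rfl (fun g u _ => Submodule.mem_top) (fun g x _ y _ => hBinv g x y)
        (fun x _ hx => hBl x (fun y => hx y Submodule.mem_top)) (fun h => absurd h hp)
    exact ⟨U, W, IsCompl.of_eq hUW hUWsup, hU, hW, finish_alt ρ U W hUW hUWsup hU A hA,
      finish_sym ρ U W hUW hUWsup hW S hS, fun h => absurd h hp⟩

end Cfsg.Agent.S4966
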