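import Cfsg.Statements.S4967
import Cfsg.Agent.Lib.Helper3.RepBasic
import Mathlib.RepresentationTheory.Irreducible
import Mathlib.RingTheory.SimpleModule.Basic
import Mathlib.FieldTheory.Finite.Basic
import Mathlib.RingTheory.Ideal.Quotient.Operations
import Mathlib.RingTheory.IntegralDomain
import Mathlib.LinearAlgebra.Dual.Lemmas
import Mathlib.GroupTheory.SpecificGroups.Cyclic
import Mathlib.RingTheory.Finiteness.Cardinality
import Mathlib.LinearAlgebra.Dimension.Constructions

set_option autoImplicit false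
open Cfsg

namespace Cfsg.Agent.S4967

section setup

variable {F : Type*} [Field F] {H : Type*} [CommGroup H]
  {V : Type*} [AddCommGroup V] [Module F V] (ρ : Representation F H V)

theorem simple_of (hnt : Nontrivial V)
    (hirr : ∀ U : Submodule F V, (∀ h : H, ∀ u ∈ U, ρ h u ∈ U) → U = ⊥ ∨ U = ⊤) :
    IsSimpleModule (MonoidAlgebra F H) ρ.asModule := by
  have h1 : ρ.IsIrreducible := (Cfsg.Agent.Lib.Helper3.isIrreducible_iff ρ).mpr ⟨hnt, hirr⟩
  exact (Representation.irreducible_iff_isSimpleModule_asModule ρ).mp h1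

theorem smul_quot (I : Ideal (MonoidAlgebra F H)) (x : MonoidAlgebra F H)
    (q : MonoidAlgebra F H ⧸ I) : x • q = Ideal.Quotient.mk I x * q := by
  obtain ⟨y, rfl⟩ := Ideal.Quotient.mk_surjective q
  rfl

theorem structure_thm (hnt : Nontrivial V)
    (hirr : ∀ U : Submodule F V, (∀ h : H, ∀ u ∈ U, ρ h u ∈ U) → U = ⊥ ∨ U = ⊤) :
    ∃ (I : Ideal (MonoidAlgebra F H)) (_ : I.IsMaximal) (ψ : V ≃ₗ[F] (MonoidAlgebra F H ⧸ I)),
      ∀ (x : MonoidAlgebra F H) (v : V),
        ψ (ρ.asAlgebraHom x v) = Ideal.Quotient.mk I x * ψ v := by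
  have hs := simple_of ρ hnt hirr
  obtain ⟨I, hI, ⟨e⟩⟩ := isSimpleModule_iff_quot_maximal.mp hs
  refine ⟨I, hI, ρ.asModuleEquiv.symm.trans (e.restrictScalars F), ?_⟩
  intro x v
  have h1 : ρ.asModuleEquiv.symm (ρ.asAlgebraHom x v) = x • ρ.asModuleEquiv.symm v := by
    apply ρ.asModuleEquiv.injective
    rw [Representation.asModuleEquiv_map_smul]
    simp
  simp only [LinearEquiv.trans_apply, LinearEquiv.restrictScalars_apply]
  rw [h1, map_smul, smul_quot]

end setup


theorem galois_step {K L : Type*} [Field K] [Fintype K] [Field L] [Algebra K L] [Finite L]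
    (σ : L →ₐ[K] L) (h2 : ∀ e, σ (σ e) = e) (h1 : ∃ e, σ e ≠ e) :
    Even (Module.finrank K L) ∧
      ∀ e, σ e = e ^ (Fintype.card K ^ (Module.finrank K L / 2)) := by
  obtain ⟨j, hj⟩ := (FiniteField.bijective_frobeniusAlgHom_pow K L).2 σ
  simp only at hj
  have hord := FiniteField.orderOf_frobeniusAlgHom K L
  have hσσ : σ * σ = 1 := by
    ext e
    exact h2 e
  have hpow : (FiniteField.frobeniusAlgHom K L) ^ (2 * j.1) = 1 := by
    rw [two_mul, pow_add, hj, hσσ]
  have hdvd : Module.finrank K L ∣ 2 * j.1 := by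
    have h3 := orderOf_dvd_of_pow_eq_one hpow
    generalize j.1 = jj at *
    rw [hord] at h3
    exact h3
  have hj0 : j.1 ≠ 0 := by
    intro h0
    rw [h0, pow_zero] at hj
    obtain ⟨e, he⟩ := h1
    apply he
    rw [← hj]
    rfl
  have hjlt : j.1 < Module.finrank K L := j.2
  obtain ⟨c, hc⟩ := hdvd
  have hc1 : c = 1 := by
    rcases c with _ | _ | c
    · omega
    · rfl
    · exfalso
      have : Module.finrank K L * (c + 1 + 1) ≥ Module.finrank K L * 2 :=
        Nat.mul_le_mul_left _ (by omega)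
      omega
  rw [hc1, mul_one] at hc
  refine ⟨⟨j.1, by omega⟩, ?_⟩
  intro e
  have hhalf : Module.finrank K L / 2 = j.1 := by omega
  rw [hhalf, ← hj, AlgHom.coe_pow, FiniteField.coe_frobeniusAlgHom, pow_iterate]

theorem card_dvd_of_forall_pow_eq_one {H : Type*} [CommGroup H] [Finite H] [IsCyclic H] (m : ℕ)
    (h : ∀ a : H, a ^ m = 1) : Nat.card H ∣ m := by
  rw [← IsCyclic.exponent_eq_card]
  exact Monoid.exponent_dvd_of_forall_pow_eq_one h


section field

variable {F : Type*} [Field F] {H : Type*} [CommGroup H]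
  {V : Type*} [AddCommGroup V] [Module F V] (ρ : Representation F H V)
  (I : Ideal (MonoidAlgebra F H)) [hI : I.IsMaximal] (ψ : V ≃ₗ[F] (MonoidAlgebra F H ⧸ I))
  (hψ : ∀ (x : MonoidAlgebra F H) (v : V),
        ψ (ρ.asAlgebraHom x v) = Ideal.Quotient.mk I x * ψ v)

attribute [local instance] Ideal.Quotient.field

include hψ in
theorem mk_eq_zero_iff (x : MonoidAlgebra F H) :
    Ideal.Quotient.mk I x = 0 ↔ ρ.asAlgebraHom x = 0 := by
  constructor
  · intro h
    ext v
    apply ψ.injective
    rw [hψ, h, zero_mul, LinearMap.zero_apply, map_zero]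
  · intro h
    have h1 := hψ x (ψ.symm 1)
    rw [h, LinearMap.zero_apply, map_zero, LinearEquiv.apply_symm_apply, mul_one] at h1
    exact h1.symm

/-- the image of the group in the field -/
noncomputable def iota : H →* (MonoidAlgebra F H ⧸ I) :=
  ((Ideal.Quotient.mk I : MonoidAlgebra F H →+* _) : MonoidAlgebra F H →* _).comp
    (MonoidAlgebra.of F H)

theorem iota_apply (h : H) : iota I h = Ideal.Quotient.mk I (MonoidAlgebra.of F H h) := rfl

include hψ in
theorem psi_rho (h : H) (v : V) : ψ (ρ h v) = iota I h * ψ v := by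
  rw [iota_apply, ← hψ, Representation.asAlgebraHom_of]

include hψ in
theorem iota_injective (hfaith : Function.Injective ρ) : Function.Injective (iota (F := F) I) := by
  intro h h' hh
  apply hfaith
  ext v
  apply ψ.injective
  rw [psi_rho ρ I ψ hψ, psi_rho ρ I ψ hψ, hh]

theorem algHom_ext_iota {A : Type*} [Semiring A] [Algebra F A]
    (f g : (MonoidAlgebra F H ⧸ I) →ₐ[F] A)
    (h : ∀ a : H, f (iota I a) = g (iota I a)) : f = g := by
  have h1 : f.comp (Ideal.Quotient.mkₐ F I) = g.comp (Ideal.Quotient.mkₐ F I) := by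
    apply (MonoidAlgebra.lift F A H).symm.injective
    ext a
    exact h a
  ext q
  obtain ⟨x, rfl⟩ := Ideal.Quotient.mk_surjective q
  exact DFunLike.congr_fun h1 x

theorem mem_bot_of_iota (hb : ∀ a : H, iota I a ∈ (⊥ : Subalgebra F (MonoidAlgebra F H ⧸ I)))
    (q : MonoidAlgebra F H ⧸ I) : q ∈ (⊥ : Subalgebra F (MonoidAlgebra F H ⧸ I)) := by
  obtain ⟨x, rfl⟩ := Ideal.Quotient.mk_surjective q
  induction x using MonoidAlgebra.induction_on with
  | of m => exact hb m
  | add x y hx hy =>
    rw [map_add]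
    exact Subalgebra.add_mem _ hx hy
  | smul r x hx =>
    have : Ideal.Quotient.mk I (r • x) = r • Ideal.Quotient.mk I x := rfl
    rw [this]
    exact Subalgebra.smul_mem _ hx r


omit hI in
theorem adj_rel (B : LinearMap.BilinForm F V)
    (hB : ∀ (h : H) (x y : V), B (ρ h x) (ρ h y) = B x y) (x : MonoidAlgebra F H) (u w : V) :
    B (ρ.asAlgebraHom x u) w =
      B u (ρ.asAlgebraHom (MonoidAlgebra.domCongr F F (MulEquiv.inv H) x) w) := by
  induction x using MonoidAlgebra.induction_on with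
  | of m =>
    have h1 : MonoidAlgebra.domCongr F F (MulEquiv.inv H) (MonoidAlgebra.of F H m) =
        MonoidAlgebra.of F H m⁻¹ := by
      simp [MonoidAlgebra.of_apply, MonoidAlgebra.domCongr_single]
    rw [h1, Representation.asAlgebraHom_of, Representation.asAlgebraHom_of]
    have h2 := hB m u (ρ m⁻¹ w)
    rw [← h2]
    congr 1
    rw [← Module.End.mul_apply, ← map_mul, mul_inv_cancel, map_one, Module.End.one_apply]
  | add x y hx hy =>
    simp only [map_add, LinearMap.add_apply, hx, hy]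
  | smul r x hx =>
    simp only [map_smul, LinearMap.smul_apply, hx]

include hψ in
theorem forward [Fintype F] [Finite H] [FiniteDimensional F V] (hfaith : Function.Injective ρ)
    (hn : 2 ≤ Module.finrank F V)
    (B : LinearMap.BilinForm F V) (hBnd : B.Nondegenerate)
    (hB : ∀ (h : H) (x y : V), B (ρ h x) (ρ h y) = B x y) :
    Even (Module.finrank F V) ∧
      Nat.card H ∣ Fintype.card F ^ (Module.finrank F V / 2) + 1 := by
  have hfinV : Finite V := Module.finite_of_finite F
  have hfinE : Finite (MonoidAlgebra F H ⧸ I) := Finite.of_equiv V ψ.toEquiv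
  have hrank : Module.finrank F (MonoidAlgebra F H ⧸ I) = Module.finrank F V := ψ.finrank_eq.symm
  -- the ideal is stable under inversion
  have hinv : ∀ a : MonoidAlgebra F H, a ∈ I →
      ((Ideal.Quotient.mkₐ F I).comp
        (MonoidAlgebra.domCongr F F (MulEquiv.inv H)).toAlgHom) a = 0 := by
    intro a ha
    have h0 : Ideal.Quotient.mk I a = 0 := Ideal.Quotient.eq_zero_iff_mem.mpr ha
    have h1 := (mk_eq_zero_iff ρ I ψ hψ a).mp h0
    show Ideal.Quotient.mk I ((MonoidAlgebra.domCongr F F (MulEquiv.inv H)) a) = 0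
    rw [mk_eq_zero_iff ρ I ψ hψ]
    ext w
    apply hBnd.2
    intro u
    rw [← adj_rel ρ B hB, h1]
    simp
  let σ : (MonoidAlgebra F H ⧸ I) →ₐ[F] (MonoidAlgebra F H ⧸ I) :=
    Ideal.Quotient.liftₐ I _ hinv
  have hσ : ∀ a : H, σ (iota I a) = iota I a⁻¹ := by
    intro a
    show Ideal.Quotient.mk I ((MonoidAlgebra.domCongr F F (MulEquiv.inv H))
      (MonoidAlgebra.of F H a)) = _
    rw [iota_apply]
    congr 1
    simp [MonoidAlgebra.of_apply, MonoidAlgebra.domCongr_single]
  have h2 : ∀ e, σ (σ e) = e := by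
    have : σ.comp σ = AlgHom.id F _ := by
      apply algHom_ext_iota
      intro a
      simp only [AlgHom.comp_apply, AlgHom.id_apply, hσ, inv_inv]
    intro e
    exact DFunLike.congr_fun this e
  have hinvmul : ∀ a : H, iota (F := F) I a * iota I a⁻¹ = 1 := by
    intro a
    rw [← map_mul, mul_inv_cancel, map_one]
  have h1 : ∃ e, σ e ≠ e := by
    by_contra hcon0
    have hcon : ∀ e, σ e = e := fun e => by_contra (fun h => hcon0 ⟨e, h⟩)
    have hb : ∀ a : H, iota I a ∈ (⊥ : Subalgebra F (MonoidAlgebra F H ⧸ I)) := by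
      intro a
      have h3 : iota (F := F) I a * iota I a = 1 := by
        have := hinvmul a
        rwa [← hσ, hcon] at this
      have h4 : (iota (F := F) I a - 1) * (iota I a + 1) = 0 := by ring_nf; rw [sq, h3]; ring
      rcases mul_eq_zero.mp h4 with h5 | h5
      · rw [sub_eq_zero.mp h5]
        exact Subalgebra.one_mem _
      · rw [eq_neg_of_add_eq_zero_left h5]
        exact Subalgebra.neg_mem _ (Subalgebra.one_mem _)
    have htop : (⊥ : Subalgebra F (MonoidAlgebra F H ⧸ I)) = ⊤ := by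
      apply le_antisymm le_top
      intro q _
      exact mem_bot_of_iota I hb q
    have h6 : Module.finrank F (MonoidAlgebra F H ⧸ I) = 1 := by
      rw [← (Subalgebra.topEquiv (R := F) (A := MonoidAlgebra F H ⧸ I)).toLinearEquiv.finrank_eq,
        ← htop, Subalgebra.finrank_bot]
    omega
  obtain ⟨heven, hfrob⟩ := galois_step σ h2 h1
  rw [hrank] at heven hfrob
  refine ⟨heven, ?_⟩
  have hinj := iota_injective ρ I ψ hψ hfaith
  have hcyc : IsCyclic H := isCyclic_of_injective_ringHom (iota (F := F) I) hinj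
  apply card_dvd_of_forall_pow_eq_one
  intro a
  apply hinj
  rw [map_pow, map_one, pow_succ, ← hfrob, hσ, mul_comm]
  exact hinvmul a


include hψ in
theorem backward [Fintype F] [Finite H] [FiniteDimensional F V]
    (hdvd : Nat.card H ∣ Fintype.card F ^ (Module.finrank F V / 2) + 1)
    (heven : Even (Module.finrank F V)) :
    ∃ B : LinearMap.BilinForm F V, B.Nondegenerate ∧
      ∀ (h : H) (x y : V), B (ρ h x) (ρ h y) = B x y := by
  have hfinV : Finite V := Module.finite_of_finite F
  have hfinE : Finite (MonoidAlgebra F H ⧸ I) := Finite.of_equiv V ψ.toEquiv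
  have hrank : Module.finrank F (MonoidAlgebra F H ⧸ I) = Module.finrank F V := ψ.finrank_eq.symm
  set k := Module.finrank F V / 2 with hk
  let σ : (MonoidAlgebra F H ⧸ I) →ₐ[F] (MonoidAlgebra F H ⧸ I) :=
    (FiniteField.frobeniusAlgHom F (MonoidAlgebra F H ⧸ I)) ^ k
  have hσ : ∀ e, σ e = e ^ (Fintype.card F ^ k) := by
    intro e
    show ((FiniteField.frobeniusAlgHom F (MonoidAlgebra F H ⧸ I)) ^ k) e = _
    rw [AlgHom.coe_pow, FiniteField.coe_frobeniusAlgHom, pow_iterate]
  have hσσ : ∀ e, σ (σ e) = e := by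
    have h1 : σ * σ = 1 := by
      show (FiniteField.frobeniusAlgHom F (MonoidAlgebra F H ⧸ I)) ^ k *
        (FiniteField.frobeniusAlgHom F (MonoidAlgebra F H ⧸ I)) ^ k = 1
      rw [← pow_add]
      have h2 : k + k = Module.finrank F (MonoidAlgebra F H ⧸ I) := by
        rw [hrank]
        obtain ⟨c, hc⟩ := heven
        omega
      rw [h2, ← FiniteField.orderOf_frobeniusAlgHom F (MonoidAlgebra F H ⧸ I)]
      exact pow_orderOf_eq_one _
    intro e
    exact DFunLike.congr_fun h1 e
  have hmul : ∀ a : H, iota (F := F) I a * σ (iota I a) = 1 := by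
    intro a
    rw [hσ, ← pow_succ', ← map_pow]
    obtain ⟨c, hc⟩ := hdvd
    rw [hc, pow_mul, pow_card_eq_one', one_pow, map_one]
  -- a nonzero functional
  obtain ⟨f, hf⟩ : ∃ f : Module.Dual F (MonoidAlgebra F H ⧸ I), f 1 ≠ 0 := by
    by_contra hcon
    have h0 : ∀ φ : Module.Dual F (MonoidAlgebra F H ⧸ I), φ 1 = 0 :=
      fun φ => by_contra (fun h => hcon ⟨φ, h⟩)
    have := (Module.forall_dual_apply_eq_zero_iff F (1 : MonoidAlgebra F H ⧸ I)).mp h0
    exact one_ne_zero this
  have hfall : ∀ c : MonoidAlgebra F H ⧸ I, c ≠ 0 → ∃ d, f (c * d) ≠ 0 := by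
    intro c hc
    exact ⟨c⁻¹, by rwa [mul_inv_cancel₀ hc]⟩
  let B : LinearMap.BilinForm F V := LinearMap.mk₂ F (fun x y => f (ψ x * σ (ψ y)))
    (by intro x x' y; simp only [map_add, add_mul])
    (by intro c x y; simp only [map_smul, smul_mul_assoc])
    (by intro x y y'; simp only [map_add, mul_add])
    (by intro c x y; simp only [map_smul, mul_smul_comm])
  have hBdef : ∀ x y, B x y = f (ψ x * σ (ψ y)) := fun x y => rfl
  refine ⟨B, ⟨?_, ?_⟩, ?_⟩
  · -- separating left
    intro x hx
    by_contra hx0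
    have hc : ψ x ≠ 0 := fun h => hx0 (ψ.map_eq_zero_iff.mp h)
    obtain ⟨d, hd⟩ := hfall (ψ x) hc
    apply hd
    have := hx (ψ.symm (σ d))
    rwa [hBdef, LinearEquiv.apply_symm_apply, hσσ] at this
  · -- separating right
    intro y hy
    by_contra hy0
    have hc : σ (ψ y) ≠ 0 := by
      intro h
      apply hy0
      apply ψ.map_eq_zero_iff.mp
      rw [← hσσ (ψ y), h, map_zero]
    obtain ⟨d, hd⟩ := hfall (σ (ψ y)) hc
    apply hd
    have := hy (ψ.symm d)
    rwa [hBdef, LinearEquiv.apply_symm_apply, mul_comm] at this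
  · intro h x y
    rw [hBdef, hBdef, psi_rho ρ I ψ hψ, psi_rho ρ I ψ hψ, map_mul σ]
    have : iota I h * ψ x * (σ (iota I h) * σ (ψ y)) =
        (iota I h * σ (iota I h)) * (ψ x * σ (ψ y)) := by ring
    rw [this, hmul, one_mul]

end field

section part1

variable {F : Type*} [Field F] {H : Type*} [CommGroup H] [Finite H]
  {V : Type*} [AddCommGroup V] [Module F V] (ρ : Representation F H V)

theorem part_one (hfaith : Function.Injective ρ) (h1 : Module.finrank F V = 1)
    (B : LinearMap.BilinForm F V) (hBnd : B.Nondegenerate)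
    (hB : ∀ (h : H) (x y : V), B (ρ h x) (ρ h y) = B x y) : Nat.card H ≤ 2 := by
  classical
  obtain ⟨v, hv0, hv⟩ := finrank_eq_one_iff'.mp h1
  have hc : ∀ h : H, ∃ c : F, c • v = ρ h v := fun h => hv (ρ h v)
  choose c hc using hc
  have hBvv : B v v ≠ 0 := by
    intro h0
    apply hv0
    apply hBnd.1
    intro y
    obtain ⟨d, rfl⟩ := hv y
    rw [map_smul, smul_eq_mul, h0, mul_zero]
  have hsq : ∀ h : H, c h * c h = 1 := by
    intro h
    have := hB h v v
    rw [← hc] at this
    simp only [map_smul, LinearMap.smul_apply, smul_eq_mul] at this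
    apply mul_right_cancel₀ hBvv
    rw [one_mul, mul_assoc]
    exact this
  have hinj : Function.Injective c := by
    intro h h' hh
    apply hfaith
    ext y
    obtain ⟨d, rfl⟩ := hv y
    rw [map_smul, map_smul, ← hc, ← hc, hh]
  have hrange : ∀ h : H, c h ∈ ({1, -1} : Finset F) := by
    intro h
    have h4 : (c h - 1) * (c h + 1) = 0 := by ring_nf; rw [sq, hsq h]; ring
    rcases mul_eq_zero.mp h4 with h5 | h5
    · simp [sub_eq_zero.mp h5]
    · simp [eq_neg_of_add_eq_zero_left h5]
  have := Fintype.ofFinite H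
  rw [Nat.card_eq_fintype_card]
  have h7 : (Finset.univ : Finset H).card ≤ ({1, -1} : Finset F).card :=
    Finset.card_le_card_of_injOn c (fun h _ => hrange h) (fun a _ b _ hab => hinj hab)
  rw [Finset.card_univ] at h7
  exact h7.trans Finset.card_le_two

end part1

theorem result {F : Type*} [Field F] [Fintype F] (p : ℕ) [Fact p.Prime] [CharP F p] {H : Type*} [CommGroup H] [Finite H] (hcop : ¬ p ∣ Nat.card H) {V : Type*} [AddCommGroup V] [Module F V] [FiniteDimensional F V] (ρ : Representation F H V) (hfaith : Function.Injective ρ) (hirr : ∀ U : Submodule F V, (∀ h : H, ∀ u ∈ U, ρ h u ∈ U) → U = ⊥ ∨ U = ⊤) : (Module.finrank F V = 1 → (∃ B : LinearMap.BilinForm F V, B.Nondegenerate ∧ ∀ h : H, ∀ x y : V, B (ρ h x) (ρ h y) = B x y) → Nat.card H ≤ 2) ∧ (2 ≤ Module.finrank F V → ((∃ B : LinearMap.BilinForm F V, B.Nondegenerate ∧ ∀ h : H, ∀ x y : V, B (ρ h x) (ρ h y) = B x y) ↔ (Even (Module.finrank F V) ∧ Nat.card H ∣ Fintype.card F ^ (Module.finrank F V / 2) + 1))) := by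
  refine ⟨?_, ?_⟩
  · rintro h1 ⟨B, hBnd, hB⟩
    exact part_one ρ hfaith h1 B hBnd hB
  · intro hn
    have hnt : Nontrivial V := Module.nontrivial_of_finrank_pos (R := F) (by omega)
    obtain ⟨I, hI, ψ, hψ⟩ := structure_thm ρ hnt hirr
    constructor
    · rintro ⟨B, hBnd, hB⟩
      exact forward ρ I ψ hψ hfaith hn B hBnd hB
    · rintro ⟨heven, hdvd⟩
      exact backward ρ I ψ hψ hdvd heven

end Cfsg.Agent.S4967
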