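import Cfsg.Statements.S4969
import Cfsg.Agent.Lib.Helper3.Complete
import Mathlib.Analysis.SpecialFunctions.Sqrt
import Mathlib.Algebra.Order.Chebyshev
import Mathlib.GroupTheory.GroupAction.CardCommute
import Mathlib.GroupTheory.GroupAction.ConjAct

set_option autoImplicit false
open Cfsg
open scoped ComplexConjugate

namespace Cfsg.Agent.S4969

open Cfsg.Agent.Lib.Helper3

section cols

variable {G : Type*} [Group G]

theorem index_centralizer_eq_card_conj' (g : G) :
    (Subgroup.centralizer ({g} : Set G)).index = Nat.card {h : G // IsConj g h} := by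
  have h1 := Subgroup.index_comap_of_surjective (MulAction.stabilizer (ConjAct G) g)
    (f := (ConjAct.toConjAct (G := G)).toMonoidHom) (ConjAct.toConjAct (G := G)).surjective
  refine (congrArg Subgroup.index (Subgroup.centralizer_eq_comap_stabilizer g)).trans
    (h1.trans ?_)
  rw [MulAction.index_stabilizer, ← Nat.card_coe_set_eq]
  apply Nat.card_congr
  refine Equiv.subtypeEquivRight ?_
  intro h
  rw [ConjAct.mem_orbit_conjAct, isConj_comm]

open Classical in
/-- class indicator -/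
noncomputable def delta (g : G) : G → ℂ := fun h => if IsConj g h then 1 else 0

theorem delta_isClassFunction (g : G) : IsClassFunction G (delta g) := by
  intro x y
  have : IsConj g (y * x * y⁻¹) ↔ IsConj g x := by
    constructor
    · intro h
      exact h.trans (isConj_iff.mpr ⟨y⁻¹, by group⟩)
    · intro h
      exact h.trans (isConj_iff.mpr ⟨y, rfl⟩)
  simp only [delta]
  by_cases h : IsConj g x
  · rw [if_pos h, if_pos (this.mpr h)]
  · rw [if_neg h, if_neg (fun h' => h (this.mp h'))]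

variable [Fintype G]

theorem classInner_delta (g : G) {χ : G → ℂ} (hχ : IsClassFunction G χ) :
    classInner (delta g) χ =
      (Nat.card G : ℂ)⁻¹ * ((Nat.card {h : G // IsConj g h} : ℂ) * conj (χ g)) := by
  classical
  unfold classInner
  congr 1
  have : ∀ h : G, delta g h * conj (χ h) = if IsConj g h then conj (χ g) else 0 := by
    intro h
    unfold delta
    split_ifs with hc
    · obtain ⟨c, rfl⟩ := isConj_iff.mp hc
      rw [one_mul, hχ g c]
    · rw [zero_mul]
  simp only [this]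
  rw [← Finset.sum_filter, Finset.sum_const, nsmul_eq_mul, Nat.card_eq_fintype_card,
    Fintype.card_subtype]

theorem col_sum [Fintype (IrrCharacter G)] (g : G) :
    ∑ χ : IrrCharacter G, (χ : G → ℂ) g * conj ((χ : G → ℂ) g) =
      (Nat.card ↥(Subgroup.centralizer ({g} : Set G)) : ℂ) := by
  classical
  have h1 := classFunction_eq_sum (delta_isClassFunction g)
  have h2 := congrFun h1 g
  have hdg : delta g g = 1 := by
    unfold delta
    rw [if_pos (IsConj.refl g)]
  rw [hdg] at h2
  simp only [Finset.sum_apply, Pi.smul_apply, smul_eq_mul] at h2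
  have h3 : ∀ χ : IrrCharacter G, classInner (delta g) (χ : G → ℂ) * (χ : G → ℂ) g =
      ((Nat.card G : ℂ)⁻¹ * (Nat.card {h : G // IsConj g h} : ℂ)) *
        ((χ : G → ℂ) g * conj ((χ : G → ℂ) g)) := by
    intro χ
    rw [classInner_delta g (IsCharacter.isClassFunction (IsIrrCharacter.isCharacter χ.2))]
    ring
  simp only [h3] at h2
  rw [← Finset.mul_sum] at h2
  have hcard : (Nat.card ↥(Subgroup.centralizer ({g} : Set G)) : ℂ) *
      (Nat.card {h : G // IsConj g h} : ℂ) = (Nat.card G : ℂ) := by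
    rw [← index_centralizer_eq_card_conj']
    exact_mod_cast Subgroup.card_mul_index (Subgroup.centralizer ({g} : Set G))
  have hG : (Nat.card G : ℂ) ≠ 0 := by exact_mod_cast Nat.card_pos.ne'
  have hcl : (Nat.card {h : G // IsConj g h} : ℂ) ≠ 0 := by
    intro h0
    rw [h0, mul_zero] at hcard
    exact hG hcard.symm
  -- 1 = (|G|⁻¹ * cl) * S  →  S = |G| / cl = |C|
  have h4 : (Nat.card {h : G // IsConj g h} : ℂ) *
      ∑ χ : IrrCharacter G, (χ : G → ℂ) g * conj ((χ : G → ℂ) g) = (Nat.card G : ℂ) := by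
    have := congrArg (fun z => (Nat.card G : ℂ) * z) h2
    simp only [mul_one] at this
    rw [this]
    field_simp
  apply mul_left_cancel₀ hcl
  rw [h4, mul_comm, hcard]

theorem col_sum_norm [Fintype (IrrCharacter G)] (g : G) :
    ∑ χ : IrrCharacter G, ‖(χ : G → ℂ) g‖ ^ 2 =
      (Nat.card ↥(Subgroup.centralizer ({g} : Set G)) : ℝ) := by
  have h := col_sum (G := G) g
  have h2 : ∀ χ : IrrCharacter G, (χ : G → ℂ) g * conj ((χ : G → ℂ) g) =
      ((‖(χ : G → ℂ) g‖ ^ 2 : ℝ) : ℂ) := by
    intro χ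
    rw [Complex.mul_conj, Complex.normSq_eq_norm_sq]
  simp only [h2] at h
  rw [← Complex.ofReal_sum] at h
  exact_mod_cast h

theorem sum_card_centralizer :
    ∑ g : G, Nat.card ↥(Subgroup.centralizer ({g} : Set G)) =
      Nat.card (ConjClasses G) * Nat.card G := by
  classical
  rw [← card_comm_eq_card_conjClasses_mul_card]
  rw [Nat.card_congr (Equiv.subtypeProdEquivSigmaSubtype (fun a b : G => Commute a b)),
    Nat.card_sigma]
  apply Finset.sum_congr rfl
  intro g _
  apply Nat.card_congr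
  refine Equiv.subtypeEquivRight ?_
  intro h
  rw [Subgroup.mem_centralizer_singleton_iff]
  exact ⟨fun h1 => h1.symm, fun h1 => h1.symm⟩

theorem row_sum_norm (χ : IrrCharacter G) :
    ∑ g : G, ‖(χ : G → ℂ) g‖ ^ 2 = (Nat.card G : ℝ) := by
  have h := classInner_irr χ.2 χ.2
  rw [if_pos rfl] at h
  unfold classInner at h
  have hG : (Nat.card G : ℂ) ≠ 0 := by exact_mod_cast Nat.card_pos.ne'
  have h1 : ∑ g : G, (χ : G → ℂ) g * conj ((χ : G → ℂ) g) = (Nat.card G : ℂ) := by
    have := congrArg (fun z => (Nat.card G : ℂ) * z) h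
    simp only [mul_one] at this
    rw [← this]
    field_simp
  have h2 : ∀ g : G, (χ : G → ℂ) g * conj ((χ : G → ℂ) g) =
      ((‖(χ : G → ℂ) g‖ ^ 2 : ℝ) : ℂ) := by
    intro g
    rw [Complex.mul_conj, Complex.normSq_eq_norm_sq]
  simp only [h2] at h1
  rw [← Complex.ofReal_sum] at h1
  exact_mod_cast h1

theorem card_irr [Fintype (IrrCharacter G)] :
    Nat.card (IrrCharacter G) = Nat.card (ConjClasses G) := by
  have h1 : ∑ g : G, ∑ χ : IrrCharacter G, ‖(χ : G → ℂ) g‖ ^ 2 =
      ((Nat.card (ConjClasses G) * Nat.card G : ℕ) : ℝ) := by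
    rw [← sum_card_centralizer, Nat.cast_sum]
    apply Finset.sum_congr rfl
    intro g _
    exact col_sum_norm g
  rw [Finset.sum_comm] at h1
  simp only [row_sum_norm] at h1
  rw [Finset.sum_const, nsmul_eq_mul, Finset.card_univ, ← Nat.card_eq_fintype_card] at h1
  have h2 : Nat.card (IrrCharacter G) * Nat.card G = Nat.card (ConjClasses G) * Nat.card G := by
    exact_mod_cast h1
  exact Nat.eq_of_mul_eq_mul_right Nat.card_pos h2

end cols

theorem main_of {G : Type*} [Group G] [Finite G] [Fintype (IrrCharacter G)] (g : G) (N : ℝ) (hN : 0 < N)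
    (H1 : ∑ χ : IrrCharacter G, ‖(χ : G → ℂ) g‖ ^ 2 ≤
      (Nat.card ↥(Subgroup.centralizer ({g} : Set G)) : ℝ))
    (H2 : Nat.card (IrrCharacter G) ≤ Nat.card (ConjClasses G)) :
    ∑ᶠ χ : Cfsg.IrrCharacter G, (if N ≤ ‖(χ : G → ℂ) 1‖ then ‖(χ : G → ℂ) g‖ / ‖(χ : G → ℂ) 1‖ else 0) ≤
      Real.sqrt ((Nat.card (ConjClasses G) : ℝ) * (Nat.card ↥(Subgroup.centralizer ({g} : Set G)) : ℝ)) / N := by
  classical
  rw [finsum_eq_sum_of_fintype]
  have hterm : ∀ χ : IrrCharacter G,
      (if N ≤ ‖(χ : G → ℂ) 1‖ then ‖(χ : G → ℂ) g‖ / ‖(χ : G → ℂ) 1‖ else 0) ≤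
        ‖(χ : G → ℂ) g‖ / N := by
    intro χ
    split_ifs with h
    · exact div_le_div_of_nonneg_left (norm_nonneg _) hN h
    · exact div_nonneg (norm_nonneg _) hN.le
  calc ∑ χ : IrrCharacter G,
        (if N ≤ ‖(χ : G → ℂ) 1‖ then ‖(χ : G → ℂ) g‖ / ‖(χ : G → ℂ) 1‖ else 0)
      ≤ ∑ χ : IrrCharacter G, ‖(χ : G → ℂ) g‖ / N := Finset.sum_le_sum (fun χ _ => hterm χ)
    _ = (∑ χ : IrrCharacter G, ‖(χ : G → ℂ) g‖) / N := by simp only [div_eq_mul_inv, Finset.sum_mul]
    _ ≤ Real.sqrt ((Nat.card (ConjClasses G) : ℝ) *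
          (Nat.card ↥(Subgroup.centralizer ({g} : Set G)) : ℝ)) / N := by
        apply div_le_div_of_nonneg_right _ hN.le
        apply Real.le_sqrt_of_sq_le
        have hcs := sq_sum_le_card_mul_sum_sq (s := (Finset.univ : Finset (IrrCharacter G)))
          (f := fun χ => ‖(χ : G → ℂ) g‖)
        have hcard : ((Finset.univ : Finset (IrrCharacter G)).card : ℝ) ≤
            (Nat.card (ConjClasses G) : ℝ) := by
          rw [Finset.card_univ, ← Nat.card_eq_fintype_card]
          exact_mod_cast H2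
        calc (∑ χ : IrrCharacter G, ‖(χ : G → ℂ) g‖) ^ 2
            ≤ ((Finset.univ : Finset (IrrCharacter G)).card : ℝ) *
                ∑ χ : IrrCharacter G, ‖(χ : G → ℂ) g‖ ^ 2 := hcs
          _ ≤ (Nat.card (ConjClasses G) : ℝ) *
                (Nat.card ↥(Subgroup.centralizer ({g} : Set G)) : ℝ) := by
              apply mul_le_mul hcard H1 _ (Nat.cast_nonneg _)
              exact Finset.sum_nonneg (fun χ _ => sq_nonneg _)


theorem result {G : Type*} [Group G] [Finite G] (g : G) (N : ℝ) (hN : 0 < N) :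
    ∑ᶠ χ : Cfsg.IrrCharacter G, (if N ≤ ‖(χ : G → ℂ) 1‖ then ‖(χ : G → ℂ) g‖ / ‖(χ : G → ℂ) 1‖ else 0) ≤
      Real.sqrt ((Nat.card (ConjClasses G) : ℝ) * (Nat.card ↥(Subgroup.centralizer ({g} : Set G)) : ℝ)) / N := by
  classical
  have := Fintype.ofFinite G
  have : Fintype (IrrCharacter G) := Fintype.ofFinite _
  exact main_of g N hN (col_sum_norm g).le card_irr.le

end Cfsg.Agent.S4969
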