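import Cfsg.Statements.S4989
import Cfsg.Agent.Lib.Helper80.Zeros

set_option autoImplicit false
open Cfsg

namespace Cfsg.Agent.S4989

/-- Let H be a subgroup of the finite group G and χ an irreducible complex character of G. Then the inner product of the restriction of χ to H with itself, (1/#H)·Σ_{h ∈ H} |χ(h)|², is at most 1 + #(Z ∖ H)/#H, where Z is the set of zeros of χ in G. -/
theorem result {G : Type*} [Group G] [Finite G] (H : Subgroup G) (χ : Cfsg.IrrCharacter G) : (Nat.card ↥H : ℝ)⁻¹ * ∑ᶠ h : ↥H, ‖(χ : G → ℂ) h‖ ^ 2 ≤ 1 + (Set.ncard ({x : G | (χ : G → ℂ) x = 0} \ (H : Set G)) : ℝ) / (Nat.card ↥H : ℝ) := by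
  classical
  have := Fintype.ofFinite G
  have hχ : IsCharacter G (χ : G → ℂ) := Cfsg.Agent.Lib.Helper3.IsIrrCharacter.isCharacter χ.2
  set f : G → ℝ := fun g => ‖(χ : G → ℂ) g‖ ^ 2 with hf
  -- the complement of H is power-closed
  let T : Finset G := Finset.univ.filter (fun g => g ∉ H)
  have hT : ∀ g ∈ T, ∀ k : ℕ, Nat.Coprime k (Nat.card G) → g ^ k ∈ T := by
    intro g hg k hk
    simp only [T, Finset.mem_filter, Finset.mem_univ, true_and] at hg ⊢
    exact fun h => hg (Cfsg.Agent.Lib.Helper80.mem_of_pow_mem_of_coprime H hk h)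
  have h1 := Cfsg.Agent.Lib.Helper80.card_nonvanishing_le hχ T hT
  have h2 := Cfsg.Agent.Lib.Helper80.irr_sum_norm_sq χ
  -- split the total sum
  have h3 : ∑ g : G, f g = ∑ g ∈ Finset.univ.filter (fun g => g ∈ H), f g + ∑ g ∈ T, f g :=
    (Finset.sum_filter_add_sum_filter_not Finset.univ (fun g => g ∈ H) f).symm
  have h4 : ∑ᶠ h : ↥H, ‖(χ : G → ℂ) h‖ ^ 2 = ∑ g ∈ Finset.univ.filter (fun g => g ∈ H), f g := by
    rw [finsum_eq_sum_of_fintype]
    rw [Finset.sum_subtype (Finset.univ.filter (fun g => g ∈ H)) (p := fun g => g ∈ H)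
      (fun g => by simp) f]
  -- count
  have h5 : T.card = (T.filter (fun g => (χ : G → ℂ) g ≠ 0)).card +
      (T.filter (fun g => ¬ (χ : G → ℂ) g ≠ 0)).card :=
    (Finset.card_filter_add_card_filter_not (s := T) (fun g => (χ : G → ℂ) g ≠ 0)).symm
  have h6 : (T.filter (fun g => ¬ (χ : G → ℂ) g ≠ 0)).card =
      Set.ncard ({x : G | (χ : G → ℂ) x = 0} \ (H : Set G)) := by
    rw [← Set.ncard_coe_finset]
    congr 1
    ext g
    simp [T, and_comm]
  have h7 : (Finset.univ.filter (fun g : G => g ∈ H)).card + T.card = Nat.card G := by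
    rw [Nat.card_eq_fintype_card, ← Finset.card_univ]
    exact Finset.card_filter_add_card_filter_not (s := (Finset.univ : Finset G)) (fun g => g ∈ H)
  have h8 : (Finset.univ.filter (fun g : G => g ∈ H)).card = Nat.card ↥H := by
    rw [Nat.card_eq_fintype_card, Fintype.card_subtype]
  have hHpos : (0 : ℝ) < (Nat.card ↥H : ℝ) := by exact_mod_cast Nat.card_pos
  rw [h4, inv_mul_le_iff₀ hHpos, mul_add, mul_one, mul_div_cancel₀ _ hHpos.ne']
  have e5 : (T.card : ℝ) = ((T.filter (fun g => (χ : G → ℂ) g ≠ 0)).card : ℝ) +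
      (Set.ncard ({x : G | (χ : G → ℂ) x = 0} \ (H : Set G)) : ℝ) := by
    rw [← h6]; exact_mod_cast h5
  have e7 : (Nat.card ↥H : ℝ) + (T.card : ℝ) = (Nat.card G : ℝ) := by
    rw [← h8]; exact_mod_cast h7
  rw [h3] at h2
  linarith

end Cfsg.Agent.S4989
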