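import Cfsg.Statements.S5001
import Cfsg.Agent.Lib.Helper16.HeightZeroLinear
import Cfsg.Agent.S0973
import Cfsg.Agent.S0937

set_option autoImplicit false
open Cfsg

namespace Cfsg.Agent.S5001

open Cfsg.Agent.Lib.Helper16 Cfsg.Agent.Lib.Helper77 Cfsg.Agent.Lib.Helper80 Cfsg.Agent.Lib.Helper81

/-- Let p be a prime, G a finite group and B a p-block of G (relative to a maximal ideal M of the algebraic integers containing p) with defect group D. Let Z be a central p-subgroup of G contained in D and λ a linear character of Z (a homomorphism to the nonzero complex numbers). Say an irreducible character χ of G lies over λ when χ(z) = χ(1)λ(z) for all z ∈ Z. If some irreducible character in B lying over λ has height zero, then λ extends to a linear character of D. -/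
theorem result {G : Type*} [Group G] [Finite G] (p : ℕ) [Fact p.Prime] (M : Ideal Cfsg.AlgInt) (hM : Cfsg.IsPModular p M) (B : Set (Cfsg.IrrCharacter G)) (hB : Cfsg.IsPBlock M B) (D : Subgroup G) (hD : Cfsg.IsDefectGroup p M B D) (Z : Subgroup G) (hZc : Z ≤ Subgroup.center G) (hZp : IsPGroup p ↥Z) (hZD : Z ≤ D) (lam : ↥Z →* ℂˣ) (χ : Cfsg.IrrCharacter G) (hχ : χ ∈ B) (hover : (∀ z : ↥Z, (χ : G → ℂ) z = (χ : G → ℂ) 1 * (lam z : ℂ))) (h0 : Cfsg.blockHeight p B (χ : G → ℂ) = 0) : (∃ μ : ↥D →* ℂˣ, ∀ z : ↥Z, μ ⟨(z : G), hZD z.2⟩ = lam z) := by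
  classical
  have := Fintype.ofFinite G
  have hp : p.Prime := Fact.out
  obtain ⟨⟨b, hbD, hind⟩, -⟩ := Cfsg.Agent.S0973.result p M hM B hB D hD
  have := Fintype.ofFinite ↥(D ⊔ Subgroup.centralizer (D : Set G))
  obtain ⟨ξ, hξb, hξ0, n, hn, hpn⟩ :=
    Cfsg.Agent.S0937.result p M hM (D ⊔ Subgroup.centralizer (D : Set G)) b B hind χ hχ h0
  have hG := subgroupOf_sup_centralizer_eq_top D (D ⊔ Subgroup.centralizer (D : Set G)) rfl
  obtain ⟨μ', hμ'⟩ := exists_hom_of_height_zero p M hM _ hG b hind.1 hbD ξ hξb hξ0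
  have hDL : D ≤ D ⊔ Subgroup.centralizer (D : Set G) := le_sup_left
  have hne : Cfsg.classInner (fun h : ↥(D ⊔ Subgroup.centralizer (D : Set G)) =>
      (χ : G → ℂ) h) (ξ : ↥(D ⊔ Subgroup.centralizer (D : Set G)) → ℂ) ≠ 0 := by
    rw [hn]
    intro h
    have : n = 0 := by exact_mod_cast h
    exact hpn (this ▸ dvd_zero p)
  have hχ1 : (χ : G → ℂ) 1 ≠ 0 := irr_one_ne_zero χ.2
  have hξ1 : (ξ : ↥(D ⊔ Subgroup.centralizer (D : Set G)) → ℂ) 1 ≠ 0 := irr_one_ne_zero ξ.2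
  refine ⟨μ'.comp (Subgroup.subgroupOfEquivOfLe hDL).symm.toMonoidHom, fun z => ?_⟩
  apply Units.ext
  have hzD : (z : G) ∈ D := hZD z.2
  have hzL : (z : G) ∈ D ⊔ Subgroup.centralizer (D : Set G) := hDL hzD
  have hom := om_eq_of_classInner_ne_zero (D ⊔ Subgroup.centralizer (D : Set G)) χ ξ (z : G)
    (hZc z.2) hzL hne
  have hu : ((Subgroup.subgroupOfEquivOfLe hDL).symm ⟨(z : G), hzD⟩ :
      ↥(D.subgroupOf (D ⊔ Subgroup.centralizer (D : Set G)))) =
      ⟨⟨(z : G), hzL⟩, hzD⟩ := rfl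
  have h1 := hμ' ⟨⟨(z : G), hzL⟩, hzD⟩
  show ((μ' ((Subgroup.subgroupOfEquivOfLe hDL).symm ⟨(z : G), hzD⟩) : ℂˣ) : ℂ) = (lam z : ℂ)
  rw [hu]
  have h2 : ((μ' ⟨⟨(z : G), hzL⟩, hzD⟩ : ℂˣ) : ℂ) =
      (ξ : ↥(D ⊔ Subgroup.centralizer (D : Set G)) → ℂ) ⟨(z : G), hzL⟩ /
        (ξ : ↥(D ⊔ Subgroup.centralizer (D : Set G)) → ℂ) 1 := by
    rw [eq_div_iff hξ1]
    exact h1.symm
  rw [h2, hom, hover z]
  field_simp

end Cfsg.Agent.S5001
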