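import Cfsg.Statements.S5011

set_option autoImplicit false
open Cfsg

namespace Cfsg.Agent.S5011

/-- Let G be a finite non-abelian simple group and ρ an irreducible complex representation of G on a space of dimension greater than one (irreducible in the sense that the only subspaces invariant under every ρ(x) are 0 and the whole space). Then for every non-identity element g of G, the centralizer of g does not act irreducibly: there is a non-zero proper subspace invariant under ρ(c) for every c commuting with g. -/
theorem result {G : Type*} [Group G] [Finite G] [IsSimpleGroup G]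
    (hG : ¬ IsMulCommutative G) {V : Type*} [AddCommGroup V] [Module ℂ V] [FiniteDimensional ℂ V]
    (ρ : Representation ℂ G V)
    (hirr : ∀ W : Submodule ℂ V, (∀ x : G, ∀ v ∈ W, ρ x v ∈ W) → W = ⊥ ∨ W = ⊤)
    (hdim : 1 < Module.finrank ℂ V) (g : G) (hg : g ≠ 1) :
    ∃ W : Submodule ℂ V, W ≠ ⊥ ∧ W ≠ ⊤ ∧ ∀ c ∈ Subgroup.centralizer ({g} : Set G), ∀ v ∈ W, ρ c v ∈ W := by
  have hnt : Nontrivial V := Module.nontrivial_of_finrank_pos (R := ℂ) (by omega)
  -- the kernel of ρ
  have hker : (ρ : G →* (V →ₗ[ℂ] V)).ker = ⊥ := by
    rcases (MonoidHom.normal_ker (ρ : G →* (V →ₗ[ℂ] V))).eq_bot_or_eq_top with h | h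
    · exact h
    · exfalso
      obtain ⟨v, hv⟩ := exists_ne (0 : V)
      have htriv : ∀ x : G, ρ x = 1 := by
        intro x
        have : x ∈ (ρ : G →* (V →ₗ[ℂ] V)).ker := by rw [h]; trivial
        exact MonoidHom.mem_ker.1 this
      rcases hirr (ℂ ∙ v) (by
        intro x w hw
        rw [htriv x]; exact hw) with h1 | h1
      · rw [Submodule.span_singleton_eq_bot] at h1
        exact hv h1
      · have h2 := finrank_span_singleton (K := ℂ) hv
        rw [h1, finrank_top] at h2
        omega
  have hinj : Function.Injective (ρ : G →* (V →ₗ[ℂ] V)) := (MonoidHom.ker_eq_bot_iff _).1 hker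
  obtain ⟨μ, hμ⟩ := Module.End.exists_eigenvalue (ρ g)
  refine ⟨Module.End.eigenspace (ρ g) μ, hμ, ?_, ?_⟩
  · intro htop
    -- ρ g is scalar, so g is central
    have hscal : ∀ v : V, ρ g v = μ • v := by
      intro v
      have : v ∈ Module.End.eigenspace (ρ g) μ := by rw [htop]; trivial
      exact Module.End.mem_eigenspace_iff.1 this
    have hcent : g ∈ Subgroup.center G := by
      rw [Subgroup.mem_center_iff]
      intro x
      apply hinj
      show ρ (x * g) = ρ (g * x)
      rw [map_mul, map_mul]
      ext v
      simp only [Module.End.mul_apply, hscal, map_smul]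
    rcases (inferInstance : (Subgroup.center G).Normal).eq_bot_or_eq_top with h | h
    · rw [h, Subgroup.mem_bot] at hcent
      exact hg hcent
    · apply hG
      constructor
      constructor
      intro a b
      have : a ∈ Subgroup.center G := by rw [h]; trivial
      rw [Subgroup.mem_center_iff] at this
      exact (this b).symm
  · intro c hc v hv
    rw [Module.End.mem_eigenspace_iff] at hv ⊢
    rw [Subgroup.mem_centralizer_singleton_iff] at hc
    have h1 : ρ g (ρ c v) = (ρ (g * c)) v := by rw [map_mul]; rfl
    rw [h1, ← hc, map_mul, Module.End.mul_apply, hv, map_smul]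

end Cfsg.Agent.S5011
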