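import Cfsg.Statements.S5015
import Cfsg.Agent.Lib.Helper83.RankOne

set_option autoImplicit false
open Cfsg

namespace Cfsg.Agent.S5015

open Cfsg.Agent.Lib.Helper83

section aux

variable {Y Ω : Type*} [Group Y] [MulAction Y Ω]

theorem conj_wd {α : Ω} {A : Subgroup Y}
    (hAn : ∀ y ∈ MulAction.stabilizer Y α, Cfsg.conjBy A y = A) {g g' : Y} (hg : g • α = g' • α) :
    conjBy A g = conjBy A g' := by
  have h1 : g⁻¹ * g' ∈ MulAction.stabilizer Y α := by
    rw [MulAction.mem_stabilizer_iff, mul_smul, ← hg, inv_smul_smul]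
  have h2 := hAn _ h1
  have h3 : conjBy A g' = conjBy (conjBy A (g⁻¹ * g')) g := by
    rw [conjBy_conjBy]; simp
  rw [h3, h2]

theorem roc_of_regular {α β : Ω} {A B : Subgroup Y} (hαβ : α ≠ β)
    (hAn : ∀ y ∈ MulAction.stabilizer Y α, Cfsg.conjBy A y = A)
    (hA : A ≤ MulAction.stabilizer Y α)
    (hregA : ∀ γ δ : Ω, γ ≠ α → δ ≠ α → ∃! a : Y, a ∈ A ∧ a • γ = δ)
    (hregB : ∀ γ δ : Ω, γ ≠ β → δ ≠ β → ∃! b : Y, b ∈ B ∧ b • γ = δ)
    (y : Y) (hyα : y • α = β) (hyA : conjBy A y = B) : RankOneCondition A B := by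
  intro a ha ha1
  have hγβ : a⁻¹ • β ≠ β := by
    intro hc
    obtain ⟨a₀, -, hu⟩ := hregA β β hαβ.symm hαβ.symm
    have e1 := hu a⁻¹ ⟨A.inv_mem ha, hc⟩
    have e2 := hu 1 ⟨A.one_mem, one_smul _ _⟩
    have : a⁻¹ = 1 := e1.trans e2.symm
    exact ha1 (by simpa using this)
  obtain ⟨b', ⟨hb', hb'α⟩, -⟩ := hregB α (a⁻¹ • β) hαβ hγβ
  refine ⟨b'⁻¹, B.inv_mem hb', ?_, ?_⟩
  · intro hc
    have hb1 : b' = 1 := by simpa using hc
    rw [hb1, one_smul] at hb'α
    have h1 : a • α = α := hA ha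
    have : β = α := by
      have := congrArg (a • ·) hb'α
      simp only [smul_inv_smul] at this
      rw [h1] at this
      exact this.symm
    exact hαβ this.symm
  · rw [inv_inv, ← hyA, conjBy_conjBy]
    apply conj_wd hAn
    rw [hb'α, mul_smul, hyα]

end aux

theorem result {Y Ω : Type*} [Group Y] [MulAction Y Ω]
    (h2 : MulAction.IsMultiplyPretransitive Y Ω 2) (hΩ : 3 ≤ ENat.card Ω) (α : Ω) (A : Subgroup Y)
    (hA : A ≤ MulAction.stabilizer Y α) (hAn : ∀ y ∈ MulAction.stabilizer Y α, Cfsg.conjBy A y = A)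
    (hnil : Group.IsNilpotent A) (hreg : ∀ β γ : Ω, β ≠ α → γ ≠ α → ∃! a : Y, a ∈ A ∧ a • β = γ)
    (y : Y) (hy : y ∉ MulAction.stabilizer Y α) :
    Cfsg.IsRankOnePair A (Cfsg.conjBy A y) ∧ Subgroup.normalClosure (A : Set Y) = A ⊔ Cfsg.conjBy A y := by
  have hβα : y • α ≠ α := fun hc => hy (MulAction.mem_stabilizer_iff.2 hc)
  have hy'α : y⁻¹ • α ≠ α := by
    intro hc
    apply hβα
    have := congrArg (y • ·) hc
    simp only [smul_inv_smul] at this
    exact this.symm
  -- transported hypotheses for B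
  have hB : conjBy A y ≤ MulAction.stabilizer Y (y • α) := by
    intro b hb
    rw [mem_conjBy] at hb
    have := hA hb
    rw [MulAction.mem_stabilizer_iff] at this ⊢
    have h3 := congrArg (y • ·) this
    simp only [mul_smul, smul_inv_smul] at h3
    exact h3
  have hBn : ∀ z ∈ MulAction.stabilizer Y (y • α), Cfsg.conjBy (conjBy A y) z = conjBy A y := by
    intro z hz
    rw [conjBy_conjBy]
    apply conj_wd hAn
    rw [mul_smul]
    exact MulAction.mem_stabilizer_iff.1 hz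
  have hregB : ∀ γ δ : Ω, γ ≠ y • α → δ ≠ y • α → ∃! b : Y, b ∈ conjBy A y ∧ b • γ = δ := by
    intro γ δ hγ hδ
    have hγ' : y⁻¹ • γ ≠ α := by
      intro hc; apply hγ; rw [← hc, smul_inv_smul]
    have hδ' : y⁻¹ • δ ≠ α := by
      intro hc; apply hδ; rw [← hc, smul_inv_smul]
    obtain ⟨a, ⟨ha, haγ⟩, hu⟩ := hreg _ _ hγ' hδ'
    refine ⟨y * a * y⁻¹, ⟨conj_mem_conjBy ha, ?_⟩, ?_⟩
    · rw [mul_smul, mul_smul, haγ, smul_inv_smul]
    · rintro b ⟨hb, hbγ⟩
      rw [mem_conjBy] at hb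
      have := hu _ ⟨hb, by rw [mul_smul, mul_smul, smul_inv_smul, hbγ]⟩
      rw [← this]; simp [mul_assoc]
  have hAB : A ≠ conjBy A y := by
    intro hc
    -- a third point
    have : ∃ γ : Ω, γ ≠ α ∧ γ ≠ y • α := by
      by_contra hcon
      push Not at hcon
      have hsub : (Set.univ : Set Ω) ⊆ {α, y • α} := by
        intro γ _
        by_cases hγ : γ = α
        · left; exact hγ
        · right; exact hcon γ hγ
      have h1 := Set.encard_le_encard hsub
      rw [Set.encard_univ] at h1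
      have h2 : ({α, y • α} : Set Ω).encard ≤ 2 := by
        rw [Set.encard_pair hβα.symm]
      have h3 : (3 : ℕ∞) ≤ 2 := hΩ.trans (h1.trans h2)
      exact absurd h3 (by decide)
    obtain ⟨γ, hγα, hγβ⟩ := this
    obtain ⟨a, ⟨ha, haγ⟩, -⟩ := hreg (y • α) γ hβα hγα
    rw [hc] at ha
    have := hB ha
    rw [MulAction.mem_stabilizer_iff] at this
    rw [this] at haγ
    exact hγβ haγ.symm
  have hnilB : Group.IsNilpotent (conjBy A y) := by
    have := hnil
    exact Group.nilpotent_of_mulEquiv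
      (Subgroup.equivMapOfInjective A (MulAut.conj y).toMonoidHom (MulAut.conj y).injective)
  have hrop : Cfsg.IsRankOnePair A (Cfsg.conjBy A y) := by
    refine ⟨hAB, hnil, hnilB, ?_, ?_⟩
    · exact roc_of_regular hβα.symm hAn hA hreg hregB y rfl rfl
    · refine roc_of_regular hβα hBn hB hregB hreg y⁻¹ (inv_smul_smul _ _) ?_
      rw [conjBy_conjBy]; simp [conjBy_one]
  refine ⟨hrop, ?_⟩
  -- every conjugate of A lies in A ⊔ B
  have hconj : ∀ g : Y, conjBy A g ≤ A ⊔ conjBy A y := by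
    intro g
    by_cases hg : g • α = α
    · have : conjBy A g = conjBy A 1 := conj_wd hAn (by rw [hg, one_smul])
      rw [this, conjBy_one]; exact le_sup_left
    · obtain ⟨a, ⟨ha, haγ⟩, -⟩ := hreg (y • α) (g • α) hβα hg
      have : conjBy A g = conjBy A (a * y) := conj_wd hAn (by rw [mul_smul, haγ])
      rw [this, ← conjBy_conjBy]
      exact conjBy_le_of_mem le_sup_right (Subgroup.mem_sup_left ha)
  apply le_antisymm
  · have : (A ⊔ conjBy A y).Normal := by
      constructor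
      intro n hn g
      have h1 : g * n * g⁻¹ ∈ conjBy (A ⊔ conjBy A y) g := conj_mem_conjBy hn
      rw [conjBy_sup, conjBy_conjBy] at h1
      exact (sup_le (hconj g) (hconj (g * y))) h1
    exact Subgroup.normalClosure_le_normal (fun x hx => Subgroup.mem_sup_left hx)
  · apply sup_le Subgroup.le_normalClosure
    intro x hx
    rw [mem_conjBy] at hx
    have h1 : y⁻¹ * x * y ∈ Subgroup.normalClosure (A : Set Y) := Subgroup.le_normalClosure hx
    have h2 := (Subgroup.normalClosure_normal (s := (A : Set Y))).conj_mem _ h1 y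
    simpa [mul_assoc] using h2

end Cfsg.Agent.S5015
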