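import Cfsg.Statements.S5018
import Cfsg.Agent.Lib.Helper83.RankOne2

set_option autoImplicit false
open Cfsg

namespace Cfsg.Agent.S5018

open Cfsg.Agent.Lib.Helper83

variable {X : Type*} [Group X]

theorem le_normalizer_of_conj_le {H K : Subgroup X} (h : ∀ z ∈ H, conjBy K z ≤ K) :
    H ≤ Subgroup.normalizer (K : Set X) := by
  intro z hz
  rw [Subgroup.mem_normalizer_iff]
  intro k
  constructor
  · intro hk
    exact h z hz (conj_mem_conjBy hk)
  · intro hk
    have := h z⁻¹ (H.inv_mem hz) (conj_mem_conjBy hk)
    simpa [mul_assoc] using this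

theorem z2_sup_ne_top {A B : Subgroup X} (h : Cfsg.IsRankOneGroup X A B) :
    Subgroup.upperCentralSeries X 2 ⊔ A ≠ ⊤ := by
  intro htop
  -- A ⊔ Z is normal
  have hZ2 : ∀ z ∈ Subgroup.upperCentralSeries X 2, conjBy (A ⊔ Subgroup.center X) z ≤ A ⊔ Subgroup.center X := by
    intro z hz
    rw [conjBy_sup]
    apply sup_le
    · intro x hx
      rw [mem_conjBy] at hx
      have h1 := Subgroup.mem_upperCentralSeries_succ_iff.1 hz (z⁻¹ * x * z)
      rw [Subgroup.upperCentralSeries_one, commutatorElement_def] at h1
      have h2 : x = (z * (z⁻¹ * x * z) * z⁻¹ * (z⁻¹ * x * z)⁻¹) * (z⁻¹ * x * z) := by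
        simp [mul_assoc]
      rw [h2]
      exact Subgroup.mul_mem _ (Subgroup.mem_sup_right h1) (Subgroup.mem_sup_left hx)
    · intro x hx
      rw [mem_conjBy] at hx
      have hx' : x ∈ Subgroup.center X := by
        have hn : (Subgroup.center X).Normal := inferInstance
        have := hn.conj_mem _ hx z
        simpa [mul_assoc] using this
      exact Subgroup.mem_sup_right hx'
  have hA : ∀ z ∈ A, conjBy (A ⊔ Subgroup.center X) z ≤ A ⊔ Subgroup.center X := by
    intro z hz
    exact conjBy_le_of_mem le_rfl (Subgroup.mem_sup_left hz)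
  have hnorm : (A ⊔ Subgroup.center X).Normal := by
    rw [← Subgroup.normalizer_eq_top_iff, eq_top_iff, ← htop]
    exact sup_le (le_normalizer_of_conj_le hZ2) (le_normalizer_of_conj_le hA)
  rcases rog_normal_dichotomy h _ hnorm with h1 | h1
  · -- A ⊔ Z = ⊤, so A is normal
    have h2 : A ⊔ Subgroup.center X = ⊤ := by
      rw [← h1]
      exact le_antisymm le_sup_left (sup_le le_rfl le_sup_left)
    have hAn : A.Normal := by
      rw [← Subgroup.normalizer_eq_top_iff, eq_top_iff, ← h2]
      exact sup_le Subgroup.le_normalizer (Subgroup.center_le_normalizer _)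
    apply rog_A_not_normal h
    intro x
    exact conjBy_eq_self_iff.2 (by rw [Subgroup.normalizer_eq_top_iff.2 hAn]; trivial)
  · obtain ⟨a, ha, ha1⟩ := rop_exists_left h.2
    apply ha1
    apply rop_norm_left h.2 ha
    have hac : a ∈ Subgroup.center X := h1 (Subgroup.mem_sup_left ha)
    exact conjBy_eq_self_iff.2 (Subgroup.center_le_normalizer _ hac)

/-- A rank one group is not nilpotent, and its second centre equals its centre. -/
theorem result {X : Type*} [Group X] {A B : Subgroup X} (h : Cfsg.IsRankOneGroup X A B) :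
    Subgroup.upperCentralSeries X 2 = Subgroup.center X ∧ ¬ Group.IsNilpotent X := by
  have hnorm : (Subgroup.upperCentralSeries X 2).Normal := inferInstance
  have h2 : Subgroup.upperCentralSeries X 2 = Subgroup.center X := by
    rcases rog_normal_dichotomy h _ hnorm with h1 | h1
    · exact absurd h1 (z2_sup_ne_top h)
    · apply le_antisymm h1
      rw [← Subgroup.upperCentralSeries_one]
      exact Subgroup.upperCentralSeries_mono X (by norm_num)
  refine ⟨h2, ?_⟩
  rintro ⟨n, hn⟩
  have h12 : Subgroup.upperCentralSeries X 1 = Subgroup.upperCentralSeries X (1 + 1) := by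
    rw [Subgroup.upperCentralSeries_one]; exact h2.symm
  have h3 : Subgroup.upperCentralSeries X 1 = Subgroup.upperCentralSeries X (n + 1) :=
    Subgroup.upperCentralSeries.eq_ge_of_eq_succ (by omega) h12
  have h4 : Subgroup.upperCentralSeries X (n + 1) = ⊤ := by
    rw [eq_top_iff, ← hn]
    exact Subgroup.upperCentralSeries_mono X (by omega)
  rw [h4, Subgroup.upperCentralSeries_one] at h3
  exact rog_center_ne_top h h3

end Cfsg.Agent.S5018
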