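import Cfsg.Statements.S5023
import Cfsg.Agent.Lib.Helper83.QuadMod2

set_option autoImplicit false
open Cfsg
open Cfsg.Agent.Lib.Helper83

namespace Cfsg.Agent.S5023

theorem toEnd_sub_one_apply' {X N : Type*} [Group X] [AddCommGroup N] [DistribMulAction X N] (x : X) (n : N) :
    (DistribMulAction.toAddMonoidEnd X N x - 1) n = x • n - n := by
  show (DistribMulAction.toAddMonoidEnd X N x) n - (1 : AddMonoid.End N) n = _
  rfl

/-- Let X be a rank one group with unipotent subgroups A and B that acts faithfully on an abelian group V (written additively) with A acting quadratically: a' • (a • v − v) = a • v − v for all a, a' in A and v in V. Then A is either torsion-free or an elementary abelian p-group for some prime p. -/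
theorem result {X : Type*} [Group X] {A B : Subgroup X} (h : Cfsg.IsRankOneGroup X A B)
    {V : Type*} [AddCommGroup V] [DistribMulAction X V] (hf : ∀ x : X, (∀ v : V, x • v = v) → x = 1)
    (hq : ∀ a ∈ A, ∀ a' ∈ A, ∀ v : V, a' • (a • v - v) = a • v - v) :
    (∀ a ∈ A, a ≠ 1 → ¬ IsOfFinOrder a) ∨ ∃ p : ℕ, p.Prime ∧ Cfsg.IsElementaryAbelian p A := by
  by_cases hc : ∀ a ∈ A, a ≠ 1 → ¬ IsOfFinOrder a
  · left; exact hc
  right
  push Not at hc
  obtain ⟨a, ha, ha1, hfin⟩ := hc
  have hinj : Function.Injective (DistribMulAction.toAddMonoidEnd X V) := by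
    intro x y hxy
    have h1 : x * y⁻¹ = 1 := by
      apply hf
      intro v
      have : x • (y⁻¹ • v) = y • (y⁻¹ • v) := congrArg (fun f : AddMonoid.End V => f (y⁻¹ • v)) hxy
      rw [mul_smul, this, smul_inv_smul]
    exact mul_inv_eq_one.1 h1
  have hA : QuadOn (DistribMulAction.toAddMonoidEnd X V) A := by
    intro a ha a' ha'
    ext n
    rw [AddMonoid.End.coe_mul, Function.comp_apply, toEnd_sub_one_apply', toEnd_sub_one_apply']
    rw [hq a ha a' ha' n, sub_self]
    rfl
  have hn1 : orderOf a ≠ 1 := by rwa [Ne, orderOf_eq_one_iff]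
  have hn0 : 0 < orderOf a := hfin.orderOf_pos
  have hp : (orderOf a).minFac.Prime := Nat.minFac_prime hn1
  have hdvd : (orderOf a).minFac ∣ orderOf a := Nat.minFac_dvd _
  have ha₁ : a ^ (orderOf a / (orderOf a).minFac) ∈ A := A.pow_mem ha _
  have ha₁1 : a ^ (orderOf a / (orderOf a).minFac) ≠ 1 := by
    apply pow_ne_one_of_lt_orderOf
    · exact (Nat.div_pos (Nat.le_of_dvd hn0 hdvd) hp.pos).ne'
    · exact Nat.div_lt_self hn0 hp.one_lt
  have hpow : (a ^ (orderOf a / (orderOf a).minFac)) ^ (orderOf a).minFac = 1 := by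
    rw [← pow_mul, Nat.div_mul_cancel hdvd, pow_orderOf_eq_one]
  refine ⟨(orderOf a).minFac, hp, ⟨⟨⟨?_⟩⟩, ?_⟩⟩
  · rintro ⟨x, hx⟩ ⟨y, hy⟩
    apply Subtype.ext
    exact quad_faithful_comm hA hinj hx hy
  · exact quad_exponent h _ hinj hA ha₁ ha₁1 hpow

end Cfsg.Agent.S5023
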