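import Cfsg.Statements.S5026
import Cfsg.Agent.Lib.Helper83.RootSub

set_option autoImplicit false
open Cfsg

namespace Cfsg.Agent.S5026

open Cfsg.Agent.Lib.Helper83

variable {G : Type*} [Group G]

theorem le_centralizer_zpowers_iff {E : Subgroup G} {u : G} :
    E ≤ Subgroup.centralizer (Subgroup.zpowers u : Set G) ↔ ∀ e ∈ E, e * u = u * e := by
  constructor
  · intro h e he
    have := Subgroup.mem_centralizer_iff.1 (h he) u (Subgroup.mem_zpowers u)
    exact this.symm
  · intro h e he
    rw [Subgroup.mem_centralizer_iff]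
    intro y hy
    obtain ⟨n, rfl⟩ := Subgroup.mem_zpowers_iff.1 hy
    have : Commute e u := h e he
    exact (this.zpow_right n).symm

/-- In a rank one pair of members of a root subgroup set, no nonidentity elements commute. -/
theorem no_commuting {S : Set (Subgroup G)} (hS : IsRootSubgroupSet S) {E A : Subgroup G} (hES : E ∈ S)
    (hAS : A ∈ S) (hEA : IsRankOnePair E A) {a e : G} (ha : a ∈ A) (ha1 : a ≠ 1) (he : e ∈ E)
    (hc : e * a = a * e) : e = 1 := by
  by_contra he1
  rcases root_ti hS hAS hES (RankOnePair_symm hEA) (conjBy A e) (hS.conj_mem A hAS e) with h | h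
  · have h1 : a ∈ A ⊓ conjBy A e := by
      refine Subgroup.mem_inf.2 ⟨ha, ?_⟩
      have : a = e * a * e⁻¹ := by rw [hc]; simp
      rw [this]
      exact conj_mem_conjBy ha
    rw [h, Subgroup.mem_bot] at h1
    exact ha1 h1
  · exact he1 (rop_norm_left hEA he h.symm)

theorem result {G : Type*} [Group G] {S : Set (Subgroup G)} (hS : Cfsg.IsRootSubgroupSet S) (hdeg : Cfsg.IsDegenerateRootSet S)
    {a b : G} (ha : a ∈ Cfsg.rootElements S) (hb : b ∈ Cfsg.rootElements S) (hab : a * b = b * a) (hab1 : a * b ≠ 1) :
    Cfsg.centralizingMembers S (Subgroup.zpowers (a * b)) =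
      Cfsg.centralizingMembers S (Subgroup.zpowers a) ∩ Cfsg.centralizingMembers S (Subgroup.zpowers b) := by
  obtain ⟨ha1, A, hAS, haA⟩ := ha
  obtain ⟨hb1, B, hBS, hbB⟩ := hb
  ext E
  simp only [centralizingMembers, Set.mem_ofPred_eq, Set.mem_inter_iff, le_centralizer_zpowers_iff]
  constructor
  · rintro ⟨hES, hE⟩
    -- main claim
    have claim : ∀ e ∈ E, e * a = a * e := by
      by_contra hcon
      push Not at hcon
      obtain ⟨e₀, he₀, hne₀⟩ := hcon
      have hEb : ¬ ∀ e ∈ E, e * b = b * e := by
        intro hc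
        apply hne₀
        have h1 := hE e₀ he₀
        have h2 := hc e₀ he₀
        -- e₀ * (a*b) = a*b*e₀ ; e₀ * b = b * e₀
        have : e₀ * a * b = a * e₀ * b := by
          rw [mul_assoc, h1, mul_assoc, mul_assoc, h2]
        exact mul_right_cancel this
      push Not at hEb
      obtain ⟨e₁, he₁, hne₁⟩ := hEb
      have hEA : IsRankOnePair E A := by
        rcases hS.pair E hES A hAS with h | h | h
        · exfalso
          rw [Subgroup.commutator_eq_bot_iff_le_centralizer] at h
          exact hne₀ ((Subgroup.mem_centralizer_iff.1 (h he₀)) a haA).symm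
        · exact h
        · exact absurd h (hdeg E hES A hAS)
      have hEB : IsRankOnePair E B := by
        rcases hS.pair E hES B hBS with h | h | h
        · exfalso
          rw [Subgroup.commutator_eq_bot_iff_le_centralizer] at h
          exact hne₁ ((Subgroup.mem_centralizer_iff.1 (h he₁)) b hbB).symm
        · exact h
        · exact absurd h (hdeg E hES B hBS)
      have he₀1 : e₀ ≠ 1 := by
        intro hc; apply hne₀; rw [hc]; simp
      have hAB : A ≠ B := by
        intro hc
        rw [← hc] at hbB
        exact he₀1 (no_commuting hS hES hAS hEA (A.mul_mem haA hbB) hab1 he₀ (hE e₀ he₀))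
      have hAcB : A ≤ Subgroup.centralizer (B : Set G) := by
        rcases hS.pair A hAS B hBS with h | h | h
        · exact Subgroup.commutator_eq_bot_iff_le_centralizer.1 h
        · exact absurd (no_commuting hS hAS hBS h hbB hb1 haA hab) ha1
        · exact absurd h (hdeg A hAS B hBS)
      -- E is normalized by a * b
      have hEab : conjBy E (a * b) = E := by
        apply conjBy_eq_self_iff.2
        apply Subgroup.centralizer_le_normalizer
        rw [Subgroup.mem_centralizer_iff]
        intro e he
        exact hE e he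
      have hEb' : conjBy E b = conjBy E a⁻¹ := by
        rw [← conjBy_conjBy, conjBy_eq_iff] at hEab
        exact hEab
      obtain ⟨e, he, he1, h1⟩ := hEA.cond_right a haA ha1
      have hb1' : b⁻¹ ≠ 1 := by simpa using hb1
      obtain ⟨e', he', he'1, h2⟩ := hEB.cond_right b⁻¹ (B.inv_mem hbB) hb1'
      rw [inv_inv] at h2
      -- h1 : conjBy A e⁻¹ = conjBy E a⁻¹ ; h2 : conjBy B e'⁻¹ = conjBy E b
      have h3 : conjBy B (e * e'⁻¹) = A := by
        rw [← conjBy_conjBy, h2, hEb', ← h1, conjBy_conjBy]; simp [conjBy_one]
      by_cases hee : e * e'⁻¹ = 1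
      · rw [hee, conjBy_one] at h3
        exact hAB h3.symm
      · apply rop_conj_not_comm (RankOnePair_symm hEB) (E.mul_mem he (E.inv_mem he')) hee
        rw [h3]; exact hAcB
    refine ⟨⟨hES, claim⟩, hES, ?_⟩
    intro e he
    have h1 := hE e he
    have h2 := claim e he
    have : a * (e * b) = a * (b * e) := by
      calc a * (e * b) = (a * e) * b := by rw [mul_assoc]
        _ = (e * a) * b := by rw [h2]
        _ = e * (a * b) := by rw [mul_assoc]
        _ = a * b * e := h1
        _ = a * (b * e) := by rw [mul_assoc]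
    exact mul_left_cancel this
  · rintro ⟨⟨hES, hEa⟩, -, hEb⟩
    refine ⟨hES, ?_⟩
    intro e he
    rw [← mul_assoc, hEa e he, mul_assoc, hEb e he, mul_assoc]

end Cfsg.Agent.S5026
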