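import Cfsg.Statements.S5027
import Cfsg.Agent.Lib.Helper83.RootSub

set_option autoImplicit false
open Cfsg

namespace Cfsg.Agent.S5027

open Cfsg.Agent.Lib.Helper83

/-- Let S be a set of abstract root subgroups of G such that every member of S has a rank one partner in S (the graph of rank one pairs on S has no isolated vertex). Then the second centre of G equals its centre. -/
theorem result {G : Type*} [Group G] {S : Set (Subgroup G)} (hS : Cfsg.IsRootSubgroupSet S)
    (hF : ∀ A ∈ S, ¬ Cfsg.IsIsolatedIn (Cfsg.FAdj S) S A) : Subgroup.upperCentralSeries G 2 = Subgroup.center G := by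
  apply le_antisymm
  · intro g hg
    have hcent : ∀ A ∈ S, A ≤ Subgroup.centralizer {g} := by
      intro A hAS a ha
      rw [Subgroup.mem_centralizer_singleton_iff]
      by_cases ha1 : a = 1
      · rw [ha1]; simp
      obtain ⟨B, hBS, hAB⟩ := exists_partner_of_not_isolated hAS (hF A hAS)
      have hz := Subgroup.mem_upperCentralSeries_succ_iff.1 hg a
      rw [Subgroup.upperCentralSeries_one, commutatorElement_def] at hz
      by_contra hne
      have hz1 : g * a * g⁻¹ * a⁻¹ ≠ 1 := by
        intro hc
        apply hne
        have := congrArg (· * (a * g)) hc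
        simp only [mul_assoc, inv_mul_cancel_left, one_mul] at this
        simpa [mul_assoc] using this.symm
      have hzc : g * a * g⁻¹ * a⁻¹ ∈ Subgroup.centralizer ((A ⊔ B : Subgroup G) : Set G) :=
        Subgroup.center_le_centralizer _ hz
      have := central_translate_not_root hS hAS hBS hAB hzc hz1 a ha ha1
      apply this
      refine ⟨?_, conjBy A g, hS.conj_mem A hAS g, ?_⟩
      · intro hc
        apply ha1
        have h2 : g * a * g⁻¹ = 1 := by simpa [mul_assoc] using hc
        have := congrArg (fun t => g⁻¹ * t * g) h2
        simpa [mul_assoc] using this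
      · have : g * a * g⁻¹ * a⁻¹ * a = g * a * g⁻¹ := by simp [mul_assoc]
        rw [this]
        exact conj_mem_conjBy ha
    have htop : (⊤ : Subgroup G) ≤ Subgroup.centralizer {g} := by
      rw [← hS.generates]
      exact iSup₂_le hcent
    rw [Subgroup.mem_center_iff]
    intro x
    have := htop (Subgroup.mem_top x)
    rw [Subgroup.mem_centralizer_singleton_iff] at this
    exact this
  · rw [← Subgroup.upperCentralSeries_one]
    exact Subgroup.upperCentralSeries_mono G (by norm_num)

end Cfsg.Agent.S5027
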