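-- Statement S5030: the triple lemma for A, B, C with [A,B], [B,C] in S and A, C commuting.
import Cfsg.Statements.S5030
import Cfsg.Agent.Lib.Helper83.Triple

set_option autoImplicit false
open Cfsg
open Cfsg.Agent.Lib.Helper83

namespace Cfsg.Agent.S5030

/-- Let S be a set of abstract root subgroups of G and A, B, C ∈ S with ⁅A, B⁆ ∈ S and ⁅B, C⁆ ∈ S, where A and C are different and commute. For a non-identity b ∈ B put X = ⟨A, b⁻¹ C b⟩ and Y = ⟨b⁻¹ A b, C⟩ and R = ⟨A, B, C⟩. Then X and Y are either both abelian or both nilpotent of class exactly two; X and Y commute elementwise; XY is normal in R with R = (XY) B; and R is nilpotent. -/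
theorem result {G : Type*} [Group G] {S : Set (Subgroup G)} (hS : Cfsg.IsRootSubgroupSet S)
    {A B C : Subgroup G} (hA : A ∈ S) (hB : B ∈ S) (hC : C ∈ S) (hAB : ⁅A, B⁆ ∈ S) (hBC : ⁅B, C⁆ ∈ S)
    (hAC : C ∈ Cfsg.commutingPartners S A)
    {b : G} (hb : b ∈ B) (hb1 : b ≠ 1) :
    ((IsMulCommutative ↥(A ⊔ Cfsg.conjBy C b⁻¹) ∧ IsMulCommutative ↥(Cfsg.conjBy A b⁻¹ ⊔ C)) ∨
      ((¬ IsMulCommutative ↥(A ⊔ Cfsg.conjBy C b⁻¹) ∧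
          ⁅⁅A ⊔ Cfsg.conjBy C b⁻¹, A ⊔ Cfsg.conjBy C b⁻¹⁆, A ⊔ Cfsg.conjBy C b⁻¹⁆ = ⊥) ∧
        (¬ IsMulCommutative ↥(Cfsg.conjBy A b⁻¹ ⊔ C) ∧
          ⁅⁅Cfsg.conjBy A b⁻¹ ⊔ C, Cfsg.conjBy A b⁻¹ ⊔ C⁆, Cfsg.conjBy A b⁻¹ ⊔ C⁆ = ⊥))) ∧
    ⁅A ⊔ Cfsg.conjBy C b⁻¹, Cfsg.conjBy A b⁻¹ ⊔ C⁆ = ⊥ ∧
    (∀ r ∈ A ⊔ B ⊔ C, Cfsg.conjBy ((A ⊔ Cfsg.conjBy C b⁻¹) ⊔ (Cfsg.conjBy A b⁻¹ ⊔ C)) r =
      (A ⊔ Cfsg.conjBy C b⁻¹) ⊔ (Cfsg.conjBy A b⁻¹ ⊔ C)) ∧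
    ((A ⊔ Cfsg.conjBy C b⁻¹) ⊔ (Cfsg.conjBy A b⁻¹ ⊔ C)) ⊔ B = A ⊔ B ⊔ C ∧
    Group.IsNilpotent ↥(A ⊔ B ⊔ C) := by
  obtain ⟨-, -, hcomm⟩ := hAC
  have T : TripleCfg S A B C :=
    ⟨hS, hA, hB, hC, commCase_of_mem hS hA hB hAB, commCase_of_mem hS hB hC hBC,
      Subgroup.commutator_eq_bot_iff_le_centralizer.1 hcomm⟩
  refine ⟨?_, ?_, T.M_normal hb hb1, T.M_sup_B hb, T.nilpotent hb hb1⟩
  · by_cases hW : ⁅A, ⁅B, C⁆⁆ = ⊥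
    · left
      exact ⟨(T.X_comm_iff hb hb1).2 hW, (T.Y_comm_iff hb hb1).2 (T.W1_bot_iff.1 hW)⟩
    · right
      exact ⟨⟨fun h => hW ((T.X_comm_iff hb hb1).1 h), T.X_class2 hb⟩,
        ⟨fun h => hW (T.W1_bot_iff.2 ((T.Y_comm_iff hb hb1).1 h)), T.Y_class2 hb⟩⟩
  · rw [Subgroup.commutator_eq_bot_iff_le_centralizer]
    exact T.XY_comm hb

end Cfsg.Agent.S5030
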