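import Cfsg.Statements.S5035
import Cfsg.Agent.Lib.Helper83.RootSub2

set_option autoImplicit false
open Cfsg

namespace Cfsg.Agent.S5035

open Cfsg.Agent.Lib.Helper83

/-- Let S be a set of abstract root subgroups of G whose graph of rank one pairs is connected, and f a homomorphism from G onto a group H. Then either the images of the members of S form a set of abstract root subgroups of H whose graph of rank one pairs is again connected, or H equals the image of a member of S. -/
theorem result {G H : Type*} [Group G] [Group H] {S : Set (Subgroup G)} (hS : Cfsg.IsRootSubgroupSet S)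
    (hc : Cfsg.IsConnectedFamily (Cfsg.FAdj S) S) (f : G →* H) (hf : Function.Surjective f) :
    (Cfsg.IsRootSubgroupSet ((fun A : Subgroup G => A.map f) '' S) ∧
      Cfsg.IsConnectedFamily (Cfsg.FAdj ((fun A : Subgroup G => A.map f) '' S)) ((fun A : Subgroup G => A.map f) '' S)) ∨
    ∃ A ∈ S, A.map f = ⊤ := by
  by_cases htop : ∃ A ∈ S, A.map f = ⊤
  · exact Or.inr htop
  left
  have hgen : (⨆ A ∈ S, A.map f) = ⊤ := by
    have h1 := congrArg (Subgroup.map f) hS.generates
    rw [Subgroup.map_top_of_surjective f hf, Subgroup.map_iSup] at h1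
    simp only [Subgroup.map_iSup] at h1
    exact h1
  have hcomm : ∀ A ∈ S, IsMulCommutative (A.map f) := by
    intro A hA
    constructor
    constructor
    rintro ⟨_, ⟨a, ha, rfl⟩⟩ ⟨_, ⟨b, hb, rfl⟩⟩
    apply Subtype.ext
    show f a * f b = f b * f a
    rw [← map_mul, ← map_mul, comm_of_isMulCommutative (hS.commutative A hA) ha hb]
  refine ⟨⟨?_, ?_, ?_, ?_, ?_⟩, ?_⟩
  · rintro _ ⟨A, hA, rfl⟩
    exact hcomm A hA
  · rintro _ ⟨A₀, hA₀, rfl⟩ hbot
    change A₀.map f = ⊥ at hbot
    -- all images are trivial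
    have hall : ∀ B ∈ S, B.map f = ⊥ := by
      intro B hB
      have hpath := hc A₀ hA₀ B hB
      induction hpath with
      | refl => exact hbot
      | tail _ hstep ih =>
        obtain ⟨hb', -, hr⟩ := hstep
        obtain ⟨x, -, hx⟩ := rop_B_mem_unip hr
        rw [hx, map_conjBy, ih hb']
        ext y
        rw [mem_conjBy, Subgroup.mem_bot, Subgroup.mem_bot]
        constructor
        · intro h
          have := congrArg (fun t => f x * t * (f x)⁻¹) h
          simpa [mul_assoc] using this
        · intro h; rw [h]; simp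
    have h1 : (⨆ A ∈ S, A.map f) = ⊥ := by
      rw [eq_bot_iff]
      exact iSup₂_le (fun A hA => (hall A hA).le)
    apply htop
    refine ⟨A₀, hA₀, ?_⟩
    rw [hbot, ← h1, hgen]
  · rw [iSup_image]
    exact hgen
  · rintro _ ⟨A, hA, rfl⟩ h
    obtain ⟨g, rfl⟩ := hf h
    exact ⟨conjBy A g, hS.conj_mem A hA g, map_conjBy f A g⟩
  · rintro _ ⟨A, hA, rfl⟩ _ ⟨B, hB, rfl⟩
    rcases hS.pair A hA B hB with h | h | h
    · left
      show ⁅A.map f, B.map f⁆ = ⊥
      rw [← Subgroup.map_commutator, h, Subgroup.map_bot]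
    · rcases map_rop_or_eq h f with h1 | h1
      · left
        show ⁅A.map f, B.map f⁆ = ⊥
        rw [h1, Subgroup.commutator_eq_bot_iff_le_centralizer]
        exact le_centralizer_self_of_comm (hcomm B hB)
      · right; left; exact h1
    · right; right
      obtain ⟨h1, h2, h3, h4⟩ := h
      have hcl : ∀ (a : G) (T : Subgroup G), Subgroup.map f (Subgroup.closure ((fun b : G => a * b * a⁻¹ * b⁻¹) '' (T : Set G))) =
          Subgroup.closure ((fun b : H => f a * b * (f a)⁻¹ * b⁻¹) '' ((T.map f : Subgroup H) : Set H)) := by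
        intro a T
        rw [MonoidHom.map_closure]
        congr 1
        ext y
        constructor
        · rintro ⟨_, ⟨b, hb, rfl⟩, rfl⟩
          exact ⟨f b, Subgroup.mem_map_of_mem f hb, by simp⟩
        · rintro ⟨_, ⟨b, hb, rfl⟩, rfl⟩
          exact ⟨_, ⟨b, hb, rfl⟩, by simp⟩
      have hcl' : ∀ (b : G) (T : Subgroup G), Subgroup.map f (Subgroup.closure ((fun a : G => a * b * a⁻¹ * b⁻¹) '' (T : Set G))) =
          Subgroup.closure ((fun a : H => a * f b * a⁻¹ * (f b)⁻¹) '' ((T.map f : Subgroup H) : Set H)) := by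
        intro b T
        rw [MonoidHom.map_closure]
        congr 1
        ext y
        constructor
        · rintro ⟨_, ⟨a, ha, rfl⟩, rfl⟩
          exact ⟨f a, Subgroup.mem_map_of_mem f ha, by simp⟩
        · rintro ⟨_, ⟨a, ha, rfl⟩, rfl⟩
          exact ⟨_, ⟨a, ha, rfl⟩, by simp⟩
      refine ⟨?_, ?_, ?_, ?_⟩
      · show ⁅A.map f, B.map f⁆ ∈ _
        rw [← Subgroup.map_commutator]
        exact ⟨_, h1, rfl⟩
      · intro c hc' x hx
        change c ∈ ⁅A.map f, B.map f⁆ at hc'
        change x ∈ A.map f ⊔ B.map f at hx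
        rw [← Subgroup.map_commutator] at hc'
        rw [← Subgroup.map_sup] at hx
        obtain ⟨c₀, hc₀, rfl⟩ := hc'
        obtain ⟨x₀, hx₀, rfl⟩ := hx
        rw [← map_mul, ← map_mul, h2 c₀ hc₀ x₀ hx₀]
      · rintro _ ⟨a, ha, rfl⟩ ha1
        have ha1' : a ≠ 1 := by
          intro hc'; apply ha1; rw [hc', map_one]
        show _ = ⁅A.map f, B.map f⁆
        rw [← Subgroup.map_commutator, ← h3 a ha ha1', hcl]
      · rintro _ ⟨b, hb, rfl⟩ hb1
        have hb1' : b ≠ 1 := by
          intro hc'; apply hb1; rw [hc', map_one]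
        show _ = ⁅A.map f, B.map f⁆
        rw [← Subgroup.map_commutator, ← h4 b hb hb1', hcl']
  · rintro _ ⟨A, hA, rfl⟩ _ ⟨B, hB, rfl⟩
    have hpath := hc A hA B hB
    induction hpath with
    | refl => exact Relation.ReflTransGen.refl
    | @tail A' B' _ hstep ih =>
      obtain ⟨hA', hB', hr⟩ := hstep
      rcases map_rop_or_eq hr f with h1 | h1
      · show Relation.ReflTransGen _ (A.map f) (B'.map f)
        rw [← h1]; exact ih hA'
      · exact Relation.ReflTransGen.tail (ih hA') ⟨⟨A', hA', rfl⟩, ⟨B', hB', rfl⟩, h1⟩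

end Cfsg.Agent.S5035
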