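import Cfsg.Statements.S5037
import Cfsg.Agent.Lib.Helper83.Swap
-- import your own Cfsg.Agent.* helpers here

set_option autoImplicit false
open Cfsg
open Cfsg.Agent.Lib.Helper83

namespace Cfsg.Agent.S5037

/-- Let S be a class of abstract root subgroups of G that is either degenerate or non-degenerate (so either the commutator case never occurs, or all three cases occur), and A ≠ C members of S. If every member of S commuting with A commutes with C, then A and C have the same commuting members of S; and if every rank one partner of A is a rank one partner of C, then A and C commute and have the same rank one partners. -/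
theorem result {G : Type*} [Group G] {S : Set (Subgroup G)} (hS : Cfsg.IsRootSubgroupClass S)
    (hdn : Cfsg.IsDegenerateRootSet S ∨ Cfsg.IsNondegenerateRootSet S)
    {A C : Subgroup G} (hA : A ∈ S) (hC : C ∈ S) (hAC : A ≠ C) :
    (Cfsg.centralizingMembers S A ⊆ Cfsg.centralizingMembers S C →
      Cfsg.centralizingMembers S A = Cfsg.centralizingMembers S C) ∧
    (Cfsg.rankOnePartners S A ⊆ Cfsg.rankOnePartners S C →
      ⁅A, C⁆ = ⊥ ∧ Cfsg.rankOnePartners S A = Cfsg.rankOnePartners S C) := by
  constructor
  · intro hsub
    have hAcomm : A ≤ Subgroup.centralizer (C : Set G) :=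
      (hsub ⟨hA, le_centralizer_self_of_comm (hS.1.commutative A hA)⟩).2
    by_cases hΩ : ∃ B ∈ S, IsRankOnePair C B
    · obtain ⟨B, hB, hCB⟩ := hΩ
      have hAB : IsRankOnePair A B := by
        rcases hS.1.pair A hA B hB with h | h | h
        · exfalso
          rw [Subgroup.commutator_eq_bot_iff_le_centralizer] at h
          have hB' : B ∈ centralizingMembers S A := ⟨hB, le_centralizer_symm h⟩
          exact rop_not_le_centralizer hCB (le_centralizer_symm (hsub hB').2)
        · exact h
        · exfalso
          have hc : RootCommutatorCase S B A := commCase_symm h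
          have hc2 := commCase_of_opposite hS.1 hC hCB (le_centralizer_symm hAcomm) hc
          have hmem : ⁅B, A⁆ ∈ centralizingMembers S A :=
            ⟨hc.1, le_centralizer_symm (commCase_right_le_centralizer hc)⟩
          have h3 : C ≤ Subgroup.centralizer ((⁅B, A⁆ : Subgroup G) : Set G) :=
            le_centralizer_symm (hsub hmem).2
          rw [← Subgroup.commutator_eq_bot_iff_le_centralizer] at h3
          exact hS.1.ne_bot _ hc2.1 h3
      obtain ⟨g, h1, h2⟩ := rop_swap hAB hCB hAcomm
      exact swap_subset (centralizingMembers_conj hS.1) h1 h2 hsub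
    · have hall := all_comm_of_no_partner hS hdn hC hΩ
      ext D
      constructor
      · intro hD
        exact hsub hD
      · intro hD
        refine ⟨hD.1, ?_⟩
        rw [← Subgroup.commutator_eq_bot_iff_le_centralizer]
        exact hall D hD.1 A hA
  · intro hsub
    by_cases hΩ : ∃ B ∈ S, IsRankOnePair A B
    · obtain ⟨B, hB, hAB⟩ := hΩ
      have hCB : IsRankOnePair C B := (hsub ⟨hB, hAB⟩).2
      have hcomm : ⁅A, C⁆ = ⊥ := by
        rcases hS.1.pair A hA C hC with h | h | h
        · exact h
        · exfalso
          exact (hsub ⟨hC, h⟩).2.ne rfl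
        · exfalso
          have hc : RootCommutatorCase S C A := commCase_symm h
          have hiso := class_has_partner hS hA hB hAB
          have hF : ⁅C, A⁆ ∈ linePartners S C := linePartner_of_commCase hS.1 hC hB hCB hc
          have hm1 : ⁅C, A⁆ ∈ membersIn S (C ⊔ ⁅C, A⁆) := ⟨hc.1, le_sup_right⟩
          have hm2 : C ∈ membersIn S (C ⊔ ⁅C, A⁆) := ⟨hC, le_sup_left⟩
          obtain ⟨E, hE, hcE, hEeq⟩ := exists_comm_of_line hS.1 hiso hC hF hm1 hm2
            (commCase_ne hS.1 hc).symm
          have hEeq' : ⁅E, ⁅C, A⁆⁆ = C := by rw [Subgroup.commutator_comm]; exact hEeq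
          have hopp := oppConfig_of hS.1 hC hA hc.1 hE hEeq'
          have hAE : IsRankOnePair A E := hopp.rankOne
          have hCE : IsRankOnePair C E := (hsub ⟨hE, hAE⟩).2
          apply rop_not_le_centralizer hCE
          intro c hcC
          rw [Subgroup.mem_centralizer_iff]
          intro e he
          exact (hopp.commAD hcC he).symm
      refine ⟨hcomm, ?_⟩
      rw [Subgroup.commutator_eq_bot_iff_le_centralizer] at hcomm
      obtain ⟨g, h1, h2⟩ := rop_swap hAB hCB hcomm
      exact swap_subset (rankOnePartners_conj hS.1) h1 h2 hsub
    · have hall := all_comm_of_no_partner hS hdn hA hΩ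
      refine ⟨hall A hA C hC, ?_⟩
      ext D
      constructor
      · intro hD
        exact hsub hD
      · intro hD
        exfalso
        apply rop_not_le_centralizer hD.2
        rw [← Subgroup.commutator_eq_bot_iff_le_centralizer]
        exact hall C hC D hD.1

end Cfsg.Agent.S5037
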