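import Cfsg.Statements.S5039
import Cfsg.Agent.Lib.Helper83.Transv5
import Cfsg.Agent.S5034

set_option autoImplicit false
universe u
open Cfsg

namespace Cfsg.Agent.S5039

open Cfsg.Agent.Lib.Helper83

/-- Let S be a class of abstract root subgroups of G containing two different commuting members. Suppose that, in case S is degenerate and every element of every member of S has order at most 3, the following holds: for every A ∈ S and every rank one partner B of A there are subgroups A₀ ≤ A and B₀ ≤ B generating an image of SL₂(k) with central kernel, k a field with at least four elements, A₀ and B₀ being the images of the unitriangular subgroups. Then every rank one pair A, B in S is special. -/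
theorem result {G : Type u} [Group G] {S : Set (Subgroup G)} (hS : Cfsg.IsRootSubgroupClass S)
    (hcomm : ∃ A ∈ S, ∃ C ∈ S, A ≠ C ∧ ⁅A, C⁆ = ⊥)
    (hH : Cfsg.IsDegenerateRootSet S → (∀ A ∈ S, ∀ a ∈ A, 0 < orderOf a ∧ orderOf a ≤ 3) →
      ∀ A ∈ S, ∀ B ∈ Cfsg.rankOnePartners S A, ∃ A₀ B₀ : Subgroup G, A₀ ≤ A ∧ B₀ ≤ B ∧
        ∃ (k : Type u) (_ : Field k), 3 < ENat.card k ∧ Cfsg.IsPSL2PairOver k A₀ B₀)
    {A B : Subgroup G} (hA : A ∈ S) (hB : B ∈ Cfsg.rankOnePartners S A) : Cfsg.IsSpecialRankOnePair A B := by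
  obtain ⟨hBS, hAB⟩ := hB
  by_cases hd : IsDegenerateRootSet S
  · apply degenerate_special hS hd hcomm ?_ hA hBS hAB
    intro hord A' hA' B' hB' hAB' hall
    obtain ⟨A₀, B₀, hA₀, hB₀, k, _, hk, hpsl⟩ := hH hd hord A' hA' B' ⟨hB', hAB'⟩
    obtain ⟨h1, h2⟩ := psl2_three hpsl hk
    have e1 : A₀ = A' := (hall A' hA').eq_of_le hA₀ h1
    have e2 : B₀ = B' := (hall B' hB').eq_of_le hB₀ h2
    rw [e1, e2] at hpsl
    exact psl2_special hpsl hAB'
  · unfold IsDegenerateRootSet at hd
    push Not at hd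
    obtain ⟨P, hP, Q, hQ, hc⟩ := hd
    have hnd : IsNondegenerateRootSet S := ⟨hcomm, ⟨A, hA, B, hBS, hAB⟩, ⟨P, hP, Q, hQ, hc⟩⟩
    exact (Cfsg.Agent.S5034.result hS hnd hA ⟨hBS, hAB⟩).2

end Cfsg.Agent.S5039
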