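import Cfsg.Statements.S5041
import Cfsg.Agent.Lib.Helper83.Nondeg
import Cfsg.Agent.S5032

set_option autoImplicit false
open Cfsg
open Cfsg.Agent.Lib.Helper83

namespace Cfsg.Agent.S5041

/-- Let S be a non-degenerate class of abstract root subgroups of G. Then the graph on S joining A to its line partners, and the commuting graph on S, are both connected. -/
theorem result {G : Type*} [Group G] {S : Set (Subgroup G)} (hS : Cfsg.IsRootSubgroupClass S) (hnd : Cfsg.IsNondegenerateRootSet S) :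
    Cfsg.IsConnectedFamily (Cfsg.EAdj S S) S ∧ Cfsg.IsConnectedFamily (Cfsg.DAdj S) S := by
  have hnd' := hnd
  obtain ⟨-, ⟨P₁, hP₁, P₂, hP₂, hP⟩, -⟩ := hnd
  have hiso := class_has_partner hS hP₁ hP₂ hP
  have hFconn : Cfsg.IsConnectedFamily (Cfsg.FAdj S) S := by
    rw [Cfsg.Agent.S5032.result hS.1 ⟨P₁, hP₁, P₂, hP₂, hP.ne⟩]
    exact ⟨hS.2, P₁, hP₁, not_isolated_of_partner hP₁ hP₂ hP⟩
  have hedge : ∀ A B : Subgroup G, Cfsg.FAdj S A B → Relation.ReflTransGen (Cfsg.EAdj S S) A B := by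
    rintro A B ⟨hA, hB, hAB⟩
    obtain ⟨F, hFS, hFL, hc, hcA, heq⟩ := nondeg_line_partner hS hnd' hA hB hAB
    obtain ⟨E, hE, hFE⟩ := hiso F hFS
    have h1 : Cfsg.EAdj S S A F := ⟨hA, hFS, hFL⟩
    have h2 : Cfsg.EAdj S S F ⁅B, F⁆ := by
      refine ⟨hFS, hc.1, ?_⟩
      have := linePartner_of_commCase hS.1 hFS hE hFE (commCase_symm hc)
      rwa [Subgroup.commutator_comm] at this
    have h3 : Cfsg.EAdj S S ⁅B, F⁆ B := by
      refine ⟨hc.1, hB, ?_⟩
      exact linePartners_symm hB (linePartner_of_commCase hS.1 hB hA (RankOnePair_symm hAB) hc)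
    exact ((Relation.ReflTransGen.single h1).tail h2).tail h3
  have hE : Cfsg.IsConnectedFamily (Cfsg.EAdj S S) S := by
    intro A hA B hB
    have := hFconn A hA B hB
    clear hB
    induction this with
    | refl => exact Relation.ReflTransGen.refl
    | tail _ hbc ih => exact ih.trans (hedge _ _ hbc)
  refine ⟨hE, ?_⟩
  intro A hA B hB
  have hmono : ∀ X Y : Subgroup G, Cfsg.EAdj S S X Y → Cfsg.DAdj S X Y := by
    rintro X Y ⟨hX, hY, hL⟩
    exact ⟨hX, hY, hL.1.2.1.symm, hL.1.2.2⟩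
  exact Relation.ReflTransGen.mono hmono _ _ (hE A hA B hB)

end Cfsg.Agent.S5041
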