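import Cfsg.Statements.S5042
import Cfsg.Agent.Lib.Helper83.Generation
import Cfsg.Agent.S5041

set_option autoImplicit false
open Cfsg
open Cfsg.Agent.Lib.Helper83

namespace Cfsg.Agent.S5042

/-- Let S be a non-degenerate class of abstract root subgroups of G, A ∈ S and B a rank one partner of A. Then G is generated by the line partners of A together with B. -/
theorem result {G : Type*} [Group G] {S : Set (Subgroup G)} (hS : Cfsg.IsRootSubgroupClass S) (hnd : Cfsg.IsNondegenerateRootSet S)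
    {A B : Subgroup G} (hA : A ∈ S) (hB : B ∈ Cfsg.rankOnePartners S A) :
    (⨆ C ∈ Cfsg.linePartners S A, C) ⊔ B = ⊤ := by
  obtain ⟨hBS, hAB⟩ := hB
  have hiso := class_has_partner hS hA hBS hAB
  have hΛ : ∀ C' ∈ linePartners S A, C' ≤ (⨆ C ∈ linePartners S A, C) ⊔ B :=
    fun C' hC' => le_sup_of_le_left (le_biSup (fun C => C) hC')
  have hBR : B ≤ (⨆ C ∈ linePartners S A, C) ⊔ B := le_sup_right
  obtain ⟨C₀, hC₀⟩ := nondeg_exists_linePartner hS hnd hA
  have hAR := (line_points_conj hS.1 hiso hA hBS hAB hC₀ hΛ hBR).1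
  have hconn := (Cfsg.Agent.S5041.result hS hnd).1
  have hall : ∀ E ∈ S, ∃ r ∈ (⨆ C ∈ linePartners S A, C) ⊔ B, E = conjBy A r := by
    intro E hE
    have := hconn A hA E hE
    clear hE
    induction this with
    | refl => exact ⟨1, Subgroup.one_mem _, (conjBy_one A).symm⟩
    | tail _ hbc ih =>
      obtain ⟨r, hr, rfl⟩ := ih
      obtain ⟨-, hE'S, hE'L⟩ := hbc
      have h1 := linePartners_conj hS.1 hE'L r⁻¹
      rw [conjBy_conjBy, inv_mul_cancel, conjBy_one] at h1
      have h2 := (line_points_conj hS.1 hiso hA hBS hAB h1 hΛ hBR).2 _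
        ⟨hS.1.conj_mem _ hE'S r⁻¹, le_sup_right⟩
      obtain ⟨r₀, hr₀, h3⟩ := h2
      refine ⟨r * r₀, Subgroup.mul_mem _ hr hr₀, ?_⟩
      rw [← conjBy_conjBy, ← h3, conjBy_conjBy, mul_inv_cancel, conjBy_one]
  rw [eq_top_iff, ← hS.1.generates]
  apply iSup₂_le
  intro E hE
  obtain ⟨r, hr, rfl⟩ := hall E hE
  exact conjBy_le_of_mem hAR hr

end Cfsg.Agent.S5042
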