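import Cfsg.Statements.S5040
import Cfsg.Agent.Lib.Helper83.Generation
import Cfsg.Agent.S5042

set_option autoImplicit false
open Cfsg
open Cfsg.Agent.Lib.Helper83

namespace Cfsg.Agent.S5040

/-- Let S be a non-degenerate class of abstract root subgroups of G and Δ a weak TI-subset of S. Then the members of Δ commute with one another elementwise. -/
theorem result {G : Type*} [Group G] {S : Set (Subgroup G)} (hS : Cfsg.IsRootSubgroupClass S) (hnd : Cfsg.IsNondegenerateRootSet S)
    {Δ : Set (Subgroup G)} (hΔ : Cfsg.IsWeakTISubset S Δ) : Cfsg.IsAbelianFamily Δ := by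
  obtain ⟨hsub, -, hneS, hTI⟩ := hΔ
  have hnd' := hnd
  obtain ⟨-, ⟨P₁, hP₁, P₂, hP₂, hP⟩, -⟩ := hnd
  have hiso := class_has_partner hS hP₁ hP₂ hP
  -- members normalizing a member of Δ stabilize Δ
  have fact1 : ∀ E ∈ S, ∀ M ∈ Δ, E ≤ Subgroup.normalizer (M : Set G) → E ≤ famStab Δ := by
    intro E hE M hM hEM
    apply le_famStab_of_forall
    intro e he C hC
    by_cases he1 : e = 1
    · rw [he1, conjBy_one]; exact hC
    have hroot : e ∈ rootElements S := ⟨he1, E, hE, he⟩
    rcases hTI e hroot with h | h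
    · rw [← h]; exact ⟨C, hC, rfl⟩
    · exfalso
      have hMe : conjBy M e = M := conjBy_eq_self_iff.2 (hEM he)
      exact Set.disjoint_left.1 h ⟨M, hM, hMe⟩ hM
  -- no rank one pair inside Δ
  have caseR : ∀ A ∈ Δ, ∀ B ∈ Δ, ¬ IsRankOnePair A B := by
    intro A hA B hB hAB
    have hAS := hsub hA
    have hBS := hsub hB
    have hW : (⊤ : Subgroup G) ≤ famStab Δ := by
      rw [← Cfsg.Agent.S5042.result hS hnd' hAS ⟨hBS, hAB⟩]
      apply sup_le
      · apply iSup₂_le
        intro C hC
        apply fact1 C hC.1.1 A hA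
        have : A ≤ Subgroup.centralizer (C : Set G) := by
          rw [← Subgroup.commutator_eq_bot_iff_le_centralizer]; exact hC.1.2.2
        exact (le_centralizer_symm this).trans (Subgroup.centralizer_le_normalizer _)
      · exact fact1 B hBS B hB Subgroup.le_normalizer
    apply hneS
    apply Set.Subset.antisymm hsub
    intro E hE
    obtain ⟨g, rfl⟩ := hS.2.2 A hAS E hE
    exact ((hW (Subgroup.mem_top g)) A hA).1
  intro A hA B hB a ha b hb
  have hAS := hsub hA
  have hBS := hsub hB
  rcases hS.1.pair A hAS B hBS with h | h | h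
  · rw [Subgroup.commutator_eq_bot_iff_le_centralizer] at h
    exact ((Subgroup.mem_centralizer_iff.1 (h ha)) b hb).symm
  · exact absurd h (caseR A hA B hB)
  · exfalso
    obtain ⟨D, hD, hAD⟩ := hiso A hAS
    have hCL := linePartner_of_commCase hS.1 hAS hD hAD h
    have hCT : ⁅A, B⁆ ∈ membersIn S (A ⊔ ⁅A, B⁆) := ⟨h.1, le_sup_right⟩
    have hAT : A ∈ membersIn S (A ⊔ ⁅A, B⁆) := ⟨hAS, le_sup_left⟩
    obtain ⟨E, hES, hcE, heqE⟩ := exists_comm_of_line hS.1 hiso hAS hCL hCT hAT (commCase_ne hS.1 h).symm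
    have hcfg := oppConfig_of hS.1 hAS hBS h.1 hES (by rw [Subgroup.commutator_comm]; exact heqE)
    have hBE := hcfg.rankOne
    have hEW : E ≤ famStab Δ := by
      apply fact1 E hES A hA
      have := commCase_right_le_centralizer hcE
      rw [heqE] at this
      exact this.trans (Subgroup.centralizer_le_normalizer _)
    obtain ⟨e, he, he1⟩ := exists_ne_one_of_ne_bot (hS.1.ne_bot E hES)
    have hB₂Δ : conjBy B e ∈ Δ := ((hEW he) B hB).1
    have hB₂u : conjBy B e ∈ unipotentSubgroups B E :=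
      unip_conj (rop_A_mem_unip B E) (Subgroup.mem_sup_right he)
    have hB₂ne : B ≠ conjBy B e := fun hcon => he1 (rop_norm_right hBE he hcon.symm)
    exact caseR B hB _ hB₂Δ (rop_pair_of_unip hBE (rop_A_mem_unip B E) hB₂u hB₂ne).1

end Cfsg.Agent.S5040
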