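import Cfsg.Statements.S5049
import Cfsg.Agent.Lib.Helper84.PCore

set_option autoImplicit false
open Cfsg

namespace Cfsg.Agent.S5049

open scoped commutatorElement
open Cfsg.Agent.Lib.Helper84

theorem sq_eq_one {G : Type*} [Group G] {D : Set G} (hD : Cfsg.IsRootInvolutionSet D) {d : G} (hd : d ∈ D) :
    d * d = 1 := by
  have h := pow_orderOf_eq_one d
  rw [hD.orderOf_eq d hd, sq] at h
  exact h

theorem inv_eq_self {G : Type*} [Group G] {D : Set G} (hD : Cfsg.IsRootInvolutionSet D) {d : G} (hd : d ∈ D) :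
    d⁻¹ = d := inv_eq_of_mul_eq_one_left (sq_eq_one hD hd)

/-- two members of `D` whose product squared lies in the 2-core commute -/
theorem lemmaA {G : Type*} [Group G] [Finite G] {D : Set G} (hD : Cfsg.IsOddTranspositionSet D)
    {x y : G} (hx : x ∈ D) (hy : y ∈ D) (h : (x * y) ^ 2 ∈ Cfsg.pCore 2 G) : x * y = y * x := by
  rcases hD.1.pair x hx y hy with h1 | h1 | h1
  · exact h1
  · have hp : IsPGroup 2 (Cfsg.pCore 2 G) := pCore_isPGroup 2 G
    obtain ⟨k, hk⟩ := hp ⟨(x * y) ^ 2, h⟩
    have hk' : ((x * y) ^ 2) ^ (2 ^ k) = 1 := by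
      have := congrArg Subtype.val hk
      simpa using this
    rw [← pow_mul, ← pow_succ'] at hk'
    have hdvd : orderOf (x * y) ∣ 2 ^ (k + 1) := orderOf_dvd_of_pow_eq_one hk'
    have hone : orderOf (x * y) = 1 := by
      have hc : Nat.Coprime (orderOf (x * y)) (2 ^ (k + 1)) :=
        Nat.Coprime.pow_right _ (Nat.coprime_two_right.mpr h1)
      exact Nat.Coprime.eq_one_of_dvd hc hdvd
    rw [orderOf_eq_one_iff] at hone
    have hxy : x = y⁻¹ := eq_inv_of_mul_eq_one_left hone
    rw [hxy]; simp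
  · exact absurd h1.1 (hD.2 x hx y hy)

theorem conj_inv_mem {G : Type*} [Group G] {D : Set G} (hD : Cfsg.IsRootInvolutionSet D)
    {d : G} (hd : d ∈ D) (g : G) : g⁻¹ * d * g ∈ D := by
  have := hD.conj_mem d hd g⁻¹
  simpa using this

theorem part1 {G : Type*} [Group G] [Finite G] {D : Set G} (hD : Cfsg.IsOddTranspositionSet D) {a : G} (ha : a ∈ D)
    {e : G} (he : e ∈ Cfsg.commutingMembers D a) {q : G} (hq : q ∈ Cfsg.pCore 2 G) :
    e * (q * a * q⁻¹) = (q * a * q⁻¹) * e := by
  obtain ⟨heD, hea⟩ := he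
  have hN : (Cfsg.pCore 2 G).Normal := pCore_normal 2 G
  have hx : q⁻¹ * e * q ∈ D := conj_inv_mem hD.1 heD q
  have hsq : ((q⁻¹ * e * q) * a) ^ 2 ∈ Cfsg.pCore 2 G := by
    rw [← QuotientGroup.eq_one_iff]
    have hq1 : ((q : G) : G ⧸ Cfsg.pCore 2 G) = 1 := (QuotientGroup.eq_one_iff q).mpr hq
    have : (((q⁻¹ * e * q * a) ^ 2 : G) : G ⧸ Cfsg.pCore 2 G) = (((e * a) ^ 2 : G) : G ⧸ Cfsg.pCore 2 G) := by
      simp only [QuotientGroup.mk_pow, QuotientGroup.mk_mul, QuotientGroup.mk_inv, hq1, inv_one, one_mul, mul_one]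
    rw [this]
    have h2 : (e * a) ^ 2 = 1 := by
      rw [sq]
      calc e * a * (e * a) = e * (a * e) * a := by group
        _ = e * (e * a) * a := by rw [hea]
        _ = (e * e) * (a * a) := by group
        _ = 1 := by rw [sq_eq_one hD.1 heD, sq_eq_one hD.1 ha, one_mul]
    rw [h2]; rfl
  have hcomm := lemmaA hD hx ha hsq
  calc e * (q * a * q⁻¹) = q * ((q⁻¹ * e * q) * a) * q⁻¹ := by group
    _ = q * (a * (q⁻¹ * e * q)) * q⁻¹ := by rw [hcomm]
    _ = (q * a * q⁻¹) * e := by group

theorem part2 {G : Type*} [Group G] [Finite G] {D : Set G} (hD : Cfsg.IsOddTranspositionSet D) {a : G} (ha : a ∈ D)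
    {b : G} (hb : b ∈ Cfsg.oddPartners D a) {q : G} (hq : q ∈ Cfsg.pCore 2 G)
    (hqr : (a * b) * q = q * (a * b)) : a * q = q * a := by
  obtain ⟨hbD, hba, hodd⟩ := hb
  have hN : (Cfsg.pCore 2 G).Normal := pCore_normal 2 G
  have haa := sq_eq_one hD.1 ha
  have hbb := sq_eq_one hD.1 hbD
  have hainv := inv_eq_self hD.1 ha
  have hbinv := inv_eq_self hD.1 hbD
  set r := a * b with hr
  set a' := q * a * q⁻¹ with ha'
  have ha'D : a' ∈ D := hD.1.conj_mem a ha q
  have ha'a' := sq_eq_one hD.1 ha'D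
  set t := a' * a with ht
  have htQ : t ∈ Cfsg.pCore 2 G := by
    have h1 : a * q⁻¹ * a⁻¹ ∈ Cfsg.pCore 2 G := hN.conj_mem _ (inv_mem hq) a
    have h2 : t = q * (a * q⁻¹ * a⁻¹) := by rw [ht, ha', hainv]; group
    rw [h2]; exact mul_mem hq h1
  have hcomm : a' * a = a * a' := lemmaA hD ha'D ha (pow_mem htQ 2)
  have htt : t * t = 1 := by
    calc t * t = a' * (a * a') * a := by rw [ht]; group
      _ = a' * (a' * a) * a := by rw [hcomm]
      _ = (a' * a') * (a * a) := by group
      _ = 1 := by rw [ha'a', haa, one_mul]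
  have hrinv : r⁻¹ = b * a := by rw [hr, mul_inv_rev, hainv, hbinv]
  have h_ar : a * r = r⁻¹ * a := by
    rw [hrinv, hr]
    calc a * (a * b) = (a * a) * b := by group
      _ = b := by rw [haa, one_mul]
      _ = b * (a * a) := by rw [haa, mul_one]
      _ = b * a * a := by group
  have hqr' : q⁻¹ * r = r * q⁻¹ := by
    calc q⁻¹ * r = q⁻¹ * (r * q) * q⁻¹ := by group
      _ = q⁻¹ * (q * r) * q⁻¹ := by rw [hqr]
      _ = r * q⁻¹ := by group
  have hqrinv : q * r⁻¹ = r⁻¹ * q := by
    calc q * r⁻¹ = r⁻¹ * (r * q) * r⁻¹ := by group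
      _ = r⁻¹ * (q * r) * r⁻¹ := by rw [hqr]
      _ = r⁻¹ * q := by group
  have h_a'r : a' * r = r⁻¹ * a' := by
    calc a' * r = q * a * (q⁻¹ * r) := by rw [ha']; group
      _ = q * a * (r * q⁻¹) := by rw [hqr']
      _ = q * (a * r) * q⁻¹ := by group
      _ = q * (r⁻¹ * a) * q⁻¹ := by rw [h_ar]
      _ = (q * r⁻¹) * a * q⁻¹ := by group
      _ = (r⁻¹ * q) * a * q⁻¹ := by rw [hqrinv]
      _ = r⁻¹ * a' := by rw [ha']; group
  have h_tr : Commute t r := by
    show t * r = r * t
    calc t * r = a' * (a * r) := by rw [ht]; group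
      _ = a' * (r⁻¹ * a) := by rw [h_ar]
      _ = (a' * r⁻¹) * a := by group
      _ = (r * a') * a := by
          have : a' * r⁻¹ = r * a' := by
            calc a' * r⁻¹ = r * (r⁻¹ * a') * r⁻¹ := by group
              _ = r * (a' * r) * r⁻¹ := by rw [h_a'r]
              _ = r * a' := by group
          rw [this]
      _ = r * t := by rw [ht]; group
  have ha'b : a' * b = t * r := by
    rw [ht, hr]
    calc a' * b = a' * ((a * a) * b) := by rw [haa, one_mul]
      _ = a' * a * (a * b) := by group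
  have hrne : r ≠ 1 := by
    intro h1
    apply hba
    have : a * b = 1 := h1
    have h2 : b = a⁻¹ := (eq_inv_of_mul_eq_one_right this)
    rw [h2, hainv]
  obtain ⟨m, hm⟩ := hodd
  have hrm : r ^ (2 * m + 1) = 1 := by rw [← hm]; exact pow_orderOf_eq_one r
  have htpow : ∀ n : ℕ, t ^ (2 * n + 1) = t := by
    intro n
    rw [pow_succ, pow_mul, sq, htt, one_pow, one_mul]
  have ht1 : t = 1 := by
    rcases hD.1.pair a' ha'D b hbD with h1 | h1 | h1
    · exfalso
      apply hrne
      have h2 : (a' * b) * (a' * b) = 1 := by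
        calc a' * b * (a' * b) = a' * (b * a') * b := by group
          _ = a' * (a' * b) * b := by rw [h1]
          _ = (a' * a') * (b * b) := by group
          _ = 1 := by rw [ha'a', hbb, one_mul]
      rw [ha'b] at h2
      have h3 : r * r = 1 := by
        calc r * r = (t * t) * (r * r) := by rw [htt, one_mul]
          _ = t * (t * r) * r := by group
          _ = t * (r * t) * r := by rw [h_tr.eq]
          _ = (t * r) * (t * r) := by group
          _ = 1 := h2
      have h4 : r ^ (2 * m + 1) = r := by rw [pow_succ, pow_mul, sq, h3, one_pow, one_mul]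
      rw [h4] at hrm
      exact hrm
    · obtain ⟨n, hn⟩ := h1
      have h2 : (t * r) ^ (2 * n + 1) = 1 := by
        rw [← ha'b, ← hn]; exact pow_orderOf_eq_one _
      rw [h_tr.mul_pow, htpow] at h2
      have h3 : t = (r ^ (2 * n + 1))⁻¹ := eq_inv_of_mul_eq_one_left h2
      have h4 : (r ^ (2 * n + 1)) ^ 2 = 1 := by
        have : t⁻¹ = r ^ (2 * n + 1) := by rw [h3, inv_inv]
        rw [← this, sq, ← mul_inv_rev, htt, inv_one]
      have h5 : orderOf r ∣ (2 * n + 1) * 2 := by
        apply orderOf_dvd_of_pow_eq_one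
        rw [pow_mul]; exact h4
      have h6 : orderOf r ∣ 2 * n + 1 := by
        have hc : Nat.Coprime (orderOf r) 2 := by
          rw [hm]; exact Nat.coprime_two_right.mpr ⟨m, rfl⟩
        exact hc.dvd_of_dvd_mul_right h5
      have h7 : r ^ (2 * n + 1) = 1 := orderOf_dvd_iff_pow_eq_one.mp h6
      rw [h3, h7, inv_one]
    · exact absurd h1.1 (hD.2 a' ha'D b hbD)
  have h8 : q * a * q⁻¹ * a = 1 := ht1
  have h9 : q * a * q⁻¹ = a := by
    have := eq_inv_of_mul_eq_one_left h8
    rw [hainv] at this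
    exact this
  calc a * q = (q * a * q⁻¹) * q := by rw [h9]
    _ = q * a := by group

/-- Let G be a finite group generated by a set D of odd transpositions (root involutions with no product of order 4), Q = O₂(G), and for a ∈ D let Q_a be the commutator subgroup of Q with a. Then every member of D commuting with a centralizes Q_a; and for b ∈ D with ab of odd order greater than 1, the centralizer of ab in Q is the intersection of the centralizers of a and b in Q. -/
theorem result {G : Type*} [Group G] [Finite G] {D : Set G} (hD : Cfsg.IsOddTranspositionSet D) {a : G} (ha : a ∈ D) :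
    (∀ e ∈ Cfsg.commutingMembers D a, ∀ q ∈ ⁅Cfsg.pCore 2 G, Subgroup.zpowers a⁆, e * q = q * e) ∧
    (∀ b ∈ Cfsg.oddPartners D a,
      Cfsg.pCore 2 G ⊓ Subgroup.centralizer {a * b} = Cfsg.pCore 2 G ⊓ Subgroup.centralizer {a} ⊓ Subgroup.centralizer {b}) := by
  have haa := sq_eq_one hD.1 ha
  have hainv := inv_eq_self hD.1 ha
  constructor
  · intro e he q hq
    have hle : ⁅Cfsg.pCore 2 G, Subgroup.zpowers a⁆ ≤ Subgroup.centralizer {e} := by
      rw [Subgroup.commutator_le]
      intro g1 hg1 g2 hg2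
      rw [Subgroup.mem_centralizer_iff]
      intro h hh
      rw [Set.mem_singleton_iff] at hh
      subst hh
      obtain ⟨n, hn⟩ := Subgroup.mem_zpowers_iff.mp hg2
      subst hn
      have hzp : a ^ n = 1 ∨ a ^ n = a := by
        rcases Int.even_or_odd' n with ⟨k, hk | hk⟩
        · left
          rw [hk, zpow_mul, zpow_ofNat, sq, haa, one_zpow]
        · right
          rw [hk, zpow_add, zpow_mul, zpow_ofNat, sq, haa, one_zpow, one_mul, zpow_one]
      rcases hzp with h1 | h1
      · rw [h1]; simp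
      · rw [h1, commutatorElement_def]
        have hc := part1 hD ha he hg1
        have hea : h * a⁻¹ = a⁻¹ * h := by rw [hainv]; exact he.2
        calc h * (g1 * a * g1⁻¹ * a⁻¹) = (h * (g1 * a * g1⁻¹)) * a⁻¹ := by group
          _ = ((g1 * a * g1⁻¹) * h) * a⁻¹ := by rw [hc]
          _ = (g1 * a * g1⁻¹) * (h * a⁻¹) := by group
          _ = (g1 * a * g1⁻¹) * (a⁻¹ * h) := by rw [hea]
          _ = g1 * a * g1⁻¹ * a⁻¹ * h := by group
    have := hle hq
    rw [Subgroup.mem_centralizer_iff] at this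
    exact this e rfl
  · intro b hb
    have hbD := hb.1
    ext q
    simp only [Subgroup.mem_inf, Subgroup.mem_centralizer_iff, Set.mem_singleton_iff, forall_eq]
    constructor
    · rintro ⟨hq, hqr⟩
      have h1 := part2 hD ha hb hq hqr
      refine ⟨⟨hq, h1⟩, ?_⟩
      have hb' : b = a * (a * b) := by
        calc b = (a * a) * b := by rw [haa, one_mul]
          _ = a * (a * b) := by group
      calc b * q = a * ((a * b) * q) := by rw [mul_assoc]; nth_rewrite 1 [hb']; group
        _ = a * (q * (a * b)) := by rw [hqr]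
        _ = (a * q) * (a * b) := by group
        _ = (q * a) * (a * b) := by rw [h1]
        _ = q * (a * (a * b)) := by group
        _ = q * b := by rw [← hb']
    · rintro ⟨⟨hq, h1⟩, h2⟩
      refine ⟨hq, ?_⟩
      calc a * b * q = a * (b * q) := by group
        _ = a * (q * b) := by rw [h2]
        _ = (a * q) * b := by group
        _ = (q * a) * b := by rw [h1]
        _ = q * (a * b) := by group

end Cfsg.Agent.S5049
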