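import Cfsg.Statements.S5057

set_option autoImplicit false
open Cfsg

namespace Cfsg.Agent.S5057

open Equiv

theorem a6_orders : ∀ σ : Perm (Fin 6), Perm.sign σ = 1 →
    (σ = 1 ∨ σ ^ 2 = 1 ∨ σ ^ 3 = 1 ∨ σ ^ 4 = 1 ∨ σ ^ 5 = 1) := by
  decide +kernel

theorem a6_conj : ∀ σ : Perm (Fin 6), Perm.sign σ = 1 → σ ≠ 1 → σ ^ 2 = 1 →
    ∃ g : Perm (Fin 6), Perm.sign g = 1 ∧ g * (swap 0 1 * swap 2 3) * g⁻¹ = σ := by
  decide +kernel

theorem orderOf_le (g : alternatingGroup (Fin 6)) : orderOf g = 1 ∨ orderOf g = 2 ∨ orderOf g = 3 ∨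
    orderOf g = 4 ∨ orderOf g = 5 := by
  obtain ⟨σ, hσ⟩ := g
  have hs : Perm.sign σ = 1 := Perm.mem_alternatingGroup.mp hσ
  rw [Subgroup.orderOf_mk]
  have hpos : 0 < orderOf σ := orderOf_pos σ
  have key : ∀ k : ℕ, k ≤ 5 → 0 < k → σ ^ k = 1 → orderOf σ ≤ 5 := by
    intro k hk hk0 h
    exact le_trans (Nat.le_of_dvd hk0 (orderOf_dvd_of_pow_eq_one h)) hk
  have hle : orderOf σ ≤ 5 := by
    rcases a6_orders σ hs with h | h | h | h | h
    · exact key 1 (by norm_num) (by norm_num) (by rw [pow_one]; exact h)
    · exact key 2 (by norm_num) (by norm_num) h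
    · exact key 3 (by norm_num) (by norm_num) h
    · exact key 4 (by norm_num) (by norm_num) h
    · exact key 5 (by norm_num) (by norm_num) h
  omega

abbrev D : Set (alternatingGroup (Fin 6)) := {g | orderOf g = 2}

theorem sq_one {d : alternatingGroup (Fin 6)} (hd : d ∈ D) : d * d = 1 := by
  have h := pow_orderOf_eq_one d
  rw [show orderOf d = 2 from hd, sq] at h
  exact h

theorem conj_mem_D {d : alternatingGroup (Fin 6)} (hd : d ∈ D) (g : alternatingGroup (Fin 6)) :
    g * d * g⁻¹ ∈ D := by
  show orderOf (g * d * g⁻¹) = 2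
  have : g * d * g⁻¹ = MulAut.conj g d := rfl
  rw [this, MulEquiv.orderOf_eq]
  exact hd

def c0 : alternatingGroup (Fin 6) := ⟨swap 0 1 * swap 2 3, Perm.mem_alternatingGroup.mpr (by decide)⟩

theorem c0_mem : c0 ∈ D := by
  show orderOf c0 = 2
  have : Fact (Nat.Prime 2) := ⟨Nat.prime_two⟩
  apply orderOf_eq_prime
  · apply Subtype.ext
    show (swap (0 : Fin 6) 1 * swap 2 3) ^ 2 = 1
    decide
  · intro h
    have := congrArg Subtype.val h
    revert this
    show ¬ (swap (0 : Fin 6) 1 * swap 2 3 = 1)
    decide

theorem conj_c0 {a : alternatingGroup (Fin 6)} (ha : a ∈ D) : ∃ g : alternatingGroup (Fin 6), a = g * c0 * g⁻¹ := by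
  obtain ⟨σ, hσ⟩ := a
  have hs : Perm.sign σ = 1 := Perm.mem_alternatingGroup.mp hσ
  have ha2 : orderOf σ = 2 := by
    have : orderOf (⟨σ, hσ⟩ : alternatingGroup (Fin 6)) = 2 := ha
    rwa [Subgroup.orderOf_mk] at this
  have h1 : σ ≠ 1 := by
    intro h
    rw [h, orderOf_one] at ha2
    norm_num at ha2
  have h2 : σ ^ 2 = 1 := by rw [← ha2]; exact pow_orderOf_eq_one σ
  obtain ⟨g, hg, hgσ⟩ := a6_conj σ hs h1 h2
  refine ⟨⟨g, Perm.mem_alternatingGroup.mpr hg⟩, ?_⟩
  apply Subtype.ext
  exact hgσ.symm

theorem isRootInvolutionSet : Cfsg.IsRootInvolutionSet D where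
  orderOf_eq := fun d hd => hd
  generates := by
    have hsimple : IsSimpleGroup (alternatingGroup (Fin 6)) := alternatingGroup.isSimpleGroup (by simp)
    have hnormal : (Subgroup.closure D).Normal := by
      have : Subgroup.closure D = Subgroup.normalClosure D := by
        unfold Subgroup.normalClosure
        congr 1
        apply Set.Subset.antisymm
        · exact Group.subset_conjugatesOfSet
        · intro x hx
          rw [Group.mem_conjugatesOfSet_iff] at hx
          obtain ⟨b, hb, hbx⟩ := hx
          rw [isConj_iff] at hbx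
          obtain ⟨c, rfl⟩ := hbx
          exact conj_mem_D hb c
      rw [this]
      exact Subgroup.normalClosure_normal
    rcases hnormal.eq_bot_or_eq_top with h | h
    · exfalso
      have h1 : c0 ∈ Subgroup.closure D := Subgroup.subset_closure c0_mem
      rw [h, Subgroup.mem_bot] at h1
      have h2 : orderOf c0 = 2 := c0_mem
      rw [h1, orderOf_one] at h2
      norm_num at h2
    · exact h
  conj_mem := fun d hd g => conj_mem_D hd g
  pair := by
    intro a ha b hb
    have haa := sq_one ha
    have hbb := sq_one hb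
    have hcomm : (a * b) ^ 2 = 1 → a * b = b * a := by
      intro h
      rw [sq] at h
      calc a * b = a * b * (a * b * (b * a)) := by
              have : a * b * (b * a) = 1 := by
                calc a * b * (b * a) = a * (b * b) * a := by group
                  _ = 1 := by rw [hbb, mul_one, haa]
              rw [this, mul_one]
        _ = (a * b * (a * b)) * (b * a) := by group
        _ = b * a := by rw [h, one_mul]
    rcases orderOf_le (a * b) with h | h | h | h | h
    · left
      apply hcomm
      rw [← orderOf_dvd_iff_pow_eq_one, h]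
      norm_num
    · left
      apply hcomm
      rw [← orderOf_dvd_iff_pow_eq_one, h]
    · right; left
      rw [h]; decide
    · right; right
      refine ⟨h, ?_⟩
      show orderOf ((a * b) ^ 2) = 2
      rw [orderOf_pow, h]
      rfl
    · right; left
      rw [h]; decide

/-- The involutions of the alternating group of degree 6 form a class of root involutions (a single conjugacy class of involutions generating the group, any two of which commute, have product of odd order, or have product of order 4 whose square is again an involution of the class), and the product of any two of them has order at most 5. -/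
theorem result :
    Cfsg.IsRootInvolutionClass {g : ↥(alternatingGroup (Fin 6)) | orderOf g = 2} ∧
    ∀ d ∈ {g : ↥(alternatingGroup (Fin 6)) | orderOf g = 2}, ∀ e ∈ {g : ↥(alternatingGroup (Fin 6)) | orderOf g = 2},
      orderOf (d * e) ≤ 5 := by
  refine ⟨⟨isRootInvolutionSet, ⟨c0, c0_mem⟩, ?_⟩, ?_⟩
  · intro a ha b hb
    obtain ⟨g1, rfl⟩ := conj_c0 ha
    obtain ⟨g2, rfl⟩ := conj_c0 hb
    refine ⟨g2 * g1⁻¹, ?_⟩
    group
  · intro d _ e _
    rcases orderOf_le (d * e) with h | h | h | h | h <;> rw [h] <;> norm_num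

end Cfsg.Agent.S5057
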