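import Cfsg.Statements.S5059

set_option autoImplicit false
open Cfsg

namespace Cfsg.Agent.S5059

universe u

variable {k : Type u} [Field k] {M : Type u} [AddCommGroup M] [Module k M]

/-- the deviation `τ - 1` of a linear automorphism -/
abbrev dev (τ : LinearMap.GeneralLinearGroup k M) : M →ₗ[k] M := (τ : M →ₗ[k] M) - 1

theorem dev_mul (τ1 τ2 : LinearMap.GeneralLinearGroup k M) :
    dev (τ1 * τ2) = dev τ1 + dev τ2 + dev τ1 * dev τ2 := by
  unfold dev
  rw [Units.val_mul]
  noncomm_ring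

theorem dev_one : dev (1 : LinearMap.GeneralLinearGroup k M) = 0 := by
  unfold dev
  rw [Units.val_one, sub_self]

theorem val_eq (τ : LinearMap.GeneralLinearGroup k M) : (τ : M →ₗ[k] M) = 1 + dev τ := by
  unfold dev; abel

theorem mul_eq_zero_of_le {a b : M →ₗ[k] M} (h : LinearMap.range b ≤ LinearMap.ker a) : a * b = 0 := by
  ext m
  rw [Module.End.mul_apply]
  exact LinearMap.mem_ker.mp (h (LinearMap.mem_range_self b m))

/-- the unit `1 + a` for `a * a = 0` -/
def unipUnit (a : M →ₗ[k] M) (ha : a * a = 0) : LinearMap.GeneralLinearGroup k M where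
  val := 1 + a
  inv := 1 - a
  val_inv := by
    calc (1 + a) * (1 - a) = 1 - a * a := by noncomm_ring
      _ = 1 := by rw [ha, sub_zero]
  inv_val := by
    calc (1 - a) * (1 + a) = 1 - a * a := by noncomm_ring
      _ = 1 := by rw [ha, sub_zero]

theorem smul_sq_zero {a : M →ₗ[k] M} (ha : a * a = 0) (c : k) : (c • a) * (c • a) = 0 := by
  rw [smul_mul_assoc, mul_smul_comm, ha, smul_zero, smul_zero]

theorem mem_sameActionClass_of [FiniteDimensional k M] {G : Subgroup (LinearMap.GeneralLinearGroup k M)}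
    {σ : LinearMap.GeneralLinearGroup k M} (hσ : σ ∈ Cfsg.minimalQuadraticElements G)
    {τ : LinearMap.GeneralLinearGroup k M} (hτG : τ ∈ G) (hne : dev τ ≠ 0)
    (hR : LinearMap.range (dev τ) ≤ LinearMap.range (dev σ))
    (hC : LinearMap.ker (dev σ) ≤ LinearMap.ker (dev τ))
    (hsc : ∀ c : k, ∃ ρ ∈ G, (ρ : M →ₗ[k] M) = 1 + c • dev τ) :
    τ ∈ Cfsg.sameActionClass G σ := by
  obtain ⟨hσq, hσmin⟩ := hσ
  have hσsq : dev σ * dev σ = 0 := hσq.2.1.1
  have hRC : LinearMap.range (dev σ) ≤ LinearMap.ker (dev σ) := by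
    rintro _ ⟨m, rfl⟩
    rw [LinearMap.mem_ker, ← Module.End.mul_apply, hσsq]
    rfl
  have hτsq : dev τ * dev τ = 0 := mul_eq_zero_of_le (le_trans hR (le_trans hRC hC))
  have hτq : τ ∈ Cfsg.quadraticElements G := by
    refine ⟨hτG, ⟨hτsq, hne⟩, ?_⟩
    rintro ρ' ⟨c, hc⟩
    obtain ⟨ρ, hρG, hρ⟩ := hsc c
    have : ρ' = ρ := Units.ext (hc.trans hρ.symm)
    rw [this]; exact hρG
  have hrk1 : Cfsg.commutatorRank τ ≤ Cfsg.commutatorRank σ := Submodule.finrank_mono hR
  have hrk2 : Cfsg.commutatorRank σ ≤ Cfsg.commutatorRank τ := hσmin τ hτq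
  have hrk : Module.finrank k (LinearMap.range (dev τ)) = Module.finrank k (LinearMap.range (dev σ)) :=
    le_antisymm hrk1 hrk2
  have hRange : LinearMap.range (dev τ) = LinearMap.range (dev σ) :=
    Submodule.eq_of_le_of_finrank_eq hR hrk
  have hker : LinearMap.ker (dev σ) = LinearMap.ker (dev τ) := by
    apply Submodule.eq_of_le_of_finrank_eq hC
    have h1 := LinearMap.finrank_range_add_finrank_ker (dev σ)
    have h2 := LinearMap.finrank_range_add_finrank_ker (dev τ)
    omega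
  refine ⟨⟨hτq, ?_⟩, hker.symm, hRange⟩
  intro τ' hτ'
  exact le_trans hrk1 (hσmin τ' hτ')

/-- the "good" set: members of the class together with the identity -/
theorem good_props {G : Subgroup (LinearMap.GeneralLinearGroup k M)}
    {σ : LinearMap.GeneralLinearGroup k M} (_hσ : σ ∈ Cfsg.minimalQuadraticElements G)
    {τ : LinearMap.GeneralLinearGroup k M} (hτ : τ ∈ Cfsg.sameActionClass G σ ∪ {1}) :
    τ ∈ G ∧ LinearMap.range (dev τ) ≤ LinearMap.range (dev σ) ∧
      LinearMap.ker (dev σ) ≤ LinearMap.ker (dev τ) ∧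
      ∀ c : k, ∃ ρ ∈ G, (ρ : M →ₗ[k] M) = 1 + c • dev τ := by
  rcases hτ with hτ | hτ
  · obtain ⟨⟨hτq, -⟩, hk, hr⟩ := hτ
    refine ⟨hτq.1, le_of_eq hr, le_of_eq hk.symm, ?_⟩
    intro c
    have hsq : dev τ * dev τ = 0 := hτq.2.1.1
    refine ⟨unipUnit (c • dev τ) (smul_sq_zero hsq c), ?_, rfl⟩
    apply hτq.2.2
    exact ⟨c, rfl⟩
  · rw [Set.mem_singleton_iff] at hτ
    subst hτ
    refine ⟨G.one_mem, ?_, ?_, ?_⟩
    · rw [dev_one, LinearMap.range_zero]; exact bot_le
    · rw [dev_one, LinearMap.ker_zero]; exact le_top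
    · intro c
      exact ⟨1, G.one_mem, by rw [dev_one, smul_zero, add_zero, Units.val_one]⟩

theorem range_le_ker {G : Subgroup (LinearMap.GeneralLinearGroup k M)}
    {σ : LinearMap.GeneralLinearGroup k M} (hσ : σ ∈ Cfsg.minimalQuadraticElements G) :
    LinearMap.range (dev σ) ≤ LinearMap.ker (dev σ) := by
  have hσsq : dev σ * dev σ = 0 := hσ.1.2.1.1
  rintro _ ⟨m, rfl⟩
  rw [LinearMap.mem_ker, ← Module.End.mul_apply, hσsq]
  rfl

theorem dev_mul_good {G : Subgroup (LinearMap.GeneralLinearGroup k M)}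
    {σ : LinearMap.GeneralLinearGroup k M} (hσ : σ ∈ Cfsg.minimalQuadraticElements G)
    {τ1 τ2 : LinearMap.GeneralLinearGroup k M} (h1 : τ1 ∈ Cfsg.sameActionClass G σ ∪ {1})
    (h2 : τ2 ∈ Cfsg.sameActionClass G σ ∪ {1}) : dev τ1 * dev τ2 = 0 := by
  obtain ⟨-, -, hC1, -⟩ := good_props hσ h1
  obtain ⟨-, hR2, -, -⟩ := good_props hσ h2
  exact mul_eq_zero_of_le (le_trans hR2 (le_trans (range_le_ker hσ) hC1))

theorem mul_good [FiniteDimensional k M] {G : Subgroup (LinearMap.GeneralLinearGroup k M)}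
    {σ : LinearMap.GeneralLinearGroup k M} (hσ : σ ∈ Cfsg.minimalQuadraticElements G)
    {τ1 τ2 : LinearMap.GeneralLinearGroup k M} (h1 : τ1 ∈ Cfsg.sameActionClass G σ ∪ {1})
    (h2 : τ2 ∈ Cfsg.sameActionClass G σ ∪ {1}) : τ1 * τ2 ∈ Cfsg.sameActionClass G σ ∪ {1} := by
  have hdev : dev (τ1 * τ2) = dev τ1 + dev τ2 := by
    rw [dev_mul, dev_mul_good hσ h1 h2, add_zero]
  obtain ⟨hG1, hR1, hC1, hsc1⟩ := good_props hσ h1
  obtain ⟨hG2, hR2, hC2, hsc2⟩ := good_props hσ h2
  by_cases hz : dev (τ1 * τ2) = 0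
  · right
    rw [Set.mem_singleton_iff]
    apply Units.ext
    rw [val_eq (τ1 * τ2), hz, add_zero, Units.val_one]
  · left
    apply mem_sameActionClass_of hσ (G.mul_mem hG1 hG2) hz
    · rw [hdev]
      rintro _ ⟨m, rfl⟩
      rw [LinearMap.add_apply]
      exact Submodule.add_mem _ (hR1 (LinearMap.mem_range_self _ m)) (hR2 (LinearMap.mem_range_self _ m))
    · rw [hdev]
      intro m hm
      rw [LinearMap.mem_ker, LinearMap.add_apply, LinearMap.mem_ker.mp (hC1 hm),
        LinearMap.mem_ker.mp (hC2 hm), add_zero]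
    · intro c
      obtain ⟨ρ1, hρ1G, hρ1⟩ := hsc1 c
      obtain ⟨ρ2, hρ2G, hρ2⟩ := hsc2 c
      refine ⟨ρ1 * ρ2, G.mul_mem hρ1G hρ2G, ?_⟩
      rw [Units.val_mul, hρ1, hρ2, hdev]
      have hz' : (c • dev τ1) * (c • dev τ2) = 0 := by
        rw [smul_mul_assoc, mul_smul_comm, dev_mul_good hσ h1 h2, smul_zero, smul_zero]
      have expand : ∀ x y : M →ₗ[k] M, (1 + x) * (1 + y) = 1 + x + y + x * y := by
        intro x y; noncomm_ring
      rw [expand, hz', add_zero, smul_add, add_assoc]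

theorem dev_inv_good {G : Subgroup (LinearMap.GeneralLinearGroup k M)}
    {σ : LinearMap.GeneralLinearGroup k M} (hσ : σ ∈ Cfsg.minimalQuadraticElements G)
    {τ : LinearMap.GeneralLinearGroup k M} (h : τ ∈ Cfsg.sameActionClass G σ ∪ {1}) :
    dev τ⁻¹ = - dev τ := by
  have hsq : dev τ * dev τ = 0 := dev_mul_good hσ h h
  have h1 : ((τ⁻¹ : LinearMap.GeneralLinearGroup k M) : M →ₗ[k] M) = 1 - dev τ := by
    have h2 : (τ : M →ₗ[k] M) * (1 - dev τ) = 1 := by
      rw [val_eq τ]
      calc (1 + dev τ) * (1 - dev τ) = 1 - dev τ * dev τ := by noncomm_ring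
        _ = 1 := by rw [hsq, sub_zero]
    have h3 : ((τ⁻¹ : LinearMap.GeneralLinearGroup k M) : M →ₗ[k] M) * (τ : M →ₗ[k] M) = 1 := by
      rw [← Units.val_mul, inv_mul_cancel, Units.val_one]
    calc ((τ⁻¹ : LinearMap.GeneralLinearGroup k M) : M →ₗ[k] M)
        = ((τ⁻¹ : LinearMap.GeneralLinearGroup k M) : M →ₗ[k] M) * ((τ : M →ₗ[k] M) * (1 - dev τ)) := by
          rw [h2, mul_one]
      _ = 1 - dev τ := by rw [← mul_assoc, h3, one_mul]
  show ((τ⁻¹ : LinearMap.GeneralLinearGroup k M) : M →ₗ[k] M) - 1 = - dev τ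
  rw [h1]; abel

theorem inv_good [FiniteDimensional k M] {G : Subgroup (LinearMap.GeneralLinearGroup k M)}
    {σ : LinearMap.GeneralLinearGroup k M} (hσ : σ ∈ Cfsg.minimalQuadraticElements G)
    {τ : LinearMap.GeneralLinearGroup k M} (h : τ ∈ Cfsg.sameActionClass G σ ∪ {1}) :
    τ⁻¹ ∈ Cfsg.sameActionClass G σ ∪ {1} := by
  have hdev := dev_inv_good hσ h
  obtain ⟨hG, hR, hC, hsc⟩ := good_props hσ h
  by_cases hz : dev τ = 0
  · right
    rw [Set.mem_singleton_iff, inv_eq_one]
    apply Units.ext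
    rw [val_eq τ, hz, add_zero, Units.val_one]
  · left
    apply mem_sameActionClass_of hσ (G.inv_mem hG)
    · rw [hdev]; exact neg_ne_zero.mpr hz
    · rw [hdev, LinearMap.range_neg]; exact hR
    · rw [hdev, LinearMap.ker_neg]; exact hC
    · intro c
      obtain ⟨ρ, hρG, hρ⟩ := hsc (-c)
      refine ⟨ρ, hρG, ?_⟩
      rw [hρ, hdev, neg_smul, smul_neg]

/-- the subgroup whose carrier is the class together with `1` -/
def goodSubgroup [FiniteDimensional k M] {G : Subgroup (LinearMap.GeneralLinearGroup k M)}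
    {σ : LinearMap.GeneralLinearGroup k M} (hσ : σ ∈ Cfsg.minimalQuadraticElements G) :
    Subgroup (LinearMap.GeneralLinearGroup k M) where
  carrier := Cfsg.sameActionClass G σ ∪ {1}
  mul_mem' := fun h1 h2 => mul_good hσ h1 h2
  one_mem' := Or.inr rfl
  inv_mem' := fun h => inv_good hσ h

theorem closure_eq [FiniteDimensional k M] {G : Subgroup (LinearMap.GeneralLinearGroup k M)}
    {σ : LinearMap.GeneralLinearGroup k M} (hσ : σ ∈ Cfsg.minimalQuadraticElements G) :
    Cfsg.sameActionSubgroup G σ = goodSubgroup hσ := by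
  apply le_antisymm
  · unfold Cfsg.sameActionSubgroup
    rw [Subgroup.closure_le]
    intro x hx
    exact Or.inl hx
  · intro x hx
    rcases hx with hx | hx
    · exact Subgroup.subset_closure hx
    · rw [Set.mem_singleton_iff] at hx
      rw [hx]
      exact Subgroup.one_mem _

theorem dev_pow_good [FiniteDimensional k M] {G : Subgroup (LinearMap.GeneralLinearGroup k M)}
    {σ : LinearMap.GeneralLinearGroup k M} (hσ : σ ∈ Cfsg.minimalQuadraticElements G)
    {τ : LinearMap.GeneralLinearGroup k M} (h : τ ∈ Cfsg.sameActionClass G σ ∪ {1}) (n : ℕ) :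
    τ ^ n ∈ Cfsg.sameActionClass G σ ∪ {1} ∧ dev (τ ^ n) = (n : k) • dev τ := by
  induction n with
  | zero =>
    refine ⟨Or.inr (by rw [pow_zero]; rfl), ?_⟩
    rw [pow_zero, dev_one, Nat.cast_zero, zero_smul]
  | succ n ih =>
    obtain ⟨ih1, ih2⟩ := ih
    refine ⟨by rw [pow_succ]; exact mul_good hσ ih1 h, ?_⟩
    rw [pow_succ, dev_mul, dev_mul_good hσ ih1 h, add_zero, ih2, Nat.cast_succ, add_smul, one_smul]

/-- Let k be a field of characteristic not 2 with k not of order 3, M a finite-dimensional k-vector space and G ≤ GL(M) such that (G, M) is a quadratic pair (M irreducible for G, and G generated by its quadratically acting elements σ whose scalar family 1 + c(σ − 1), c ∈ k, lies in G). Write 𝒬_d for the quadratic elements of G of minimal commutator rank, E(σ) for the subgroup generated by the members of 𝒬_d with the same fixed space and commutator space as σ, and Σ for the set of these subgroups. Then for σ ∈ 𝒬_d the subgroup E(σ) consists exactly of those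 members together with the identity, it is abelian, and if k has prime characteristic p every element of E(σ) has order dividing p. -/
theorem result {k : Type u} [Field k] (hk2 : ringChar k ≠ 2) (hk3 : Nat.card k ≠ 3)
    {M : Type u} [AddCommGroup M] [Module k M] [FiniteDimensional k M]
    {G : Subgroup (LinearMap.GeneralLinearGroup k M)} (hG : Cfsg.IsQuadraticPair G)
    {σ : LinearMap.GeneralLinearGroup k M} (hσ : σ ∈ Cfsg.minimalQuadraticElements G) :
    (Cfsg.sameActionSubgroup G σ : Set (LinearMap.GeneralLinearGroup k M)) = Cfsg.sameActionClass G σ ∪ {1} ∧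
    IsMulCommutative ↥(Cfsg.sameActionSubgroup G σ) ∧
    (∀ p : ℕ, p.Prime → ringChar k = p → ∀ x ∈ Cfsg.sameActionSubgroup G σ, x ^ p = 1) := by
  have hcl := closure_eq hσ
  refine ⟨?_, ?_, ?_⟩
  · rw [hcl]; rfl
  · constructor
    constructor
    rintro ⟨x, hx⟩ ⟨y, hy⟩
    apply Subtype.ext
    show x * y = y * x
    rw [hcl] at hx hy
    apply Units.ext
    rw [val_eq (x * y), val_eq (y * x), dev_mul, dev_mul, dev_mul_good hσ hx hy, dev_mul_good hσ hy hx,
      add_comm (dev x) (dev y)]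
  · intro p hp hchar x hx
    rw [hcl] at hx
    obtain ⟨-, h2⟩ := dev_pow_good hσ hx p
    apply Units.ext
    rw [val_eq (x ^ p), h2, Units.val_one]
    have : ((p : ℕ) : k) = 0 := by
      rw [← hchar]; exact ringChar.Nat.cast_ringChar
    rw [this, zero_smul, add_zero]

end Cfsg.Agent.S5059
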