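import Cfsg.Statements.S5067

set_option autoImplicit false
open Cfsg

namespace Cfsg.Agent.S5067

open scoped commutatorElement

theorem comm_le {P : Type*} [Group P] (E : Subgroup P) (hE : IsMulCommutative ↥E) :
    ⁅E ⊔ ⁅(⊤ : Subgroup P), (⊤ : Subgroup P)⁆, E ⊔ ⁅(⊤ : Subgroup P), (⊤ : Subgroup P)⁆⁆ ≤
      ⁅⁅(⊤ : Subgroup P), (⊤ : Subgroup P)⁆, (⊤ : Subgroup P)⁆ := by
  set L1 : Subgroup P := ⁅(⊤ : Subgroup P), (⊤ : Subgroup P)⁆ with hL1
  set L2 : Subgroup P := ⁅L1, (⊤ : Subgroup P)⁆ with hL2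
  have hcen : ∀ l ∈ L1, ∀ g : P, (QuotientGroup.mk' L2) l * (QuotientGroup.mk' L2) g =
      (QuotientGroup.mk' L2) g * (QuotientGroup.mk' L2) l := by
    intro l hl g
    have h1 : ⁅l, g⁆ ∈ L2 := Subgroup.commutator_mem_commutator hl (Subgroup.mem_top g)
    have h2 : (QuotientGroup.mk' L2) ⁅l, g⁆ = 1 := by
      rw [← MonoidHom.mem_ker, QuotientGroup.ker_mk']
      exact h1
    rw [commutatorElement_def, map_mul, map_mul, map_mul, map_inv, map_inv] at h2
    have h3 := mul_inv_eq_one.mp h2
    have h4 := mul_inv_eq_iff_eq_mul.mp h3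
    exact h4
  rw [Subgroup.commutator_le]
  intro g1 hg1 g2 hg2
  rw [← SetLike.mem_coe, Subgroup.mul_normal] at hg1 hg2
  obtain ⟨e1, he1, l1, hl1, rfl⟩ := hg1
  obtain ⟨e2, he2, l2, hl2, rfl⟩ := hg2
  have hee : e1 * e2 = e2 * e1 := by
    have := hE.is_comm.comm ⟨e1, he1⟩ ⟨e2, he2⟩
    exact congrArg Subtype.val this
  rw [← QuotientGroup.ker_mk' L2, MonoidHom.mem_ker, commutatorElement_def]
  simp only [map_mul, map_inv]
  set π := QuotientGroup.mk' L2
  have c1 := hcen l1 hl1
  have c2 := hcen l2 hl2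
  have hee' : π e1 * π e2 = π e2 * π e1 := by rw [← map_mul, hee, map_mul]
  have a1 : π l1 * π e2 = π e2 * π l1 := c1 e2
  have a2 : π l1 * π l2 = π l2 * π l1 := c1 l2
  have a3 : π l2 * π e1 = π e1 * π l2 := c2 e1
  rw [mul_inv_eq_one, mul_inv_eq_iff_eq_mul]
  calc π e1 * π l1 * (π e2 * π l2) = π e1 * (π l1 * π e2) * π l2 := by group
    _ = π e1 * (π e2 * π l1) * π l2 := by rw [a1]
    _ = (π e1 * π e2) * (π l1 * π l2) := by group
    _ = (π e2 * π e1) * (π l2 * π l1) := by rw [hee', a2]
    _ = π e2 * (π e1 * π l2) * π l1 := by group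
    _ = π e2 * (π l2 * π e1) * π l1 := by rw [a3]
    _ = π e2 * π l2 * (π e1 * π l1) := by group

theorem normalClosure_le {P : Type*} [Group P] (E : Subgroup P) :
    Subgroup.normalClosure (E : Set P) ≤ E ⊔ ⁅(⊤ : Subgroup P), (⊤ : Subgroup P)⁆ := by
  have hn : (E ⊔ ⁅(⊤ : Subgroup P), (⊤ : Subgroup P)⁆).Normal := by
    constructor
    intro n hn g
    have h1 : ⁅g, n⁆ ∈ ⁅(⊤ : Subgroup P), (⊤ : Subgroup P)⁆ :=
      Subgroup.commutator_mem_commutator (Subgroup.mem_top g) (Subgroup.mem_top n)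
    have h2 : g * n * g⁻¹ = ⁅g, n⁆ * n := by rw [commutatorElement_def]; group
    rw [h2]
    exact Subgroup.mul_mem _ (Subgroup.mem_sup_right h1) hn
  exact Subgroup.normalClosure_le_normal (SetLike.coe_subset_coe.mpr le_sup_left)

theorem lcs_le {P : Type*} [Group P] (E : Subgroup P) (hE : IsMulCommutative ↥E) (i : ℕ) :
    (Subgroup.normalClosure (E : Set P)).lowerCentralSeries (i + 1) ≤
      (⊤ : Subgroup P).lowerCentralSeries (i + 2) := by
  induction i with
  | zero =>
    simp only [zero_add, Subgroup.lowerCentralSeries_succ, Subgroup.lowerCentralSeries_zero]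
    exact le_trans (Subgroup.commutator_mono (normalClosure_le E) (normalClosure_le E)) (comm_le E hE)
  | succ n ih =>
    rw [Subgroup.lowerCentralSeries_succ, Subgroup.lowerCentralSeries_succ (⊤ : Subgroup P) (n + 2)]
    exact Subgroup.commutator_mono ih le_top

theorem half {P : Type*} [Group P] [Group.IsNilpotent P]
    (hna : ¬ IsMulCommutative P) {E : Subgroup P} (hE : IsMulCommutative ↥E) :
    Group.nilpotencyClass ↥(Subgroup.normalClosure (E : Set P)) < Group.nilpotencyClass P := by
  have hc : 2 ≤ Group.nilpotencyClass P := by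
    by_contra hlt
    rw [not_le] at hlt
    have h1 : Group.nilpotencyClass P ≤ 1 := by omega
    rw [← Subgroup.lowerCentralSeries_eq_bot_iff_nilpotencyClass_le] at h1
    apply hna
    constructor
    constructor
    intro a b
    have : ⁅a, b⁆ ∈ (⊤ : Subgroup P).lowerCentralSeries 1 := by
      simp only [zero_add, Subgroup.lowerCentralSeries_succ, Subgroup.lowerCentralSeries_zero]
      exact Subgroup.commutator_mem_commutator (Subgroup.mem_top a) (Subgroup.mem_top b)
    rw [h1, Subgroup.mem_bot, commutatorElement_eq_one_iff_mul_comm] at this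
    exact this
  obtain ⟨c, hc'⟩ : ∃ c, Group.nilpotencyClass P = c + 2 := ⟨Group.nilpotencyClass P - 2, by omega⟩
  have h2 : (⊤ : Subgroup P).lowerCentralSeries (c + 2) = ⊥ := by
    rw [← hc']; exact Subgroup.lowerCentralSeries_nilpotencyClass
  have h3 : (Subgroup.normalClosure (E : Set P)).lowerCentralSeries (c + 1) = ⊥ := by
    rw [eq_bot_iff, ← h2]; exact lcs_le E hE c
  have h4 : Group.nilpotencyClass ↥(Subgroup.normalClosure (E : Set P)) ≤ c + 1 := by
    rw [← Subgroup.lowerCentralSeries_eq_bot_iff_nilpotencyClass_le,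
      ← Subgroup.map_subtype_inj, Subgroup.map_bot, Subgroup.top_subtype_lowerCentralSeries]
    exact h3
  omega

/-- Let P be a non-abelian nilpotent p-group (every element of p-power order; P possibly infinite) generated by two abelian subgroups E and F. Then the normal closure of E in P, and likewise that of F, has nilpotency class strictly smaller than that of P. -/
theorem result {P : Type*} [Group P] {p : ℕ} [Fact p.Prime] (hP : IsPGroup p P) [Group.IsNilpotent P]
    (hna : ¬ IsMulCommutative P) {E F : Subgroup P} (hE : IsMulCommutative ↥E) (hF : IsMulCommutative ↥F) (hgen : E ⊔ F = ⊤) :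
    Group.nilpotencyClass ↥(Subgroup.normalClosure (E : Set P)) < Group.nilpotencyClass P ∧
    Group.nilpotencyClass ↥(Subgroup.normalClosure (F : Set P)) < Group.nilpotencyClass P := by
  exact ⟨half hna hE, half hna hF⟩

end Cfsg.Agent.S5067
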