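import Cfsg.Statements.S5078
import Cfsg.Agent.Lib.Helper84.FusionBasic

set_option autoImplicit false
open Cfsg

namespace Cfsg.Agent.S5078

open Cfsg.Agent.Lib.Helper84

/-- In any fusion system over a finite subgroup S, a receptive subgroup is fully centralized. -/
theorem result {Ω : Type*} [Group Ω] {S : Subgroup Ω} [Finite S] (F : Cfsg.FusionSystem S) (P : Subgroup Ω) (hP : F.IsReceptive P) : F.IsFullyCentralized P := by
  obtain ⟨hPS, hrec⟩ := hP
  refine ⟨hPS, ?_⟩
  intro Q hQ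
  obtain ⟨φ, hφ, rfl⟩ := hQ
  obtain ⟨ψ, hψ, hinv, hrange⟩ := exists_inv F hφ
  obtain ⟨χ, hχ, hagree⟩ := hrec φ.range ψ hψ hrange
  have hQS : φ.range ≤ S := range_le_S F hφ
  have hQN : φ.range ≤ Cfsg.FusionSystem.extender S φ.range ψ :=
    le_extender hQS ψ (fun x => mem_S_of_mem F hψ x)
  have hCN : Cfsg.FusionSystem.centralizerIn S φ.range ≤ Cfsg.FusionSystem.extender S φ.range ψ :=
    centralizerIn_le_extender φ.range ψ
  have hχinj := F.injective_of_mem hχ
  have hmem : ∀ c : Cfsg.FusionSystem.centralizerIn S φ.range,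
      χ ⟨c, hCN c.2⟩ ∈ Cfsg.FusionSystem.centralizerIn S P := by
    intro c
    refine ⟨mem_S_of_mem F hχ _, ?_⟩
    show χ ⟨c, hCN c.2⟩ ∈ Subgroup.centralizer (P : Set Ω)
    rw [Subgroup.mem_centralizer_iff]
    intro y hy
    have hy' : y ∈ ψ.range := by rw [hrange]; exact hy
    obtain ⟨q, rfl⟩ := hy'
    have hq : ψ q = χ ⟨q, hQN q.2⟩ := (hagree q q.2 (hQN q.2)).symm
    rw [hq, ← map_mul, ← map_mul]
    congr 1
    apply Subtype.ext
    show (q : Ω) * c = c * q
    have hcc : (c : Ω) ∈ Subgroup.centralizer ((φ.range : Subgroup Ω) : Set Ω) := c.2.2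
    exact (Subgroup.mem_centralizer_iff.mp hcc) q q.2
  have : Finite (Cfsg.FusionSystem.centralizerIn S P) :=
    Finite.of_injective (Subgroup.inclusion (inf_le_left : Cfsg.FusionSystem.centralizerIn S P ≤ S))
      (Subgroup.inclusion_injective _)
  apply Nat.card_le_card_of_injective
    (fun c : Cfsg.FusionSystem.centralizerIn S φ.range =>
      (⟨χ ⟨c, hCN c.2⟩, hmem c⟩ : Cfsg.FusionSystem.centralizerIn S P))
  intro c1 c2 h
  have h1 : χ ⟨c1, hCN c1.2⟩ = χ ⟨c2, hCN c2.2⟩ := congrArg Subtype.val h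
  have h2 := hχinj h1
  have h3 : (c1 : Ω) = c2 := congrArg (fun z : Cfsg.FusionSystem.extender S φ.range ψ => (z : Ω)) h2
  exact Subtype.ext h3

end Cfsg.Agent.S5078
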