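import Cfsg.Statements.S5081
import Cfsg.Agent.Lib.Helper84.Essential

set_option autoImplicit false
open Cfsg

namespace Cfsg.Agent.S5081

open Cfsg.FusionSystem Cfsg.Agent.Lib.Helper87 Cfsg.Agent.Lib.Helper84

/-- Let F be a saturated fusion system over a finite p-group S, P a proper subgroup of S that is fully normalized, and H the subgroup of Aut_F(P) generated by the automorphisms that extend to maps of the system defined on strictly larger subgroups of S. Then either P is not essential and H is all of Aut_F(P), or P is essential and the image of H in Out_F(P) = Aut_F(P)/Inn(P) is strongly p-embedded there. -/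
theorem result {Ω : Type*} [Group Ω] {S : Subgroup Ω} [Finite S] (p : ℕ) [Fact p.Prime] (hS : IsPGroup p S) (F : Cfsg.FusionSystem S) (hF : F.IsSaturated p) (P : Subgroup Ω) (hPS : P < S) (hPn : F.IsFullyNormalized P) (H : Subgroup (MulAut P)) (hH : H = Subgroup.closure {α : MulAut P | ∃ (Q : Subgroup Ω) (hPQ : P < Q) (φ : Q →* Ω), φ ∈ F.Hom Q ∧ ∀ x : P, φ (Subgroup.inclusion hPQ.le x) = α x}) : (¬ F.IsEssential p P ∧ H = F.autGroup P) ∨ (F.IsEssential p P ∧ ∃ _ : ((Cfsg.Inn P).subgroupOf (F.autGroup P)).Normal, Cfsg.IsStronglyPEmbedded p ((H.subgroupOf (F.autGroup P)).map (QuotientGroup.mk' ((Cfsg.Inn P).subgroupOf (F.autGroup P))))) := by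
  have hP : P ≤ S := hPn.1
  obtain ⟨hfc, hfa⟩ := fc_fa_of_fullyNormalized hS F hF hPn
  have hrec := receptive_of_fullyCentralized hS F hF hfc
  have hHe : H = Subgroup.closure (extSet F P) := hH
  have hHle : H ≤ F.autGroup P := by
    rw [hHe]; exact closure_extSet_le_autGroup F hP
  have hn : ((Inn P).subgroupOf (F.autGroup P)).Normal :=
    Subgroup.Normal.subgroupOf inferInstance _
  by_cases hcen : centralizerIn S P ≤ P
  · by_cases hle : F.autGroup P ≤ Subgroup.closure (extSet F P)
    · left
      refine ⟨?_, le_antisymm hHle (hHe ▸ hle)⟩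
      rintro ⟨_, _, hn', E, hE⟩
      exact not_autGroup_le_closure_extSet hS F hfa hcen hE hle
    · right
      have hse := stronglyPEmbedded_map_closure_extSet hS F hfa hrec hcen hPS.ne hle
      refine ⟨⟨centric_of_receptive F hrec hcen, hPn, hn, _, hse⟩, hn, ?_⟩
      rw [hHe]; exact hse
  · left
    refine ⟨fun h => hcen (h.1.2 P (Cfsg.Agent.Lib.Helper87.isConj_refl F hP)), le_antisymm hHle ?_⟩
    rw [hHe]
    intro α hα
    exact Subgroup.subset_closure (mem_extSet_of_not_le F hrec hcen hα)

end Cfsg.Agent.S5081
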