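import Cfsg.Statements.S5085
import Cfsg.Agent.Lib.Helper84.FusionBasic

set_option autoImplicit false
open Cfsg

namespace Cfsg.Agent.S5085

open Cfsg.Agent.Lib.Helper84

/-- In any fusion system, a characteristic subgroup of a subgroup that is normal in the system is itself normal in the system. -/
theorem result {Ω : Type*} [Group Ω] {S : Subgroup Ω} (F : Cfsg.FusionSystem S) (Q U : Subgroup Ω) (hQ : F.IsNormal Q) (hUQ : U ≤ Q) (hU : (U.subgroupOf Q).Characteristic) : F.IsNormal U := by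
  obtain ⟨hQS, hext⟩ := hQ
  refine ⟨le_trans hUQ hQS, ?_⟩
  intro P φ hφ
  obtain ⟨ψ, hψ, hψφ, hψQ⟩ := hext P φ hφ
  have hle : P ⊔ U ≤ P ⊔ Q := sup_le_sup_left hUQ P
  refine ⟨ψ.comp (Subgroup.inclusion hle), restrict_mem F hψ hle, ?_, ?_⟩
  · intro x
    exact hψφ x
  · have hψinj := F.injective_of_mem hψ
    have hmemQ : ∀ x : Q, ψ ⟨x, (le_sup_right : Q ≤ P ⊔ Q) x.2⟩ ∈ Q := by
      intro x
      have h0 : ψ ⟨x, (le_sup_right : Q ≤ P ⊔ Q) x.2⟩ ∈ (Q.subgroupOf (P ⊔ Q)).map ψ :=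
        ⟨⟨x, (le_sup_right : Q ≤ P ⊔ Q) x.2⟩, by
          rw [SetLike.mem_coe, Subgroup.mem_subgroupOf]; exact x.2, rfl⟩
      rw [hψQ] at h0
      exact h0
    let f : Q →* Q :=
      { toFun := fun x => ⟨ψ ⟨x, (le_sup_right : Q ≤ P ⊔ Q) x.2⟩, hmemQ x⟩
        map_one' := by
          apply Subtype.ext
          show ψ ⟨(1 : Ω), _⟩ = 1
          exact map_one ψ
        map_mul' := by
          intro x y
          apply Subtype.ext
          show ψ ⟨(x : Ω) * y, _⟩ = ψ ⟨x, _⟩ * ψ ⟨y, _⟩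
          rw [← map_mul]
          rfl }
    have hfinj : Function.Injective f := by
      intro x y hxy
      have h1 : ψ ⟨x, (le_sup_right : Q ≤ P ⊔ Q) x.2⟩ = ψ ⟨y, (le_sup_right : Q ≤ P ⊔ Q) y.2⟩ :=
        congrArg Subtype.val hxy
      have h2 := hψinj h1
      exact Subtype.ext (congrArg (fun z : ↥(P ⊔ Q) => (z : Ω)) h2)
    have hfsurj : Function.Surjective f := by
      intro y
      have hy : (y : Ω) ∈ (Q.subgroupOf (P ⊔ Q)).map ψ := by rw [hψQ]; exact y.2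
      obtain ⟨z, hz, hzy⟩ := hy
      rw [SetLike.mem_coe, Subgroup.mem_subgroupOf] at hz
      exact ⟨⟨z, hz⟩, Subtype.ext hzy⟩
    let α : Q ≃* Q := MulEquiv.ofBijective f ⟨hfinj, hfsurj⟩
    have hchar : (U.subgroupOf Q).map α.toMonoidHom = U.subgroupOf Q :=
      (Subgroup.characteristic_iff_map_eq.mp hU) α
    ext y
    constructor
    · rintro ⟨z, hz, rfl⟩
      rw [SetLike.mem_coe, Subgroup.mem_subgroupOf] at hz
      have h1 : α ⟨z, hUQ hz⟩ ∈ U.subgroupOf Q := by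
        rw [← hchar]
        exact ⟨⟨z, hUQ hz⟩, by rw [SetLike.mem_coe, Subgroup.mem_subgroupOf]; exact hz, rfl⟩
      rw [Subgroup.mem_subgroupOf] at h1
      exact h1
    · intro hy
      have h1 : (⟨y, hUQ hy⟩ : Q) ∈ (U.subgroupOf Q).map α.toMonoidHom := by
        rw [hchar, Subgroup.mem_subgroupOf]; exact hy
      obtain ⟨v, hv, hvy⟩ := h1
      rw [SetLike.mem_coe, Subgroup.mem_subgroupOf] at hv
      refine ⟨⟨v, (le_sup_right : U ≤ P ⊔ U) hv⟩, ?_, ?_⟩
      · rw [SetLike.mem_coe, Subgroup.mem_subgroupOf]; exact hv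
      · exact congrArg Subtype.val hvy

end Cfsg.Agent.S5085
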