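import Cfsg.Statements.S5095
import Cfsg.Agent.Lib.Helper88.Centric

set_option autoImplicit false
open Cfsg

namespace Cfsg.Agent.S5095

open Cfsg.FusionSystem Cfsg.Agent.Lib.Helper87 Cfsg.Agent.Lib.Helper88

variable {Ω : Type*} [Group Ω] {S : Subgroup Ω}

/-- precomposition of a map of the system with conjugation by an element of its source -/
theorem comp_conj_mem (F : Cfsg.FusionSystem S) {P : Subgroup Ω} {φ : P →* Ω} (hφ : φ ∈ F.Hom P)
    (z : P) : φ.comp (MulAut.conj z).toMonoidHom ∈ F.Hom P := by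
  have hPS : P ≤ S := hom_le F hφ
  have h1 := F.conj_mem (P := P) (g := (z : Ω)) hPS (hPS z.2)
  have hval : ∀ x : P, Cfsg.conjHom P (z : Ω) x ∈ P := fun x =>
    P.mul_mem (P.mul_mem z.2 x.2) (P.inv_mem z.2)
  have h2 := F.comp_mem h1 hφ hval
  have : φ.comp ((Cfsg.conjHom P (z : Ω)).codRestrict P hval) = φ.comp (MulAut.conj z).toMonoidHom := by
    ext x
    show φ _ = φ _
    congr 1
  rwa [this] at h2

theorem key [Finite S] {p : ℕ} [Fact p.Prime] (hS : IsPGroup p S) (F : Cfsg.FusionSystem S)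
    (hF : F.IsSaturated p) :
    ∀ (n : ℕ) (P Q : Subgroup Ω) (_ : Q ≤ P), Nat.card P - Nat.card Q = n → F.IsCentric Q →
      ∀ (φ φ' : P →* Ω), φ ∈ F.Hom P → φ' ∈ F.Hom P →
        (∀ x : P, (x : Ω) ∈ Q → φ x = φ' x) →
        ∃ z : P, (z : Ω) ∈ Q ∧ (z : Ω) ∈ Subgroup.centralizer (Q : Set Ω) ∧
          ∀ y : P, φ' y = φ (z * y * z⁻¹) := by
  intro n
  induction n using Nat.strong_induction_on with
  | _ n ih =>
  intro P Q hQP hn hQc φ φ' hφ hφ' hagree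
  have hPS : P ≤ S := hom_le F hφ
  have hfinP : Finite P := finite_of_le hPS
  have hPp : IsPGroup p P := hS.to_le hPS
  by_cases hQP' : Q = P
  · refine ⟨1, Q.one_mem, Subgroup.one_mem _, fun y => ?_⟩
    have hy : (y : Ω) ∈ Q := by rw [hQP']; exact y.2
    rw [← hagree y hy]
    simp
  · -- the normalizer of Q in P
    have hlt : Nat.card Q < Nat.card (normalizerIn P Q) :=
      card_lt_card_normalizerIn hPp hQP hQP'
    set Q₁ := normalizerIn P Q with hQ₁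
    have hQ₁P : Q₁ ≤ P := inf_le_left
    have hQQ₁ : Q ≤ Q₁ := le_inf hQP Subgroup.le_normalizer
    have hnorm : Q₁ ≤ Subgroup.normalizer (Q : Set Ω) := inf_le_right
    have hθ := restrict_mem F hφ hQ₁P
    have hθ' := restrict_mem F hφ' hQ₁P
    obtain ⟨z, hzQ, hz⟩ := eq_comp_conj_of_centric hS F hF hQQ₁ hnorm hQc hθ hθ'
      (fun x hx => hagree (Subgroup.inclusion hQ₁P x) hx)
    have hzP : z ∈ P := hQP hzQ
    have hφinj := F.injective_of_mem hφ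
    -- z centralizes Q
    have hzC : z ∈ Subgroup.centralizer (Q : Set Ω) := by
      rw [Subgroup.mem_centralizer_iff]
      intro x hx
      have hxQ₁ : x ∈ Q₁ := hQQ₁ hx
      have hmem : z * x * z⁻¹ ∈ Q₁ := Q₁.mul_mem (Q₁.mul_mem (hQQ₁ hzQ) hxQ₁) (Q₁.inv_mem (hQQ₁ hzQ))
      have h1 := hz ⟨x, hxQ₁⟩ hmem
      have h2 : φ' ⟨x, hQ₁P hxQ₁⟩ = φ ⟨x, hQ₁P hxQ₁⟩ := (hagree ⟨x, hQ₁P hxQ₁⟩ hx).symm
      have h3 : φ ⟨x, hQ₁P hxQ₁⟩ = φ ⟨z * x * z⁻¹, hQ₁P hmem⟩ := by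
        rw [← h2]; exact h1
      have h4 := congrArg Subtype.val (hφinj h3)
      simp only at h4
      calc x * z = (z * x * z⁻¹) * z := by rw [← h4]
        _ = z * x := by group
    -- the twisted map
    set φ₂ : P →* Ω := φ.comp (MulAut.conj (⟨z, hzP⟩ : P)).toMonoidHom with hφ₂
    have hφ₂mem : φ₂ ∈ F.Hom P := comp_conj_mem F hφ ⟨z, hzP⟩
    have hagree₂ : ∀ x : P, (x : Ω) ∈ Q₁ → φ₂ x = φ' x := by
      intro x hx
      have hmem : z * (x : Ω) * z⁻¹ ∈ Q₁ := Q₁.mul_mem (Q₁.mul_mem (hQQ₁ hzQ) hx) (Q₁.inv_mem (hQQ₁ hzQ))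
      have h1 := hz ⟨x, hx⟩ hmem
      exact h1.symm
    have hQ₁c : F.IsCentric Q₁ := isCentric_of_le F hQc hQQ₁ (hQ₁P.trans hPS)
    have hcard : Nat.card P - Nat.card Q₁ < n := by
      have h1 : Nat.card Q₁ ≤ Nat.card P := Subgroup.card_le_of_le hQ₁P
      omega
    obtain ⟨z₁, hz₁Q₁, hz₁C, hz₁⟩ := ih _ hcard P Q₁ hQ₁P rfl hQ₁c φ₂ φ' hφ₂mem hφ' hagree₂
    -- z₁ ∈ C_S(Q) ≤ Q
    have hz₁CQ : (z₁ : Ω) ∈ Subgroup.centralizer (Q : Set Ω) :=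
      Subgroup.centralizer_le (SetLike.coe_subset_coe.mpr hQQ₁) hz₁C
    have hz₁Q : (z₁ : Ω) ∈ Q :=
      hQc.2 Q (isConj_refl F hQc.1) ⟨hPS z₁.2, hz₁CQ⟩
    refine ⟨⟨z, hzP⟩ * z₁, Q.mul_mem hzQ hz₁Q, Subgroup.mul_mem _ hzC hz₁CQ, fun y => ?_⟩
    rw [hz₁ y]
    show φ ((MulAut.conj (⟨z, hzP⟩ : P)) (z₁ * y * z₁⁻¹)) = _
    congr 1
    rw [MulAut.conj_apply]
    group

/-- In a saturated fusion system over a finite p-group S: if Q ≤ P ≤ S with Q centric, and two maps of the system with source P agree on Q, then they differ by an inner automorphism of P induced by an element of the centre of Q. -/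
theorem result {Ω : Type*} [Group Ω] {S : Subgroup Ω} [Finite S] (p : ℕ) [Fact p.Prime] (hS : IsPGroup p S) (F : Cfsg.FusionSystem S) (hF : F.IsSaturated p) (P Q : Subgroup Ω) (hQP : Q ≤ P) (hQ : F.IsCentric Q) (φ φ' : P →* Ω) (hφ : φ ∈ F.Hom P) (hφ' : φ' ∈ F.Hom P) (h : ∀ x : P, (x : Ω) ∈ Q → φ x = φ' x) : ∃ z : P, (z : Ω) ∈ Q ∧ (z : Ω) ∈ Subgroup.centralizer (Q : Set Ω) ∧ ∀ y : P, φ' y = φ (z * y * z⁻¹) :=
  key hS F hF _ P Q hQP rfl hQ φ φ' hφ hφ' h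

end Cfsg.Agent.S5095
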