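import Cfsg.Statements.S5100
import Cfsg.Agent.Lib.Helper84.GroupFusion

set_option autoImplicit false
open Cfsg

namespace Cfsg.Agent.S5100

open scoped Pointwise
open Cfsg.Agent.Lib.Helper84

theorem card_subgroupOf {G : Type*} [Group G] {H K : Subgroup G} (h : H ≤ K) :
    Nat.card (H.subgroupOf K) = Nat.card H :=
  Nat.card_congr (Subgroup.subgroupOfEquivOfLe h).toEquiv

theorem isPGroup_conj_smul {G : Type*} [Group G] [Finite G] {p : ℕ} [Fact p.Prime] (g : G) {T : Subgroup G}
    (hT : IsPGroup p T) : IsPGroup p (MulAut.conj g • T : Subgroup G) := by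
  obtain ⟨n, hn⟩ := IsPGroup.iff_card.mp hT
  exact IsPGroup.of_card (n := n) (by rw [card_conj_smul, hn])

theorem sylow_card_eq {G : Type*} [Group G] [Finite G] {p : ℕ} [Fact p.Prime] (R R' : Sylow p G) :
    Nat.card R = Nat.card R' := by
  rw [Sylow.card_eq_multiplicity, Sylow.card_eq_multiplicity]

/-- In the fusion system of a finite group G on a Sylow p-subgroup S, a subgroup P ≤ S is fully normalized if and only if N_S(P) is a Sylow p-subgroup of N_G(P). -/
theorem result {G : Type*} [Group G] [Finite G] (p : ℕ) [Fact p.Prime] (S : Sylow p G) (P : Subgroup G) (hP : P ≤ S) : (Cfsg.groupFusionSystem (S : Subgroup G)).IsFullyNormalized P ↔ ∃ R : Sylow p ↥(Subgroup.normalizer (P : Set G)), (R : Subgroup ↥(Subgroup.normalizer (P : Set G))) = (Cfsg.FusionSystem.normalizerIn (S : Subgroup G) P).subgroupOf (Subgroup.normalizer (P : Set G)) := by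
  have hNS_le : Cfsg.FusionSystem.normalizerIn (S : Subgroup G) P ≤ Subgroup.normalizer (P : Set G) := inf_le_right
  set N := Subgroup.normalizer (P : Set G) with hN
  set NS := Cfsg.FusionSystem.normalizerIn (S : Subgroup G) P with hNS
  constructor
  · rintro ⟨-, hfn⟩
    have hHp : IsPGroup p (NS.subgroupOf N) := (S.2.to_le inf_le_left).comap_subtype
    obtain ⟨R, hHR⟩ := hHp.exists_le_sylow
    set R' : Subgroup G := (R : Subgroup N).map N.subtype with hR'
    have hR'p : IsPGroup p R' := R.2.map _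
    obtain ⟨S', hS'⟩ := hR'p.exists_le_sylow
    obtain ⟨g, hg⟩ := MulAction.exists_smul_eq G S' S
    have hgS : MulAut.conj g • (S' : Subgroup G) = (S : Subgroup G) := by
      rw [← Sylow.coe_subgroup_smul, hg]
    have hR'S : MulAut.conj g • R' ≤ (S : Subgroup G) := by
      rw [← hgS]; exact Subgroup.pointwise_smul_le_pointwise_smul_iff.mpr hS'
    have hPR' : P ≤ R' := by
      intro x hx
      have hxNS : x ∈ NS := ⟨hP hx, Subgroup.le_normalizer hx⟩
      have hxN : x ∈ N := hNS_le hxNS
      have : (⟨x, hxN⟩ : N) ∈ (R : Subgroup N) := hHR (by rw [Subgroup.mem_subgroupOf]; exact hxNS)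
      exact ⟨⟨x, hxN⟩, this, rfl⟩
    set Q := MulAut.conj g • P with hQ
    have hQS : Q ≤ (S : Subgroup G) :=
      le_trans (Subgroup.pointwise_smul_le_pointwise_smul_iff.mpr hPR') hR'S
    have hconj : (Cfsg.groupFusionSystem (S : Subgroup G)).IsConj P Q :=
      (groupFusion_isConj_iff _ _ _).mpr ⟨hP, hQS, g, rfl⟩
    have hle1 : MulAut.conj g • R' ≤ Cfsg.FusionSystem.normalizerIn (S : Subgroup G) Q := by
      refine le_inf hR'S ?_
      refine le_trans ?_ (conj_smul_normalizer_le g P)
      exact Subgroup.pointwise_smul_le_pointwise_smul_iff.mpr (Subgroup.map_subtype_le _)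
    have hc1 : Nat.card (R : Subgroup N) = Nat.card R' :=
      (Subgroup.card_map_of_injective N.subtype_injective).symm
    have hc2 : Nat.card R' ≤ Nat.card (Cfsg.FusionSystem.normalizerIn (S : Subgroup G) Q) := by
      rw [← card_conj_smul g R']
      exact Subgroup.card_le_of_le hle1
    have hc3 := hfn Q hconj
    have hc4 : Nat.card (NS.subgroupOf N) = Nat.card NS := card_subgroupOf hNS_le
    have hcard : Nat.card (R : Subgroup N) ≤ Nat.card (NS.subgroupOf N) := by
      rw [hc4, hc1]; exact le_trans hc2 hc3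
    exact ⟨R, (Subgroup.eq_of_le_of_card_ge hHR hcard).symm⟩
  · rintro ⟨R, hR⟩
    refine ⟨hP, ?_⟩
    intro Q hQ
    obtain ⟨-, hQS, g, rfl⟩ := (groupFusion_isConj_iff _ _ _).mp hQ
    set T := Cfsg.FusionSystem.normalizerIn (S : Subgroup G) (MulAut.conj g • P) with hT
    set T' := MulAut.conj g⁻¹ • T with hT'
    have hTp : IsPGroup p T := S.2.to_le inf_le_left
    have hT'p : IsPGroup p T' := isPGroup_conj_smul g⁻¹ hTp
    have hT'N : T' ≤ N := by
      have h1 : T' ≤ MulAut.conj g⁻¹ • Subgroup.normalizer ((MulAut.conj g • P : Subgroup G) : Set G) :=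
        Subgroup.pointwise_smul_le_pointwise_smul_iff.mpr inf_le_right
      refine le_trans h1 (le_trans (conj_smul_normalizer_le g⁻¹ _) ?_)
      rw [map_inv, inv_smul_smul]
    obtain ⟨R', hR'⟩ := (hT'p.comap_subtype (K := N)).exists_le_sylow
    have hc1 : Nat.card (T'.subgroupOf N) ≤ Nat.card (R' : Subgroup N) := Subgroup.card_le_of_le hR'
    rw [card_subgroupOf hT'N, card_conj_smul, sylow_card_eq R' R] at hc1
    have hc2 : Nat.card (R : Subgroup N) = Nat.card NS := by
      rw [hR]; exact card_subgroupOf hNS_le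
    rw [← hc2]
    exact hc1

end Cfsg.Agent.S5100
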