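import Cfsg.Statements.S5101
import Cfsg.Agent.Lib.Helper85.GroupFusion

set_option autoImplicit false
open Cfsg

namespace Cfsg.Agent.S5101

open Cfsg.Agent.Lib.Helper85

/-- In the fusion system of a finite group G on a Sylow p-subgroup S, a subgroup P ≤ S is fully centralized if and only if C_S(P) is a Sylow p-subgroup of C_G(P). -/
theorem result {G : Type*} [Group G] [Finite G] (p : ℕ) [Fact p.Prime] (S : Sylow p G) (P : Subgroup G) (hP : P ≤ S) : (Cfsg.groupFusionSystem (S : Subgroup G)).IsFullyCentralized P ↔ ∃ R : Sylow p ↥(Subgroup.centralizer (P : Set G)), (R : Subgroup ↥(Subgroup.centralizer (P : Set G))) = (Cfsg.FusionSystem.centralizerIn (S : Subgroup G) P).subgroupOf (Subgroup.centralizer (P : Set G)) := by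
  show _ ↔ SylIn p (FusionSystem.centralizerIn (S : Subgroup G) P) (Subgroup.centralizer (P : Set G))
  constructor
  · rintro ⟨-, hfc⟩
    obtain ⟨R₁⟩ : Nonempty (Sylow p (Subgroup.centralizer (P : Set G))) := Sylow.nonempty
    have hR := sylow_map_subtype_sylIn R₁
    set R := (R₁ : Subgroup (Subgroup.centralizer (P : Set G))).map
      (Subgroup.centralizer (P : Set G)).subtype with hRdef
    have hRC : R ≤ Subgroup.centralizer (P : Set G) := Subgroup.map_subtype_le _
    have hRp : IsPGroup p R := R₁.isPGroup'.map _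
    have hPR : P ≤ Subgroup.normalizer (R : Set G) :=
      (Subgroup.le_centralizer_iff.mp hRC).trans (Subgroup.centralizer_le_normalizer _)
    have hTp : IsPGroup p (R ⊔ P : Subgroup G) :=
      IsPGroup.to_sup_of_normal_left' hRp (S.isPGroup'.to_le hP) hPR
    obtain ⟨g, -, hg⟩ := (sylIn_top S).exists_conj_le le_top hTp
    have hQS : P.map (cj g) ≤ S := (Subgroup.map_mono le_sup_right).trans hg
    have hRS : R.map (cj g) ≤ S := (Subgroup.map_mono le_sup_left).trans hg
    have hconj : (groupFusionSystem (S : Subgroup G)).IsConj P (P.map (cj g)) :=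
      isConj_groupFusionSystem_iff.mpr ⟨hP, hQS, g, rfl⟩
    have h1 := hfc _ hconj
    have hle : R.map (cj g) ≤ FusionSystem.centralizerIn (S : Subgroup G) (P.map (cj g)) := by
      refine le_inf hRS ?_
      rw [centralizer_map_cj]
      exact Subgroup.map_mono hRC
    apply SylIn.of_card_ge inf_le_right (S.isPGroup'.to_le inf_le_left)
    rw [← (sylIn_iff_card hRC).mp hR, ← card_map_cj g R]
    exact (Subgroup.card_le_of_le hle).trans h1
  · intro hsyl
    refine ⟨hP, fun Q hQ => ?_⟩
    obtain ⟨-, hQS, g, rfl⟩ := isConj_groupFusionSystem_iff.mp hQ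
    rw [(sylIn_iff_card (K := FusionSystem.centralizerIn (S : Subgroup G) P) inf_le_right).mp hsyl]
    have hcard : Nat.card (Subgroup.centralizer (P : Set G)) =
        Nat.card (Subgroup.centralizer ((P.map (cj g) : Subgroup G) : Set G)) := by
      rw [centralizer_map_cj, card_map_cj]
    rw [hcard]
    exact card_le_of_isPGroup inf_le_right (S.isPGroup'.to_le inf_le_left)

end Cfsg.Agent.S5101
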