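import Cfsg.Statements.S5103
import Cfsg.Agent.Lib.Helper85.TransportSat
import Cfsg.Agent.Lib.Helper85.Saturated
import Cfsg.Agent.Lib.Helper84.PCore
import Cfsg.Agent.Lib.Helper87.NormalChain

set_option autoImplicit false
open Cfsg

namespace Cfsg.Agent.S5103

open Cfsg.FusionSystem Cfsg.Agent.Lib.Helper85

/-- A fusion system over a finite p-group that has a model is saturated and constrained. -/
theorem result {Ω : Type*} [Group Ω] {S : Subgroup Ω} [Finite S] (p : ℕ) [Fact p.Prime] (hS : IsPGroup p S) (F : Cfsg.FusionSystem S) {G : Type*} [Group G] (ι : S →* G) (hG : F.IsModel p G ι) : F.IsConstrained p := by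
  obtain ⟨hfin, ⟨hinj, hreal⟩, ⟨T, hT⟩, hcent⟩ := hG
  haveI : Finite G := hfin
  let e : S ≃* (T : Subgroup G) :=
    (MonoidHom.ofInjective hinj).trans (MulEquiv.subgroupCongr hT.symm)
  have he : ∀ x : S, ((e x : (T : Subgroup G)) : G) = ι x := fun _ => rfl
  have hC : Corresp e F (groupFusionSystem (T : Subgroup G)) := by
    intro P hP φ hφ
    rw [hreal P hP φ hφ]
    constructor
    · rintro ⟨g, hg⟩
      refine ⟨imE_le e P, pushE_mem e hP φ hφ, g, fun y => ?_⟩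
      obtain ⟨x, rfl⟩ := (isoE e hP).surjective y
      rw [pushE_apply, isoE_coe]
      exact hg x
    · rintro ⟨-, -, g, hg⟩
      refine ⟨g, fun x => ?_⟩
      have := hg (isoE e hP x)
      rw [pushE_apply, isoE_coe] at this
      exact this
  have hsat : F.IsSaturated p := hC.isSaturated (groupFusionSystem_isSaturated T)
  refine ⟨hsat, ?_⟩
  have hOn : (pCore p G).Normal := Cfsg.Agent.Lib.Helper87.pCore_normal p G
  have hOT : pCore p G ≤ (T : Subgroup G) := Cfsg.Agent.Lib.Helper84.pCore_le_sylow T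
  set Q₀ := preE e (pCore p G) with hQ₀
  have hQ₀S : Q₀ ≤ S := preE_le e _
  have hnormal : F.IsNormal Q₀ := by
    refine ⟨hQ₀S, fun P φ hφ => ?_⟩
    have hP : P ≤ S := Cfsg.Agent.Lib.Helper87.hom_le F hφ
    have hφS : ∀ x, φ x ∈ S := Cfsg.Agent.Lib.Helper87.hom_mem_S F hφ
    obtain ⟨g, hg⟩ := (hreal P hP φ hφS).mp hφ
    have hPQ : P ⊔ Q₀ ≤ S := sup_le hP hQ₀S
    -- conjugation by g maps the image of P ⊔ Q₀ into T
    have hM : P ⊔ Q₀ ≤ preE e (Subgroup.comap (MulAut.conj g).toMonoidHom (T : Subgroup G)) := by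
      refine sup_le ?_ ?_
      · intro x hx
        rw [mem_preE]
        refine ⟨hP hx, ?_⟩
        show g * ((e ⟨x, hP hx⟩ : (T : Subgroup G)) : G) * g⁻¹ ∈ (T : Subgroup G)
        rw [he, ← hg ⟨x, hx⟩, ← he]
        exact (e _).2
      · intro x hx
        obtain ⟨hxS, hxO⟩ := mem_preE.mp hx
        rw [mem_preE]
        exact ⟨hxS, hOT (hOn.conj_mem _ hxO g)⟩
    have hval : ∀ y : imE e (P ⊔ Q₀), conjHom (imE e (P ⊔ Q₀)) g y ∈ (T : Subgroup G) := by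
      intro y
      obtain ⟨x, hx, hxy⟩ := mem_imE.mp y.2
      obtain ⟨_, h2⟩ := mem_preE.mp (hM hx)
      show g * (y : G) * g⁻¹ ∈ (T : Subgroup G)
      rw [← hxy]
      exact h2
    have hψ' : conjHom (imE e (P ⊔ Q₀)) g ∈
        (groupFusionSystem (T : Subgroup G)).Hom (imE e (P ⊔ Q₀)) :=
      ⟨imE_le e _, hval, g, fun _ => rfl⟩
    have hψ := hC.pullE_mem hPQ hψ'
    have hψe : ∀ x : ↥(P ⊔ Q₀), ((e ⟨pullE e hPQ _ hval x, pullE_mem e hPQ _ hval x⟩ :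
        (T : Subgroup G)) : G) = g * ι ⟨x, hPQ x.2⟩ * g⁻¹ := by
      intro x
      rw [e_pullE]
      rfl
    refine ⟨_, hψ, ?_, ?_⟩
    · intro x
      have h1 := hψe (Subgroup.inclusion le_sup_left x)
      have h2 := hg x
      have h3 : e ⟨pullE e hPQ _ hval (Subgroup.inclusion le_sup_left x), pullE_mem e hPQ _ hval _⟩ =
          e ⟨φ x, hφS x⟩ := by
        apply Subtype.ext
        rw [h1, he, h2]
        rfl
      exact congrArg (fun z : S => (z : Ω)) (e.injective h3)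
    · rw [Cfsg.Agent.Lib.Helper87.map_subgroupOf_eq_iff]
      constructor
      · intro y hy
        obtain ⟨hyS, hyO⟩ := mem_preE.mp hy
        rw [mem_preE]
        refine ⟨pullE_mem e hPQ _ hval y, ?_⟩
        rw [hψe y, ← he]
        exact hOn.conj_mem _ hyO g
      · intro q hq
        obtain ⟨hqS, hqO⟩ := mem_preE.mp hq
        have hz : g⁻¹ * ((e ⟨q, hqS⟩ : (T : Subgroup G)) : G) * g⁻¹⁻¹ ∈ pCore p G :=
          hOn.conj_mem _ hqO g⁻¹
        set y₀ : S := e.symm ⟨g⁻¹ * ((e ⟨q, hqS⟩ : (T : Subgroup G)) : G) * g⁻¹⁻¹, hOT hz⟩ with hy₀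
        have hy₀Q : (y₀ : Ω) ∈ Q₀ := by
          rw [mem_preE]
          refine ⟨y₀.2, ?_⟩
          have : (⟨(y₀ : Ω), y₀.2⟩ : S) = y₀ := rfl
          rw [this, hy₀, MulEquiv.apply_symm_apply]
          exact hz
        refine ⟨⟨y₀, (le_sup_right : Q₀ ≤ P ⊔ Q₀) hy₀Q⟩, hy₀Q, ?_⟩
        have h1 := hψe ⟨y₀, (le_sup_right : Q₀ ≤ P ⊔ Q₀) hy₀Q⟩
        have h3 : e ⟨pullE e hPQ _ hval ⟨y₀, (le_sup_right : Q₀ ≤ P ⊔ Q₀) hy₀Q⟩,
            pullE_mem e hPQ _ hval _⟩ = e ⟨q, hqS⟩ := by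
          apply Subtype.ext
          rw [h1]
          have : ι ⟨(y₀ : Ω), hPQ ((le_sup_right : Q₀ ≤ P ⊔ Q₀) hy₀Q)⟩ =
              g⁻¹ * ((e ⟨q, hqS⟩ : (T : Subgroup G)) : G) * g⁻¹⁻¹ := by
            rw [← he]
            have : (⟨(y₀ : Ω), hPQ ((le_sup_right : Q₀ ≤ P ⊔ Q₀) hy₀Q)⟩ : S) = y₀ := rfl
            rw [this, hy₀, MulEquiv.apply_symm_apply]
          rw [this]
          group
        exact congrArg (fun z : S => (z : Ω)) (e.injective h3)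
  refine ⟨Q₀, hnormal, hQ₀S, ?_⟩
  intro Q₂ hconj
  have hwc : F.WeaklyClosed Q₀ :=
    Cfsg.Agent.Lib.Helper87.weaklyClosed_of_stronglyClosed F
      (Cfsg.Agent.Lib.Helper87.stronglyClosed_of_isNormal F hnormal)
  obtain ⟨φ, hφ, hr⟩ := hconj
  have hQ₂ : Q₂ = Q₀ := by rw [← hr]; exact hwc.2 φ hφ
  rw [hQ₂]
  rintro x ⟨hxS, hxC⟩
  rw [hQ₀, mem_preE]
  refine ⟨hxS, hcent ?_⟩
  rw [Subgroup.mem_centralizer_iff]
  intro z hz
  have hzT : z ∈ (T : Subgroup G) := hOT hz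
  have hq : ((e.symm ⟨z, hzT⟩ : S) : Ω) ∈ Q₀ := by
    rw [hQ₀, mem_preE]
    refine ⟨(e.symm ⟨z, hzT⟩).2, ?_⟩
    have : (⟨((e.symm ⟨z, hzT⟩ : S) : Ω), (e.symm ⟨z, hzT⟩).2⟩ : S) = e.symm ⟨z, hzT⟩ := rfl
    rw [this, MulEquiv.apply_symm_apply]
    exact hz
  have hcomm := (Subgroup.mem_centralizer_iff.mp hxC) _ hq
  have h1 : e.symm ⟨z, hzT⟩ * ⟨x, hxS⟩ = ⟨x, hxS⟩ * e.symm ⟨z, hzT⟩ := Subtype.ext hcomm
  have h2 := congrArg e h1
  rw [map_mul, map_mul, MulEquiv.apply_symm_apply] at h2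
  exact congrArg (fun t : (T : Subgroup G) => (t : G)) h2

end Cfsg.Agent.S5103
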