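import Cfsg.Statements.S5105
import Cfsg.Agent.Lib.Helper85.Rigidity

set_option autoImplicit false
open Cfsg

namespace Cfsg.Agent.S5105

open Cfsg.Agent.Lib.Helper85 Cfsg.Agent.Lib.Helper87

/-- Model Theorem, rigidity: if G is a model of a constrained fusion system over a finite p-group S (through ι : S → G), then every automorphism of G fixing ι(S) elementwise is conjugation by ι(z) for some z in the centre of S. -/
theorem result {Ω : Type*} [Group Ω] {S : Subgroup Ω} [Finite S] (p : ℕ) [Fact p.Prime] (hS : IsPGroup p S) (F : Cfsg.FusionSystem S) (hF : F.IsConstrained p) {G : Type*} [Group G] (ι : S →* G) (hG : F.IsModel p G ι) (ψ : G ≃* G) (hψ : ∀ x : S, ψ (ι x) = ι x) : ∃ z : S, z ∈ Subgroup.center S ∧ ∀ g : G, ψ g = ι z * g * (ι z)⁻¹ := by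
  obtain ⟨hfin, ⟨hinj, -⟩, ⟨T, hT⟩, hcent⟩ := hG
  haveI := hfin
  haveI hQn : (pCore p G).Normal := pCore_normal p G
  have hQp : IsPGroup p (pCore p G) := pCore_isPGroup p G
  have hQT : pCore p G ≤ (T : Subgroup G) := hQp.le_sylow_of_normal T
  set A := Subgroup.centralizer ((pCore p G : Subgroup G) : Set G) with hA
  have hAp : IsPGroup p A := hQp.to_le hcent
  have hAc : ∀ a ∈ A, ∀ b ∈ A, a * b = b * a := by
    intro a ha b hb
    exact ((Subgroup.mem_centralizer_iff.mp ha) b (hcent hb)).symm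
  have hTidx : ¬ p ∣ (T : Subgroup G).index := T.not_dvd_index
  have hψT : ∀ t ∈ (T : Subgroup G), ψ t = t := by
    intro t ht
    rw [hT] at ht
    obtain ⟨x, rfl⟩ := ht
    exact hψ x
  have hψA : ∀ g : G, ψ g * g⁻¹ ∈ A := by
    intro g
    rw [hA, Subgroup.mem_centralizer_iff]
    intro x hx
    have h1 : g⁻¹ * x * g ∈ pCore p G := by
      have := hQn.conj_mem x hx g⁻¹
      rwa [inv_inv] at this
    have h2 := hψT _ (hQT h1)
    have h3 := hψT _ (hQT hx)
    rw [map_mul, map_mul, map_inv, h3] at h2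
    calc x * (ψ g * g⁻¹) = ψ g * ((ψ g)⁻¹ * x * ψ g) * g⁻¹ := by group
      _ = ψ g * (g⁻¹ * x * g) * g⁻¹ := by rw [h2]
      _ = ψ g * g⁻¹ * x := by group
  obtain ⟨z, hzA, hz⟩ := conj_of_cocycle A hAp hAc (T : Subgroup G) hTidx ψ hψT hψA
  have hzT : z ∈ (T : Subgroup G) := hQT (hcent hzA)
  rw [hT] at hzT
  obtain ⟨z', rfl⟩ := hzT
  refine ⟨z', ?_, hz⟩
  rw [Subgroup.mem_center_iff]
  intro s
  apply hinj
  rw [map_mul, map_mul]
  have h1 := hz (ι s)
  rw [hψ s] at h1
  calc ι s * ι z' = ι z' * ι s * (ι z')⁻¹ * ι z' := by rw [← h1]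
    _ = ι z' * ι s := by group

end Cfsg.Agent.S5105
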