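import Cfsg.Statements.S5107
import Cfsg.Agent.Lib.Helper85.Saturated
import Cfsg.Agent.Lib.Helper87.Alperin
import Cfsg.Agent.Lib.Helper87.NormalizerSystem

set_option autoImplicit false
open Cfsg

namespace Cfsg.Agent.S5107

open Cfsg.Agent.Lib.Helper85 Cfsg.Agent.Lib.Helper87 Cfsg.FusionSystem
open scoped commutatorElement

variable {G : Type*} [Group G]

/-- automorphisms of `R` stabilizing the chain `1 ≤ Z ≤ R` -/
def stabGroup (R Z : Subgroup G) : Subgroup (MulAut R) where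
  carrier := {β | (∀ x : R, (x : G)⁻¹ * (β x : R) ∈ Z) ∧ ∀ x : R, (x : G) ∈ Z → β x = x}
  one_mem' := ⟨fun x => by simp [Z.one_mem], fun _ _ => rfl⟩
  mul_mem' := by
    rintro β γ ⟨hβ1, hβ2⟩ ⟨hγ1, hγ2⟩
    refine ⟨fun x => ?_, fun x hx => ?_⟩
    · have h1 := hγ1 x
      have h2 := hβ1 (γ x)
      have e : (x : G)⁻¹ * ((β * γ) x : R) = ((x : G)⁻¹ * (γ x : R)) * (((γ x : R) : G)⁻¹ * (β (γ x) : R)) := by
        rw [MulAut.mul_apply]; group
      rw [e]
      exact Z.mul_mem h1 h2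
    · rw [MulAut.mul_apply, hγ2 x hx, hβ2 x hx]
  inv_mem' := by
    rintro β ⟨hβ1, hβ2⟩
    refine ⟨fun x => ?_, fun x hx => ?_⟩
    · have h1 := hβ1 (β⁻¹ x)
      have e1 : β (β⁻¹ x) = x := by
        show β (β.symm x) = x
        simp
      rw [e1] at h1
      have e : (x : G)⁻¹ * ((β⁻¹ x : R) : G) = (((β⁻¹ x : R) : G)⁻¹ * (x : G))⁻¹ := by group
      rw [e]
      exact Z.inv_mem h1
    · have h1 := hβ2 x hx
      show β.symm x = x
      rw [MulEquiv.symm_apply_eq, h1]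

theorem stabGroup_pow (R Z : Subgroup G) (hZR : Z ≤ R) (β : MulAut R) (hβ : β ∈ stabGroup R Z) (x : R) (n : ℕ) :
    (((β ^ n) x : R) : G) = (x : G) * ((x : G)⁻¹ * (β x : R)) ^ n := by
  induction n with
  | zero => simp
  | succ n ih =>
    rw [pow_succ', MulAut.mul_apply]
    set d : G := (x : G)⁻¹ * (β x : R) with hd
    have hdZ : d ∈ Z := hβ.1 x
    have hdn : d ^ n ∈ Z := Z.pow_mem hdZ n
    have e1 : (β ^ n) x = x * ⟨d ^ n, hZR hdn⟩ := Subtype.ext ih
    rw [e1, map_mul, hβ.2 ⟨d ^ n, hZR hdn⟩ hdn]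
    show ((β x : R) : G) * d ^ n = (x : G) * d ^ (n + 1)
    have e2 : (x : G) * d = (β x : R) := by rw [hd]; group
    rw [pow_succ', ← mul_assoc, e2]

theorem stabGroup_isPGroup {p : ℕ} [Fact p.Prime] (R Z : Subgroup G) [Finite Z] (hZR : Z ≤ R) (hZ : IsPGroup p Z) :
    IsPGroup p (stabGroup R Z) := by
  obtain ⟨m, hm⟩ := IsPGroup.iff_card.mp hZ
  rintro ⟨β, hβ⟩
  refine ⟨m, Subtype.ext ?_⟩
  show β ^ (p ^ m) = 1
  ext x
  rw [stabGroup_pow R Z hZR β hβ x]
  have h1 : ((x : G)⁻¹ * (β x : R)) ^ (p ^ m) = 1 := by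
    have h2 : (⟨(x : G)⁻¹ * (β x : R), hβ.1 x⟩ : Z) ^ (p ^ m) = 1 := by
      rw [← hm]; exact pow_card_eq_one'
    exact congrArg Subtype.val h2
  rw [h1]
  simp

section

variable [Finite G] {p : ℕ} [Fact p.Prime] (S : Sylow p G)

theorem alperin_eq_top
    (hcl : ⁅(S : Subgroup G), (S : Subgroup G)⁆ ≤ (S : Subgroup G) ⊓ Subgroup.centralizer ((S : Subgroup G) : Set G))
    (hZ : Cfsg.IsStronglyClosed ((S : Subgroup G) ⊓ Subgroup.centralizer ((S : Subgroup G) : Set G)) (S : Subgroup G))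
    {R : Subgroup G} (hR : IsAlperin (groupFusionSystem (S : Subgroup G)) p R) : R = (S : Subgroup G) := by
  obtain ⟨hfa, hrec, hcen, hrad⟩ := hR
  set F := groupFusionSystem (S : Subgroup G) with hF
  set Z := (S : Subgroup G) ⊓ Subgroup.centralizer ((S : Subgroup G) : Set G) with hZdef
  have hRS : R ≤ (S : Subgroup G) := hfa.1
  have hCR : centralizerIn (S : Subgroup G) R ≤ R := hcen.2 R (isConj_refl F hRS)
  have hZR : Z ≤ R := by
    refine le_trans ?_ hCR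
    exact inf_le_inf_left _ (Subgroup.centralizer_le hRS)
  have hZS : Z ≤ (S : Subgroup G) := inf_le_left
  have hfinZ : Finite Z := Finite.of_injective (Subgroup.inclusion hZS) (Subgroup.inclusion_injective _)
  have hZp : IsPGroup p Z := S.isPGroup'.to_le hZS
  -- S normalizes R
  have hconj : ∀ s ∈ (S : Subgroup G), ∀ x ∈ R, s * x * s⁻¹ ∈ R := by
    intro s hs x hx
    have h1 : ⁅s, x⁆ ∈ Z := hcl (Subgroup.commutator_mem_commutator hs (hRS hx))
    have e : s * x * s⁻¹ = ⁅s, x⁆ * x := by rw [commutatorElement_def]; group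
    rw [e]
    exact R.mul_mem (hZR h1) hx
  have hnorm : ∀ s ∈ (S : Subgroup G), s ∈ Subgroup.normalizer (R : Set G) := by
    intro s hs
    rw [Subgroup.mem_normalizer_iff]
    intro h
    refine ⟨fun hh => hconj s hs h hh, fun hh => ?_⟩
    have := hconj s⁻¹ (Subgroup.inv_mem _ hs) _ hh
    have e : s⁻¹ * (s * h * s⁻¹) * s⁻¹⁻¹ = h := by group
    rwa [e] at this
  -- elements of Aut_F(R) preserve Z
  have hpres : ∀ γ ∈ F.autGroup R, ∀ x : R, (x : G) ∈ Z → ((γ x : R) : G) ∈ Z := by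
    intro γ hγ x hx
    rw [groupFusion_autGroup_eq _ hRS, mem_autN_iff] at hγ
    obtain ⟨g, hg⟩ := hγ
    rw [hg]
    apply hZ.2 x hx g
    rw [← hg]
    exact hRS (γ x).2
  -- the stability group, inside Aut_F(R), is a normal p-subgroup
  set B := (stabGroup R Z).subgroupOf (F.autGroup R) with hB
  have hBn : B.Normal := by
    constructor
    rintro ⟨β, hβA⟩ hβ ⟨γ, hγA⟩
    have hβ' : β ∈ stabGroup R Z := Subgroup.mem_subgroupOf.mp hβ
    rw [hB, Subgroup.mem_subgroupOf]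
    show γ * β * γ⁻¹ ∈ stabGroup R Z
    have hγinv : γ⁻¹ ∈ F.autGroup R := Subgroup.inv_mem _ hγA
    refine ⟨fun x => ?_, fun x hx => ?_⟩
    · have h1 := hβ'.1 (γ⁻¹ x)
      have h2 := hpres γ hγA ⟨_, hZR h1⟩ h1
      have e1 : γ (γ⁻¹ x) = x := by
        show γ (γ.symm x) = x
        simp
      have e : (x : G)⁻¹ * (((γ * β * γ⁻¹) x : R) : G) =
          ((γ ⟨((γ⁻¹ x : R) : G)⁻¹ * ((β (γ⁻¹ x) : R) : G), hZR h1⟩ : R) : G) := by
        have e2 : (⟨((γ⁻¹ x : R) : G)⁻¹ * ((β (γ⁻¹ x) : R) : G), hZR h1⟩ : R) = (γ⁻¹ x)⁻¹ * β (γ⁻¹ x) :=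
          Subtype.ext rfl
        rw [e2, map_mul, map_inv, e1]
        rfl
      rw [e]
      exact h2
    · have h1 : ((γ⁻¹ x : R) : G) ∈ Z := hpres γ⁻¹ hγinv x hx
      show γ (β (γ⁻¹ x)) = x
      rw [hβ'.2 _ h1]
      show γ (γ.symm x) = x
      simp
  have hBp : IsPGroup p B :=
    (stabGroup_isPGroup R Z hZR hZp).comap_of_injective _ (Subgroup.subtype_injective _)
  have hBle : B ≤ pCore p (F.autGroup R) := le_pCore hBn hBp
  -- now S ≤ R
  apply le_antisymm hRS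
  intro s hs
  have hsN := hnorm s hs
  have hβA : conjAut R s hsN ∈ F.autGroup R :=
    autInducedBy_le_autGroup F hRS (conjAut_mem_autInducedBy hs hsN)
  have hβB : conjAut R s hsN ∈ stabGroup R Z := by
    refine ⟨fun x => ?_, fun x hx => ?_⟩
    · rw [conjAut_coe]
      have h1 : ⁅(x : G)⁻¹, s⁆ ∈ Z := hcl (Subgroup.commutator_mem_commutator (Subgroup.inv_mem _ (hRS x.2)) hs)
      have e : (x : G)⁻¹ * (s * x * s⁻¹) = ⁅(x : G)⁻¹, s⁆ := by rw [commutatorElement_def]; group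
      rw [e]; exact h1
    · apply Subtype.ext
      rw [conjAut_coe]
      have h1 := (Subgroup.mem_centralizer_iff.mp hx.2) s hs
      calc s * (x : G) * s⁻¹ = (x : G) * s * s⁻¹ := by rw [h1]
        _ = x := by group
  have hInn : conjAut R s hsN ∈ Inn R := by
    rw [← hrad.2]
    exact ⟨⟨_, hβA⟩, hBle (Subgroup.mem_subgroupOf.mpr hβB), rfl⟩
  obtain ⟨r, hr⟩ := hInn
  have hrs : (r : G)⁻¹ * s ∈ centralizerIn (S : Subgroup G) R := by
    refine ⟨mul_mem (Subgroup.inv_mem _ (hRS r.2)) hs, ?_⟩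
    show _ ∈ Subgroup.centralizer (R : Set G)
    rw [Subgroup.mem_centralizer_iff]
    intro x hx
    have h1 : ((MulAut.conj r ⟨x, hx⟩ : R) : G) = ((conjAut R s hsN ⟨x, hx⟩ : R) : G) := by rw [hr]
    rw [conjAut_coe] at h1
    have h2 : (r : G) * x * (r : G)⁻¹ = s * x * s⁻¹ := h1
    calc x * ((r : G)⁻¹ * s) = (r : G)⁻¹ * ((r : G) * x * (r : G)⁻¹) * s := by group
      _ = (r : G)⁻¹ * (s * x * s⁻¹) * s := by rw [h2]
      _ = (r : G)⁻¹ * s * x := by group
  have := R.mul_mem r.2 (hCR hrs)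
  have e : (r : G) * ((r : G)⁻¹ * s) = s := by group
  rwa [e] at this

theorem control
    (hcl : ⁅(S : Subgroup G), (S : Subgroup G)⁆ ≤ (S : Subgroup G) ⊓ Subgroup.centralizer ((S : Subgroup G) : Set G))
    (hZ : Cfsg.IsStronglyClosed ((S : Subgroup G) ⊓ Subgroup.centralizer ((S : Subgroup G) : Set G)) (S : Subgroup G))
    (P : Subgroup G) (φ : P →* G) (hφ : φ ∈ (groupFusionSystem (S : Subgroup G)).Hom P) :
    ∃ g ∈ Subgroup.normalizer ((S : Subgroup G) : Set G), ∀ x : P, φ x = g * (x : G) * g⁻¹ := by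
  have hsat := groupFusionSystem_isSaturated S
  have hgen := alperin S.isPGroup' _ hsat P φ hφ
  induction hgen with
  | @aut P R hR α hα hPR =>
    have hRS := alperin_eq_top S hcl hZ hR
    subst hRS
    rw [groupFusion_autGroup_eq _ le_rfl, mem_autN_iff] at hα
    obtain ⟨g, hg⟩ := hα
    exact ⟨g, mem_normalizer_of_aut _ α g hg, fun x => hg _⟩
  | @comp P Q φ ψ _ _ h ih1 ih2 =>
    obtain ⟨g₁, hg₁, h₁⟩ := ih1 (AlpGen.mem_hom ‹_›)
    obtain ⟨g₂, hg₂, h₂⟩ := ih2 (AlpGen.mem_hom ‹_›)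
    refine ⟨g₂ * g₁, mul_mem hg₂ hg₁, fun x => ?_⟩
    show ψ ⟨φ x, h x⟩ = _
    rw [h₂]
    show g₂ * φ x * g₂⁻¹ = _
    rw [h₁]
    group

end

/-- If a Sylow p-subgroup S of a finite group G has nilpotency class at most two and its centre is strongly closed in S with respect to G, then every map of the fusion system of G on S is conjugation by an element of N_G(S), and S is the largest subgroup normal in that fusion system. -/
theorem result {G : Type*} [Group G] [Finite G] (p : ℕ) [Fact p.Prime] (S : Sylow p G) (hcl : ⁅(S : Subgroup G), (S : Subgroup G)⁆ ≤ (S : Subgroup G) ⊓ Subgroup.centralizer ((S : Subgroup G) : Set G)) (hZ : Cfsg.IsStronglyClosed ((S : Subgroup G) ⊓ Subgroup.centralizer ((S : Subgroup G) : Set G)) (S : Subgroup G)) : (∀ (P : Subgroup G) (φ : P →* G), φ ∈ (Cfsg.groupFusionSystem (S : Subgroup G)).Hom P → ∃ g ∈ Subgroup.normalizer ((S : Subgroup G) : Set G), ∀ x : P, φ x = g * (x : G) * g⁻¹) ∧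 (Cfsg.groupFusionSystem (S : Subgroup G)).core = S := by
  refine ⟨control S hcl hZ, ?_⟩
  apply le_antisymm
  · exact sSup_le fun Q hQ => hQ.1
  · apply le_sSup
    refine ⟨le_rfl, fun P φ hφ => ?_⟩
    obtain ⟨g, hgN, hg⟩ := control S hcl hZ P φ hφ
    have hPS : P ≤ (S : Subgroup G) := hφ.1
    have hsup : P ⊔ (S : Subgroup G) ≤ S := sup_le hPS le_rfl
    have hgS : ∀ x ∈ (S : Subgroup G), g * x * g⁻¹ ∈ (S : Subgroup G) := fun x hx =>
      (Subgroup.mem_normalizer_iff.mp hgN x).mp hx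
    refine ⟨conjHom _ g, ⟨hsup, fun x => hgS _ (hsup x.2), g, fun _ => rfl⟩, fun x => (hg x).symm, ?_⟩
    rw [map_subgroupOf_eq_iff]
    refine ⟨fun y hy => hgS _ hy, fun q hq => ?_⟩
    have hq' : g⁻¹ * q * g ∈ (S : Subgroup G) := (Subgroup.mem_normalizer_iff''.mp hgN q).mp hq
    refine ⟨⟨g⁻¹ * q * g, (le_sup_right : (S : Subgroup G) ≤ P ⊔ S) hq'⟩, hq', ?_⟩
    show g * (g⁻¹ * q * g) * g⁻¹ = q
    group

end Cfsg.Agent.S5107
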