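import Cfsg.Statements.S5111
import Cfsg.Agent.Lib.Helper85.RobertsShpectorov

set_option autoImplicit false
open Cfsg

namespace Cfsg.Agent.S5111

open Cfsg.FusionSystem Cfsg.Agent.Lib.Helper87 Cfsg.Agent.Lib.Helper85

/-- A fusion system over a finite p-group S is saturated if and only if the inner automorphisms of S form a Sylow p-subgroup of Aut_F(S) and every fully normalized subgroup of S is receptive. -/
theorem result {Ω : Type*} [Group Ω] {S : Subgroup Ω} [Finite S] (p : ℕ) [Fact p.Prime] (hS : IsPGroup p S) (F : Cfsg.FusionSystem S) : F.IsSaturated p ↔ (F.IsFullyAutomized p S ∧ ∀ P : Subgroup Ω, F.IsFullyNormalized P → F.IsReceptive P) := by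
  constructor
  · intro hF
    refine ⟨?_, fun P hfn => receptive_of_fullyNormalized hS F hF hfn⟩
    have hfnS : F.IsFullyNormalized S := by
      refine ⟨le_rfl, fun Q _ => ?_⟩
      haveI : Finite (normalizerIn S S) := finite_of_le (normalizerIn_le S S)
      apply Subgroup.card_le_of_le
      intro x hx
      exact ⟨hx.1, Subgroup.le_normalizer hx.1⟩
    exact (fc_fa_of_fullyNormalized hS F hF hfnS).2
  · rintro ⟨h1, h2⟩
    exact isSaturated_of_RS hS F h1 h2

end Cfsg.Agent.S5111
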