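import Cfsg.Statements.S5112
import Cfsg.Agent.Lib.Helper86.AutTwo
import Cfsg.Agent.Lib.Helper88.Abelian
import Cfsg.Agent.S5080

set_option autoImplicit false
open Cfsg

namespace Cfsg.Agent.S5112

open Cfsg.Agent.Lib.Helper86

/-- If S is a dihedral or generalized quaternion 2-group of order at least 16, then in every saturated fusion system over S (at the prime 2) the automorphism group Aut_F(S) consists of the inner automorphisms of S. -/
theorem result {Ω : Type*} [Group Ω] {S : Subgroup Ω} [Finite S] (n : ℕ) (hn : 4 ≤ n) (hshape : Nonempty (S ≃* DihedralGroup (2 ^ (n - 1))) ∨ Nonempty (S ≃* QuaternionGroup (2 ^ (n - 2)))) (F : Cfsg.FusionSystem S) (hF : F.IsSaturated 2) : F.autGroup S = Cfsg.Inn S := by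
  have h2 : Fact (Nat.Prime 2) := ⟨Nat.prime_two⟩
  have hA : IsPGroup 2 (MulAut S) := by
    rcases hshape with he | he
    · obtain ⟨e⟩ := he
      exact (isPGroup_two_mulAut_dihedral (n - 1) (by omega)).of_equiv (MulAut.congr e).symm
    · obtain ⟨e⟩ := he
      exact (isPGroup_two_mulAut_quaternion (n - 2) (by omega)).of_equiv (MulAut.congr e).symm
  obtain ⟨hfa, -⟩ := Cfsg.Agent.Lib.Helper88.top_automized_receptive F 2 hF
  obtain ⟨-, R, hR⟩ := hfa
  have hAF : IsPGroup 2 (F.autGroup S) := hA.to_subgroup _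
  have hRtop : (R : Subgroup (F.autGroup S)) = ⊤ :=
    (R.is_maximal' (Q := ⊤) (hAF.to_subgroup _) le_top).symm
  rw [hRtop] at hR
  have hle : F.autGroup S ≤ Cfsg.autInducedBy S S := Subgroup.subgroupOf_eq_top.mp hR.symm
  apply le_antisymm
  · refine hle.trans ?_
    unfold Cfsg.autInducedBy
    rw [Subgroup.closure_le]
    rintro α ⟨g, hg, hα⟩
    refine ⟨⟨g, hg⟩, ?_⟩
    ext x
    rw [hα x]
    rfl
  · exact Cfsg.Agent.S5080.inn_le_autGroup F le_rfl

end Cfsg.Agent.S5112
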