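import Cfsg.Statements.S5115
import Cfsg.Agent.Lib.Helper87.SubnormalConstrained

set_option autoImplicit false
open Cfsg

namespace Cfsg.Agent.S5115

open Cfsg.FusionSystem Cfsg.Agent.Lib.Helper87

/-- If the 2-fusion system of a finite group G on a Sylow 2-subgroup S is constrained, then for every subnormal subgroup H of G the 2-fusion system of H on S ∩ H is constrained. -/
theorem result {G : Type*} [Group G] [Finite G] (S : Sylow 2 G) (hF : (Cfsg.groupFusionSystem (S : Subgroup G)).IsConstrained 2) (H : Subgroup G) (hH : H.IsSubnormal) : (Cfsg.groupFusionSystem ((S : Subgroup G).subgroupOf H)).IsConstrained 2 := by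
  obtain ⟨hsyl, -, Q₀, hn, hc⟩ := subnormal_constrained_aux S hF hH
  have e : ((S : Subgroup G) ⊓ H).subgroupOf H = (S : Subgroup G).subgroupOf H :=
    Subgroup.inf_subgroupOf_right _ _
  have hn' := isNormal_subgroupOf inf_le_right hn
  have hc' := isCentric_subgroupOf inf_le_right hc
  rw [e] at hn' hc'
  obtain ⟨R, hR⟩ := hsyl
  rw [e] at hR
  have hsat : (Cfsg.groupFusionSystem ((S : Subgroup G).subgroupOf H)).IsSaturated 2 :=
    hR ▸ Cfsg.Agent.S5076.result 2 R
  exact ⟨hsat, _, hn', hc'⟩

end Cfsg.Agent.S5115
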