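import Cfsg.Statements.S5125
import Cfsg.Agent.Lib.Helper85.ChainP

set_option autoImplicit false
open Cfsg

namespace Cfsg.Agent.S5125

open Cfsg.FusionSystem Cfsg.Agent.Lib.Helper87 Cfsg.Agent.Lib.Helper85
open scoped commutatorElement

/-- The chain `R ≥ R ∩ Q ≥ R ∩ Q₁`. -/
def chain3 {Ω : Type*} [Group Ω] (R Q Q₁ : Subgroup Ω) : ℕ → Subgroup R
  | 0 => ⊤
  | 1 => Q.subgroupOf R
  | (_ + 2) => Q₁.subgroupOf R

/-- Let F be a saturated fusion system over a finite p-group S and Q a subgroup strongly closed in F. If Q has a subgroup Q₁ that is normal in F, with Q/Q₁ abelian and Aut_F(Q₁) a p-group, then Q is normal in F. -/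
theorem result {Ω : Type*} [Group Ω] {S : Subgroup Ω} [Finite S] (p : ℕ) [Fact p.Prime] (hS : IsPGroup p S) (F : Cfsg.FusionSystem S) (hF : F.IsSaturated p) (Q Q₁ : Subgroup Ω) (hQ : F.StronglyClosed Q) (hQ₁Q : Q₁ ≤ Q) (hQ₁ : F.IsNormal Q₁) (hab : ⁅Q, Q⁆ ≤ Q₁) (hAut : IsPGroup p ↥(F.autGroup Q₁)) : F.IsNormal Q := by
  have hQwc : F.WeaklyClosed Q := weaklyClosed_of_stronglyClosed F hQ
  have hQS : Q ≤ S := hQ.1
  have hSNQ : S ≤ Subgroup.normalizer (Q : Set Ω) := weaklyClosed_le_normalizer F hQwc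
  have hQ₁sc : F.StronglyClosed Q₁ := stronglyClosed_of_isNormal F hQ₁
  have hQ₁S : Q₁ ≤ S := hQ₁.1
  apply isNormal_of_weaklyClosed_of_le_alperin hS F hF hQwc
  intro R hR
  have hRS : R ≤ S := hR.1.1
  have hcen : F.IsCentric R := hR.2.2.1
  have hrad : F.IsRadical p R := hR.2.2.2
  have hcenR : centralizerIn S R ≤ R := hcen.2 R (isConj_refl F hRS)
  have hQ₁R : Q₁ ≤ R := isNormal_le_centric_radical hS F hQ₁ hcen hrad
  apply le_of_normalizer_inf_le hS hRS hQS hSNQ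
  rintro g ⟨hgQ, hgN⟩
  have hgS : g ∈ S := hQS hgQ
  have hα : conjAut R g hgN ∈ F.autGroup R :=
    autInducedBy_le_autGroup F hRS (conjAut_mem_autInducedBy hgS hgN)
  -- invariance of strongly closed subgroups under Aut_F(R)
  have hscinv : ∀ (D : Subgroup Ω), F.StronglyClosed D → ∀ γ ∈ F.autGroup R,
      ∀ x : R, (x : Ω) ∈ D → ((γ x : R) : Ω) ∈ D := by
    intro D hD γ hγ x hxD
    have hγ' := (mem_autGroup_iff F hRS γ).mp hγ
    have hφ := restrict_mem F hγ' (inf_le_left : R ⊓ D ≤ R)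
    exact hD.2 (R ⊓ D) inf_le_right _ hφ ⟨x, x.2, hxD⟩
  have hinv : ∀ γ ∈ F.autGroup R, ∀ i, ∀ x ∈ chain3 R Q Q₁ i, γ x ∈ chain3 R Q Q₁ i := by
    intro γ hγ i
    match i with
    | 0 => intro x _; exact Subgroup.mem_top _
    | 1 =>
      intro x hx
      exact Subgroup.mem_subgroupOf.mpr (hscinv Q hQ γ hγ x (Subgroup.mem_subgroupOf.mp hx))
    | (i + 2) =>
      intro x hx
      exact Subgroup.mem_subgroupOf.mpr (hscinv Q₁ hQ₁sc γ hγ x (Subgroup.mem_subgroupOf.mp hx))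
  have hαC : ∀ i < 2, ∀ x ∈ chain3 R Q Q₁ i,
      x⁻¹ * conjAut R g hgN x ∈ chain3 R Q Q₁ (i + 1) := by
    intro i hi
    have hcoe : ∀ x : R, ((x⁻¹ * conjAut R g hgN x : R) : Ω) = ⁅(x : Ω)⁻¹, g⁆ := by
      intro x
      rw [commutatorElement_def]
      show (x : Ω)⁻¹ * (g * x * g⁻¹) = _
      group
    match i with
    | 0 =>
      intro x _
      apply Subgroup.mem_subgroupOf.mpr
      rw [hcoe, commutatorElement_def]
      have h1 : (x : Ω)⁻¹ * g * ((x : Ω)⁻¹)⁻¹ ∈ Q :=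
        (Subgroup.mem_normalizer_iff.mp (hSNQ (S.inv_mem (hRS x.2))) g).mp hgQ
      exact Q.mul_mem h1 (Q.inv_mem hgQ)
    | 1 =>
      intro x hx
      have hxQ : (x : Ω) ∈ Q := Subgroup.mem_subgroupOf.mp hx
      apply Subgroup.mem_subgroupOf.mpr
      rw [hcoe]
      apply hab
      exact Subgroup.commutator_mem_commutator (Q.inv_mem hxQ) hgQ
  have hbot : ∀ γ ∈ F.autGroup R, ∀ m : ℕ, m.Coprime p → γ ^ m = 1 →
      ∀ x ∈ chain3 R Q Q₁ 2, γ x = x := by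
    intro γ hγ m hm hγm x hx
    have hxQ₁ : (x : Ω) ∈ Q₁ := Subgroup.mem_subgroupOf.mp hx
    have hγi : γ⁻¹ ∈ F.autGroup R := (F.autGroup R).inv_mem hγ
    have h : ∀ y : Q₁, ((γ ⟨y, hQ₁R y.2⟩ : R) : Ω) ∈ Q₁ :=
      fun y => hscinv Q₁ hQ₁sc γ hγ ⟨y, hQ₁R y.2⟩ y.2
    have h' : ∀ y : Q₁, ((γ.symm ⟨y, hQ₁R y.2⟩ : R) : Ω) ∈ Q₁ :=
      fun y => hscinv Q₁ hQ₁sc γ⁻¹ hγi ⟨y, hQ₁R y.2⟩ y.2
    set γ₁ := restrictAut hQ₁R γ h h' with hγ₁def
    have hγ₁ : γ₁ ∈ F.autGroup Q₁ := by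
      rw [mem_autGroup_iff F hQ₁S]
      have hγ' := (mem_autGroup_iff F hRS γ).mp hγ
      have := restrict_mem F hγ' hQ₁R
      have e : Q₁.subtype.comp γ₁.toMonoidHom =
          (R.subtype.comp γ.toMonoidHom).comp (Subgroup.inclusion hQ₁R) := by
        ext y
        rfl
      rw [e]
      exact this
    have hγ₁m : γ₁ ^ m = 1 := by
      ext y
      rw [restrictAut_pow, hγm]
      rfl
    obtain ⟨a, ha⟩ := hAut ⟨γ₁, hγ₁⟩
    have hγ₁p : γ₁ ^ (p ^ a) = 1 := by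
      have := congrArg Subtype.val ha
      simpa using this
    have hone : γ₁ = 1 := by
      have h1 : orderOf γ₁ ∣ m := orderOf_dvd_of_pow_eq_one hγ₁m
      have h2 : orderOf γ₁ ∣ p ^ a := orderOf_dvd_of_pow_eq_one hγ₁p
      have hd : orderOf γ₁ ∣ Nat.gcd m (p ^ a) := Nat.dvd_gcd h1 h2
      have hc : Nat.gcd m (p ^ a) = 1 := Nat.Coprime.pow_right a hm
      rw [hc] at hd
      exact orderOf_eq_one_iff.mp (Nat.dvd_one.mp hd)
    apply Subtype.ext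
    have := restrictAut_coe hQ₁R γ h h' ⟨x, hxQ₁⟩
    rw [← hγ₁def, hone] at this
    exact this.symm
  have hinn := stabilizer_le_inn' hS F hRS hrad 2 (chain3 R Q Q₁) rfl hbot hinv hα hαC
  obtain ⟨r, hr⟩ := hinn
  have hcen' : (r : Ω)⁻¹ * g ∈ centralizerIn S R := by
    refine ⟨S.mul_mem (S.inv_mem (hRS r.2)) hgS, ?_⟩
    intro x hx
    have h1 : ((MulAut.conj r ⟨x, hx⟩ : R) : Ω) = ((conjAut R g hgN ⟨x, hx⟩ : R) : Ω) := by
      rw [hr]
    have h2 : (r : Ω) * x * (r : Ω)⁻¹ = g * x * g⁻¹ := h1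
    calc x * ((r : Ω)⁻¹ * g) = (r : Ω)⁻¹ * ((r : Ω) * x * (r : Ω)⁻¹) * g := by group
      _ = (r : Ω)⁻¹ * (g * x * g⁻¹) * g := by rw [h2]
      _ = (r : Ω)⁻¹ * g * x := by group
  have hcenR' := hcenR hcen'
  have : g = (r : Ω) * ((r : Ω)⁻¹ * g) := by group
  rw [this]
  exact R.mul_mem r.2 hcenR'

end Cfsg.Agent.S5125
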