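import Cfsg.Statements.S5126
import Cfsg.Agent.S5098
import Cfsg.Agent.Lib.Helper85.Model
import Cfsg.Agent.Lib.Helper87.NormalizerSystem

set_option autoImplicit false
open Cfsg

namespace Cfsg.Agent.S5126

open Cfsg.FusionSystem Cfsg.Agent.Lib.Helper87 Cfsg.Agent.Lib.Helper85

variable {Ω : Type*} [Group Ω] {S : Subgroup Ω}

/-- a map of the normalizer system defined on `R` has range `R` -/
theorem range_eq_of_normalizerHom (F : FusionSystem S) {R : Subgroup Ω} {φ : R →* Ω}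
    (hφ : φ ∈ F.normalizerHom R R) : φ.range = R := by
  obtain ⟨-, -, -, ψ, -, hψP, hψR⟩ := hφ
  apply le_antisymm
  · rintro _ ⟨x, rfl⟩
    rw [← hψP x]
    exact hψR.le ⟨_, Subgroup.mem_subgroupOf.mpr x.2, rfl⟩
  · intro y hy
    obtain ⟨z, hz, rfl⟩ := hψR.ge hy
    have hzR : (z : Ω) ∈ R := Subgroup.mem_subgroupOf.mp hz
    refine ⟨⟨z, hzR⟩, ?_⟩
    rw [← hψP ⟨z, hzR⟩]
    rfl

/-- `R` is normal in its normalizer system -/
theorem isNormal_normalizerSystem (F : FusionSystem S) {R : Subgroup Ω} (hRS : R ≤ S)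
    (E : FusionSystem (normalizerIn S R)) (hE : F.IsNormalizerSystem R E) : E.IsNormal R := by
  have hRN : R ≤ normalizerIn S R := le_normalizerIn hRS
  refine ⟨hRN, fun P φ hφ => ?_⟩
  rw [hE] at hφ
  obtain ⟨hφF, hPN, hφN, ψ, hψ, hψP, hψR⟩ := hφ
  refine ⟨ψ, ?_, hψP, hψR⟩
  rw [hE]
  have hsupN : P ⊔ R ≤ normalizerIn S R := sup_le hPN hRN
  refine ⟨hψ, hsupN, ?_, ?_⟩
  · let C : Subgroup ↥(P ⊔ R) := (normalizerIn S R).comap ψ
    apply forall_sup_of_subgroup C
    · intro x hx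
      show ψ ⟨x, _⟩ ∈ normalizerIn S R
      have := hψP ⟨x, hx⟩
      have e : (Subgroup.inclusion (le_sup_left : P ≤ P ⊔ R) ⟨x, hx⟩) =
          (⟨x, (le_sup_left : P ≤ P ⊔ R) hx⟩ : ↥(P ⊔ R)) := rfl
      rw [e] at this
      rw [this]
      exact hφN _
    · intro x hx
      show ψ ⟨x, _⟩ ∈ normalizerIn S R
      apply hRN
      exact hψR.le ⟨_, Subgroup.mem_subgroupOf.mpr hx, rfl⟩
  · have heq : P ⊔ R = (P ⊔ R) ⊔ R := by rw [sup_assoc, sup_idem]
    refine ⟨ψ.comp (Subgroup.inclusion heq.ge), cast_mem F heq hψ, fun x => rfl, ?_⟩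
    apply le_antisymm
    · rintro _ ⟨z, hz, rfl⟩
      have hzR : (z : Ω) ∈ R := Subgroup.mem_subgroupOf.mp hz
      exact hψR.le ⟨⟨z, (le_sup_right : R ≤ P ⊔ R) hzR⟩, Subgroup.mem_subgroupOf.mpr hzR, rfl⟩
    · intro y hy
      obtain ⟨z, hz, rfl⟩ := hψR.ge hy
      have hzR : (z : Ω) ∈ R := Subgroup.mem_subgroupOf.mp hz
      exact ⟨⟨z, (le_sup_right : R ≤ (P ⊔ R) ⊔ R) hzR⟩, Subgroup.mem_subgroupOf.mpr hzR, rfl⟩

/-- `Aut_E(R) = Aut_F(R)` for the normalizer system `E` of `R`. -/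
theorem autGroup_normalizerSystem (F : FusionSystem S) {R : Subgroup Ω} (hRS : R ≤ S)
    (E : FusionSystem (normalizerIn S R)) (hE : F.IsNormalizerSystem R E) :
    E.autGroup R = F.autGroup R := by
  have hRN : R ≤ normalizerIn S R := le_normalizerIn hRS
  ext α
  rw [mem_autGroup_iff E hRN, mem_autGroup_iff F hRS, hE]
  constructor
  · intro h
    exact h.1
  · intro h
    refine ⟨h, hRN, fun x => hRN (α x).2, ?_⟩
    have heq : R = R ⊔ R := by rw [sup_idem]
    refine ⟨(R.subtype.comp α.toMonoidHom).comp (Subgroup.inclusion heq.ge), cast_mem F heq h,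
      fun x => rfl, ?_⟩
    apply le_antisymm
    · rintro _ ⟨z, -, rfl⟩
      exact (α _).2
    · intro y hy
      refine ⟨⟨((α⁻¹ ⟨y, hy⟩ : R) : Ω), (le_sup_left : R ≤ R ⊔ R) (α⁻¹ ⟨y, hy⟩).2⟩,
        Subgroup.mem_subgroupOf.mpr (α⁻¹ ⟨y, hy⟩).2, ?_⟩
      show ((α (α⁻¹ ⟨y, hy⟩) : R) : Ω) = y
      rw [MulAut.apply_inv_self]

/-- In a saturated fusion system over a finite p-group S, the normalizer system of a fully normalized, centric, radical subgroup R is constrained, and in every model of that normalizer system the largest normal p-subgroup is the image of R. -/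
theorem result {Ω : Type*} [Group Ω] {S : Subgroup Ω} [Finite S] (p : ℕ) [Fact p.Prime] (hS : IsPGroup p S) (F : Cfsg.FusionSystem S) (hF : F.IsSaturated p) (R : Subgroup Ω) (hRn : F.IsFullyNormalized R) (hRc : F.IsCentric R) (hRr : F.IsRadical p R) (E : Cfsg.FusionSystem (Cfsg.FusionSystem.normalizerIn S R)) (hE : F.IsNormalizerSystem R E) {G : Type*} [Group G] (ι : ↥(Cfsg.FusionSystem.normalizerIn S R) →* G) : E.IsConstrained p ∧ (E.IsModel p G ι → (Cfsg.pCore p G : Subgroup G) = (R.subgroupOf (Cfsg.FusionSystem.normalizerIn S R)).map ι) := by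
  have hRS : R ≤ S := hRc.1
  have hRN : R ≤ normalizerIn S R := le_normalizerIn hRS
  have hNS : normalizerIn S R ≤ S := inf_le_left
  haveI : Finite ↥(normalizerIn S R) := finite_of_le hNS
  have hNp : IsPGroup p ↥(normalizerIn S R) := hS.to_le hNS
  have hEsat : E.IsSaturated p := Cfsg.Agent.S5098.result p hS F hF R hRn E hE
  have hEN : E.IsNormal R := isNormal_normalizerSystem F hRS E hE
  have hcent : centralizerIn (normalizerIn S R) R ≤ R := by
    refine le_trans ?_ (hRc.2 R (isConj_refl F hRS))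
    exact fun x hx => ⟨hNS hx.1, hx.2⟩
  have hEc : E.IsCentric R := by
    refine ⟨hRN, fun Q' hconj => ?_⟩
    obtain ⟨φ, hφ, rfl⟩ := hconj
    rw [hE] at hφ
    rw [range_eq_of_normalizerHom F hφ]
    exact hcent
  refine ⟨⟨hEsat, R, hEN, hEc⟩, fun hm => ?_⟩
  have hErad : E.IsRadical p R := by
    refine ⟨hRN, ?_⟩
    rw [autGroup_normalizerSystem F hRS E hE]
    exact hRr.2
  apply le_antisymm
  · exact model_pCore_le_map E ι hNp hm hRN inf_le_right hcent hErad
  · exact model_map_le_pCore E ι hm hEN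

end Cfsg.Agent.S5126
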