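import Cfsg.Statements.S5130
import Cfsg.Agent.Lib.Helper85.DirectFactor3
import Cfsg.Agent.Lib.Helper84.KSatMain
import Cfsg.Agent.Lib.Helper84.CentralizerSystem

set_option autoImplicit false
open Cfsg

namespace Cfsg.Agent.S5130


open Cfsg.FusionSystem Cfsg.Agent.Lib.Helper85 in
/-- Extension condition for `C_F(S₂)|_{S₁}` inside `F`. -/
theorem ext_cond_F {Ω : Type*} [Group Ω] {S : Subgroup Ω} [Finite S] (F : Cfsg.FusionSystem S)
    {S₁ S₂ : Subgroup Ω} (hprod : Cfsg.IsInternalDirectProduct S₁ S₂ S)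
    {α : MulAut S₁} (hα : S₁.subtype.comp α.toMonoidHom ∈ F.centralizerHom S₂ S₁) :
    ∃ β ∈ F.autGroup (S₁ ⊔ centralizerIn S S₁),
      (∀ x : S₁, ((β (Subgroup.inclusion le_sup_left x) : ↥(S₁ ⊔ centralizerIn S S₁)) : Ω) =
        ((α x : S₁) : Ω)) ∧
      ∀ c : ↥(S₁ ⊔ centralizerIn S S₁), (c : Ω) ∈ centralizerIn S S₁ →
        (c : Ω)⁻¹ * ((β c : ↥(S₁ ⊔ centralizerIn S S₁)) : Ω) ∈
          S₁ ⊓ Subgroup.centralizer (S₁ : Set Ω) := by
  obtain ⟨-, -, -, ψ, hψ, hψe, hψz⟩ := hα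
  have hS₁S : S₁ ≤ S := hprod.1
  have hS₂S : S₂ ≤ S := hprod.2.1
  have hcomm := hprod.2.2.1
  have hsup : S₁ ⊔ S₂ = S := hprod.2.2.2.2
  have hS₂c : S₂ ≤ centralizerIn S S₁ := fun b hb =>
    ⟨hS₂S hb, Subgroup.mem_centralizer_iff.mpr (fun a ha => hcomm a ha b hb)⟩
  have hMS : S₁ ⊔ centralizerIn S S₁ = S :=
    le_antisymm (sup_le hS₁S (Cfsg.Agent.Lib.Helper87.centralizerIn_le S S₁))
      (hsup.ge.trans (sup_le le_sup_left (hS₂c.trans le_sup_right)))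
  have hM : S₁ ⊔ S₂ = S₁ ⊔ centralizerIn S S₁ := hsup.trans hMS.symm
  have hψ' := Cfsg.Agent.Lib.Helper87.cast_mem F hM hψ
  haveI : Finite ↥(S₁ ⊔ centralizerIn S S₁) :=
    Finite.of_injective _ (Subgroup.inclusion_injective hMS.le)
  obtain ⟨β, hβ, hβe⟩ := Cfsg.Agent.Lib.Helper87.exists_aut_of_hom F hψ'
    (fun z => hMS.ge (Cfsg.Agent.Lib.Helper87.hom_mem_S F hψ' z))
  refine ⟨β, hβ, fun x => ?_, fun c hc => ?_⟩
  · rw [hβe]
    exact hψe x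
  · rw [hβe]
    obtain ⟨a, ha, b, hb, hab⟩ := prod_decomp hprod (c : Ω) hc.1
    have hbc : b ∈ Subgroup.centralizer (S₁ : Set Ω) := (hS₂c hb).2
    have hac : a ∈ Subgroup.centralizer (S₁ : Set Ω) := by
      have : a = (c : Ω) * b⁻¹ := by rw [hab]; group
      rw [this]
      exact Subgroup.mul_mem _ hc.2 (Subgroup.inv_mem _ hbc)
    have e1 : (Subgroup.inclusion hM.ge c : ↥(S₁ ⊔ S₂)) =
        Subgroup.inclusion le_sup_left (⟨a, ha⟩ : S₁) *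
          Subgroup.inclusion le_sup_right (⟨b, hb⟩ : S₂) := Subtype.ext hab
    have e2 : (ψ.comp (Subgroup.inclusion hM.ge)) c = ((α ⟨a, ha⟩ : S₁) : Ω) * b := by
      show ψ (Subgroup.inclusion hM.ge c) = _
      rw [e1, map_mul, hψe, hψz]
      rfl
    rw [e2, hab]
    have hαa : ((α ⟨a, ha⟩ : S₁) : Ω) ∈ Subgroup.centralizer (S₁ : Set Ω) :=
      aut_mem_centralizer α hac
    have hcomm2 : ((α ⟨a, ha⟩ : S₁) : Ω) * b = b * ((α ⟨a, ha⟩ : S₁) : Ω) :=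
      hcomm _ (α ⟨a, ha⟩).2 b hb
    have e3 : (a * b)⁻¹ * (((α ⟨a, ha⟩ : S₁) : Ω) * b) = a⁻¹ * ((α ⟨a, ha⟩ : S₁) : Ω) := by
      rw [hcomm a ha b hb, hcomm2]; group
    rw [e3]
    exact ⟨S₁.mul_mem (S₁.inv_mem ha) (α ⟨a, ha⟩).2,
      Subgroup.mul_mem _ (Subgroup.inv_mem _ hac) hαa⟩

open Cfsg.FusionSystem Cfsg.Agent.Lib.Helper85 in
/-- Extension condition inside a system over `S₁` itself. -/
theorem ext_cond_R {Ω : Type*} [Group Ω] {S₁ : Subgroup Ω} [Finite S₁] (R : Cfsg.FusionSystem S₁)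
    {α : MulAut S₁} (hα : S₁.subtype.comp α.toMonoidHom ∈ R.Hom S₁) :
    ∃ β ∈ R.autGroup (S₁ ⊔ centralizerIn S₁ S₁),
      (∀ x : S₁, ((β (Subgroup.inclusion le_sup_left x) : ↥(S₁ ⊔ centralizerIn S₁ S₁)) : Ω) =
        ((α x : S₁) : Ω)) ∧
      ∀ c : ↥(S₁ ⊔ centralizerIn S₁ S₁), (c : Ω) ∈ centralizerIn S₁ S₁ →
        (c : Ω)⁻¹ * ((β c : ↥(S₁ ⊔ centralizerIn S₁ S₁)) : Ω) ∈
          S₁ ⊓ Subgroup.centralizer (S₁ : Set Ω) := by
  have hM : S₁ = S₁ ⊔ centralizerIn S₁ S₁ :=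
    le_antisymm le_sup_left (sup_le le_rfl inf_le_left)
  have hψ' := Cfsg.Agent.Lib.Helper87.cast_mem R hM hα
  haveI : Finite ↥(S₁ ⊔ centralizerIn S₁ S₁) :=
    Finite.of_injective _ (Subgroup.inclusion_injective hM.ge)
  obtain ⟨β, hβ, hβe⟩ := Cfsg.Agent.Lib.Helper87.exists_aut_of_hom R hψ'
    (fun z => hM.le (Cfsg.Agent.Lib.Helper87.hom_mem_S R hψ' z))
  refine ⟨β, hβ, fun x => ?_, fun c hc => ?_⟩
  · rw [hβe]
    rfl
  · rw [hβe]
    have hαc : ((α ⟨c, hc.1⟩ : S₁) : Ω) ∈ Subgroup.centralizer (S₁ : Set Ω) :=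
      aut_mem_centralizer α (a := ⟨c, hc.1⟩) hc.2
    exact ⟨S₁.mul_mem (S₁.inv_mem hc.1) (α ⟨c, hc.1⟩).2,
      Subgroup.mul_mem _ (Subgroup.inv_mem _ hc.2) hαc⟩

/-- Let F be a saturated fusion system over a finite p-group S that is the direct product of two subgroups S₁ and S₂, each strongly closed in F. Let R be the full subsystem of F over S₁ (all maps of F between subgroups of S₁) and R′ the subsystem over S₁ of those maps that extend to the subgroup generated with S₂ fixing S₂ elementwise. Then R and R′ are saturated, R′ is normal in F and in R, and R is weakly normal in F. -/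
theorem result {Ω : Type*} [Group Ω] {S : Subgroup Ω} [Finite S] (p : ℕ) [Fact p.Prime] (hS : IsPGroup p S) (F : Cfsg.FusionSystem S) (hF : F.IsSaturated p) (S₁ S₂ : Subgroup Ω) (hprod : Cfsg.IsInternalDirectProduct S₁ S₂ S) (h₁ : F.StronglyClosed S₁) (h₂ : F.StronglyClosed S₂) (R R' : Cfsg.FusionSystem S₁) (hR : ∀ P : Subgroup Ω, P ≤ S₁ → R.Hom P = F.Hom P) (hR' : ∀ P : Subgroup Ω, P ≤ S₁ → R'.Hom P = F.centralizerHom S₂ P) : R.IsSaturated p ∧ R'.IsSaturated p ∧ R'.IsNormalIn F p ∧ R'.IsNormalIn R p ∧ R.IsWeaklyNormalIn F p := by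
  classical
  have hdec₁ := Cfsg.Agent.Lib.Helper85.decomp_left_of_prod hprod
  have hdec₂ := Cfsg.Agent.Lib.Helper85.decomp_right_of_prod hprod
  have hcomm := hprod.2.2.1
  haveI : Finite S₁ := Finite.of_injective _ (Subgroup.inclusion_injective h₁.1)
  have hS₁c : S₁ ≤ Cfsg.FusionSystem.centralizerIn S S₂ :=
    Cfsg.Agent.Lib.Helper85.le_centralizerIn_of_comm h₁.1 hcomm
  -- saturation of R
  have hRsat : R.IsSaturated p :=
    Cfsg.Agent.Lib.Helper85.isSaturated_full_of_decomp F hF h₁ hdec₁ R hR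
  -- saturation of R'
  have hR'sat : R'.IsSaturated p := by
    have hCspec := Cfsg.Agent.Lib.Helper84.centralizerSystem_spec F S₂ h₂.1
    have hfc : F.IsFullyCentralized S₂ := by
      refine ⟨h₂.1, fun Q hQ => ?_⟩
      obtain ⟨φ, hφ, hr⟩ := hQ
      have := (Cfsg.Agent.Lib.Helper87.weaklyClosed_of_stronglyClosed F h₂).2 φ hφ
      rw [← hr, this]
    have hCsat := Cfsg.Agent.Lib.Helper84.KN.centralizerSystem_isSaturated hS F hF hfc hCspec
    have hCsc : (Cfsg.Agent.Lib.Helper84.centralizerSystem F S₂ h₂.1).StronglyClosed S₁ := by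
      refine ⟨hS₁c, fun Q hQ φ hφ x => ?_⟩
      rw [hCspec Q] at hφ
      exact h₁.2 Q hQ φ hφ.1 x
    have hdecC : Cfsg.Agent.Lib.Helper85.DecompCentral (Cfsg.FusionSystem.centralizerIn S S₂) S₁ :=
      fun g hg => hdec₁ g hg.1
    exact Cfsg.Agent.Lib.Helper85.isSaturated_full_of_decomp _ hCsat hCsc hdecC R'
      (fun P hP => by rw [hR' P hP, hCspec P])
  -- subsystem relations
  have hRF : R.IsSubsystemOf F := by
    intro P φ hφ
    have hP := Cfsg.Agent.Lib.Helper87.hom_le R hφ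
    rw [hR P hP] at hφ
    exact hφ
  have hR'F : R'.IsSubsystemOf F := by
    intro P φ hφ
    have hP := Cfsg.Agent.Lib.Helper87.hom_le R' hφ
    rw [hR' P hP] at hφ
    exact hφ.1
  have hR'R : R'.IsSubsystemOf R := by
    intro P φ hφ
    have hP := Cfsg.Agent.Lib.Helper87.hom_le R' hφ
    rw [hR P hP]
    exact hR'F P hφ
  have hautR : R.autGroup S₁ = F.autGroup S₁ :=
    Cfsg.Agent.Lib.Helper85.autGroup_congr_hom F R (hR S₁ le_rfl)
  have hRsc : R.StronglyClosed S₁ :=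
    ⟨le_rfl, fun Q _ φ hφ x => Cfsg.Agent.Lib.Helper87.hom_mem_S R hφ x⟩
  have himg : ∀ (P : Subgroup Ω) (α : MulAut S₁),
      (P.subgroupOf S₁).map (S₁.subtype.comp α.toMonoidHom) ≤ S₁ := by
    rintro P α _ ⟨y, -, rfl⟩
    exact (α y).2
  -- invariance and Frattini for R'
  have hinv' : ∀ (P : Subgroup Ω) (hPT : P ≤ S₁) (φ : P →* Ω), φ ∈ R'.Hom P →
      ∀ α ∈ F.autGroup S₁,
      ∃ χ ∈ R'.Hom ((P.subgroupOf S₁).map (S₁.subtype.comp α.toMonoidHom)),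
        ∀ (x : P) (hφx : φ x ∈ S₁)
          (hαx : ((α ⟨x, hPT x.2⟩ : S₁) : Ω) ∈
            (P.subgroupOf S₁).map (S₁.subtype.comp α.toMonoidHom)),
          χ ⟨(α ⟨x, hPT x.2⟩ : S₁), hαx⟩ = ((α ⟨φ x, hφx⟩ : S₁) : Ω) := by
    intro P hPT φ hφ α hα
    rw [hR' P hPT] at hφ
    rw [hR' _ (himg P α)]
    exact Cfsg.Agent.Lib.Helper85.invariance_centralizerHom hS F hF h₁ h₂ hcomm hdec₁ hPT hφ hα
  have hfrat' : ∀ (P : Subgroup Ω), P ≤ S₁ → ∀ (φ : P →* Ω), φ ∈ F.Hom P →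
      ∃ α ∈ F.autGroup S₁, ∃ φ₀ ∈ R'.Hom P,
        ∀ (x : P) (hx : φ₀ x ∈ S₁), φ x = ((α ⟨φ₀ x, hx⟩ : S₁) : Ω) := by
    intro P hP φ hφ
    rw [hR' P hP]
    exact Cfsg.Agent.Lib.Helper85.frattini_centralizerHom hS F hF h₁ h₂ hcomm hdec₂ hP hφ
  refine ⟨hRsat, hR'sat, ⟨⟨hR'sat, hF, hR'F, h₁, hinv', hfrat'⟩, ?_⟩,
    ⟨⟨hR'sat, hRsat, hR'R, hRsc, ?_, ?_⟩, ?_⟩, hRsat, hF, hRF, h₁, ?_, ?_⟩
  · -- extension condition in F
    intro α hα
    have h := (Cfsg.Agent.Lib.Helper87.mem_autGroup_iff R' le_rfl α).mp hα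
    rw [hR' S₁ le_rfl] at h
    exact ext_cond_F F hprod h
  · -- invariance in R
    intro P hPT φ hφ α hα
    rw [hautR] at hα
    exact hinv' P hPT φ hφ α hα
  · -- Frattini in R
    intro P hP φ hφ
    rw [hR P hP] at hφ
    rw [hautR]
    exact hfrat' P hP φ hφ
  · -- extension condition in R
    intro α hα
    have h := (Cfsg.Agent.Lib.Helper87.mem_autGroup_iff R' le_rfl α).mp hα
    exact ext_cond_R R (hR'R S₁ h)
  · -- invariance of R in F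
    intro P hPT φ hφ α hα
    rw [hR P hPT] at hφ
    rw [hR _ (himg P α)]
    exact Cfsg.Agent.Lib.Helper85.invariance_full hS F hF h₁ hdec₁ hPT hφ hα
  · -- Frattini of R in F
    intro P hP φ hφ
    refine ⟨1, Subgroup.one_mem _, φ, by rw [hR P hP]; exact hφ, fun x hx => rfl⟩

end Cfsg.Agent.S5130
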