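import Cfsg.Statements.S5135
import Cfsg.Agent.Lib.Helper85.GroupFusion

set_option autoImplicit false
open Cfsg

namespace Cfsg.Agent.S5135

open Cfsg.Agent.Lib.Helper85 Cfsg.FusionSystem

/-- Let G be a finite group, S a Sylow p-subgroup and H a normal subgroup of G. Then the fusion system of G/H on the image SH/H of S is the factor system of the fusion system of G on S modulo S ∩ H, read through the quotient map restricted to S: for each subgroup P' of SH/H, the conjugation maps by elements of G/H defined on P' with values in SH/H are exactly the homomorphisms induced by the conjugation maps by elements of G defined on the full preimage of P' in S with values in S. -/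
theorem result {G : Type*} [Group G] [Finite G] (p : ℕ) [Fact p.Prime] (S : Sylow p G) (H : Subgroup G) [H.Normal] : (Cfsg.groupFusionSystem (S : Subgroup G)).IsFactorSystem ((S : Subgroup G) ⊓ H) ((QuotientGroup.mk' H).comp (S : Subgroup G).subtype) (Cfsg.groupFusionSystem ((S : Subgroup G).map (QuotientGroup.mk' H))) := by
  set θ : (S : Subgroup G) →* G ⧸ H := (QuotientGroup.mk' H).comp (S : Subgroup G).subtype with hθ
  have hθapp : ∀ s : (S : Subgroup G), θ s = QuotientGroup.mk' H (s : G) := fun s => rfl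
  refine ⟨inf_le_left, fun s => ?_, ?_, ?_⟩
  · rw [hθapp, QuotientGroup.mk'_apply, QuotientGroup.eq_one_iff]
    exact ⟨fun h => ⟨s.2, h⟩, fun h => h.2⟩
  · rw [hθ, MonoidHom.range_comp, Subgroup.range_subtype]
  · intro P' φ'
    have hPS : preimageAlong θ P' ≤ (S : Subgroup G) := Subgroup.map_subtype_le _
    have hmemP : ∀ x : preimageAlong θ P', θ ⟨x, hPS x.2⟩ ∈ P' := by
      rintro ⟨x, s, hs, rfl⟩
      exact hs
    constructor
    · rintro ⟨hP'S, hφ'S, gbar, hgbar⟩
      refine ⟨hP'S, ?_⟩
      obtain ⟨g, rfl⟩ := QuotientGroup.mk'_surjective H gbar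
      set P := preimageAlong θ P' with hP
      -- conjugate of P by g lies in S ⊔ H
      have hPg : P.map (cj g) ≤ (S : Subgroup G) ⊔ H := by
        rintro _ ⟨x, hx, rfl⟩
        have h1 : QuotientGroup.mk' H (cj g x) ∈ (S : Subgroup G).map (QuotientGroup.mk' H) := by
          have h2 := hφ'S ⟨θ ⟨x, hPS hx⟩, hmemP ⟨x, hx⟩⟩
          rw [hgbar] at h2
          simpa [cj_apply, hθapp] using h2
        have h3 : cj g x ∈ ((S : Subgroup G).map (QuotientGroup.mk' H)).comap (QuotientGroup.mk' H) := h1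
        rw [Subgroup.comap_map_eq, QuotientGroup.ker_mk'] at h3
        exact h3
      have hPgp : IsPGroup p (P.map (cj g)) := (S.isPGroup'.to_le hPS).map _
      have hSyl : SylIn p (S : Subgroup G) ((S : Subgroup G) ⊔ H) :=
        (sylIn_top S).of_le le_sup_left le_top
      obtain ⟨y, hy, hyle⟩ := hSyl.exists_conj_le hPg hPgp
      have hSN : (S : Subgroup G) ≤ Subgroup.normalizer (H : Set G) := by
        rw [Subgroup.normalizer_eq_top]; exact le_top
      obtain ⟨s, hs, h, hh, rfl⟩ := mem_sup_of_le_normalizer hSN hy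
      have hval : ∀ x : P, h * g * (x : G) * (h * g)⁻¹ ∈ (S : Subgroup G) := by
        intro x
        have h1 : cj (s * h) (cj g x) ∈ (S : Subgroup G) := hyle ⟨cj g x, ⟨x, x.2, rfl⟩, rfl⟩
        have h2 : h * g * (x : G) * (h * g)⁻¹ = s⁻¹ * cj (s * h) (cj g x) * s := by
          simp only [cj_apply]; group
        rw [h2]
        exact mul_mem (mul_mem (inv_mem hs) h1) hs
      refine ⟨conjHom P (h * g), ⟨hPS, hval, h * g, fun _ => rfl⟩, hPS, hval, hmemP, fun x => ?_⟩
      rw [hgbar]
      have hh1 : (QuotientGroup.mk' H) h = 1 := by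
        rw [QuotientGroup.mk'_apply, QuotientGroup.eq_one_iff]; exact hh
      show (QuotientGroup.mk' H) g * (QuotientGroup.mk' H) (x : G) * ((QuotientGroup.mk' H) g)⁻¹ =
        (QuotientGroup.mk' H) (h * g * (x : G) * (h * g)⁻¹)
      simp only [map_mul, map_inv, hh1, one_mul, mul_inv_rev, inv_one, mul_one]
    · rintro ⟨hP'S, φ, ⟨-, hφS, g, hg⟩, hPS', hφS', hmem', hind⟩
      have key : ∀ x' : P', ∃ (s : G) (hs : s ∈ preimageAlong θ P'),
          (x' : G ⧸ H) = θ ⟨s, hPS hs⟩ := by
        intro x'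
        obtain ⟨s, hs, hsx⟩ := hP'S x'.2
        have h1 : θ ⟨s, hs⟩ ∈ P' := by
          rw [hθapp]; rw [hsx]; exact x'.2
        exact ⟨s, ⟨⟨s, hs⟩, h1, rfl⟩, hsx.symm⟩
      have hval : ∀ x' : P', φ' x' = (QuotientGroup.mk' H g) * (x' : G ⧸ H) * (QuotientGroup.mk' H g)⁻¹ ∧
          φ' x' ∈ (S : Subgroup G).map (QuotientGroup.mk' H) := by
        intro x'
        obtain ⟨s, hs, hsx⟩ := key x'
        have h1 := hind ⟨s, hs⟩
        have h2 : x' = ⟨θ ⟨s, hPS hs⟩, hmem' ⟨s, hs⟩⟩ := Subtype.ext hsx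
        rw [h2, h1]
        constructor
        · show (QuotientGroup.mk' H) (φ ⟨s, hs⟩) =
            (QuotientGroup.mk' H) g * (QuotientGroup.mk' H) s * ((QuotientGroup.mk' H) g)⁻¹
          rw [hg]
          simp only [map_mul, map_inv]
        · exact ⟨φ ⟨s, hs⟩, hφS' _, rfl⟩
      exact ⟨hP'S, fun x' => (hval x').2, QuotientGroup.mk' H g, fun x' => (hval x').1⟩

end Cfsg.Agent.S5135
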