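import Cfsg.Statements.S5136
import Cfsg.Agent.Lib.Helper87.FusionBasic

set_option autoImplicit false
open Cfsg

namespace Cfsg.Agent.S5136

open Cfsg.Agent.Lib.Helper87 Cfsg.FusionSystem

variable {Ω₁ Ω₂ : Type*} [Group Ω₁] [Group Ω₂]

/-- the homomorphism `(x₁, x₂) ↦ (φ₁ x₁, φ₂ x₂)` on `P`. -/
def prodHom (P : Subgroup (Ω₁ × Ω₂)) (φ₁ : P.map (MonoidHom.fst Ω₁ Ω₂) →* Ω₁)
    (φ₂ : P.map (MonoidHom.snd Ω₁ Ω₂) →* Ω₂) : P →* Ω₁ × Ω₂ :=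
  (φ₁.comp ((MonoidHom.fst Ω₁ Ω₂).subgroupMap P)).prod (φ₂.comp ((MonoidHom.snd Ω₁ Ω₂).subgroupMap P))

theorem prodHom_apply (P : Subgroup (Ω₁ × Ω₂)) (φ₁ : P.map (MonoidHom.fst Ω₁ Ω₂) →* Ω₁)
    (φ₂ : P.map (MonoidHom.snd Ω₁ Ω₂) →* Ω₂) (x : P)
    (h₁ : (x : Ω₁ × Ω₂).1 ∈ P.map (MonoidHom.fst Ω₁ Ω₂))
    (h₂ : (x : Ω₁ × Ω₂).2 ∈ P.map (MonoidHom.snd Ω₁ Ω₂)) :
    prodHom P φ₁ φ₂ x = (φ₁ ⟨(x : Ω₁ × Ω₂).1, h₁⟩, φ₂ ⟨(x : Ω₁ × Ω₂).2, h₂⟩) := rfl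

theorem fst_mem {P : Subgroup (Ω₁ × Ω₂)} (x : P) :
    (x : Ω₁ × Ω₂).1 ∈ P.map (MonoidHom.fst Ω₁ Ω₂) := ⟨x, x.2, rfl⟩

theorem snd_mem {P : Subgroup (Ω₁ × Ω₂)} (x : P) :
    (x : Ω₁ × Ω₂).2 ∈ P.map (MonoidHom.snd Ω₁ Ω₂) := ⟨x, x.2, rfl⟩

variable {S₁ : Subgroup Ω₁} {S₂ : Subgroup Ω₂}

/-- membership predicate for the product system -/
def prodHomSet (F₁ : FusionSystem S₁) (F₂ : FusionSystem S₂) (P : Subgroup (Ω₁ × Ω₂)) :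
    Set (P →* Ω₁ × Ω₂) :=
  {φ | P ≤ S₁.prod S₂ ∧
      ∃ φ₁ ∈ F₁.Hom (P.map (MonoidHom.fst Ω₁ Ω₂)), ∃ φ₂ ∈ F₂.Hom (P.map (MonoidHom.snd Ω₁ Ω₂)),
        ∀ (x : P) (h₁ : (x : Ω₁ × Ω₂).1 ∈ P.map (MonoidHom.fst Ω₁ Ω₂))
          (h₂ : (x : Ω₁ × Ω₂).2 ∈ P.map (MonoidHom.snd Ω₁ Ω₂)),
          φ x = (φ₁ ⟨(x : Ω₁ × Ω₂).1, h₁⟩, φ₂ ⟨(x : Ω₁ × Ω₂).2, h₂⟩)}

theorem map_fst_le {P : Subgroup (Ω₁ × Ω₂)} (hP : P ≤ S₁.prod S₂) :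
    P.map (MonoidHom.fst Ω₁ Ω₂) ≤ S₁ := by
  rintro _ ⟨x, hx, rfl⟩
  exact (hP hx).1

theorem map_snd_le {P : Subgroup (Ω₁ × Ω₂)} (hP : P ≤ S₁.prod S₂) :
    P.map (MonoidHom.snd Ω₁ Ω₂) ≤ S₂ := by
  rintro _ ⟨x, hx, rfl⟩
  exact (hP hx).2

theorem prodHom_mem (F₁ : FusionSystem S₁) (F₂ : FusionSystem S₂) {P : Subgroup (Ω₁ × Ω₂)}
    (hP : P ≤ S₁.prod S₂) {φ₁ : P.map (MonoidHom.fst Ω₁ Ω₂) →* Ω₁}
    {φ₂ : P.map (MonoidHom.snd Ω₁ Ω₂) →* Ω₂} (h₁ : φ₁ ∈ F₁.Hom _) (h₂ : φ₂ ∈ F₂.Hom _) :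
    prodHom P φ₁ φ₂ ∈ prodHomSet F₁ F₂ P :=
  ⟨hP, φ₁, h₁, φ₂, h₂, fun _ _ _ => rfl⟩

/-- the product fusion system -/
def prodSystem (F₁ : FusionSystem S₁) (F₂ : FusionSystem S₂) : FusionSystem (S₁.prod S₂) where
  Hom P := prodHomSet F₁ F₂ P
  le_of_mem := by
    rintro P φ ⟨hP, φ₁, h₁, φ₂, h₂, hφ⟩
    refine ⟨hP, fun x => ?_⟩
    rw [hφ x (fst_mem x) (snd_mem x)]
    exact ⟨(F₁.le_of_mem h₁).2 _, (F₂.le_of_mem h₂).2 _⟩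
  injective_of_mem := by
    rintro P φ ⟨hP, φ₁, h₁, φ₂, h₂, hφ⟩ x y hxy
    rw [hφ x (fst_mem x) (snd_mem x), hφ y (fst_mem y) (snd_mem y)] at hxy
    have e1 := F₁.injective_of_mem h₁ (congrArg Prod.fst hxy)
    have e2 := F₂.injective_of_mem h₂ (congrArg Prod.snd hxy)
    apply Subtype.ext
    exact Prod.ext (congrArg Subtype.val e1) (congrArg Subtype.val e2)
  conj_mem := by
    intro P g hP hg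
    refine ⟨hP, conjHom _ g.1, F₁.conj_mem (map_fst_le hP) hg.1,
      conjHom _ g.2, F₂.conj_mem (map_snd_le hP) hg.2, fun x _ _ => rfl⟩
  comp_mem := by
    rintro P Q φ ψ ⟨hP, φ₁, h₁, φ₂, h₂, hφ⟩ ⟨hQ, ψ₁, k₁, ψ₂, k₂, hψ⟩ h
    have m₁ : ∀ y : P.map (MonoidHom.fst Ω₁ Ω₂), φ₁ y ∈ Q.map (MonoidHom.fst Ω₁ Ω₂) := by
      rintro ⟨_, x, hx, rfl⟩
      refine ⟨φ ⟨x, hx⟩, h ⟨x, hx⟩, ?_⟩
      rw [hφ ⟨x, hx⟩ (fst_mem _) (snd_mem _)]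
      rfl
    have m₂ : ∀ y : P.map (MonoidHom.snd Ω₁ Ω₂), φ₂ y ∈ Q.map (MonoidHom.snd Ω₁ Ω₂) := by
      rintro ⟨_, x, hx, rfl⟩
      refine ⟨φ ⟨x, hx⟩, h ⟨x, hx⟩, ?_⟩
      rw [hφ ⟨x, hx⟩ (fst_mem _) (snd_mem _)]
      rfl
    refine ⟨hP, _, F₁.comp_mem h₁ k₁ m₁, _, F₂.comp_mem h₂ k₂ m₂, fun x a b => ?_⟩
    show ψ (φ.codRestrict Q h x) = _
    rw [hψ _ (fst_mem _) (snd_mem _)]
    have e := hφ x a b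
    apply Prod.ext
    · show ψ₁ _ = ψ₁ _
      congr 1
      apply Subtype.ext
      exact congrArg Prod.fst e
    · show ψ₂ _ = ψ₂ _
      congr 1
      apply Subtype.ext
      exact congrArg Prod.snd e
  inv_mem := by
    rintro P φ ⟨hP, φ₁, h₁, φ₂, h₂, hφ⟩
    have hrange : φ.range ≤ S₁.prod S₂ := by
      rintro _ ⟨x, rfl⟩
      rw [hφ x (fst_mem x) (snd_mem x)]
      exact ⟨(F₁.le_of_mem h₁).2 _, (F₂.le_of_mem h₂).2 _⟩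
    have e₁ : φ₁.range = φ.range.map (MonoidHom.fst Ω₁ Ω₂) := by
      ext y
      constructor
      · rintro ⟨⟨_, x, hx, rfl⟩, rfl⟩
        refine ⟨φ ⟨x, hx⟩, ⟨⟨x, hx⟩, rfl⟩, ?_⟩
        rw [hφ ⟨x, hx⟩ (fst_mem _) (snd_mem _)]
        rfl
      · rintro ⟨_, ⟨x, rfl⟩, rfl⟩
        refine ⟨⟨(x : Ω₁ × Ω₂).1, fst_mem x⟩, ?_⟩
        rw [hφ x (fst_mem _) (snd_mem _)]
        rfl
    have e₂ : φ₂.range = φ.range.map (MonoidHom.snd Ω₁ Ω₂) := by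
      ext y
      constructor
      · rintro ⟨⟨_, x, hx, rfl⟩, rfl⟩
        refine ⟨φ ⟨x, hx⟩, ⟨⟨x, hx⟩, rfl⟩, ?_⟩
        rw [hφ ⟨x, hx⟩ (fst_mem _) (snd_mem _)]
        rfl
      · rintro ⟨_, ⟨x, rfl⟩, rfl⟩
        refine ⟨⟨(x : Ω₁ × Ω₂).2, snd_mem x⟩, ?_⟩
        rw [hφ x (fst_mem _) (snd_mem _)]
        rfl
    obtain ⟨ψ₁, k₁, hinv₁⟩ := F₁.inv_mem h₁
    obtain ⟨ψ₂, k₂, hinv₂⟩ := F₂.inv_mem h₂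
    have k₁' := cast_mem F₁ e₁ k₁
    have k₂' := cast_mem F₂ e₂ k₂
    refine ⟨prodHom φ.range _ _, prodHom_mem F₁ F₂ hrange k₁' k₂', fun x => ?_⟩
    rw [prodHom_apply _ _ _ _ (fst_mem _) (snd_mem _)]
    have e := hφ x (fst_mem x) (snd_mem x)
    apply Prod.ext
    · show ψ₁ _ = _
      have := hinv₁ ⟨(x : Ω₁ × Ω₂).1, fst_mem x⟩
      refine Eq.trans ?_ this
      congr 1
      apply Subtype.ext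
      exact congrArg Prod.fst e
    · show ψ₂ _ = _
      have := hinv₂ ⟨(x : Ω₁ × Ω₂).2, snd_mem x⟩
      refine Eq.trans ?_ this
      congr 1
      apply Subtype.ext
      exact congrArg Prod.snd e

/-- Let F₁ and F₂ be fusion systems over finite p-groups S₁ and S₂ (inside ambient groups Ω₁ and Ω₂). Then their direct product exists: there is a fusion system over S₁ × S₂ inside Ω₁ × Ω₂ whose maps with source P ≤ S₁ × S₂ are exactly the restrictions to P of the homomorphisms (x₁, x₂) ↦ (φ₁ x₁, φ₂ x₂) with φ₁ a map of F₁ on the first projection of P and φ₂ a map of F₂ on the second projection. -/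
theorem result {Ω₁ Ω₂ : Type*} [Group Ω₁] [Group Ω₂] {S₁ : Subgroup Ω₁} {S₂ : Subgroup Ω₂} [Finite S₁] [Finite S₂] (p : ℕ) [Fact p.Prime] (h₁ : IsPGroup p S₁) (h₂ : IsPGroup p S₂) (F₁ : Cfsg.FusionSystem S₁) (F₂ : Cfsg.FusionSystem S₂) : ∃ E : Cfsg.FusionSystem (S₁.prod S₂), Cfsg.FusionSystem.IsProductSystem F₁ F₂ E := by
  exact ⟨prodSystem F₁ F₂, fun _ _ => Iff.rfl⟩

end Cfsg.Agent.S5136
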