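import Cfsg.Statements.S5137
import Cfsg.Agent.Lib.Helper91.ProdFusion

set_option autoImplicit false
open Cfsg

namespace Cfsg.Agent.S5137

/-- Let F₁ and F₂ be saturated fusion systems over finite p-groups S₁ and S₂. Then their direct product (the fusion system over S₁ × S₂ whose maps are the restrictions of the product maps (φ₁, φ₂)) is saturated. -/
theorem result {Ω₁ Ω₂ : Type*} [Group Ω₁] [Group Ω₂] {S₁ : Subgroup Ω₁} {S₂ : Subgroup Ω₂} [Finite S₁] [Finite S₂] (p : ℕ) [Fact p.Prime] (h₁ : IsPGroup p S₁) (h₂ : IsPGroup p S₂) (F₁ : Cfsg.FusionSystem S₁) (F₂ : Cfsg.FusionSystem S₂) (hF₁ : F₁.IsSaturated p) (hF₂ : F₂.IsSaturated p) (E : Cfsg.FusionSystem (S₁.prod S₂)) (hE : Cfsg.FusionSystem.IsProductSystem F₁ F₂ E) : E.IsSaturated p := by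
  open Cfsg.FusionSystem Cfsg.Agent.Lib.Helper87 Cfsg.Agent.Lib.Helper91 in
  intro P hP
  have hP₁ : P.map (MonoidHom.fst Ω₁ Ω₂) ≤ S₁ := by
    rintro _ ⟨x, hx, rfl⟩
    exact (Subgroup.mem_prod.mp (hP hx)).1
  have hP₂ : P.map (MonoidHom.snd Ω₁ Ω₂) ≤ S₂ := by
    rintro _ ⟨x, hx, rfl⟩
    exact (Subgroup.mem_prod.mp (hP hx)).2
  obtain ⟨Q₁, ⟨φ₁, hφ₁, hr₁⟩, hfa₁, hrec₁⟩ := hF₁ _ hP₁
  obtain ⟨Q₂, ⟨φ₂, hφ₂, hr₂⟩, hfa₂, hrec₂⟩ := hF₂ _ hP₂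
  have hφ : prodRes φ₁ φ₂ (le_prod_map P) ∈ E.Hom P := prodRes_mem hE hφ₁ hφ₂ _
  have e₁ : (prodRes φ₁ φ₂ (le_prod_map P)).range.map (MonoidHom.fst Ω₁ Ω₂) = Q₁ := by
    rw [range_prodRes_map_fst _ _ _ rfl, hr₁]
  have e₂ : (prodRes φ₁ φ₂ (le_prod_map P)).range.map (MonoidHom.snd Ω₁ Ω₂) = Q₂ := by
    rw [range_prodRes_map_snd _ _ _ rfl, hr₂]
  have hP'Q : (prodRes φ₁ φ₂ (le_prod_map P)).range ≤ Q₁.prod Q₂ := le_prod_of_map_eq e₁ e₂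
  obtain ⟨b, hb₁, hb₂, hfa⟩ := exists_fullyAutomized hE h₁ h₂ hfa₁ hfa₂ e₁ e₂ hP'Q
  refine ⟨(pairRes b hP'Q).range, ?_, hfa, ?_⟩
  · exact isConj_trans E ⟨_, hφ, rfl⟩ ⟨_, pairRes_mem hE hfa₁.1 hfa₂.1 hP'Q hb₁ hb₂, rfl⟩
  · exact isReceptive_of_proj hE hrec₁ hrec₂ (range_pairRes_map_fst b hP'Q e₁)
      (range_pairRes_map_snd b hP'Q e₂)

end Cfsg.Agent.S5137
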