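import Cfsg.Statements.S5139
import Cfsg.Agent.S5093
import Cfsg.Agent.S5199
import Cfsg.Agent.Lib.Helper84.HyperfocalGroup
import Cfsg.Agent.Lib.Helper85.RelSaturated
import Cfsg.Agent.Lib.Helper87.FusionBasic

set_option autoImplicit false
open Cfsg

namespace Cfsg.Agent.S5139

open Cfsg.Agent.Lib.Helper85 Cfsg.Agent.Lib.Helper87

/-- Let G be a finite group with Sylow p-subgroup S and O^p(G) the subgroup generated by the elements of order prime to p. Then the p-residual subsystem of the fusion system of G on S — the saturated subsystem of p-power index over the hyperfocal subgroup — is the fusion system of O^p(G) on S ∩ O^p(G): its maps are exactly the conjugation maps by elements of O^p(G) between subgroups of S ∩ O^p(G). -/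
theorem result {G : Type*} [Group G] [Finite G] (p : ℕ) [Fact p.Prime] (S : Sylow p G) (E : Cfsg.FusionSystem ((Cfsg.groupFusionSystem (S : Subgroup G)).hyperfocalSubgroup p)) (hE : (Cfsg.groupFusionSystem (S : Subgroup G)).IsPResidual p E) : ∃ h : (S : Subgroup G) ⊓ Cfsg.pResidual p G ≤ Cfsg.pResidual p G, ∀ P : Subgroup G, E.Hom P = (Cfsg.fusionSystemOfSubgroup (Cfsg.pResidual p G) ((S : Subgroup G) ⊓ Cfsg.pResidual p G) h).Hom P := by
  have hhyp : (Cfsg.groupFusionSystem (S : Subgroup G)).hyperfocalSubgroup p =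
      (S : Subgroup G) ⊓ Cfsg.pResidual p G := Cfsg.Agent.S5093.result p S
  refine ⟨inf_le_right, fun P => ?_⟩
  have hKn : (Cfsg.pResidual p G).Normal := pResidual_normal' p G
  have hNK : (⊤ : Subgroup G) ≤ Subgroup.normalizer ((Cfsg.pResidual p G : Subgroup G) : Set G) := by
    intro g _
    rw [Subgroup.mem_normalizer_iff]
    intro x
    constructor
    · intro hx; exact hKn.conj_mem x hx g
    · intro hx
      have := hKn.conj_mem _ hx g⁻¹
      have e : g⁻¹ * (g * x * g⁻¹) * g⁻¹⁻¹ = x := by group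
      rwa [e] at this
  have hT : SylIn p ((S : Subgroup G) ⊓ Cfsg.pResidual p G) (Cfsg.pResidual p G) :=
    (sylIn_top S).inf_normal le_top le_top hNK
  have hE₀sat : (Cfsg.fusionSystemOfSubgroup (Cfsg.pResidual p G)
      ((S : Subgroup G) ⊓ Cfsg.pResidual p G) inf_le_right).IsSaturated p :=
    fusionSystemOfSubgroup_isSaturated inf_le_right hT
  have hE₀F : (Cfsg.fusionSystemOfSubgroup (Cfsg.pResidual p G)
      ((S : Subgroup G) ⊓ Cfsg.pResidual p G) inf_le_right).IsSubsystemOf
      (Cfsg.groupFusionSystem (S : Subgroup G)) := by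
    rintro Q φ ⟨hQ, hφ, g, -, hg⟩
    exact ⟨hQ.trans inf_le_left, fun x => (hφ x).1, g, hg⟩
  -- the `p'`-automorphisms of `F` are induced by `p'`-elements
  have hidx : ∀ Q : Subgroup G, Q ≤ (S : Subgroup G) ⊓ Cfsg.pResidual p G →
      (Cfsg.pResidual p ((Cfsg.groupFusionSystem (S : Subgroup G)).autGroup Q)).map
        ((Cfsg.groupFusionSystem (S : Subgroup G)).autGroup Q).subtype ≤
      (Cfsg.fusionSystemOfSubgroup (Cfsg.pResidual p G)
        ((S : Subgroup G) ⊓ Cfsg.pResidual p G) inf_le_right).autGroup Q := by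
    intro Q hQ
    have hQS : Q ≤ (S : Subgroup G) := hQ.trans inf_le_left
    rw [show Cfsg.pResidual p ((Cfsg.groupFusionSystem (S : Subgroup G)).autGroup Q) =
      Subgroup.closure {α : (Cfsg.groupFusionSystem (S : Subgroup G)).autGroup Q |
        Nat.Coprime (orderOf α) p} from rfl, MonoidHom.map_closure, Subgroup.closure_le]
    rintro _ ⟨α, hα, rfl⟩
    have hα' : Nat.Coprime (orderOf (α : MulAut Q)) p := by
      rw [Subgroup.orderOf_coe]; exact hα
    have hmem := (mem_autGroup_iff (Cfsg.groupFusionSystem (S : Subgroup G)) hQS (α : MulAut Q)).mp α.2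
    obtain ⟨-, -, g, hg⟩ := hmem
    have hg' : ∀ x : Q, g * (x : G) * g⁻¹ = (((α : MulAut Q) x : Q) : G) := fun x => (hg x).symm
    obtain ⟨k, hk, hkx⟩ := Cfsg.Agent.Lib.Helper84.HF.exists_coprime_pow hα'
      (orderOf_pos g) hg'
    apply (mem_autGroup_iff _ hQ (α : MulAut Q)).mpr
    refine ⟨hQ, fun x => hQ ((α : MulAut Q) x).2, g ^ k, Subgroup.subset_closure hk, fun x => ?_⟩
    exact (hkx x).symm
  have h1 : E.IsSubsystemOf (Cfsg.fusionSystemOfSubgroup (Cfsg.pResidual p G)
      ((S : Subgroup G) ⊓ Cfsg.pResidual p G) inf_le_right) :=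
    Cfsg.Agent.S5199.sub_of_pPowerIndex S.isPGroup' _ E hE.1 hE.2.1 _ hhyp.le hidx
  have h2 : (Cfsg.fusionSystemOfSubgroup (Cfsg.pResidual p G)
      ((S : Subgroup G) ⊓ Cfsg.pResidual p G) inf_le_right).IsSubsystemOf E :=
    Cfsg.Agent.S5199.sub_of_pPowerIndex S.isPGroup' _ _ hE₀sat hE₀F E hhyp.ge hE.2.2.2
  exact Set.Subset.antisymm (h1 P) (h2 P)

end Cfsg.Agent.S5139
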