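import Cfsg.Statements.S5142
import Cfsg.Agent.Lib.Helper87.NRInvariant
import Cfsg.Agent.Lib.Helper88.PPrimeResMin

set_option autoImplicit false
open Cfsg

namespace Cfsg.Agent.S5142

/-- Let F be a saturated fusion system over a finite p-group S and E a normal subsystem of F over T. Then the p'-residual subsystem of E (the least saturated subsystem of E over T of index prime to p) is contained in every normal subsystem of F over T; together with its normality in F (the case of a weakly normal E) this makes it the least normal subsystem of F over T. -/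
theorem result {Ω : Type*} [Group Ω] {S : Subgroup Ω} [Finite S] (p : ℕ) [Fact p.Prime] (hS : IsPGroup p S) (F : Cfsg.FusionSystem S) (hF : F.IsSaturated p) {T : Subgroup Ω} (E : Cfsg.FusionSystem T) (hE : E.IsNormalIn F p) (D : Cfsg.FusionSystem T) (hD : E.IsPPrimeResidual p D) : ∀ D' : Cfsg.FusionSystem T, D'.IsNormalIn F p → D.IsSubsystemOf D' := by
  intro D' hD'
  obtain ⟨⟨hEsat, -, hEinv⟩, -⟩ := hE
  obtain ⟨⟨hD'sat, -, hD'inv⟩, -⟩ := hD'
  have hTS : T ≤ S := hEinv.2.1.1
  have hfinT : Finite T := Finite.of_injective _ (Subgroup.inclusion_injective hTS)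
  have hT : IsPGroup p T := hS.to_le hTS
  refine Cfsg.Agent.Lib.Helper88.residual_le_of_closed hT E hEsat D hD D' ?_ ?_
  · intro P hP
    exact Cfsg.Agent.Lib.Helper87.NR.pElts_le hT F E D' hEsat hEinv.1 hD'inv hP.1
  · intro α hα P hPT hP hres
    have hαF : α ∈ F.autGroup T :=
      Cfsg.Agent.Lib.Helper87.NR.autGroup_le_of_isSubsystemOf hEinv.1 T hα
    obtain ⟨n, t, hnp, hαn⟩ := Cfsg.Agent.Lib.Helper87.NR.exists_pow_inner hT E hEsat hα
    have hinv : Cfsg.Agent.Lib.Helper87.NR.InvUnder D' (F.autGroup T) := hD'inv.2.2.1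
    exact Cfsg.Agent.Lib.Helper87.NR.mem_autGroup_of_restrict_mem hT D' hD'sat (F.autGroup T)
      hinv hαF hαn hnp _ P hPT rfl
      (Cfsg.Agent.Lib.Helper87.NR.isCentric_imgAut F E D' hEinv hD'inv.1 hP hαF) hres

end Cfsg.Agent.S5142
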