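import Cfsg.Statements.S5147
import Cfsg.Agent.Lib.Helper87.CentralQuotient
import Cfsg.Agent.Lib.Helper87.SubnormalConstrained
import Cfsg.Agent.S5115

set_option autoImplicit false
open Cfsg

namespace Cfsg.Agent.S5147

open Cfsg.FusionSystem Cfsg.Agent.Lib.Helper87

/-- Let G be a finite group with Sylow 2-subgroup S whose 2-fusion system on S is constrained, and L a component of G (a subnormal quasisimple subgroup). Then the 2-fusion system of L/Z(L) on the image of S ∩ L is constrained. -/
theorem result {G : Type*} [Group G] [Finite G] (S : Sylow 2 G) (hF : (Cfsg.groupFusionSystem (S : Subgroup G)).IsConstrained 2) (L : Subgroup G) (hL : Cfsg.IsComponent L) : (Cfsg.groupFusionSystem (((S : Subgroup G).subgroupOf L).map (QuotientGroup.mk' (Subgroup.center L)))).IsConstrained 2 := by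
  obtain ⟨hsub, -⟩ := hL
  have h15 := Cfsg.Agent.S5115.result S hF L hsub
  obtain ⟨R, hR⟩ := (subnormal_constrained_aux S hF hsub).1
  have e : ((S : Subgroup G) ⊓ L).subgroupOf L = (S : Subgroup G).subgroupOf L :=
    Subgroup.inf_subgroupOf_right _ _
  rw [e] at hR
  rw [← hR] at h15 ⊢
  exact constrained_quotient_central R (Subgroup.center L) le_rfl h15

end Cfsg.Agent.S5147
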