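import Cfsg.Statements.S5337
import Cfsg.Agent.Lib.Helper88.InnerAbelian

set_option autoImplicit false
open Cfsg

namespace Cfsg.Agent.S5337

open Cfsg.FusionSystem Cfsg.Agent.Lib.Helper88

/-- Let F be a saturated fusion system over a finite abelian p-group S. Then F is simple if and only if S has order p and F is the inner system of S (whose only maps are the inclusions, S being abelian). -/
theorem result {Ω : Type*} [Group Ω] {S : Subgroup Ω} [Finite S] (p : ℕ) [Fact p.Prime] (hS : IsPGroup p S) (F : Cfsg.FusionSystem S) (hF : F.IsSaturated p) (hab : ∀ x ∈ S, ∀ y ∈ S, x * y = y * x) : F.IsSimple p ↔ (Nat.card S = p ∧ ∀ P : Subgroup Ω, F.Hom P = (Cfsg.innerFusionSystem S).Hom P) := by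
  have hp : Nat.Prime p := Fact.out
  constructor
  · rintro ⟨-, hS1, hsimple⟩
    -- Step 1: the inner system of S is normal in F, hence equals F
    have hscS : F.StronglyClosed S := ⟨le_rfl, fun R _ φ hφ x => (F.le_of_mem hφ).2 x⟩
    have hN1 : (innerFusionSystem S).IsNormalIn F p := by
      apply inner_normalIn_abelian hab p F hF le_rfl hscS
      intro P hPS φ hφ
      obtain ⟨α, hα, h⟩ := extend_to_aut hab F p hF hφ
      exact ⟨α, hα, fun x => (h x (hPS x.2)).symm⟩
    have hinner : ∀ P : Subgroup Ω, F.Hom P = (innerFusionSystem S).Hom P := by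
      rcases hsimple S _ hN1 with h | ⟨-, h⟩
      · exact absurd h hS1
      · exact fun P => (h P).symm
    refine ⟨?_, hinner⟩
    -- Step 2: a subgroup of order p
    have hSnt : Nontrivial S := (Subgroup.nontrivial_iff_ne_bot S).mpr hS1
    obtain ⟨n, hn0, hn⟩ := hS.nontrivial_iff_card.mp hSnt
    have hdvd : p ∣ Nat.card S := by rw [hn]; exact dvd_pow_self p hn0.ne'
    obtain ⟨t, ht⟩ := exists_prime_orderOf_dvd_card' p hdvd
    have htΩ : orderOf (t : Ω) = p := by rw [Subgroup.orderOf_coe]; exact ht
    set T : Subgroup Ω := Subgroup.zpowers (t : Ω) with hT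
    have hTcard : Nat.card T = p := by rw [hT, Nat.card_zpowers]; exact htΩ
    have hTS : T ≤ S := by rw [hT, Subgroup.zpowers_le]; exact t.2
    have hscT : F.StronglyClosed T := by
      refine ⟨hTS, fun R hR φ hφ x => ?_⟩
      rw [hinner R] at hφ
      obtain ⟨-, rfl⟩ := (inner_hom_abelian hab _).mp hφ
      exact hR x.2
    have hN2 : (innerFusionSystem T).IsNormalIn F p := by
      apply inner_normalIn_abelian hab p F hF hTS hscT
      intro P hPT φ hφ
      rw [hinner P] at hφ
      obtain ⟨-, rfl⟩ := (inner_hom_abelian hab _).mp hφ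
      exact ⟨1, Subgroup.one_mem _, fun x => rfl⟩
    rcases hsimple T _ hN2 with h | ⟨h, -⟩
    · exfalso
      rw [h] at hTcard
      rw [Subgroup.card_bot] at hTcard
      exact hp.one_lt.ne hTcard
    · rw [← h]
      exact hTcard
  · rintro ⟨hcard, hinner⟩
    have hS1 : S ≠ ⊥ := by
      intro h
      rw [h, Subgroup.card_bot] at hcard
      exact hp.one_lt.ne hcard
    refine ⟨hF, hS1, ?_⟩
    intro T E hE
    obtain ⟨⟨-, -, hsub, hTsc, -, -⟩, -⟩ := hE
    have hTS : T ≤ S := hTsc.1
    have hdvd : Nat.card T ∣ p := by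
      rw [← hcard]
      exact Subgroup.card_dvd_of_le hTS
    rcases (Nat.dvd_prime hp).mp hdvd with h1 | h1
    · left
      exact Subgroup.card_eq_one.mp h1
    · right
      have hTeq : T = S := by
        apply Subgroup.eq_of_le_of_card_ge hTS
        rw [h1, hcard]
      refine ⟨hTeq, ?_⟩
      subst hTeq
      intro P
      apply Set.Subset.antisymm (hsub P)
      intro φ hφ
      rw [hinner P] at hφ
      obtain ⟨hP, rfl⟩ := (inner_hom_abelian hab _).mp hφ
      exact subtype_mem E hP

end Cfsg.Agent.S5337
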