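import Cfsg.Statements.S5148
import Cfsg.Agent.S5132
import Cfsg.Agent.S5134
import Cfsg.Agent.S5144
import Cfsg.Agent.S5337
import Cfsg.Agent.Lib.Helper85.Morphism

set_option autoImplicit false
open Cfsg

namespace Cfsg.Agent.S5148

open Cfsg.FusionSystem Cfsg.Agent.Lib.Helper87 Cfsg.Agent.Lib.Helper85

variable {Ω : Type*} [Group Ω] {S : Subgroup Ω}

/-- a central subgroup is strongly closed -/
theorem stronglyClosed_of_isCentral (F : FusionSystem S) {Z : Subgroup Ω} (hZ : F.IsCentral Z) :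
    F.StronglyClosed Z := by
  refine ⟨hZ.1, fun R hR φ hφ x => ?_⟩
  obtain ⟨ψ, -, hψR, hψZ⟩ := hZ.2 R φ hφ
  have h1 := hψR x
  have h2 := hψZ ⟨x, hR x.2⟩
  have h12 : (Subgroup.inclusion (le_sup_left : R ≤ R ⊔ Z) x) =
      Subgroup.inclusion (le_sup_right : Z ≤ R ⊔ Z) ⟨x, hR x.2⟩ := Subtype.ext rfl
  rw [h12, h2] at h1
  rw [← h1]
  exact hR x.2

/-- maps of the system fix the elements of a central subgroup -/
theorem map_central_eq (F : FusionSystem S) {Z : Subgroup Ω} (hZ : F.IsCentral Z) {P : Subgroup Ω}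
    {φ : P →* Ω} (hφ : φ ∈ F.Hom P) (x : P) (hx : (x : Ω) ∈ Z) : φ x = x := by
  obtain ⟨ψ, -, hψR, hψZ⟩ := hZ.2 P φ hφ
  have h1 := hψR x
  have h2 := hψZ ⟨x, hx⟩
  have h12 : (Subgroup.inclusion (le_sup_left : P ≤ P ⊔ Z) x) =
      Subgroup.inclusion (le_sup_right : Z ≤ P ⊔ Z) ⟨x, hx⟩ := Subtype.ext rfl
  rw [h12, h2] at h1
  exact h1.symm

/-- an automorphism that moves each element by a fixed element has order dividing the exponent -/
theorem aut_pow_eq_one {P : Type*} [Group P] (a : MulAut P) (n : ℕ)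
    (h : ∀ x : P, ∃ z : P, a x = x * z ∧ a z = z ∧ z ^ n = 1) : a ^ n = 1 := by
  ext x
  obtain ⟨z, hxz, hz, hzn⟩ := h x
  have key : ∀ k : ℕ, (a ^ k) x = x * z ^ k := by
    intro k
    induction k with
    | zero => simp
    | succ k ih =>
      rw [pow_succ', MulAut.mul_apply, ih, map_mul, map_pow, hxz, hz, pow_succ', mul_assoc]
  rw [key n, hzn, mul_one, MulAut.one_apply]

/-- A quasisimple fusion system over a finite p-group S (saturated, equal to its p-residual subsystem, with simple — in particular nontrivial — factor system modulo its centre) has S nonabelian. -/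
theorem result {Ω : Type*} [Group Ω] {S : Subgroup Ω} [Finite S] (p : ℕ) [Fact p.Prime] (hS : IsPGroup p S) (F : Cfsg.FusionSystem S) (hq : F.Quasisimple p) : ¬ IsMulCommutative S := by
  intro hcomm
  obtain ⟨hF, hhyp, hsimple⟩ := hq
  have hZc : F.IsCentral F.center := Cfsg.Agent.S5144.result F
  have hZsc : F.StronglyClosed F.center := stronglyClosed_of_isCentral F hZc
  obtain ⟨E, hE⟩ := Cfsg.Agent.S5132.result p hS F F.center hZsc
  have hEs := hsimple E hE
  have hmor := Cfsg.Agent.S5134.result p hS F hF F.center hZsc _ E hE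
  have hS' : IsPGroup p (⊤ : Subgroup (S ⧸ (F.center).subgroupOf S)) :=
    (hS.to_quotient _).to_subgroup _
  have hab' : ∀ x ∈ (⊤ : Subgroup (S ⧸ (F.center).subgroupOf S)),
      ∀ y ∈ (⊤ : Subgroup (S ⧸ (F.center).subgroupOf S)), x * y = y * x := by
    intro x _ y _
    induction x using QuotientGroup.induction_on with
    | H a =>
      induction y using QuotientGroup.induction_on with
      | H b =>
        rw [← QuotientGroup.mk_mul, ← QuotientGroup.mk_mul, hcomm.is_comm.comm a b]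
  obtain ⟨-, hinner⟩ := (Cfsg.Agent.S5337.result p hS' E hEs.1 hab').mp hEs
  -- every map of `F` moves elements within the centre
  have hmove : ∀ (P : Subgroup Ω) (φ : P →* Ω), φ ∈ F.Hom P →
      ∀ x : P, (x : Ω)⁻¹ * φ x ∈ F.center := by
    intro P φ hφ x
    obtain ⟨φ', hφ', hP, hφS, hP', hind⟩ := hmor.1.2 P φ hφ
    rw [hinner] at hφ'
    obtain ⟨-, rfl⟩ := (Cfsg.Agent.Lib.Helper88.inner_hom_abelian hab' _).mp hφ'
    have h1 := hind x
    have h2 : QuotientGroup.mk' ((F.center).subgroupOf S)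
        ((⟨x, hP x.2⟩ : S)⁻¹ * ⟨φ x, hφS x⟩) = 1 := by
      rw [map_mul, map_inv, ← h1]
      exact inv_mul_cancel _
    exact (hE.2.1 _).mp h2
  have hautp : ∀ (P : Subgroup Ω), P ≤ S → ∀ a ∈ F.autGroup P, a ^ Nat.card S = 1 := by
    intro P hPS a ha
    have hφ := (mem_autGroup_iff F hPS a).mp ha
    apply aut_pow_eq_one
    intro x
    refine ⟨x⁻¹ * a x, by group, ?_, ?_⟩
    · have hz := hmove P _ hφ x
      have := map_central_eq F hZc hφ (x⁻¹ * a x) hz
      exact Subtype.ext this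
    · have h1 : (⟨((x⁻¹ * a x : P) : Ω), hPS (x⁻¹ * a x).2⟩ : S) ^ Nat.card S = 1 :=
        pow_card_eq_one'
      apply Subtype.ext
      exact congrArg (Subtype.val : S → Ω) h1
  have hres : ∀ (P : Subgroup Ω), P ≤ S → pResidual p (F.autGroup P) = ⊥ := by
    intro P hPS
    rw [eq_bot_iff]
    unfold pResidual
    rw [Subgroup.closure_le]
    intro a ha
    have h1 : (a : MulAut P) ^ Nat.card S = 1 := hautp P hPS a a.2
    have h2 : a ^ Nat.card S = 1 := Subtype.ext (by simpa using h1)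
    have h3 : orderOf a ∣ Nat.card S := orderOf_dvd_of_pow_eq_one h2
    obtain ⟨m, hm⟩ := hS.exists_card_eq
    rw [hm] at h3
    have h4 : orderOf a = 1 := Nat.Coprime.eq_one_of_dvd (Nat.Coprime.pow_right m ha) h3
    exact orderOf_eq_one_iff.mp h4
  have hhyp' : F.hyperfocalSubgroup p = ⊥ := by
    rw [eq_bot_iff]
    unfold hyperfocalSubgroup
    rw [Subgroup.closure_le]
    rintro y ⟨P, α, x, hPS, hα, rfl⟩
    rw [hres P hPS, Subgroup.mem_bot] at hα
    subst hα
    simp
  have hSbot : S = ⊥ := by rw [← hhyp, hhyp']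
  apply hEs.2.1
  rw [eq_bot_iff]
  intro x _
  induction x using QuotientGroup.induction_on with
  | H a =>
    have h1 : (a : Ω) ∈ (⊥ : Subgroup Ω) := hSbot.le a.2
    have h2 : a = 1 := Subtype.ext (Subgroup.mem_bot.mp h1)
    rw [h2]
    exact Subgroup.one_mem _

end Cfsg.Agent.S5148
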