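import Cfsg.Statements.S5154
import Cfsg.Agent.Lib.Helper85.Iso9

set_option autoImplicit false
open Cfsg

namespace Cfsg.Agent.S5154

/-- Let F be a saturated fusion system over a finite p-group S, C a component of F over T, and γ a map of F with source T. Then the image of C under γ — the fusion system over γ(T) whose maps are the homomorphisms induced along γ by the maps of C — is again a component of F. -/
theorem result {Ω : Type*} [Group Ω] {S : Subgroup Ω} [Finite S] (p : ℕ) [Fact p.Prime] (hS : IsPGroup p S) (F : Cfsg.FusionSystem S) (hF : F.IsSaturated p) {T : Subgroup Ω} (C : Cfsg.FusionSystem T) (hC : C.IsComponentIn F p) (γ : T →* Ω) (hγ : γ ∈ F.Hom T) (E : Cfsg.FusionSystem γ.range) (hE : C.IsFactorSystem ⊥ γ E) : E.IsComponentIn F p := by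
  obtain ⟨hsn, hqs⟩ := hC
  have hTS : T ≤ S := Cfsg.Agent.Lib.Helper85.IsSubnormalIn.le hsn
  haveI : Finite T :=
    Finite.of_injective (Subgroup.inclusion hTS) (Subgroup.inclusion_injective hTS)
  have hinj := F.injective_of_mem hγ
  have hCE : Cfsg.Agent.Lib.Helper85.Iso.CorrespR (MonoidHom.ofInjective hinj) C E :=
    Cfsg.Agent.Lib.Helper85.Iso.correspR_of_isFactorSystem (MonoidHom.ofInjective hinj) γ
      (fun s => rfl) hE
  have hRS : γ.range ≤ S := Cfsg.Agent.Lib.Helper87.range_le F hγ
  haveI : Finite γ.range :=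
    Finite.of_injective (Subgroup.inclusion hRS) (Subgroup.inclusion_injective hRS)
  exact ⟨Cfsg.Agent.Lib.Helper85.Iso.conj_subnormal hsn hF γ hγ (MonoidHom.ofInjective hinj)
      (fun x => rfl) E hCE,
    Cfsg.Agent.Lib.Helper85.Iso.quasisimple_transport hCE hqs⟩

end Cfsg.Agent.S5154
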