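import Cfsg.Statements.S5159
import Cfsg.Agent.Lib.Helper85.Solvable3

set_option autoImplicit false
open Cfsg

namespace Cfsg.Agent.S5159

/-- Let F be a saturated fusion system over a finite p-group S, E a normal subsystem over T, and D the factor system of F modulo T (read through any homomorphism on S with kernel T). Then F is solvable if and only if E and D are solvable (solvable, for a system over a subgroup S: for every subgroup R other than S that is strongly closed in F, the factor system of F modulo R has a nontrivial subgroup normal in it). -/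
theorem result {Ω : Type*} [Group Ω] {S : Subgroup Ω} [Finite S] (p : ℕ) [Fact p.Prime] (hS : IsPGroup p S) (F : Cfsg.FusionSystem S) (hF : F.IsSaturated p) {T : Subgroup Ω} (E : Cfsg.FusionSystem T) (hE : E.IsNormalIn F p) {Ω' : Type*} [Group Ω'] {S' : Subgroup Ω'} (θ : S →* Ω') (D : Cfsg.FusionSystem S') (hD : F.IsFactorSystem T θ D) : F.IsSolvableSystem ↔ (E.IsSolvableSystem ∧ D.IsSolvableSystem) := by
  obtain ⟨⟨hEsat, -, hEinv⟩, -⟩ := hE
  have hTsc : F.StronglyClosed T := hEinv.2.1
  constructor
  · intro hsolv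
    obtain ⟨n, C, h0, hl, -, hsc, hc⟩ :=
      Cfsg.Agent.Lib.Helper85.solvChain_of_solvable hS F hF hsolv _ ⊥
        (Cfsg.Agent.Lib.Helper85.stronglyClosed_bot F) rfl
    exact ⟨Cfsg.Agent.Lib.Helper85.solvable_sub_of_chain hS F E hEsat hEinv.1 hTsc.1 C h0 hl hsc hc,
      Cfsg.Agent.Lib.Helper85.solvable_factor_of_chain hS F hF hTsc θ D hD C h0 hl hsc hc⟩
  · rintro ⟨hEsolv, hDsolv⟩
    have h1 := Cfsg.Agent.Lib.Helper85.solvChain_of_factor_solvable hS F hF hTsc θ D hD hDsolv
    obtain ⟨n, C, h0, hl, -, hsc, hc⟩ :=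
      Cfsg.Agent.Lib.Helper85.solvChain_bot_of_invariant hS F E hEsat hEinv hEsolv h1
    exact Cfsg.Agent.Lib.Helper85.solvable_of_chain hS F hF C h0 hl hsc hc

end Cfsg.Agent.S5159
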