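import Cfsg.Statements.S5163
import Cfsg.Agent.Lib.Helper20.PslMain

set_option autoImplicit false
open Cfsg

namespace Cfsg.Agent.S5163

open scoped Pointwise

/-- For a finite field K of characteristic p and n ≥ 3, the p-fusion system of the projective special linear group PSL_n(K) on a Sylow p-subgroup is simple. -/
theorem result {K : Type*} [Field K] [Fintype K] (p : ℕ) [Fact p.Prime] [CharP K p] (n : ℕ) (hn : 3 ≤ n) (S : Sylow p (Matrix.ProjectiveSpecialLinearGroup (Fin n) K)) : (Cfsg.groupFusionSystem (S : Subgroup (Matrix.ProjectiveSpecialLinearGroup (Fin n) K))).IsSimple p := by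
  classical
  have : NeZero n := ⟨by omega⟩
  set E := Cfsg.Agent.Lib.Helper20.PslF.SLn n K with hE
  set f : E →* Matrix.ProjectiveSpecialLinearGroup (Fin n) K :=
    QuotientGroup.mk' (Subgroup.center E) with hf
  have hfs : Function.Surjective f := QuotientGroup.mk'_surjective _
  have hfk : f.ker = Subgroup.center E := QuotientGroup.ker_mk' _
  set S0 : Sylow p (Matrix.ProjectiveSpecialLinearGroup (Fin n) K) :=
    Sylow.mapSurjective hfs (Cfsg.Agent.Lib.Helper20.PslF.UUs (n := n) (K := K) p) with hS0
  obtain ⟨c, hc⟩ := MulAction.exists_smul_eq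
    (Matrix.ProjectiveSpecialLinearGroup (Fin n) K) S0 S
  set f' : E →* Matrix.ProjectiveSpecialLinearGroup (Fin n) K :=
    (MulAut.conj c).toMonoidHom.comp f with hf'
  have hf's : Function.Surjective f' := by
    intro y
    obtain ⟨x, hx⟩ := hfs (c⁻¹ * y * c)
    refine ⟨x, ?_⟩
    show MulAut.conj c (f x) = y
    rw [hx, MulAut.conj_apply]
    group
  have hf'k : f'.ker = Subgroup.center E := by
    ext x
    have hxc : x ∈ Subgroup.center E ↔ f x = 1 := by
      rw [← MonoidHom.mem_ker, hfk]
    rw [hxc, MonoidHom.mem_ker]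
    show MulAut.conj c (f x) = 1 ↔ f x = 1
    rw [MulAut.conj_apply]
    constructor
    · intro h
      have := congrArg (fun t => c⁻¹ * t * c) h
      simpa [mul_assoc] using this
    · intro h
      rw [h]; simp
  have hS : (S : Subgroup (Matrix.ProjectiveSpecialLinearGroup (Fin n) K)) =
      (Cfsg.Agent.Lib.Helper20.PslF.UU : Subgroup E).map f' := by
    rw [← hc]
    have hcoe : ((c • S0 : Sylow p (Matrix.ProjectiveSpecialLinearGroup (Fin n) K)) :
        Subgroup (Matrix.ProjectiveSpecialLinearGroup (Fin n) K)) =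
        MulAut.conj c • (S0 : Subgroup (Matrix.ProjectiveSpecialLinearGroup (Fin n) K)) := rfl
    rw [hcoe, hS0, Sylow.coe_mapSurjective,
      Cfsg.Agent.Lib.Helper20.PslF.coe_UUs, hf', ← Subgroup.map_map]
    ext y
    rw [Subgroup.mem_pointwise_smul_iff_inv_smul_mem]
    constructor
    · intro h
      refine ⟨_, h, ?_⟩
      show MulAut.conj c ((MulAut.conj c)⁻¹ • y) = y
      simp
      group
    · rintro ⟨x, hx, rfl⟩
      have : (MulAut.conj c)⁻¹ • ((MulAut.conj c).toMonoidHom x) = x := by
        show (MulAut.conj c)⁻¹ (MulAut.conj c x) = x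
        simp
        group
      rw [this]
      exact hx
  exact Cfsg.Agent.Lib.Helper20.PslF.isSimple_of_quotient p hn f' hf's hf'k S hS

end Cfsg.Agent.S5163
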