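import Cfsg.Statements.S5164
import Cfsg.Agent.Lib.Helper86.D6

set_option autoImplicit false
open Cfsg

namespace Cfsg.Agent.S5164

open Equiv Cfsg.Agent.Lib.Helper86

theorem comm_of_lt_sq {n p : ℕ} [Fact p.Prime] (H : Subgroup (Perm (Fin n))) (hH : IsPGroup p H)
    (hn : n < p ^ 2) (a b : Perm (Fin n)) (ha : a ∈ H) (hb : b ∈ H) : a * b = b * a := by
  have hp : p.Prime := Fact.out
  suffices h : ∀ x : Fin n, (a * b * a⁻¹ * b⁻¹) x = x by
    have h1 : a * b * a⁻¹ * b⁻¹ = 1 := Equiv.ext h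
    calc a * b = (a * b * a⁻¹ * b⁻¹) * (b * a) := by group
      _ = b * a := by rw [h1, one_mul]
  intro x
  let a' : H := ⟨a, ha⟩
  let b' : H := ⟨b, hb⟩
  let K : Subgroup H := MulAction.stabilizer H x
  suffices hK : a' * b' * a'⁻¹ * b'⁻¹ ∈ K by
    exact MulAction.mem_stabilizer_iff.mp hK
  obtain ⟨k, hk⟩ := hH.index K
  have hle : K.index ≤ n := by
    rw [MulAction.index_stabilizer]
    calc (MulAction.orbit H x).ncard ≤ (Set.univ : Set (Fin n)).ncard :=
          Set.ncard_le_ncard (Set.subset_univ _)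
      _ = n := by simp
  have hk1 : k ≤ 1 := by
    by_contra hcon
    push Not at hcon
    have : p ^ 2 ≤ p ^ k := Nat.pow_le_pow_right hp.pos hcon
    omega
  interval_cases k
  · have : K = ⊤ := Subgroup.index_eq_one.mp (by simpa using hk)
    rw [this]; trivial
  · have hidx : K.index = p := by simpa using hk
    have hcard : (Nat.card H).minFac = p := by
      obtain ⟨m, hm⟩ := (IsPGroup.iff_card.mp hH)
      have hm0 : m ≠ 0 := by
        rintro rfl
        have h1 : Nat.card H = 1 := by simpa using hm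
        have := K.index_dvd_card
        rw [h1, hidx] at this
        exact hp.one_lt.ne' (Nat.dvd_one.mp this)
      rw [hm, Nat.Prime.pow_minFac hp hm0]
    have : K.Normal := Subgroup.normal_of_index_eq_minFac_card (by rw [hidx, hcard])
    have hq : Nat.card (H ⧸ K) = p := by rw [← Subgroup.index_eq_card]; exact hidx
    have : Fact (Nat.card (H ⧸ K)).Prime := ⟨hq ▸ hp⟩
    have : IsCyclic (H ⧸ K) := isCyclic_of_prime_card hq
    rw [← QuotientGroup.eq_one_iff]
    simp only [QuotientGroup.mk_mul, QuotientGroup.mk_inv]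
    have hcomm : ∀ u v : H ⧸ K, u * v = v * u := fun u v =>
      (IsCyclic.commGroup (α := H ⧸ K)).mul_comm u v
    have h3 : ∀ u v : H ⧸ K, u * v * u⁻¹ * v⁻¹ = 1 := by
      intro u v
      rw [hcomm u v]; group
    exact h3 _ _

theorem pp_zero (p : ℕ) : ((p : ZMod (p ^ 2)) * p = 0) := by
  rw [← pow_two, ← Nat.cast_pow, ZMod.natCast_self]

def affK (p : ℕ) : Subgroup (Perm (ZMod (p ^ 2))) where
  carrier := {σ | ∃ a b : ZMod (p ^ 2), ∀ x, σ x = (1 + (p : ZMod (p ^ 2)) * a) * x + b}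
  one_mem' := ⟨0, 0, by simp⟩
  mul_mem' := by
    rintro σ τ ⟨a, b, h⟩ ⟨a', b', h'⟩
    refine ⟨a + a', (1 + (p : ZMod (p ^ 2)) * a) * b' + b, fun x => ?_⟩
    rw [Perm.mul_apply, h', h]
    linear_combination (a * a' * x) * pp_zero p
  inv_mem' := by
    rintro σ ⟨a, b, h⟩
    refine ⟨-a, -(1 - (p : ZMod (p ^ 2)) * a) * b, fun x => ?_⟩
    rw [Perm.inv_eq_iff_eq, h]
    linear_combination (a * a * x - a * a * b) * pp_zero p

theorem affK_pow (p : ℕ) (g : Perm (ZMod (p ^ 2))) (a b : ZMod (p ^ 2))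
    (h : ∀ x, g x = (1 + (p : ZMod (p ^ 2)) * a) * x + b) (k : ℕ) :
    ∃ c : ZMod (p ^ 2), ∀ x, (g ^ k) x = (1 + (p : ZMod (p ^ 2)) * ((k : ZMod (p ^ 2)) * a)) * x + c := by
  induction k with
  | zero => exact ⟨0, fun x => by simp⟩
  | succ k ih =>
    obtain ⟨c, hc⟩ := ih
    refine ⟨(1 + (p : ZMod (p ^ 2)) * ((k : ZMod (p ^ 2)) * a)) * b + c, fun x => ?_⟩
    rw [pow_succ g k, Perm.mul_apply, h, hc]
    push_cast
    linear_combination (k * a * a * x) * pp_zero p

theorem transl_pow (p : ℕ) (g : Perm (ZMod (p ^ 2))) (c : ZMod (p ^ 2))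
    (h : ∀ x, g x = x + c) (k : ℕ) : ∀ x, (g ^ k) x = x + (k : ZMod (p ^ 2)) * c := by
  induction k with
  | zero => intro x; simp
  | succ k ih =>
    intro x
    rw [pow_succ g k, Perm.mul_apply, h, ih]
    push_cast
    ring

theorem affK_pow_eq_one (p : ℕ) (g : Perm (ZMod (p ^ 2))) (hg : g ∈ affK p) :
    g ^ (p ^ 3) = 1 := by
  obtain ⟨a, b, h⟩ := hg
  obtain ⟨c, hc⟩ := affK_pow p g a b h p
  have h1 : ∀ x, (g ^ p) x = x + c := by
    intro x
    rw [hc x]
    linear_combination (a * x) * pp_zero p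
  have h2 := transl_pow p (g ^ p) c h1 (p ^ 2)
  have h3 : g ^ (p ^ 3) = (g ^ p) ^ (p ^ 2) := by rw [← pow_mul]; ring_nf
  rw [h3]
  ext x
  rw [h2 x]
  have : ((p ^ 2 : ℕ) : ZMod (p ^ 2)) = 0 := ZMod.natCast_self _
  simp [this]

theorem affK_isPGroup (p : ℕ) : IsPGroup p (affK p) := by
  intro g
  refine ⟨3, ?_⟩
  apply Subtype.ext
  rw [Subgroup.coe_pow, affK_pow_eq_one p g.1 g.2]
  rfl

theorem not_comm_of_subgroup {n p : ℕ} [Fact p.Prime] (S : Sylow p (alternatingGroup (Fin n)))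
    (Q : Subgroup (Perm (Fin n))) (hQ : IsPGroup p Q) (hQA : Q ≤ alternatingGroup (Fin n))
    (u v : Perm (Fin n)) (hu : u ∈ Q) (hv : v ∈ Q) (huv : u * v ≠ v * u) :
    ¬ IsMulCommutative S := by
  intro hc
  let Q' : Subgroup (alternatingGroup (Fin n)) := Q.subgroupOf (alternatingGroup (Fin n))
  have hQ' : IsPGroup p Q' := hQ.comap_subtype
  obtain ⟨S', hS'⟩ := hQ'.exists_le_sylow
  obtain ⟨g, hg⟩ := MulAction.exists_smul_eq (alternatingGroup (Fin n)) S' S
  let u' : alternatingGroup (Fin n) := ⟨u, hQA hu⟩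
  let v' : alternatingGroup (Fin n) := ⟨v, hQA hv⟩
  have hu' : u' ∈ S' := hS' (show u ∈ Q from hu)
  have hv' : v' ∈ S' := hS' (show v ∈ Q from hv)
  have hu'' : g * u' * g⁻¹ ∈ (S : Subgroup (alternatingGroup (Fin n))) := by
    rw [← hg, Sylow.smul_def, Sylow.pointwise_smul_def]
    exact Subgroup.smul_mem_pointwise_smul _ _ _ hu'
  have hv'' : g * v' * g⁻¹ ∈ (S : Subgroup (alternatingGroup (Fin n))) := by
    rw [← hg, Sylow.smul_def, Sylow.pointwise_smul_def]
    exact Subgroup.smul_mem_pointwise_smul _ _ _ hv'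
  have hcomm := (isMulCommutative_iff.mp hc) ⟨_, hu''⟩ ⟨_, hv''⟩
  have h1 : (g * u' * g⁻¹) * (g * v' * g⁻¹) = (g * v' * g⁻¹) * (g * u' * g⁻¹) :=
    congrArg Subtype.val hcomm
  have h2 : u' * v' = v' * u' := by
    have e1 : u' * v' = g⁻¹ * ((g * u' * g⁻¹) * (g * v' * g⁻¹)) * g := by group
    have e2 : v' * u' = g⁻¹ * ((g * v' * g⁻¹) * (g * u' * g⁻¹)) * g := by group
    rw [e1, e2, h1]
  exact huv (congrArg Subtype.val h2)

theorem sign_via {α β : Type*} [Fintype α] [DecidableEq α] [Fintype β] [DecidableEq β]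
    (ι : α ↪ β) (e : Perm α) : Perm.sign (Perm.viaEmbeddingHom ι e) = Perm.sign e := by
  classical
  rw [Perm.viaEmbeddingHom_apply]
  unfold Perm.viaEmbedding
  convert Perm.sign_extendDomain e (ofInjective ι.1 ι.2)

/-- For n ≥ 6 and a prime p, a nontrivial Sylow p-subgroup of the alternating group of degree n is abelian if and only if n < p². -/
theorem result (n p : ℕ) (hn : 6 ≤ n) [Fact p.Prime] (S : Sylow p (alternatingGroup (Fin n))) (hS : (S : Subgroup (alternatingGroup (Fin n))) ≠ ⊥) : IsMulCommutative S ↔ n < p ^ 2 := by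
  have hp : p.Prime := Fact.out
  constructor
  · intro hc
    by_contra hlt
    push Not at hlt
    rcases hp.eq_two_or_odd' with h2 | hodd
    · subst h2
      let ι : Fin 6 ↪ Fin n := Fin.castLEEmb hn
      let Q : Subgroup (Perm (Fin n)) := D6sub.map (Perm.viaEmbeddingHom ι)
      have hQ : IsPGroup 2 Q := D6sub_isPGroup.map _
      have hQA : Q ≤ alternatingGroup (Fin n) := by
        rintro _ ⟨a, ha, rfl⟩
        rw [Perm.mem_alternatingGroup, sign_via]
        exact D6_sign a ha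
      refine not_comm_of_subgroup S Q hQ hQA (Perm.viaEmbeddingHom ι r6) (Perm.viaEmbeddingHom ι s6)
        ⟨r6, (by decide : r6 ∈ D6), rfl⟩ ⟨s6, (by decide : s6 ∈ D6), rfl⟩ ?_ hc
      rw [← map_mul, ← map_mul]
      intro h
      exact D6_ne (Perm.viaEmbeddingHom_injective ι h)
    · have hne : NeZero (p ^ 2) := ⟨pow_ne_zero 2 hp.ne_zero⟩
      have hcard : Nat.card (ZMod (p ^ 2)) ≤ Nat.card (Fin n) := by
        rw [Nat.card_zmod, Nat.card_fin]; exact hlt
      have : Fintype (ZMod (p ^ 2)) := ZMod.fintype _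
      obtain ⟨ι⟩ : Nonempty (ZMod (p ^ 2) ↪ Fin n) :=
        Function.Embedding.nonempty_of_card_le (by simpa [Nat.card_eq_fintype_card] using hcard)
      let Q : Subgroup (Perm (Fin n)) := (affK p).map (Perm.viaEmbeddingHom ι)
      have hQ : IsPGroup p Q := (affK_isPGroup p).map _
      have hQA : Q ≤ alternatingGroup (Fin n) := by
        rintro _ ⟨a, ha, rfl⟩
        rw [Perm.mem_alternatingGroup]
        have h1 : (Perm.sign (Perm.viaEmbeddingHom ι a)) ^ (p ^ 3) = 1 := by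
          rw [← map_pow, ← map_pow, affK_pow_eq_one p a ha, map_one, map_one]
        rcases Int.units_eq_one_or (Perm.sign (Perm.viaEmbeddingHom ι a)) with h | h
        · exact h
        · rw [h, Odd.neg_one_pow (hodd.pow)] at h1
          exact absurd h1 (by decide)
      let t : Perm (ZMod (p ^ 2)) := Equiv.addRight 1
      let u0 : (ZMod (p ^ 2))ˣ := ⟨1 + p, 1 - p, by linear_combination -pp_zero p,
        by linear_combination -pp_zero p⟩
      let m : Perm (ZMod (p ^ 2)) := Units.mulLeft u0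
      have ht : t ∈ affK p := ⟨0, 1, fun x => by simp [t]⟩
      have hm : m ∈ affK p := ⟨1, 0, fun x => by simp [m, u0]⟩
      refine not_comm_of_subgroup S Q hQ hQA (Perm.viaEmbeddingHom ι t) (Perm.viaEmbeddingHom ι m)
        ⟨t, ht, rfl⟩ ⟨m, hm, rfl⟩ ?_ hc
      rw [← map_mul, ← map_mul]
      intro h
      have h1 := Perm.viaEmbeddingHom_injective ι h
      have h2 := congrArg (fun σ : Perm (ZMod (p ^ 2)) => σ 0) h1
      simp only [Perm.mul_apply, t, m, u0] at h2
      simp at h2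
      rw [ZMod.natCast_eq_zero_iff] at h2
      have h3 : p ^ 2 ≤ p := Nat.le_of_dvd hp.pos h2
      have h4 : p < p ^ 2 := by
        calc p = p ^ 1 := (pow_one p).symm
          _ < p ^ 2 := Nat.pow_lt_pow_right hp.one_lt (by norm_num)
      omega
  · intro hlt
    refine isMulCommutative_iff.mpr ?_
    intro a b
    let H : Subgroup (Perm (Fin n)) :=
      (S : Subgroup (alternatingGroup (Fin n))).map (alternatingGroup (Fin n)).subtype
    have hH : IsPGroup p H := S.isPGroup'.map _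
    have ha : ((a : alternatingGroup (Fin n)) : Perm (Fin n)) ∈ H := ⟨a, a.2, rfl⟩
    have hb : ((b : alternatingGroup (Fin n)) : Perm (Fin n)) ∈ H := ⟨b, b.2, rfl⟩
    have := comm_of_lt_sq H hH hlt _ _ ha hb
    apply Subtype.ext
    apply Subtype.ext
    exact this

end Cfsg.Agent.S5164
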