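import Mathlib
import Cfsg.Statements.S5167
import Cfsg.Agent.S2061
import Cfsg.Agent.Lib.Helper7.M12Order
import Cfsg.Agent.Lib.Helper95.FusionTransport

set_option autoImplicit false
set_option maxRecDepth 1000000
open scoped Pointwise
open Cfsg

namespace Cfsg.Agent.S5167

open Cfsg.Agent.Lib.Helper93.Golay
open Cfsg.Agent.S5522 (Dm K mem_K okU U1 U2 U3 U4 fOf ptIdx_inj permC_mem_K)
open Cfsg.Agent.S1602 (mem_of_ok T0 Dm_dodecad)
open Cfsg.Agent.S1603 (permC_ext permC_mul_eq)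
open Cfsg.Agent.S2060 (IdxFun compOK)
open Cfsg.Agent.S2061 (enum0 mem_K0 M12_eq)
open Cfsg.Agent.Lib.Helper95.Fusion (PropA PropB isSimple_of_card)

/-! ### data: a Sylow 2-subgroup of order 64 of the stabiliser of the dodecad of squares -/

/-- the 64 elements, as coded permutations; the identity comes first -/
def SL : List ℕ := [984818244535754528103549039458486304, 719923664328491199848526586197411872, 608405391266436187982588441666881568, 715872302521680643580706198532491296, 970499966350631336865513127433832480, 227578386318009578406903204956702752, 609271311764373893382231684089481248, 232652365823391711183829569059784736, 983549310955746530506231437997410400, 731231112280071455683496764367734880, 610933098178650810155900481226967136, 725920953632283487556548229579442272, 981818813153752489120759972731324512, 221306056451638017120264557308184672, 596693691629046116550990400692717664, 217568596627580172659656007490766944,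 735548533734033527546468929854573569, 968996774143150361768157684793674753, 234127864083396158983920601914215425, 965259690662158669917158057253604353, 721309179197215149166510279720242177, 601305442431200926218084222330014721, 235858092014725848871085848532159489, 606616056642888436882462226996333569, 733020829433098601945951328301747265, 975269103903136450942210555640810561, 222809027067738147179961976625302593, 980343459732241923187908594281483329, 733886796953376986790965926451743809, 591256771632032774282378023355288641, 237127015575156948651106428642135105, 595308628611987246373365018095782977, 607973598249985555387477857755299874, 227460415941036734538857939833290786, 970538946146856546923441370142179362, 232770653829000910320255380801814562, 609703779158974565844330200338366498, 716029530456843865278060057425182754, 984778590361379278178632864412827682, 719766118764691622882792180686094370, 596654750537752186788767474980520034,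 217411764146181876636355759353921634, 983116567191296540113908308675428450, 221463205168990124215892544010092642, 610972711791184720857040928538394722, 731113300341743120980327113948168290, 982250884396962498574165580454068322, 726038449334658011187390141433938018, 235426140435715840576179408864347139, 606498126002060584759839440725148675, 735587632478774635104450121482437635, 601423690932778890975096356562076675, 234560489808442449779806172577072131, 969153566204151663674485258287383555, 721269406306437759107549957097325571, 965102580740407255376441135799010307, 222848521963869917746636076779308099, 591414355991433043804149359661024323, 734318709634027620545279344385197123, 595151360256427030557912619012850755, 237088193432378916389358651429618755, 980460995170761438563047119441101891, 732588243999094229886711587426796611, 975151252460776881860753093258380355]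

/-- the code of the identity -/
def idc : ℕ := 984818244535754528103549039458486304

/-- the multiplication table, 6 bits per entry -/
def mtN : ℕ := 81423302862575783100554853665045304835648954421383256613843879282666727589274214463182262358989127418736077476839154589600024022065765621396845929528342690131195474505689035300362682858352082238750039735594231782860060756179898471226298414065704378335373907030443808381158271437728559563615910678882643507703084540574092373705859060409461390964650815977564081199197506687687866310988215605613968637884111398503310986907259826042817357817559011383599125212550205524276241648983565293878068944097575121569076288651934365880078800047741747316291074784272096777718666768963515363203639930571677433509073560946672350488538007056641811200870498289735662574717549006567703199849493855322861110319882215448353518373715091784386288796159679297067178052256745497044491416949192088735948366492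1917090608158109265973512808237527500044883131875233494718964609973284587690282694504433619607416822774883124477554133964298648263841569009146686214705346356876638075579945920725841540097827122230549701894825037530761265046272389544564416874741666355353828523033066782332822274573820398936924421254870241337558949744600229345274832329482086956895302525931806789980930547572447897609751434494766480083016119898670020634070418182301837960763645980812495017872900980187216992930713796244433255163061117219923290261830312136029293260523141886203962276130443640356633318507601146042060621893301524447797608226844054189725160720670620802776709228899448828994417046991111267070525455083835122634517609479536669152470861053565053563175367570357095894442688574887910040902650727725489295188117708648814534703689890255877070824968389819001036333855795728888522892040967224791391747415285162733254750222117517420190983141670293912165596886344464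1022865773982094691433443596700849224836692106583781622867947379915948579800185766962471789894746791082020942146745060792045049053258310193518522818329099841671132860962012147407777057810975867967754494951291694332320089908229361717567362232989386117585725715390608557258207494518018351912377753730165851142449901797532836636311348907121075629236886455824646381039083601899892042874921251067195750196245432278537929672750121042550351615688648666972342757148479517357876000511695302498223992585607308745243617697668091035492213510326945203829695952134168433998588511633525203213261512629499142209579095584880184539646891776359303502750094520004851410979570716951659796334668302059061523534485345462750537235772644156445722020181110584140902740917664252709061666816124232087062191203716647940733334643727020698861313442212208108152579908291519984445785910581131249051149527404544044825688641697461151732560550830330557187255065864844445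3228442094750839879410732700659078046703199741871491085628139477155213317264405627147613688621048289572460621735994576642175719957628488493631274820140544271773070460663934377269426496041933693741945220950329104530164204207251206488823866945424654314893470783097883470325052635207813390074342483926881254547300520581001925266508549525816464390920102704917487973635075896611453382368301594006574085416430362983120562654365734063203572779256385010792531241327471823151156936503080885568793770053905003117898195149683587969178786410547267064626202725403918955625745457157279559226796007284977566194637966391113973167400490431547431217710388769231328423264349664524506805354481250407668057673347211654943445687550671696558687246268744554246606924014710392687292730113070450345177425706250419601765688972068281619550902489428329924138766321187595242542460772528212099255732273145470420025301547413238554399265788643756170184338621466409878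9096879156465591156432193156163498564446438619578723432044613770646212966449728261132799161638616517960336245688285260566798847776252349909430001345683754375938713636651780977798902640875776263450155496578230726252553638906810509513825146344145868559631921626102343905401833296287513197400313900677675375484755056589485583549380546385370305131696028381907808748242089310864879430467170205527444745061666138174615215921869566673467378061643071538197536107927372348007535687008299212654621025290966783724675793375888838227466462788712429576194546462060266992100585467731669169394700923853107336569374127444470302733234455330104612764000965770180293426451869423468372597626439989313165897695071209575725864324118946951865013198197145644772586200140245556834088410125244180271725261879300107933586733997753040555298004891099127580745237909285143956006304908473067593235497463142259465788356399931767175153853027992244270216174796121405280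5184036817506378559775754472941850337245100633647106732088491311660007914301077976319763049955335238836644029964297640321807663128560972514197524251763270230330650783163981377284048545582608639531131490273667220422034546959580111082684424846168123056504673642532434068849580574609936136822213253846838632532188824897066950231656722934784780888142396422973999616594857433614176576610919972127040859070603496677641556588359174567846067875239843689468837547357041104855883228274623425746163565886564937741261749120814887290321266295384394113950909207005012045269955622721550291960353663072118903935832453894646325285531205432008883580157304909628249471579388493378336070027422590267744313510796642576193667039855813227381635120387890278563079288092823802664212859565270755103333730585629419740279359584169456413515804990827301568316276187352128662481400050717880847929732714232529111687087431743348781885028291506547858412871369352482370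7106884925137634049340936002542137137016643784446496714171906188583652011292547974792205075393759611656982290780051796137068314233849838280069327946740146764410007173106108501294378192593738463404652038775668032196663189670842750913997472561978279323368563474850497305882296134871617875145619098913812273223111033346528185847363914675214139453116665202464701670818785227938534620624542443262881861704467895987202956056235402912608191694505802727853865418911419734163068633106561380181591240600122564180651612208022133160798827583385585068465891128983825820888236643532732081429312901778236925743274174714483178570425543736684305111011496631107466193827110945630614576157715711021796232134688391270037665698134748709015470442596101695612485597947507612802956210342383329526205346285398392919895432579528425819502061806098488005491959579195098905097222933114254275253019513425514097642069439617093427857161633697225448924788695961987112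612910699524385525975314133152497819864911557368718002616073769326384058181002463346065923710629711144722575413104496481559163398989914225933921839198522451989770417298318652080868202328474102647459375564560945014651874813479393925993158566870123185904190068710181117844645988181430446744014819299353851927965455760360515842396582378974782782727813312626247626794627355612296340988790118867272065073140435008657178979568805934282625944783809593317585985265713361092066187055201663551149625456054802913659307046742359052938279692964271424159513108789143777306631013227671628046521768941779385360727513892972171074979213165820363934265002072113477419617081718272751625855718997760032009778131579737788913369329530740275672812711770940791349323759109079297267717111363028334102589674741427525343880921020340911775802541686396048811679084809744985265169665496427713535167655551982871286302079984124766565085760273313651544684550461327670130668444684315301904302451146595872818163739553265868028750735593706779058240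

def mtab (a b : ℕ) : ℕ := (mtN >>> (6 * (64 * a + b))) &&& 63

/-- indices of the inverses -/
def itab : List ℕ := [0, 3, 6, 1, 4, 7, 2, 5, 8, 13, 10, 15, 12, 9, 14, 11, 16, 19, 18, 17, 20, 21, 22, 23, 48, 53, 54, 55, 52, 51, 50, 49, 32, 39, 34, 37, 36, 35, 38, 33, 40, 41, 46, 43, 44, 45, 42, 47, 24, 31, 30, 29, 28, 25, 26, 27, 56, 57, 58, 59, 60, 63, 62, 61]

/-- the index of the central involution -/
def zi : ℕ := 4

/-- the code of the central involution -/
def zc : ℕ := 970499966350631336865513127433832480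

/-- the index of the test element for the normaliser -/
def xi : ℕ := 8

def xc : ℕ := 983549310955746530506231437997410400

/-- fusion certificates `(i, g, j)`: the element coded by `g` conjugates element `i` to element `j` -/
def certs : List (ℕ × ℕ × ℕ) := [(1, 719608059484697496685871976717321280, 2), (2, 233233386906768391987032901617288256, 1), (1, 608405391266436187982588441666881568, 3), (3, 608405391266436187982588441666881568, 1), (1, 234286372747013287696275781005149280, 5), (5, 726098387229991916328255735577218112, 1), (1, 984355386066803413838770983050249280, 6), (6, 719608059484697496685871976717321280, 1), (1, 607038988187158853496018113149338720, 7), (7, 221550289410297402012191048719174720, 1), (1, 651031677047681008909082682251821444, 24), (24, 477231728496140848700975835267772612, 1), (1, 475392566137157310468312987571139878, 26), (26, 320845698650429132192725968058888388, 1), (1, 298136652952432360080813320733737348,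 48), (48, 484971642936980242268720033504112932, 1), (1, 882343806379260799980580809740989734, 54), (54, 445814458170506445455914965827531044, 1), (4, 645615339056853809437713058510286912, 8), (8, 608375606663865851181695452257322112, 4), (4, 940231152410353827302876617115093056, 10), (10, 936208933964629899832612781105218688, 4), (4, 440913852006253364563895830587121728, 12), (12, 235585558585410045398894015024596096, 4), (4, 715836849683666277568016807576675392, 14), (14, 470622463463092241474628154365969536, 4), (4, 487568154082321272089023217538570532, 16), (16, 438241635873840790637688637233902980, 4), (4, 887159609771068350069274015368295944, 20), (20, 897559654214659873133130961128076676, 4), (4, 222889389033686029325254692065119361, 32), (32, 851156044797946013667299924152266756, 4), (4, 980742430810660413902928949828330593, 34), (34, 594750864948581590029807999351107588, 4), (4, 732994177652894313793163904864751105,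 36), (36, 897592102984209293263762513307217924, 4), (4, 980663586727309785163074853294116257, 38), (38, 736423040494595327888070442486968324, 4), (4, 816963002953873813300590289740116228, 40), (40, 901496985141647860641595433593254468, 4), (4, 882343806379260799980580809740989734, 44), (44, 309881749382812357374831797031318084, 4), (4, 891269580102621494891428019639301700, 56), (56, 320266180929899881068171118265120324, 4), (4, 819382149633021790725207560827478534, 60), (60, 891269580102621494891428019639301700, 4), (9, 232770653829000910320255380801814562, 11), (11, 232770653829000910320255380801814562, 9), (9, 970538946146856546923441370142179362, 13), (13, 970538946146856546923441370142179362, 9), (9, 719923664328491199848526586197411872, 15), (15, 719923664328491199848526586197411872, 9), (9, 980343459732241923187908594281483329, 33), (33, 234127864083396158983920601914215425, 9), (9, 965102580740407255376441135799010307,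 35), (35, 980343459732241923187908594281483329, 9), (9, 237127015575156948651106428642135105, 37), (37, 606616056642888436882462226996333569, 9), (9, 234560489808442449779806172577072131, 39), (39, 237127015575156948651106428642135105, 9), (17, 233950865888990746377447415904013344, 19), (19, 233950865888990746377447415904013344, 17), (17, 438358195357759524883878562999312772, 28), (28, 477231728496140848700975835267772612, 17), (17, 882343806379260799980580809740989734, 30), (30, 320845698650429132192725968058888388, 17), (17, 719608059484697496685871976717321280, 42), (42, 719608059484697496685871976717321280, 17), (17, 221550289410297402012191048719174720, 46), (46, 234286372747013287696275781005149280, 17), (17, 840550872700580634613558219874158886, 50), (50, 445814458170506445455914965827531044, 17), (17, 651031677047681008909082682251821444, 52), (52, 484971642936980242268720033504112932, 17), (17, 234286372747013287696275781005149280,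 61), (61, 221550289410297402012191048719174720, 17), (17, 596693691629046116550990400692717664, 63), (63, 596693691629046116550990400692717664, 17), (18, 233950865888990746377447415904013344, 21), (21, 601915135321570999558303616165022752, 18), (18, 719923664328491199848526586197411872, 22), (22, 719923664328491199848526586197411872, 18), (18, 601915135321570999558303616165022752, 23), (23, 233950865888990746377447415904013344, 18), (18, 230670145485465864170728665953771584, 41), (41, 233233386906768391987032901617288256, 18), (18, 726541721327169911538948453862492224, 43), (43, 719608059484697496685871976717321280, 18), (18, 221550289410297402012191048719174720, 45), (45, 607038988187158853496018113149338720, 18), (18, 983425802329336981026800603528110144, 47), (47, 234286372747013287696275781005149280, 18), (18, 983113367232617487300326156673818720, 57), (57, 221550289410297402012191048719174720, 18), (18, 601950642575928970434760219922343008,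 58), (58, 596693691629046116550990400692717664, 18), (18, 234286372747013287696275781005149280, 59), (59, 726098387229991916328255735577218112, 18), (18, 725143444536679943364112528552894560, 62), (62, 981818813153752489120759972731324512, 18), (25, 608405391266436187982588441666881568, 27), (27, 608405391266436187982588441666881568, 25), (25, 719923664328491199848526586197411872, 29), (29, 719923664328491199848526586197411872, 25), (25, 227578386318009578406903204956702752, 31), (31, 227578386318009578406903204956702752, 25), (25, 731231112280071455683496764367734880, 49), (49, 217568596627580172659656007490766944, 25), (25, 217568596627580172659656007490766944, 51), (51, 731231112280071455683496764367734880, 25), (25, 596693691629046116550990400692717664, 53), (53, 596693691629046116550990400692717664, 25), (25, 981818813153752489120759972731324512, 55), (55, 981818813153752489120759972731324512, 25)]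

/-- for every start index a derivation of all 64 indices: `(0, a, b)` is the product of two known
indices, `(1, c, 0)` applies the certificate number `c` -/
def derivs : List (List (ℕ × ℕ × ℕ)) := [[],
  [(1, 0, 0), (1, 2, 0), (1, 4, 0), (1, 6, 0), (1, 8, 0), (1, 10, 0), (1, 12, 0), (1, 14, 0), (1, 16, 0), (0, 1, 1), (1, 18, 0), (1, 20, 0), (1, 22, 0), (1, 24, 0), (1, 26, 0), (1, 28, 0), (1, 30, 0), (1, 32, 0), (1, 34, 0), (1, 36, 0), (1, 38, 0), (1, 40, 0), (1, 42, 0), (1, 44, 0), (0, 1, 3), (0, 1, 24), (1, 100, 0), (1, 102, 0), (1, 104, 0), (1, 106, 0), (1, 108, 0), (1, 110, 0), (1, 112, 0), (0, 1, 8), (1, 46, 0), (1, 48, 0), (1, 50, 0), (1, 52, 0), (1, 54, 0), (1, 56, 0), (1, 58, 0), (0, 1, 16), (1, 60, 0), (1, 62, 0), (1, 64, 0), (1, 66, 0), (1, 68, 0), (1, 70, 0), (1, 72, 0), (1, 74, 0), (1, 76, 0), (0, 1, 40), (1, 85, 0), (1, 78, 0), (1, 80, 0), (1, 82, 0), (1, 86, 0), (1, 88, 0), (1, 90, 0), (1, 92, 0), (1, 94, 0),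 (1, 96, 0), (1, 98, 0)],
  [(1, 1, 0), (1, 2, 0), (1, 4, 0), (1, 6, 0), (1, 8, 0), (1, 10, 0), (1, 12, 0), (1, 14, 0), (1, 16, 0), (0, 2, 2), (1, 18, 0), (1, 20, 0), (1, 22, 0), (1, 24, 0), (1, 26, 0), (1, 28, 0), (1, 30, 0), (1, 32, 0), (1, 34, 0), (1, 36, 0), (1, 38, 0), (1, 40, 0), (1, 42, 0), (1, 44, 0), (0, 2, 6), (0, 2, 26), (1, 63, 0), (1, 60, 0), (1, 64, 0), (1, 66, 0), (1, 68, 0), (1, 70, 0), (1, 72, 0), (1, 74, 0), (1, 76, 0), (0, 2, 16), (1, 78, 0), (1, 80, 0), (1, 82, 0), (1, 84, 0), (1, 86, 0), (1, 88, 0), (1, 90, 0), (1, 92, 0), (1, 94, 0), (1, 96, 0), (1, 98, 0), (0, 1, 24), (1, 100, 0), (1, 102, 0), (1, 104, 0), (1, 106, 0), (1, 108, 0), (1, 110, 0), (1, 112, 0), (0, 1, 8), (1, 46, 0), (1, 48, 0), (1, 50, 0), (1, 52, 0), (1, 54, 0), (1, 56, 0), (1, 58, 0)],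
  [(1, 3, 0), (1, 0, 0), (1, 4, 0), (1, 6, 0), (1, 8, 0), (1, 10, 0), (1, 12, 0), (1, 14, 0), (1, 16, 0), (0, 3, 3), (1, 18, 0), (1, 20, 0), (1, 22, 0), (1, 24, 0), (1, 26, 0), (1, 28, 0), (1, 30, 0), (1, 32, 0), (1, 34, 0), (1, 36, 0), (1, 38, 0), (1, 40, 0), (1, 42, 0), (1, 44, 0), (0, 3, 1), (0, 3, 24), (1, 101, 0), (1, 102, 0), (1, 104, 0), (1, 106, 0), (1, 108, 0), (1, 110, 0), (1, 112, 0), (0, 3, 8), (1, 47, 0), (1, 48, 0), (1, 50, 0), (1, 52, 0), (1, 54, 0), (1, 56, 0), (1, 58, 0), (0, 3, 16), (1, 61, 0), (1, 62, 0), (1, 64, 0), (1, 66, 0), (1, 68, 0), (1, 70, 0), (1, 72, 0), (1, 74, 0), (1, 76, 0), (0, 3, 40), (1, 87, 0), (1, 78, 0), (1, 80, 0), (1, 82, 0), (1, 84, 0), (1, 88, 0), (1, 90, 0), (1, 92, 0), (1, 94, 0), (1, 96, 0), (1, 98, 0)],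
  [(1, 18, 0), (1, 20, 0), (1, 22, 0), (1, 24, 0), (1, 26, 0), (1, 28, 0), (1, 30, 0), (1, 32, 0), (1, 34, 0), (1, 36, 0), (1, 38, 0), (1, 40, 0), (1, 42, 0), (1, 44, 0), (0, 4, 4), (0, 8, 10), (1, 7, 0), (1, 0, 0), (1, 2, 0), (1, 4, 0), (1, 8, 0), (1, 10, 0), (1, 12, 0), (1, 14, 0), (1, 16, 0), (0, 4, 24), (1, 63, 0), (1, 60, 0), (1, 64, 0), (1, 66, 0), (1, 68, 0), (1, 70, 0), (1, 72, 0), (1, 74, 0), (1, 76, 0), (0, 8, 1), (1, 51, 0), (1, 46, 0), (1, 48, 0), (1, 52, 0), (1, 54, 0), (1, 56, 0), (1, 58, 0), (0, 8, 26), (1, 99, 0), (1, 78, 0), (1, 80, 0), (1, 82, 0), (1, 84, 0), (1, 86, 0), (1, 88, 0), (1, 90, 0), (1, 92, 0), (1, 94, 0), (1, 96, 0), (0, 8, 17), (1, 113, 0), (1, 100, 0), (1, 102, 0), (1, 104, 0), (1, 106, 0), (1, 108, 0), (1, 110, 0)],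
  [(1, 5, 0), (1, 0, 0), (1, 2, 0), (1, 6, 0), (1, 8, 0), (1, 10, 0), (1, 12, 0), (1, 14, 0), (1, 16, 0), (0, 5, 5), (1, 18, 0), (1, 20, 0), (1, 22, 0), (1, 24, 0), (1, 26, 0), (1, 28, 0), (1, 30, 0), (1, 32, 0), (1, 34, 0), (1, 36, 0), (1, 38, 0), (1, 40, 0), (1, 42, 0), (1, 44, 0), (0, 5, 7), (0, 5, 24), (1, 103, 0), (1, 100, 0), (1, 104, 0), (1, 106, 0), (1, 108, 0), (1, 110, 0), (1, 112, 0), (0, 5, 8), (1, 49, 0), (1, 46, 0), (1, 50, 0), (1, 52, 0), (1, 54, 0), (1, 56, 0), (1, 58, 0), (0, 5, 16), (1, 79, 0), (1, 80, 0), (1, 82, 0), (1, 84, 0), (1, 86, 0), (1, 88, 0), (1, 90, 0), (1, 92, 0), (1, 94, 0), (1, 96, 0), (1, 98, 0), (0, 5, 56), (1, 75, 0), (1, 60, 0), (1, 62, 0), (1, 64, 0), (1, 66, 0), (1, 68, 0), (1, 70, 0), (1, 72, 0), (1, 76, 0)],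
  [(1, 7, 0), (1, 0, 0), (1, 2, 0), (1, 4, 0), (1, 8, 0), (1, 10, 0), (1, 12, 0), (1, 14, 0), (1, 16, 0), (0, 6, 6), (1, 18, 0), (1, 20, 0), (1, 22, 0), (1, 24, 0), (1, 26, 0), (1, 28, 0), (1, 30, 0), (1, 32, 0), (1, 34, 0), (1, 36, 0), (1, 38, 0), (1, 40, 0), (1, 42, 0), (1, 44, 0), (0, 6, 2), (0, 6, 24), (1, 65, 0), (1, 60, 0), (1, 62, 0), (1, 66, 0), (1, 68, 0), (1, 70, 0), (1, 72, 0), (1, 74, 0), (1, 76, 0), (0, 6, 16), (1, 81, 0), (1, 78, 0), (1, 82, 0), (1, 84, 0), (1, 86, 0), (1, 88, 0), (1, 90, 0), (1, 92, 0), (1, 94, 0), (1, 96, 0), (1, 98, 0), (0, 1, 24), (1, 100, 0), (1, 102, 0), (1, 104, 0), (1, 106, 0), (1, 108, 0), (1, 110, 0), (1, 112, 0), (0, 1, 8), (1, 46, 0), (1, 48, 0), (1, 50, 0), (1, 52, 0), (1, 54, 0), (1, 56, 0), (1, 58, 0)],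
  [(1, 9, 0), (1, 0, 0), (1, 2, 0), (1, 4, 0), (1, 6, 0), (1, 10, 0), (1, 12, 0), (1, 14, 0), (1, 16, 0), (0, 7, 7), (1, 18, 0), (1, 20, 0), (1, 22, 0), (1, 24, 0), (1, 26, 0), (1, 28, 0), (1, 30, 0), (1, 32, 0), (1, 34, 0), (1, 36, 0), (1, 38, 0), (1, 40, 0), (1, 42, 0), (1, 44, 0), (0, 7, 5), (0, 7, 24), (1, 105, 0), (1, 100, 0), (1, 102, 0), (1, 106, 0), (1, 108, 0), (1, 110, 0), (1, 112, 0), (0, 7, 8), (1, 51, 0), (1, 46, 0), (1, 48, 0), (1, 52, 0), (1, 54, 0), (1, 56, 0), (1, 58, 0), (0, 7, 16), (1, 83, 0), (1, 78, 0), (1, 80, 0), (1, 84, 0), (1, 86, 0), (1, 88, 0), (1, 90, 0), (1, 92, 0), (1, 94, 0), (1, 96, 0), (1, 98, 0), (0, 7, 56), (1, 77, 0), (1, 60, 0), (1, 62, 0), (1, 64, 0), (1, 66, 0), (1, 68, 0), (1, 70, 0), (1, 72, 0), (1, 74, 0)],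
  [(1, 19, 0), (1, 20, 0), (1, 22, 0), (1, 24, 0), (1, 26, 0), (1, 28, 0), (1, 30, 0), (1, 32, 0), (1, 34, 0), (1, 36, 0), (1, 38, 0), (1, 40, 0), (1, 42, 0), (1, 44, 0), (0, 8, 8), (0, 8, 10), (1, 7, 0), (1, 0, 0), (1, 2, 0), (1, 4, 0), (1, 8, 0), (1, 10, 0), (1, 12, 0), (1, 14, 0), (1, 16, 0), (0, 8, 20), (1, 73, 0), (1, 60, 0), (1, 62, 0), (1, 64, 0), (1, 66, 0), (1, 68, 0), (1, 70, 0), (1, 74, 0), (1, 76, 0), (0, 8, 1), (1, 51, 0), (1, 46, 0), (1, 48, 0), (1, 52, 0), (1, 54, 0), (1, 56, 0), (1, 58, 0), (0, 8, 26), (1, 99, 0), (1, 78, 0), (1, 80, 0), (1, 82, 0), (1, 84, 0), (1, 86, 0), (1, 88, 0), (1, 90, 0), (1, 92, 0), (1, 94, 0), (1, 96, 0), (0, 8, 17), (1, 113, 0), (1, 100, 0), (1, 102, 0), (1, 104, 0), (1, 106, 0), (1, 108, 0), (1, 110, 0)],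
  [(1, 46, 0), (1, 48, 0), (1, 50, 0), (1, 52, 0), (1, 54, 0), (1, 56, 0), (1, 58, 0), (0, 9, 9), (1, 1, 0), (1, 2, 0), (1, 4, 0), (1, 6, 0), (1, 8, 0), (1, 10, 0), (1, 12, 0), (1, 14, 0), (1, 16, 0), (0, 9, 13), (0, 9, 15), (1, 18, 0), (1, 20, 0), (1, 22, 0), (1, 24, 0), (1, 26, 0), (1, 28, 0), (1, 30, 0), (1, 32, 0), (1, 34, 0), (1, 36, 0), (1, 38, 0), (1, 40, 0), (1, 42, 0), (1, 44, 0), (0, 9, 33), (1, 67, 0), (1, 60, 0), (1, 62, 0), (1, 64, 0), (1, 68, 0), (1, 70, 0), (1, 72, 0), (1, 74, 0), (1, 76, 0), (0, 9, 24), (1, 93, 0), (1, 78, 0), (1, 80, 0), (1, 82, 0), (1, 84, 0), (1, 86, 0), (1, 88, 0), (1, 90, 0), (1, 94, 0), (1, 96, 0), (1, 98, 0), (0, 9, 16), (1, 107, 0), (1, 100, 0), (1, 102, 0), (1, 104, 0), (1, 108, 0), (1, 110, 0), (1, 112, 0)],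
  [(1, 21, 0), (1, 18, 0), (1, 22, 0), (1, 24, 0), (1, 26, 0), (1, 28, 0), (1, 30, 0), (1, 32, 0), (1, 34, 0), (1, 36, 0), (1, 38, 0), (1, 40, 0), (1, 42, 0), (1, 44, 0), (0, 10, 10), (0, 10, 8), (1, 1, 0), (1, 2, 0), (1, 4, 0), (1, 6, 0), (1, 8, 0), (1, 10, 0), (1, 12, 0), (1, 14, 0), (1, 16, 0), (0, 10, 16), (1, 71, 0), (1, 60, 0), (1, 62, 0), (1, 64, 0), (1, 66, 0), (1, 68, 0), (1, 72, 0), (1, 74, 0), (1, 76, 0), (0, 10, 1), (1, 47, 0), (1, 48, 0), (1, 50, 0), (1, 52, 0), (1, 54, 0), (1, 56, 0), (1, 58, 0), (0, 10, 24), (1, 95, 0), (1, 78, 0), (1, 80, 0), (1, 82, 0), (1, 84, 0), (1, 86, 0), (1, 88, 0), (1, 90, 0), (1, 92, 0), (1, 96, 0), (1, 98, 0), (0, 10, 17), (1, 109, 0), (1, 100, 0), (1, 102, 0), (1, 104, 0), (1, 106, 0), (1, 110, 0), (1, 112, 0)],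
  [(1, 47, 0), (1, 48, 0), (1, 50, 0), (1, 52, 0), (1, 54, 0), (1, 56, 0), (1, 58, 0), (0, 11, 11), (1, 1, 0), (1, 2, 0), (1, 4, 0), (1, 6, 0), (1, 8, 0), (1, 10, 0), (1, 12, 0), (1, 14, 0), (1, 16, 0), (0, 11, 13), (1, 18, 0), (1, 20, 0), (1, 22, 0), (1, 24, 0), (1, 26, 0), (1, 28, 0), (1, 30, 0), (1, 32, 0), (1, 34, 0), (1, 36, 0), (1, 38, 0), (1, 40, 0), (1, 42, 0), (1, 44, 0), (0, 11, 15), (0, 11, 33), (1, 69, 0), (1, 60, 0), (1, 62, 0), (1, 64, 0), (1, 66, 0), (1, 70, 0), (1, 72, 0), (1, 74, 0), (1, 76, 0), (0, 11, 24), (1, 97, 0), (1, 78, 0), (1, 80, 0), (1, 82, 0), (1, 84, 0), (1, 86, 0), (1, 88, 0), (1, 90, 0), (1, 92, 0), (1, 94, 0), (1, 98, 0), (0, 11, 16), (1, 109, 0), (1, 100, 0), (1, 102, 0), (1, 104, 0), (1, 106, 0), (1, 110, 0), (1, 112, 0)],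
  [(1, 23, 0), (1, 18, 0), (1, 20, 0), (1, 24, 0), (1, 26, 0), (1, 28, 0), (1, 30, 0), (1, 32, 0), (1, 34, 0), (1, 36, 0), (1, 38, 0), (1, 40, 0), (1, 42, 0), (1, 44, 0), (0, 12, 12), (0, 12, 10), (1, 1, 0), (1, 2, 0), (1, 4, 0), (1, 6, 0), (1, 8, 0), (1, 10, 0), (1, 12, 0), (1, 14, 0), (1, 16, 0), (0, 12, 16), (1, 73, 0), (1, 60, 0), (1, 62, 0), (1, 64, 0), (1, 66, 0), (1, 68, 0), (1, 70, 0), (1, 74, 0), (1, 76, 0), (0, 12, 1), (1, 49, 0), (1, 46, 0), (1, 50, 0), (1, 52, 0), (1, 54, 0), (1, 56, 0), (1, 58, 0), (0, 12, 26), (1, 95, 0), (1, 78, 0), (1, 80, 0), (1, 82, 0), (1, 84, 0), (1, 86, 0), (1, 88, 0), (1, 90, 0), (1, 92, 0), (1, 96, 0), (1, 98, 0), (0, 12, 17), (1, 111, 0), (1, 100, 0), (1, 102, 0), (1, 104, 0), (1, 106, 0), (1, 108, 0), (1, 112, 0)],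
  [(1, 49, 0), (1, 46, 0), (1, 50, 0), (1, 52, 0), (1, 54, 0), (1, 56, 0), (1, 58, 0), (0, 13, 13), (1, 7, 0), (1, 0, 0), (1, 2, 0), (1, 4, 0), (1, 8, 0), (1, 10, 0), (1, 12, 0), (1, 14, 0), (1, 16, 0), (0, 13, 9), (0, 13, 11), (1, 18, 0), (1, 20, 0), (1, 22, 0), (1, 24, 0), (1, 26, 0), (1, 28, 0), (1, 30, 0), (1, 32, 0), (1, 34, 0), (1, 36, 0), (1, 38, 0), (1, 40, 0), (1, 42, 0), (1, 44, 0), (0, 13, 37), (1, 69, 0), (1, 60, 0), (1, 62, 0), (1, 64, 0), (1, 66, 0), (1, 70, 0), (1, 72, 0), (1, 74, 0), (1, 76, 0), (0, 13, 26), (1, 93, 0), (1, 78, 0), (1, 80, 0), (1, 82, 0), (1, 84, 0), (1, 86, 0), (1, 88, 0), (1, 90, 0), (1, 94, 0), (1, 96, 0), (1, 98, 0), (0, 13, 16), (1, 111, 0), (1, 100, 0), (1, 102, 0), (1, 104, 0), (1, 106, 0), (1, 108, 0), (1, 112, 0)],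
  [(1, 25, 0), (1, 18, 0), (1, 20, 0), (1, 22, 0), (1, 26, 0), (1, 28, 0), (1, 30, 0), (1, 32, 0), (1, 34, 0), (1, 36, 0), (1, 38, 0), (1, 40, 0), (1, 42, 0), (1, 44, 0), (0, 14, 14), (0, 14, 8), (1, 7, 0), (1, 0, 0), (1, 2, 0), (1, 4, 0), (1, 8, 0), (1, 10, 0), (1, 12, 0), (1, 14, 0), (1, 16, 0), (0, 14, 20), (1, 71, 0), (1, 60, 0), (1, 62, 0), (1, 64, 0), (1, 66, 0), (1, 68, 0), (1, 72, 0), (1, 74, 0), (1, 76, 0), (0, 14, 1), (1, 46, 0), (1, 48, 0), (1, 50, 0), (1, 52, 0), (1, 54, 0), (1, 56, 0), (1, 58, 0), (0, 14, 24), (1, 99, 0), (1, 78, 0), (1, 80, 0), (1, 82, 0), (1, 84, 0), (1, 86, 0), (1, 88, 0), (1, 90, 0), (1, 92, 0), (1, 94, 0), (1, 96, 0), (0, 14, 17), (1, 107, 0), (1, 100, 0), (1, 102, 0), (1, 104, 0), (1, 108, 0), (1, 110, 0), (1, 112, 0)],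
  [(1, 51, 0), (1, 46, 0), (1, 48, 0), (1, 52, 0), (1, 54, 0), (1, 56, 0), (1, 58, 0), (0, 15, 15), (1, 7, 0), (1, 0, 0), (1, 2, 0), (1, 4, 0), (1, 8, 0), (1, 10, 0), (1, 12, 0), (1, 14, 0), (1, 16, 0), (0, 15, 9), (1, 18, 0), (1, 20, 0), (1, 22, 0), (1, 24, 0), (1, 26, 0), (1, 28, 0), (1, 30, 0), (1, 32, 0), (1, 34, 0), (1, 36, 0), (1, 38, 0), (1, 40, 0), (1, 42, 0), (1, 44, 0), (0, 15, 11), (0, 15, 37), (1, 67, 0), (1, 60, 0), (1, 62, 0), (1, 64, 0), (1, 68, 0), (1, 70, 0), (1, 72, 0), (1, 74, 0), (1, 76, 0), (0, 15, 26), (1, 97, 0), (1, 78, 0), (1, 80, 0), (1, 82, 0), (1, 84, 0), (1, 86, 0), (1, 88, 0), (1, 90, 0), (1, 92, 0), (1, 94, 0), (1, 98, 0), (0, 15, 16), (1, 113, 0), (1, 100, 0), (1, 102, 0), (1, 104, 0), (1, 106, 0), (1, 108, 0), (1, 110, 0)],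
  [(1, 27, 0), (1, 18, 0), (1, 20, 0), (1, 22, 0), (1, 24, 0), (1, 28, 0), (1, 30, 0), (1, 32, 0), (1, 34, 0), (1, 36, 0), (1, 38, 0), (1, 40, 0), (1, 42, 0), (1, 44, 0), (0, 16, 16), (0, 16, 8), (1, 11, 0), (1, 0, 0), (1, 2, 0), (1, 4, 0), (1, 6, 0), (1, 8, 0), (1, 12, 0), (1, 14, 0), (1, 16, 0), (0, 16, 10), (1, 65, 0), (1, 60, 0), (1, 62, 0), (1, 66, 0), (1, 68, 0), (1, 70, 0), (1, 72, 0), (1, 74, 0), (1, 76, 0), (0, 16, 2), (1, 81, 0), (1, 78, 0), (1, 82, 0), (1, 84, 0), (1, 86, 0), (1, 88, 0), (1, 90, 0), (1, 92, 0), (1, 94, 0), (1, 96, 0), (1, 98, 0), (0, 8, 1), (1, 51, 0), (1, 46, 0), (1, 48, 0), (1, 52, 0), (1, 54, 0), (1, 56, 0), (1, 58, 0), (0, 16, 15), (1, 103, 0), (1, 100, 0), (1, 104, 0), (1, 106, 0), (1, 108, 0), (1, 110, 0), (1, 112, 0)],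
  [(1, 60, 0), (1, 62, 0), (1, 64, 0), (1, 66, 0), (1, 68, 0), (1, 70, 0), (1, 72, 0), (1, 74, 0), (1, 76, 0), (0, 17, 17), (1, 18, 0), (1, 20, 0), (1, 22, 0), (1, 24, 0), (1, 26, 0), (1, 28, 0), (1, 30, 0), (1, 32, 0), (1, 34, 0), (1, 36, 0), (1, 38, 0), (1, 40, 0), (1, 42, 0), (1, 44, 0), (0, 17, 19), (0, 17, 28), (1, 47, 0), (1, 48, 0), (1, 50, 0), (1, 52, 0), (1, 54, 0), (1, 56, 0), (1, 58, 0), (0, 17, 8), (1, 100, 0), (1, 102, 0), (1, 104, 0), (1, 106, 0), (1, 108, 0), (1, 110, 0), (1, 112, 0), (0, 17, 16), (1, 0, 0), (1, 2, 0), (1, 4, 0), (1, 6, 0), (1, 8, 0), (1, 10, 0), (1, 12, 0), (1, 14, 0), (1, 16, 0), (0, 17, 40), (1, 93, 0), (1, 78, 0), (1, 80, 0), (1, 82, 0), (1, 84, 0), (1, 86, 0), (1, 88, 0), (1, 90, 0), (1, 94, 0), (1, 96, 0), (1, 98, 0)],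
  [(1, 78, 0), (1, 80, 0), (1, 82, 0), (1, 84, 0), (1, 86, 0), (1, 88, 0), (1, 90, 0), (1, 92, 0), (1, 94, 0), (1, 96, 0), (1, 98, 0), (0, 18, 18), (0, 18, 21), (1, 3, 0), (1, 0, 0), (1, 4, 0), (1, 6, 0), (1, 8, 0), (1, 10, 0), (1, 12, 0), (1, 14, 0), (1, 16, 0), (0, 18, 22), (1, 18, 0), (1, 20, 0), (1, 22, 0), (1, 24, 0), (1, 26, 0), (1, 28, 0), (1, 30, 0), (1, 32, 0), (1, 34, 0), (1, 36, 0), (1, 38, 0), (1, 40, 0), (1, 42, 0), (1, 44, 0), (0, 18, 41), (1, 77, 0), (1, 60, 0), (1, 62, 0), (1, 64, 0), (1, 66, 0), (1, 68, 0), (1, 70, 0), (1, 72, 0), (1, 74, 0), (0, 21, 24), (1, 49, 0), (1, 46, 0), (1, 50, 0), (1, 52, 0), (1, 54, 0), (1, 56, 0), (1, 58, 0), (0, 18, 13), (1, 101, 0), (1, 102, 0), (1, 104, 0), (1, 106, 0), (1, 108, 0), (1, 110, 0), (1, 112, 0)],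
  [(1, 61, 0), (1, 62, 0), (1, 64, 0), (1, 66, 0), (1, 68, 0), (1, 70, 0), (1, 72, 0), (1, 74, 0), (1, 76, 0), (0, 19, 19), (1, 18, 0), (1, 20, 0), (1, 22, 0), (1, 24, 0), (1, 26, 0), (1, 28, 0), (1, 30, 0), (1, 32, 0), (1, 34, 0), (1, 36, 0), (1, 38, 0), (1, 40, 0), (1, 42, 0), (1, 44, 0), (0, 19, 17), (0, 19, 28), (1, 46, 0), (1, 48, 0), (1, 50, 0), (1, 52, 0), (1, 54, 0), (1, 56, 0), (1, 58, 0), (0, 19, 8), (1, 101, 0), (1, 102, 0), (1, 104, 0), (1, 106, 0), (1, 108, 0), (1, 110, 0), (1, 112, 0), (0, 19, 16), (1, 3, 0), (1, 0, 0), (1, 4, 0), (1, 6, 0), (1, 8, 0), (1, 10, 0), (1, 12, 0), (1, 14, 0), (1, 16, 0), (0, 19, 40), (1, 97, 0), (1, 78, 0), (1, 80, 0), (1, 82, 0), (1, 84, 0), (1, 86, 0), (1, 88, 0), (1, 90, 0), (1, 92, 0), (1, 94, 0), (1, 98, 0)],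
  [(1, 29, 0), (1, 18, 0), (1, 20, 0), (1, 22, 0), (1, 24, 0), (1, 26, 0), (1, 30, 0), (1, 32, 0), (1, 34, 0), (1, 36, 0), (1, 38, 0), (1, 40, 0), (1, 42, 0), (1, 44, 0), (0, 20, 20), (0, 20, 8), (1, 63, 0), (1, 60, 0), (1, 64, 0), (1, 66, 0), (1, 68, 0), (1, 70, 0), (1, 72, 0), (1, 74, 0), (1, 76, 0), (0, 20, 10), (1, 13, 0), (1, 0, 0), (1, 2, 0), (1, 4, 0), (1, 6, 0), (1, 8, 0), (1, 10, 0), (1, 14, 0), (1, 16, 0), (0, 20, 42), (1, 95, 0), (1, 78, 0), (1, 80, 0), (1, 82, 0), (1, 84, 0), (1, 86, 0), (1, 88, 0), (1, 90, 0), (1, 92, 0), (1, 96, 0), (1, 98, 0), (0, 8, 17), (1, 113, 0), (1, 100, 0), (1, 102, 0), (1, 104, 0), (1, 106, 0), (1, 108, 0), (1, 110, 0), (0, 20, 55), (1, 59, 0), (1, 46, 0), (1, 48, 0), (1, 50, 0), (1, 52, 0), (1, 54, 0), (1, 56, 0)],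
  [(1, 79, 0), (1, 80, 0), (1, 82, 0), (1, 84, 0), (1, 86, 0), (1, 88, 0), (1, 90, 0), (1, 92, 0), (1, 94, 0), (1, 96, 0), (1, 98, 0), (0, 21, 21), (0, 21, 18), (1, 0, 0), (1, 2, 0), (1, 4, 0), (1, 6, 0), (1, 8, 0), (1, 10, 0), (1, 12, 0), (1, 14, 0), (1, 16, 0), (0, 21, 23), (1, 18, 0), (1, 20, 0), (1, 22, 0), (1, 24, 0), (1, 26, 0), (1, 28, 0), (1, 30, 0), (1, 32, 0), (1, 34, 0), (1, 36, 0), (1, 38, 0), (1, 40, 0), (1, 42, 0), (1, 44, 0), (0, 21, 57), (1, 67, 0), (1, 60, 0), (1, 62, 0), (1, 64, 0), (1, 68, 0), (1, 70, 0), (1, 72, 0), (1, 74, 0), (1, 76, 0), (0, 21, 24), (1, 49, 0), (1, 46, 0), (1, 50, 0), (1, 52, 0), (1, 54, 0), (1, 56, 0), (1, 58, 0), (0, 21, 8), (1, 103, 0), (1, 100, 0), (1, 104, 0), (1, 106, 0), (1, 108, 0), (1, 110, 0), (1, 112, 0)],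
  [(1, 81, 0), (1, 78, 0), (1, 82, 0), (1, 84, 0), (1, 86, 0), (1, 88, 0), (1, 90, 0), (1, 92, 0), (1, 94, 0), (1, 96, 0), (1, 98, 0), (0, 22, 22), (0, 22, 18), (1, 18, 0), (1, 20, 0), (1, 22, 0), (1, 24, 0), (1, 26, 0), (1, 28, 0), (1, 30, 0), (1, 32, 0), (1, 34, 0), (1, 36, 0), (1, 38, 0), (1, 40, 0), (1, 42, 0), (1, 44, 0), (0, 22, 21), (1, 0, 0), (1, 2, 0), (1, 4, 0), (1, 6, 0), (1, 8, 0), (1, 10, 0), (1, 12, 0), (1, 14, 0), (1, 16, 0), (0, 22, 41), (1, 75, 0), (1, 60, 0), (1, 62, 0), (1, 64, 0), (1, 66, 0), (1, 68, 0), (1, 70, 0), (1, 72, 0), (1, 76, 0), (0, 21, 8), (1, 103, 0), (1, 100, 0), (1, 104, 0), (1, 106, 0), (1, 108, 0), (1, 110, 0), (1, 112, 0), (0, 22, 29), (1, 46, 0), (1, 48, 0), (1, 50, 0), (1, 52, 0), (1, 54, 0), (1, 56, 0), (1, 58, 0)],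
  [(1, 83, 0), (1, 78, 0), (1, 80, 0), (1, 84, 0), (1, 86, 0), (1, 88, 0), (1, 90, 0), (1, 92, 0), (1, 94, 0), (1, 96, 0), (1, 98, 0), (0, 23, 23), (0, 23, 18), (1, 3, 0), (1, 0, 0), (1, 4, 0), (1, 6, 0), (1, 8, 0), (1, 10, 0), (1, 12, 0), (1, 14, 0), (1, 16, 0), (0, 23, 21), (1, 18, 0), (1, 20, 0), (1, 22, 0), (1, 24, 0), (1, 26, 0), (1, 28, 0), (1, 30, 0), (1, 32, 0), (1, 34, 0), (1, 36, 0), (1, 38, 0), (1, 40, 0), (1, 42, 0), (1, 44, 0), (0, 23, 57), (1, 69, 0), (1, 60, 0), (1, 62, 0), (1, 64, 0), (1, 66, 0), (1, 70, 0), (1, 72, 0), (1, 74, 0), (1, 76, 0), (0, 23, 24), (1, 51, 0), (1, 46, 0), (1, 48, 0), (1, 52, 0), (1, 54, 0), (1, 56, 0), (1, 58, 0), (0, 23, 8), (1, 105, 0), (1, 100, 0), (1, 102, 0), (1, 106, 0), (1, 108, 0), (1, 110, 0), (1, 112, 0)],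
  [(1, 11, 0), (1, 0, 0), (1, 2, 0), (1, 4, 0), (1, 6, 0), (1, 8, 0), (1, 12, 0), (1, 14, 0), (1, 16, 0), (0, 24, 24), (1, 39, 0), (1, 18, 0), (1, 20, 0), (1, 22, 0), (1, 24, 0), (1, 26, 0), (1, 28, 0), (1, 30, 0), (1, 32, 0), (1, 34, 0), (1, 36, 0), (1, 40, 0), (1, 42, 0), (1, 44, 0), (0, 24, 1), (1, 103, 0), (1, 100, 0), (1, 104, 0), (1, 106, 0), (1, 108, 0), (1, 110, 0), (1, 112, 0), (0, 24, 6), (1, 65, 0), (1, 60, 0), (1, 62, 0), (1, 66, 0), (1, 68, 0), (1, 70, 0), (1, 72, 0), (1, 74, 0), (1, 76, 0), (0, 24, 48), (0, 24, 10), (1, 78, 0), (1, 80, 0), (1, 82, 0), (1, 84, 0), (1, 86, 0), (1, 88, 0), (1, 90, 0), (1, 92, 0), (1, 94, 0), (1, 96, 0), (1, 98, 0), (0, 24, 17), (1, 57, 0), (1, 46, 0), (1, 48, 0), (1, 50, 0), (1, 52, 0), (1, 54, 0), (1, 58, 0)],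
  [(1, 100, 0), (1, 102, 0), (1, 104, 0), (1, 106, 0), (1, 108, 0), (1, 110, 0), (1, 112, 0), (0, 25, 25), (1, 69, 0), (1, 60, 0), (1, 62, 0), (1, 64, 0), (1, 66, 0), (1, 70, 0), (1, 72, 0), (1, 74, 0), (1, 76, 0), (0, 25, 29), (1, 39, 0), (1, 18, 0), (1, 20, 0), (1, 22, 0), (1, 24, 0), (1, 26, 0), (1, 28, 0), (1, 30, 0), (1, 32, 0), (1, 34, 0), (1, 36, 0), (1, 40, 0), (1, 42, 0), (1, 44, 0), (0, 25, 49), (1, 7, 0), (1, 0, 0), (1, 2, 0), (1, 4, 0), (1, 8, 0), (1, 10, 0), (1, 12, 0), (1, 14, 0), (1, 16, 0), (0, 25, 53), (0, 25, 28), (1, 87, 0), (1, 78, 0), (1, 80, 0), (1, 82, 0), (1, 84, 0), (1, 88, 0), (1, 90, 0), (1, 92, 0), (1, 94, 0), (1, 96, 0), (1, 98, 0), (0, 25, 16), (1, 53, 0), (1, 46, 0), (1, 48, 0), (1, 50, 0), (1, 54, 0), (1, 56, 0), (1, 58, 0)],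
  [(1, 13, 0), (1, 0, 0), (1, 2, 0), (1, 4, 0), (1, 6, 0), (1, 8, 0), (1, 10, 0), (1, 14, 0), (1, 16, 0), (0, 26, 26), (1, 41, 0), (1, 18, 0), (1, 20, 0), (1, 22, 0), (1, 24, 0), (1, 26, 0), (1, 28, 0), (1, 30, 0), (1, 32, 0), (1, 34, 0), (1, 36, 0), (1, 38, 0), (1, 42, 0), (1, 44, 0), (0, 26, 1), (1, 100, 0), (1, 102, 0), (1, 104, 0), (1, 106, 0), (1, 108, 0), (1, 110, 0), (1, 112, 0), (0, 26, 2), (1, 63, 0), (1, 60, 0), (1, 64, 0), (1, 66, 0), (1, 68, 0), (1, 70, 0), (1, 72, 0), (1, 74, 0), (1, 76, 0), (0, 26, 54), (0, 26, 8), (1, 78, 0), (1, 80, 0), (1, 82, 0), (1, 84, 0), (1, 86, 0), (1, 88, 0), (1, 90, 0), (1, 92, 0), (1, 94, 0), (1, 96, 0), (1, 98, 0), (0, 26, 17), (1, 53, 0), (1, 46, 0), (1, 48, 0), (1, 50, 0), (1, 54, 0), (1, 56, 0), (1, 58, 0)],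
  [(1, 101, 0), (1, 102, 0), (1, 104, 0), (1, 106, 0), (1, 108, 0), (1, 110, 0), (1, 112, 0), (0, 27, 27), (1, 69, 0), (1, 60, 0), (1, 62, 0), (1, 64, 0), (1, 66, 0), (1, 70, 0), (1, 72, 0), (1, 74, 0), (1, 76, 0), (0, 27, 29), (1, 41, 0), (1, 18, 0), (1, 20, 0), (1, 22, 0), (1, 24, 0), (1, 26, 0), (1, 28, 0), (1, 30, 0), (1, 32, 0), (1, 34, 0), (1, 36, 0), (1, 38, 0), (1, 42, 0), (1, 44, 0), (0, 27, 49), (1, 1, 0), (1, 2, 0), (1, 4, 0), (1, 6, 0), (1, 8, 0), (1, 10, 0), (1, 12, 0), (1, 14, 0), (1, 16, 0), (0, 27, 55), (0, 27, 28), (1, 85, 0), (1, 78, 0), (1, 80, 0), (1, 82, 0), (1, 86, 0), (1, 88, 0), (1, 90, 0), (1, 92, 0), (1, 94, 0), (1, 96, 0), (1, 98, 0), (0, 27, 16), (1, 55, 0), (1, 46, 0), (1, 48, 0), (1, 50, 0), (1, 52, 0), (1, 56, 0), (1, 58, 0)],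
  [(1, 63, 0), (1, 60, 0), (1, 64, 0), (1, 66, 0), (1, 68, 0), (1, 70, 0), (1, 72, 0), (1, 74, 0), (1, 76, 0), (0, 28, 28), (1, 39, 0), (1, 18, 0), (1, 20, 0), (1, 22, 0), (1, 24, 0), (1, 26, 0), (1, 28, 0), (1, 30, 0), (1, 32, 0), (1, 34, 0), (1, 36, 0), (1, 40, 0), (1, 42, 0), (1, 44, 0), (0, 28, 17), (1, 59, 0), (1, 46, 0), (1, 48, 0), (1, 50, 0), (1, 52, 0), (1, 54, 0), (1, 56, 0), (0, 28, 42), (1, 17, 0), (1, 0, 0), (1, 2, 0), (1, 4, 0), (1, 6, 0), (1, 8, 0), (1, 10, 0), (1, 12, 0), (1, 14, 0), (0, 28, 52), (0, 28, 10), (1, 81, 0), (1, 78, 0), (1, 82, 0), (1, 84, 0), (1, 86, 0), (1, 88, 0), (1, 90, 0), (1, 92, 0), (1, 94, 0), (1, 96, 0), (1, 98, 0), (0, 28, 1), (1, 105, 0), (1, 100, 0), (1, 102, 0), (1, 106, 0), (1, 108, 0), (1, 110, 0), (1, 112, 0)],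
  [(1, 103, 0), (1, 100, 0), (1, 104, 0), (1, 106, 0), (1, 108, 0), (1, 110, 0), (1, 112, 0), (0, 29, 29), (1, 69, 0), (1, 60, 0), (1, 62, 0), (1, 64, 0), (1, 66, 0), (1, 70, 0), (1, 72, 0), (1, 74, 0), (1, 76, 0), (0, 29, 25), (1, 41, 0), (1, 18, 0), (1, 20, 0), (1, 22, 0), (1, 24, 0), (1, 26, 0), (1, 28, 0), (1, 30, 0), (1, 32, 0), (1, 34, 0), (1, 36, 0), (1, 38, 0), (1, 42, 0), (1, 44, 0), (0, 29, 51), (0, 29, 53), (1, 7, 0), (1, 0, 0), (1, 2, 0), (1, 4, 0), (1, 8, 0), (1, 10, 0), (1, 12, 0), (1, 14, 0), (1, 16, 0), (0, 29, 28), (1, 91, 0), (1, 78, 0), (1, 80, 0), (1, 82, 0), (1, 84, 0), (1, 86, 0), (1, 88, 0), (1, 92, 0), (1, 94, 0), (1, 96, 0), (1, 98, 0), (0, 29, 16), (1, 57, 0), (1, 46, 0), (1, 48, 0), (1, 50, 0), (1, 52, 0), (1, 54, 0), (1, 58, 0)],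
  [(1, 65, 0), (1, 60, 0), (1, 62, 0), (1, 66, 0), (1, 68, 0), (1, 70, 0), (1, 72, 0), (1, 74, 0), (1, 76, 0), (0, 30, 30), (1, 41, 0), (1, 18, 0), (1, 20, 0), (1, 22, 0), (1, 24, 0), (1, 26, 0), (1, 28, 0), (1, 30, 0), (1, 32, 0), (1, 34, 0), (1, 36, 0), (1, 38, 0), (1, 42, 0), (1, 44, 0), (0, 30, 17), (1, 55, 0), (1, 46, 0), (1, 48, 0), (1, 50, 0), (1, 52, 0), (1, 56, 0), (1, 58, 0), (0, 30, 42), (1, 15, 0), (1, 0, 0), (1, 2, 0), (1, 4, 0), (1, 6, 0), (1, 8, 0), (1, 10, 0), (1, 12, 0), (1, 16, 0), (0, 30, 50), (0, 30, 8), (1, 81, 0), (1, 78, 0), (1, 82, 0), (1, 84, 0), (1, 86, 0), (1, 88, 0), (1, 90, 0), (1, 92, 0), (1, 94, 0), (1, 96, 0), (1, 98, 0), (0, 30, 1), (1, 101, 0), (1, 102, 0), (1, 104, 0), (1, 106, 0), (1, 108, 0), (1, 110, 0), (1, 112, 0)],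
  [(1, 105, 0), (1, 100, 0), (1, 102, 0), (1, 106, 0), (1, 108, 0), (1, 110, 0), (1, 112, 0), (0, 31, 31), (1, 69, 0), (1, 60, 0), (1, 62, 0), (1, 64, 0), (1, 66, 0), (1, 70, 0), (1, 72, 0), (1, 74, 0), (1, 76, 0), (0, 31, 25), (1, 39, 0), (1, 18, 0), (1, 20, 0), (1, 22, 0), (1, 24, 0), (1, 26, 0), (1, 28, 0), (1, 30, 0), (1, 32, 0), (1, 34, 0), (1, 36, 0), (1, 40, 0), (1, 42, 0), (1, 44, 0), (0, 31, 49), (0, 31, 53), (1, 1, 0), (1, 2, 0), (1, 4, 0), (1, 6, 0), (1, 8, 0), (1, 10, 0), (1, 12, 0), (1, 14, 0), (1, 16, 0), (0, 31, 28), (1, 89, 0), (1, 78, 0), (1, 80, 0), (1, 82, 0), (1, 84, 0), (1, 86, 0), (1, 90, 0), (1, 92, 0), (1, 94, 0), (1, 96, 0), (1, 98, 0), (0, 31, 16), (1, 59, 0), (1, 46, 0), (1, 48, 0), (1, 50, 0), (1, 52, 0), (1, 54, 0), (1, 56, 0)],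
  [(1, 31, 0), (1, 18, 0), (1, 20, 0), (1, 22, 0), (1, 24, 0), (1, 26, 0), (1, 28, 0), (1, 32, 0), (1, 34, 0), (1, 36, 0), (1, 38, 0), (1, 40, 0), (1, 42, 0), (1, 44, 0), (0, 32, 32), (0, 32, 10), (1, 69, 0), (1, 60, 0), (1, 62, 0), (1, 64, 0), (1, 66, 0), (1, 70, 0), (1, 72, 0), (1, 74, 0), (1, 76, 0), (0, 32, 16), (1, 11, 0), (1, 0, 0), (1, 2, 0), (1, 4, 0), (1, 6, 0), (1, 8, 0), (1, 12, 0), (1, 14, 0), (1, 16, 0), (0, 32, 17), (1, 103, 0), (1, 100, 0), (1, 104, 0), (1, 106, 0), (1, 108, 0), (1, 110, 0), (1, 112, 0), (0, 32, 30), (1, 78, 0), (1, 80, 0), (1, 82, 0), (1, 84, 0), (1, 86, 0), (1, 88, 0), (1, 90, 0), (1, 92, 0), (1, 94, 0), (1, 96, 0), (1, 98, 0), (0, 32, 1), (1, 57, 0), (1, 46, 0), (1, 48, 0), (1, 50, 0), (1, 52, 0), (1, 54, 0), (1, 58, 0)],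
  [(1, 53, 0), (1, 46, 0), (1, 48, 0), (1, 50, 0), (1, 54, 0), (1, 56, 0), (1, 58, 0), (0, 33, 33), (1, 7, 0), (1, 0, 0), (1, 2, 0), (1, 4, 0), (1, 8, 0), (1, 10, 0), (1, 12, 0), (1, 14, 0), (1, 16, 0), (0, 33, 9), (1, 69, 0), (1, 60, 0), (1, 62, 0), (1, 64, 0), (1, 66, 0), (1, 70, 0), (1, 72, 0), (1, 74, 0), (1, 76, 0), (0, 33, 13), (1, 41, 0), (1, 18, 0), (1, 20, 0), (1, 22, 0), (1, 24, 0), (1, 26, 0), (1, 28, 0), (1, 30, 0), (1, 32, 0), (1, 34, 0), (1, 36, 0), (1, 38, 0), (1, 42, 0), (1, 44, 0), (0, 33, 39), (0, 33, 26), (1, 83, 0), (1, 78, 0), (1, 80, 0), (1, 84, 0), (1, 86, 0), (1, 88, 0), (1, 90, 0), (1, 92, 0), (1, 94, 0), (1, 96, 0), (1, 98, 0), (0, 33, 16), (1, 100, 0), (1, 102, 0), (1, 104, 0), (1, 106, 0), (1, 108, 0), (1, 110, 0), (1, 112, 0)],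
  [(1, 33, 0), (1, 18, 0), (1, 20, 0), (1, 22, 0), (1, 24, 0), (1, 26, 0), (1, 28, 0), (1, 30, 0), (1, 34, 0), (1, 36, 0), (1, 38, 0), (1, 40, 0), (1, 42, 0), (1, 44, 0), (0, 34, 34), (0, 34, 8), (1, 67, 0), (1, 60, 0), (1, 62, 0), (1, 64, 0), (1, 68, 0), (1, 70, 0), (1, 72, 0), (1, 74, 0), (1, 76, 0), (0, 34, 16), (1, 13, 0), (1, 0, 0), (1, 2, 0), (1, 4, 0), (1, 6, 0), (1, 8, 0), (1, 10, 0), (1, 14, 0), (1, 16, 0), (0, 34, 17), (1, 100, 0), (1, 102, 0), (1, 104, 0), (1, 106, 0), (1, 108, 0), (1, 110, 0), (1, 112, 0), (0, 34, 28), (1, 81, 0), (1, 78, 0), (1, 82, 0), (1, 84, 0), (1, 86, 0), (1, 88, 0), (1, 90, 0), (1, 92, 0), (1, 94, 0), (1, 96, 0), (1, 98, 0), (0, 34, 1), (1, 53, 0), (1, 46, 0), (1, 48, 0), (1, 50, 0), (1, 54, 0), (1, 56, 0), (1, 58, 0)],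
  [(1, 55, 0), (1, 46, 0), (1, 48, 0), (1, 50, 0), (1, 52, 0), (1, 56, 0), (1, 58, 0), (0, 35, 35), (1, 7, 0), (1, 0, 0), (1, 2, 0), (1, 4, 0), (1, 8, 0), (1, 10, 0), (1, 12, 0), (1, 14, 0), (1, 16, 0), (0, 35, 9), (1, 67, 0), (1, 60, 0), (1, 62, 0), (1, 64, 0), (1, 68, 0), (1, 70, 0), (1, 72, 0), (1, 74, 0), (1, 76, 0), (0, 35, 13), (1, 39, 0), (1, 18, 0), (1, 20, 0), (1, 22, 0), (1, 24, 0), (1, 26, 0), (1, 28, 0), (1, 30, 0), (1, 32, 0), (1, 34, 0), (1, 36, 0), (1, 40, 0), (1, 42, 0), (1, 44, 0), (0, 35, 37), (0, 35, 26), (1, 79, 0), (1, 80, 0), (1, 82, 0), (1, 84, 0), (1, 86, 0), (1, 88, 0), (1, 90, 0), (1, 92, 0), (1, 94, 0), (1, 96, 0), (1, 98, 0), (0, 35, 16), (1, 101, 0), (1, 102, 0), (1, 104, 0), (1, 106, 0), (1, 108, 0), (1, 110, 0), (1, 112, 0)],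
  [(1, 35, 0), (1, 18, 0), (1, 20, 0), (1, 22, 0), (1, 24, 0), (1, 26, 0), (1, 28, 0), (1, 30, 0), (1, 32, 0), (1, 36, 0), (1, 38, 0), (1, 40, 0), (1, 42, 0), (1, 44, 0), (0, 36, 36), (0, 36, 10), (1, 67, 0), (1, 60, 0), (1, 62, 0), (1, 64, 0), (1, 68, 0), (1, 70, 0), (1, 72, 0), (1, 74, 0), (1, 76, 0), (0, 36, 20), (1, 11, 0), (1, 0, 0), (1, 2, 0), (1, 4, 0), (1, 6, 0), (1, 8, 0), (1, 12, 0), (1, 14, 0), (1, 16, 0), (0, 36, 17), (1, 105, 0), (1, 100, 0), (1, 102, 0), (1, 106, 0), (1, 108, 0), (1, 110, 0), (1, 112, 0), (0, 36, 30), (1, 81, 0), (1, 78, 0), (1, 82, 0), (1, 84, 0), (1, 86, 0), (1, 88, 0), (1, 90, 0), (1, 92, 0), (1, 94, 0), (1, 96, 0), (1, 98, 0), (0, 36, 1), (1, 59, 0), (1, 46, 0), (1, 48, 0), (1, 50, 0), (1, 52, 0), (1, 54, 0), (1, 56, 0)],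
  [(1, 57, 0), (1, 46, 0), (1, 48, 0), (1, 50, 0), (1, 52, 0), (1, 54, 0), (1, 58, 0), (0, 37, 37), (1, 1, 0), (1, 2, 0), (1, 4, 0), (1, 6, 0), (1, 8, 0), (1, 10, 0), (1, 12, 0), (1, 14, 0), (1, 16, 0), (0, 37, 9), (1, 41, 0), (1, 18, 0), (1, 20, 0), (1, 22, 0), (1, 24, 0), (1, 26, 0), (1, 28, 0), (1, 30, 0), (1, 32, 0), (1, 34, 0), (1, 36, 0), (1, 38, 0), (1, 42, 0), (1, 44, 0), (0, 37, 13), (1, 67, 0), (1, 60, 0), (1, 62, 0), (1, 64, 0), (1, 68, 0), (1, 70, 0), (1, 72, 0), (1, 74, 0), (1, 76, 0), (0, 37, 35), (0, 37, 24), (1, 79, 0), (1, 80, 0), (1, 82, 0), (1, 84, 0), (1, 86, 0), (1, 88, 0), (1, 90, 0), (1, 92, 0), (1, 94, 0), (1, 96, 0), (1, 98, 0), (0, 37, 16), (1, 103, 0), (1, 100, 0), (1, 104, 0), (1, 106, 0), (1, 108, 0), (1, 110, 0), (1, 112, 0)],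
  [(1, 37, 0), (1, 18, 0), (1, 20, 0), (1, 22, 0), (1, 24, 0), (1, 26, 0), (1, 28, 0), (1, 30, 0), (1, 32, 0), (1, 34, 0), (1, 38, 0), (1, 40, 0), (1, 42, 0), (1, 44, 0), (0, 38, 38), (0, 38, 8), (1, 69, 0), (1, 60, 0), (1, 62, 0), (1, 64, 0), (1, 66, 0), (1, 70, 0), (1, 72, 0), (1, 74, 0), (1, 76, 0), (0, 38, 20), (1, 13, 0), (1, 0, 0), (1, 2, 0), (1, 4, 0), (1, 6, 0), (1, 8, 0), (1, 10, 0), (1, 14, 0), (1, 16, 0), (0, 38, 17), (1, 101, 0), (1, 102, 0), (1, 104, 0), (1, 106, 0), (1, 108, 0), (1, 110, 0), (1, 112, 0), (0, 38, 28), (1, 78, 0), (1, 80, 0), (1, 82, 0), (1, 84, 0), (1, 86, 0), (1, 88, 0), (1, 90, 0), (1, 92, 0), (1, 94, 0), (1, 96, 0), (1, 98, 0), (0, 38, 1), (1, 55, 0), (1, 46, 0), (1, 48, 0), (1, 50, 0), (1, 52, 0), (1, 56, 0), (1, 58, 0)],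
  [(1, 59, 0), (1, 46, 0), (1, 48, 0), (1, 50, 0), (1, 52, 0), (1, 54, 0), (1, 56, 0), (0, 39, 39), (1, 1, 0), (1, 2, 0), (1, 4, 0), (1, 6, 0), (1, 8, 0), (1, 10, 0), (1, 12, 0), (1, 14, 0), (1, 16, 0), (0, 39, 9), (1, 39, 0), (1, 18, 0), (1, 20, 0), (1, 22, 0), (1, 24, 0), (1, 26, 0), (1, 28, 0), (1, 30, 0), (1, 32, 0), (1, 34, 0), (1, 36, 0), (1, 40, 0), (1, 42, 0), (1, 44, 0), (0, 39, 13), (1, 69, 0), (1, 60, 0), (1, 62, 0), (1, 64, 0), (1, 66, 0), (1, 70, 0), (1, 72, 0), (1, 74, 0), (1, 76, 0), (0, 39, 33), (0, 39, 24), (1, 83, 0), (1, 78, 0), (1, 80, 0), (1, 84, 0), (1, 86, 0), (1, 88, 0), (1, 90, 0), (1, 92, 0), (1, 94, 0), (1, 96, 0), (1, 98, 0), (0, 39, 16), (1, 105, 0), (1, 100, 0), (1, 102, 0), (1, 106, 0), (1, 108, 0), (1, 110, 0), (1, 112, 0)],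
  [(1, 39, 0), (1, 18, 0), (1, 20, 0), (1, 22, 0), (1, 24, 0), (1, 26, 0), (1, 28, 0), (1, 30, 0), (1, 32, 0), (1, 34, 0), (1, 36, 0), (1, 40, 0), (1, 42, 0), (1, 44, 0), (0, 40, 40), (0, 8, 10), (1, 7, 0), (1, 0, 0), (1, 2, 0), (1, 4, 0), (1, 8, 0), (1, 10, 0), (1, 12, 0), (1, 14, 0), (1, 16, 0), (0, 40, 6), (1, 69, 0), (1, 60, 0), (1, 62, 0), (1, 64, 0), (1, 66, 0), (1, 70, 0), (1, 72, 0), (1, 74, 0), (1, 76, 0), (0, 40, 1), (1, 87, 0), (1, 78, 0), (1, 80, 0), (1, 82, 0), (1, 84, 0), (1, 88, 0), (1, 90, 0), (1, 92, 0), (1, 94, 0), (1, 96, 0), (1, 98, 0), (0, 8, 1), (1, 51, 0), (1, 46, 0), (1, 48, 0), (1, 52, 0), (1, 54, 0), (1, 56, 0), (1, 58, 0), (0, 8, 17), (1, 113, 0), (1, 100, 0), (1, 102, 0), (1, 104, 0), (1, 106, 0), (1, 108, 0), (1, 110, 0)],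
  [(1, 85, 0), (1, 78, 0), (1, 80, 0), (1, 82, 0), (1, 86, 0), (1, 88, 0), (1, 90, 0), (1, 92, 0), (1, 94, 0), (1, 96, 0), (1, 98, 0), (0, 41, 41), (0, 41, 18), (1, 75, 0), (1, 60, 0), (1, 62, 0), (1, 64, 0), (1, 66, 0), (1, 68, 0), (1, 70, 0), (1, 72, 0), (1, 76, 0), (0, 41, 43), (1, 18, 0), (1, 20, 0), (1, 22, 0), (1, 24, 0), (1, 26, 0), (1, 28, 0), (1, 30, 0), (1, 32, 0), (1, 34, 0), (1, 36, 0), (1, 38, 0), (1, 40, 0), (1, 42, 0), (1, 44, 0), (0, 41, 45), (1, 1, 0), (1, 2, 0), (1, 4, 0), (1, 6, 0), (1, 8, 0), (1, 10, 0), (1, 12, 0), (1, 14, 0), (1, 16, 0), (0, 41, 28), (1, 109, 0), (1, 100, 0), (1, 102, 0), (1, 104, 0), (1, 106, 0), (1, 110, 0), (1, 112, 0), (0, 41, 8), (1, 53, 0), (1, 46, 0), (1, 48, 0), (1, 50, 0), (1, 54, 0), (1, 56, 0), (1, 58, 0)],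
  [(1, 67, 0), (1, 60, 0), (1, 62, 0), (1, 64, 0), (1, 68, 0), (1, 70, 0), (1, 72, 0), (1, 74, 0), (1, 76, 0), (0, 42, 42), (1, 18, 0), (1, 20, 0), (1, 22, 0), (1, 24, 0), (1, 26, 0), (1, 28, 0), (1, 30, 0), (1, 32, 0), (1, 34, 0), (1, 36, 0), (1, 38, 0), (1, 40, 0), (1, 42, 0), (1, 44, 0), (0, 42, 28), (1, 17, 0), (1, 0, 0), (1, 2, 0), (1, 4, 0), (1, 6, 0), (1, 8, 0), (1, 10, 0), (1, 12, 0), (1, 14, 0), (0, 42, 46), (0, 42, 16), (1, 95, 0), (1, 78, 0), (1, 80, 0), (1, 82, 0), (1, 84, 0), (1, 86, 0), (1, 88, 0), (1, 90, 0), (1, 92, 0), (1, 96, 0), (1, 98, 0), (0, 17, 28), (1, 47, 0), (1, 48, 0), (1, 50, 0), (1, 52, 0), (1, 54, 0), (1, 56, 0), (1, 58, 0), (0, 17, 8), (1, 100, 0), (1, 102, 0), (1, 104, 0), (1, 106, 0), (1, 108, 0), (1, 110, 0), (1, 112, 0)],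
  [(1, 87, 0), (1, 78, 0), (1, 80, 0), (1, 82, 0), (1, 84, 0), (1, 88, 0), (1, 90, 0), (1, 92, 0), (1, 94, 0), (1, 96, 0), (1, 98, 0), (0, 43, 43), (0, 43, 18), (1, 77, 0), (1, 60, 0), (1, 62, 0), (1, 64, 0), (1, 66, 0), (1, 68, 0), (1, 70, 0), (1, 72, 0), (1, 74, 0), (0, 43, 41), (1, 18, 0), (1, 20, 0), (1, 22, 0), (1, 24, 0), (1, 26, 0), (1, 28, 0), (1, 30, 0), (1, 32, 0), (1, 34, 0), (1, 36, 0), (1, 38, 0), (1, 40, 0), (1, 42, 0), (1, 44, 0), (0, 43, 45), (1, 7, 0), (1, 0, 0), (1, 2, 0), (1, 4, 0), (1, 8, 0), (1, 10, 0), (1, 12, 0), (1, 14, 0), (1, 16, 0), (0, 43, 28), (1, 107, 0), (1, 100, 0), (1, 102, 0), (1, 104, 0), (1, 108, 0), (1, 110, 0), (1, 112, 0), (0, 43, 8), (1, 55, 0), (1, 46, 0), (1, 48, 0), (1, 50, 0), (1, 52, 0), (1, 56, 0), (1, 58, 0)],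
  [(1, 41, 0), (1, 18, 0), (1, 20, 0), (1, 22, 0), (1, 24, 0), (1, 26, 0), (1, 28, 0), (1, 30, 0), (1, 32, 0), (1, 34, 0), (1, 36, 0), (1, 38, 0), (1, 42, 0), (1, 44, 0), (0, 44, 44), (0, 8, 10), (1, 7, 0), (1, 0, 0), (1, 2, 0), (1, 4, 0), (1, 8, 0), (1, 10, 0), (1, 12, 0), (1, 14, 0), (1, 16, 0), (0, 44, 6), (1, 67, 0), (1, 60, 0), (1, 62, 0), (1, 64, 0), (1, 68, 0), (1, 70, 0), (1, 72, 0), (1, 74, 0), (1, 76, 0), (0, 44, 1), (1, 85, 0), (1, 78, 0), (1, 80, 0), (1, 82, 0), (1, 86, 0), (1, 88, 0), (1, 90, 0), (1, 92, 0), (1, 94, 0), (1, 96, 0), (1, 98, 0), (0, 8, 1), (1, 51, 0), (1, 46, 0), (1, 48, 0), (1, 52, 0), (1, 54, 0), (1, 56, 0), (1, 58, 0), (0, 8, 17), (1, 113, 0), (1, 100, 0), (1, 102, 0), (1, 104, 0), (1, 106, 0), (1, 108, 0), (1, 110, 0)],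
  [(1, 89, 0), (1, 78, 0), (1, 80, 0), (1, 82, 0), (1, 84, 0), (1, 86, 0), (1, 90, 0), (1, 92, 0), (1, 94, 0), (1, 96, 0), (1, 98, 0), (0, 45, 45), (0, 45, 21), (1, 43, 0), (1, 18, 0), (1, 20, 0), (1, 22, 0), (1, 24, 0), (1, 26, 0), (1, 28, 0), (1, 30, 0), (1, 32, 0), (1, 34, 0), (1, 36, 0), (1, 38, 0), (1, 40, 0), (1, 44, 0), (0, 45, 41), (1, 7, 0), (1, 0, 0), (1, 2, 0), (1, 4, 0), (1, 8, 0), (1, 10, 0), (1, 12, 0), (1, 14, 0), (1, 16, 0), (0, 45, 58), (1, 61, 0), (1, 62, 0), (1, 64, 0), (1, 66, 0), (1, 68, 0), (1, 70, 0), (1, 72, 0), (1, 74, 0), (1, 76, 0), (0, 45, 8), (1, 57, 0), (1, 46, 0), (1, 48, 0), (1, 50, 0), (1, 52, 0), (1, 54, 0), (1, 58, 0), (0, 45, 24), (1, 111, 0), (1, 100, 0), (1, 102, 0), (1, 104, 0), (1, 106, 0), (1, 108, 0), (1, 112, 0)],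
  [(1, 69, 0), (1, 60, 0), (1, 62, 0), (1, 64, 0), (1, 66, 0), (1, 70, 0), (1, 72, 0), (1, 74, 0), (1, 76, 0), (0, 46, 46), (1, 18, 0), (1, 20, 0), (1, 22, 0), (1, 24, 0), (1, 26, 0), (1, 28, 0), (1, 30, 0), (1, 32, 0), (1, 34, 0), (1, 36, 0), (1, 38, 0), (1, 40, 0), (1, 42, 0), (1, 44, 0), (0, 46, 42), (0, 46, 50), (1, 11, 0), (1, 0, 0), (1, 2, 0), (1, 4, 0), (1, 6, 0), (1, 8, 0), (1, 12, 0), (1, 14, 0), (1, 16, 0), (0, 46, 16), (1, 99, 0), (1, 78, 0), (1, 80, 0), (1, 82, 0), (1, 84, 0), (1, 86, 0), (1, 88, 0), (1, 90, 0), (1, 92, 0), (1, 94, 0), (1, 96, 0), (0, 17, 28), (1, 47, 0), (1, 48, 0), (1, 50, 0), (1, 52, 0), (1, 54, 0), (1, 56, 0), (1, 58, 0), (0, 17, 8), (1, 100, 0), (1, 102, 0), (1, 104, 0), (1, 106, 0), (1, 108, 0), (1, 110, 0), (1, 112, 0)],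
  [(1, 91, 0), (1, 78, 0), (1, 80, 0), (1, 82, 0), (1, 84, 0), (1, 86, 0), (1, 88, 0), (1, 92, 0), (1, 94, 0), (1, 96, 0), (1, 98, 0), (0, 47, 47), (0, 47, 21), (1, 45, 0), (1, 18, 0), (1, 20, 0), (1, 22, 0), (1, 24, 0), (1, 26, 0), (1, 28, 0), (1, 30, 0), (1, 32, 0), (1, 34, 0), (1, 36, 0), (1, 38, 0), (1, 40, 0), (1, 42, 0), (0, 47, 41), (1, 1, 0), (1, 2, 0), (1, 4, 0), (1, 6, 0), (1, 8, 0), (1, 10, 0), (1, 12, 0), (1, 14, 0), (1, 16, 0), (0, 47, 58), (1, 60, 0), (1, 62, 0), (1, 64, 0), (1, 66, 0), (1, 68, 0), (1, 70, 0), (1, 72, 0), (1, 74, 0), (1, 76, 0), (0, 47, 8), (1, 59, 0), (1, 46, 0), (1, 48, 0), (1, 50, 0), (1, 52, 0), (1, 54, 0), (1, 56, 0), (0, 47, 24), (1, 113, 0), (1, 100, 0), (1, 102, 0), (1, 104, 0), (1, 106, 0), (1, 108, 0), (1, 110, 0)],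
  [(1, 15, 0), (1, 0, 0), (1, 2, 0), (1, 4, 0), (1, 6, 0), (1, 8, 0), (1, 10, 0), (1, 12, 0), (1, 16, 0), (0, 48, 48), (1, 39, 0), (1, 18, 0), (1, 20, 0), (1, 22, 0), (1, 24, 0), (1, 26, 0), (1, 28, 0), (1, 30, 0), (1, 32, 0), (1, 34, 0), (1, 36, 0), (1, 40, 0), (1, 42, 0), (1, 44, 0), (0, 48, 1), (1, 113, 0), (1, 100, 0), (1, 102, 0), (1, 104, 0), (1, 106, 0), (1, 108, 0), (1, 110, 0), (0, 48, 2), (1, 71, 0), (1, 60, 0), (1, 62, 0), (1, 64, 0), (1, 66, 0), (1, 68, 0), (1, 72, 0), (1, 74, 0), (1, 76, 0), (0, 48, 24), (0, 48, 10), (1, 95, 0), (1, 78, 0), (1, 80, 0), (1, 82, 0), (1, 84, 0), (1, 86, 0), (1, 88, 0), (1, 90, 0), (1, 92, 0), (1, 96, 0), (1, 98, 0), (0, 48, 17), (1, 51, 0), (1, 46, 0), (1, 48, 0), (1, 52, 0), (1, 54, 0), (1, 56, 0), (1, 58, 0)],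
  [(1, 107, 0), (1, 100, 0), (1, 102, 0), (1, 104, 0), (1, 108, 0), (1, 110, 0), (1, 112, 0), (0, 49, 49), (1, 67, 0), (1, 60, 0), (1, 62, 0), (1, 64, 0), (1, 68, 0), (1, 70, 0), (1, 72, 0), (1, 74, 0), (1, 76, 0), (0, 49, 25), (1, 1, 0), (1, 2, 0), (1, 4, 0), (1, 6, 0), (1, 8, 0), (1, 10, 0), (1, 12, 0), (1, 14, 0), (1, 16, 0), (0, 49, 29), (1, 18, 0), (1, 20, 0), (1, 22, 0), (1, 24, 0), (1, 26, 0), (1, 28, 0), (1, 30, 0), (1, 32, 0), (1, 34, 0), (1, 36, 0), (1, 38, 0), (1, 40, 0), (1, 42, 0), (1, 44, 0), (0, 49, 31), (0, 49, 50), (1, 89, 0), (1, 78, 0), (1, 80, 0), (1, 82, 0), (1, 84, 0), (1, 86, 0), (1, 90, 0), (1, 92, 0), (1, 94, 0), (1, 96, 0), (1, 98, 0), (0, 49, 16), (1, 46, 0), (1, 48, 0), (1, 50, 0), (1, 52, 0), (1, 54, 0), (1, 56, 0), (1, 58, 0)],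
  [(1, 71, 0), (1, 60, 0), (1, 62, 0), (1, 64, 0), (1, 66, 0), (1, 68, 0), (1, 72, 0), (1, 74, 0), (1, 76, 0), (0, 50, 50), (1, 41, 0), (1, 18, 0), (1, 20, 0), (1, 22, 0), (1, 24, 0), (1, 26, 0), (1, 28, 0), (1, 30, 0), (1, 32, 0), (1, 34, 0), (1, 36, 0), (1, 38, 0), (1, 42, 0), (1, 44, 0), (0, 50, 17), (1, 47, 0), (1, 48, 0), (1, 50, 0), (1, 52, 0), (1, 54, 0), (1, 56, 0), (1, 58, 0), (0, 50, 28), (1, 7, 0), (1, 0, 0), (1, 2, 0), (1, 4, 0), (1, 8, 0), (1, 10, 0), (1, 12, 0), (1, 14, 0), (1, 16, 0), (0, 50, 30), (0, 50, 8), (1, 95, 0), (1, 78, 0), (1, 80, 0), (1, 82, 0), (1, 84, 0), (1, 86, 0), (1, 88, 0), (1, 90, 0), (1, 92, 0), (1, 96, 0), (1, 98, 0), (0, 50, 1), (1, 109, 0), (1, 100, 0), (1, 102, 0), (1, 104, 0), (1, 106, 0), (1, 110, 0), (1, 112, 0)],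
  [(1, 109, 0), (1, 100, 0), (1, 102, 0), (1, 104, 0), (1, 106, 0), (1, 110, 0), (1, 112, 0), (0, 51, 51), (1, 67, 0), (1, 60, 0), (1, 62, 0), (1, 64, 0), (1, 68, 0), (1, 70, 0), (1, 72, 0), (1, 74, 0), (1, 76, 0), (0, 51, 25), (1, 7, 0), (1, 0, 0), (1, 2, 0), (1, 4, 0), (1, 8, 0), (1, 10, 0), (1, 12, 0), (1, 14, 0), (1, 16, 0), (0, 51, 29), (0, 51, 31), (1, 18, 0), (1, 20, 0), (1, 22, 0), (1, 24, 0), (1, 26, 0), (1, 28, 0), (1, 30, 0), (1, 32, 0), (1, 34, 0), (1, 36, 0), (1, 38, 0), (1, 40, 0), (1, 42, 0), (1, 44, 0), (0, 51, 50), (1, 91, 0), (1, 78, 0), (1, 80, 0), (1, 82, 0), (1, 84, 0), (1, 86, 0), (1, 88, 0), (1, 92, 0), (1, 94, 0), (1, 96, 0), (1, 98, 0), (0, 51, 16), (1, 47, 0), (1, 48, 0), (1, 50, 0), (1, 52, 0), (1, 54, 0), (1, 56, 0), (1, 58, 0)],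
  [(1, 73, 0), (1, 60, 0), (1, 62, 0), (1, 64, 0), (1, 66, 0), (1, 68, 0), (1, 70, 0), (1, 74, 0), (1, 76, 0), (0, 52, 52), (1, 39, 0), (1, 18, 0), (1, 20, 0), (1, 22, 0), (1, 24, 0), (1, 26, 0), (1, 28, 0), (1, 30, 0), (1, 32, 0), (1, 34, 0), (1, 36, 0), (1, 40, 0), (1, 42, 0), (1, 44, 0), (0, 52, 17), (1, 49, 0), (1, 46, 0), (1, 50, 0), (1, 52, 0), (1, 54, 0), (1, 56, 0), (1, 58, 0), (0, 52, 28), (0, 52, 30), (1, 1, 0), (1, 2, 0), (1, 4, 0), (1, 6, 0), (1, 8, 0), (1, 10, 0), (1, 12, 0), (1, 14, 0), (1, 16, 0), (0, 52, 10), (1, 99, 0), (1, 78, 0), (1, 80, 0), (1, 82, 0), (1, 84, 0), (1, 86, 0), (1, 88, 0), (1, 90, 0), (1, 92, 0), (1, 94, 0), (1, 96, 0), (0, 52, 1), (1, 111, 0), (1, 100, 0), (1, 102, 0), (1, 104, 0), (1, 106, 0), (1, 108, 0), (1, 112, 0)],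
  [(1, 111, 0), (1, 100, 0), (1, 102, 0), (1, 104, 0), (1, 106, 0), (1, 108, 0), (1, 112, 0), (0, 53, 53), (1, 67, 0), (1, 60, 0), (1, 62, 0), (1, 64, 0), (1, 68, 0), (1, 70, 0), (1, 72, 0), (1, 74, 0), (1, 76, 0), (0, 53, 25), (0, 53, 27), (1, 18, 0), (1, 20, 0), (1, 22, 0), (1, 24, 0), (1, 26, 0), (1, 28, 0), (1, 30, 0), (1, 32, 0), (1, 34, 0), (1, 36, 0), (1, 38, 0), (1, 40, 0), (1, 42, 0), (1, 44, 0), (0, 53, 29), (1, 1, 0), (1, 2, 0), (1, 4, 0), (1, 6, 0), (1, 8, 0), (1, 10, 0), (1, 12, 0), (1, 14, 0), (1, 16, 0), (0, 53, 50), (1, 87, 0), (1, 78, 0), (1, 80, 0), (1, 82, 0), (1, 84, 0), (1, 88, 0), (1, 90, 0), (1, 92, 0), (1, 94, 0), (1, 96, 0), (1, 98, 0), (0, 53, 16), (1, 49, 0), (1, 46, 0), (1, 50, 0), (1, 52, 0), (1, 54, 0), (1, 56, 0), (1, 58, 0)],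
  [(1, 17, 0), (1, 0, 0), (1, 2, 0), (1, 4, 0), (1, 6, 0), (1, 8, 0), (1, 10, 0), (1, 12, 0), (1, 14, 0), (0, 54, 54), (1, 41, 0), (1, 18, 0), (1, 20, 0), (1, 22, 0), (1, 24, 0), (1, 26, 0), (1, 28, 0), (1, 30, 0), (1, 32, 0), (1, 34, 0), (1, 36, 0), (1, 38, 0), (1, 42, 0), (1, 44, 0), (0, 54, 1), (1, 107, 0), (1, 100, 0), (1, 102, 0), (1, 104, 0), (1, 108, 0), (1, 110, 0), (1, 112, 0), (0, 54, 6), (1, 73, 0), (1, 60, 0), (1, 62, 0), (1, 64, 0), (1, 66, 0), (1, 68, 0), (1, 70, 0), (1, 74, 0), (1, 76, 0), (0, 54, 26), (0, 54, 8), (1, 99, 0), (1, 78, 0), (1, 80, 0), (1, 82, 0), (1, 84, 0), (1, 86, 0), (1, 88, 0), (1, 90, 0), (1, 92, 0), (1, 94, 0), (1, 96, 0), (0, 54, 17), (1, 46, 0), (1, 48, 0), (1, 50, 0), (1, 52, 0), (1, 54, 0), (1, 56, 0), (1, 58, 0)],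
  [(1, 113, 0), (1, 100, 0), (1, 102, 0), (1, 104, 0), (1, 106, 0), (1, 108, 0), (1, 110, 0), (0, 55, 55), (1, 67, 0), (1, 60, 0), (1, 62, 0), (1, 64, 0), (1, 68, 0), (1, 70, 0), (1, 72, 0), (1, 74, 0), (1, 76, 0), (0, 55, 25), (1, 18, 0), (1, 20, 0), (1, 22, 0), (1, 24, 0), (1, 26, 0), (1, 28, 0), (1, 30, 0), (1, 32, 0), (1, 34, 0), (1, 36, 0), (1, 38, 0), (1, 40, 0), (1, 42, 0), (1, 44, 0), (0, 55, 27), (0, 55, 29), (1, 7, 0), (1, 0, 0), (1, 2, 0), (1, 4, 0), (1, 8, 0), (1, 10, 0), (1, 12, 0), (1, 14, 0), (1, 16, 0), (0, 55, 50), (1, 85, 0), (1, 78, 0), (1, 80, 0), (1, 82, 0), (1, 86, 0), (1, 88, 0), (1, 90, 0), (1, 92, 0), (1, 94, 0), (1, 96, 0), (1, 98, 0), (0, 55, 16), (1, 51, 0), (1, 46, 0), (1, 48, 0), (1, 52, 0), (1, 54, 0), (1, 56, 0), (1, 58, 0)],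
  [(1, 43, 0), (1, 18, 0), (1, 20, 0), (1, 22, 0), (1, 24, 0), (1, 26, 0), (1, 28, 0), (1, 30, 0), (1, 32, 0), (1, 34, 0), (1, 36, 0), (1, 38, 0), (1, 40, 0), (1, 44, 0), (0, 56, 56), (0, 56, 8), (1, 15, 0), (1, 0, 0), (1, 2, 0), (1, 4, 0), (1, 6, 0), (1, 8, 0), (1, 10, 0), (1, 12, 0), (1, 16, 0), (0, 56, 12), (1, 73, 0), (1, 60, 0), (1, 62, 0), (1, 64, 0), (1, 66, 0), (1, 68, 0), (1, 70, 0), (1, 74, 0), (1, 76, 0), (0, 56, 1), (1, 97, 0), (1, 78, 0), (1, 80, 0), (1, 82, 0), (1, 84, 0), (1, 86, 0), (1, 88, 0), (1, 90, 0), (1, 92, 0), (1, 94, 0), (1, 98, 0), (0, 8, 1), (1, 51, 0), (1, 46, 0), (1, 48, 0), (1, 52, 0), (1, 54, 0), (1, 56, 0), (1, 58, 0), (0, 56, 15), (1, 113, 0), (1, 100, 0), (1, 102, 0), (1, 104, 0), (1, 106, 0), (1, 108, 0), (1, 110, 0)],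
  [(1, 93, 0), (1, 78, 0), (1, 80, 0), (1, 82, 0), (1, 84, 0), (1, 86, 0), (1, 88, 0), (1, 90, 0), (1, 94, 0), (1, 96, 0), (1, 98, 0), (0, 57, 57), (0, 57, 21), (1, 69, 0), (1, 60, 0), (1, 62, 0), (1, 64, 0), (1, 66, 0), (1, 70, 0), (1, 72, 0), (1, 74, 0), (1, 76, 0), (0, 57, 41), (1, 27, 0), (1, 18, 0), (1, 20, 0), (1, 22, 0), (1, 24, 0), (1, 28, 0), (1, 30, 0), (1, 32, 0), (1, 34, 0), (1, 36, 0), (1, 38, 0), (1, 40, 0), (1, 42, 0), (1, 44, 0), (0, 57, 58), (1, 9, 0), (1, 0, 0), (1, 2, 0), (1, 4, 0), (1, 6, 0), (1, 10, 0), (1, 12, 0), (1, 14, 0), (1, 16, 0), (0, 57, 28), (1, 55, 0), (1, 46, 0), (1, 48, 0), (1, 50, 0), (1, 52, 0), (1, 56, 0), (1, 58, 0), (0, 57, 8), (1, 107, 0), (1, 100, 0), (1, 102, 0), (1, 104, 0), (1, 108, 0), (1, 110, 0), (1, 112, 0)],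
  [(1, 95, 0), (1, 78, 0), (1, 80, 0), (1, 82, 0), (1, 84, 0), (1, 86, 0), (1, 88, 0), (1, 90, 0), (1, 92, 0), (1, 96, 0), (1, 98, 0), (0, 58, 58), (0, 58, 18), (1, 39, 0), (1, 18, 0), (1, 20, 0), (1, 22, 0), (1, 24, 0), (1, 26, 0), (1, 28, 0), (1, 30, 0), (1, 32, 0), (1, 34, 0), (1, 36, 0), (1, 40, 0), (1, 42, 0), (1, 44, 0), (0, 58, 45), (1, 60, 0), (1, 62, 0), (1, 64, 0), (1, 66, 0), (1, 68, 0), (1, 70, 0), (1, 72, 0), (1, 74, 0), (1, 76, 0), (0, 58, 57), (1, 5, 0), (1, 0, 0), (1, 2, 0), (1, 6, 0), (1, 8, 0), (1, 10, 0), (1, 12, 0), (1, 14, 0), (1, 16, 0), (0, 21, 8), (1, 103, 0), (1, 100, 0), (1, 104, 0), (1, 106, 0), (1, 108, 0), (1, 110, 0), (1, 112, 0), (0, 58, 29), (1, 53, 0), (1, 46, 0), (1, 48, 0), (1, 50, 0), (1, 54, 0), (1, 56, 0), (1, 58, 0)],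
  [(1, 97, 0), (1, 78, 0), (1, 80, 0), (1, 82, 0), (1, 84, 0), (1, 86, 0), (1, 88, 0), (1, 90, 0), (1, 92, 0), (1, 94, 0), (1, 98, 0), (0, 59, 59), (0, 59, 21), (1, 67, 0), (1, 60, 0), (1, 62, 0), (1, 64, 0), (1, 68, 0), (1, 70, 0), (1, 72, 0), (1, 74, 0), (1, 76, 0), (0, 59, 41), (1, 29, 0), (1, 18, 0), (1, 20, 0), (1, 22, 0), (1, 24, 0), (1, 26, 0), (1, 30, 0), (1, 32, 0), (1, 34, 0), (1, 36, 0), (1, 38, 0), (1, 40, 0), (1, 42, 0), (1, 44, 0), (0, 59, 58), (1, 5, 0), (1, 0, 0), (1, 2, 0), (1, 6, 0), (1, 8, 0), (1, 10, 0), (1, 12, 0), (1, 14, 0), (1, 16, 0), (0, 59, 28), (1, 53, 0), (1, 46, 0), (1, 48, 0), (1, 50, 0), (1, 54, 0), (1, 56, 0), (1, 58, 0), (0, 59, 8), (1, 109, 0), (1, 100, 0), (1, 102, 0), (1, 104, 0), (1, 106, 0), (1, 110, 0), (1, 112, 0)],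
  [(1, 45, 0), (1, 18, 0), (1, 20, 0), (1, 22, 0), (1, 24, 0), (1, 26, 0), (1, 28, 0), (1, 30, 0), (1, 32, 0), (1, 34, 0), (1, 36, 0), (1, 38, 0), (1, 40, 0), (1, 42, 0), (0, 60, 60), (0, 60, 8), (1, 73, 0), (1, 60, 0), (1, 62, 0), (1, 64, 0), (1, 66, 0), (1, 68, 0), (1, 70, 0), (1, 74, 0), (1, 76, 0), (0, 60, 12), (1, 15, 0), (1, 0, 0), (1, 2, 0), (1, 4, 0), (1, 6, 0), (1, 8, 0), (1, 10, 0), (1, 12, 0), (1, 16, 0), (0, 60, 17), (1, 85, 0), (1, 78, 0), (1, 80, 0), (1, 82, 0), (1, 86, 0), (1, 88, 0), (1, 90, 0), (1, 92, 0), (1, 94, 0), (1, 96, 0), (1, 98, 0), (0, 8, 17), (1, 113, 0), (1, 100, 0), (1, 102, 0), (1, 104, 0), (1, 106, 0), (1, 108, 0), (1, 110, 0), (0, 60, 55), (1, 49, 0), (1, 46, 0), (1, 50, 0), (1, 52, 0), (1, 54, 0), (1, 56, 0), (1, 58, 0)],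
  [(1, 75, 0), (1, 60, 0), (1, 62, 0), (1, 64, 0), (1, 66, 0), (1, 68, 0), (1, 70, 0), (1, 72, 0), (1, 76, 0), (0, 61, 61), (1, 18, 0), (1, 20, 0), (1, 22, 0), (1, 24, 0), (1, 26, 0), (1, 28, 0), (1, 30, 0), (1, 32, 0), (1, 34, 0), (1, 36, 0), (1, 38, 0), (1, 40, 0), (1, 42, 0), (1, 44, 0), (0, 61, 28), (1, 59, 0), (1, 46, 0), (1, 48, 0), (1, 50, 0), (1, 52, 0), (1, 54, 0), (1, 56, 0), (0, 61, 63), (0, 61, 8), (1, 111, 0), (1, 100, 0), (1, 102, 0), (1, 104, 0), (1, 106, 0), (1, 108, 0), (1, 112, 0), (0, 61, 16), (1, 89, 0), (1, 78, 0), (1, 80, 0), (1, 82, 0), (1, 84, 0), (1, 86, 0), (1, 90, 0), (1, 92, 0), (1, 94, 0), (1, 96, 0), (1, 98, 0), (0, 61, 56), (1, 5, 0), (1, 0, 0), (1, 2, 0), (1, 6, 0), (1, 8, 0), (1, 10, 0), (1, 12, 0), (1, 14, 0), (1, 16, 0)],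
  [(1, 99, 0), (1, 78, 0), (1, 80, 0), (1, 82, 0), (1, 84, 0), (1, 86, 0), (1, 88, 0), (1, 90, 0), (1, 92, 0), (1, 94, 0), (1, 96, 0), (0, 62, 62), (0, 62, 18), (1, 41, 0), (1, 18, 0), (1, 20, 0), (1, 22, 0), (1, 24, 0), (1, 26, 0), (1, 28, 0), (1, 30, 0), (1, 32, 0), (1, 34, 0), (1, 36, 0), (1, 38, 0), (1, 42, 0), (1, 44, 0), (0, 62, 45), (1, 61, 0), (1, 62, 0), (1, 64, 0), (1, 66, 0), (1, 68, 0), (1, 70, 0), (1, 72, 0), (1, 74, 0), (1, 76, 0), (0, 62, 57), (1, 9, 0), (1, 0, 0), (1, 2, 0), (1, 4, 0), (1, 6, 0), (1, 10, 0), (1, 12, 0), (1, 14, 0), (1, 16, 0), (0, 21, 8), (1, 103, 0), (1, 100, 0), (1, 104, 0), (1, 106, 0), (1, 108, 0), (1, 110, 0), (1, 112, 0), (0, 62, 29), (1, 55, 0), (1, 46, 0), (1, 48, 0), (1, 50, 0), (1, 52, 0), (1, 56, 0), (1, 58, 0)],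
  [(1, 77, 0), (1, 60, 0), (1, 62, 0), (1, 64, 0), (1, 66, 0), (1, 68, 0), (1, 70, 0), (1, 72, 0), (1, 74, 0), (0, 63, 63), (1, 18, 0), (1, 20, 0), (1, 22, 0), (1, 24, 0), (1, 26, 0), (1, 28, 0), (1, 30, 0), (1, 32, 0), (1, 34, 0), (1, 36, 0), (1, 38, 0), (1, 40, 0), (1, 42, 0), (1, 44, 0), (0, 63, 28), (1, 57, 0), (1, 46, 0), (1, 48, 0), (1, 50, 0), (1, 52, 0), (1, 54, 0), (1, 58, 0), (0, 63, 61), (0, 63, 8), (1, 113, 0), (1, 100, 0), (1, 102, 0), (1, 104, 0), (1, 106, 0), (1, 108, 0), (1, 110, 0), (0, 63, 16), (1, 91, 0), (1, 78, 0), (1, 80, 0), (1, 82, 0), (1, 84, 0), (1, 86, 0), (1, 88, 0), (1, 92, 0), (1, 94, 0), (1, 96, 0), (1, 98, 0), (0, 63, 56), (1, 9, 0), (1, 0, 0), (1, 2, 0), (1, 4, 0), (1, 6, 0), (1, 10, 0), (1, 12, 0), (1, 14, 0), (1, 16, 0)]]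

/-! ### Boolean checks -/

def cd (k : ℕ) : ℕ := SL.getD k idc

theorem SL_ok : okU SL 0 = true := by decide +kernel

theorem SL_len : SL.length = 64 := by decide +kernel

theorem idc_mem : idc ∈ SL := by decide +kernel

def mtOK : Bool :=
  (List.range 64).all (fun a => (List.range 64).all (fun b =>
    Nat.blt (mtab a b) 64 && compOK (cd (mtab a b)) (cd a) (cd b)))

theorem mt_ok : mtOK = true := by decide +kernel

def itOK : Bool :=
  (List.range 64).all (fun a => Nat.blt (itab.getD a 0) 64 && Nat.beq (mtab a (itab.getD a 0)) 0)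

theorem it_ok : itOK = true := by decide +kernel

def injOK : Bool :=
  (List.range 64).all (fun a => (List.range 64).all (fun b => Nat.beq a b ||
    (List.range 24).any (fun t => !(Nat.beq (papp (cd a) t) (papp (cd b) t)))))

theorem inj_ok : injOK = true := by decide +kernel

def centOK : Bool :=
  (List.range 64).all (fun k => Nat.beq k 0 || Nat.beq k zi ||
    (List.range 64).any (fun t => !(Nat.beq (mtab k t) (mtab t k))))

theorem cent_ok : centOK = true := by decide +kernel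

def zcentOK : Bool := (List.range 64).all (fun t => Nat.beq (mtab zi t) (mtab t zi))

theorem zcent_ok : zcentOK = true := by decide +kernel

theorem cd_zi : cd zi = zc := by decide +kernel

theorem cd_xi : cd xi = xc := by decide +kernel

theorem cd_zero : cd 0 = idc := by decide +kernel

theorem idc_one : (List.range 24).all (fun i => Nat.beq (papp idc i) i) = true := by decide +kernel

def certsOK : Bool :=
  certs.all (fun c => isAutC c.2.1 && Nat.beq (pmask c.2.1 Dm) Dm && fixesMask c.2.1 0 &&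
    Nat.blt c.1 64 && Nat.blt c.2.2 64 &&
    (List.range 24).all (fun t =>
      Nat.beq (papp c.2.1 (papp (cd c.1) t)) (papp (cd c.2.2) (papp c.2.1 t))))

theorem certs_ok : certsOK = true := by decide +kernel

/-- run a derivation -/
def runD : List ℕ → List (ℕ × ℕ × ℕ) → List ℕ
  | known, [] => known
  | known, (kind, a, b) :: rest =>
    if Nat.beq kind 0 then
      if known.any (Nat.beq a) && known.any (Nat.beq b) then runD (mtab a b :: known) rest else []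
    else
      if known.any (Nat.beq (certs.getD a (0, 0, 0)).1) && Nat.blt a certs.length then
        runD ((certs.getD a (0, 0, 0)).2.2 :: known) rest
      else []

def derivOK : Bool :=
  (List.range 64).all (fun k => Nat.beq k 0 ||
    (List.range 64).all (fun t => (runD [k] (derivs.getD k [])).any (Nat.beq t)))

theorem deriv_ok : derivOK = true := by decide +kernel

def goodB (T S1 S2 S3 S4 : ℕ) : Bool :=
  !((List.range 24).all (fun t => Nat.beq (papp T (fOf S1 S2 S3 S4 (papp zc t)))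
      (papp zc (papp T (fOf S1 S2 S3 S4 t))))) ||
  !((List.range 64).any (fun j => (List.range 24).all (fun t =>
      Nat.beq (papp T (fOf S1 S2 S3 S4 (papp xc t))) (papp (cd j) (papp T (fOf S1 S2 S3 S4 t)))))) ||
  (List.range 64).any (fun k => (List.range 24).all (fun t =>
      Nat.beq (papp T (fOf S1 S2 S3 S4 t)) (papp (cd k) t)))

theorem allB : T0.all (fun t => U1.all (fun a => U2.all (fun b => U3.all (fun c => U4.all (fun d =>
    goodB t a b c d))))) = true := by decide +kernel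

/-! ### the elements -/

theorem cd_mem (k : ℕ) : cd k ∈ SL := by
  unfold cd
  by_cases hk : k < SL.length
  · rw [List.getD_eq_getElem _ _ hk]
    exact List.getElem_mem _
  · rw [List.getD_eq_default _ _ (not_lt.1 hk)]
    exact idc_mem

theorem cd_facts (k : ℕ) : isAutC (cd k) = true ∧ permC (cd k) ∈ K 0 := mem_of_ok SL_ok (cd_mem k)

theorem cd_perm (k : ℕ) : isPerm (cd k) = true := isPerm_of_isAutC (cd_facts k).1

/-- the element number `k` -/
def eK (k : ℕ) : ↥(K 0) := ⟨permC (cd k), (cd_facts k).2⟩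

theorem eK_idx (k : ℕ) : IdxFun (eK k).1 (papp (cd k)) := IdxFun.permC (cd_perm k)

theorem idx_unique {g : Equiv.Perm GolayPt} {f1 f2 : ℕ → ℕ} (h1 : IdxFun g f1) (h2 : IdxFun g f2)
    (t : ℕ) (ht : t < 24) : f1 t = f2 t := by
  have a := h1 (P t ht)
  have b := h2 (P t ht)
  rw [ptIdx_P] at a b
  exact a.symm.trans b

theorem idx_ext {g1 g2 : Equiv.Perm GolayPt} {f1 f2 : ℕ → ℕ} (h1 : IdxFun g1 f1)
    (h2 : IdxFun g2 f2) (h : ∀ t < 24, f1 t = f2 t) : g1 = g2 := by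
  apply Equiv.ext
  intro p
  apply ptIdx_inj
  rw [h1 p, h2 p]
  exact h _ (ptIdx p).isLt

theorem mt_spec {a b : ℕ} (ha : a < 64) (hb : b < 64) :
    mtab a b < 64 ∧ ∀ t < 24, papp (cd (mtab a b)) t = papp (cd a) (papp (cd b) t) := by
  have h := List.all_eq_true.1 (List.all_eq_true.1 mt_ok a (List.mem_range.2 ha)) b
    (List.mem_range.2 hb)
  rw [Bool.and_eq_true] at h
  refine ⟨Nat.le_of_ble_eq_true h.1, fun t ht => ?_⟩
  exact Nat.eq_of_beq_eq_true (List.all_eq_true.1 h.2 t (List.mem_range.2 ht))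

theorem eK_mul {a b : ℕ} (ha : a < 64) (hb : b < 64) : eK a * eK b = eK (mtab a b) := by
  apply Subtype.ext
  exact idx_ext ((eK_idx a).mul (eK_idx b)) (eK_idx _) (fun t ht => ((mt_spec ha hb).2 t ht).symm)

theorem eK_zero : eK 0 = 1 := by
  apply Subtype.ext
  show permC (cd 0) = 1
  rw [cd_zero]
  have h : isPerm idc = true := by
    have := cd_perm 0
    rwa [cd_zero] at this
  exact (IdxFun.eq_one_iff (IdxFun.permC h)).2 idc_one

theorem eK_inj {a b : ℕ} (ha : a < 64) (hb : b < 64) (h : eK a = eK b) : a = b := by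
  by_contra hab
  have h1 := List.all_eq_true.1 (List.all_eq_true.1 inj_ok a (List.mem_range.2 ha)) b
    (List.mem_range.2 hb)
  rw [Bool.or_eq_true] at h1
  rcases h1 with h1 | h1
  · exact hab (Nat.eq_of_beq_eq_true h1)
  · rw [List.any_eq_true] at h1
    obtain ⟨t, ht, hne⟩ := h1
    have ht' : t < 24 := List.mem_range.1 ht
    have h2 : (eK a).1 = (eK b).1 := congrArg Subtype.val h
    have h3 := eK_idx a
    rw [h2] at h3
    have h4 := idx_unique h3 (eK_idx b) t ht'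
    rw [h4] at hne
    simp at hne

theorem it_spec {a : ℕ} (ha : a < 64) : itab.getD a 0 < 64 ∧ mtab a (itab.getD a 0) = 0 := by
  have h := List.all_eq_true.1 it_ok a (List.mem_range.2 ha)
  rw [Bool.and_eq_true] at h
  exact ⟨Nat.le_of_ble_eq_true h.1, Nat.eq_of_beq_eq_true h.2⟩

/-- the Sylow 2-subgroup -/
def S0 : Subgroup ↥(K 0) where
  carrier := {g | ∃ k, k < 64 ∧ g = eK k}
  mul_mem' := by
    rintro _ _ ⟨a, ha, rfl⟩ ⟨b, hb, rfl⟩
    exact ⟨mtab a b, (mt_spec ha hb).1, eK_mul ha hb⟩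
  one_mem' := ⟨0, by norm_num, eK_zero.symm⟩
  inv_mem' := by
    rintro _ ⟨a, ha, rfl⟩
    refine ⟨itab.getD a 0, (it_spec ha).1, ?_⟩
    apply inv_eq_of_mul_eq_one_right
    rw [eK_mul ha (it_spec ha).1, (it_spec ha).2, eK_zero]

theorem mem_S0 (g : ↥(K 0)) : g ∈ S0 ↔ ∃ k, k < 64 ∧ g = eK k := Iff.rfl

theorem eK_mem {k : ℕ} (hk : k < 64) : eK k ∈ S0 := ⟨k, hk, rfl⟩

theorem card_S0 : Nat.card ↥S0 = 64 := by
  have e : Fin 64 ≃ ↥S0 := Equiv.ofBijective (fun i => ⟨eK i.1, eK_mem i.2⟩) ⟨by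
    intro i j h
    have h1 : eK i.1 = eK j.1 := congrArg Subtype.val h
    exact Fin.ext (eK_inj i.2 j.2 h1), by
    rintro ⟨g, k, hk, rfl⟩
    exact ⟨⟨k, hk⟩, rfl⟩⟩
  rw [← Nat.card_congr e]
  simp

/-! ### the order of the group -/

theorem card_K0 : Nat.card ↥(K 0) = 95040 := by
  have h := Cfsg.Agent.Lib.Helper7.card_stabilizer_dodecad (fset Dm) Dm_dodecad
  rw [← h]
  have e : ↥(K 0) ≃ ↥(MulAction.stabilizer ↥M24 (fset Dm)) :=
    { toFun := fun g => ⟨⟨g.1, ((mem_K0 g.1).1 g.2).1⟩, by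
        rw [MulAction.mem_stabilizer_iff]
        exact ((mem_K0 g.1).1 g.2).2⟩
      invFun := fun g => ⟨g.1.1, (mem_K0 g.1.1).2 ⟨g.1.2, MulAction.mem_stabilizer_iff.1 g.2⟩⟩
      left_inv := fun g => rfl
      right_inv := fun g => rfl }
  exact Nat.card_congr e

/-! ### the normaliser -/

theorem conj_inv_mem {G : Type*} [Group G] (S : Subgroup G) [Finite ↥S] (g : G)
    (hg : ∀ x ∈ S, g * x * g⁻¹ ∈ S) : ∀ s ∈ S, g⁻¹ * s * g ∈ S := by
  intro s hs
  let φ : ↥S → ↥S := fun x => ⟨g * x.1 * g⁻¹, hg x.1 x.2⟩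
  have hinj : Function.Injective φ := by
    intro x y h
    have h1 : g * x.1 * g⁻¹ = g * y.1 * g⁻¹ := congrArg Subtype.val h
    apply Subtype.ext
    have h2 : x.1 = g⁻¹ * (g * x.1 * g⁻¹) * g := by group
    rw [h2, h1]
    group
  obtain ⟨x, hx⟩ := Finite.surjective_of_injective hinj ⟨s, hs⟩
  have h1 : g * x.1 * g⁻¹ = s := congrArg Subtype.val hx
  have h2 : g⁻¹ * s * g = x.1 := by
    rw [← h1]
    group
  rw [h2]
  exact x.2

theorem zi_lt : zi < 64 := by decide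

theorem xi_lt : xi < 64 := by decide

theorem zcent {t : ℕ} (ht : t < 64) : eK zi * eK t = eK t * eK zi := by
  rw [eK_mul zi_lt ht, eK_mul ht zi_lt,
    Nat.eq_of_beq_eq_true (List.all_eq_true.1 zcent_ok t (List.mem_range.2 ht))]

theorem propB : PropB S0 := by
  intro g hg
  have : Finite ↥S0 := Finite.of_injective (fun x : ↥S0 => x.1) Subtype.val_injective
  have hinv := conj_inv_mem S0 g hg
  -- the conjugate of the central involution is central
  obtain ⟨k, hk, hy⟩ := hg (eK zi) (eK_mem zi_lt)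
  have hcomm : ∀ t < 64, eK k * eK t = eK t * eK k := by
    intro t ht
    obtain ⟨t', ht', hs'⟩ := hinv (eK t) (eK_mem ht)
    have h1 : eK t = g * eK t' * g⁻¹ := by
      rw [← hs']
      group
    rw [← hy, h1]
    have h2 := zcent ht'
    calc g * eK zi * g⁻¹ * (g * eK t' * g⁻¹) = g * (eK zi * eK t') * g⁻¹ := by group
      _ = g * (eK t' * eK zi) * g⁻¹ := by rw [h2]
      _ = g * eK t' * g⁻¹ * (g * eK zi * g⁻¹) := by group
  have hk' : k = 0 ∨ k = zi := by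
    have h := List.all_eq_true.1 cent_ok k (List.mem_range.2 hk)
    rw [Bool.or_eq_true, Bool.or_eq_true] at h
    rcases h with (h | h) | h
    · exact Or.inl (Nat.eq_of_beq_eq_true h)
    · exact Or.inr (Nat.eq_of_beq_eq_true h)
    · exfalso
      rw [List.any_eq_true] at h
      obtain ⟨t, ht, hne⟩ := h
      have ht' : t < 64 := List.mem_range.1 ht
      have h3 := hcomm t ht'
      rw [eK_mul hk ht', eK_mul ht' hk] at h3
      have h4 := eK_inj (mt_spec hk ht').1 (mt_spec ht' hk).1 h3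
      rw [h4] at hne
      simp at hne
  have hgz : g * eK zi = eK zi * g := by
    rcases hk' with rfl | rfl
    · exfalso
      rw [eK_zero] at hy
      have h1 : eK zi = 1 := by
        have : eK zi = g⁻¹ * (g * eK zi * g⁻¹) * g := by group
        rw [this, hy]
        group
      rw [← eK_zero] at h1
      have := eK_inj zi_lt (by norm_num) h1
      revert this
      decide
    · have : g * eK zi = g * eK zi * g⁻¹ * g := by group
      rw [this, hy]
  -- enumerate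
  obtain ⟨T, hT, S1, hS1, S2, hS2, S3, hS3, S4, hS4, hf⟩ := enum0 g.2
  have hB := List.all_eq_true.1 (List.all_eq_true.1 (List.all_eq_true.1 (List.all_eq_true.1
    (List.all_eq_true.1 allB T hT) S1 hS1) S2 hS2) S3 hS3) S4 hS4
  unfold goodB at hB
  rw [Bool.or_eq_true, Bool.or_eq_true] at hB
  rcases hB with (hB | hB) | hB
  · exfalso
    rw [Bool.not_eq_true', ← Bool.not_eq_true, List.all_eq_true] at hB
    apply hB
    intro t ht
    have ht' : t < 24 := List.mem_range.1 ht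
    have hz := eK_idx zi
    rw [cd_zi] at hz
    have h1 : IdxFun (g.1 * (eK zi).1) _ := hf.mul hz
    have h2 : IdxFun ((eK zi).1 * g.1) _ := hz.mul hf
    have h3 : g.1 * (eK zi).1 = (eK zi).1 * g.1 := congrArg Subtype.val hgz
    rw [h3] at h1
    rw [idx_unique h1 h2 t ht']
    exact Nat.beq_refl _
  · exfalso
    rw [Bool.not_eq_true', ← Bool.not_eq_true, List.any_eq_true] at hB
    apply hB
    obtain ⟨j, hj, hyj⟩ := hg (eK xi) (eK_mem xi_lt)
    refine ⟨j, List.mem_range.2 hj, ?_⟩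
    rw [List.all_eq_true]
    intro t ht
    have ht' : t < 24 := List.mem_range.1 ht
    have hx := eK_idx xi
    rw [cd_xi] at hx
    have h1 : IdxFun (g.1 * (eK xi).1) _ := hf.mul hx
    have h2 : IdxFun ((eK j).1 * g.1) _ := (eK_idx j).mul hf
    have h3 : g * eK xi = eK j * g := by
      have : g * eK xi = g * eK xi * g⁻¹ * g := by group
      rw [this, hyj]
    have h4 : g.1 * (eK xi).1 = (eK j).1 * g.1 := congrArg Subtype.val h3
    rw [h4] at h1
    rw [idx_unique h1 h2 t ht']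
    exact Nat.beq_refl _
  · rw [List.any_eq_true] at hB
    obtain ⟨k, hk, hall⟩ := hB
    rw [List.all_eq_true] at hall
    refine ⟨k, List.mem_range.1 hk, ?_⟩
    apply Subtype.ext
    exact idx_ext hf (eK_idx k) (fun t ht =>
      Nat.eq_of_beq_eq_true (hall t (List.mem_range.2 ht)))

/-! ### strongly closed subgroups -/

theorem any_beq {l : List ℕ} {a : ℕ} (h : l.any (Nat.beq a) = true) : a ∈ l := by
  rw [List.any_eq_true] at h
  obtain ⟨x, hx, hax⟩ := h
  rw [Nat.eq_of_beq_eq_true hax]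
  exact hx

theorem runD_sound (Pr : ℕ → Prop) (hmul : ∀ a b, Pr a → Pr b → Pr (mtab a b))
    (hcert : ∀ c ∈ certs, Pr c.1 → Pr c.2.2) :
    ∀ (steps : List (ℕ × ℕ × ℕ)) (known : List ℕ), (∀ k ∈ known, Pr k) →
      ∀ k ∈ runD known steps, Pr k := by
  intro steps
  induction steps with
  | nil =>
    intro known h k hk
    exact h k hk
  | cons e rest ih =>
    obtain ⟨kind, a, b⟩ := e
    intro known h k hk
    unfold runD at hk
    split at hk
    · split at hk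
      · rename_i hc
        rw [Bool.and_eq_true] at hc
        apply ih _ _ k hk
        intro t ht
        rw [List.mem_cons] at ht
        rcases ht with rfl | ht
        · exact hmul a b (h a (any_beq hc.1)) (h b (any_beq hc.2))
        · exact h t ht
      · simp at hk
    · split at hk
      · rename_i hc
        rw [Bool.and_eq_true] at hc
        have ha : a < certs.length := Nat.le_of_ble_eq_true hc.2
        apply ih _ _ k hk
        intro t ht
        rw [List.mem_cons] at ht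
        rcases ht with rfl | ht
        · apply hcert _ _ (h _ (any_beq hc.1))
          rw [List.getD_eq_getElem _ _ ha]
          exact List.getElem_mem _
        · exact h t ht
      · simp at hk

theorem propA : PropA S0 := by
  intro T hT hne hsc
  obtain ⟨⟨x, hxT⟩, hx1⟩ := (Subgroup.ne_bot_iff_exists_ne_one).1 hne
  obtain ⟨k, hk, rfl⟩ := hT hxT
  have hk0 : k ≠ 0 := by
    rintro rfl
    apply hx1
    apply Subtype.ext
    exact eK_zero
  let Pr : ℕ → Prop := fun j => j < 64 ∧ eK j ∈ T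
  have hmul : ∀ a b, Pr a → Pr b → Pr (mtab a b) := by
    rintro a b ⟨ha, haT⟩ ⟨hb, hbT⟩
    refine ⟨(mt_spec ha hb).1, ?_⟩
    rw [← eK_mul ha hb]
    exact T.mul_mem haT hbT
  have hcert : ∀ c ∈ certs, Pr c.1 → Pr c.2.2 := by
    rintro c hc ⟨hi, hiT⟩
    have h := List.all_eq_true.1 certs_ok c hc
    simp only [Bool.and_eq_true] at h
    obtain ⟨⟨⟨⟨⟨hA, hD⟩, hF⟩, -⟩, hj⟩, hconj⟩ := h
    have hj' : c.2.2 < 64 := Nat.le_of_ble_eq_true hj
    refine ⟨hj', ?_⟩
    have hgK : permC c.2.1 ∈ K 0 := permC_mem_K hA hD hF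
    have hgi : IdxFun (permC c.2.1) (papp c.2.1) := IdxFun.permC (isPerm_of_isAutC hA)
    have h1 : permC c.2.1 * (eK c.1).1 = (eK c.2.2).1 * permC c.2.1 := by
      apply idx_ext (hgi.mul (eK_idx c.1)) ((eK_idx c.2.2).mul hgi)
      intro t ht
      exact Nat.eq_of_beq_eq_true (List.all_eq_true.1 hconj t (List.mem_range.2 ht))
    have h2 : (⟨permC c.2.1, hgK⟩ : ↥(K 0)) * eK c.1 * (⟨permC c.2.1, hgK⟩ : ↥(K 0))⁻¹ =
        eK c.2.2 := by
      have h3 : (⟨permC c.2.1, hgK⟩ : ↥(K 0)) * eK c.1 = eK c.2.2 * ⟨permC c.2.1, hgK⟩ :=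
        Subtype.ext h1
      rw [h3]
      group
    have h4 := hsc (eK c.1) hiT ⟨permC c.2.1, hgK⟩
    rw [h2] at h4
    exact h4 (eK_mem hj')
  have hall : ∀ j < 64, eK j ∈ T := by
    intro j hj
    have h := List.all_eq_true.1 deriv_ok k (List.mem_range.2 hk)
    rw [Bool.or_eq_true] at h
    rcases h with h | h
    · exact absurd (Nat.eq_of_beq_eq_true h) hk0
    · have h1 := List.all_eq_true.1 h j (List.mem_range.2 hj)
      have h2 := any_beq h1
      have h3 := runD_sound Pr hmul hcert (derivs.getD k []) [k] (by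
        intro t ht
        rw [List.mem_singleton] at ht
        rw [ht]
        exact ⟨hk, hxT⟩) j h2
      exact h3.2
  apply le_antisymm hT
  rintro _ ⟨j, hj, rfl⟩
  exact hall j hj

/-! ### the statement -/

theorem main (H : Subgroup (Equiv.Perm GolayPt)) (hH : H = K 0) (S : Sylow 2 ↥H) :
    (Cfsg.groupFusionSystem (S : Subgroup ↥H)).IsSimple 2 := by
  subst hH
  have hG : Nat.card ↥(K 0) = 2 ^ 6 * 1485 := by
    rw [card_K0]
    norm_num
  exact isSimple_of_card S0 hG (by norm_num) (by norm_num) (by rw [card_S0]; norm_num)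
    propA propB S

/-- The 2-fusion system of the Mathieu group M₁₂ (as the explicit permutation group carved out of the automorphism group of the binary Golay code) on a Sylow 2-subgroup is simple: saturated, over a nontrivial 2-group, with no normal subsystem other than the trivial one and itself. -/
theorem result (S : Sylow 2 Cfsg.Spor.M12) : (Cfsg.groupFusionSystem (S : Subgroup Cfsg.Spor.M12)).IsSimple 2 :=
  main Cfsg.Spor.M12 M12_eq S

end Cfsg.Agent.S5167
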