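import Cfsg.Statements.S5168
-- import your own Cfsg.Agent.* helpers here
import Cfsg.Agent.Lib.Helper93.Syl22
import Cfsg.Agent.Lib.Helper93.FusionBridge

set_option autoImplicit false
open Cfsg

namespace Cfsg.Agent.S5168

open Cfsg.Agent.Lib.Helper93.Golay Cfsg.Agent.Lib.Helper93.Syl22 Cfsg.Agent.Lib.Helper93.FusionBridge

theorem fact_two : (443520 : ℕ).factorization 2 = 7 := by
  have h : (443520 : ℕ) = 2 ^ 7 * 3465 := by norm_num
  rw [h, Nat.factorization_mul (by norm_num) (by norm_num),
    Nat.Prime.factorization_pow (by norm_num)]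
  simp
  rw [Nat.factorization_eq_zero_of_not_dvd (by norm_num)]

theorem S0_ne_bot : S0 ≠ ⊥ := by
  intro h
  have := card_S0
  rw [h, Subgroup.card_bot] at this
  norm_num at this

theorem S0_le_G : S0 ≤ Cfsg.Spor.M22 := S0_le_M22

theorem finite_G : Finite ↥Cfsg.Spor.M22 :=
  Nat.finite_of_card_ne_zero (by rw [card_M22]; norm_num)

/-- The 2-fusion system of the Mathieu group M₂₂ (as the explicit permutation group carved out of the automorphism group of the binary Golay code) on a Sylow 2-subgroup is simple: saturated, over a nontrivial 2-group, with no normal subsystem other than the trivial one and itself. -/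
theorem result (S : Sylow 2 Cfsg.Spor.M22) : (Cfsg.groupFusionSystem (S : Subgroup Cfsg.Spor.M22)).IsSimple 2 := by
  have : Fact (Nat.Prime 2) := ⟨Nat.prime_two⟩
  have : Finite ↥Cfsg.Spor.M22 := finite_G
  exact isSimple_of_subgroup Cfsg.Spor.M22 S0 S0_le_G
    (by rw [card_M22, fact_two]; exact card_S0) S0_ne_bot
    (fun T hTS hT hcl => strongly_closed_eq hTS hT hcl)
    (fun g hg hn => normalizer_le hg hn) S

end Cfsg.Agent.S5168
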