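import Cfsg.Statements.S5170
-- import your own Cfsg.Agent.* helpers here
import Cfsg.Agent.Lib.Helper93.Syl24
import Cfsg.Agent.Lib.Helper93.FusionBridge

set_option autoImplicit false
open Cfsg

namespace Cfsg.Agent.S5170

open Cfsg.Agent.Lib.Helper93.Golay Cfsg.Agent.Lib.Helper93.Syl24 Cfsg.Agent.Lib.Helper93.FusionBridge

theorem fact_two : (244823040 : ℕ).factorization 2 = 10 := by
  have h : (244823040 : ℕ) = 2 ^ 10 * 239085 := by norm_num
  rw [h, Nat.factorization_mul (by norm_num) (by norm_num),
    Nat.Prime.factorization_pow (by norm_num)]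
  simp
  rw [Nat.factorization_eq_zero_of_not_dvd (by norm_num)]

theorem S0_ne_bot : S0 ≠ ⊥ := by
  intro h
  have := card_S0
  rw [h, Subgroup.card_bot] at this
  norm_num at this

/-- The 2-fusion system of the Mathieu group M₂₄ (as the explicit permutation group of the 24 points preserving the binary Golay code) on a Sylow 2-subgroup is simple: saturated, over a nontrivial 2-group, with no normal subsystem other than the trivial one and itself. -/
theorem result (S : Sylow 2 Cfsg.M24) : (Cfsg.groupFusionSystem (S : Subgroup Cfsg.M24)).IsSimple 2 := by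
  have : Fact (Nat.Prime 2) := ⟨Nat.prime_two⟩
  have : Finite ↥Cfsg.M24 := inferInstance
  exact isSimple_of_subgroup Cfsg.M24 S0 S0_le_M24
    (by rw [card_M24, fact_two]; exact card_S0) S0_ne_bot
    (fun T hTS hT hcl => strongly_closed_eq hTS hT hcl)
    (fun g hg hn => normalizer_le hg hn) S

end Cfsg.Agent.S5170
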