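import Cfsg.Statements.S5172
import Cfsg.Agent.Lib.Helper20.SuMain3

set_option autoImplicit false
open Cfsg

namespace Cfsg.Agent.S5172

/-- For a finite field K with q² elements of characteristic p and n ≥ 4, the p-fusion system of the projective special unitary group PSU_n(q) (realised over K) on a Sylow p-subgroup is simple. -/
theorem result {K : Type*} [Field K] [Fintype K] (p q : ℕ) [Fact p.Prime] [CharP K p] (hK : Fintype.card K = q ^ 2) (n : ℕ) (hn : 4 ≤ n) (S : Sylow p (Cfsg.PSU n K q)) : (Cfsg.groupFusionSystem (S : Subgroup (Cfsg.PSU n K q))).IsSimple p := by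
  have : NeZero n := ⟨by omega⟩
  obtain ⟨F, f, hfs, hfk⟩ := Cfsg.Agent.Lib.Helper20.SuF.exists_inv_cover hK n
  obtain ⟨f', hf's, hf'k, hS⟩ := Cfsg.Agent.Lib.Helper20.SuF.exists_adjusted f hfs
    (Cfsg.Agent.Lib.Helper20.SuF.UEs (n := n) F p) S
  exact Cfsg.Agent.Lib.Helper20.SuF.isSimple_SU F p hn f' hf's (hf'k.trans hfk) S
    (by rw [← Cfsg.Agent.Lib.Helper20.SuF.coe_UEs]; exact hS)

end Cfsg.Agent.S5172
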