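import Cfsg.Statements.S5178
import Cfsg.Agent.Lib.Helper68.ExtraCenter

set_option autoImplicit false
universe u
open Cfsg

namespace Cfsg.Agent.S5178

open Cfsg.Agent.Lib.Helper87 Cfsg.Agent.Lib.Helper86 Cfsg.Agent.Lib.Helper68.XC
open scoped commutatorElement

theorem map_center_eq {Ω : Type u} [Group Ω] (Q : Subgroup Ω) :
    (Subgroup.center ↥Q).map Q.subtype = Q ⊓ Subgroup.centralizer (Q : Set Ω) := by
  ext x
  constructor
  · rintro ⟨y, hy, rfl⟩
    refine ⟨y.2, Subgroup.mem_centralizer_iff.mpr fun q hq => ?_⟩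
    have := Subgroup.mem_center_iff.mp hy ⟨q, hq⟩
    exact congrArg Subtype.val this
  · rintro ⟨hxQ, hxC⟩
    refine ⟨⟨x, hxQ⟩, Subgroup.mem_center_iff.mpr fun g => ?_, rfl⟩
    apply Subtype.ext
    exact Subgroup.mem_centralizer_iff.mp hxC g g.2

theorem zq_le_zs {Ω : Type u} [Group Ω] {S : Subgroup Ω} [Finite S] {p : ℕ} [Fact p.Prime]
    (hS : IsPGroup p S) {Q : Subgroup Ω} (hQS : Q ≤ S) (hQi : (Q.subgroupOf S).index = p)
    (hcard : Nat.card ↥(Q ⊓ Subgroup.centralizer (Q : Set Ω)) = p) :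
    Q ⊓ Subgroup.centralizer (Q : Set Ω) ≤ S ⊓ Subgroup.centralizer (S : Set Ω) := by
  obtain ⟨ZQ, hZQ⟩ : ∃ ZQ : Subgroup Ω, ZQ = Q ⊓ Subgroup.centralizer (Q : Set Ω) := ⟨_, rfl⟩
  rw [← hZQ] at hcard ⊢
  haveI : Finite ZQ := Nat.finite_of_card_ne_zero
    (by rw [hcard]; exact (Fact.out : p.Prime).ne_zero)
  have hconj : ∀ s ∈ S, ∀ x ∈ ZQ, s * x * s⁻¹ ∈ ZQ := by
    intro s hs x hx
    rw [hZQ] at hx ⊢
    refine ⟨aip_conj_mem hS hQS hQi hs hx.1, Subgroup.mem_centralizer_iff.mpr fun q hq => ?_⟩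
    have hq' : s⁻¹ * q * s⁻¹⁻¹ ∈ Q := aip_conj_mem hS hQS hQi (S.inv_mem hs) hq
    have h1 := Subgroup.mem_centralizer_iff.mp hx.2 _ hq'
    calc q * (s * x * s⁻¹) = s * ((s⁻¹ * q * s⁻¹⁻¹) * x) * s⁻¹ := by group
      _ = s * (x * (s⁻¹ * q * s⁻¹⁻¹)) * s⁻¹ := by rw [h1]
      _ = s * x * s⁻¹ * q := by group
  intro x hx
  have hxQ : x ∈ Q := by rw [hZQ] at hx; exact hx.1
  refine ⟨hQS hxQ, Subgroup.mem_centralizer_iff.mpr fun s hs => ?_⟩
  have hsN : s ∈ Subgroup.normalizer (ZQ : Set Ω) :=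
    Cfsg.Agent.Lib.Helper88.mem_normalizer_of_conj_mem_finite (hconj s hs)
  obtain ⟨k, hk⟩ := hS ⟨s, hs⟩
  have hsk : s ^ (p ^ k) = 1 := by
    have := congrArg Subtype.val hk
    simpa using this
  have hγ : (conjAut ZQ s hsN) ^ (p ^ k) = 1 := by
    show (ZQ.normalizerMonoidHom ⟨s, hsN⟩) ^ (p ^ k) = 1
    rw [← map_pow]
    have : (⟨s, hsN⟩ : Subgroup.normalizer (ZQ : Set Ω)) ^ (p ^ k) = 1 :=
      Subtype.ext (by simpa using hsk)
    rw [this, map_one]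
  have h1 := mulAut_eq_one_of_prime_card p hcard (conjAut ZQ s hsN) k hγ
  have h2 := congrArg (fun α : MulAut ZQ => ((α ⟨x, hx⟩ : ZQ) : Ω)) h1
  simp only [conjAut_coe, MulAut.one_apply] at h2
  calc s * x = (s * x * s⁻¹) * s := by group
    _ = x * s := by rw [h2]

/-- Let p be an odd prime, S a finite p-group containing an extraspecial subgroup Q of index p, and F a saturated fusion system over S whose largest subgroup normal in F is trivial. Then the centre of S equals the centre of Q. -/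
theorem result {Ω : Type u} [Group Ω] {S : Subgroup Ω} [Finite S] (p : ℕ) [Fact p.Prime] (hp : Odd p) (hS : IsPGroup p S)
    (Q : Subgroup Ω) (hQS : Q ≤ S) (hQ : Cfsg.IsExtraspecial p ↥Q) (hQi : (Q.subgroupOf S).index = p)
    (F : Cfsg.FusionSystem S) (hF : F.IsSaturated p) (hO : F.core = ⊥) :
    S ⊓ Subgroup.centralizer (S : Set Ω) = Q ⊓ Subgroup.centralizer (Q : Set Ω) := by
  have hpp : p.Prime := Fact.out
  obtain ⟨⟨hQp, hfrat, hcommQ⟩, hcardQ⟩ := hQ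
  have hZQcard : Nat.card ↥(Q ⊓ Subgroup.centralizer (Q : Set Ω)) = p := by
    rw [← map_center_eq, Subgroup.card_map_of_injective (Subgroup.subtype_injective Q), hcardQ]
  have hle := zq_le_zs hS hQS hQi hZQcard
  by_contra hne
  have hlt : Q ⊓ Subgroup.centralizer (Q : Set Ω) < S ⊓ Subgroup.centralizer (S : Set Ω) :=
    lt_of_le_of_ne hle (Ne.symm hne)
  obtain ⟨u, huZ, huD⟩ := SetLike.exists_of_lt hlt
  have huQ : u ∉ Q := by
    intro h
    apply huD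
    refine ⟨h, Subgroup.mem_centralizer_iff.mpr fun q hq => ?_⟩
    exact Subgroup.mem_centralizer_iff.mp huZ.2 q (hQS hq)
  have huS : u ∈ S := huZ.1
  have hucomm : ∀ y ∈ S, y * u = u * y := Subgroup.mem_centralizer_iff.mp huZ.2
  have hzpow : ∀ (k : ℤ), ∀ y ∈ S, y * u ^ k = u ^ k * y := fun k y hy =>
    (Commute.zpow_right (show Commute y u from hucomm y hy) k).eq
  have hQcomm : ∀ a ∈ Q, ∀ b ∈ Q, b * a * b⁻¹ * a⁻¹ ∈ Q ⊓ Subgroup.centralizer (Q : Set Ω) := by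
    intro a ha b hb
    have h1 : ⁅(⟨b, hb⟩ : Q), ⟨a, ha⟩⁆ ∈ commutator ↥Q :=
      Subgroup.commutator_mem_commutator (Subgroup.mem_top _) (Subgroup.mem_top _)
    rw [hcommQ] at h1
    rw [← map_center_eq]
    exact ⟨_, h1, rfl⟩
  have conj_fix : ∀ (U X : Ω), X * U = U * X → U * X * U⁻¹ = X := fun U X h => by
    rw [← h]; group
  have hcomm : ∀ x ∈ S, ∀ s ∈ S, s * x * s⁻¹ * x⁻¹ ∈ Q ⊓ Subgroup.centralizer (Q : Set Ω) := by
    intro x hx s hs
    obtain ⟨k, a, ha, rfl⟩ := aip_exists_zpow hS hQS hQi huS huQ hx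
    obtain ⟨l, b, hb, rfl⟩ := aip_exists_zpow hS hQS hQi huS huQ hs
    have haS := hQS ha
    have hbS := hQS hb
    have hV := hzpow k
    have hU := hzpow l
    have hVS : u ^ k ∈ S := S.zpow_mem huS k
    generalize u ^ l = U at hU ⊢
    generalize u ^ k = V at hV hVS ⊢
    have e : U * b * (V * a) * (U * b)⁻¹ * (V * a)⁻¹ = b * a * b⁻¹ * a⁻¹ := by
      calc U * b * (V * a) * (U * b)⁻¹ * (V * a)⁻¹
          = (U * (b * V * a * b⁻¹) * U⁻¹) * (a⁻¹ * V⁻¹) := by group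
        _ = (b * V * a * b⁻¹) * (a⁻¹ * V⁻¹) := by
            rw [conj_fix _ _ (hU _ (S.mul_mem (S.mul_mem (S.mul_mem hbS hVS) haS)
              (S.inv_mem hbS)))]
        _ = (V * b * a * b⁻¹) * (a⁻¹ * V⁻¹) := by rw [hV b hbS]
        _ = V * (b * a * b⁻¹ * a⁻¹) * V⁻¹ := by group
        _ = b * a * b⁻¹ * a⁻¹ := conj_fix _ _ (hV _ (S.mul_mem (S.mul_mem (S.mul_mem hbS haS)
              (S.inv_mem hbS)) (S.inv_mem haS)))
    rw [e]
    exact hQcomm a ha b hb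
  have hk : ∃ a ∈ S, ∃ b ∈ S, a * b * a⁻¹ * b⁻¹ ≠ 1 := by
    by_contra hall
    push Not at hall
    have hab : ∀ a b : Q, a * b = b * a := by
      intro a b
      have := hall a (hQS a.2) b (hQS b.2)
      apply Subtype.ext
      show (a : Ω) * b = b * a
      calc (a : Ω) * b = ((a : Ω) * b * (a : Ω)⁻¹ * (b : Ω)⁻¹) * (b * a) := by group
        _ = b * a := by rw [this, one_mul]
    have hbot : commutator ↥Q = ⊥ := by
      rw [commutator_def, Subgroup.commutator_eq_bot_iff_le_centralizer]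
      intro a _
      rw [Subgroup.mem_centralizer_iff]
      intro b _
      exact hab b a
    rw [← hcommQ, hbot, Subgroup.card_bot] at hcardQ
    exact hpp.one_lt.ne hcardQ
  have hodd : p ≠ 2 := by
    rintro rfl
    exact absurd hp (by decide)
  have C : Ctx S p F (Q ⊓ Subgroup.centralizer (Q : Set Ω))
      (S ⊓ Subgroup.centralizer (S : Set Ω)) :=
    ⟨hS, hF, hodd, hZQcard, hle, rfl, hcomm, hk⟩
  exact C.core_ne_bot ⟨u, huZ, huD⟩ hO

end Cfsg.Agent.S5178
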