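import Cfsg.Statements.S5179
import Cfsg.Agent.S5178

set_option autoImplicit false
universe u
open Cfsg

namespace Cfsg.Agent.S5179

open Cfsg.FusionSystem
open Cfsg.Agent.Lib.Helper87 Cfsg.Agent.Lib.Helper86 Cfsg.Agent.Lib.Helper68.Transv
open scoped commutatorElement

/-- Counting lemma: if all commutators `[k, a]` (`k ∈ K`) lie in a subgroup `D₀` of order `p`
centralised by `K`, then the centraliser of `a` in `K` has index at most `p`. -/
theorem card_le_mul_card {Ω : Type u} [Group Ω] {p : ℕ} (K D₀ L : Subgroup Ω) [Finite K]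
    (hD : Nat.card D₀ = p) (hp : 0 < p)
    (hDc : ∀ d ∈ D₀, ∀ d' ∈ D₀, d * d' = d' * d) (a : Ω)
    (h1 : ∀ k ∈ K, k * a * k⁻¹ * a⁻¹ ∈ D₀) (h2 : ∀ k ∈ K, ∀ d ∈ D₀, k * d = d * k)
    (hL : ∀ k ∈ K, k * a = a * k → k ∈ L) :
    Nat.card K ≤ p * Nat.card ↥(K ⊓ L) := by
  haveI : Finite D₀ := Nat.finite_of_card_ne_zero (by rw [hD]; exact hp.ne')
  let f : K →* D₀ := MonoidHom.mk' (fun k => ⟨(k : Ω) * a * (k : Ω)⁻¹ * a⁻¹, h1 k k.2⟩) (by
    intro k l
    apply Subtype.ext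
    show ((k : Ω) * l) * a * ((k : Ω) * l)⁻¹ * a⁻¹ =
      ((k : Ω) * a * (k : Ω)⁻¹ * a⁻¹) * ((l : Ω) * a * (l : Ω)⁻¹ * a⁻¹)
    have hc := h2 k k.2 _ (h1 l l.2)
    have hc' := hDc _ (h1 l l.2) _ (h1 k k.2)
    calc ((k : Ω) * l) * a * ((k : Ω) * l)⁻¹ * a⁻¹
        = ((k : Ω) * ((l : Ω) * a * (l : Ω)⁻¹ * a⁻¹)) * a * (k : Ω)⁻¹ * a⁻¹ := by group
      _ = (((l : Ω) * a * (l : Ω)⁻¹ * a⁻¹) * k) * a * (k : Ω)⁻¹ * a⁻¹ := by rw [hc]
      _ = ((l : Ω) * a * (l : Ω)⁻¹ * a⁻¹) * ((k : Ω) * a * (k : Ω)⁻¹ * a⁻¹) := by group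
      _ = _ := hc')
  have hker : Nat.card f.ker ≤ Nat.card ↥(K ⊓ L) := by
    have hle : f.ker.map K.subtype ≤ K ⊓ L := by
      rintro _ ⟨k, hk, rfl⟩
      refine ⟨k.2, hL k k.2 ?_⟩
      have h3 : f k = 1 := MonoidHom.mem_ker.mp hk
      have h4 : (k : Ω) * a * (k : Ω)⁻¹ * a⁻¹ = 1 := congrArg Subtype.val h3
      calc (k : Ω) * a = ((k : Ω) * a * (k : Ω)⁻¹ * a⁻¹) * (a * k) := by group
        _ = a * k := by rw [h4, one_mul]
    haveI : Finite ↥(K ⊓ L) :=
      Finite.of_injective (Subgroup.inclusion (inf_le_left : K ⊓ L ≤ K))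
        (Subgroup.inclusion_injective _)
    have := Subgroup.card_le_of_le hle
    rwa [Subgroup.card_map_of_injective (Subgroup.subtype_injective K)] at this
  have hidx : f.ker.index ≤ p := by
    rw [Subgroup.index_ker]
    have hdvd : Nat.card f.range ∣ Nat.card D₀ := Subgroup.card_subgroup_dvd_card _
    rw [hD] at hdvd
    exact Nat.le_of_dvd hp hdvd
  calc Nat.card K = Nat.card f.ker * f.ker.index := (Subgroup.card_mul_index f.ker).symm
    _ ≤ Nat.card ↥(K ⊓ L) * p := Nat.mul_le_mul hker hidx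
    _ = p * Nat.card ↥(K ⊓ L) := Nat.mul_comm _ _

/-- Let p be an odd prime, S a finite p-group of order at least p⁶ containing an extraspecial subgroup Q of index p, and F a saturated fusion system over S whose largest subgroup normal in F is trivial. Then no proper subgroup of Q is essential in F: an essential subgroup of F contained in Q equals Q. -/
theorem result {Ω : Type u} [Group Ω] {S : Subgroup Ω} [Finite S] (p : ℕ) [Fact p.Prime] (hp : Odd p) (hS : IsPGroup p S)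
    (Q : Subgroup Ω) (hQS : Q ≤ S) (hQ : Cfsg.IsExtraspecial p ↥Q) (hQi : (Q.subgroupOf S).index = p)
    (h6 : p ^ 6 ≤ Nat.card S)
    (F : Cfsg.FusionSystem S) (hF : F.IsSaturated p) (hO : F.core = ⊥)
    (E : Subgroup Ω) (hEQ : E ≤ Q) (hE : F.IsEssential p E) : E = Q := by
  have hpp : p.Prime := Fact.out
  obtain ⟨⟨hQp, hfrat, hcommQ⟩, hcardQ⟩ := hQ
  obtain ⟨D₀, hD₀⟩ : ∃ D₀ : Subgroup Ω, D₀ = Q ⊓ Subgroup.centralizer (Q : Set Ω) := ⟨_, rfl⟩
  have hDcard : Nat.card D₀ = p := by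
    rw [hD₀, ← Cfsg.Agent.S5178.map_center_eq,
      Subgroup.card_map_of_injective (Subgroup.subtype_injective Q), hcardQ]
  have hDZ : D₀ ≤ S ⊓ Subgroup.centralizer (S : Set Ω) := by
    rw [hD₀]
    exact Cfsg.Agent.S5178.zq_le_zs hS hQS hQi (by rw [← hD₀]; exact hDcard)
  have hDQ : D₀ ≤ Q := by rw [hD₀]; exact inf_le_left
  have hDcen : ∀ d ∈ D₀, ∀ q ∈ Q, q * d = d * q := by
    intro d hd q hq
    rw [hD₀] at hd
    exact Subgroup.mem_centralizer_iff.mp hd.2 q hq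
  have hQcomm : ∀ a ∈ Q, ∀ b ∈ Q, b * a * b⁻¹ * a⁻¹ ∈ D₀ := by
    intro a ha b hb
    have h1 : ⁅(⟨b, hb⟩ : Q), ⟨a, ha⟩⁆ ∈ commutator ↥Q :=
      Subgroup.commutator_mem_commutator (Subgroup.mem_top _) (Subgroup.mem_top _)
    rw [hcommQ] at h1
    rw [hD₀, ← Cfsg.Agent.S5178.map_center_eq]
    exact ⟨_, h1, rfl⟩
  have hDcomm : ∀ d ∈ D₀, ∀ d' ∈ D₀, d * d' = d' * d :=
    fun d hd d' hd' => hDcen d' hd' d (hDQ hd)
  have hES : E ≤ S := hEQ.trans hQS
  haveI hfinE : Finite E := finite_of_le hES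
  haveI hfinQ : Finite Q := finite_of_le hQS
  have hcen : centralizerIn S E ≤ E := hE.1.2 E (isConj_refl F hES)
  have hDE : D₀ ≤ E := by
    intro x hx
    apply hcen
    have hx' := hDZ hx
    refine ⟨hx'.1, Subgroup.mem_centralizer_iff.mpr fun y hy => ?_⟩
    exact Subgroup.mem_centralizer_iff.mp hx'.2 y (hES hy)
  have hQN : ∀ u ∈ Q, u ∈ Subgroup.normalizer (E : Set Ω) := by
    intro u hu
    apply Cfsg.Agent.Lib.Helper88.mem_normalizer_of_conj_mem_finite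
    intro x hx
    have h1 := hQcomm x (hEQ hx) u hu
    have e : u * x * u⁻¹ = (u * x * u⁻¹ * x⁻¹) * x := by group
    rw [e]
    exact E.mul_mem (hDE h1) hx
  by_contra hne
  have hlt : E < Q := lt_of_le_of_ne hEQ hne
  obtain ⟨u₀, hu₀Q, hu₀E⟩ := SetLike.exists_of_lt hlt
  obtain ⟨D, hD⟩ : ∃ D : Subgroup E, D = D₀.subgroupOf E := ⟨_, rfl⟩
  have hDc : Nat.card D = p := by
    rw [hD, ← hDcard]
    exact Nat.card_congr (Subgroup.subgroupOfEquivOfLe hDE).toEquiv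
  have hEp : IsPGroup p E := hS.to_le hES
  have hQp' : IsPGroup p Q := hS.to_le hQS
  -- conjugation automorphisms by elements of `Q`
  have hcu : ∀ u (hu : u ∈ Q), Pred3 D D (conjAut E u (hQN u hu)) := by
    intro u hu
    have h1 : ∀ y : E, y⁻¹ * conjAut E u (hQN u hu) y ∈ D := by
      intro y
      rw [hD, Subgroup.mem_subgroupOf]
      show ((y : E) : Ω)⁻¹ * (u * (y : Ω) * u⁻¹) ∈ D₀
      have h2 := hQcomm u hu (y : Ω)⁻¹ (Q.inv_mem (hEQ y.2))
      rw [inv_inv] at h2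
      have e : ((y : E) : Ω)⁻¹ * (u * (y : Ω) * u⁻¹) = (y : Ω)⁻¹ * u * (y : Ω) * u⁻¹ := by group
      rw [e]; exact h2
    refine ⟨h1, fun x _ => h1 x, fun x hx => ?_⟩
    apply Subtype.ext
    rw [conjAut_coe]
    rw [hD, Subgroup.mem_subgroupOf] at hx
    rw [hDcen _ hx u hu, mul_inv_cancel_right]
  haveI : Finite (MulAut E) := Finite.of_injective (fun α : MulAut E => (α : E → E))
    (fun α β hab => by ext x; exact congrArg Subtype.val (congrFun hab x))
  have hTA : autInducedBy S E ≤ F.autGroup E := autInducedBy_le_autGroup F hES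
  -- Step A: some `F`-automorphism moves `D`
  have hmoves : ∃ g ∈ F.autGroup E, ∃ d ∈ D, g d ∉ D := by
    by_contra hcon
    push Not at hcon
    let X : Subgroup (MulAut E) :=
      { carrier := {φ | φ ∈ F.autGroup E ∧ Pred3 D D φ}
        one_mem' := ⟨(F.autGroup E).one_mem, pred3_one _ _⟩
        mul_mem' := fun ha hb => ⟨(F.autGroup E).mul_mem ha.1 hb.1, pred3_mul le_rfl ha.2 hb.2⟩
        inv_mem' := fun ha => ⟨(F.autGroup E).inv_mem ha.1, pred3_inv le_rfl ha.2⟩ }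
    have hXA : X ≤ F.autGroup E := fun φ hφ => hφ.1
    have hXp : IsPGroup p X := pred3_isPGroup hEp le_rfl X (fun h hh => hh.2)
    have hXn : ∀ a ∈ F.autGroup E, ∀ φ ∈ X, a * φ * a⁻¹ ∈ X := by
      intro a ha φ hφ
      refine ⟨(F.autGroup E).mul_mem ((F.autGroup E).mul_mem ha hφ.1) ((F.autGroup E).inv_mem ha),
        pred3_conj (hcon a ha) (hcon a⁻¹ ((F.autGroup E).inv_mem ha)) hφ.2⟩
    obtain ⟨α, hα, hTI⟩ := essential_TI hS F hF hE
    have hinner := hTI X hXA hXp (fun c hc φ hφ => hXn c (hTA hc) φ hφ)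
      (fun c hc φ hφ => hXn _ ((F.autGroup E).mul_mem ((F.autGroup E).mul_mem hα (hTA hc))
        ((F.autGroup E).inv_mem hα)) φ hφ)
    have hc : conjAut E u₀ (hQN u₀ hu₀Q) ∈ autInducedBy S E :=
      conjAut_mem_autInducedBy (K := S) (hQS hu₀Q) (hQN u₀ hu₀Q)
    obtain ⟨g, hg⟩ := hinner _ ⟨hTA hc, hcu u₀ hu₀Q⟩
    apply not_mem_inn_of_conj hES hcen (hQS hu₀Q) hu₀E
      (β := conjAut E u₀ (hQN u₀ hu₀Q)) (fun x => rfl)
    refine ⟨g, ?_⟩
    ext x
    rw [hg x]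
    rfl
  -- Step B: `E` is abelian
  have habel : ∀ a b : E, a * b = b * a := by
    by_contra hcon
    push Not at hcon
    obtain ⟨y, z, hyz⟩ := hcon
    obtain ⟨g, hg, d, hd, hgd⟩ := hmoves
    apply hgd
    obtain ⟨k, hk⟩ : ∃ k : E, k = y * z * y⁻¹ * z⁻¹ := ⟨_, rfl⟩
    have hk1 : k ≠ 1 := by
      intro h
      apply hyz
      have : y * z * y⁻¹ * z⁻¹ = 1 := by rw [← hk]; exact h
      calc y * z = (y * z * y⁻¹ * z⁻¹) * (z * y) := by group
        _ = z * y := by rw [this, one_mul]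
    have hkD : k ∈ D := by
      rw [hD, Subgroup.mem_subgroupOf, hk]
      exact hQcomm z (hEQ z.2) y (hEQ y.2)
    have hgk : g k ∈ D := by
      rw [hD, Subgroup.mem_subgroupOf, hk]
      simp only [map_mul, map_inv]
      exact hQcomm (g z) (hEQ (g z).2) (g y) (hEQ (g y).2)
    exact maps_of_maps_gen (g := g.toMonoidHom) hDc hkD hk1 hgk d hd
  have hEc : ∀ a ∈ E, ∀ b ∈ E, a * b = b * a :=
    fun a ha b hb => congrArg Subtype.val (habel ⟨a, ha⟩ ⟨b, hb⟩)
  have hQcard : p ^ 5 ≤ Nat.card Q := by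
    have h1 : Nat.card (Q.subgroupOf S) * (Q.subgroupOf S).index = Nat.card S :=
      Subgroup.card_mul_index _
    have h2 : Nat.card (Q.subgroupOf S) = Nat.card Q :=
      Nat.card_congr (Subgroup.subgroupOfEquivOfLe hQS).toEquiv
    rw [h2, hQi] at h1
    rw [← h1] at h6
    have h3 : p ^ 5 * p ≤ Nat.card Q * p := by rw [← pow_succ]; exact h6
    exact Nat.le_of_mul_le_mul_right h3 hpp.pos
  -- Step C: every element of `E` commutes with some element of `Q` outside `E`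
  have hstepC : ∀ e ∈ E, ∃ u ∈ Q, u ∉ E ∧ u * e = e * u := by
    intro e he
    by_contra hcon
    have hL : ∀ k ∈ Q, k * e = e * k → k ∈ E := by
      intro k hk hke
      by_contra hkE
      exact hcon ⟨k, hk, hkE, hke⟩
    have h1 := card_le_mul_card Q D₀ E hDcard hpp.pos hDcomm e
      (fun k hk => hQcomm e (hEQ he) k hk) (fun k hk d hd => hDcen d hd k hk) hL
    rw [inf_eq_right.mpr hEQ] at h1
    have hidx : (E.subgroupOf Q).index = p := by
      have h2 : Nat.card (E.subgroupOf Q) * (E.subgroupOf Q).index = Nat.card Q :=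
        Subgroup.card_mul_index _
      have h3 : Nat.card (E.subgroupOf Q) = Nat.card E :=
        Nat.card_congr (Subgroup.subgroupOfEquivOfLe hEQ).toEquiv
      rw [h3] at h2
      have hEpos : 0 < Nat.card E := Nat.card_pos
      have hle : (E.subgroupOf Q).index ≤ p := by
        have h4 : Nat.card E * (E.subgroupOf Q).index ≤ Nat.card E * p := by
          rw [h2, Nat.mul_comm]; exact h1
        exact Nat.le_of_mul_le_mul_left h4 hEpos
      obtain ⟨n, hn⟩ := hQp'.index (E.subgroupOf Q)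
      have hne1 : (E.subgroupOf Q).index ≠ 1 := by
        intro h
        rw [Subgroup.index_eq_one, Subgroup.subgroupOf_eq_top] at h
        exact hne (le_antisymm hEQ h)
      rw [hn] at hle hne1 ⊢
      have hn1 : n ≠ 0 := by rintro rfl; exact hne1 (pow_zero p)
      have hn2 : n ≤ 1 := by
        by_contra hgt
        push Not at hgt
        have h5 : p ^ 2 ≤ p ^ n := Nat.pow_le_pow_right hpp.pos hgt
        have h7 : p ^ 2 ≤ p ^ 1 := by rw [pow_one]; exact h5.trans hle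
        have h8 : 2 ≤ 1 := (Nat.pow_le_pow_iff_right hpp.one_lt).mp h7
        omega
      have hn3 : n = 1 := by omega
      rw [hn3, pow_one]
    have hL2 : ∀ k ∈ E, k * u₀ = u₀ * k → k ∈ D₀ := by
      intro k hk hku
      have hcent := aip_central_of_commute hQp' hEQ hEc hidx hu₀Q hu₀E hk hku
      rw [hD₀]
      refine ⟨hEQ hk, Subgroup.mem_centralizer_iff.mpr fun q hq => ?_⟩
      exact (hcent q hq).symm
    have h5 := card_le_mul_card E D₀ D₀ hDcard hpp.pos hDcomm u₀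
      (fun k hk => hQcomm u₀ hu₀Q k (hEQ hk)) (fun k hk d hd => hDcen d hd k (hEQ hk)) hL2
    rw [inf_eq_right.mpr hDE, hDcard] at h5
    have h7 : p ^ 5 ≤ p ^ 3 := by
      calc p ^ 5 ≤ Nat.card Q := hQcard
        _ ≤ p * Nat.card E := h1
        _ ≤ p * (p * p) := Nat.mul_le_mul_left p h5
        _ = p ^ 3 := by ring
    have h8 : 5 ≤ 3 := (Nat.pow_le_pow_iff_right hpp.one_lt).mp h7
    omega
  -- Step D: the proper subgroup of `Aut_F(E)` is everything
  obtain ⟨H, hHA, ⟨α₀, hα₀, hα₀H⟩, hkey⟩ :=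
    Cfsg.Agent.Lib.Helper88.exists_proper_aut_subgroup F E hS hF hE
  apply hα₀H
  have hall : ∀ g ∈ F.autGroup E, g ∈ H := by
    intro g hg
    obtain ⟨d₀, hd₀D, hd₀1⟩ : ∃ d₀ ∈ D, d₀ ≠ 1 := by
      by_contra hcon
      push Not at hcon
      have hbot : D = ⊥ := by
        rw [eq_bot_iff]
        intro x hx
        rw [Subgroup.mem_bot]
        exact hcon x hx
      rw [hbot, Subgroup.card_bot] at hDc
      exact hpp.one_lt.ne hDc
    obtain ⟨u₁, hu₁Q, hu₁E, hu₁c⟩ := hstepC (g d₀ : E) (g d₀).2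
    obtain ⟨u₂, hu₂Q, hu₂E, hu₂c⟩ := hstepC (g⁻¹ d₀ : E) (g⁻¹ d₀).2
    obtain ⟨c₁, hc₁⟩ : ∃ c₁ : MulAut E, c₁ = conjAut E u₁ (hQN u₁ hu₁Q) := ⟨_, rfl⟩
    obtain ⟨c₂, hc₂⟩ : ∃ c₂ : MulAut E, c₂ = conjAut E u₂ (hQN u₂ hu₂Q) := ⟨_, rfl⟩
    have hc₁P : Pred3 D D c₁ := hc₁ ▸ hcu u₁ hu₁Q
    have hc₂P : Pred3 D D c₂ := hc₂ ▸ hcu u₂ hu₂Q
    have hc₁T : c₁ ∈ autInducedBy S E := by
      rw [hc₁]; exact conjAut_mem_autInducedBy (K := S) (hQS hu₁Q) (hQN u₁ hu₁Q)
    have hc₂T : c₂ ∈ autInducedBy S E := by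
      rw [hc₂]; exact conjAut_mem_autInducedBy (K := S) (hQS hu₂Q) (hQN u₂ hu₂Q)
    have hc₁e : c₁ (g d₀) = g d₀ := by
      apply Subtype.ext
      rw [hc₁, conjAut_coe, hu₁c, mul_inv_cancel_right]
    have hc₂e : c₂ (g⁻¹ d₀) = g⁻¹ d₀ := by
      apply Subtype.ext
      rw [hc₂, conjAut_coe, hu₂c, mul_inv_cancel_right]
    have hc₁gD : ∀ d ∈ D, c₁ (g d) = g d := by
      intro d hd
      obtain ⟨m, rfl⟩ := exists_pow_eq_of_prime_card D hDc hd₀D hd₀1 hd
      rw [map_pow, map_pow, hc₁e]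
    have hc₂gD : ∀ d ∈ D, c₂ (g⁻¹ d) = g⁻¹ d := by
      intro d hd
      obtain ⟨m, rfl⟩ := exists_pow_eq_of_prime_card D hDc hd₀D hd₀1 hd
      rw [map_pow, map_pow, hc₂e]
    obtain ⟨Y, hY⟩ : ∃ Y : Subgroup E, Y = D ⊔ D.map g.toMonoidHom := ⟨_, rfl⟩
    have hDY : D ≤ Y := by rw [hY]; exact le_sup_left
    have hgDY : D.map g.toMonoidHom ≤ Y := by rw [hY]; exact le_sup_right
    obtain ⟨c', hc'⟩ : ∃ c' : MulAut E, c' = g * c₂ * g⁻¹ := ⟨_, rfl⟩
    have hc'app : ∀ x, c' x = g (c₂ (g⁻¹ x)) := fun x => by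
      rw [hc', MulAut.mul_apply, MulAut.mul_apply]
    have hP1 : Pred3 Y Y c₁ := by
      have hfix : ∀ x ∈ Y, c₁ x = x := by
        have hle : Y ≤ MonoidHom.eqLocus c₁.toMonoidHom (MonoidHom.id E) := by
          rw [hY]
          refine sup_le (fun x hx => hc₁P.2.2 x hx) ?_
          rintro _ ⟨d, hd, rfl⟩
          exact hc₁gD d hd
        exact fun x hx => hle hx
      refine ⟨fun x => hDY (hc₁P.1 x), fun x hx => ?_, hfix⟩
      rw [hfix x hx]; simp
    have hP2 : Pred3 Y Y c' := by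
      have hfix : ∀ x ∈ Y, c' x = x := by
        have hle : Y ≤ MonoidHom.eqLocus c'.toMonoidHom (MonoidHom.id E) := by
          rw [hY]
          refine sup_le (fun x hx => ?_) ?_
          · show c' x = x
            rw [hc'app, hc₂gD x hx, MulAut.apply_inv_self]
          · rintro _ ⟨d, hd, rfl⟩
            show c' (g d) = g d
            rw [hc'app, MulAut.inv_apply_self, hc₂P.2.2 d hd]
        exact fun x hx => hle hx
      refine ⟨fun x => hgDY ?_, fun x hx => ?_, hfix⟩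
      · have e : x⁻¹ * c' x = g ((g⁻¹ x)⁻¹ * c₂ (g⁻¹ x)) := by
          rw [hc'app, map_mul, map_inv, MulAut.apply_inv_self]
        rw [e]
        exact ⟨_, hc₂P.1 _, rfl⟩
      · rw [hfix x hx]; simp
    obtain ⟨X, hX⟩ : ∃ X : Subgroup (MulAut E), X = Subgroup.closure {c₁, c'} := ⟨_, rfl⟩
    have hc'A : c' ∈ F.autGroup E := by
      rw [hc']
      exact (F.autGroup E).mul_mem ((F.autGroup E).mul_mem hg (hTA hc₂T))
        ((F.autGroup E).inv_mem hg)
    have hXA : X ≤ F.autGroup E := by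
      rw [hX, Subgroup.closure_le]
      rintro y (hy | hy)
      · rw [hy]; exact hTA hc₁T
      · rw [Set.mem_singleton_iff.mp hy]; exact hc'A
    have hXP : ∀ h ∈ X, Pred3 Y Y h := by
      intro h hh
      rw [hX] at hh
      refine Subgroup.closure_induction (p := fun h _ => Pred3 Y Y h) ?_ (pred3_one _ _)
        (fun a b _ _ ha hb => pred3_mul le_rfl ha hb) (fun a _ ha => pred3_inv le_rfl ha) hh
      rintro y (hy | hy)
      · rw [hy]; exact hP1
      · rw [Set.mem_singleton_iff.mp hy]; exact hP2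
    have hXp : IsPGroup p X := pred3_isPGroup hEp le_rfl X hXP
    have hfa : F.IsFullyAutomized p E := (fc_fa_of_fullyNormalized hS F hF hE.2.1).2
    obtain ⟨β, hβ, hβc⟩ := exists_conj_into_autS F hfa X hXA hXp
    have hc₁X : c₁ ∈ X := by rw [hX]; exact Subgroup.subset_closure (Or.inl rfl)
    have hc'X : c' ∈ X := by rw [hX]; exact Subgroup.subset_closure (Or.inr rfl)
    obtain ⟨s₁, hs₁, hs₁c⟩ := (mem_autInducedBy_iff S E _).mp (hβc c₁ hc₁X)
    obtain ⟨s₂, hs₂, hs₂c⟩ := (mem_autInducedBy_iff S E _).mp (hβc c' hc'X)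
    have hβH : β ∈ H := by
      refine hkey β hβ u₁ ⟨hQS hu₁Q, hQN u₁ hu₁Q⟩ hu₁E s₁ hs₁ ?_
      intro x hx
      have h1 := hs₁c (β x)
      have e1 : (β * c₁ * β⁻¹) (β x) = β (c₁ x) := by
        show β (c₁ (β⁻¹ (β x))) = β (c₁ x)
        rw [MulAut.inv_apply_self]
      have e : c₁ x = ⟨u₁ * x * u₁⁻¹, hx⟩ := by
        apply Subtype.ext
        rw [hc₁]; rfl
      rw [e1, e] at h1
      exact h1
    have hβgH : β * g ∈ H := by
      refine hkey (β * g) ((F.autGroup E).mul_mem hβ hg) u₂ ⟨hQS hu₂Q, hQN u₂ hu₂Q⟩ hu₂E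
        s₂ hs₂ ?_
      intro x hx
      have h1 := hs₂c ((β * g) x)
      have e1 : (β * c' * β⁻¹) ((β * g) x) = (β * g) (c₂ x) := by
        show β (c' (β⁻¹ (β (g x)))) = β (g (c₂ x))
        rw [MulAut.inv_apply_self, hc'app, MulAut.inv_apply_self]
      have e : c₂ x = ⟨u₂ * x * u₂⁻¹, hx⟩ := by
        apply Subtype.ext
        rw [hc₂]; rfl
      rw [e1, e] at h1
      exact h1
    have hgeq : g = β⁻¹ * (β * g) := by group
    rw [hgeq]
    exact H.mul_mem (H.inv_mem hβH) hβgH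
  exact hall α₀ hα₀

end Cfsg.Agent.S5179
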