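import Cfsg.Statements.S5185
import Cfsg.Agent.Lib.Helper86.Ess

set_option autoImplicit false
universe u
open Cfsg

namespace Cfsg.Agent.S5185

open Cfsg.Agent.Lib.Helper86 Matrix MatrixGroups

theorem main {H : Type*} [Group H] (p : ℕ) [Fact p.Prime] (hcard : Nat.card H = p ^ 2)
    (A : Subgroup (MulAut H))
    (hess : ∃ _ : ((Cfsg.Inn H).subgroupOf A).Normal,
      ∃ E : Subgroup (A ⧸ (Cfsg.Inn H).subgroupOf A), Cfsg.IsStronglyPEmbedded p E) :
    (∀ a b : H, a * b = b * a) ∧ (∀ a : H, a ^ p = 1) ∧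
      ∃ K : Subgroup A, Nonempty (K ≃* Matrix.SpecialLinearGroup (Fin 2) (ZMod p)) := by
  have hp : p.Prime := Fact.out
  have hfinH : Finite H := Nat.finite_of_card_ne_zero (by rw [hcard]; exact pow_ne_zero 2 hp.ne_zero)
  have hcomm : ∀ a b : H, a * b = b * a :=
    (isMulCommutative_iff.mp (IsPGroup.isMulCommutative_of_card_eq_prime_sq hcard))
  obtain ⟨hn, E, hE⟩ := hess
  -- the inner automorphism group is trivial
  have hI : (Cfsg.Inn H).subgroupOf A = ⊥ := by
    rw [eq_bot_iff]
    intro x hx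
    rw [Subgroup.mem_subgroupOf] at hx
    obtain ⟨h, hh⟩ := hx
    rw [Subgroup.mem_bot]
    apply Subtype.ext
    rw [← hh]
    ext y
    show h * y * h⁻¹ = y
    rw [hcomm h y, mul_inv_cancel_right]
  have hfinM : Finite (MulAut H) := Finite.of_injective (fun α : MulAut H => (α : H → H))
    (fun α β h => by ext x; exact congrFun h x)
  obtain ⟨P₁, P₂, hne⟩ := exists_two_sylow p E hE
  -- the quotient map
  set π : A →* A ⧸ (Cfsg.Inn H).subgroupOf A := QuotientGroup.mk' _ with hπ
  have hπsurj : Function.Surjective π := QuotientGroup.mk'_surjective _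
  have hπker : π.ker = ⊥ := by rw [hπ, QuotientGroup.ker_mk', hI]
  have hπinj : Function.Injective π := (MonoidHom.ker_eq_bot_iff π).mp hπker
  -- exponent p
  have hexp : ∀ a : H, a ^ p = 1 := by
    intro a
    by_contra ha
    have hdvd : orderOf a ∣ p ^ 2 := hcard ▸ orderOf_dvd_natCard a
    obtain ⟨k, hk, hka⟩ := (Nat.dvd_prime_pow hp).mp hdvd
    have hk2 : k = 2 := by
      interval_cases k
      · exfalso; apply ha
        have : a = 1 := orderOf_eq_one_iff.mp (by simpa using hka)
        rw [this, one_pow]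
      · exfalso; apply ha
        rw [pow_one] at hka
        rw [← hka]; exact pow_orderOf_eq_one a
      · rfl
    subst hk2
    have hcyc : IsCyclic H := isCyclic_of_orderOf_eq_card a (by rw [hka, hcard])
    -- MulAut H is commutative
    have hMcomm : ∀ α β : MulAut H, α * β = β * α := by
      intro α β
      apply (IsCyclic.mulAutMulEquiv H).injective
      rw [map_mul, map_mul, mul_comm]
    have hXcomm : ∀ x y : A ⧸ (Cfsg.Inn H).subgroupOf A, x * y = y * x := by
      intro x y
      obtain ⟨x, rfl⟩ := hπsurj x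
      obtain ⟨y, rfl⟩ := hπsurj y
      rw [← map_mul, ← map_mul]
      congr 1
      apply Subtype.ext
      exact hMcomm x y
    apply hne
    obtain ⟨g, hg⟩ := MulAction.exists_smul_eq (A ⧸ (Cfsg.Inn H).subgroupOf A) P₁ P₂
    rw [← hg]
    apply Sylow.ext
    rw [Sylow.coe_subgroup_smul]
    ext y
    rw [Subgroup.mem_pointwise_smul_iff_inv_smul_mem]
    have : (MulAut.conj g)⁻¹ • y = y := by
      simp only [MulAut.smul_def, map_inv, MulAut.conj_inv_apply]
      rw [hXcomm g⁻¹ y, inv_mul_cancel_right]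
    rw [this]
  refine ⟨hcomm, hexp, ?_⟩
  -- the embedding into GL₂
  obtain ⟨Θ, hΘ⟩ := exists_hom_GL2 p hcomm hexp hcard
  set j : A →* GL (Fin 2) (ZMod p) := Θ.comp A.subtype with hj
  have hjinj : Function.Injective j := hΘ.comp Subtype.val_injective
  have hXfin : Finite (A ⧸ (Cfsg.Inn H).subgroupOf A) := inferInstance
  have hdvdX : p ∣ Nat.card (A ⧸ (Cfsg.Inn H).subgroupOf A) := hE.1
  -- the two subgroups of `GL₂`
  have key : ∀ P : Sylow p (A ⧸ (Cfsg.Inn H).subgroupOf A),
      ∃ P' : Sylow p (GL (Fin 2) (ZMod p)),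
        (P' : Subgroup (GL (Fin 2) (ZMod p))) = ((P : Subgroup _).comap π).map j := by
    intro P
    have h1 : IsPGroup p ((P : Subgroup (A ⧸ (Cfsg.Inn H).subgroupOf A)).comap π) :=
      P.isPGroup'.comap_of_ker_isPGroup π (by rw [hπker]; exact IsPGroup.of_bot)
    have h2 : IsPGroup p (((P : Subgroup _).comap π).map j) := h1.map j
    obtain ⟨P', hP'⟩ := h2.exists_le_sylow
    refine ⟨P', ?_⟩
    symm
    apply eq_of_le_of_prime_card hp hP'
    · intro hbot
      rw [(Subgroup.map_eq_bot_iff_of_injective _ hjinj)] at hbot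
      have h3 : (P : Subgroup (A ⧸ (Cfsg.Inn H).subgroupOf A)) = ⊥ := by
        rw [← Subgroup.map_comap_eq_self_of_surjective hπsurj (P : Subgroup _), hbot, Subgroup.map_bot]
      exact P.ne_bot_of_dvd_card hdvdX h3
    · rw [card_sylow_GL2 p P', Nat.card_zmod]
  obtain ⟨P₁', hP₁'⟩ := key P₁
  obtain ⟨P₂', hP₂'⟩ := key P₂
  have hne' : P₁' ≠ P₂' := by
    intro h
    apply hne
    have h1 : ((P₁ : Subgroup _).comap π).map j = ((P₂ : Subgroup _).comap π).map j := by
      rw [← hP₁', ← hP₂', h]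
    have h2 := Subgroup.map_injective hjinj h1
    have h3 := Subgroup.comap_injective hπsurj h2
    exact Sylow.ext h3
  have hrange : (Matrix.SpecialLinearGroup.toGL : SL(2, ZMod p) →* GL (Fin 2) (ZMod p)).range ≤ j.range := by
    refine (GL2.range_toGL_le_sup p P₁' P₂' hne').trans ?_
    rw [hP₁', hP₂']
    exact sup_le (Subgroup.map_le_range _ _) (Subgroup.map_le_range _ _)
  -- the subgroup and the isomorphism
  let T : Subgroup (GL (Fin 2) (ZMod p)) :=
    (Matrix.SpecialLinearGroup.toGL : SL(2, ZMod p) →* GL (Fin 2) (ZMod p)).range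
  refine ⟨T.comap j, ⟨?_⟩⟩
  have hbij : Function.Bijective (j.subgroupComap T) := by
    constructor
    · intro x y hxy
      apply Subtype.ext
      apply hjinj
      exact congrArg Subtype.val hxy
    · rintro ⟨y, hy⟩
      obtain ⟨x, rfl⟩ := hrange hy
      exact ⟨⟨x, hy⟩, rfl⟩
  exact (MulEquiv.ofBijective (j.subgroupComap T) hbij).trans
    (MonoidHom.ofInjective Matrix.SpecialLinearGroup.toGL_injective).symm

/-- Let F be a saturated fusion system over a finite p-group S and H an essential subgroup of order p². Then H is elementary abelian (isomorphic to C_p × C_p) and its F-automorphism group contains a subgroup isomorphic to SL(2,p). -/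
theorem result {Ω : Type u} [Group Ω] {S : Subgroup Ω} [Finite S] (p : ℕ) [Fact p.Prime] (hS : IsPGroup p S)
    (F : Cfsg.FusionSystem S) (hF : F.IsSaturated p) (H : Subgroup Ω) (hH : F.IsEssential p H) (hcard : Nat.card H = p ^ 2) :
    Cfsg.IsElementaryAbelian p H ∧
      ∃ K : Subgroup ↥(F.autGroup H), Nonempty (↥K ≃* Matrix.SpecialLinearGroup (Fin 2) (ZMod p)) := by
  obtain ⟨h1, h2, h3⟩ := main p hcard (F.autGroup H) hH.2.2
  refine ⟨⟨isMulCommutative_iff.mpr h1, ?_⟩, h3⟩
  intro a ha
  have := h2 ⟨a, ha⟩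
  exact congrArg Subtype.val this

end Cfsg.Agent.S5185
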