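import Cfsg.Statements.S5186
import Cfsg.Agent.Lib.Helper86.OrderPCube

set_option autoImplicit false
universe u
open Cfsg

namespace Cfsg.Agent.S5186

open Cfsg.Agent.Lib.Helper86

theorem main {H : Type u} [Group H] (p : ℕ) [Fact p.Prime] (hcard : Nat.card H = p ^ 3)
    (A : Subgroup (MulAut H))
    (hess : ∃ _ : ((Cfsg.Inn H).subgroupOf A).Normal,
      ∃ E : Subgroup (A ⧸ (Cfsg.Inn H).subgroupOf A), Cfsg.IsStronglyPEmbedded p E) :
    ((∀ a b : H, a * b = b * a) ∧ ∀ a : H, a ^ p = 1) ∨
      (Odd p ∧ Cfsg.IsExtraspecial p H ∧ ∀ x : H, x ^ p = 1) ∨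
      (p = 2 ∧ Nonempty (H ≃* QuaternionGroup 2)) := by
  have hp : p.Prime := Fact.out
  have hfinH : Finite H := Nat.finite_of_card_ne_zero (by rw [hcard]; exact pow_ne_zero 3 hp.ne_zero)
  have hH : IsPGroup p H := IsPGroup.of_card hcard
  obtain ⟨hn, E, hE⟩ := hess
  have hfinM : Finite (MulAut H) := Finite.of_injective (fun α : MulAut H => (α : H → H))
    (fun α β h => by ext x; exact congrFun h x)
  obtain ⟨P₁, P₂, hne⟩ := exists_two_sylow p E hE
  have hN : IsPGroup p ((Cfsg.Inn H).subgroupOf A) := by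
    have h1 : IsPGroup p (Cfsg.Inn H) :=
      hH.of_surjective (MulAut.conj : H →* MulAut H).rangeRestrict
        (MonoidHom.rangeRestrict_surjective _)
    exact h1.comap_of_injective A.subtype (Subgroup.subtype_injective A)
  have hnochain : ¬ HasCharChain3 p H := fun hch =>
    hne (sylow_unique_of_chain3 p hcard hch A _ hN P₁ P₂)
  by_cases hcomm : ∀ a b : H, a * b = b * a
  · left
    refine ⟨hcomm, ?_⟩
    by_contra hexp
    exact hnochain (abelian_case p hcard hcomm hexp)
  · right
    rcases hp.eq_two_or_odd' with h2 | hodd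
    · right
      subst h2
      refine ⟨rfl, ?_⟩
      rcases nonabelian_two_case hcard hcomm with h | h
      · exact h
      · exact absurd h hnochain
    · left
      have hp2 : p ≠ 2 := by
        rintro rfl
        exact absurd hodd (by decide)
      have hexp : ∀ x : H, x ^ p = 1 := by
        by_contra hexp
        exact hnochain (nonabelian_odd_case p hcard hp2 hcomm hexp)
      exact ⟨hodd, extraspecial_of_exponent p hcard hcomm hexp, hexp⟩

/-- Let F be a saturated fusion system over a finite p-group S and H an essential subgroup of order p³. Then H is elementary abelian, or p is odd and H is extraspecial of exponent p, or p = 2 and H is the quaternion group of order 8. -/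
theorem result {Ω : Type u} [Group Ω] {S : Subgroup Ω} [Finite S] (p : ℕ) [Fact p.Prime] (hS : IsPGroup p S)
    (F : Cfsg.FusionSystem S) (hF : F.IsSaturated p) (H : Subgroup Ω) (hH : F.IsEssential p H) (hcard : Nat.card H = p ^ 3) :
    Cfsg.IsElementaryAbelian p H ∨ (Odd p ∧ Cfsg.IsExtraspecial p ↥H ∧ ∀ x ∈ H, x ^ p = 1) ∨
      (p = 2 ∧ Nonempty (↥H ≃* QuaternionGroup 2)) := by
  rcases main p hcard (F.autGroup H) hH.2.2 with ⟨h1, h2⟩ | ⟨h1, h2, h3⟩ | h
  · left
    refine ⟨isMulCommutative_iff.mpr h1, ?_⟩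
    intro a ha
    exact congrArg Subtype.val (h2 ⟨a, ha⟩)
  · right; left
    refine ⟨h1, h2, ?_⟩
    intro x hx
    exact congrArg Subtype.val (h3 ⟨x, hx⟩)
  · right; right
    exact h

end Cfsg.Agent.S5186
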