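import Cfsg.Statements.S5187
import Cfsg.Agent.Lib.Helper84.AbelRank2Grp
import Cfsg.Agent.Lib.Helper84.StronglyEmbedded

set_option autoImplicit false
universe u
open Cfsg

namespace Cfsg.Agent.S5187

open Cfsg.Agent.Lib.Helper84 Cfsg.Agent.Lib.Helper84.AR

theorem frattini_eq_range {H : Type*} [CommGroup H] [Finite H] (p : ℕ) [Fact p.Prime]
    (hP : IsPGroup p H) : frattini H = (powMonoidHom (α := H) p).range := by
  apply le_antisymm
  · apply Cfsg.Agent.Lib.Helper47.frattini_le_of_elementary_abelian_quotient p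
    · intro x y
      rw [commutatorElement_def, mul_comm x y, mul_inv_cancel_right, mul_inv_cancel]
      exact Subgroup.one_mem _
    · intro x
      exact ⟨x, rfl⟩
  · rintro _ ⟨x, rfl⟩
    exact Cfsg.Agent.Lib.Helper24.pow_mem_frattini_of_isPGroup hP x

theorem index_nA_eq {H : Type*} [CommGroup H] [Finite H] (p : ℕ) [Fact p.Prime]
    (hP : IsPGroup p H) : (nA (Additive H) p).index = (frattini H).index := by
  rw [← Subgroup.index_toAddSubgroup]
  congr 1
  ext x
  rw [frattini_eq_range p hP]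
  constructor
  · rintro ⟨y, hy⟩
    exact ⟨Additive.toMul y, congrArg Additive.toMul hy⟩
  · rintro ⟨y, hy⟩
    exact ⟨Additive.ofMul y, congrArg Additive.ofMul hy⟩

theorem main {H : Type*} [Group H] [Finite H] (p : ℕ) [Fact p.Prime] (hP : IsPGroup p H)
    (hab : ∀ a b : H, a * b = b * a) (hrk : (frattini H).index ≤ p ^ 2)
    (A : Subgroup (MulAut H))
    (hess : ∃ _ : ((Cfsg.Inn H).subgroupOf A).Normal,
      ∃ E : Subgroup (A ⧸ (Cfsg.Inn H).subgroupOf A), Cfsg.IsStronglyPEmbedded p E) :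
    ((∀ a : H, a ^ p = 1) ∧ Nat.card H = p ^ 2) ∨
      (p ≤ 3 ∧ ∃ k : ℕ, Nonempty (H ≃* Multiplicative (ZMod (p ^ k) × ZMod (p ^ k)))) := by
  obtain ⟨hn, E, hE⟩ := hess
  have hI : (Cfsg.Inn H).subgroupOf A = ⊥ := by
    rw [eq_bot_iff]
    intro x hx
    rw [Subgroup.mem_subgroupOf] at hx
    obtain ⟨h, hh⟩ := hx
    rw [Subgroup.mem_bot]
    apply Subtype.ext
    rw [← hh]
    ext y
    show h * y * h⁻¹ = y
    rw [hab h y, mul_inv_cancel_right]
  have hfinM : Finite (MulAut H) := Finite.of_injective (fun α : MulAut H => (α : H → H))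
    (fun α β h => by ext x; exact congrFun h x)
  obtain ⟨π, hπ⟩ : ∃ π : A →* A ⧸ (Cfsg.Inn H).subgroupOf A, π = QuotientGroup.mk' _ := ⟨_, rfl⟩
  have hπsurj : Function.Surjective π := by rw [hπ]; exact QuotientGroup.mk'_surjective _
  have hπker : π.ker = ⊥ := by rw [hπ, QuotientGroup.ker_mk', hI]
  have hπinj : Function.Injective π := (MonoidHom.ker_eq_bot_iff π).mp hπker
  have hcore0 := pCore_eq_bot_of_stronglyPEmbedded hE
  have hdvd : p ∣ Nat.card A := by
    have h1 : Nat.card A = Nat.card (A ⧸ (Cfsg.Inn H).subgroupOf A) :=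
      Nat.card_congr (Equiv.ofBijective π ⟨hπinj, hπsurj⟩)
    rw [h1]
    exact hE.1
  have hcore : ∀ N : Subgroup A, N.Normal → IsPGroup p N → N = ⊥ := by
    intro N hN hNp
    have h1 : (N.map π).Normal := hN.map π hπsurj
    have h2 : IsPGroup p (N.map π) := hNp.map π
    have h3 : N.map π ≤ Cfsg.pCore p (A ⧸ (Cfsg.Inn H).subgroupOf A) := le_pCore h1 h2
    rw [hcore0, le_bot_iff] at h3
    exact (Subgroup.map_eq_bot_iff_of_injective N hπinj).mp h3
  letI : CommGroup H := { ‹Group H› with mul_comm := hab }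
  have hidx : (nA (Additive H) p).index ≤ p ^ 2 := by
    rw [index_nA_eq p hP]
    exact hrk
  exact main_comm p hP A hdvd hcore hidx

/-- Let F be a saturated fusion system over a finite p-group S and H an abelian essential subgroup that can be generated by two elements (its Frattini quotient has order at most p²). Then H is elementary abelian of order p², or p ≤ 3 and H is homocyclic of rank two, that is isomorphic to C_{pᵏ} × C_{pᵏ} for some k. -/
theorem result {Ω : Type u} [Group Ω] {S : Subgroup Ω} [Finite S] (p : ℕ) [Fact p.Prime] (hS : IsPGroup p S)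
    (F : Cfsg.FusionSystem S) (hF : F.IsSaturated p) (H : Subgroup Ω) (hH : F.IsEssential p H) (hab : IsMulCommutative ↥H) (hrk : (frattini ↥H).index ≤ p ^ 2) :
    (Cfsg.IsElementaryAbelian p H ∧ Nat.card H = p ^ 2) ∨
      (p ≤ 3 ∧ ∃ k : ℕ, Nonempty (↥H ≃* Multiplicative (ZMod (p ^ k) × ZMod (p ^ k)))) := by
  have hHS : H ≤ S := hH.1.1
  have hfinH : Finite H := Finite.of_injective (Subgroup.inclusion hHS) (Subgroup.inclusion_injective hHS)
  have hPH : IsPGroup p H := hS.to_le hHS
  have hab' : ∀ a b : H, a * b = b * a := isMulCommutative_iff.mp hab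
  rcases main p hPH hab' hrk (F.autGroup H) hH.2.2 with ⟨h1, h2⟩ | h
  · left
    refine ⟨⟨hab, ?_⟩, h2⟩
    intro a ha
    exact congrArg Subtype.val (h1 ⟨a, ha⟩)
  · right
    exact h

end Cfsg.Agent.S5187
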