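import Cfsg.Statements.S5188
import Cfsg.Agent.Lib.Helper84.OrderP4Abel
import Cfsg.Agent.Lib.Helper84.OrderP4Frat1
import Cfsg.Agent.Lib.Helper84.OrderP4Frat2

set_option autoImplicit false
universe u
open Cfsg

namespace Cfsg.Agent.S5188

open Cfsg.Agent.Lib.Helper84 Cfsg.Agent.Lib.Helper84.P4

/-- The abstract classification: a group of order `p ^ 4` with the automizer condition of essential
subgroups. -/
theorem main {H : Type u} [Group H] [Finite H] (p : ℕ) [Fact p.Prime] (hcard : Nat.card H = p ^ 4)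
    (A : Subgroup (MulAut H)) (hess : EssHyp p A) :
    ((∀ a b : H, a * b = b * a) ∧ ∀ a : H, a ^ p = 1) ∨
      Nonempty (H ≃* Multiplicative (ZMod (p ^ 2) × ZMod p × ZMod p)) ∨
      ((p = 2 ∨ p = 3) ∧ Nonempty (H ≃* Multiplicative (ZMod (p ^ 2) × ZMod (p ^ 2)))) ∨
      (Odd p ∧ ∃ (E : Type) (_ : Group E) (_ : Finite E), Cfsg.IsExtraspecial p E ∧
        Nat.card E = p ^ 3 ∧ (∀ x : E, x ^ p = 1) ∧
        Nonempty (H ≃* E × Multiplicative (ZMod p))) ∨
      (p = 2 ∧ Nonempty (H ≃* QuaternionGroup 2 × Multiplicative (ZMod 2))) ∨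
      ((¬ ∀ a b : H, a * b = b * a) ∧ (∀ x : H, x ^ (p ^ 2) = 1) ∧
        IsCyclic (Subgroup.center H) ∧ Nat.card (Subgroup.center H) = p ^ 2) := by
  have hH : IsPGroup p H := IsPGroup.of_card hcard
  by_cases hab : ∀ a b : H, a * b = b * a
  · rcases abelian_cases p hcard hab A hess with h | h | h
    · exact Or.inl ⟨hab, h⟩
    · exact Or.inr (Or.inl h)
    · exact Or.inr (Or.inr (Or.inl h))
  · rcases frattini_card_cases p hcard hab with hΦ | hΦ
    · rcases frattini_prime_cases p hcard hab hΦ with h | h | h | h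
      · exact (false_of_hasChain p hH A hess h).elim
      · exact Or.inr (Or.inr (Or.inr (Or.inl h)))
      · exact Or.inr (Or.inr (Or.inr (Or.inr (Or.inl h))))
      · exact Or.inr (Or.inr (Or.inr (Or.inr (Or.inr ⟨hab, h⟩))))
    · exact (false_of_hasChain p hH A hess (frattini_sq_chain p hcard hab hΦ)).elim

/-- Let F be a saturated fusion system over a finite p-group S and H an essential subgroup of order p⁴. Then H is isomorphic to one of: C_p⁴ or C_{p²} × C_p × C_p (any p); C_{p²} × C_{p²} with p ∈ {2, 3}; p^{1+2}_+ × C_p with p odd (the direct product of an extraspecial group of order p³ and exponent p with a group of order p); Q₈ × C₂ (p = 2); or the non-abelian group of order p⁴ of exponent p² whose centre is cyclic of order p² (the central product of an extraspecial group of order p³ with a cyclic group of order p²; for p = 2 this is D₈ ∘ C₄). -/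
theorem result {Ω : Type u} [Group Ω] {S : Subgroup Ω} [Finite S] (p : ℕ) [Fact p.Prime] (hS : IsPGroup p S)
    (F : Cfsg.FusionSystem S) (hF : F.IsSaturated p) (H : Subgroup Ω) (hH : F.IsEssential p H) (hcard : Nat.card H = p ^ 4) :
    Cfsg.IsElementaryAbelian p H ∨
      Nonempty (↥H ≃* Multiplicative (ZMod (p ^ 2) × ZMod p × ZMod p)) ∨
      ((p = 2 ∨ p = 3) ∧ Nonempty (↥H ≃* Multiplicative (ZMod (p ^ 2) × ZMod (p ^ 2)))) ∨
      (Odd p ∧ ∃ (E : Type) (_ : Group E) (_ : Finite E), Cfsg.IsExtraspecial p E ∧ Nat.card E = p ^ 3 ∧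
        (∀ x : E, x ^ p = 1) ∧ Nonempty (↥H ≃* E × Multiplicative (ZMod p))) ∨
      (p = 2 ∧ Nonempty (↥H ≃* QuaternionGroup 2 × Multiplicative (ZMod 2))) ∨
      (¬ IsMulCommutative ↥H ∧ (∀ x ∈ H, x ^ (p ^ 2) = 1) ∧ IsCyclic ↥(Subgroup.center ↥H) ∧
        Nat.card (Subgroup.center ↥H) = p ^ 2) := by
  have hHS : H ≤ S := hH.1.1
  have hfinH : Finite H := Finite.of_injective (Subgroup.inclusion hHS) (Subgroup.inclusion_injective hHS)
  rcases main p hcard (F.autGroup H) hH.2.2 with ⟨h1, h2⟩ | h | h | h | h | ⟨h1, h2, h3⟩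
  · left
    refine ⟨isMulCommutative_iff.mpr h1, ?_⟩
    intro a ha
    exact congrArg Subtype.val (h2 ⟨a, ha⟩)
  · exact Or.inr (Or.inl h)
  · exact Or.inr (Or.inr (Or.inl h))
  · exact Or.inr (Or.inr (Or.inr (Or.inl h)))
  · exact Or.inr (Or.inr (Or.inr (Or.inr (Or.inl h))))
  · refine Or.inr (Or.inr (Or.inr (Or.inr (Or.inr ⟨?_, ?_, h3⟩))))
    · intro hc
      exact h1 (isMulCommutative_iff.mp hc)
    · intro x hx
      exact congrArg Subtype.val (h2 ⟨x, hx⟩)

end Cfsg.Agent.S5188
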