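import Cfsg.Statements.S5191

set_option autoImplicit false
open Cfsg

namespace Cfsg.Agent.S5191

theorem aux {G : Type*} [Group G] [Finite G] {p : ℕ} [Fact p.Prime]
    (N : Subgroup G) [hN : N.Normal] (S : Sylow p G) (P : Subgroup G) (hP : P ≤ (S : Subgroup G))
    (γ : G ⧸ N)
    (hγ : ∀ x ∈ P, γ * QuotientGroup.mk x * γ⁻¹ ∈ ((S : Subgroup G).map (QuotientGroup.mk' N))) :
    ∃ g : G, ∀ x ∈ P, g * x * g⁻¹ ∈ S ∧
      (QuotientGroup.mk (g * x * g⁻¹) : G ⧸ N) = γ * QuotientGroup.mk x * γ⁻¹ := by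
  obtain ⟨g, rfl⟩ := QuotientGroup.mk_surjective γ
  set H : Subgroup G := (S : Subgroup G) ⊔ N with hH
  have hSH : (S : Subgroup G) ≤ H := le_sup_left
  have hNH : N ≤ H := le_sup_right
  have hPH : ∀ x ∈ P, g * x * g⁻¹ ∈ H := by
    intro x hx
    obtain ⟨s, hs, hs'⟩ := hγ x hx
    have h1 : (QuotientGroup.mk (s⁻¹ * (g * x * g⁻¹)) : G ⧸ N) = 1 := by
      have : (QuotientGroup.mk' N s : G ⧸ N) = QuotientGroup.mk s := rfl
      rw [QuotientGroup.mk_mul, QuotientGroup.mk_inv, ← this, hs']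
      simp only [QuotientGroup.mk_mul, QuotientGroup.mk_inv]
      group
    have h2 : s⁻¹ * (g * x * g⁻¹) ∈ N := (QuotientGroup.eq_one_iff _).mp h1
    have : g * x * g⁻¹ = s * (s⁻¹ * (g * x * g⁻¹)) := by group
    rw [this]
    exact H.mul_mem (hSH hs) (hNH h2)
  let P' : Subgroup H := (P.map (MulAut.conj g).toMonoidHom).subgroupOf H
  have hP'p : IsPGroup p P' := by
    have hPp : IsPGroup p P := S.isPGroup'.to_le hP
    have h2 : IsPGroup p (P.map (MulAut.conj g).toMonoidHom) := hPp.map _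
    exact h2.comap_subtype
  obtain ⟨Q, hQ⟩ := hP'p.exists_le_sylow
  let S' : Sylow p H := S.subtype hSH
  obtain ⟨h, hh⟩ := MulAction.exists_smul_eq H Q S'
  have hmem : (h : G) ∈ (S : Subgroup G) ⊔ N := h.2
  obtain ⟨s, hs, n, hn, hsn⟩ := Subgroup.mem_sup_of_normal_right.mp hmem
  refine ⟨n * g, fun x hx => ⟨?_, ?_⟩⟩
  · have hx' : (⟨g * x * g⁻¹, hPH x hx⟩ : H) ∈ P' := by
      show g * x * g⁻¹ ∈ P.map (MulAut.conj g).toMonoidHom
      exact ⟨x, hx, rfl⟩
    have hxQ : (⟨g * x * g⁻¹, hPH x hx⟩ : H) ∈ Q := hQ hx'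
    have h3 : h * ⟨g * x * g⁻¹, hPH x hx⟩ * h⁻¹ ∈ ((h • Q : Sylow p H) : Subgroup H) := by
      rw [Sylow.smul_def, Sylow.pointwise_smul_def]
      exact Subgroup.smul_mem_pointwise_smul _ _ _ hxQ
    rw [hh] at h3
    have h4 : ((h * ⟨g * x * g⁻¹, hPH x hx⟩ * h⁻¹ : H) : G) ∈ (S : Subgroup G) := h3
    have h5 : s * n * (g * x * g⁻¹) * (s * n)⁻¹ ∈ (S : Subgroup G) := by
      rw [hsn]; exact h4
    have h6 : n * g * x * (n * g)⁻¹ = s⁻¹ * (s * n * (g * x * g⁻¹) * (s * n)⁻¹) * s := by group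
    rw [h6]
    exact (S : Subgroup G).mul_mem ((S : Subgroup G).mul_mem ((S : Subgroup G).inv_mem hs) h5) hs
  · have hn1 : (QuotientGroup.mk n : G ⧸ N) = 1 := (QuotientGroup.eq_one_iff _).mpr hn
    simp only [QuotientGroup.mk_mul, QuotientGroup.mk_inv, hn1, one_mul, inv_one, mul_one, mul_inv_rev]

/-- Fusion in a finite group G and in its quotient by O_{p'}(G) agree. Let S be a Sylow p-subgroup of G, N = O_{p'}(G) and P ≤ S. If an element of G/N conjugates the image of P into the image of S, then some element g of G conjugates P into S and induces the same map on P modulo N. (Together with the injectivity of S → G/N this says that g ↦ gN induces an isomorphism of the fusion system of G on S with that of G/N on SN/N.) -/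
theorem result {G : Type*} [Group G] [Finite G] {p : ℕ} [Fact p.Prime]
    [hN : (Cfsg.pPrimeCore p G).Normal] (S : Sylow p G) (P : Subgroup G) (hP : P ≤ (S : Subgroup G))
    (γ : G ⧸ Cfsg.pPrimeCore p G)
    (hγ : ∀ x ∈ P, γ * QuotientGroup.mk x * γ⁻¹ ∈ ((S : Subgroup G).map (QuotientGroup.mk' (Cfsg.pPrimeCore p G)))) :
    ∃ g : G, ∀ x ∈ P, g * x * g⁻¹ ∈ S ∧
      (QuotientGroup.mk (g * x * g⁻¹) : G ⧸ Cfsg.pPrimeCore p G) = γ * QuotientGroup.mk x * γ⁻¹ := by
  exact aux (Cfsg.pPrimeCore p G) S P hP γ hγ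

end Cfsg.Agent.S5191
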