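import Cfsg.Statements.S5196
import Cfsg.Agent.Lib.Helper54.FusCenter

set_option autoImplicit false
universe u
open Cfsg

namespace Cfsg.Agent.S5196

open Cfsg.FusionSystem Cfsg.Agent.Lib.Helper87 Cfsg.Agent.Lib.Helper54.FusWP in
/-- The local hypothesis follows from the local condition on centres. -/
theorem localHyp_of_hC {p : ℕ} [Fact p.Prime] (W : ∀ (Q : Type u) [Group Q], Subgroup Q)
    (hW2 : ∀ (Q R : Type u) [Group Q] [Group R] [Finite Q], IsPGroup p Q → ∀ φ : Q ≃* R,
      (W Q).map φ.toMonoidHom = W R)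
    (hC : ∀ (G : Type u) [Group G] [Finite G] (P : Sylow p G), Cfsg.pCore p G ⊓ Subgroup.center G = Cfsg.pCore p G ⊓ (Subgroup.center ↥(Subgroup.normalizer (((W ↥(P : Subgroup G)).map (P : Subgroup G).subtype : Subgroup G) : Set G))).map (Subgroup.normalizer (((W ↥(P : Subgroup G)).map (P : Subgroup G).subtype : Subgroup G) : Set G)).subtype)
    {Ω : Type u} [Group Ω] (S : Subgroup Ω) [Finite S] (C : Set Ω) :
    Cfsg.Agent.Lib.Helper54.FusLocal.LocalHyp p W S C := by
  intro T hTS _ G _ _ ι hinj hSyl c _ hc h1 h2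
  obtain ⟨P, hP⟩ := hSyl
  haveI : Finite T := finite_of_le hTS
  have hTp : IsPGroup p T := by
    have : IsPGroup p ι.range := hP ▸ P.isPGroup'
    exact this.of_injective (MonoidHom.ofInjective hinj).toMonoidHom (MonoidHom.ofInjective hinj).injective
  have e : (W ↥(P : Subgroup G)).map (P : Subgroup G).subtype = (W ↥T).map ι := by
    have h := induced_range' hW2 hTp ι hinj
    rw [← hP] at h
    exact h
  have hCG := hC G P
  rw [e] at hCG
  have hmem : ι ⟨c, hc⟩ ∈ Cfsg.pCore p G ⊓ Subgroup.center G := by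
    rw [hCG]
    refine ⟨h1, ?_⟩
    have hnorm : ι ⟨c, hc⟩ ∈ Subgroup.normalizer ((((W ↥T).map ι : Subgroup G)) : Set G) := by
      have hPfin : Finite (P : Subgroup G) := inferInstance
      have h3 := normalizer_le_normalizer_induced (W := W) hW2 P.isPGroup'
      rw [show inducedFunctor W (P : Subgroup G) = (W ↥T).map ι from e] at h3
      apply h3
      apply Subgroup.le_normalizer
      rw [hP]
      exact ⟨_, rfl⟩
    refine ⟨⟨ι ⟨c, hc⟩, hnorm⟩, ?_, rfl⟩
    refine Subgroup.mem_center_iff.mpr ?_
    intro n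
    apply Subtype.ext
    exact h2 n n.2
  exact hmem.2

/-- Let p be an odd prime and W a positive characteristic p-functor: W assigns to every finite p-group Q (in a fixed universe) a subgroup W(Q), nontrivial when Q is, carried to W(R) by every isomorphism Q ≅ R; assume also Z(Q) ≤ W(Q) for every finite p-group Q. Suppose W satisfies the local condition: for every finite group G with Sylow p-subgroup P, O_p(G) ∩ Z(G) = O_p(G) ∩ Z(N_G(W(P))). Then W controls weak closure of elements in every saturated fusion system F over a finite p-group S: the centre of the normalizer fusion system of W(S) in F equals the centre of F. (For p = 2 no functor satisfies the local condition, so p is taken odd.) -/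
theorem result {p : ℕ} [Fact p.Prime] (hp : p ≠ 2) (W : ∀ (Q : Type u) [Group Q], Subgroup Q) (hW1 : ∀ (Q : Type u) [Group Q] [Finite Q], IsPGroup p Q → Nontrivial Q → W Q ≠ ⊥) (hW2 : ∀ (Q R : Type u) [Group Q] [Group R] [Finite Q], IsPGroup p Q → ∀ φ : Q ≃* R, (W Q).map φ.toMonoidHom = W R) (hWZ : ∀ (Q : Type u) [Group Q] [Finite Q], IsPGroup p Q → Subgroup.center Q ≤ W Q) (hC : ∀ (G : Type u) [Group G] [Finite G] (P : Sylow p G), Cfsg.pCore p G ⊓ Subgroup.center G = Cfsg.pCore p G ⊓ (Subgroup.center ↥(Subgroup.normalizer (((W ↥(P : Subgroup G)).map (P : Subgroup G).subtype : Subgroup G) : Set G))).map (Subgroup.normalizer (((W ↥(P : Subgroup G)).map (P : Subgroup G).subtype : Subgroup G) : Set G)).subtype) {Ω : Type u} [Group Ω] {S : Subgroup Ω} [Finite S] (hS : IsPGroup p S) (F : Cfsg.FusionSystem S) (hF : F.IsSaturated p) (N : Cfsg.FusionSystem (Cfsg.FusionSystem.normalizerIn S ((W ↥S).map S.subtype))) (hN : F.IsNormalizerSystem ((W ↥S).map S.subtype) N) : N.center = F.center := by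
  have hLoc : Cfsg.Agent.Lib.Helper54.FusLocal.LocalHyp p W S ((N.center : Subgroup Ω) : Set Ω) :=
    localHyp_of_hC W hW2 hC S _
  apply le_antisymm
  · exact Cfsg.Agent.Lib.Helper54.FusCenter.le_center_of_localHyp hS W hW2 hWZ F hF N hN
      N.center le_rfl hLoc
  · exact Cfsg.Agent.Lib.Helper54.FusCenter.center_le_center hS W hW2 F hF N hN

end Cfsg.Agent.S5196
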