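import Cfsg.Statements.S5253
import Cfsg.Agent.Lib.Helper54.FusWC
import Cfsg.Agent.S1974
import Cfsg.Agent.Lib.Helper33.KInfLocal

set_option autoImplicit false
universe u
open Cfsg

namespace Cfsg.Agent.S5253

open Cfsg.Agent.Lib.Helper33 Subgroup in
/-- The local hypothesis of the weak closure theorems from the abstract quadratic-element
hypothesis. -/
theorem quad_local {G : Type u} [Group G] [Finite G] {p : ℕ} [hp : Fact p.Prime]
    (W : ∀ (Q : Type u) [Group Q], Subgroup Q) (hWc : IsCharPFunctor.{u} p W)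
    (hq' : ∀ (Y : Type u) [Group Y] [Finite Y] (S : Sylow p Y),
      ¬ (inducedFunctor (G := Y) W (S : Subgroup Y)).Normal →
      ∃ g : Y, g ∈ (S : Subgroup Y) ∧ g ∉ pCore p Y ∧
        ⁅⁅pCore p Y ⊓ centralizer (pCore p Y : Set Y), Subgroup.zpowers g⁆, Subgroup.zpowers g⁆ = ⊥)
    (H T : Subgroup G) (hTH : T ≤ H) (hTp : IsPGroup p ↥T) (hTi : ¬ p ∣ T.relIndex H)
    (hn : ¬ H ≤ normalizer ((inducedFunctor (G := G) W T : Subgroup G) : Set G)) :
    ∃ g : G, g ∈ T ∧ g ∉ pCoreOf p H ∧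
      ⁅⁅pCoreOf p H ⊓ centralizer ((pCoreOf p H : Subgroup G) : Set G), Subgroup.zpowers g⁆,
        Subgroup.zpowers g⁆ = ⊥ := by
  have hinj : Function.Injective H.subtype := Subgroup.subtype_injective H
  have hTp' : IsPGroup p (T.subgroupOf H) := hTp.comap_subtype
  obtain ⟨S, hS⟩ : ∃ S : Sylow p H, (S : Subgroup H) = T.subgroupOf H :=
    ⟨hTp'.toSylow hTi, rfl⟩
  have hSmap : (S : Subgroup H).map H.subtype = T := by
    rw [hS]; exact Subgroup.map_subgroupOf_eq_of_le hTH
  have hWmap : (inducedFunctor (G := ↥H) W (S : Subgroup H)).map H.subtype =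
      inducedFunctor (G := G) W T := by
    rw [induced_map_of_injective hWc H.subtype hinj (S : Subgroup H) S.isPGroup', hSmap]
  have hWn : ¬ (inducedFunctor (G := ↥H) W (S : Subgroup H)).Normal := by
    intro hnorm
    apply hn
    intro h hh
    rw [← hWmap, Subgroup.mem_normalizer_iff]
    intro x
    constructor
    · rintro ⟨y, hy, rfl⟩
      exact ⟨⟨h, hh⟩ * y * ⟨h, hh⟩⁻¹, hnorm.conj_mem y hy ⟨h, hh⟩, by simp⟩
    · rintro ⟨y, hy, hyx⟩
      refine ⟨⟨h, hh⟩⁻¹ * y * ⟨h, hh⟩, ?_, ?_⟩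
      · have := hnorm.conj_mem y hy (⟨h, hh⟩⁻¹)
        simpa using this
      · have : x = h⁻¹ * (y : G) * h := by
          have h2 : (y : G) = h * x * h⁻¹ := hyx
          rw [h2]; group
        rw [this]; simp
  obtain ⟨g, hgS, hgQ, hq⟩ := hq' ↥H S hWn
  refine ⟨(g : G), ?_, ?_, ?_⟩
  · rw [← hSmap]; exact ⟨g, hgS, rfl⟩
  · rintro ⟨y, hy, hyg⟩
    apply hgQ
    have : y = g := Subtype.ext hyg
    rw [← this]; exact hy
  · have hz : (Subgroup.zpowers g).map H.subtype = Subgroup.zpowers (g : G) := by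
      rw [MonoidHom.map_zpowers]; rfl
    have hc : (pCore p ↥H ⊓ centralizer (pCore p ↥H : Set ↥H)).map H.subtype =
        pCoreOf p H ⊓ centralizer ((pCoreOf p H : Subgroup G) : Set G) := by
      rw [map_inf_centralizer hinj]; rfl
    rw [← hz, ← hc, ← Subgroup.map_commutator, ← Subgroup.map_commutator, hq, Subgroup.map_bot]

theorem center_map_subtype {Y : Type u} [Group Y] (Q : Subgroup Y) :
    (Subgroup.center ↥Q).map Q.subtype = Q ⊓ Subgroup.centralizer (Q : Set Y) := by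
  ext x
  constructor
  · rintro ⟨y, hy, rfl⟩
    refine ⟨y.2, ?_⟩
    refine Subgroup.mem_centralizer_iff.mpr ?_
    intro q hq
    have := Subgroup.mem_center_iff.mp hy ⟨q, hq⟩
    exact congrArg Subtype.val this
  · rintro ⟨hxQ, hxC⟩
    refine ⟨⟨x, hxQ⟩, ?_, rfl⟩
    refine Subgroup.mem_center_iff.mpr ?_
    intro q
    apply Subtype.ext
    exact Subgroup.mem_centralizer_iff.mp hxC q q.2

open Cfsg.FusionSystem Cfsg.Agent.Lib.Helper87 Cfsg.Agent.Lib.Helper54.FusWP in
/-- The local hypothesis for `p`-th powers of central elements. -/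
theorem localHyp_quad {p : ℕ} [Fact p.Prime] (W : ∀ (Q : Type u) [Group Q], Subgroup Q)
    (hWc : IsCharPFunctor.{u} p W)
    (hWZ : ∀ (Q : Type u) [Group Q] [Finite Q], IsPGroup p Q → Subgroup.center Q ≤ W Q)
    (hq : ∀ (G : Type u) [Group G] [Finite G] (P : Sylow p G), ¬ (((W ↥(P : Subgroup G)).map (P : Subgroup G).subtype : Subgroup G)).Normal → ∃ g : G, g ∈ (P : Subgroup G) ∧ g ∉ Cfsg.pCore p G ∧ ⁅⁅Subgroup.center ↥(Cfsg.pCore p G) |>.map (Cfsg.pCore p G).subtype, Subgroup.zpowers g⁆, Subgroup.zpowers g⁆ = ⊥)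
    {Ω : Type u} [Group Ω] (S : Subgroup Ω) [Finite S] (C : Set Ω)
    (hC : C ⊆ Subgroup.closure ((fun z => z ^ p) '' ((S ⊓ Subgroup.centralizer (S : Set Ω) : Subgroup Ω) : Set Ω))) :
    Cfsg.Agent.Lib.Helper54.FusLocal.LocalHyp p W S C := by
  apply Cfsg.Agent.Lib.Helper54.FusWC.localHyp_of_weaklyClosed W hWc.2
  intro T hTS hZT G _ _ ι hinj P hP c hcC hc hcomm g hg
  have hq' : ∀ (Y : Type u) [Group Y] [Finite Y] (S : Sylow p Y),
      ¬ (inducedFunctor (G := Y) W (S : Subgroup Y)).Normal →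
      ∃ g : Y, g ∈ (S : Subgroup Y) ∧ g ∉ pCore p Y ∧
        ⁅⁅pCore p Y ⊓ Subgroup.centralizer (pCore p Y : Set Y), Subgroup.zpowers g⁆,
          Subgroup.zpowers g⁆ = ⊥ := by
    intro Y _ _ S hn
    obtain ⟨g, h1, h2, h3⟩ := hq Y S hn
    rw [center_map_subtype] at h3
    exact ⟨g, h1, h2, h3⟩
  have hWZ' : ∀ P : Subgroup G, IsPGroup p ↥P →
      P ⊓ Subgroup.centralizer ((P : Subgroup G) : Set G) ≤ inducedFunctor (G := G) W P := by
    intro P hP x hx
    haveI : Finite P := inferInstance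
    refine (mem_induced W).mpr ⟨⟨x, hx.1⟩, hWZ _ hP ?_, rfl⟩
    refine Subgroup.mem_center_iff.mpr ?_
    intro s
    apply Subtype.ext
    exact Subgroup.mem_centralizer_iff.mp hx.2 s s.2
  have hmain := (Cfsg.Agent.S1974.result P (inducedFunctor (G := G) W)
    (Cfsg.Agent.Lib.Helper33.isConjugacyFunctor_induced hWc) hWZ'
    (fun H T hTH hTp hTi hn => quad_local W hWc hq' H T hTH hTp hTi hn) _ rfl).1
  refine hmain (ι ⟨c, hc⟩) ⟨?_, ?_⟩ g hg
  · -- `ι c` is a product of `p`-th powers of central elements of `P`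
    have hle : Subgroup.closure ((fun z => z ^ p) ''
        ((S ⊓ Subgroup.centralizer (S : Set Ω) : Subgroup Ω) : Set Ω)) ≤
        ((Subgroup.closure ((fun z : G => z ^ p) '' (((P : Subgroup G) ⊓
          Subgroup.centralizer (((P : Subgroup G) : Subgroup G) : Set G) : Subgroup G) : Set G))).comap
          ι).map T.subtype := by
      rw [Subgroup.closure_le]
      rintro _ ⟨z, hz, rfl⟩
      have hzT : z ∈ T := hZT hz
      refine ⟨⟨z, hzT⟩ ^ p, ?_, rfl⟩
      show ι (⟨z, hzT⟩ ^ p) ∈ Subgroup.closure ((fun z : G => z ^ p) '' (((P : Subgroup G) ⊓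
          Subgroup.centralizer (((P : Subgroup G) : Subgroup G) : Set G) : Subgroup G) : Set G))
      rw [map_pow]
      apply Subgroup.subset_closure
      refine ⟨ι ⟨z, hzT⟩, ⟨?_, ?_⟩, rfl⟩
      · show ι ⟨z, hzT⟩ ∈ (P : Subgroup G)
        rw [hP]; exact ⟨_, rfl⟩
      · refine Subgroup.mem_centralizer_iff.mpr ?_
        intro y hy
        have hy' : y ∈ ι.range := by rw [← hP]; exact hy
        obtain ⟨t, rfl⟩ := hy'
        rw [← map_mul, ← map_mul]
        congr 1
        apply Subtype.ext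
        exact Subgroup.mem_centralizer_iff.mp hz.2 t (hTS t.2)
    obtain ⟨t, ht, htc⟩ := hle (hC hcC)
    have : t = ⟨c, hc⟩ := Subtype.ext htc
    rw [← this]
    exact ht
  · refine Subgroup.mem_centralizer_iff.mpr ?_
    intro n hn
    exact hcomm n hn

/-- Let p be a prime and W a positive characteristic p-functor with Z(Q) ≤ W(Q): W assigns to every finite p-group Q (in a fixed universe) a subgroup W(Q), nontrivial when Q is, carried to W(R) by every isomorphism Q ≅ R, and containing the centre of Q. Suppose that for every finite group G with Sylow p-subgroup P in which W(P) is not normal there is g ∈ P outside O_p(G) with [Z(O_p(G)), g, g] = 1. Then for every saturated fusion system F over a finite p-group S and every normalizer fusion system N of W(S) in F, every p-th power of an element of Z(S) that lies in the centre of N lies in the centre of F. -/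
theorem result {p : ℕ} [Fact p.Prime] (W : ∀ (Q : Type u) [Group Q], Subgroup Q) (hW1 : ∀ (Q : Type u) [Group Q] [Finite Q], IsPGroup p Q → Nontrivial Q → W Q ≠ ⊥) (hW2 : ∀ (Q R : Type u) [Group Q] [Group R] [Finite Q], IsPGroup p Q → ∀ φ : Q ≃* R, (W Q).map φ.toMonoidHom = W R) (hWZ : ∀ (Q : Type u) [Group Q] [Finite Q], IsPGroup p Q → Subgroup.center Q ≤ W Q) (hq : ∀ (G : Type u) [Group G] [Finite G] (P : Sylow p G), ¬ (((W ↥(P : Subgroup G)).map (P : Subgroup G).subtype : Subgroup G)).Normal → ∃ g : G, g ∈ (P : Subgroup G) ∧ g ∉ Cfsg.pCore p G ∧ ⁅⁅Subgroup.center ↥(Cfsg.pCore p G) |>.map (Cfsg.pCore p G).subtype, Subgroup.zpowers g⁆, Subgroup.zpowers g⁆ = ⊥) {Ω : Type u} [Group Ω] {S : Subgroup Ω} [Finite S] (hS : IsPGroup p S) (F : Cfsg.FusionSystem S) (hF : F.IsSaturated p) (N : Cfsg.FusionSystem (Cfsg.FusionSystem.normalizerIn S ((W ↥S).map S.subtype))) (hN : F.IsNormalizerSystem ((W ↥S).map S.subtype) N) : Subgroup.closure ((fun z => z ^ p) ''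 ((S ⊓ Subgroup.centralizer (S : Set Ω) : Subgroup Ω) : Set Ω)) ⊓ N.center ≤ F.center := by
  have hLoc := localHyp_quad W ⟨hW1, hW2⟩ hWZ hq S
    ((Subgroup.closure ((fun z => z ^ p) '' ((S ⊓ Subgroup.centralizer (S : Set Ω) : Subgroup Ω) : Set Ω)) ⊓ N.center : Subgroup Ω) : Set Ω)
    (fun x hx => hx.1)
  exact Cfsg.Agent.Lib.Helper54.FusCenter.le_center_of_localHyp hS W hW2 hWZ F hF N hN _
    inf_le_right hLoc

end Cfsg.Agent.S5253
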