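import Cfsg.Statements.S5193
import Cfsg.Agent.S2799
import Cfsg.Agent.S5253
import Cfsg.Agent.S5196
import Cfsg.Agent.Lib.Helper51.WcJ
import Cfsg.Agent.Lib.Helper51.WcK

set_option autoImplicit false
open Cfsg

namespace Cfsg.Agent.S5193

universe u

theorem mem_center_map {G : Type*} [Group G] (N : Subgroup G) {x : G} (hxN : x ∈ N)
    (h : ∀ n ∈ N, n * x = x * n) : x ∈ (Subgroup.center ↥N).map N.subtype :=
  ⟨⟨x, hxN⟩, Subgroup.mem_center_iff.mpr (fun n => Subtype.ext (h n n.2)), rfl⟩

/-- An element of `O_p(G)` commuting with `N_G(J(P))` is central, if `p` is odd or `G` does not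
involve `S₄`. -/
theorem central_of_pCore {G : Type u} [Group G] [Finite G] {p : ℕ} [Fact p.Prime] (P : Sylow p G)
    (x : G) (hxQ : x ∈ Cfsg.pCore p G)
    (hx : ∀ n ∈ Subgroup.normalizer ((Cfsg.thompsonSubgroupAOf (P : Subgroup G) : Subgroup G) :
      Set G), n * x = x * n)
    (h : p ≠ 2 ∨ ¬ Cfsg.Involves (Equiv.Perm (Fin 4)) G) : x ∈ Subgroup.center G := by
  have hQn : (Cfsg.pCore p G).Normal := Cfsg.Agent.Lib.Helper55.pCore_normal' p
  have hQP : Cfsg.pCore p G ≤ (P : Subgroup G) := Cfsg.Agent.Lib.Helper11.pCore_le_sylow P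
  have hxP : x ∈ (P : Subgroup G) := hQP hxQ
  have hxN : x ∈ Subgroup.normalizer
      ((Cfsg.thompsonSubgroupAOf (P : Subgroup G) : Subgroup G) : Set G) :=
    Cfsg.Agent.Lib.Helper51.normalizer_le_normalizer_thompsonAOf _ (Subgroup.le_normalizer hxP)
  have hwc := Cfsg.Agent.S2799.result P x hxP (mem_center_map _ hxN hx)
    (h.elim Or.inl (fun h' => Or.inr (Or.inr h')))
  rw [Subgroup.mem_center_iff]
  intro g
  have h1 := hwc g (hQP (hQn.conj_mem x hxQ g))
  calc g * x = g * x * g⁻¹ * g := by group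
    _ = x * g := by rw [h1]

end Cfsg.Agent.S5193

namespace Cfsg.Agent.S5193

/-- Glauberman's Theorem for fusion systems. Let F be a saturated fusion system over a finite p-group S, let J(S) be the subgroup generated by the abelian subgroups of S of largest order, and let N be the normalizer fusion system of J(S) in F (a fusion system over N_S(J(S)) = S). Then every p-th power of an element of Z(S) that lies in the centre of N lies in the centre of F; and if p is odd, or if the symmetric group of degree 4 is not involved in any model of the normalizer system of a fully normalized F-centric subgroup (F is S₄-free), then the centre of N equals the centre of F. -/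
theorem result {Ω : Type*} [Group Ω] {S : Subgroup Ω} [Finite S] (p : ℕ) [Fact p.Prime] (hS : IsPGroup p S) (F : Cfsg.FusionSystem S) (hF : F.IsSaturated p) (N : Cfsg.FusionSystem (Cfsg.FusionSystem.normalizerIn S (Cfsg.thompsonSubgroupAOf S))) (hN : F.IsNormalizerSystem (Cfsg.thompsonSubgroupAOf S) N) : Subgroup.closure ((fun z : Ω => z ^ p) '' ((S ⊓ Subgroup.centralizer (S : Set Ω) : Subgroup Ω) : Set Ω)) ⊓ N.center ≤ F.center ∧ (p ≠ 2 ∨ F.IsSectionFree p (Equiv.Perm (Fin 4)) → N.center = F.center) := by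
  have hW1 := @Cfsg.Agent.Lib.Helper51.Wc.WJ_ne_bot p
  have hW2 := @Cfsg.Agent.Lib.Helper51.WJ_map p
  have hWZ := @Cfsg.Agent.Lib.Helper51.Wc.center_le_WJ p
  refine ⟨?_, ?_⟩
  · exact Cfsg.Agent.S5253.result Cfsg.Agent.Lib.Helper51.WJ hW1 hW2 hWZ
      Cfsg.Agent.Lib.Helper51.Wc.quad_type hS F hF N hN
  · intro h
    rcases h with hp | hfree
    · refine Cfsg.Agent.S5196.result hp Cfsg.Agent.Lib.Helper51.WJ hW1 hW2 hWZ ?_ hS F hF N hN
      intro G _ _ P
      ext x
      constructor
      · rintro ⟨hxQ, hxc⟩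
        refine ⟨hxQ, mem_center_map _ ?_ (fun n _ => Subgroup.mem_center_iff.mp hxc n)⟩
        exact Subgroup.center_le_normalizer _ hxc
      · rintro ⟨hxQ, ⟨y, hy, rfl⟩⟩
        refine ⟨hxQ, central_of_pCore P _ hxQ ?_ (Or.inl hp)⟩
        intro n hn
        exact congrArg Subtype.val (Subgroup.mem_center_iff.mp hy ⟨n, hn⟩)
    · apply le_antisymm
      · refine Cfsg.Agent.Lib.Helper51.WcFus.le_center_of_localHyp' hS Cfsg.Agent.Lib.Helper51.WJ
          hW2 hWZ F hF N hN N.center le_rfl (Equiv.Perm (Fin 4)) hfree ?_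
        apply Cfsg.Agent.Lib.Helper51.WcFus.localHyp_of_weaklyClosed' Cfsg.Agent.Lib.Helper51.WJ hW2
        intro T hTS hZT G _ _ ι hinj hG P hP c hcC hc hcomm g hg
        have hxP : ι ⟨c, hc⟩ ∈ (P : Subgroup G) := by rw [hP]; exact ⟨_, rfl⟩
        have hxN : ι ⟨c, hc⟩ ∈ Subgroup.normalizer
            ((Cfsg.thompsonSubgroupAOf (P : Subgroup G) : Subgroup G) : Set G) :=
          Cfsg.Agent.Lib.Helper51.normalizer_le_normalizer_thompsonAOf _
            (Subgroup.le_normalizer hxP)
        exact Cfsg.Agent.S2799.result P (ι ⟨c, hc⟩) hxP (mem_center_map _ hxN hcomm)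
          (Or.inr (Or.inr hG)) g hg
      · exact Cfsg.Agent.Lib.Helper54.FusCenter.center_le_center hS Cfsg.Agent.Lib.Helper51.WJ hW2
          F hF N hN

end Cfsg.Agent.S5193
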