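import Cfsg.Statements.S5197
import Cfsg.Agent.Lib.Helper54.FusTransfer
import Cfsg.Agent.S1970

set_option autoImplicit false
universe u
open Cfsg

namespace Cfsg.Agent.S5197

open Cfsg.Agent.Lib.Helper33 in
/-- The local focal condition gives control of transfer in every finite group. -/
theorem grpCtl_of_local {p : ℕ} [Fact p.Prime] (W : ∀ (Q : Type u) [Group Q], Subgroup Q)
    (hW : Cfsg.IsCharPFunctor.{u} p W)
    (hT : ∀ (G : Type u) [Group G] [Finite G] (P : Sylow p G), Subgroup.centralizer ((Cfsg.pCore p G : Subgroup G) : Set G) ≤ Cfsg.pCore p G → Cfsg.pCore p G ⊓ commutator G = Cfsg.pCore p G ⊓ (commutator ↥(Subgroup.normalizer (((W ↥(P : Subgroup G)).map (P : Subgroup G).subtype : Subgroup G) : Set G))).map (Subgroup.normalizer (((W ↥(P : Subgroup G)).map (P : Subgroup G).subtype : Subgroup G) : Set G)).subtype) :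
    Cfsg.Agent.Lib.Helper54.FusGrpCtl.GrpCtl p W := by
  intro L _ _ P
  have h𝓦 : ∀ W' ∈ ({W} : Set (∀ (Q : Type u) [Group Q], Subgroup Q)),
      Cfsg.IsCharPFunctor.{u} p W' := by
    intro W' hW'
    rw [Set.mem_singleton_iff] at hW'
    rw [hW']; exact hW
  have hloc' : ∀ (X : Type u) [Group X] [Finite X], Sec L X →
      Subgroup.centralizer ((Cfsg.pCore p X : Subgroup X) : Set X) ≤ Cfsg.pCore p X →
      (∀ (Y : Type u) [Group Y] [Finite Y], Sec L Y →
        Nat.card Y < Nat.card X →
        Cfsg.FamilyControlsTransferIn p (indFam {W} Y) ⊤) →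
      Cfsg.FamilyControlsTransferIn p (indFam {W} X) ⊤ := by
    intro X _ _ hX hc ih
    refine Cfsg.Agent.S1970.aux W hW hX hc ih ?_
    intro T
    have h := hT X T hc
    rw [Subgroup.map_subtype_commutator] at h
    exact h
  have hfct := sec_master_T h𝓦 hloc' _ L rfl (Sec.refl L)
  have h1 := focLe_of_fct (indFam_conj h𝓦 L) hfct le_top P.isPGroup'
    (by rw [Subgroup.relIndex_top_right]; exact P.not_dvd_index)
  rw [commutator_def]
  refine h1.trans ?_
  unfold FocW indFam
  rw [Set.image_singleton, iSup_singleton, top_inf_eq]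
  exact inf_le_right

/-- Let p be a prime and W a positive characteristic p-functor: W assigns to every finite p-group Q (in a fixed universe) a subgroup W(Q), nontrivial when Q is, carried to W(R) by every isomorphism Q ≅ R. Suppose W satisfies the local condition: for every finite group G with Sylow p-subgroup P such that C_G(O_p(G)) ≤ O_p(G), one has O_p(G) ∩ [G, G] = O_p(G) ∩ [N, N] for N = N_G(W(P)). Then W controls transfer in every saturated fusion system F over a finite p-group S: the focal subgroup of F equals the focal subgroup of the normalizer fusion system of W(S) in F. -/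
theorem result {p : ℕ} [Fact p.Prime] (W : ∀ (Q : Type u) [Group Q], Subgroup Q) (hW1 : ∀ (Q : Type u) [Group Q] [Finite Q], IsPGroup p Q → Nontrivial Q → W Q ≠ ⊥) (hW2 : ∀ (Q R : Type u) [Group Q] [Group R] [Finite Q], IsPGroup p Q → ∀ φ : Q ≃* R, (W Q).map φ.toMonoidHom = W R) (hT : ∀ (G : Type u) [Group G] [Finite G] (P : Sylow p G), Subgroup.centralizer ((Cfsg.pCore p G : Subgroup G) : Set G) ≤ Cfsg.pCore p G → Cfsg.pCore p G ⊓ commutator G = Cfsg.pCore p G ⊓ (commutator ↥(Subgroup.normalizer (((W ↥(P : Subgroup G)).map (P : Subgroup G).subtype : Subgroup G) : Set G))).map (Subgroup.normalizer (((W ↥(P : Subgroup G)).map (P : Subgroup G).subtype : Subgroup G) : Set G)).subtype) {Ω : Type u} [Group Ω] {S : Subgroup Ω} [Finite S] (hS : IsPGroup p S) (F : Cfsg.FusionSystem S) (hF : F.IsSaturated p) (N : Cfsg.FusionSystem (Cfsg.FusionSystem.normalizerIn S ((W ↥S).map S.subtype))) (hN : F.IsNormalizerSystem ((W ↥S).map S.subtype) N) : N.focalSubgroup = F.focalSubgroup := by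
  have hG := grpCtl_of_local W ⟨hW1, hW2⟩ hT
  rw [Cfsg.Agent.Lib.Helper54.FusFoc.focal_eq_focN F _ N hN]
  apply le_antisymm
  · exact Cfsg.Agent.Lib.Helper54.FusFoc.focN_le_focal F _
  · exact Cfsg.Agent.Lib.Helper54.FusTransfer.transfer_main W hW1 hW2 hG _ Ω S hS rfl F hF

end Cfsg.Agent.S5197
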