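import Cfsg.Statements.S5204
import Cfsg.Agent.Lib.Helper88.GTMain

set_option autoImplicit false
open Cfsg

namespace Cfsg.Agent.S5204

/-- The Glauberman–Thompson normal p-complement criterion for fusion systems, p odd. Let F be a saturated fusion system over a finite p-group S with p odd, and let Z(J(S)) be the centre of the subgroup generated by the abelian subgroups of S of largest order. Then F is the inner fusion system of S if and only if the normalizer fusion system of Z(J(S)) in F is the inner fusion system of N_S(Z(J(S))) = S. -/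
theorem result {Ω : Type*} [Group Ω] {S : Subgroup Ω} [Finite S] (p : ℕ) [Fact p.Prime] (hS : IsPGroup p S) (F : Cfsg.FusionSystem S) (hF : F.IsSaturated p) (hp : p ≠ 2) : (∀ P : Subgroup Ω, F.Hom P = (Cfsg.innerFusionSystem S).Hom P) ↔ ∀ N : Cfsg.FusionSystem (Cfsg.FusionSystem.normalizerIn S (Cfsg.centerThompsonAOf S)), F.IsNormalizerSystem (Cfsg.centerThompsonAOf S) N → ∀ P : Subgroup Ω, N.Hom P = (Cfsg.innerFusionSystem (Cfsg.FusionSystem.normalizerIn S (Cfsg.centerThompsonAOf S))).Hom P := by
  constructor
  · intro hinner N hN P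
    have hSN : S ≤ Subgroup.normalizer (Cfsg.centerThompsonAOf S : Set Ω) :=
      Cfsg.Agent.Lib.Helper88.le_normalizer_centerThompsonAOf S
    ext φ
    constructor
    · intro hφ
      rw [hN P] at hφ
      obtain ⟨hφF, hPN, -, -⟩ := hφ
      rw [hinner P] at hφF
      obtain ⟨-, g, hg, hgφ⟩ := hφF
      exact ⟨hPN, g, ⟨hg, hSN hg⟩, hgφ⟩
    · rintro ⟨hPN, g, hg, hgφ⟩
      have h1 := N.conj_mem hPN hg
      have e : Cfsg.conjHom P g = φ := by
        ext x
        rw [hgφ x]
        rfl
      rw [← e]
      exact h1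
  · intro h
    have hyp := Cfsg.Agent.Lib.Helper88.hyp_zj_of_normalizer_inner hS F h
    have hfree := Cfsg.Agent.Lib.Helper88.pFree_of_hyp_zj hp hS F hF hyp
    exact Cfsg.Agent.Lib.Helper88.eq_inner_of_pFree hS F hF hfree

end Cfsg.Agent.S5204
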