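import Cfsg.Statements.S5206
import Cfsg.Agent.Lib.Helper88.QdGroupModel
import Cfsg.Agent.Lib.Helper88.ModelUnique
import Cfsg.Agent.Lib.Helper88.Centric
import Cfsg.Agent.Lib.Helper84.NormalizerSystem

set_option autoImplicit false
universe u
open Cfsg

namespace Cfsg.Agent.S5206

open Cfsg.FusionSystem Subgroup
open Cfsg.Agent.Lib.Helper85 (cj cj_apply cj_injective SylIn)
open Cfsg.Agent.Lib.Helper88

/-- Let p be an odd prime, G a finite group and P a Sylow p-subgroup of G. Then the fusion system of G on P is Qd(p)-free (Qd(p), the natural semidirect product of an elementary abelian group of order p² by SL₂(p), is not involved in any model of the normalizer system of a fully normalized centric subgroup) if and only if Qd(p) is not involved in G. -/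
theorem result {G : Type u} [Group G] [Finite G] {p : ℕ} [Fact p.Prime] (hp : p ≠ 2) (P : Sylow p G) : (Cfsg.groupFusionSystem (P : Subgroup G)).IsSectionFree p ↥(Cfsg.qd p) ↔ ¬ Cfsg.Involves ↥(Cfsg.qd p) G := by
  classical
  constructor
  · intro hfree hinv
    obtain ⟨R, R₀, b, c, v, w, hRp, hcfg⟩ := exists_cfg_of_involves hinv
    -- move `R` into `P`
    obtain ⟨g₀, -, hg₀⟩ := (Cfsg.Agent.Lib.Helper85.sylIn_top P).exists_conj_le le_top hRp
    have hcfg₁ := hcfg.map (cj g₀) (cj_injective g₀)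
    -- make it fully normalized
    obtain ⟨g₁, hg₁P, hg₁syl⟩ := Cfsg.Agent.Lib.Helper85.exists_conj_normalizer_sylIn P hg₀
    have hcfg₂ := hcfg₁.map (cj g₁) (cj_injective g₁)
    obtain ⟨R₂, hR₂⟩ : ∃ R₂ : Subgroup G, R₂ = (R.map (cj g₀)).map (cj g₁) := ⟨_, rfl⟩
    rw [← hR₂] at hg₁P hg₁syl hcfg₂
    obtain ⟨b', c', hcfg₃, hb'N, hc'N⟩ := hcfg₂.exists_normalizing P hg₁syl
    have hQcen := isCentric_sup_centralizerIn P hg₁P hg₁syl
    obtain ⟨Q, hQ⟩ : ∃ Q : Subgroup G, Q = R₂ ⊔ centralizerIn (P : Subgroup G) R₂ := ⟨_, rfl⟩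
    rw [← hQ] at hb'N hc'N hQcen
    have hR₂Q : R₂ ≤ Q := by rw [hQ]; exact le_sup_left
    have hQP : Q ≤ P := hQcen.1
    -- make `Q` fully normalized
    obtain ⟨g₂, hg₂P, hg₂syl⟩ := Cfsg.Agent.Lib.Helper85.exists_conj_normalizer_sylIn P hQP
    have hcfg₄ := hcfg₃.map (cj g₂) (cj_injective g₂)
    obtain ⟨Q', hQ'⟩ : ∃ Q' : Subgroup G, Q' = Q.map (cj g₂) := ⟨_, rfl⟩
    rw [← hQ'] at hg₂P hg₂syl
    have hconj : (groupFusionSystem (P : Subgroup G)).IsConj Q Q' :=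
      Cfsg.Agent.Lib.Helper85.isConj_groupFusionSystem_iff.mpr ⟨hQP, hg₂P, g₂, hQ'.symm⟩
    have hQ'cen : (groupFusionSystem (P : Subgroup G)).IsCentric Q' :=
      isCentric_of_isConj _ hQcen hconj
    have hQ'fn := isFullyNormalized_of_sylIn P hg₂P hg₂syl
    have hcen' : centralizerIn (P : Subgroup G) Q' ≤ Q' :=
      hQ'cen.2 Q' (Cfsg.Agent.Lib.Helper87.isConj_refl _ hg₂P)
    have hE := Cfsg.Agent.Lib.Helper84.normalizerSystem_spec
      (groupFusionSystem (P : Subgroup G)) Q' hg₂P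
    obtain ⟨K, hKn, hKord, hmodel⟩ := exists_isModel_normalizer P hg₂P hg₂syl hcen' _ hE
    refine hfree Q' hQ'fn hQ'cen _ hE _ _ hmodel ?_
    -- the configuration lies in `N_G(Q')`
    have hNmap : normalizer (Q' : Set G) = (normalizer (Q : Set G)).map (cj g₂) := by
      rw [hQ']
      exact Cfsg.Agent.Lib.Helper85.normalizer_map_cj Q g₂
    have hbN : cj g₂ b' ∈ normalizer (Q' : Set G) := by
      rw [hNmap]
      exact ⟨b', hb'N, rfl⟩
    have hcN : cj g₂ c' ∈ normalizer (Q' : Set G) := by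
      rw [hNmap]
      exact ⟨c', hc'N, rfl⟩
    have hR₃Q' : R₂.map (cj g₂) ≤ Q' := by
      rw [hQ']
      exact Subgroup.map_mono hR₂Q
    have hvN : cj g₂ (cj g₁ (cj g₀ v)) ∈ normalizer (Q' : Set G) :=
      le_normalizer (hR₃Q' hcfg₄.vR)
    have hwN : cj g₂ (cj g₁ (cj g₀ w)) ∈ normalizer (Q' : Set G) :=
      le_normalizer (hR₃Q' hcfg₄.wR)
    have hcfg₅ := hcfg₄.comap_subtype (normalizer (Q' : Set G)) hbN hcN hvN hwN
    have hR₃p : IsPGroup p (R₂.map (cj g₂) : Subgroup G) := P.isPGroup'.to_le (hR₃Q'.trans hg₂P)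
    have hcfg₆ := hcfg₅.map' (QuotientGroup.mk' K) (by
      rintro ⟨r, hr, hrv⟩
      have h1 : r⁻¹ * ⟨cj g₂ (cj g₁ (cj g₀ v)), hvN⟩ ∈ K := QuotientGroup.eq.mp hrv
      have h2 := hKord _ h1
      rw [← orderOf_injective (normalizer (Q' : Set G)).subtype (Subgroup.subtype_injective _)] at h2
      have hrR₀ : (r : G) ∈ ((R₀.map (cj g₀)).map (cj g₁)).map (cj g₂) := mem_subgroupOf.mp hr
      have hrR : (r : G) ∈ R₂.map (cj g₂) := hcfg₄.le hrR₀
      have h3 : (r : G)⁻¹ * cj g₂ (cj g₁ (cj g₀ v)) ∈ R₂.map (cj g₂) :=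
        Subgroup.mul_mem _ (Subgroup.inv_mem _ hrR) hcfg₄.vR
      obtain ⟨a, ha⟩ := hR₃p ⟨_, h3⟩
      have ha' : ((r : G)⁻¹ * cj g₂ (cj g₁ (cj g₀ v))) ^ p ^ a = 1 :=
        congrArg (fun y : ↥(R₂.map (cj g₂)) => (y : G)) ha
      have h4 : orderOf ((r : G)⁻¹ * cj g₂ (cj g₁ (cj g₀ v))) ∣
          Nat.gcd (orderOf ((r : G)⁻¹ * cj g₂ (cj g₁ (cj g₀ v)))) (p ^ a) :=
        Nat.dvd_gcd dvd_rfl (orderOf_dvd_of_pow_eq_one ha')
      have h2' : (orderOf ((r : G)⁻¹ * cj g₂ (cj g₁ (cj g₀ v)))).Coprime p := h2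
      rw [Nat.Coprime.pow_right a h2'] at h4
      have h5 : (r : G)⁻¹ * cj g₂ (cj g₁ (cj g₀ v)) = 1 := orderOf_eq_one_iff.mp (Nat.dvd_one.mp h4)
      have h6 : cj g₂ (cj g₁ (cj g₀ v)) = (r : G) := (inv_mul_eq_one.mp h5).symm
      exact hcfg₄.v1 (h6 ▸ hrR₀))
    exact hcfg₆.involves hp
  · intro hninv Q hfn hcen E hE L _ ι hL hinvL
    have hsyl := sylIn_of_isFullyNormalized P hfn
    have hQP : Q ≤ P := hfn.1
    have hcen' : centralizerIn (P : Subgroup G) Q ≤ Q :=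
      hcen.2 Q (Cfsg.Agent.Lib.Helper87.isConj_refl _ hQP)
    obtain ⟨K, hKn, hKord, hmodel⟩ := exists_isModel_normalizer P hQP hsyl hcen' E hE
    have hSp : IsPGroup p ↥(normalizerIn (P : Subgroup G) Q) := P.isPGroup'.to_le inf_le_left
    obtain ⟨φ, -, hφinj⟩ := exists_model_hom hSp E ι _ hL hmodel
    apply hninv
    apply involves_of_spans
    have h1 : Spans ↥(qd p) L := spans_of_involves hinvL
    have h2 := h1.of_injective φ hφinj
    have h3 := h2.of_surjective (QuotientGroup.mk' K) (QuotientGroup.mk'_surjective K)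
    exact h3.of_injective (normalizer (Q : Set G)).subtype (Subgroup.subtype_injective _)

end Cfsg.Agent.S5206
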