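import Cfsg.Statements.S5221
import Cfsg.Agent.Lib.Helper88.ThompsonMain

set_option autoImplicit false
open Cfsg

namespace Cfsg.Agent.S5221

/-- Let F be a sparse fusion system over a finite p-group S: a saturated fusion system, not the inner fusion system of S, whose only saturated fusion systems over S contained in it are F itself and the inner one. If p is odd, or F is S₄-free (the symmetric group of degree 4 is not involved in any model of the normalizer system of a fully normalized F-centric subgroup), then F is constrained. -/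
theorem result {Ω : Type*} [Group Ω] {S : Subgroup Ω} [Finite S] (p : ℕ) [Fact p.Prime] (hS : IsPGroup p S) (F : Cfsg.FusionSystem S) (hF : F.IsSaturated p) (hsp : ¬ (∀ P : Subgroup Ω, F.Hom P = (Cfsg.innerFusionSystem S).Hom P) ∧ ∀ E : Cfsg.FusionSystem S, E.IsSaturated p → E.IsSubsystemOf F → (∀ P : Subgroup Ω, E.Hom P = F.Hom P) ∨ (∀ P : Subgroup Ω, E.Hom P = (Cfsg.innerFusionSystem S).Hom P)) (hp : p ≠ 2 ∨ F.IsSectionFree p (Equiv.Perm (Fin 4))) : F.IsConstrained p := by
  have hnot : ¬ Cfsg.Agent.Lib.Helper88.PFree F p := by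
    intro hfree
    exact hsp.1 (Cfsg.Agent.Lib.Helper88.eq_inner_of_pFree hS F hF hfree)
  obtain ⟨T, E, hT, hsub, hcon, -, hEnot⟩ :=
    Cfsg.Agent.Lib.Helper88.conclC_of_not_pFree_th hS F hF hp hnot
  subst hT
  rcases hsp.2 E hcon.1 (fun P => hsub P) with h | h
  · obtain ⟨hsat, Q, hQn, hQc⟩ := hcon
    refine ⟨hF, Q, ⟨hQn.1, fun P φ hφ => ?_⟩, ⟨hQc.1, fun R hR => ?_⟩⟩
    · rw [← h P] at hφ
      obtain ⟨ψ, hψ, h1, h2⟩ := hQn.2 P φ hφ
      exact ⟨ψ, (h _) ▸ hψ, h1, h2⟩
    · apply hQc.2 R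
      obtain ⟨χ, hχ, hr⟩ := hR
      exact ⟨χ, (h _).symm ▸ hχ, hr⟩
  · exact absurd (Cfsg.Agent.Lib.Helper88.pFree_of_eq_inner hS E h) hEnot

end Cfsg.Agent.S5221
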