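import Cfsg.Statements.S5222
import Cfsg.Agent.Lib.Helper68.AutCore
import Cfsg.Agent.Lib.Helper87.Lemma26
import Cfsg.Agent.Lib.Helper87.Inner

set_option autoImplicit false
set_option maxHeartbeats 1000000
open Cfsg

namespace Cfsg.Agent.S5222

open Cfsg.FusionSystem Cfsg.Agent.Lib.Helper87 Cfsg.Agent.Lib.Helper68
open scoped commutatorElement

variable {Ω : Type*} [Group Ω] {S : Subgroup Ω}

/-- Automorphisms of `S` in `F` are inner when the normalizer system of `S` is inner. -/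
theorem top_inner [Finite S] (F : FusionSystem S)
    (hN : ∀ N : FusionSystem (normalizerIn S S), F.IsNormalizerSystem S N → ∀ P : Subgroup Ω,
      N.Hom P = (innerFusionSystem (normalizerIn S S)).Hom P)
    (φ : S →* Ω) (hφ : φ ∈ F.Hom S) : ∃ s ∈ S, ∀ x : S, φ x = s * x * s⁻¹ := by
  have h := hN (normalizerSystem F S le_rfl) (isNormalizerSystem_normalizerSystem F S le_rfl) S
  have hmem : φ ∈ (normalizerSystem F S le_rfl).Hom S := by
    show φ ∈ F.normalizerHom S S
    have hSS : S ⊔ S ≤ S := sup_le le_rfl le_rfl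
    refine ⟨hφ, le_inf le_rfl Subgroup.le_normalizer, fun x =>
      ⟨hom_mem_S F hφ x, Subgroup.le_normalizer (hom_mem_S F hφ x)⟩,
      φ.comp (Subgroup.inclusion hSS), restrict_mem F hφ hSS, fun x => rfl, ?_⟩
    rw [map_subgroupOf_eq_iff]
    constructor
    · intro y _
      exact hom_mem_S F hφ _
    · intro q hq
      let f : S → S := fun x => ⟨φ x, hom_mem_S F hφ x⟩
      have hf : Function.Injective f := fun a b hab =>
        F.injective_of_mem hφ (congrArg Subtype.val hab)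
      obtain ⟨x, hx⟩ := Finite.surjective_of_injective hf ⟨q, hq⟩
      refine ⟨⟨x, (le_sup_left : S ≤ S ⊔ S) x.2⟩, x.2, ?_⟩
      exact congrArg Subtype.val hx
  rw [h] at hmem
  obtain ⟨_, g, hg, hgx⟩ := hmem
  exact ⟨g, hg.1, hgx⟩

theorem mem_iff_of_maps {R Q : Subgroup Ω} [Finite R] (α : R → R) (hα : Function.Injective α)
    (h : ∀ x : R, (x : Ω) ∈ Q → ((α x : R) : Ω) ∈ Q) :
    ∀ x : R, (x : Ω) ∈ Q ↔ ((α x : R) : Ω) ∈ Q := by
  intro x
  refine ⟨h x, fun hx => ?_⟩
  let f : {y : R // (y : Ω) ∈ Q} → {y : R // (y : Ω) ∈ Q} := fun y => ⟨α y.1, h y.1 y.2⟩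
  have hf : Function.Injective f := fun a b hab => Subtype.ext (hα (congrArg Subtype.val hab))
  obtain ⟨y, hy⟩ := Finite.surjective_of_injective hf ⟨α x, hx⟩
  have h1 : α y.1 = α x := congrArg Subtype.val hy
  rw [← hα h1]
  exact y.2

theorem surj_on_of_maps {R Q : Subgroup Ω} [Finite R] (hQR : Q ≤ R) (ψ : R →* Ω)
    (hinj : Function.Injective ψ) (h : ∀ x : R, (x : Ω) ∈ Q → ψ x ∈ Q) :
    ∀ q ∈ Q, ∃ x : R, (x : Ω) ∈ Q ∧ ψ x = q := by
  intro q hq
  haveI : Finite Q := Finite.of_injective _ (Subgroup.inclusion_injective hQR)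
  let f : Q → Q := fun y => ⟨ψ ⟨y, hQR y.2⟩, h _ y.2⟩
  have hf : Function.Injective f := fun a b hab => by
    have h1 : (⟨a, hQR a.2⟩ : R) = ⟨b, hQR b.2⟩ := hinj (congrArg Subtype.val hab)
    exact Subtype.ext (congrArg (fun z : R => (z : Ω)) h1)
  obtain ⟨y, hy⟩ := Finite.surjective_of_injective hf ⟨q, hq⟩
  exact ⟨⟨y, hQR y.2⟩, y.2, congrArg Subtype.val hy⟩

theorem le_normalizer_of_comm {S R Q : Subgroup Ω} (hQR : Q ≤ R) (hRS : R ≤ S)
    (hcomm : ∀ s ∈ S, ∀ t ∈ S, s * t * s⁻¹ * t⁻¹ ∈ Q) :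
    S ≤ Subgroup.normalizer (R : Set Ω) := by
  have key : ∀ s ∈ S, ∀ r ∈ R, s * r * s⁻¹ ∈ R := by
    intro s hs r hr
    have h1 := hQR (hcomm s hs r (hRS hr))
    have h2 := R.mul_mem h1 hr
    have e : s * r * s⁻¹ * r⁻¹ * r = s * r * s⁻¹ := by group
    rwa [e] at h2
  intro s hs
  rw [Subgroup.mem_normalizer_iff]
  intro r
  constructor
  · exact key s hs r
  · intro h
    have h2 := key s⁻¹ (S.inv_mem hs) _ h
    have e : s⁻¹ * (s * r * s⁻¹) * s⁻¹⁻¹ = r := by group
    rwa [e] at h2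

theorem fa_rec_of_normal [Finite S] {p : ℕ} [Fact p.Prime] (hS : IsPGroup p S)
    (F : FusionSystem S) (hF : F.IsSaturated p) {R : Subgroup Ω} (hRS : R ≤ S)
    (hSN : S ≤ Subgroup.normalizer (R : Set Ω)) :
    F.IsFullyAutomized p R ∧ F.IsReceptive R := by
  have hNR : normalizerIn S R = S := le_antisymm inf_le_left (le_inf le_rfl hSN)
  have hfn : F.IsFullyNormalized R := by
    refine ⟨hRS, fun R' _ => ?_⟩
    rw [hNR]
    exact Subgroup.card_le_of_le (normalizerIn_le S R')
  exact ⟨(fc_fa_of_fullyNormalized hS F hF hfn).2, receptive_of_fullyNormalized hS F hF hfn⟩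

/-- The main claim: every map of `F` between overgroups of `Q` that preserves `Q` is conjugation by
an element of `S`. -/
theorem claim [Finite S] {p : ℕ} [hp : Fact p.Prime] (hS : IsPGroup p S) (F : FusionSystem S)
    (hF : F.IsSaturated p)
    (htop : ∀ φ : S →* Ω, φ ∈ F.Hom S → ∃ s ∈ S, ∀ x : S, φ x = s * x * s⁻¹)
    (Q : Subgroup Ω) (hQS : Q ≤ S) (hcomm : ∀ s ∈ S, ∀ t ∈ S, s * t * s⁻¹ * t⁻¹ ∈ Q)
    (hQΦ : Q.subgroupOf S ≤ frattini S) :
    ∀ n : ℕ, ∀ R : Subgroup Ω, Q ≤ R → R ≤ S → Nat.card S - Nat.card R = n →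
      ∀ ψ : R →* Ω, ψ ∈ F.Hom R → (∀ x : R, (x : Ω) ∈ Q → ψ x ∈ Q) →
      ∃ s ∈ S, ∀ x : R, ψ x = s * x * s⁻¹ := by
  intro n
  induction n using Nat.strong_induction_on with
  | _ n ih =>
  intro R hQR hRS hn ψ hψ hψQ
  have hQN : S ≤ Subgroup.normalizer (Q : Set Ω) := le_normalizer_of_comm le_rfl hQS hcomm
  have hSN : S ≤ Subgroup.normalizer (R : Set Ω) := le_normalizer_of_comm hQR hRS hcomm
  haveI hfinR : Finite R := finite_of_le hRS
  by_cases hRtop : R = S
  · subst hRtop
    exact htop ψ hψ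
  · have hinj := F.injective_of_mem hψ
    -- Step (i): the range of ψ is R
    have hR'S : ψ.range ≤ S := range_le F hψ
    have hQR' : Q ≤ ψ.range := by
      intro q hq
      obtain ⟨x, _, hx⟩ := surj_on_of_maps hQR ψ hinj hψQ q hq
      exact ⟨x, hx⟩
    have hSN' : S ≤ Subgroup.normalizer (ψ.range : Set Ω) :=
      le_normalizer_of_comm hQR' hR'S hcomm
    obtain ⟨hfa', hrec'⟩ := fa_rec_of_normal hS F hF hR'S hSN'
    obtain ⟨β, hβ, ψ', hψ', hψ'e⟩ := exists_extension_normalizer hS F hψ rfl hfa' hrec'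
    have hNR : normalizerIn S R = S := le_antisymm inf_le_left (le_inf le_rfl hSN)
    obtain ⟨s, hs, hsx⟩ := htop _ (cast_mem F hNR hψ')
    have hβx : ∀ (x : R) (hx' : ψ x ∈ ψ.range), ((β ⟨ψ x, hx'⟩ : ψ.range) : Ω) = s * x * s⁻¹ := by
      intro x hx'
      have hxN : (x : Ω) ∈ normalizerIn S R := by rw [hNR]; exact hRS x.2
      rw [← hψ'e x hxN hx']
      exact hsx ⟨x, hRS x.2⟩
    have hrange : ψ.range = R := by
      apply Subgroup.eq_of_le_of_card_ge
      · intro y hy
        obtain ⟨y₀, hy₀⟩ := β.surjective ⟨y, hy⟩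
        obtain ⟨x, hx⟩ := y₀.2
        have hx' : ψ x ∈ ψ.range := ⟨x, rfl⟩
        have e1 : (⟨ψ x, hx'⟩ : ψ.range) = y₀ := Subtype.ext hx
        have h3 := hβx x hx'
        rw [e1, hy₀] at h3
        have h4 : y = s * x * s⁻¹ := h3
        rw [h4]
        exact (Subgroup.mem_normalizer_iff.mp (hSN hs) x).mp x.2
      · rw [← card_eq_of_isConj F ⟨ψ, hψ, rfl⟩]
    -- Step (ii): ψ as an automorphism of R
    obtain ⟨hfa, hrec⟩ := fa_rec_of_normal hS F hF hRS hSN
    let ψa : MulAut R := isoOfHom ψ hinj hrange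
    have hψa : ∀ x : R, ((ψa x : R) : Ω) = ψ x := fun x => rfl
    have hψaF : ψa ∈ F.autGroup R := by
      rw [mem_autGroup_iff F hRS]
      have e : R.subtype.comp ψa.toMonoidHom = ψ := by
        ext x
        rfl
      rw [e]
      exact hψ
    let Stab : Subgroup (MulAut R) :=
      { carrier := {α | ∀ x : R, (x : Ω) ∈ Q ↔ ((α x : R) : Ω) ∈ Q}
        one_mem' := fun x => Iff.rfl
        mul_mem' := by
          intro a b ha hb x
          exact (hb x).trans (ha (b x))
        inv_mem' := by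
          intro a ha x
          have h1 := ha (a⁻¹ x)
          rw [MulAut.apply_inv_self] at h1
          exact h1.symm }
    have hStab : ∀ α : MulAut R, α ∈ Stab ↔ ∀ x : R, (x : Ω) ∈ Q ↔ ((α x : R) : Ω) ∈ Q :=
      fun _ => Iff.rfl
    have hψaA : ψa ∈ F.autGroup R ⊓ Stab :=
      ⟨hψaF, (hStab ψa).mpr (mem_iff_of_maps ψa ψa.injective
        (fun x hx => by rw [hψa]; exact hψQ x hx))⟩
    haveI hfinAut : Finite (MulAut R) := Finite.of_injective (fun α : MulAut R => (α : R → R))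
      (fun α β h => MulEquiv.ext (fun x => congrFun h x))
    have hPA : autInducedBy S R ≤ F.autGroup R ⊓ Stab := by
      refine le_inf (autInducedBy_le_autGroup F hRS) (fun α hα => ?_)
      obtain ⟨g, hg, h⟩ := (mem_autInducedBy_iff S R α).mp hα
      rw [hStab]
      intro x
      rw [h x]
      exact Subgroup.mem_normalizer_iff.mp (hQN hg) x
    have hAP : F.autGroup R ⊓ Stab ≤ autInducedBy S R := by
      obtain ⟨s₁, hs₁, hs₁R⟩ := SetLike.exists_of_lt (lt_of_le_of_ne hRS hRtop)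
      refine aut_le_of_frobenius S R Q hS hRS hQR ⟨s₁, hs₁, hs₁R⟩ hSN hcomm hQΦ
        (F.autGroup R ⊓ Stab) (autInducedBy S R) (mem_autInducedBy_iff S R) hPA ?_ ?_ ?_
      · -- Sylow
        obtain ⟨_, R₀, hR₀⟩ := hfa
        have h1 : ¬ p ∣ (R₀ : Subgroup (F.autGroup R)).index := R₀.not_dvd_index
        rw [hR₀] at h1
        have h2 : (autInducedBy S R).relIndex (F.autGroup R ⊓ Stab) *
            (F.autGroup R ⊓ Stab).relIndex (F.autGroup R) =
            (autInducedBy S R).relIndex (F.autGroup R) :=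
          Subgroup.relIndex_mul_relIndex _ _ _ hPA inf_le_left
        intro hdvd
        apply h1
        show p ∣ (autInducedBy S R).relIndex (F.autGroup R)
        rw [← h2]
        exact Dvd.dvd.mul_right hdvd _
      · exact fun α hα x hx => ((hStab α).mp hα.2 x).mp hx
      · -- TI via receptivity and induction
        intro α hαA hαP γ g hg hγ hconj
        by_contra hgR
        have hαF : R.subtype.comp α.toMonoidHom ∈ F.Hom R :=
          (mem_autGroup_iff F hRS α).mp hαA.1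
        have hφx : ∀ x : R, (R.subtype.comp α.toMonoidHom) x = ((α x : R) : Ω) := fun x => rfl
        have hφr : (R.subtype.comp α.toMonoidHom).range = R := by
          apply le_antisymm
          · rintro _ ⟨x, rfl⟩
            exact (α x).2
          · intro y hy
            exact ⟨α.symm ⟨y, hy⟩, by rw [hφx]; simp⟩
        obtain ⟨h, hh, hhx⟩ := (mem_autInducedBy_iff S R _).mp hconj
        have hgE : g ∈ extender S R (R.subtype.comp α.toMonoidHom) := by
          refine Subgroup.subset_closure ⟨hg, hSN hg, h, hh, fun x hx => ?_⟩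
          have e1 : (⟨g * x * g⁻¹, hx⟩ : R) = γ x := Subtype.ext (hγ x).symm
          rw [e1, hφx, hφx]
          have h5 := hhx (α x)
          have e2 : (α * γ * α⁻¹) (α x) = α (γ x) := by
            simp [MulAut.mul_apply]
          rw [e2] at h5
          exact h5
        have hRE : R ≤ extender S R (R.subtype.comp α.toMonoidHom) := self_le_extender F hαF
        obtain ⟨χ, hχ, hχe⟩ := hrec.2 R _ hαF hφr
        have hES : extender S R (R.subtype.comp α.toMonoidHom) ≤ S := hom_le F hχ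
        haveI : Finite (extender S R (R.subtype.comp α.toMonoidHom)) := finite_of_le hES
        have hlt : Nat.card R < Nat.card (extender S R (R.subtype.comp α.toMonoidHom)) := by
          by_contra hcon
          have h6 := Subgroup.eq_of_le_of_card_ge hRE (not_lt.mp hcon)
          exact hgR (h6 ▸ hgE)
        have hleS : Nat.card (extender S R (R.subtype.comp α.toMonoidHom)) ≤ Nat.card S :=
          Subgroup.card_le_of_le hES
        have hm : Nat.card S - Nat.card (extender S R (R.subtype.comp α.toMonoidHom)) < n := by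
          rw [← hn]
          omega
        have hχQ : ∀ x : extender S R (R.subtype.comp α.toMonoidHom), (x : Ω) ∈ Q → χ x ∈ Q := by
          intro x hx
          have hxR : (x : Ω) ∈ R := hQR hx
          have h7 := hχe x hxR x.2
          rw [h7, hφx]
          exact ((hStab α).mp hαA.2 ⟨x, hxR⟩).mp hx
        obtain ⟨s, hs, hsx⟩ := ih _ hm _ (hQR.trans hRE) hES rfl χ hχ hχQ
        apply hαP
        rw [mem_autInducedBy_iff]
        refine ⟨s, hs, fun x => ?_⟩
        rw [← hφx, ← hχe x x.2 (hRE x.2)]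
        exact hsx ⟨x, hRE x.2⟩
    obtain ⟨g, hg, hgx⟩ := (mem_autInducedBy_iff S R ψa).mp (hAP hψaA)
    exact ⟨g, hg, fun x => (hψa x).symm.trans (hgx x)⟩

/-- Let F be a saturated fusion system over a finite p-group S whose normalizer fusion system of S is the inner fusion system of S (Aut_F(S) is a p-group). Then for every subgroup Q of S with [S, S] ≤ Q ≤ Φ(S), the normalizer fusion system of Q in F is the inner fusion system of N_S(Q) = S. -/
theorem result {Ω : Type*} [Group Ω] {S : Subgroup Ω} [Finite S] (p : ℕ) [Fact p.Prime] (hS : IsPGroup p S) (F : Cfsg.FusionSystem S) (hF : F.IsSaturated p) (hN : ∀ N : Cfsg.FusionSystem (Cfsg.FusionSystem.normalizerIn S S), F.IsNormalizerSystem S N → ∀ P : Subgroup Ω, N.Hom P = (Cfsg.innerFusionSystem (Cfsg.FusionSystem.normalizerIn S S)).Hom P) (Q : Subgroup Ω) (h1 : (commutator ↥S).map S.subtype ≤ Q) (h2 : Q ≤ (frattini ↥S).map S.subtype) : ∀ N : Cfsg.FusionSystem (Cfsg.FusionSystem.normalizerIn S Q), F.IsNormalizerSystem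 Q N → ∀ P : Subgroup Ω, N.Hom P = (Cfsg.innerFusionSystem (Cfsg.FusionSystem.normalizerIn S Q)).Hom P := by
  intro N hNs P
  have hQS : Q ≤ S := h2.trans (Subgroup.map_subtype_le _)
  have hcomm : ∀ s ∈ S, ∀ t ∈ S, s * t * s⁻¹ * t⁻¹ ∈ Q := by
    intro s hs t ht
    apply h1
    refine ⟨⁅(⟨s, hs⟩ : S), ⟨t, ht⟩⁆, ?_, rfl⟩
    exact Subgroup.commutator_mem_commutator (Subgroup.mem_top _) (Subgroup.mem_top _)
  have hQΦ : Q.subgroupOf S ≤ frattini S := by
    intro x hx
    obtain ⟨y, hy, hyx⟩ := h2 (Subgroup.mem_subgroupOf.mp hx)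
    have e : y = x := Subtype.ext hyx
    rwa [← e]
  have htop := top_inner F hN
  have hcl := claim hS F hF htop Q hQS hcomm hQΦ
  have hQN : S ≤ Subgroup.normalizer (Q : Set Ω) := le_normalizer_of_comm le_rfl hQS hcomm
  ext φ
  constructor
  · intro hφ0
    rw [hNs P] at hφ0
    obtain ⟨hφ, hPN, hφN, ψ, hψ, hext, hmap⟩ := hφ0
    have hRS : P ⊔ Q ≤ S := hom_le F hψ
    have hψQ : ∀ x : ↥(P ⊔ Q), (x : Ω) ∈ Q → ψ x ∈ Q := ((map_subgroupOf_eq_iff ψ).mp hmap).1
    obtain ⟨s, hs, hsx⟩ := hcl _ (P ⊔ Q) le_sup_right hRS rfl ψ hψ hψQ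
    refine ⟨hPN, s, ⟨hs, hQN hs⟩, fun x => ?_⟩
    rw [← hext x]
    exact hsx _
  · rintro ⟨hPN, g, hg, hgx⟩
    have e : φ = conjHom P g := by
      ext x
      exact hgx x
    rw [e]
    exact N.conj_mem hPN hg

end Cfsg.Agent.S5222
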