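import Cfsg.Statements.S5223
import Cfsg.Agent.Lib.Helper87.Inner

set_option autoImplicit false
open Cfsg

namespace Cfsg.Agent.S5223

open Cfsg.FusionSystem Cfsg.Agent.Lib.Helper87

/-- Let F be a saturated fusion system over a finite p-group S. Suppose there are subgroups Q₀ = S, Q₁, …, Qₙ = 1 (not required to be nested) such that for each i < n the focal subgroup of Qᵢ (generated by the elements x⁻¹φ(x), x ∈ Qᵢ, φ a map of F defined on the cyclic group generated by x) lies in Qᵢ₊₁. Then F is the inner fusion system of S. -/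
theorem result {Ω : Type*} [Group Ω] {S : Subgroup Ω} [Finite S] (p : ℕ) [Fact p.Prime] (hS : IsPGroup p S) (F : Cfsg.FusionSystem S) (hF : F.IsSaturated p) (n : ℕ) (Q : Fin (n + 1) → Subgroup Ω) (hQ0 : Q 0 = S) (hQn : Q (Fin.last n) = ⊥) (hstep : ∀ i : Fin n, Subgroup.closure {y : Ω | ∃ x ∈ Q i.castSucc, ∃ φ ∈ F.Hom (Subgroup.zpowers x), y = x⁻¹ * φ ⟨x, Subgroup.mem_zpowers x⟩} ≤ Q i.succ) : ∀ P : Subgroup Ω, F.Hom P = (Cfsg.innerFusionSystem S).Hom P := by
  apply eq_inner_of_autGroups_pGroups hS F hF
  intro P hP
  have hfinP : Finite P := finite_of_le hP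
  have hPp : IsPGroup p P := hS.to_le hP
  -- every p'-element of Aut_F(P) is trivial
  have key : ∀ (β : MulAut P), β ∈ F.autGroup P → ∀ m : ℕ, m.Coprime p → β ^ m = 1 → β = 1 := by
    intro β hβ m hm hβm
    have hβ' := (mem_autGroup_iff F hP β).mp hβ
    -- reverse induction along the chain
    have claim : ∀ (j : ℕ) (hj : j ≤ n), ∀ x : P, (x : Ω) ∈ Q ⟨n - j, by omega⟩ → β x = x := by
      intro j
      induction j with
      | zero =>
        intro hj x hx
        have e : (⟨n - 0, by omega⟩ : Fin (n + 1)) = Fin.last n := by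
          apply Fin.ext; simp
        rw [e, hQn, Subgroup.mem_bot] at hx
        have : x = 1 := Subtype.ext hx
        rw [this, map_one]
      | succ j ih =>
        intro hj x hx
        -- i = n - (j+1) < n
        let i : Fin n := ⟨n - (j + 1), by omega⟩
        have ei : (⟨n - (j + 1), by omega⟩ : Fin (n + 1)) = i.castSucc := rfl
        have ei' : (⟨n - j, by omega⟩ : Fin (n + 1)) = i.succ := by
          apply Fin.ext
          show n - j = n - (j + 1) + 1
          omega
        rw [ei] at hx
        -- y = x⁻¹ β x lies in Q (i+1) ∩ P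
        have hz : Subgroup.zpowers (x : Ω) ≤ P := (Subgroup.zpowers_le).mpr x.2
        have hφ := restrict_mem F hβ' hz
        have hy : (x : Ω)⁻¹ * ((β x : P) : Ω) ∈ Q i.succ := by
          apply hstep i
          apply Subgroup.subset_closure
          exact ⟨x, hx, _, hφ, rfl⟩
        set y : P := x⁻¹ * β x with hydef
        have hyQ : (y : Ω) ∈ Q ⟨n - j, by omega⟩ := by
          rw [ei']
          exact hy
        have hfix : β y = y := ih (by omega) y hyQ
        -- β^k x = x * y^k
        have hpow : ∀ k : ℕ, (β ^ k) x = x * y ^ k := by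
          intro k
          induction k with
          | zero => simp
          | succ k ihk =>
            rw [pow_succ', MulAut.mul_apply, ihk, map_mul, map_pow, hfix, pow_succ']
            have hbx : β x = x * y := by rw [hydef]; group
            rw [hbx, mul_assoc]
        have h1 := hpow m
        rw [hβm] at h1
        have hym : y ^ m = 1 := by
          have : x = x * y ^ m := h1
          exact (mul_eq_left.mp this.symm)
        obtain ⟨k, hk⟩ := hPp y
        have hg : y ^ (Nat.gcd m (p ^ k)) = 1 := pow_gcd_eq_one.mpr ⟨hym, hk⟩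
        have hcop : Nat.gcd m (p ^ k) = 1 := Nat.Coprime.pow_right k hm
        rw [hcop, pow_one] at hg
        have : x⁻¹ * β x = 1 := hg
        exact (inv_mul_eq_one.mp this).symm
    ext x
    have e0 : (⟨n - n, by omega⟩ : Fin (n + 1)) = 0 := by
      apply Fin.ext; simp
    have := claim n le_rfl x (by rw [e0, hQ0]; exact hP x.2)
    rw [this]
    rfl
  -- conclude: Aut_F(P) is a p-group
  rintro ⟨α, hα⟩
  have hfinA : Finite (MulAut P) := inferInstance
  have hpos : 0 < orderOf α := orderOf_pos α
  obtain ⟨a, m, hm, hord⟩ := Nat.exists_eq_pow_mul_and_not_dvd hpos.ne' p (Nat.Prime.ne_one Fact.out)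
  have hcop : m.Coprime p := by
    rw [Nat.coprime_comm]
    exact (Nat.Prime.coprime_iff_not_dvd Fact.out).mpr hm
  have h1 : (α ^ (p ^ a)) ^ m = 1 := by
    rw [← pow_mul, ← hord, pow_orderOf_eq_one]
  have h2 := key (α ^ (p ^ a)) ((F.autGroup P).pow_mem hα _) m hcop h1
  exact ⟨a, Subtype.ext h2⟩

end Cfsg.Agent.S5223
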