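import Cfsg.Statements.S5226
import Cfsg.Agent.Lib.Helper87.NormalCriterion
import Cfsg.Agent.Lib.Helper87.Chain

set_option autoImplicit false
open Cfsg

namespace Cfsg.Agent.S5226

open Cfsg.FusionSystem Cfsg.Agent.Lib.Helper87
open scoped commutatorElement

variable {Ω : Type*} [Group Ω] {S : Subgroup Ω}

theorem stronglyClosed_of_isNormal (F : Cfsg.FusionSystem S) {Q : Subgroup Ω} (hN : F.IsNormal Q) :
    F.StronglyClosed Q := by
  refine ⟨hN.1, fun R' hR' φ hφ x => ?_⟩
  obtain ⟨ψ, -, hψe, hψQ⟩ := hN.2 R' φ hφ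
  rw [map_subgroupOf_eq_iff] at hψQ
  rw [← hψe x]
  exact hψQ.1 _ (hR' x.2)

/-- The chain of the stabilizer argument on `R`. -/
def chainE (R Q : Subgroup Ω) (c : ℕ → Subgroup Ω) (j : ℕ) : ℕ → Subgroup R
  | 0 => ⊤
  | 1 => Q.subgroupOf R
  | (i + 2) => (c (j - i)).subgroupOf R

theorem backward [Finite S] (p : ℕ) [Fact p.Prime] (hS : IsPGroup p S) (F : Cfsg.FusionSystem S)
    (hF : F.IsSaturated p) (Q : Subgroup Ω) (hQsc : F.StronglyClosed Q) (n : ℕ)
    (C : Fin (n + 1) → Subgroup Ω) (hC0 : C 0 = ⊥) (hCn : C (Fin.last n) = Q) (hmono : Monotone C)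
    (hcomm : ∀ i : Fin n, ⁅C i.succ, Q⁆ ≤ C i.castSucc)
    (hwc : ∀ i : Fin n, F.WeaklyClosed (C i.castSucc)) : F.IsNormal Q := by
  have hQwc : F.WeaklyClosed Q := weaklyClosed_of_stronglyClosed F hQsc
  have hQS : Q ≤ S := hQsc.1
  have hSNQ : S ≤ Subgroup.normalizer (Q : Set Ω) := weaklyClosed_le_normalizer F hQwc
  let c : ℕ → Subgroup Ω := fun j => C ⟨min j n, by omega⟩
  have hc0 : c 0 = ⊥ := by
    show C ⟨min 0 n, _⟩ = ⊥
    have : (⟨min 0 n, by omega⟩ : Fin (n + 1)) = 0 := by apply Fin.ext; simp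
    rw [this, hC0]
  have hcge : ∀ j, n ≤ j → c j = Q := by
    intro j hj
    show C ⟨min j n, _⟩ = Q
    have : (⟨min j n, by omega⟩ : Fin (n + 1)) = Fin.last n := by
      apply Fin.ext; simp [hj]
    rw [this, hCn]
  have hcmono : Monotone c := by
    intro a b hab
    apply hmono
    show (⟨min a n, _⟩ : Fin (n + 1)) ≤ ⟨min b n, _⟩
    rw [Fin.mk_le_mk]
    exact min_le_min_right n hab
  have hcQ : ∀ j, c j ≤ Q := by
    intro j
    rw [← hcge (max j n) (le_max_right _ _)]
    exact hcmono (le_max_left _ _)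
  have hccomm : ∀ j, ⁅c (j + 1), Q⁆ ≤ c j := by
    intro j
    by_cases hj : j < n
    · have h1 := hcomm ⟨j, hj⟩
      have e1 : c (j + 1) = C (⟨j, hj⟩ : Fin n).succ := by
        show C ⟨min (j + 1) n, _⟩ = _
        congr 1
        apply Fin.ext
        simp; omega
      have e2 : c j = C (⟨j, hj⟩ : Fin n).castSucc := by
        show C ⟨min j n, _⟩ = _
        congr 1
        apply Fin.ext
        simp; omega
      rw [e1, e2]; exact h1
    · rw [hcge j (by omega), hcge (j + 1) (by omega)]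
      rw [Subgroup.commutator_le]
      intro a ha b hb
      rw [commutatorElement_def]
      exact Q.mul_mem (Q.mul_mem (Q.mul_mem ha hb) (Q.inv_mem ha)) (Q.inv_mem hb)
  have hcwc : ∀ j, F.WeaklyClosed (c j) := by
    intro j
    by_cases hj : j < n
    · have e2 : c j = C (⟨j, hj⟩ : Fin n).castSucc := by
        show C ⟨min j n, _⟩ = _
        congr 1
        apply Fin.ext
        simp; omega
      rw [e2]; exact hwc ⟨j, hj⟩
    · rw [hcge j (by omega)]; exact hQwc
  -- main claim
  have claim : ∀ j, ∀ R : Subgroup Ω, IsAlperin F p R → c j ≤ R := by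
    intro j
    induction j with
    | zero => intro R _; rw [hc0]; exact bot_le
    | succ j ih =>
      intro R hR
      have hRS : R ≤ S := hR.1.1
      have hcjR : c j ≤ R := ih R hR
      apply le_of_normalizer_inf_le hS hRS (hcwc (j + 1)).1
        (weaklyClosed_le_normalizer F (hcwc (j + 1)))
      rintro g ⟨hgc, hgN⟩
      have hgQ : g ∈ Q := hcQ (j + 1) hgc
      have hgS : g ∈ S := hQS hgQ
      have hα : conjAut R g hgN ∈ F.autGroup R :=
        autInducedBy_le_autGroup F hRS (conjAut_mem_autInducedBy hgS hgN)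
      -- the chain
      have hinv : ∀ γ ∈ F.autGroup R, ∀ i, ∀ x ∈ chainE R Q c j i, γ x ∈ chainE R Q c j i := by
        intro γ hγ i
        have hγ' := (mem_autGroup_iff F hRS γ).mp hγ
        match i with
        | 0 => intro x _; exact Subgroup.mem_top _
        | 1 =>
          intro x hx
          have hxQ : (x : Ω) ∈ Q := Subgroup.mem_subgroupOf.mp hx
          have hφ := restrict_mem F hγ' (inf_le_left : R ⊓ Q ≤ R)
          have := hQsc.2 (R ⊓ Q) inf_le_right _ hφ ⟨x, x.2, hxQ⟩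
          exact Subgroup.mem_subgroupOf.mpr this
        | (i + 2) =>
          intro x hx
          have hxc : (x : Ω) ∈ c (j - i) := Subgroup.mem_subgroupOf.mp hx
          have hle : c (j - i) ≤ R := (hcmono (Nat.sub_le j i)).trans hcjR
          have hφ := restrict_mem F hγ' hle
          have hrange := (hcwc (j - i)).2 _ hφ
          have : ((R.subtype.comp γ.toMonoidHom).comp (Subgroup.inclusion hle)) ⟨x, hxc⟩ ∈
              ((R.subtype.comp γ.toMonoidHom).comp (Subgroup.inclusion hle)).range := ⟨_, rfl⟩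
          rw [hrange] at this
          exact Subgroup.mem_subgroupOf.mpr this
      have hαC : ∀ i < j + 2, ∀ x ∈ chainE R Q c j i,
          x⁻¹ * conjAut R g hgN x ∈ chainE R Q c j (i + 1) := by
        intro i hi
        have hcoe : ∀ x : R, ((x⁻¹ * conjAut R g hgN x : R) : Ω) = ⁅(x : Ω)⁻¹, g⁆ := by
          intro x
          rw [commutatorElement_def]
          show (x : Ω)⁻¹ * (g * x * g⁻¹) = _
          group
        match i with
        | 0 =>
          intro x _
          apply Subgroup.mem_subgroupOf.mpr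
          rw [hcoe, commutatorElement_def]
          have h1 : (x : Ω)⁻¹ * g * ((x : Ω)⁻¹)⁻¹ ∈ Q :=
            (Subgroup.mem_normalizer_iff.mp (hSNQ (S.inv_mem (hRS x.2))) g).mp hgQ
          exact Q.mul_mem h1 (Q.inv_mem hgQ)
        | 1 =>
          intro x hx
          have hxQ : (x : Ω) ∈ Q := Subgroup.mem_subgroupOf.mp hx
          apply Subgroup.mem_subgroupOf.mpr
          rw [hcoe]
          show ⁅(x : Ω)⁻¹, g⁆ ∈ c (j - 0)
          rw [Nat.sub_zero]
          apply hccomm j
          rw [Subgroup.commutator_comm]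
          exact Subgroup.commutator_mem_commutator (Q.inv_mem hxQ) hgc
        | (i + 2) =>
          intro x hx
          have hxc : (x : Ω) ∈ c (j - i) := Subgroup.mem_subgroupOf.mp hx
          apply Subgroup.mem_subgroupOf.mpr
          rw [hcoe]
          show ⁅(x : Ω)⁻¹, g⁆ ∈ c (j - (i + 1))
          have hij : i < j := by omega
          have e : j - i = (j - (i + 1)) + 1 := by omega
          apply hccomm (j - (i + 1))
          rw [← e]
          exact Subgroup.commutator_mem_commutator ((c (j - i)).inv_mem hxc) hgQ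
      have hk : chainE R Q c j (j + 2) = ⊥ := by
        show (c (j - j)).subgroupOf R = ⊥
        rw [Nat.sub_self, hc0]
        exact Subgroup.bot_subgroupOf R
      have hinn := stabilizer_le_inn hS F hRS hR.2.2.2 (j + 2) (chainE R Q c j) rfl hk hinv hα hαC
      obtain ⟨r, hr⟩ := hinn
      -- r⁻¹ g centralizes R
      have hcen : (r : Ω)⁻¹ * g ∈ centralizerIn S R := by
        refine ⟨S.mul_mem (S.inv_mem (hRS r.2)) hgS, ?_⟩
        intro x hx
        have h1 : ((MulAut.conj r ⟨x, hx⟩ : R) : Ω) = ((conjAut R g hgN ⟨x, hx⟩ : R) : Ω) := by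
          rw [hr]
        have h2 : (r : Ω) * x * (r : Ω)⁻¹ = g * x * g⁻¹ := h1
        calc x * ((r : Ω)⁻¹ * g) = (r : Ω)⁻¹ * ((r : Ω) * x * (r : Ω)⁻¹) * g := by group
          _ = (r : Ω)⁻¹ * (g * x * g⁻¹) * g := by rw [h2]
          _ = (r : Ω)⁻¹ * g * x := by group
      have hcenR := hR.2.2.1.2 R (isConj_refl F hRS) hcen
      have : g = (r : Ω) * ((r : Ω)⁻¹ * g) := by group
      rw [this]
      exact R.mul_mem r.2 hcenR
  apply isNormal_of_weaklyClosed_of_le_alperin hS F hF hQwc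
  intro R hR
  rw [← hcge n le_rfl]
  exact claim n R hR

theorem forward [Finite S] (p : ℕ) [Fact p.Prime] (hS : IsPGroup p S) (F : Cfsg.FusionSystem S)
    (Q : Subgroup Ω) (hN : F.IsNormal Q) :
    ∃ (n : ℕ) (C : Fin (n + 1) → Subgroup Ω), C 0 = ⊥ ∧ C (Fin.last n) = Q ∧ Monotone C ∧
      (∀ i : Fin n, ⁅C i.succ, Q⁆ ≤ C i.castSucc) ∧ ∀ i : Fin n, F.WeaklyClosed (C i.castSucc) := by
  have hQS : Q ≤ S := hN.1
  have hsc := stronglyClosed_of_isNormal F hN
  have hfinQ : Finite Q := finite_of_le hQS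
  have hQp : IsPGroup p Q := hS.to_le hQS
  have hnil : Group.IsNilpotent Q := hQp.isNilpotent
  obtain ⟨n, hn⟩ := hnil.nilpotent
  refine ⟨n, fun i => (Subgroup.upperCentralSeries Q i).map Q.subtype, ?_, ?_, ?_, ?_, ?_⟩
  · simp
  · show (Subgroup.upperCentralSeries Q (Fin.last n : ℕ)).map Q.subtype = Q
    rw [Fin.val_last, hn, ← MonoidHom.range_eq_map, Subgroup.range_subtype]
  · intro a b hab
    exact Subgroup.map_mono (Subgroup.upperCentralSeries_mono Q hab)
  · intro i
    rw [Subgroup.commutator_le]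
    rintro _ ⟨z, hz, rfl⟩ b hb
    rw [Fin.val_succ] at hz
    have := Subgroup.mem_upperCentralSeries_succ_iff.mp hz ⟨b, hb⟩
    refine ⟨⁅z, ⟨b, hb⟩⁆, ?_, ?_⟩
    · rw [Fin.val_castSucc]; exact this
    · simp [commutatorElement_def]
  · intro i
    set Z := (Subgroup.upperCentralSeries Q ((i.castSucc : Fin (n + 1)) : ℕ)).map Q.subtype with hZ
    have hZQ : Z ≤ Q := by
      rintro _ ⟨z, -, rfl⟩
      exact z.2
    refine ⟨hZQ.trans hQS, fun φ hφ => ?_⟩
    have hfinZ : Finite Z := finite_of_le (hZQ.trans hQS)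
    apply Subgroup.eq_of_le_of_card_ge
    · obtain ⟨ψ, hψ, hψe, hψQ⟩ := hN.2 Z φ hφ
      rw [map_subgroupOf_eq_iff] at hψQ
      have hmaps : ∀ x : Q, (ψ.comp (Subgroup.inclusion (le_sup_right : Q ≤ Z ⊔ Q))) x ∈ Q :=
        fun x => hψQ.1 _ x.2
      let θh : Q →* Q := (ψ.comp (Subgroup.inclusion (le_sup_right : Q ≤ Z ⊔ Q))).codRestrict Q hmaps
      have hθinj : Function.Injective θh := by
        intro a b hab
        have h1 : ψ (Subgroup.inclusion le_sup_right a) = ψ (Subgroup.inclusion le_sup_right b) :=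
          congrArg Subtype.val hab
        have h2 := F.injective_of_mem hψ h1
        exact Subgroup.inclusion_injective _ h2
      have hθsurj : Function.Surjective θh := by
        rintro ⟨q, hq⟩
        obtain ⟨y, hy, hyq⟩ := hψQ.2 q hq
        refine ⟨⟨y, hy⟩, Subtype.ext ?_⟩
        show ψ (Subgroup.inclusion le_sup_right ⟨(y : Ω), hy⟩) = q
        rw [← hyq]
        congr 1
      let θ : Q ≃* Q := MulEquiv.ofBijective θh ⟨hθinj, hθsurj⟩
      have hchar : (Subgroup.upperCentralSeries Q ((i.castSucc : Fin (n + 1)) : ℕ)).map θ.toMonoidHom =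
          Subgroup.upperCentralSeries Q ((i.castSucc : Fin (n + 1)) : ℕ) :=
        Subgroup.characteristic_iff_map_eq.mp inferInstance θ
      rintro _ ⟨⟨_, z, hz, rfl⟩, rfl⟩
      have h1 : θ z ∈ Subgroup.upperCentralSeries Q ((i.castSucc : Fin (n + 1)) : ℕ) := by
        rw [← hchar]; exact ⟨z, hz, rfl⟩
      refine ⟨θ z, h1, ?_⟩
      show ψ (Subgroup.inclusion le_sup_right z) = φ ⟨Q.subtype z, _⟩
      rw [← hψe]
      congr 1
    · exact (card_eq_of_isConj F ⟨φ, hφ, rfl⟩).le

/-- Let F be a saturated fusion system over a finite p-group S and Q a subgroup of S. Then Q is normal in F (F equals the normalizer system of Q) if and only if Q is strongly closed in F and admits a central series 1 = Q₀ ≤ Q₁ ≤ ⋯ ≤ Qₙ = Q ([Qᵢ₊₁, Q] ≤ Qᵢ) all of whose proper terms are weakly closed in F. -/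
theorem result {Ω : Type*} [Group Ω] {S : Subgroup Ω} [Finite S] (p : ℕ) [Fact p.Prime] (hS : IsPGroup p S) (F : Cfsg.FusionSystem S) (hF : F.IsSaturated p) (Q : Subgroup Ω) : F.IsNormal Q ↔ F.StronglyClosed Q ∧ ∃ (n : ℕ) (C : Fin (n + 1) → Subgroup Ω), C 0 = ⊥ ∧ C (Fin.last n) = Q ∧ Monotone C ∧ (∀ i : Fin n, ⁅C i.succ, Q⁆ ≤ C i.castSucc) ∧ ∀ i : Fin n, F.WeaklyClosed (C i.castSucc) := by
  constructor
  · intro hN
    exact ⟨stronglyClosed_of_isNormal F hN, forward p hS F Q hN⟩
  · rintro ⟨hsc, n, C, hC0, hCn, hmono, hcomm, hwc⟩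
    exact backward p hS F hF Q hsc n C hC0 hCn hmono hcomm hwc

end Cfsg.Agent.S5226
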