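import Cfsg.Statements.S5233
import Cfsg.Agent.Lib.Helper29.GenExtraB
import Cfsg.Agent.Lib.Helper29.GenExtraMinus
import Cfsg.Agent.Lib.Helper63.PGroup
import Cfsg.Agent.Lib.Helper24.Omega1
import Cfsg.Agent.S5087
import Cfsg.Agent.S5080

set_option autoImplicit false
open Cfsg

namespace Cfsg.Agent.S5233

open Cfsg.FusionSystem Cfsg.Agent.Lib.Helper87 Cfsg.Agent.Lib.Helper29
  Cfsg.Agent.Lib.Helper29.GenExtraFus Cfsg.Agent.Lib.Helper29.GenExtraMinus

/-- the data attached to a strongly closed generalized extraspecial subgroup -/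
theorem pdata {Ω : Type*} [Group Ω] {S : Subgroup Ω} [Finite S] (p : ℕ) [Fact p.Prime]
    (hS : IsPGroup p S) (F : Cfsg.FusionSystem S) (P : Subgroup Ω) (hP : F.StronglyClosed P)
    (hge : frattini ↥P = commutator ↥P ∧ Nat.card ↥(commutator ↥P) = p) :
    PData p S P ((commutator ↥P).map P.subtype) := by
  have hPS : P ≤ S := hP.1
  have hfinP : Finite P := finite_of_le hPS
  have hPp : IsPGroup p P := hS.to_le hPS
  have hnorm : ∀ s ∈ S, ∀ x ∈ P, s * x * s⁻¹ ∈ P := fun s hs x hx =>
    hP.2 P le_rfl _ (F.conj_mem hPS hs) ⟨x, hx⟩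
  have hSN : S ≤ Subgroup.normalizer (P : Set Ω) := by
    intro s hs
    rw [Subgroup.mem_normalizer_iff]
    intro x
    constructor
    · exact hnorm s hs x
    · intro hx
      have := hnorm s⁻¹ (S.inv_mem hs) _ hx
      have e : s⁻¹ * (s * x * s⁻¹) * s⁻¹⁻¹ = x := by group
      rwa [e] at this
  have hZP : (commutator ↥P).map P.subtype ≤ P := by
    rintro _ ⟨c, -, rfl⟩
    exact c.2
  have hcard : Nat.card ((commutator ↥P).map P.subtype) = p := by
    rw [Subgroup.card_map_of_injective (Subgroup.subtype_injective P), hge.2]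
  -- normality in `S`
  have hconj : ∀ s ∈ S, ∀ z ∈ (commutator ↥P).map P.subtype,
      s * z * s⁻¹ ∈ (commutator ↥P).map P.subtype := by
    rintro s hs _ ⟨c, hc, rfl⟩
    have hchar : (commutator ↥P).Characteristic := inferInstance
    have h1 := (Subgroup.characteristic_iff_map_le.mp hchar) (conjAut P s (hSN hs))
    exact ⟨conjAut P s (hSN hs) c, h1 ⟨c, hc, rfl⟩, rfl⟩
  have hnormal : (((commutator ↥P).map P.subtype).subgroupOf S).Normal := by
    constructor
    intro n hn g
    rw [Subgroup.mem_subgroupOf] at hn ⊢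
    exact hconj g g.2 n hn
  have hcardS : Nat.card (((commutator ↥P).map P.subtype).subgroupOf S) = p := by
    rw [Nat.card_congr (Subgroup.subgroupOfEquivOfLe (hZP.trans hPS)).toEquiv, hcard]
  have hcenter := Cfsg.Agent.Lib.Helper63.normal_card_prime_le_center hS
    (((commutator ↥P).map P.subtype).subgroupOf S) hcardS
  refine ⟨hPS, hnorm, hZP, hcard, ?_, ?_, ?_⟩
  · intro x hx y hy
    exact ⟨cm (⟨x, hx⟩ : P) ⟨y, hy⟩, cm_mem_commutator _ _, rfl⟩
  · intro x hx
    refine ⟨(⟨x, hx⟩ : P) ^ p, ?_, rfl⟩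
    rw [← hge.1]
    exact Cfsg.Agent.Lib.Helper24.pow_mem_frattini_of_isPGroup hPp _
  · intro z hz s hs
    have h1 : (⟨z, hZP.trans hPS hz⟩ : S) ∈ Subgroup.center S :=
      hcenter (Subgroup.mem_subgroupOf.mpr hz)
    have h2 := Subgroup.mem_center_iff.mp h1 ⟨s, hs⟩
    exact congrArg Subtype.val h2

/-- Let F be a saturated fusion system over a finite p-group S and P a subgroup of S strongly closed in F that is generalized extraspecial (its Frattini subgroup equals its commutator subgroup and has order p) and not isomorphic to E × A with A elementary abelian and E dihedral of order 8 (p = 2) or extraspecial of order p³ and exponent p (p odd). Then P is normal in F. -/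
theorem result {Ω : Type*} [Group Ω] {S : Subgroup Ω} [Finite S] (p : ℕ) [Fact p.Prime] (hS : IsPGroup p S) (F : Cfsg.FusionSystem S) (hF : F.IsSaturated p) (P : Subgroup Ω) (hP : F.StronglyClosed P) (hge : frattini ↥P = commutator ↥P ∧ Nat.card ↥(commutator ↥P) = p) (h2 : p = 2 → ¬ ∃ (A : Type) (_ : CommGroup A), (∀ a : A, a ^ 2 = 1) ∧ Nonempty (↥P ≃* DihedralGroup 4 × A)) (hodd : p ≠ 2 → ¬ ∃ (E : Type) (_ : Group E) (A : Type) (_ : CommGroup A), Cfsg.IsExtraspecial p E ∧ Nat.card E = p ^ 3 ∧ Monoid.exponent E = p ∧ (∀ a : A, a ^ p = 1) ∧ Nonempty (↥P ≃* E × A)) : F.IsNormal P := by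
  have hPS : P ≤ S := hP.1
  have hfinP : Finite P := finite_of_le hPS
  have hPp : IsPGroup p P := hS.to_le hPS
  have d := pdata p hS F P hP hge
  have hle : commutator ↥P ≤ Subgroup.center ↥P :=
    Cfsg.Agent.Lib.Helper63.normal_card_prime_le_center hPp (commutator ↥P) hge.2
  have hpowP : ∀ x : ↥P, x ^ p ∈ commutator ↥P := by
    intro x
    rw [← hge.1]
    exact Cfsg.Agent.Lib.Helper24.pow_mem_frattini_of_isPGroup hPp x
  rw [Cfsg.Agent.S5087.result p hS F hF P]
  intro R hR
  have hRS : R ≤ S := by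
    rcases hR with rfl | h
    · exact le_rfl
    · exact h.1.1
  have hPR : P ≤ R := by
    rcases hR with rfl | hess
    · exact hPS
    · by_contra hPR
      have hrad := Cfsg.Agent.S5080.result p hS F hF R hess
      have hcen : centralizerIn S R ≤ R := hess.1.2 R (isConj_refl F hRS)
      have hfn := hess.2.1
      obtain ⟨z₁, hz₁P, hz₁R, hz₁c, ⟨x₀, hx₀P, hx₀⟩, habel, hexpo⟩ :=
        exists_elt hS F hF hP d hRS hrad hcen hPR
      have hcomm_iff : ∀ a : ↥P, cm a (⟨z₁, hz₁P⟩ : P) = 1 → (a : Ω) * z₁ = z₁ * (a : Ω) :=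
        fun a ha => congrArg Subtype.val ((cm_eq_one_iff _ _).1 ha)
      have hcore : GenExtra.Core p ↥P ⟨z₁, hz₁P⟩ :=
        { hle := hle
          card := hge.2
          pow := hpowP
          nc := ⟨⟨x₀, hx₀P⟩, fun h => hx₀ (hcomm_iff _ h)⟩
          abel := fun a b ha hb =>
            Subtype.ext (habel a a.2 b b.2 (hcomm_iff a ha) (hcomm_iff b hb))
          expo := fun a ha => Subtype.ext (hexpo a a.2 (hcomm_iff a ha)) }
      by_cases hp2 : p = 2
      · subst hp2
        exact h2 rfl hcore.case_two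
      · by_cases hexp : ∀ x : ↥P, x ^ p = 1
        · exact hodd hp2 (hcore.case_odd hexp)
        · push Not at hexp
          obtain ⟨u₀, hu₀⟩ := hexp
          obtain ⟨hC1, hC2⟩ := hcore.minus_facts hp2 hu₀
          apply minus_contra hS F hF hP d hp2 hRS hrad hcen hfn hPR
          · intro x hx hxp q hq hqR
            have h1 : cm (⟨x, hx⟩ : P) ⟨z₁, hz₁P⟩ = 1 := hC1 ⟨x, hx⟩ (Subtype.ext hxp)
            exact habel x hx q hq (hcomm_iff _ h1) (hz₁c q hqR)
          · intro q hq hqR
            exact hexpo q hq (hz₁c q hqR)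
          · intro b hb u hu hbp
            have := hC2 ⟨b, hb⟩ ⟨u, hu⟩ (Subtype.ext hbp)
            exact congrArg Subtype.val this
  refine ⟨hPR, fun α hα => ?_⟩
  apply le_antisymm
  · rintro _ ⟨x, hx, rfl⟩
    exact aut_mem_subgroupOf F hP hRS hα x hx
  · intro x hx
    exact ⟨α⁻¹ x, aut_mem_subgroupOf F hP hRS ((F.autGroup R).inv_mem hα) x hx,
      MulAut.apply_inv_self _ _ _⟩

end Cfsg.Agent.S5233
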