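import Cfsg.Statements.S5235
import Cfsg.Agent.Lib.Helper73.MetaFusC
import Cfsg.Agent.Lib.Helper87.AGNormal

set_option autoImplicit false
open Cfsg

namespace Cfsg.Agent.S5235

open Cfsg.Agent.Lib.Helper73.MetaFus Cfsg.Agent.Lib.Helper73 Cfsg.Agent.Lib.Helper87 Cfsg.FusionSystem

/-- Let F be a saturated fusion system over a finite 2-group S (p = 2) and P a metacyclic subgroup of S strongly closed in F that is not dihedral, not semidihedral and not generalized quaternion (here the group of order 2, the Klein four-group and the cyclic group of order 4 also count as excluded). Then P is normal in F. -/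
theorem result {Ω : Type*} [Group Ω] {S : Subgroup Ω} [Finite S] (p : ℕ) [Fact p.Prime] (hS : IsPGroup p S) (F : Cfsg.FusionSystem S) (hF : F.IsSaturated p) (P : Subgroup Ω) (hP : F.StronglyClosed P) (hp : p = 2) (hm : Cfsg.IsMetacyclic ↥P) (hd : ¬ ∃ m : ℕ, Nonempty (↥P ≃* DihedralGroup m)) (hq : ¬ ∃ m : ℕ, Nonempty (↥P ≃* QuaternionGroup m)) (hsd : ¬ Cfsg.IsQuasiDihedral ↥P) : F.IsNormal P := by
  subst hp
  have hPS : P ≤ S := hP.1
  haveI : Finite ↥P := finite_of_le hPS
  have hPp : IsPGroup 2 ↥P := hS.to_le hPS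
  have hPn : S ≤ Subgroup.normalizer (P : Set Ω) := by
    intro s hs
    apply Cfsg.Agent.Lib.Helper88.mem_normalizer_of_conj_mem_finite
    intro q hq
    exact hP.2 P le_rfl (Cfsg.conjHom P s) (F.conj_mem hPS hs) ⟨q, hq⟩
  have hinvP : ∀ R : Subgroup Ω, R ≤ S → ∀ α ∈ F.autGroup R, ∀ y : R, (y : Ω) ∈ P →
      ((α y : R) : Ω) ∈ P := by
    intro R hRS α hα y hy
    have hφ := (mem_autGroup_iff F hRS α).1 hα
    have hres := restrict_mem F hφ (inf_le_right : P ⊓ R ≤ R)
    exact hP.2 (P ⊓ R) inf_le_left _ hres ⟨y, ⟨hy, y.2⟩⟩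
  apply isNormal_of_AG_invariant hS F hF
  · intro E hE
    rcases hE with rfl | hess
    · exact hPS
    · by_contra hPR
      obtain ⟨hcen, hfn, hN, M, hM⟩ := hess
      have hES : E ≤ S := hfn.1
      haveI : Finite ↥E := finite_of_le hES
      obtain ⟨Q, hQdef⟩ : ∃ Q : Subgroup Ω, Q = P ⊓ E := ⟨_, rfl⟩
      have hQE : Q ≤ E := hQdef ▸ inf_le_right
      have hQP : Q ≤ P := hQdef ▸ inf_le_left
      have hQmem : ∀ x : Ω, x ∈ Q ↔ x ∈ P ∧ x ∈ E := by
        intro x; rw [hQdef]; exact Subgroup.mem_inf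
      haveI : Finite ↥Q := finite_of_le (hQE.trans hES)
      have hQp : IsPGroup 2 ↥Q := hS.to_le (hQE.trans hES)
      have hinv : ∀ α ∈ F.autGroup E, ∀ x : ↥E, (x : Ω) ∈ Q → ((α x : ↥E) : Ω) ∈ Q :=
        fun α hα x hx => (hQmem _).2 ⟨hinvP E hES α hα x ((hQmem _).1 hx).1, (α x).2⟩
      haveI := hN
      haveI hKn := KQ_normal (Q := Q) (F.autGroup E) hinv
      have hT : ¬ P ⊓ Subgroup.normalizer (E : Set Ω) ≤ E :=
        fun h => hPR (le_of_normalizer_inf_le hS hES hPS hPn h)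
      have hcu : ∀ (u : Ω) (_ : u ∈ P) (huN : u ∈ Subgroup.normalizer (E : Set Ω)) (_ : u ∉ E),
          ∃ hc : conjAut E u huN ∈ F.autGroup E,
            (⟨_, hc⟩ : ↥(F.autGroup E)) ∈ KQ (Q := Q) (F.autGroup E) ∧
            (⟨_, hc⟩ : ↥(F.autGroup E)) ∉ (Cfsg.Inn ↥E).subgroupOf (F.autGroup E) := by
        intro u huP huN huE
        have hc : conjAut E u huN ∈ F.autGroup E :=
          autInducedBy_le_autGroup F hES (conjAut_mem_autInducedBy (hPS huP) huN)
        refine ⟨hc, ?_, ?_⟩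
        · intro x
          rw [hQmem]
          refine ⟨?_, (conjAut E u huN x * x⁻¹).2⟩
          show u * (x : Ω) * u⁻¹ * (x : Ω)⁻¹ ∈ P
          have h1 : u * (x : Ω) * u⁻¹ * (x : Ω)⁻¹ = u * ((x : Ω) * u⁻¹ * (x : Ω)⁻¹) := by group
          rw [h1]
          exact P.mul_mem huP
            ((Subgroup.mem_normalizer_iff.1 (hPn (hES x.2)) u⁻¹).1 (P.inv_mem huP))
        · intro h
          exact not_mem_inn_of_conj hES (hcen.2 E (isConj_refl F hES)) (hPS huP) huE
            (fun x => rfl) (Subgroup.mem_subgroupOf.1 h)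
      obtain ⟨u0, hu0T, hu0E⟩ := SetLike.not_le_iff_exists.1 hT
      obtain ⟨hc0, hc0K, hc0N⟩ := hcu u0 hu0T.1 hu0T.2 hu0E
      have hAQ : ¬ IsPGroup 2 (MulAut ↥Q) := by
        intro hAQ
        have hKp := isPGroup_KQ_of_aut hQE (F.autGroup E) hinv hQp hAQ
        exact hc0N (le_of_normal_pgroup_of_se _ M hM (KQ (Q := Q) (F.autGroup E)) hKp hc0K)
      obtain ⟨K₁, hK₁n, hK₁p, hK₁⟩ := KQ_frattini hQE (F.autGroup E) hinv hQp
      haveI := hK₁n
      have hK₁N := le_of_normal_pgroup_of_se ((Cfsg.Inn ↥E).subgroupOf (F.autGroup E)) M hM K₁ hK₁p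
      apply false_of_aut_not_two_group' hPp hm hd hq hsd (Q.subgroupOf P)
        ((P ⊓ Subgroup.normalizer (E : Set Ω)).subgroupOf P) ?_ ?_ ?_ ?_ ?_
      · intro x hx
        have hx' := (hQmem _).1 (Subgroup.mem_subgroupOf.1 hx)
        exact Subgroup.mem_subgroupOf.2 ⟨x.2, Subgroup.le_normalizer hx'.2⟩
      · intro t ht
        have ht' : (t : Ω) ∈ P ⊓ Subgroup.normalizer (E : Set Ω) := Subgroup.mem_subgroupOf.1 ht
        rw [Subgroup.mem_normalizer_iff]
        intro h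
        simp only [Subgroup.mem_subgroupOf, Subgroup.coe_mul, Subgroup.coe_inv, hQmem]
        constructor
        · rintro ⟨h1, h2⟩
          exact ⟨P.mul_mem (P.mul_mem t.2 h1) (P.inv_mem t.2),
            (Subgroup.mem_normalizer_iff.1 ht'.2 _).1 h2⟩
        · rintro ⟨_, h2⟩
          exact ⟨h.2, (Subgroup.mem_normalizer_iff.1 ht'.2 _).2 h2⟩
      · intro hle
        have h1 : (⟨u0, hu0T.1⟩ : ↥P) ∈
            (P ⊓ Subgroup.normalizer (E : Set Ω)).subgroupOf P := Subgroup.mem_subgroupOf.2 hu0T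
        exact hu0E ((hQmem _).1 (Subgroup.mem_subgroupOf.1 (hle h1))).2
      · intro hp2
        apply hAQ
        exact hp2.of_surjective (MulAut.congr (Subgroup.subgroupOfEquivOfLe hQP)).toMonoidHom
          (MulAut.congr (Subgroup.subgroupOfEquivOfLe hQP)).surjective
      · intro u hu huQ
        have hu' : (u : Ω) ∈ P ⊓ Subgroup.normalizer (E : Set Ω) := Subgroup.mem_subgroupOf.1 hu
        have huE : (u : Ω) ∉ E := fun h => huQ (Subgroup.mem_subgroupOf.2 ((hQmem _).2 ⟨u.2, h⟩))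
        obtain ⟨hc, hcK, hcN⟩ := hcu u u.2 hu'.2 huE
        by_contra hcon
        push Not at hcon
        apply hcN
        apply hK₁N
        apply hK₁ _ hcK
        intro y
        obtain ⟨f, hf, hff⟩ := hcon ⟨(y : Ω), hQP y.2⟩ (Subgroup.mem_subgroupOf.2 y.2)
        have hfQ : (f : Ω) ∈ Q := Subgroup.mem_subgroupOf.1 hf
        have h1 : resAutQ hQE (F.autGroup E) hinv ⟨_, hc⟩ y * y⁻¹ = (⟨(f : Ω), hfQ⟩ : ↥Q) ^ 2 := by
          apply Subtype.ext
          have h2 := congrArg (fun z : ↥P => (z : Ω)) hff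
          simp only [Subgroup.coe_mul, Subgroup.coe_inv] at h2
          rw [pow_two]
          simpa [resAutQ_coe, conjAut_coe] using h2
        rw [h1]
        exact Cfsg.Agent.Lib.Helper24.pow_mem_frattini_of_isPGroup hQp _
  · intro R hR α hα y hy
    exact hinvP R hR.le α hα y hy

end Cfsg.Agent.S5235
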