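import Cfsg.Statements.S5236
import Cfsg.Agent.Lib.Helper87.OmegaAut
import Cfsg.Agent.Lib.Helper87.NormalChain
import Cfsg.Agent.Lib.Helper87.ModExt

set_option autoImplicit false
open Cfsg

namespace Cfsg.Agent.S5236

open Cfsg.FusionSystem Cfsg.Agent.Lib.Helper87
open scoped commutatorElement

variable {Ω : Type*} [Group Ω] {S : Subgroup Ω}

theorem omegaOne_le (p : ℕ) (P : Subgroup Ω) : omegaOne p P ≤ P := by
  apply (Subgroup.closure_le _).mpr
  rintro x ⟨hx, -⟩
  exact hx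

/-- `Ω₁(P)` is strongly closed when `P` is normal in `F`. -/
theorem stronglyClosed_omegaOne (F : Cfsg.FusionSystem S) (p : ℕ) {P : Subgroup Ω}
    (hN : F.IsNormal P) : F.StronglyClosed (omegaOne p P) := by
  refine ⟨(omegaOne_le p P).trans hN.1, fun R' hR' φ hφ x => ?_⟩
  obtain ⟨ψ, hψ, hψe, hψP⟩ := hN.2 R' φ hφ
  rw [map_subgroupOf_eq_iff] at hψP
  have key : ∀ y ∈ omegaOne p P, ∀ hy : y ∈ R' ⊔ P, ψ ⟨y, hy⟩ ∈ omegaOne p P := by
    intro y hyW
    refine Subgroup.closure_induction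
      (p := fun y _ => ∀ hy : y ∈ R' ⊔ P, ψ ⟨y, hy⟩ ∈ omegaOne p P) ?_ ?_ ?_ ?_ hyW
    · rintro y ⟨hyP, hyp⟩ hy
      apply Subgroup.subset_closure
      refine ⟨hψP.1 ⟨y, hy⟩ hyP, ?_⟩
      rw [← map_pow]
      have : (⟨y, hy⟩ : ↥(R' ⊔ P)) ^ p = 1 := Subtype.ext (by simpa using hyp)
      rw [this, map_one]
    · intro hy
      have : (⟨1, hy⟩ : ↥(R' ⊔ P)) = 1 := rfl
      rw [this, map_one]
      exact Subgroup.one_mem _
    · intro a b ha hb iha ihb hy
      have haM : a ∈ R' ⊔ P := (le_sup_right : P ≤ R' ⊔ P) (omegaOne_le p P ha)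
      have hbM : b ∈ R' ⊔ P := (le_sup_right : P ≤ R' ⊔ P) (omegaOne_le p P hb)
      have : (⟨a * b, hy⟩ : ↥(R' ⊔ P)) = ⟨a, haM⟩ * ⟨b, hbM⟩ := rfl
      rw [this, map_mul]
      exact Subgroup.mul_mem _ (iha haM) (ihb hbM)
    · intro a ha iha hy
      have haM : a ∈ R' ⊔ P := (le_sup_right : P ≤ R' ⊔ P) (omegaOne_le p P ha)
      have : (⟨a⁻¹, hy⟩ : ↥(R' ⊔ P)) = ⟨a, haM⟩⁻¹ := rfl
      rw [this, map_inv]
      exact Subgroup.inv_mem _ (iha haM)
  rw [← hψe x]
  exact key x (hR' x.2) _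

theorem stronglyClosed_inf (F : Cfsg.FusionSystem S) {A B : Subgroup Ω} (hA : F.StronglyClosed A)
    (hB : F.StronglyClosed B) : F.StronglyClosed (A ⊓ B) :=
  ⟨inf_le_left.trans hA.1, fun R hR φ hφ x =>
    ⟨hA.2 R (hR.trans inf_le_left) φ hφ x, hB.2 R (hR.trans inf_le_right) φ hφ x⟩⟩

theorem forward [Finite S] (p : ℕ) [Fact p.Prime] (hS : IsPGroup p S) (F : Cfsg.FusionSystem S)
    (P : Subgroup Ω) (hN : F.IsNormal P) :
    ∃ (n : ℕ) (Q : Fin (n + 1) → Subgroup Ω), Q 0 = ⊥ ∧ Q (Fin.last n) = Cfsg.omegaOne p P ∧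
      Monotone Q ∧ (∀ i : Fin (n + 1), F.StronglyClosed (Q i)) ∧
      ∀ i : Fin n, ⁅Q i.succ, P⁆ ≤ Q i.castSucc := by
  obtain ⟨n, hn⟩ := ucs_eq_top hS hN.1
  have hW := stronglyClosed_omegaOne F p hN
  have hSN : S ≤ Subgroup.normalizer (omegaOne p P : Set Ω) :=
    weaklyClosed_le_normalizer F (weaklyClosed_of_stronglyClosed F hW)
  refine ⟨n, fun i => omegaOne p P ⊓ ucs P (i : ℕ), ?_, ?_, ?_, ?_, ?_⟩
  · show omegaOne p P ⊓ ucs P ((0 : Fin (n + 1)) : ℕ) = ⊥
    rw [Fin.val_zero, ucs_zero, inf_bot_eq]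
  · show omegaOne p P ⊓ ucs P ((Fin.last n : Fin (n + 1)) : ℕ) = omegaOne p P
    rw [Fin.val_last, hn]
    exact inf_eq_left.mpr (omegaOne_le p P)
  · intro a b hab
    exact inf_le_inf_left _ (ucs_mono P (Fin.le_iff_val_le_val.mp hab))
  · intro i
    exact stronglyClosed_inf F hW (ucs_stronglyClosed F hN _)
  · intro i
    show ⁅omegaOne p P ⊓ ucs P ((i.succ : Fin (n + 1)) : ℕ), P⁆ ≤
      omegaOne p P ⊓ ucs P ((Fin.castSucc i : Fin (n + 1)) : ℕ)
    rw [Fin.val_succ, Fin.val_castSucc]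
    apply le_inf
    · rw [Subgroup.commutator_le]
      intro a ha b hb
      have hbN := hSN (hN.1 hb)
      have h1 : b * a⁻¹ * b⁻¹ ∈ omegaOne p P :=
        (Subgroup.mem_normalizer_iff.mp hbN _).mp (Subgroup.inv_mem _ ha.1)
      have e : ⁅a, b⁆ = a * (b * a⁻¹ * b⁻¹) := by
        rw [commutatorElement_def]; group
      rw [e]
      exact Subgroup.mul_mem _ ha.1 h1
    · exact (Subgroup.commutator_mono inf_le_right le_rfl).trans (ucs_comm P i)

/-- The subgroup of `Aut_F(R)` stabilizing `R ≥ R ∩ P` and the chain `q` inside `R`. -/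
def stabK (F : Cfsg.FusionSystem S) (R P : Subgroup Ω) (n : ℕ) (q : ℕ → Subgroup Ω)
    (hP : F.StronglyClosed P) (hq : ∀ j, F.StronglyClosed (q j)) (hRS : R ≤ S) :
    Subgroup (MulAut R) where
  carrier := {β | β ∈ F.autGroup R ∧ (∀ x : R, (x : Ω)⁻¹ * (β x : R) ∈ P) ∧
    ∀ j < n, ∀ x : R, (x : Ω) ∈ q (j + 1) → (x : Ω)⁻¹ * (β x : R) ∈ q j}
  mul_mem' := by
    rintro a b ⟨ha, haP, haq⟩ ⟨hb, hbP, hbq⟩
    have hb' := (mem_autGroup_iff F hRS b).mp hb
    refine ⟨(F.autGroup R).mul_mem ha hb, fun x => ?_, fun j hj x hx => ?_⟩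
    · have e : (x : Ω)⁻¹ * ((a * b) x : R) =
          ((x : Ω)⁻¹ * (b x : R)) * (((b x : R) : Ω)⁻¹ * (a (b x) : R)) := by
        rw [mul_assoc, mul_inv_cancel_left]; rfl
      rw [e]
      exact P.mul_mem (hbP x) (haP (b x))
    · have e : (x : Ω)⁻¹ * ((a * b) x : R) =
          ((x : Ω)⁻¹ * (b x : R)) * (((b x : R) : Ω)⁻¹ * (a (b x) : R)) := by
        rw [mul_assoc, mul_inv_cancel_left]; rfl
      rw [e]
      have hbx : ((b x : R) : Ω) ∈ q (j + 1) := stronglyClosed_map_mem F (hq (j + 1)) hb' x hx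
      exact (q j).mul_mem (hbq j hj x hx) (haq j hj (b x) hbx)
  one_mem' := ⟨(F.autGroup R).one_mem, fun x => by simp, fun j _ x _ => by simp⟩
  inv_mem' := by
    rintro a ⟨ha, haP, haq⟩
    have hai := (F.autGroup R).inv_mem ha
    have hai' := (mem_autGroup_iff F hRS a⁻¹).mp hai
    refine ⟨hai, fun x => ?_, fun j hj x hx => ?_⟩
    · have h1 := haP (a⁻¹ x)
      have h2 : a (a⁻¹ x) = x := by simp
      rw [h2] at h1
      have := P.inv_mem h1
      rwa [mul_inv_rev, inv_inv] at this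
    · have hy : ((a⁻¹ x : R) : Ω) ∈ q (j + 1) := stronglyClosed_map_mem F (hq (j + 1)) hai' x hx
      have h1 := haq j hj (a⁻¹ x) hy
      have h2 : a (a⁻¹ x) = x := by simp
      rw [h2] at h1
      have := (q j).inv_mem h1
      rwa [mul_inv_rev, inv_inv] at this

theorem backward [Finite S] (p : ℕ) [Fact p.Prime] (hS : IsPGroup p S) (F : Cfsg.FusionSystem S)
    (hF : F.IsSaturated p) (hp : p ≠ 2) (P : Subgroup Ω) (hP : F.StronglyClosed P) (n : ℕ)
    (q : ℕ → Subgroup Ω) (h0 : q 0 = ⊥) (hlast : q n = Cfsg.omegaOne p P)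
    (hq : ∀ j, F.StronglyClosed (q j)) (hcomm : ∀ j < n, ⁅q (j + 1), P⁆ ≤ q j) :
    F.IsNormal P := by
  have hwc := weaklyClosed_of_stronglyClosed F hP
  have hPS : P ≤ S := hP.1
  have hSNP : S ≤ Subgroup.normalizer (P : Set Ω) := weaklyClosed_le_normalizer F hwc
  apply isNormal_of_weaklyClosed_of_le_alperin hS F hF hwc
  intro R hR
  have hRS : R ≤ S := hR.1.1
  have hfinR : Finite R := finite_of_le hRS
  have hRp : IsPGroup p R := hS.to_le hRS
  have hcen : centralizerIn S R ≤ R := hR.2.2.1.2 R (isConj_refl F hRS)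
  have hrad := hR.2.2.2
  -- the stabilizer subgroup consists of inner automorphisms
  have hKinn : stabK F R P n q hP hq hRS ≤ Inn R := by
    apply le_inn_of_normal_of_pprime_trivial F hRS hrad (stabK F R P n q hP hq hRS)
      (fun β hβ => hβ.1)
    · -- normalized by `Aut_F(R)`
      rintro γ hγ β ⟨hβ, hβP, hβq⟩
      have hγ' := (mem_autGroup_iff F hRS γ).mp hγ
      have hγi := (F.autGroup R).inv_mem hγ
      have hγi' := (mem_autGroup_iff F hRS γ⁻¹).mp hγi
      have e : ∀ x : R, (x : Ω)⁻¹ * ((γ * β * γ⁻¹) x : R) =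
          (γ ((γ⁻¹ x)⁻¹ * β (γ⁻¹ x)) : R) := by
        intro x
        rw [map_mul, map_inv]
        have h2 : γ (γ⁻¹ x) = x := by simp
        rw [h2]
        rfl
      refine ⟨(F.autGroup R).mul_mem ((F.autGroup R).mul_mem hγ hβ) hγi, fun x => ?_,
        fun j hj x hx => ?_⟩
      · rw [e]
        exact stronglyClosed_map_mem F hP hγ' _ (hβP (γ⁻¹ x))
      · rw [e]
        have hy : ((γ⁻¹ x : R) : Ω) ∈ q (j + 1) :=
          stronglyClosed_map_mem F (hq (j + 1)) hγi' x hx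
        exact stronglyClosed_map_mem F (hq j) hγ' _ (hβq j hj _ hy)
    · -- `p'`-elements are trivial
      rintro β ⟨hβ, hβP, hβq⟩ m hm hβm
      have hβ' := (mem_autGroup_iff F hRS β).mp hβ
      -- step 1: `β` fixes `Ω₁(P) ∩ R`
      have h1 : ∀ x : R, (x : Ω) ∈ omegaOne p P → β x = x := by
        have := fixes_of_chain hRp β m hm hβm n (fun i => (q (n - i)).subgroupOf R)
          (by
            show (q (n - n)).subgroupOf R = ⊥
            rw [Nat.sub_self, h0]; exact Subgroup.bot_subgroupOf R)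
          (by
            intro i hi x hx
            have hx' : (x : Ω) ∈ q (n - i) := Subgroup.mem_subgroupOf.mp hx
            apply Subgroup.mem_subgroupOf.mpr
            show ((x⁻¹ * β x : R) : Ω) ∈ q (n - (i + 1))
            have e : n - i = (n - (i + 1)) + 1 := by omega
            rw [e] at hx'
            exact hβq (n - (i + 1)) (by omega) x hx')
        intro x hx
        apply this x
        apply Subgroup.mem_subgroupOf.mpr
        show (x : Ω) ∈ q (n - 0)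
        rw [Nat.sub_zero, hlast]
        exact hx
      -- step 2: `β` fixes `P ∩ R`
      have h2 : ∀ x ∈ P.subgroupOf R, β x = x := by
        apply aut_fixes_of_fixes_omega hp hRp β m hm hβm (P.subgroupOf R)
        · intro x hx
          exact Subgroup.mem_subgroupOf.mpr
            (stronglyClosed_map_mem F hP hβ' x (Subgroup.mem_subgroupOf.mp hx))
        · intro x hx hxp
          apply h1 x
          apply Subgroup.subset_closure
          refine ⟨Subgroup.mem_subgroupOf.mp hx, ?_⟩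
          have := congrArg Subtype.val hxp
          simpa using this
      -- step 3: `β` is trivial
      have h3 := fixes_of_chain hRp β m hm hβm 2
        (fun i => match i with
          | 0 => ⊤
          | 1 => P.subgroupOf R
          | _ => ⊥) rfl
        (by
          intro i hi x hx
          match i, hi with
          | 0, _ =>
            exact Subgroup.mem_subgroupOf.mpr (hβP x)
          | 1, _ =>
            have : β x = x := h2 x hx
            show x⁻¹ * β x ∈ (⊥ : Subgroup R)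
            rw [this, inv_mul_cancel]
            exact Subgroup.one_mem _)
      ext x
      have := h3 x (Subgroup.mem_top x)
      rw [this]
      rfl
  -- conclude `P ≤ R`
  apply le_of_normalizer_inf_le hS hRS hPS hSNP
  rintro g ⟨hgP, hgN⟩
  have hgS : g ∈ S := hPS hgP
  have hcK : conjAut R g hgN ∈ stabK F R P n q hP hq hRS := by
    refine ⟨autInducedBy_le_autGroup F hRS (conjAut_mem_autInducedBy hgS hgN), fun x => ?_,
      fun j hj x hx => ?_⟩
    · show (x : Ω)⁻¹ * (g * x * g⁻¹) ∈ P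
      have h1 : (x : Ω)⁻¹ * g * ((x : Ω)⁻¹)⁻¹ ∈ P :=
        (Subgroup.mem_normalizer_iff.mp (hSNP (S.inv_mem (hRS x.2))) g).mp hgP
      have e : (x : Ω)⁻¹ * (g * x * g⁻¹) = ((x : Ω)⁻¹ * g * ((x : Ω)⁻¹)⁻¹) * g⁻¹ := by group
      rw [e]
      exact P.mul_mem h1 (P.inv_mem hgP)
    · show (x : Ω)⁻¹ * (g * x * g⁻¹) ∈ q j
      have e : (x : Ω)⁻¹ * (g * x * g⁻¹) = ⁅(x : Ω)⁻¹, g⁆ := by
        rw [commutatorElement_def]; group
      rw [e]
      exact hcomm j hj (Subgroup.commutator_mem_commutator ((q (j + 1)).inv_mem hx) hgP)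
  obtain ⟨r, hr⟩ := hKinn hcK
  have hcen' : (r : Ω)⁻¹ * g ∈ centralizerIn S R := by
    refine ⟨S.mul_mem (S.inv_mem (hRS r.2)) hgS, ?_⟩
    intro x hx
    have h1 : ((MulAut.conj r ⟨x, hx⟩ : R) : Ω) = ((conjAut R g hgN ⟨x, hx⟩ : R) : Ω) := by
      rw [hr]
    have h2 : (r : Ω) * x * (r : Ω)⁻¹ = g * x * g⁻¹ := h1
    calc x * ((r : Ω)⁻¹ * g) = (r : Ω)⁻¹ * ((r : Ω) * x * (r : Ω)⁻¹) * g := by group
      _ = (r : Ω)⁻¹ * (g * x * g⁻¹) * g := by rw [h2]
      _ = (r : Ω)⁻¹ * g * x := by group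
  have hcenR := hcen hcen'
  have : g = (r : Ω) * ((r : Ω)⁻¹ * g) := by group
  rw [this]
  exact R.mul_mem r.2 hcenR


/-- Let p be an odd prime, F a saturated fusion system over a finite p-group S and P a subgroup of S strongly closed in F. Then P is normal in F if and only if Ω₁(P) (the subgroup generated by the elements of order p of P) has a chain of subgroups 1 = Q₀ ≤ Q₁ ≤ ⋯ ≤ Qₙ = Ω₁(P), each strongly closed in F, with [Qᵢ₊₁, P] ≤ Qᵢ for all i. -/
theorem result {Ω : Type*} [Group Ω] {S : Subgroup Ω} [Finite S] (p : ℕ) [Fact p.Prime] (hS : IsPGroup p S) (F : Cfsg.FusionSystem S) (hF : F.IsSaturated p) (hp : p ≠ 2) (P : Subgroup Ω) (hP : F.StronglyClosed P) : F.IsNormal P ↔ ∃ (n : ℕ) (Q : Fin (n + 1) → Subgroup Ω), Q 0 = ⊥ ∧ Q (Fin.last n) = Cfsg.omegaOne p P ∧ Monotone Q ∧ (∀ i : Fin (n + 1), F.StronglyClosed (Q i)) ∧ ∀ i : Fin n, ⁅Q i.succ, P⁆ ≤ Q i.castSucc := by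
  constructor
  · intro hN
    exact forward p hS F P hN
  · rintro ⟨n, Q, h0, hlast, -, hsc, hcomm⟩
    refine backward p hS F hF hp P hP n (fun j => Q ⟨min j n, by omega⟩) ?_ ?_ ?_ ?_
    · show Q ⟨min 0 n, _⟩ = ⊥
      have : (⟨min 0 n, by omega⟩ : Fin (n + 1)) = 0 := by
        apply Fin.ext; simp
      rw [this, h0]
    · show Q ⟨min n n, _⟩ = omegaOne p P
      have : (⟨min n n, by omega⟩ : Fin (n + 1)) = Fin.last n := by
        apply Fin.ext; simp
      rw [this, hlast]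
    · intro j
      exact hsc _
    · intro j hj
      show ⁅Q ⟨min (j + 1) n, _⟩, P⁆ ≤ Q ⟨min j n, _⟩
      have e1 : (⟨min (j + 1) n, by omega⟩ : Fin (n + 1)) = (⟨j, hj⟩ : Fin n).succ := by
        apply Fin.ext
        show min (j + 1) n = j + 1
        omega
      have e2 : (⟨min j n, by omega⟩ : Fin (n + 1)) = Fin.castSucc (⟨j, hj⟩ : Fin n) := by
        apply Fin.ext
        show min j n = j
        omega
      rw [e1, e2]
      exact hcomm ⟨j, hj⟩


end Cfsg.Agent.S5236
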