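import Cfsg.Statements.S5244
import Cfsg.Agent.Lib.Helper87.IndexPGlobal2

set_option autoImplicit false
open Cfsg

namespace Cfsg.Agent.S5244

open Cfsg.FusionSystem Cfsg.Agent.Lib.Helper87

/-- Let p be an odd prime, S a finite nonabelian p-group with a unique abelian subgroup A of index p, and F a saturated fusion system over S with no nontrivial normal subgroup (O_p(F) = 1) in which A is not F-essential. Then some subgroup Z(S)⟨x⟩ with x ∈ S outside A is F-essential, the centre Z(S) is contained in the commutator subgroup of S, and S has maximal nilpotency class (if S has order pⁿ with n ≥ 3, the term of index n − 2 of its lower central series, counting S itself as the term of index 0, is nontrivial). -/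
theorem result {Ω : Type*} [Group Ω] {S : Subgroup Ω} [Finite S] (p : ℕ) [Fact p.Prime] (hS : IsPGroup p S) (F : Cfsg.FusionSystem S) (hF : F.IsSaturated p) (hp : p ≠ 2) (hna : ¬ IsMulCommutative ↥S) (A : Subgroup Ω) (hA : A ≤ S ∧ IsMulCommutative ↥A ∧ (A.subgroupOf S).index = p) (huniq : ∀ B : Subgroup Ω, B ≤ S → IsMulCommutative ↥B → (B.subgroupOf S).index = p → B = A) (hcore : F.core = ⊥) (hAe : ¬ F.IsEssential p A) : (∃ x ∈ S, x ∉ A ∧ F.IsEssential p ((S ⊓ Subgroup.centralizer (S : Set Ω)) ⊔ Subgroup.zpowers x)) ∧ (S ⊓ Subgroup.centralizer (S : Set Ω)) ≤ (commutator ↥S).map S.subtype ∧ ∀ n : ℕ, Nat.card S = p ^ n → 3 ≤ n → Subgroup.lowerCentralSeries S (n - 2) ≠ ⊥ := by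
  have hpP : p.Prime := Fact.out
  obtain ⟨hAS, hAcomm, hAi⟩ := hA
  have hAc : ∀ a ∈ A, ∀ b ∈ A, a * b = b * a := by
    intro a ha b hb
    have := (isMulCommutative_iff.mp hAcomm) ⟨a, ha⟩ ⟨b, hb⟩
    exact congrArg Subtype.val this
  have hna' : ∃ s ∈ S, ∃ t ∈ S, s * t ≠ t * s := by
    by_contra hcon
    push Not at hcon
    apply hna
    rw [isMulCommutative_iff]
    intro a b
    exact Subtype.ext (hcon a a.2 b b.2)
  have huniq' : ∀ B : Subgroup Ω, B ≤ S → (∀ a ∈ B, ∀ b ∈ B, a * b = b * a) →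
      (B.subgroupOf S).index = p → B = A := by
    intro B hBS hBc hBi
    refine huniq B hBS ?_ hBi
    rw [isMulCommutative_iff]
    intro a b
    exact Subtype.ext (hBc a a.2 b b.2)
  have C : AIPCtx S p F A := ⟨hS, hF, hp, hAS, hAc, hAi, hna', huniq', hAe⟩
  have hZcomm : ZZ S ≤ ⁅S, S⁆ := aip_center_le_comm C hcore
  obtain ⟨P, hP, hPab⟩ := aip_exists_htype C hcore
  obtain ⟨x, hxP, hxA⟩ := C.exists_not_mem hP
  have hPS : P ≤ S := hP.2.1.1
  have hxS : x ∈ S := hPS hxP
  have hPA : P ⊓ A = ZZ S := by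
    rcases C.ess_type hP with ⟨-, h1, -⟩ | ⟨⟨y, hy, z, hz, hyz⟩, -, -⟩
    · exact h1
    · exact absurd (hPab y hy z hz) hyz
  have hcomm : (commutator ↥S).map S.subtype = ⁅S, S⁆ := by
    rw [commutator_def, Subgroup.map_commutator, ← MonoidHom.range_eq_map, Subgroup.range_subtype]
  refine ⟨⟨x, hxS, hxA, ?_⟩, ?_, ?_⟩
  · have hPeq : P = ZZ S ⊔ Subgroup.zpowers x := by
      apply le_antisymm
      · intro y hy
        obtain ⟨k, b, hb, hbP, rfl⟩ := aip_decomp hS hAS hAi hPS hxP hxA hy
        have h1 : x ^ k ∈ Subgroup.zpowers x := Subgroup.zpow_mem_zpowers x k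
        have h2 : b ∈ ZZ S := hPA ▸ (⟨hbP, hb⟩ : b ∈ P ⊓ A)
        exact Subgroup.mul_mem _ (Subgroup.mem_sup_right h1) (Subgroup.mem_sup_left h2)
      · apply sup_le
        · rw [← hPA]; exact inf_le_left
        · exact (Subgroup.zpowers_le).mpr hxP
    have hP' := hP
    rw [hPeq] at hP'
    exact hP'
  · rw [hcomm]
    exact hZcomm
  · intro n hn h3
    obtain ⟨hZ2A, hrel, hZ0⟩ := C.facts hP
    obtain ⟨-, -, hmax⟩ := aip_maxclass hS hAS hAc hAi hna' hxS hxA hZ2A hrel
    have hZeq : ZZ S = ZZ₀ S := le_antisymm (le_inf le_rfl hZcomm) inf_le_left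
    have hcardZ : Nat.card ↥(ZZ S) = p := by
      have := congrArg (fun H : Subgroup Ω => Nat.card ↥H) hZeq
      exact this.trans hZ0
    have hidx : ((ZZ S).subgroupOf S).index = p ^ (n - 1) := by
      have h1 := Subgroup.card_mul_index ((ZZ S).subgroupOf S)
      rw [Nat.card_congr (Subgroup.subgroupOfEquivOfLe (inf_le_left : ZZ S ≤ S)).toEquiv, hcardZ,
        hn] at h1
      have e : p ^ n = p * p ^ (n - 1) := by
        rw [← pow_succ']
        congr 1
        omega
      rw [e] at h1
      exact Nat.eq_of_mul_eq_mul_left hpP.pos h1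
    by_cases h4 : 4 ≤ n
    · have h5 := hmax (n - 1) hidx (by omega)
      intro hbot
      apply h5
      have e : n - 2 = (n - 1 - 2) + 1 := by omega
      rw [e, Subgroup.lowerCentralSeries_succ] at hbot
      intro l hl
      rw [mem_center_iff']
      refine ⟨Subgroup.lowerCentralSeries_le_self S _ hl, fun s hs => ?_⟩
      have h6 := Subgroup.commutator_mem_commutator hl hs
      rw [hbot, Subgroup.mem_bot, commutatorElement_def] at h6
      calc l * s = (l * s * l⁻¹ * s⁻¹) * s * l := by group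
        _ = s * l := by rw [h6, one_mul]
    · have hn3 : n = 3 := by omega
      subst hn3
      show Subgroup.lowerCentralSeries S 1 ≠ ⊥
      intro hbot
      rw [show (1 : ℕ) = 0 + 1 from rfl, Subgroup.lowerCentralSeries_succ,
        Subgroup.lowerCentralSeries_zero] at hbot
      obtain ⟨s, hs, t, ht, hst⟩ := hna'
      apply hst
      have h6 := Subgroup.commutator_mem_commutator hs ht
      rw [hbot, Subgroup.mem_bot, commutatorElement_def] at h6
      calc s * t = (s * t * s⁻¹ * t⁻¹) * t * s := by group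
        _ = t * s := by rw [h6, one_mul]

end Cfsg.Agent.S5244
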