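import Cfsg.Statements.S5247
import Cfsg.Agent.Lib.Helper87.FusionBasic
import Cfsg.Agent.Lib.Helper87.PCore
import Cfsg.Agent.Lib.Helper87.AutTransport
import Cfsg.Agent.Lib.Helper87.NormalizerSystem

set_option autoImplicit false
open Cfsg

namespace Cfsg.Agent.S5247

open Cfsg.FusionSystem Cfsg.Agent.Lib.Helper87

variable {Ω : Type*} [Group Ω] {S : Subgroup Ω}

/-- quadratic action condition -/
def Quad {Q : Type*} [Group Q] (χ : MulAut Q) : Prop :=
  ∀ a : Q, (χ a⁻¹) * a * (χ a⁻¹) * (χ (χ a)) = 1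

theorem quad_congr {Q Q' : Type*} [Group Q] [Group Q'] (e : Q ≃* Q') {χ : MulAut Q}
    (h : Quad χ) : Quad (MulAut.congr e χ) := by
  intro a'
  obtain ⟨a, rfl⟩ := e.surjective a'
  have := congrArg e (h a)
  simpa [MulAut.congr] using this

/-- A quadratic automorphism of a finite group has order dividing the order of the group. -/
theorem quad_pow_card {Q : Type*} [Group Q] [Finite Q] {χ : MulAut Q} (h : Quad χ) :
    χ ^ Nat.card Q = 1 := by
  have hfix : ∀ a : Q, χ (a⁻¹ * χ a) = a⁻¹ * χ a := by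
    intro a
    have h1 := h a
    have h2 : χ (a⁻¹ * χ a) = χ a⁻¹ * χ (χ a) := map_mul χ _ _
    rw [h2]
    have h3 : χ a⁻¹ * a * (χ a⁻¹ * χ (χ a)) = 1 := by
      rw [← h1]; group
    have h4 : χ a⁻¹ * χ (χ a) = (χ a⁻¹ * a)⁻¹ := eq_inv_of_mul_eq_one_right h3
    rw [h4, map_inv]
    group
  have hpow : ∀ (j : ℕ) (a : Q), (χ ^ j) a = a * (a⁻¹ * χ a) ^ j := by
    intro j
    induction j with
    | zero => intro a; simp
    | succ j ih =>
      intro a
      rw [pow_succ', MulAut.mul_apply, ih, map_mul, map_pow, hfix, pow_succ']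
      simp only [mul_assoc, mul_inv_cancel_left]
  ext a
  rw [hpow, pow_card_eq_one']
  simp

theorem zpowers_le_pCore_of_comm {p : ℕ} [Fact p.Prime] {H : Type*} [Group H]
    (hc : ∀ a b : H, a * b = b * a) (x : H) (n : ℕ) (hx : x ^ (p ^ n) = 1) : x ∈ pCore p H := by
  have hN : (Subgroup.zpowers x).Normal := by
    constructor
    intro y hy g
    have : g * y * g⁻¹ = y := by rw [hc g y]; group
    rwa [this]
  have hp : IsPGroup p (Subgroup.zpowers x) := by
    rintro ⟨y, hy⟩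
    obtain ⟨k, rfl⟩ := Subgroup.mem_zpowers_iff.mp hy
    refine ⟨n, Subtype.ext ?_⟩
    show (x ^ k) ^ (p ^ n) = 1
    rw [← zpow_natCast, ← zpow_mul, mul_comm, zpow_mul, zpow_natCast, hx, one_zpow]
  exact le_pCore hN hp (Subgroup.mem_zpowers x)

theorem mulAut_comm_of_cyclic {Q : Type*} [Group Q] [IsCyclic Q] (α β : MulAut Q) :
    α * β = β * α := by
  obtain ⟨m, hm⟩ := MonoidHom.map_cyclic α.toMonoidHom
  obtain ⟨n, hn⟩ := MonoidHom.map_cyclic β.toMonoidHom
  ext g
  have h1 : α (β g) = (g ^ n) ^ m := by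
    have := hm (β g)
    have h2 := hn g
    simp only [MulEquiv.coe_toMonoidHom] at this h2
    rw [this, h2]
  have h2 : β (α g) = (g ^ m) ^ n := by
    have := hn (α g)
    have h2 := hm g
    simp only [MulEquiv.coe_toMonoidHom] at this h2
    rw [this, h2]
  show α (β g) = β (α g)
  rw [h1, h2, ← zpow_mul, ← zpow_mul, mul_comm]

/-- `p`-stability at all subgroups follows from `p`-stability at fully normalized subgroups. -/
theorem pstable_all [Finite S] (p : ℕ) [Fact p.Prime] (F : Cfsg.FusionSystem S)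
    (hL : ∀ Q : Subgroup Ω, F.IsFullyNormalized Q → ∀ χ : MulAut ↥Q, χ ∈ F.autGroup Q →
      Quad χ → χ ∈ ((Cfsg.pCore p ↥(F.autGroup Q)).map (F.autGroup Q).subtype : Subgroup (MulAut ↥Q)))
    (Q : Subgroup Ω) (hQ : Q ≤ S) (χ : MulAut ↥Q) (hχ : χ ∈ F.autGroup Q) (hq : Quad χ) :
    χ ∈ ((Cfsg.pCore p ↥(F.autGroup Q)).map (F.autGroup Q).subtype : Subgroup (MulAut ↥Q)) := by
  obtain ⟨Q', ⟨φ, hφ, hr⟩, hfn⟩ := exists_fullyNormalized_conj F hQ
  let e := isoOfHom φ (F.injective_of_mem hφ) hr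
  have he : ∀ x : Q, ((e x : Q') : Ω) = φ x := fun x => rfl
  have h1 := hL Q' hfn (MulAut.congr e χ) (autGroup_congr_mem F hφ hr e he hχ) (quad_congr e hq)
  have h2 := pCore_map_subtype_equiv (p := p) (MulAut.congr e) (F.autGroup Q) (F.autGroup Q')
    (autGroup_map_congr F hφ hr e he)
  rw [← h2] at h1
  obtain ⟨y, hy, hyy⟩ := h1
  have : y = χ := (MulAut.congr e).injective hyy
  rwa [← this]

theorem result {Ω : Type*} [Group Ω] {S : Subgroup Ω} [Finite S] (p : ℕ) [Fact p.Prime] (hS : IsPGroup p S) (F : Cfsg.FusionSystem S) (hF : F.IsSaturated p) (hp : p ≠ 2) : (∀ Q : Subgroup Ω, F.IsFullyNormalized Q → ∀ χ : MulAut ↥Q, χ ∈ F.autGroup Q → (∀ a : ↥Q, (χ a⁻¹) * a * (χ a⁻¹) * (χ (χ a)) = 1) → χ ∈ ((Cfsg.pCore p ↥(F.autGroup Q)).map (F.autGroup Q).subtype : Subgroup (MulAut ↥Q))) ↔ ∀ R : Subgroup Ω, F.IsFullyNormalized R → ¬ IsCyclic ↥R → ∀ N : Cfsg.FusionSystem (Cfsg.FusionSystem.normalizerIn S R), F.IsNormalizerSystem R N → (∀ Q : Subgroup Ω, N.IsFullyNormalized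 Q → ∀ χ : MulAut ↥Q, χ ∈ N.autGroup Q → (∀ a : ↥Q, (χ a⁻¹) * a * (χ a⁻¹) * (χ (χ a)) = 1) → χ ∈ ((Cfsg.pCore p ↥(N.autGroup Q)).map (N.autGroup Q).subtype : Subgroup (MulAut ↥Q))) := by
  constructor
  · intro hL R hR hRc N hN Q hQ χ hχ hq
    have hQS : Q ≤ S := hQ.1.trans (normalizerIn_le S R)
    have hle : N.autGroup Q ≤ F.autGroup Q := by
      apply Subgroup.closure_mono
      intro α hα
      have : Q.subtype.comp α.toMonoidHom ∈ F.normalizerHom R Q := by
        rw [← hN Q]; exact hα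
      exact this.1
    have h1 := pstable_all p F hL Q hQS χ (hle hχ) hq
    exact pCore_inf_le hle ⟨h1, hχ⟩
  · intro hR Q hQ χ hχ hq
    have hQS : Q ≤ S := hQ.1
    have : Finite Q := Finite.of_injective _ (Subgroup.inclusion_injective hQS)
    by_cases hc : IsCyclic ↥Q
    · -- cyclic case
      have hQp : IsPGroup p Q := hS.to_le hQS
      obtain ⟨n, hn⟩ := IsPGroup.iff_card.mp hQp
      have h1 : χ ^ (p ^ n) = 1 := by rw [← hn]; exact quad_pow_card hq
      have h2 : (⟨χ, hχ⟩ : F.autGroup Q) ^ (p ^ n) = 1 := Subtype.ext (by simpa using h1)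
      have h3 := zpowers_le_pCore_of_comm (p := p) (H := F.autGroup Q)
        (fun a b => Subtype.ext (mulAut_comm_of_cyclic a.1 b.1)) ⟨χ, hχ⟩ n h2
      exact ⟨⟨χ, hχ⟩, h3, rfl⟩
    · -- non-cyclic case: use the normalizer system of Q itself
      let N := normalizerSystem F Q hQS
      have hQN : Q ≤ normalizerIn S Q := le_inf hQS Subgroup.le_normalizer
      have hgen : ∀ α : MulAut Q, Q.subtype.comp α.toMonoidHom ∈ N.Hom Q ↔
          Q.subtype.comp α.toMonoidHom ∈ F.Hom Q := by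
        intro α
        constructor
        · intro h; exact h.1
        · intro h
          have hsup : Q ⊔ Q ≤ Q := sup_le le_rfl le_rfl
          refine ⟨h, hQN, fun x => hQN (α x).2, _, restrict_mem F h hsup, fun x => rfl, ?_⟩
          rw [map_subgroupOf_eq_iff]
          refine ⟨fun y _ => (α _).2, fun q hq => ?_⟩
          refine ⟨⟨(α.symm ⟨q, hq⟩ : Q), (le_sup_left : Q ≤ Q ⊔ Q) (α.symm ⟨q, hq⟩).2⟩,
            (α.symm ⟨q, hq⟩).2, ?_⟩
          show ((α (Subgroup.inclusion hsup _) : Q) : Ω) = q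
          have : Subgroup.inclusion hsup ⟨(α.symm ⟨q, hq⟩ : Q), (le_sup_left : Q ≤ Q ⊔ Q) (α.symm ⟨q, hq⟩).2⟩ = α.symm ⟨q, hq⟩ := Subtype.ext rfl
          rw [this]
          simp
      have haut : N.autGroup Q = F.autGroup Q := by
        unfold FusionSystem.autGroup
        congr 1
        ext α
        exact hgen α
      have hfn : N.IsFullyNormalized Q := by
        refine ⟨hQN, fun Q'' hc => ?_⟩
        obtain ⟨φ, hφ, hr⟩ := hc
        obtain ⟨-, -, -, ψ, -, hψe, hψQ⟩ := hφ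
        rw [map_subgroupOf_eq_iff] at hψQ
        have : Q'' = Q := by
          rw [← hr]
          apply le_antisymm
          · rintro _ ⟨x, rfl⟩
            rw [← hψe x]
            exact hψQ.1 _ x.2
          · intro q hq
            obtain ⟨y, hy, rfl⟩ := hψQ.2 q hq
            exact ⟨⟨y, hy⟩, (hψe ⟨y, hy⟩).symm⟩
        rw [this]
      have h1 := hR Q hQ hc N (isNormalizerSystem_normalizerSystem F Q hQS) Q hfn χ
        (haut ▸ hχ) hq
      revert h1
      generalize N.autGroup Q = H at haut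
      subst haut
      exact id

end Cfsg.Agent.S5247
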