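import Cfsg.Statements.S5246
import Cfsg.Agent.Lib.Helper87.GroupFusion
import Cfsg.Agent.S5247

set_option autoImplicit false
open Cfsg

namespace Cfsg.Agent.S5246

open Cfsg.FusionSystem Cfsg.Agent.Lib.Helper87 Cfsg.Agent.S5247
open scoped commutatorElement Pointwise

variable {Ω : Type*} [Group Ω]

theorem quad_of_comm {Q : Subgroup Ω} {g : Ω} (α : MulAut Q)
    (hα : ∀ x : Q, ((α x : Q) : Ω) = g * x * g⁻¹)
    (h : ⁅⁅Q, Subgroup.zpowers g⁆, Subgroup.zpowers g⁆ = ⊥) : Quad α := by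
  intro a
  have hc1 : ⁅((a : Ω))⁻¹, g⁆ ∈ ⁅Q, Subgroup.zpowers g⁆ :=
    Subgroup.commutator_mem_commutator (Q.inv_mem a.2) (Subgroup.mem_zpowers g)
  have hc2 : ⁅⁅((a : Ω))⁻¹, g⁆, g⁆ ∈ ⁅⁅Q, Subgroup.zpowers g⁆, Subgroup.zpowers g⁆ :=
    Subgroup.commutator_mem_commutator hc1 (Subgroup.mem_zpowers g)
  rw [h, Subgroup.mem_bot] at hc2
  rw [commutatorElement_def, commutatorElement_def] at hc2
  have key : g * ((a : Ω)⁻¹ * g * a * g⁻¹) * g⁻¹ = (a : Ω)⁻¹ * g * a * g⁻¹ := by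
    have h2 : (a : Ω)⁻¹ * g * ((a : Ω)⁻¹)⁻¹ * g⁻¹ * g =
        g * ((a : Ω)⁻¹ * g * ((a : Ω)⁻¹)⁻¹ * g⁻¹) := by
      have := mul_inv_eq_one.mp hc2
      exact mul_inv_eq_iff_eq_mul.mp this
    rw [inv_inv] at h2
    rw [← h2]
    group
  apply Subtype.ext
  show ((α a⁻¹ : Q) : Ω) * a * ((α a⁻¹ : Q) : Ω) * ((α (α a) : Q) : Ω) = 1
  rw [hα, hα, hα]
  show g * (a : Ω)⁻¹ * g⁻¹ * a * (g * (a : Ω)⁻¹ * g⁻¹) * (g * (g * a * g⁻¹) * g⁻¹) = 1
  have e : g * (a : Ω)⁻¹ * g⁻¹ * a * (g * (a : Ω)⁻¹ * g⁻¹) * (g * (g * a * g⁻¹) * g⁻¹) =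
      (g * (a : Ω)⁻¹ * g⁻¹ * a) * (g * ((a : Ω)⁻¹ * g * a * g⁻¹) * g⁻¹) := by group
  rw [e, key]
  group

theorem comm_of_quad {Q : Subgroup Ω} {g : Ω} (α : MulAut Q)
    (hα : ∀ x : Q, ((α x : Q) : Ω) = g * x * g⁻¹) (h : Quad α) :
    ⁅⁅Q, Subgroup.zpowers g⁆, Subgroup.zpowers g⁆ = ⊥ := by
  rw [Subgroup.commutator_eq_bot_iff_le_centralizer]
  set C := Subgroup.centralizer (Subgroup.zpowers g : Set Ω) with hC
  have hgC : g ∈ C := by
    intro x hx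
    obtain ⟨k, rfl⟩ := Subgroup.mem_zpowers_iff.mp hx
    exact ((Commute.refl g).zpow_left k).eq
  have hcomm_mem : ∀ d : Ω, g * d = d * g → d ∈ C := by
    intro d hd x hx
    obtain ⟨k, rfl⟩ := Subgroup.mem_zpowers_iff.mp hx
    exact (Commute.zpow_left hd k).eq
  -- step 1
  have step1 : ∀ a ∈ Q, ⁅a, g⁆ ∈ C := by
    intro a ha
    apply hcomm_mem
    have h1 := congrArg (Subtype.val) (h (⟨a, ha⟩ : Q)⁻¹)
    rw [inv_inv] at h1
    have h2 : ((α ⟨a, ha⟩ : Q) : Ω) * ((⟨a, ha⟩ : Q)⁻¹ : Q) * ((α ⟨a, ha⟩ : Q) : Ω) *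
        ((α (α (⟨a, ha⟩ : Q)⁻¹) : Q) : Ω) = 1 := h1
    rw [hα, hα, hα] at h2
    have h3 : g * a * g⁻¹ * a⁻¹ * (g * a * g⁻¹) * (g * (g * a⁻¹ * g⁻¹) * g⁻¹) = 1 := h2
    rw [commutatorElement_def]
    have e : g * a * g⁻¹ * a⁻¹ * (g * a * g⁻¹) * (g * (g * a⁻¹ * g⁻¹) * g⁻¹) =
        (a * g * a⁻¹ * g⁻¹)⁻¹ * (g * (a * g * a⁻¹ * g⁻¹) * g⁻¹) := by group
    rw [e] at h3
    have h4 : g * (a * g * a⁻¹ * g⁻¹) * g⁻¹ = a * g * a⁻¹ * g⁻¹ := by
      have := inv_mul_eq_one.mp h3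
      exact this.symm
    calc g * (a * g * a⁻¹ * g⁻¹) = g * (a * g * a⁻¹ * g⁻¹) * g⁻¹ * g := by group
      _ = a * g * a⁻¹ * g⁻¹ * g := by rw [h4]
  -- step 2: the subgroup M
  let M : Subgroup Ω :=
    { carrier := {x | x ∈ C ∧ ∀ a ∈ Q, ⁅a, x⁆ ∈ C}
      mul_mem' := by
        rintro x y ⟨hx, hx'⟩ ⟨hy, hy'⟩
        refine ⟨C.mul_mem hx hy, fun a ha => ?_⟩
        have e : ⁅a, x * y⁆ = ⁅a, x⁆ * (x * ⁅a, y⁆ * x⁻¹) := by
          simp only [commutatorElement_def]; group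
        rw [e]
        exact C.mul_mem (hx' a ha) (C.mul_mem (C.mul_mem hx (hy' a ha)) (C.inv_mem hx))
      one_mem' := by
        refine ⟨C.one_mem, fun a _ => ?_⟩
        have e : ⁅a, (1 : Ω)⁆ = 1 := by simp [commutatorElement_def]
        rw [e]
        exact C.one_mem
      inv_mem' := by
        rintro x ⟨hx, hx'⟩
        refine ⟨C.inv_mem hx, fun a ha => ?_⟩
        have e : ⁅a, x⁻¹⁆ = x⁻¹ * (⁅a, x⁆)⁻¹ * x := by
          simp only [commutatorElement_def]; group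
        rw [e]
        exact C.mul_mem (C.mul_mem (C.inv_mem hx) (C.inv_mem (hx' a ha))) hx }
  have hgM : g ∈ M := ⟨hgC, step1⟩
  have hzM : Subgroup.zpowers g ≤ M := (Subgroup.zpowers_le).mpr hgM
  rw [Subgroup.commutator_le]
  intro a ha x hx
  exact (hzM hx).2 a ha

theorem autN_congr_mem {P₁ P₂ : Subgroup Ω} (c : P₁ ≃* P₂) (h : Ω)
    (hc : ∀ x : P₁, ((c x : P₂) : Ω) = h * x * h⁻¹) {α : MulAut P₁} (hα : α ∈ autN P₁) :
    MulAut.congr c α ∈ autN P₂ := by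
  rw [mem_autN_iff] at hα ⊢
  obtain ⟨g, hg⟩ := hα
  refine ⟨h * g * h⁻¹, fun y => ?_⟩
  have h1 : ((MulAut.congr c α y : P₂) : Ω) = ((c (α (c.symm y)) : P₂) : Ω) := rfl
  have h2 : (y : Ω) = h * ((c.symm y : P₁) : Ω) * h⁻¹ := by
    rw [← hc]; simp
  rw [h1, hc, hg]
  conv_rhs => rw [h2]
  group

theorem autN_map_congr {P₁ P₂ : Subgroup Ω} (c : P₁ ≃* P₂) (h : Ω)
    (hc : ∀ x : P₁, ((c x : P₂) : Ω) = h * x * h⁻¹) :
    (autN P₁).map (MulAut.congr c).toMonoidHom = autN P₂ := by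
  apply le_antisymm
  · rintro _ ⟨α, hα, rfl⟩
    exact autN_congr_mem c h hc hα
  · intro β hβ
    have hc' : ∀ y : P₂, ((c.symm y : P₁) : Ω) = h⁻¹ * y * h⁻¹⁻¹ := by
      intro y
      have : (y : Ω) = h * ((c.symm y : P₁) : Ω) * h⁻¹ := by
        rw [← hc]; simp
      rw [this]; group
    refine ⟨_, autN_congr_mem c.symm h⁻¹ hc' hβ, ?_⟩
    ext y
    simp [MulAut.congr]

theorem exists_conj_le_sylow [Finite Ω] {p : ℕ} [Fact p.Prime] (P : Sylow p Ω) {P' : Subgroup Ω}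
    (hP' : IsPGroup p P') : ∃ h : Ω, P'.map (MulAut.conj h).toMonoidHom ≤ (P : Subgroup Ω) := by
  obtain ⟨R, hR⟩ := hP'.exists_le_sylow
  obtain ⟨h, hh⟩ := MulAction.exists_smul_eq Ω R P
  refine ⟨h, ?_⟩
  rintro _ ⟨x, hx, rfl⟩
  have h1 : (MulAut.conj h) • x ∈ (MulAut.conj h) • (R : Subgroup Ω) :=
    Subgroup.smul_mem_pointwise_smul _ _ _ (hR hx)
  rw [← hh]
  exact h1

theorem result {Ω : Type*} [Group Ω] [Finite Ω] {p : ℕ} [Fact p.Prime] (hp : p ≠ 2) (P : Sylow p Ω) : Cfsg.IsNormalizerPStable p Ω ↔ (∀ Q : Subgroup Ω, (Cfsg.groupFusionSystem (P : Subgroup Ω)).IsFullyNormalized Q → ∀ χ : MulAut ↥Q, χ ∈ (Cfsg.groupFusionSystem (P : Subgroup Ω)).autGroup Q → (∀ a : ↥Q, (χ a⁻¹) * a * (χ a⁻¹) * (χ (χ a)) = 1) → χ ∈ ((Cfsg.pCore p ↥((Cfsg.groupFusionSystem (P : Subgroup Ω)).autGroup Q)).map ((Cfsg.groupFusionSystem (P : Subgroup Ω)).autGroup Q).subtype : Subgroup (MulAut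 ↥Q))) := by
  constructor
  · intro hG Q hQ χ hχ hq
    have hQP : Q ≤ (P : Subgroup Ω) := hQ.1
    have haut := groupFusion_autGroup_eq (P : Subgroup Ω) hQP
    revert hχ
    generalize (Cfsg.groupFusionSystem (P : Subgroup Ω)).autGroup Q = H at haut
    subst haut
    intro hχ
    obtain ⟨g, hg⟩ := (mem_autN_iff Q χ).mp hχ
    have hgN := mem_normalizer_of_aut Q χ g hg
    have hcomm := comm_of_quad χ hg hq
    have h1 := hG Q (P.2.to_le hQP) g hgN hcomm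
    rw [mk_mem_pCore_iff Q.normalizerMonoidHom _ Q.normalizerMonoidHom_ker] at h1
    have e : Q.normalizerMonoidHom ⟨g, hgN⟩ = χ := by
      ext x
      rw [hg x]
      rfl
    rw [e] at h1
    exact h1
  · intro hst P' hP' g hg hcomm
    obtain ⟨h, hh⟩ := exists_conj_le_sylow P hP'
    set Q₁ := P'.map (MulAut.conj h).toMonoidHom with hQ₁
    let c : P' ≃* Q₁ := (MulAut.conj h).subgroupMap P'
    have hc : ∀ x : P', ((c x : Q₁) : Ω) = h * x * h⁻¹ := fun x => rfl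
    set α' := P'.normalizerMonoidHom ⟨g, hg⟩ with hα'
    have hα'N : α' ∈ autN P' := ⟨_, rfl⟩
    have hα'g : ∀ x : P', ((α' x : P') : Ω) = g * x * g⁻¹ := fun x => rfl
    have hq' : Quad α' := quad_of_comm α' hα'g hcomm
    have hα₁N : MulAut.congr c α' ∈ autN Q₁ := autN_congr_mem c h hc hα'N
    have hq₁ : Quad (MulAut.congr c α') := quad_congr c hq'
    have haut := groupFusion_autGroup_eq (P : Subgroup Ω) hh
    have h1 := pstable_all p (Cfsg.groupFusionSystem (P : Subgroup Ω)) hst Q₁ hh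
      (MulAut.congr c α') (haut ▸ hα₁N) hq₁
    revert h1
    generalize (Cfsg.groupFusionSystem (P : Subgroup Ω)).autGroup Q₁ = H at haut
    subst haut
    intro h1
    have h2 := pCore_map_subtype_equiv (p := p) (MulAut.congr c) (autN P') (autN Q₁)
      (autN_map_congr c h hc)
    rw [← h2] at h1
    obtain ⟨y, hy, hyy⟩ := h1
    have hyα : y = α' := (MulAut.congr c).injective hyy
    rw [hyα] at hy
    rw [mk_mem_pCore_iff P'.normalizerMonoidHom _ P'.normalizerMonoidHom_ker]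
    exact hy

end Cfsg.Agent.S5246
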