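import Cfsg.Statements.S5249
import Cfsg.Agent.S2794
import Cfsg.Agent.Lib.Helper91.GroupFusionFactor

set_option autoImplicit false
open Cfsg

namespace Cfsg.Agent.S5249

/-- Let p be an odd prime, G a finite group in which Qd(p) (the natural semidirect product of an elementary abelian group of order p² by SL₂(p)) is not involved, and P a Sylow p-subgroup of G. Then the fusion system of G on P is a solvable fusion system. -/
theorem result {G : Type*} [Group G] [Finite G] {p : ℕ} [Fact p.Prime] (hp : p ≠ 2) (hqd : ¬ Cfsg.Involves ↥(Cfsg.qd p) G) (P : Sylow p G) : (Cfsg.groupFusionSystem (P : Subgroup G)).IsSolvableSystem := by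
  intro R hsc hRP hn E hE
  have hRS : R ≤ (P : Subgroup G) := hsc.1
  have hSN : (P : Subgroup G) ≤ Subgroup.normalizer (R : Set G) :=
    (Subgroup.normal_subgroupOf_iff_le_normalizer hRS).mp hn
  have hπs : Function.Surjective (QuotientGroup.mk' (R.subgroupOf (Subgroup.normalizer (R : Set G)))) :=
    QuotientGroup.mk'_surjective _
  let T : Sylow p (↥(Subgroup.normalizer (R : Set G)) ⧸ R.subgroupOf (Subgroup.normalizer (R : Set G))) :=
    (P.subtype hSN).mapSurjective hπs
  have hT : T.toSubgroup = ((P : Subgroup G).subgroupOf (Subgroup.normalizer (R : Set G))).map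
      (QuotientGroup.mk' (R.subgroupOf (Subgroup.normalizer (R : Set G)))) := by
    rw [Sylow.coe_mapSurjective, Sylow.coe_subtype]
  have hctl := (Cfsg.Agent.S2794.result hp).mp hqd (Subgroup.normalizer (R : Set G)) R T
  have hTne : T.toSubgroup ≠ ⊥ := by
    obtain ⟨s, hsP, hsR⟩ := SetLike.exists_of_lt (lt_of_le_of_ne hRS hRP)
    intro hbot
    have h1 : QuotientGroup.mk' (R.subgroupOf (Subgroup.normalizer (R : Set G))) ⟨s, hSN hsP⟩ ∈ T.toSubgroup := by
      rw [hT]
      exact ⟨⟨s, hSN hsP⟩, Subgroup.mem_subgroupOf.mpr hsP, rfl⟩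
    rw [hbot, Subgroup.mem_bot, QuotientGroup.mk'_apply, QuotientGroup.eq_one_iff] at h1
    exact hsR (Subgroup.mem_subgroupOf.mp h1)
  have hUne : Cfsg.centerThompsonAOf T.toSubgroup ≠ ⊥ := by
    rw [← Cfsg.Agent.S0659.inducedFunctor_WA]
    have hnt : Nontrivial ↥(T : Subgroup (↥(Subgroup.normalizer (R : Set G)) ⧸ R.subgroupOf (Subgroup.normalizer (R : Set G)))) :=
      (Subgroup.nontrivial_iff_ne_bot _).mpr hTne
    have h1 := (Cfsg.Agent.S0659.isCharPFunctor_WA p).1 _ T.2 hnt
    intro hbot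
    apply h1
    exact (Subgroup.map_eq_bot_iff_of_injective _ (Subgroup.subtype_injective _)).mp hbot
  obtain ⟨U1, hU1ne, hU1T, hU1c⟩ := Cfsg.Agent.Lib.Helper91.gff_csf_transport _ hctl hUne T
  rw [hT] at hU1T hU1c
  exact Cfsg.Agent.Lib.Helper91.gff_core_ne_bot (P : Subgroup G) R hsc U1 hU1ne hSN hU1T hU1c E hE

end Cfsg.Agent.S5249
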