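import Cfsg.Statements.S5251
import Cfsg.Agent.Lib.Helper87.OmegaAut
import Cfsg.Agent.Lib.Helper87.ModExt

set_option autoImplicit false
open Cfsg

namespace Cfsg.Agent.S5251

open Cfsg.FusionSystem Cfsg.Agent.Lib.Helper87

variable {Ω : Type*} [Group Ω] {S : Subgroup Ω}

theorem key [Finite S] (p : ℕ) [Fact p.Prime] (hS : IsPGroup p S) (F : Cfsg.FusionSystem S)
    (hF : F.IsSaturated p) {T : Subgroup Ω} (E : Cfsg.FusionSystem T) (hEsub : E.IsSubsystemOf F)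
    (hT : F.StronglyClosed T) (P : Subgroup Ω) (hPS : P ≤ S) (hPT : ¬ E.IsCentric (P ⊓ T)) :
    ∃ φ ∈ F.Hom P, ∃ x ∈ S ⊓ Subgroup.normalizer (φ.range : Set Ω), x ∉ φ.range ∧
      ∃ α ∈ ((Cfsg.pCore p ↥(F.autGroup φ.range)).map (F.autGroup φ.range).subtype :
        Subgroup (MulAut ↥φ.range)), ∀ y : ↥φ.range, ((α y : ↥φ.range) : Ω) = x * (y : Ω) * x⁻¹ := by
  have hTS : T ≤ S := hT.1
  have hSNT : S ≤ Subgroup.normalizer (T : Set Ω) :=
    weaklyClosed_le_normalizer F (weaklyClosed_of_stronglyClosed F hT)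
  -- a conjugate of `P ⊓ T` with a centralizer not contained in it
  have hex : ∃ R' : Subgroup Ω, E.IsConj (P ⊓ T) R' ∧ ¬ centralizerIn T R' ≤ R' := by
    by_contra hcon
    push Not at hcon
    exact hPT ⟨inf_le_right, hcon⟩
  obtain ⟨R', ⟨ξ, hξ, hrξ⟩, hnle⟩ := hex
  have hcF : F.IsConj (P ⊓ T) R' := ⟨ξ, hEsub _ hξ, hrξ⟩
  have hR'S : R' ≤ S := isConj_le_right F hcF
  obtain ⟨c, hc, hcR'⟩ : ∃ c ∈ centralizerIn T R', c ∉ R' := by
    by_contra hcon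
    push Not at hcon
    exact hnle hcon
  -- a fully normalized conjugate `W`
  obtain ⟨W, hcW, hWfn⟩ := exists_fullyNormalized_conj F hR'S
  obtain ⟨hWfc, hWfa⟩ := fc_fa_of_fullyNormalized hS F hF hWfn
  have hWrec := receptive_of_fullyCentralized hS F hF hWfc
  obtain ⟨ψ, hψ, -, hψ2, hψ3⟩ := exists_normalizer_map hS F hWfa hWrec hcW
  have hcN : c ∈ normalizerIn S R' :=
    ⟨hTS hc.1, Subgroup.centralizer_le_normalizer _ hc.2⟩
  -- `d = ψ c` lies in `C_T(W)` but not in `W`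
  have hdT : ψ ⟨c, hcN⟩ ∈ T := stronglyClosed_map_mem F hT hψ ⟨c, hcN⟩ hc.1
  have hdC : ψ ⟨c, hcN⟩ ∈ Subgroup.centralizer (W : Set Ω) := by
    intro w hw
    obtain ⟨y, hy, rfl⟩ := hψ3 w hw
    rw [← map_mul, ← map_mul]
    congr 1
    apply Subtype.ext
    exact hc.2 y hy
  have hdW : ψ ⟨c, hcN⟩ ∉ W := by
    intro h
    obtain ⟨y, hy, hye⟩ := hψ3 _ h
    have := F.injective_of_mem hψ hye
    apply hcR'
    have e : (y : Ω) = c := congrArg Subtype.val this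
    rw [← e]; exact hy
  -- the conjugate `P*` of `P`
  have hcRW : F.IsConj (P ⊓ T) W := isConj_trans F hcF hcW
  obtain ⟨θ, hθ, -, hθ2, hθ3⟩ := exists_normalizer_map hS F hWfa hWrec hcRW
  have hPN : P ≤ normalizerIn S (P ⊓ T) := by
    intro y hy
    refine ⟨hPS hy, ?_⟩
    have h1 : y ∈ Subgroup.normalizer (P : Set Ω) := Subgroup.le_normalizer hy
    have h2 : y ∈ Subgroup.normalizer (T : Set Ω) := hSNT (hPS hy)
    rw [Subgroup.mem_normalizer_iff] at h1 h2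
    show y ∈ Subgroup.normalizer ((P ⊓ T : Subgroup Ω) : Set Ω)
    rw [Subgroup.mem_normalizer_iff]
    intro n
    exact ⟨fun hn => ⟨(h1 n).mp hn.1, (h2 n).mp hn.2⟩, fun hn => ⟨(h1 n).mpr hn.1, (h2 n).mpr hn.2⟩⟩
  have hφ : θ.comp (Subgroup.inclusion hPN) ∈ F.Hom P := restrict_mem F hθ hPN
  refine ⟨θ.comp (Subgroup.inclusion hPN), hφ, ?_⟩
  set φ := θ.comp (Subgroup.inclusion hPN) with hφdef
  have hPsS : φ.range ≤ S := range_le F hφ
  -- `P* ∩ T = W`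
  obtain ⟨χ, hχ, hχe⟩ := F.inv_mem hφ
  have hPsT : ∀ y ∈ φ.range, y ∈ T → y ∈ W := by
    rintro _ ⟨x, rfl⟩ hyT
    have h1 : χ ⟨φ x, ⟨x, rfl⟩⟩ ∈ T := stronglyClosed_map_mem F hT hχ ⟨φ x, ⟨x, rfl⟩⟩ hyT
    rw [hχe x] at h1
    exact hθ2 (Subgroup.inclusion hPN x) ⟨x.2, h1⟩
  have hWPs : W ≤ φ.range := by
    intro w hw
    obtain ⟨y, hy, rfl⟩ := hθ3 w hw
    exact ⟨⟨y, hy.1⟩, rfl⟩
  have hWT : W ≤ T := by
    intro w hw
    obtain ⟨y, hy, rfl⟩ := hθ3 w hw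
    exact stronglyClosed_map_mem F hT hθ y hy.2
  -- `P*` normalizes `C_T(W)`
  have hWnorm : ∀ y ∈ φ.range, ∀ w ∈ W, y * w * y⁻¹ ∈ W := by
    intro y hy w hw
    apply hPsT
    · exact Subgroup.mul_mem _ (Subgroup.mul_mem _ hy (hWPs hw)) (Subgroup.inv_mem _ hy)
    · exact (Subgroup.mem_normalizer_iff.mp (hSNT (hPsS hy)) w).mp (hWT hw)
  have hDnorm : φ.range ≤ Subgroup.normalizer (centralizerIn T W : Set Ω) := by
    have key1 : ∀ y ∈ φ.range, ∀ d ∈ centralizerIn T W, y * d * y⁻¹ ∈ centralizerIn T W := by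
      intro y hy d hd
      refine ⟨(Subgroup.mem_normalizer_iff.mp (hSNT (hPsS hy)) d).mp hd.1, ?_⟩
      intro w hw
      have h1 := hWnorm y⁻¹ (Subgroup.inv_mem _ hy) w hw
      rw [inv_inv] at h1
      have h2 := hd.2 _ h1
      calc w * (y * d * y⁻¹) = y * ((y⁻¹ * w * y) * d) * y⁻¹ := by group
        _ = y * (d * (y⁻¹ * w * y)) * y⁻¹ := by rw [h2]
        _ = y * d * y⁻¹ * w := by group
    intro y hy
    rw [Subgroup.mem_normalizer_iff]
    intro d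
    constructor
    · exact key1 y hy d
    · intro h
      have := key1 y⁻¹ (Subgroup.inv_mem _ hy) _ h
      have e : y⁻¹ * (y * d * y⁻¹) * y⁻¹⁻¹ = d := by group
      rwa [e] at this
  -- an element of `N_{C_T(W)}(P*)` outside `P*`
  have hMS : φ.range ⊔ centralizerIn T W ≤ S := sup_le hPsS ((centralizerIn_le T W).trans hTS)
  have hfinM : Finite ↥(φ.range ⊔ centralizerIn T W) := finite_of_le hMS
  have hMp : IsPGroup p ↥(φ.range ⊔ centralizerIn T W) := hS.to_le hMS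
  have hne : φ.range ≠ φ.range ⊔ centralizerIn T W := by
    intro h
    apply hdW
    apply hPsT _ _ hdT
    rw [h]
    exact (le_sup_right : centralizerIn T W ≤ _) ⟨hdT, hdC⟩
  obtain ⟨g, hgN, hgP⟩ := exists_mem_normalizerIn_not_mem (S := φ.range ⊔ centralizerIn T W)
    hMp le_sup_left hne
  obtain ⟨y, hy, x, hx, hgyx⟩ := exists_mul_of_mem_sup hDnorm hgN.1
  have hxN : x ∈ Subgroup.normalizer (φ.range : Set Ω) := by
    have : x = y⁻¹ * g := by rw [hgyx]; group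
    rw [this]
    exact Subgroup.mul_mem _ (Subgroup.inv_mem _ (Subgroup.le_normalizer hy)) hgN.2
  have hxP : x ∉ φ.range := by
    intro h
    apply hgP
    rw [hgyx]
    exact Subgroup.mul_mem _ hy h
  have hxS : x ∈ S := hTS hx.1
  refine ⟨x, ⟨hxS, hxN⟩, hxP, conjAut φ.range x hxN, ?_, fun y => rfl⟩
  apply mem_pCore_of_stabilizes hS F hPsS hT
    (autInducedBy_le_autGroup F hPsS (conjAut_mem_autInducedBy hxS hxN))
  · intro y
    show (y : Ω)⁻¹ * (x * y * x⁻¹) ∈ T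
    have h1 : (y : Ω)⁻¹ * x * ((y : Ω)⁻¹)⁻¹ ∈ T :=
      (Subgroup.mem_normalizer_iff.mp (hSNT (S.inv_mem (hPsS y.2))) x).mp hx.1
    have e : (y : Ω)⁻¹ * (x * y * x⁻¹) = ((y : Ω)⁻¹ * x * ((y : Ω)⁻¹)⁻¹) * x⁻¹ := by group
    rw [e]
    exact T.mul_mem h1 (T.inv_mem hx.1)
  · intro y hyT
    apply Subtype.ext
    show x * (y : Ω) * x⁻¹ = y
    have hyW : (y : Ω) ∈ W := hPsT y y.2 hyT
    have := hx.2 y hyW
    rw [← this]
    group

/-- Let F be a saturated fusion system over a finite p-group S, E a normal subsystem of F over T, and P an F-centric subgroup of S such that P ∩ T is not E-centric. Then some F-conjugate P* of P satisfies Out_S(P*) ∩ O_p(Out_F(P*)) ≠ 1: there is an element of N_S(P*) outside P* whose conjugation action on P* lies in O_p(Aut_F(P*)). In particular P is not both centric and radical in F. -/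
theorem result {Ω : Type*} [Group Ω] {S : Subgroup Ω} [Finite S] (p : ℕ) [Fact p.Prime] (hS : IsPGroup p S) (F : Cfsg.FusionSystem S) (hF : F.IsSaturated p) {T : Subgroup Ω} (E : Cfsg.FusionSystem T) (hE : E.IsNormalIn F p) (P : Subgroup Ω) (hP : F.IsCentric P) (hPT : ¬ E.IsCentric (P ⊓ T)) : (∃ φ ∈ F.Hom P, ∃ x ∈ S ⊓ Subgroup.normalizer (φ.range : Set Ω), x ∉ φ.range ∧ ∃ α ∈ ((Cfsg.pCore p ↥(F.autGroup φ.range)).map (F.autGroup φ.range).subtype : Subgroup (MulAut ↥φ.range)), ∀ y : ↥φ.range, ((α y : ↥φ.range) : Ω) = x * (y : Ω) * x⁻¹) ∧ ¬ F.IsRadical p P := by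
  obtain ⟨⟨-, -, hEsub, hT, -, -⟩, -⟩ := hE
  have hkey := key p hS F hF E hEsub hT P hP.1 hPT
  refine ⟨hkey, fun hrad => ?_⟩
  obtain ⟨φ, hφ, x, hx, hxP, α, hα, hαx⟩ := hkey
  have hrad' : F.IsRadical p φ.range := isRadical_of_iso F hφ rfl hrad
  rw [hrad'.2] at hα
  have hcen : centralizerIn S φ.range ≤ φ.range := hP.2 _ ⟨φ, hφ, rfl⟩
  exact not_mem_inn_of_conj hrad'.1 hcen hx.1 hxP hαx hα

end Cfsg.Agent.S5251
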