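import Cfsg.Statements.S5252
import Cfsg.Agent.Lib.Helper54.FusTransfer
import Cfsg.Agent.S1984
import Cfsg.Agent.Lib.Helper33.TransBasic
import Cfsg.Agent.Lib.Helper33.KInfChar

set_option autoImplicit false
open Cfsg

namespace Cfsg.Agent.S5252

universe u

open Cfsg.Agent.Lib.Helper33 in
/-- For `p ≥ 5` the lower K-infinity functor controls transfer in every finite group, for every
Sylow subgroup. -/
theorem grpCtl_kInf {p : ℕ} [Fact p.Prime] (hp : 5 ≤ p) :
    Cfsg.Agent.Lib.Helper54.FusGrpCtl.GrpCtl.{u} p (fun (Q : Type u) [Group Q] => kInfLower Q) := by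
  intro L _ _ P
  have hWc := isCharPFunctor_kInfLower.{u} p
  obtain ⟨T, hT1, hTp, hTi, heq⟩ := Cfsg.Agent.S1984.result (G := L) hp
  have hfct : Cfsg.FamilyControlsTransferIn p
      ({Cfsg.inducedFunctor (G := L) Cfsg.kInfLower} : Set (Subgroup L → Subgroup L)) ⊤ := by
    refine ⟨T, hT1, hTp, hTi, ?_⟩
    rw [iSup_singleton]
    exact heq
  have h𝓦 : ∀ W' ∈ ({Cfsg.inducedFunctor (G := L) Cfsg.kInfLower} :
      Set (Subgroup L → Subgroup L)), Cfsg.IsConjugacyFunctor p W' := by
    intro W' hW'
    rw [Set.mem_singleton_iff] at hW'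
    rw [hW']
    exact isConjugacyFunctor_induced hWc
  have h1 := focLe_of_fct h𝓦 hfct le_top P.isPGroup'
    (by rw [Subgroup.relIndex_top_right]; exact P.not_dvd_index)
  rw [commutator_def]
  refine h1.trans ?_
  unfold FocW
  rw [iSup_singleton, top_inf_eq]
  exact inf_le_right

open Cfsg.FusionSystem Cfsg.Agent.Lib.Helper87 Cfsg.Agent.Lib.Helper54.FusFoc
  Cfsg.Agent.Lib.Helper54.FusQuot Cfsg.Agent.Lib.Helper54.FusWP Cfsg.Agent.Lib.Helper54.FusCenter
open Cfsg.Agent.Lib.Helper88 (mem_preimageAlong preimageAlong_le preimageAlong_mem)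
open scoped commutatorElement

/-- Every automorphism of `S` in the system is inner. -/
def InnerTop {Ω : Type u} [Group Ω] {S : Subgroup Ω} (F : FusionSystem S) : Prop :=
  ∀ φ ∈ F.Hom S, ∃ s ∈ S, ∀ x : S, φ x = s * (x : Ω) * s⁻¹

theorem focN_top_le_commutator {Ω : Type u} [Group Ω] {S : Subgroup Ω} (F : FusionSystem S)
    (hin : InnerTop F) : focN F S ≤ ⁅S, S⁆ := by
  refine (Subgroup.closure_le _).mpr ?_
  rintro y ⟨P, φ, x, ⟨hφ, hPN, hval, ψ, hψ, hext, hmap⟩, rfl⟩
  have hPS : P ≤ S := hom_le F hφ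
  have e : P ⊔ S = S := sup_eq_right.mpr hPS
  obtain ⟨s, hs, hconj⟩ := hin _ (cast_mem F e hψ)
  have h1 : φ x = s * (x : Ω) * s⁻¹ := by
    rw [← hext x]
    exact hconj ⟨x, hPS x.2⟩
  rw [h1]
  have e2 : (x : Ω)⁻¹ * (s * (x : Ω) * s⁻¹) = ⁅(x : Ω)⁻¹, s⁆ := by
    rw [commutatorElement_def]; group
  rw [e2]
  exact Subgroup.commutator_mem_commutator (S.inv_mem (hPS x.2)) hs

theorem commutator_lt_of_isPGroup {Ω : Type u} [Group Ω] {S : Subgroup Ω} [Finite S] {p : ℕ}
    [Fact p.Prime] (hS : IsPGroup p S) (hS1 : S ≠ ⊥) : ¬ S ≤ ⁅S, S⁆ := by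
  intro hle
  haveI : Nontrivial S := (Subgroup.nontrivial_iff_ne_bot S).mpr hS1
  haveI : Group.IsNilpotent S := hS.isNilpotent
  haveI : Group.IsSolvable S := inferInstance
  have h1 : _root_.commutator S < ⊤ := Group.IsSolvable.commutator_lt_top_of_nontrivial S
  apply h1.ne
  rw [eq_top_iff]
  intro x _
  have h2 : (x : Ω) ∈ ⁅S, S⁆ := hle x.2
  rw [← Subgroup.map_subtype_commutator] at h2
  obtain ⟨y, hy, hyx⟩ := h2
  have : y = x := Subtype.ext hyx
  rw [← this]
  exact hy

/-- The main induction. -/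
theorem not_le_focal {p : ℕ} [Fact p.Prime] (hp : 5 ≤ p) :
    ∀ (n : ℕ) (Ω : Type u) [Group Ω] (S : Subgroup Ω) [Finite S], IsPGroup p S → Nat.card S = n →
      S ≠ ⊥ → ∀ F : FusionSystem S, F.IsSaturated p → InnerTop F → ¬ S ≤ F.focalSubgroup := by
  intro n
  induction n using Nat.strong_induction_on with
  | _ n ih =>
  intro Ω _ S _ hS hn hS1 F hF hin hle
  have hWc := Cfsg.Agent.Lib.Helper33.isCharPFunctor_kInfLower.{u} p
  have hctl := Cfsg.Agent.Lib.Helper54.FusTransfer.transfer_main _ hWc.1 hWc.2 (grpCtl_kInf hp)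
    _ Ω S hS rfl F hF
  have hle2 : S ≤ focN F (inducedFunctor (fun (Q : Type u) [Group Q] => kInfLower Q) S) :=
    hle.trans hctl
  have hKS : inducedFunctor (fun (Q : Type u) [Group Q] => kInfLower Q) S ≤ S := induced_le _ S
  have hTS := normalizerIn_induced_top hS hWc.2
  by_cases hKeq : inducedFunctor (fun (Q : Type u) [Group Q] => kInfLower Q) S = S
  · rw [hKeq] at hle2
    exact commutator_lt_of_isPGroup hS hS1 (hle2.trans (focN_top_le_commutator F hin))
  · have hK1 : inducedFunctor (fun (Q : Type u) [Group Q] => kInfLower Q) S ≠ ⊥ := by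
      haveI : Nontrivial S := (Subgroup.nontrivial_iff_ne_bot S).mpr hS1
      have h1 := hWc.1 _ hS inferInstance
      unfold inducedFunctor
      rw [Ne, Subgroup.map_eq_bot_iff_of_injective _ (Subgroup.subtype_injective _)]
      exact h1
    have hKfn : F.IsFullyNormalized _ := fullyNormalized_of_normalizerIn_eq F hKS hTS
    have hN := isNormalizerSystem_normalizerSystem F _ hKS
    have hNsat := Cfsg.Agent.S5098.result p hS F hF _ hKfn _ hN
    have hKn := normalizerSystem_isNormal F hKS hN
    have hKsc := stronglyClosed_of_isNormal _ hKn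
    have hTle : normalizerIn S (inducedFunctor (fun (Q : Type u) [Group Q] => kInfLower Q) S) ≤ S :=
      inf_le_left
    haveI : Finite (normalizerIn S
        (inducedFunctor (fun (Q : Type u) [Group Q] => kInfLower Q) S)) := finite_of_le hTle
    have hTp : IsPGroup p (normalizerIn S
        (inducedFunctor (fun (Q : Type u) [Group Q] => kInfLower Q) S)) := hS.to_le hTle
    have hKT : inducedFunctor (fun (Q : Type u) [Group Q] => kInfLower Q) S ≤
        normalizerIn S (inducedFunctor (fun (Q : Type u) [Group Q] => kInfLower Q) S) := hKn.1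
    have hnorm := stronglyClosed_le_normalizer _ hKsc
    haveI : ((inducedFunctor (fun (Q : Type u) [Group Q] => kInfLower Q) S).subgroupOf
        (normalizerIn S (inducedFunctor (fun (Q : Type u) [Group Q] => kInfLower Q) S))).Normal :=
      (Subgroup.normal_subgroupOf_iff_le_normalizer hKT).mpr hnorm
    obtain ⟨E, hE⟩ := Cfsg.Agent.S5132.result p hTp _ _ hKsc
    have hsurj := Cfsg.Agent.S5134.result p hTp _ hNsat _ hKsc _ E hE
    have hEsat := Cfsg.Agent.S5133.result p hTp _ hNsat E _ hsurj
    obtain ⟨-, hker, hrange, -⟩ := hE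
    haveI : Finite (↥(normalizerIn S (inducedFunctor (fun (Q : Type u) [Group Q] => kInfLower Q) S)) ⧸
        (inducedFunctor (fun (Q : Type u) [Group Q] => kInfLower Q) S).subgroupOf
        (normalizerIn S (inducedFunctor (fun (Q : Type u) [Group Q] => kInfLower Q) S))) :=
      inferInstance
    have hS' : IsPGroup p (⊤ : Subgroup (↥(normalizerIn S
        (inducedFunctor (fun (Q : Type u) [Group Q] => kInfLower Q) S)) ⧸
        (inducedFunctor (fun (Q : Type u) [Group Q] => kInfLower Q) S).subgroupOf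
        (normalizerIn S (inducedFunctor (fun (Q : Type u) [Group Q] => kInfLower Q) S)))) :=
      (hTp.to_quotient _).to_subgroup ⊤
    -- cardinalities
    haveI : Finite (inducedFunctor (fun (Q : Type u) [Group Q] => kInfLower Q) S) :=
      finite_of_le hKS
    have hcardK : Nat.card ((inducedFunctor (fun (Q : Type u) [Group Q] => kInfLower Q) S).subgroupOf
        (normalizerIn S (inducedFunctor (fun (Q : Type u) [Group Q] => kInfLower Q) S))) =
        Nat.card (inducedFunctor (fun (Q : Type u) [Group Q] => kInfLower Q) S) :=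
      Nat.card_congr (Subgroup.subgroupOfEquivOfLe hKT).toEquiv
    have hcardT : Nat.card (normalizerIn S
        (inducedFunctor (fun (Q : Type u) [Group Q] => kInfLower Q) S)) = n := by
      rw [hTS]; exact hn
    have hmul := Subgroup.card_eq_card_quotient_mul_card_subgroup
      ((inducedFunctor (fun (Q : Type u) [Group Q] => kInfLower Q) S).subgroupOf
        (normalizerIn S (inducedFunctor (fun (Q : Type u) [Group Q] => kInfLower Q) S)))
    rw [hcardK, hcardT] at hmul
    have hK2 : 1 < Nat.card (inducedFunctor (fun (Q : Type u) [Group Q] => kInfLower Q) S) :=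
      (Subgroup.one_lt_card_iff_ne_bot _).mpr hK1
    have hq0 : 0 < Nat.card (↥(normalizerIn S
        (inducedFunctor (fun (Q : Type u) [Group Q] => kInfLower Q) S)) ⧸
        (inducedFunctor (fun (Q : Type u) [Group Q] => kInfLower Q) S).subgroupOf
        (normalizerIn S (inducedFunctor (fun (Q : Type u) [Group Q] => kInfLower Q) S))) :=
      Nat.card_pos
    have hlt : Nat.card (⊤ : Subgroup (↥(normalizerIn S
        (inducedFunctor (fun (Q : Type u) [Group Q] => kInfLower Q) S)) ⧸
        (inducedFunctor (fun (Q : Type u) [Group Q] => kInfLower Q) S).subgroupOf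
        (normalizerIn S (inducedFunctor (fun (Q : Type u) [Group Q] => kInfLower Q) S)))) < n := by
      rw [Subgroup.card_top, hmul]
      nlinarith
    have hq1 : 1 < Nat.card (↥(normalizerIn S
        (inducedFunctor (fun (Q : Type u) [Group Q] => kInfLower Q) S)) ⧸
        (inducedFunctor (fun (Q : Type u) [Group Q] => kInfLower Q) S).subgroupOf
        (normalizerIn S (inducedFunctor (fun (Q : Type u) [Group Q] => kInfLower Q) S))) := by
      by_contra hcon
      have h1 : Nat.card (↥(normalizerIn S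
        (inducedFunctor (fun (Q : Type u) [Group Q] => kInfLower Q) S)) ⧸
        (inducedFunctor (fun (Q : Type u) [Group Q] => kInfLower Q) S).subgroupOf
        (normalizerIn S (inducedFunctor (fun (Q : Type u) [Group Q] => kInfLower Q) S))) = 1 := by
        omega
      rw [h1, one_mul] at hmul
      apply hKeq
      apply Subgroup.eq_of_le_of_card_ge hKS
      rw [hn, hmul]
    have hS'1 : (⊤ : Subgroup (↥(normalizerIn S
        (inducedFunctor (fun (Q : Type u) [Group Q] => kInfLower Q) S)) ⧸
        (inducedFunctor (fun (Q : Type u) [Group Q] => kInfLower Q) S).subgroupOf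
        (normalizerIn S (inducedFunctor (fun (Q : Type u) [Group Q] => kInfLower Q) S)))) ≠ ⊥ := by
      intro h
      have h2 : Nat.card (⊤ : Subgroup (↥(normalizerIn S
        (inducedFunctor (fun (Q : Type u) [Group Q] => kInfLower Q) S)) ⧸
        (inducedFunctor (fun (Q : Type u) [Group Q] => kInfLower Q) S).subgroupOf
        (normalizerIn S (inducedFunctor (fun (Q : Type u) [Group Q] => kInfLower Q) S)))) = 1 := by
        rw [h]; exact Subgroup.card_bot
      rw [Subgroup.card_top] at h2
      omega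
    -- `E` has inner top automizer
    have hinE : InnerTop E := by
      intro φ' hφ'
      obtain ⟨φ, hφ, hPt, hφT, hPt', hind⟩ := hsurj.2.2 ⊤ le_rfl φ' hφ'
      have hφF : φ ∈ F.Hom _ := hφ.1
      have e : preimageAlong (QuotientGroup.mk'
          ((inducedFunctor (fun (Q : Type u) [Group Q] => kInfLower Q) S).subgroupOf
          (normalizerIn S (inducedFunctor (fun (Q : Type u) [Group Q] => kInfLower Q) S)))) ⊤ = S := by
        ext x
        rw [mem_preimageAlong]
        constructor
        · rintro ⟨hx, -⟩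
          exact hTle hx
        · intro hx
          exact ⟨hTS.ge hx, Subgroup.mem_top _⟩
      obtain ⟨s, hs, hconj⟩ := hin _ (cast_mem F e hφF)
      have hsT : s ∈ normalizerIn S
          (inducedFunctor (fun (Q : Type u) [Group Q] => kInfLower Q) S) := hTS.ge hs
      refine ⟨QuotientGroup.mk' _ ⟨s, hsT⟩, Subgroup.mem_top _, fun y => ?_⟩
      obtain ⟨t, ht⟩ := QuotientGroup.mk'_surjective
        ((inducedFunctor (fun (Q : Type u) [Group Q] => kInfLower Q) S).subgroupOf
          (normalizerIn S (inducedFunctor (fun (Q : Type u) [Group Q] => kInfLower Q) S))) (y : _)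
      have htP : (t : Ω) ∈ preimageAlong (QuotientGroup.mk'
          ((inducedFunctor (fun (Q : Type u) [Group Q] => kInfLower Q) S).subgroupOf
          (normalizerIn S (inducedFunctor (fun (Q : Type u) [Group Q] => kInfLower Q) S)))) ⊤ :=
        mem_preimageAlong.mpr ⟨t.2, Subgroup.mem_top _⟩
      have h3 := hind ⟨t, htP⟩
      have e2 : (⟨QuotientGroup.mk' _ ⟨(t : Ω), hPt htP⟩, hPt' ⟨t, htP⟩⟩ :
          (⊤ : Subgroup (↥(normalizerIn S
          (inducedFunctor (fun (Q : Type u) [Group Q] => kInfLower Q) S)) ⧸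
          (inducedFunctor (fun (Q : Type u) [Group Q] => kInfLower Q) S).subgroupOf
          (normalizerIn S (inducedFunctor (fun (Q : Type u) [Group Q] => kInfLower Q) S))))) = y :=
        Subtype.ext ht
      rw [e2] at h3
      rw [h3]
      have h4 : φ ⟨t, htP⟩ = s * (t : Ω) * s⁻¹ := hconj ⟨t, hTle t.2⟩
      have e3 : (⟨φ ⟨t, htP⟩, hφT _⟩ : ↥(normalizerIn S
          (inducedFunctor (fun (Q : Type u) [Group Q] => kInfLower Q) S))) =
          ⟨s, hsT⟩ * t * ⟨s, hsT⟩⁻¹ := Subtype.ext h4
      rw [e3, map_mul, map_mul, map_inv, ht]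
    -- contradiction
    apply ih _ hlt _ ⊤ hS' rfl hS'1 E hEsat hinE
    intro y _
    obtain ⟨t, rfl⟩ := QuotientGroup.mk'_surjective
        ((inducedFunctor (fun (Q : Type u) [Group Q] => kInfLower Q) S).subgroupOf
          (normalizerIn S (inducedFunctor (fun (Q : Type u) [Group Q] => kInfLower Q) S))) y
    have htf : (t : Ω) ∈ (normalizerSystem F _ hKS).focalSubgroup := by
      rw [focal_eq_focN F _ _ hN]
      exact hle2 (hTle t.2)
    exact focal_map _ E _ hsurj.1 _ htf t.2

/-- Let p ≥ 5 be a prime and F a saturated fusion system over a nontrivial finite p-group S such that Aut_F(S) is a p-group. Then the focal subgroup of F is a proper subgroup of S. -/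
theorem result {Ω : Type*} [Group Ω] {S : Subgroup Ω} [Finite S] (p : ℕ) [Fact p.Prime] (hS : IsPGroup p S) (F : Cfsg.FusionSystem S) (hF : F.IsSaturated p) (hp : 5 ≤ p) (hS1 : S ≠ ⊥) (haut : IsPGroup p ↥(F.autGroup S)) : F.focalSubgroup < S := by
  have hSfn : F.IsFullyNormalized S :=
    Cfsg.Agent.Lib.Helper87.fullyNormalized_of_le_normalizer F le_rfl Subgroup.le_normalizer
  have hfa := (Cfsg.Agent.Lib.Helper87.fc_fa_of_fullyNormalized hS F hF hSfn).2
  have hin : InnerTop F := by
    intro φ hφ
    obtain ⟨γ, hγ, hγe⟩ := Cfsg.Agent.Lib.Helper87.exists_aut_of_hom F hφ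
      (fun z => Cfsg.Agent.Lib.Helper87.hom_mem_S F hφ z)
    have h1 := Cfsg.Agent.Lib.Helper87.autGroup_le_autS_of_isPGroup F hfa haut hγ
    obtain ⟨g, hg, hge⟩ := (Cfsg.Agent.Lib.Helper87.mem_autInducedBy_iff S S γ).mp h1
    exact ⟨g, hg, fun x => by rw [← hγe x, hge x]⟩
  refine lt_of_le_of_ne (Cfsg.Agent.Lib.Helper54.FusFoc.focal_le_S F) ?_
  intro h
  exact not_le_focal hp _ Ω S hS rfl hS1 F hF hin h.ge

end Cfsg.Agent.S5252
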