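import Cfsg.Statements.S5254
import Cfsg.Agent.Lib.Helper87.EssentialIndexP3

set_option autoImplicit false
open Cfsg

namespace Cfsg.Agent.S5254

open Cfsg.FusionSystem Cfsg.Agent.Lib.Helper87

/-- Let p be an odd prime, S a finite nonabelian p-group with a unique abelian subgroup A of index p, and F a saturated fusion system over S. Then every F-essential subgroup P is A, or Z(S)⟨x⟩ for some x ∈ S outside A, or (when the second centre Z₂(S) lies in A) Z₂(S)⟨x⟩ for some x ∈ S outside A; and P has index p in its normalizer in S. -/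
theorem result {Ω : Type*} [Group Ω] {S : Subgroup Ω} [Finite S] (p : ℕ) [Fact p.Prime] (hS : IsPGroup p S) (F : Cfsg.FusionSystem S) (hF : F.IsSaturated p) (hp : p ≠ 2) (hna : ¬ IsMulCommutative ↥S) (A : Subgroup Ω) (hA : A ≤ S ∧ IsMulCommutative ↥A ∧ (A.subgroupOf S).index = p) (huniq : ∀ B : Subgroup Ω, B ≤ S → IsMulCommutative ↥B → (B.subgroupOf S).index = p → B = A) (P : Subgroup Ω) (hP : F.IsEssential p P) : (P = A ∨ (∃ x ∈ S, x ∉ A ∧ P = (S ⊓ Subgroup.centralizer (S : Set Ω)) ⊔ Subgroup.zpowers x) ∨ (((upperCentralSeries ↥S 2).map S.subtype) ≤ A ∧ ∃ x ∈ S, x ∉ A ∧ P = ((upperCentralSeries ↥S 2).map S.subtype) ⊔ Subgroup.zpowers x)) ∧ (P.subgroupOf (S ⊓ Subgroup.normalizer (P : Set Ω))).index = p := by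
  obtain ⟨hAS, hAcomm, hAi⟩ := hA
  have hAc : ∀ a ∈ A, ∀ b ∈ A, a * b = b * a := by
    intro a ha b hb
    have := (isMulCommutative_iff.mp hAcomm) ⟨a, ha⟩ ⟨b, hb⟩
    exact congrArg Subtype.val this
  have hna' : ∃ s ∈ S, ∃ t ∈ S, s * t ≠ t * s := by
    by_contra hcon
    push Not at hcon
    apply hna
    rw [isMulCommutative_iff]
    intro a b
    exact Subtype.ext (hcon a a.2 b b.2)
  have hPS : P ≤ S := hP.2.1.1
  have hcen : centralizerIn S P ≤ P := hP.1.2 P (isConj_refl F hPS)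
  have hfinA : Finite A := finite_of_le hAS
  by_cases hPA : P ≤ A
  · have hAP : A ≤ P := by
      intro a ha
      apply hcen
      refine ⟨hAS ha, Subgroup.mem_centralizer_iff.mpr fun y hy => ?_⟩
      exact hAc y (hPA hy) a ha
    have hPeq : P = A := le_antisymm hPA hAP
    refine ⟨Or.inl hPeq, ?_⟩
    rw [hPeq]
    have hSN : S ≤ Subgroup.normalizer (A : Set Ω) := by
      intro s hs
      apply Cfsg.Agent.Lib.Helper88.mem_normalizer_of_conj_mem_finite
      intro a ha
      exact aip_conj_mem hS hAS hAi hs ha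
    have e : S ⊓ Subgroup.normalizer (A : Set Ω) = S := inf_eq_left.mpr hSN
    rw [e]
    exact hAi
  · obtain ⟨x, hxP, hxA⟩ := SetLike.not_le_iff_exists.mp hPA
    have hxS : x ∈ S := hPS hxP
    obtain ⟨hidx, hab, hnab⟩ := aip_structure hS F hF hAS hAc hAi hna' hP hxP hxA
    refine ⟨Or.inr ?_, hidx⟩
    have hgen : ∀ Z : Subgroup Ω, P ⊓ A = Z → P = Z ⊔ Subgroup.zpowers x := by
      intro Z hZ
      apply le_antisymm
      · intro y hy
        obtain ⟨k, b, hb, hbP, rfl⟩ := aip_decomp hS hAS hAi hPS hxP hxA hy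
        have h1 : x ^ k ∈ Subgroup.zpowers x := Subgroup.zpow_mem_zpowers x k
        have h2 : b ∈ Z := hZ ▸ (⟨hbP, hb⟩ : b ∈ P ⊓ A)
        exact Subgroup.mul_mem _ (Subgroup.mem_sup_right h1) (Subgroup.mem_sup_left h2)
      · apply sup_le
        · rw [← hZ]; exact inf_le_left
        · exact (Subgroup.zpowers_le).mpr hxP
    by_cases hPab : ∀ y ∈ P, ∀ z ∈ P, y * z = z * y
    · left
      exact ⟨x, hxS, hxA, hgen _ (hab hPab)⟩
    · right
      push Not at hPab
      have h1 := hnab hPab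
      have h1' : P ⊓ A = (upperCentralSeries ↥S 2).map S.subtype := h1
      refine ⟨?_, x, hxS, hxA, hgen _ h1'⟩
      rw [← h1']
      exact inf_le_right

end Cfsg.Agent.S5254
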