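import Cfsg.Statements.S5257
import Cfsg.Agent.Lib.Helper87.EssentialIndexP4

set_option autoImplicit false
open Cfsg

namespace Cfsg.Agent.S5257

open Cfsg.FusionSystem Cfsg.Agent.Lib.Helper87

/-- Let p be an odd prime, S a finite nonabelian p-group with a unique abelian subgroup A of index p, and F a saturated fusion system over S having an F-essential subgroup other than A. Then the second centre Z₂(S) lies in A; Z(S) ∩ [S, S] has order p; Z(S)[S, S] has index p in A; Z(S) has index p in Z₂(S); and S/Z(S) has maximal nilpotency class (if S/Z(S) has order pᵐ with m ≥ 3 then the term of index m − 2 of the lower central series of S, counting S as index 0, is not contained in Z(S)). -/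
theorem result {Ω : Type*} [Group Ω] {S : Subgroup Ω} [Finite S] (p : ℕ) [Fact p.Prime] (hS : IsPGroup p S) (F : Cfsg.FusionSystem S) (hF : F.IsSaturated p) (hp : p ≠ 2) (hna : ¬ IsMulCommutative ↥S) (A : Subgroup Ω) (hA : A ≤ S ∧ IsMulCommutative ↥A ∧ (A.subgroupOf S).index = p) (huniq : ∀ B : Subgroup Ω, B ≤ S → IsMulCommutative ↥B → (B.subgroupOf S).index = p → B = A) (P : Subgroup Ω) (hP : F.IsEssential p P) (hPA : P ≠ A) : ((upperCentralSeries ↥S 2).map S.subtype) ≤ A ∧ Nat.card ↥((S ⊓ Subgroup.centralizer (S : Set Ω)) ⊓ ((commutator ↥S).map S.subtype)) = p ∧ (((S ⊓ Subgroup.centralizer (S : Set Ω)) ⊔ ((commutator ↥S).map S.subtype)).subgroupOf A).index = p ∧ (((S ⊓ Subgroup.centralizer (S : Set Ω))).subgroupOf ((upperCentralSeries ↥S 2).map S.subtype)).index = p ∧ ∀ m : ℕ, ((S ⊓ Subgroup.centralizer (S : Set Ω)).subgroupOf S).index = p ^ m → 3 ≤ m → ¬ Subgroup.lowerCentralSeries S (m - 2) ≤ (S ⊓ Subgroup.centralizer (S : Set Ω)) := by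
  obtain ⟨hAS, hAcomm, hAi⟩ := hA
  have hAc : ∀ a ∈ A, ∀ b ∈ A, a * b = b * a := by
    intro a ha b hb
    have := (isMulCommutative_iff.mp hAcomm) ⟨a, ha⟩ ⟨b, hb⟩
    exact congrArg Subtype.val this
  have hna' : ∃ s ∈ S, ∃ t ∈ S, s * t ≠ t * s := by
    by_contra hcon
    push Not at hcon
    apply hna
    rw [isMulCommutative_iff]
    intro a b
    exact Subtype.ext (hcon a a.2 b b.2)
  have huniq' : ∀ B : Subgroup Ω, B ≤ S → (∀ a ∈ B, ∀ b ∈ B, a * b = b * a) →
      (B.subgroupOf S).index = p → B = A := by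
    intro B hBS hBc hBi
    refine huniq B hBS ?_ hBi
    rw [isMulCommutative_iff]
    intro a b
    exact Subtype.ext (hBc a a.2 b b.2)
  have hPS : P ≤ S := hP.2.1.1
  have hcen : centralizerIn S P ≤ P := hP.1.2 P (isConj_refl F hPS)
  have hPnle : ¬ P ≤ A := by
    intro hle
    apply hPA
    apply le_antisymm hle
    intro a ha
    apply hcen
    refine ⟨hAS ha, Subgroup.mem_centralizer_iff.mpr fun y hy => ?_⟩
    exact hAc y (hle hy) a ha
  obtain ⟨x, hxP, hxA⟩ := SetLike.not_le_iff_exists.mp hPnle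
  have hxS : x ∈ S := hPS hxP
  obtain ⟨hZ2A, hrel⟩ := aip_second_center hS F hF hAS hAc hAi hna' huniq' hP hxP hxA
  obtain ⟨h1, h2, h3⟩ := aip_maxclass hS hAS hAc hAi hna' hxS hxA hZ2A hrel
  have hcomm : (commutator ↥S).map S.subtype = ⁅S, S⁆ := by
    rw [commutator_def, Subgroup.map_commutator, ← MonoidHom.range_eq_map, Subgroup.range_subtype]
  rw [hcomm]
  exact ⟨hZ2A, h1, h2, hrel, h3⟩

end Cfsg.Agent.S5257
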