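import Cfsg.Statements.S5265
import Cfsg.Agent.Lib.Helper87.SmallIndexFinal2

set_option autoImplicit false
open Cfsg

namespace Cfsg.Agent.S5265

open Cfsg.FusionSystem Cfsg.Agent.Lib.Helper87

/-- Let p be a prime, S a nontrivial finite p-group whose centre has index at most p², and F a saturated fusion system over S with no nontrivial normal subgroup and with hyperfocal subgroup equal to S. Then S is extraspecial of order p³; for odd p it has exponent p, and for p = 2 it is dihedral of order 8. -/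
theorem result {Ω : Type*} [Group Ω] {S : Subgroup Ω} [Finite S] (p : ℕ) [Fact p.Prime] (hS : IsPGroup p ↥S) (F : Cfsg.FusionSystem S) (hF : F.IsSaturated p) (hS1 : S ≠ ⊥) (hcore : F.core = ⊥) (hhyp : F.hyperfocalSubgroup p = S) (hZ : (Subgroup.center ↥S).index ≤ p ^ 2) : Cfsg.IsExtraspecial p ↥S ∧ Nat.card S = p ^ 3 ∧ (p ≠ 2 → Monoid.exponent ↥S = p) ∧ (p = 2 → Nonempty (↥S ≃* DihedralGroup 4)) := by
  have hna := si_nonabelian hS F hF hS1 hcore
  have C : SICtx S p F := ⟨hS, hF, hna, si_card hS hna hZ⟩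
  have hfoc : F.focalSubgroup = S := by
    have h := Cfsg.Agent.Lib.Helper88.hyperfocal_le_focal F p
    rw [hhyp] at h
    exact le_antisymm (focal_le_top F) h
  have key : Nat.card ↥(ZZ S) = p ∧ (p = 2 → Nonempty (↥S ≃* DihedralGroup 4)) := by
    by_cases hp2 : p = 2
    · subst hp2
      obtain ⟨P, hP, -⟩ := C.exists_good hcore
      obtain ⟨hZP, hPS, hPZ, hPne⟩ := C.ess hP
      obtain ⟨A, -, -, -, -, -, hZ0⟩ := si_data C.hS C.hcard C.hna hZP hPS hPZ hPne
      obtain ⟨z₀, T⟩ := SI2.exists_of_card C hZ0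
      have h1 := T.center_two hcore hfoc
      have h2 := T.card_center hcore hfoc
      exact ⟨h2, fun _ => T.dihedral hcore h1 h2⟩
    · exact ⟨C.card_center_odd hp2 hcore, fun h => absurd h hp2⟩
  obtain ⟨hZp, hdih⟩ := key
  refine ⟨C.extraspecial hZp, ?_, fun hp2 => C.exponent_odd hp2 hcore hZp, hdih⟩
  rw [C.hcard, hZp]
  ring

end Cfsg.Agent.S5265
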