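import Cfsg.Statements.S5270
import Cfsg.Agent.Lib.Helper87.MaxClassCenter
import Cfsg.Agent.Lib.Helper87.EssentialCrit

set_option autoImplicit false
open Cfsg Cfsg.FusionSystem
open Cfsg.Agent.Lib.Helper87

namespace Cfsg.Agent.S5270

theorem conj_mem_map_of_normal {Ω : Type*} [Group Ω] {S : Subgroup Ω} (N : Subgroup ↥S) [hN : N.Normal] :
    ∀ s ∈ S, ∀ a ∈ N.map S.subtype, s * a * s⁻¹ ∈ N.map S.subtype := by
  rintro s hs _ ⟨a, ha, rfl⟩
  have hmem : (⟨s, hs⟩ : S) * a * (⟨s, hs⟩ : S)⁻¹ ∈ N := hN.conj_mem a ha ⟨s, hs⟩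
  exact ⟨_, hmem, rfl⟩

theorem map_comm_of_card_sq {Ω : Type*} [Group Ω] {S : Subgroup Ω} {p : ℕ} [Fact p.Prime]
    (N : Subgroup ↥S) (h2 : Nat.card N = p ^ 2) :
    ∀ a ∈ N.map S.subtype, ∀ b ∈ N.map S.subtype, a * b = b * a := by
  rintro _ ⟨a, ha, rfl⟩ _ ⟨b, hb, rfl⟩
  have hc := IsPGroup.isMulCommutative_of_card_eq_prime_sq h2
  have h := hc.is_comm.comm ⟨a, ha⟩ ⟨b, hb⟩
  have h' := congrArg (fun z : ↥N => ((z : ↥S) : Ω)) h
  exact h'

theorem mem_map_subtype_iff {Ω : Type*} [Group Ω] {S : Subgroup Ω} (N : Subgroup ↥S) (s : S) :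
    (s : Ω) ∈ N.map S.subtype ↔ s ∈ N := by
  constructor
  · rintro ⟨y, hy, hys⟩
    have : y = s := Subtype.ext hys
    exact this ▸ hy
  · intro hs
    exact ⟨s, hs, rfl⟩

/-- Let p ≥ 5 be a prime, S a finite p-group of maximal class of order p^n with n ≥ 4, and F a saturated fusion system over S. If some map of F defined on the second centre Z₂(S) with image Z₂(S) does not carry Z(S) into itself, then the centralizer C_S(Z₂(S)) is an F-essential subgroup. -/
theorem result {Ω : Type*} [Group Ω] {S : Subgroup Ω} [Finite S] (p : ℕ) [Fact p.Prime] (hS : IsPGroup p ↥S) (n : ℕ) (hn : Nat.card S = p ^ n) (h4 : 4 ≤ n) (hmax : Subgroup.lowerCentralSeries S (n - 2) ≠ ⊥) (F : Cfsg.FusionSystem S) (hF : F.IsSaturated p) (hp : 5 ≤ p) (φ : ↥((Subgroup.upperCentralSeries ↥S 2).map S.subtype) →* Ω) (hφ : φ ∈ F.Hom ((Subgroup.upperCentralSeries ↥S 2).map S.subtype)) (hφZ : φ.range = ((Subgroup.upperCentralSeries ↥S 2).map S.subtype)) (hmove : ∃ (z : Ω) (hz : z ∈ ((Subgroup.upperCentralSeries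 ↥S 2).map S.subtype)), z ∈ ((Subgroup.center ↥S).map S.subtype) ∧ φ ⟨z, hz⟩ ∉ ((Subgroup.center ↥S).map S.subtype)) : F.IsEssential p (S ⊓ Subgroup.centralizer (((Subgroup.upperCentralSeries ↥S 2).map S.subtype) : Set Ω)) := by
  have hpp : p.Prime := Fact.out
  -- group-theoretic facts inside `S`
  have hmax' : (⊤ : Subgroup ↥S).lowerCentralSeries (n - 2) ≠ ⊥ := by
    intro h
    apply hmax
    rw [← Subgroup.top_subtype_lowerCentralSeries S (n - 2), h, Subgroup.map_bot]
  obtain ⟨h1, h2⟩ := card_center_of_maxClass n h4 hn hmax'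
  have hidx := index_centralizer_second_center h1 h2
  have hZ₂S : (Subgroup.upperCentralSeries ↥S 2).map S.subtype ≤ S := by
    rintro _ ⟨y, -, rfl⟩
    exact y.2
  have hZ₂mem : ∀ s : S, (s : Ω) ∈ (Subgroup.upperCentralSeries ↥S 2).map S.subtype ↔
      s ∈ Subgroup.upperCentralSeries ↥S 2 := mem_map_subtype_iff _
  have hZmem : ∀ s : S, (s : Ω) ∈ (Subgroup.center ↥S).map S.subtype ↔ s ∈ Subgroup.center ↥S :=
    mem_map_subtype_iff _
  have hZ₂comm : ∀ a ∈ (Subgroup.upperCentralSeries ↥S 2).map S.subtype,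
      ∀ b ∈ (Subgroup.upperCentralSeries ↥S 2).map S.subtype, a * b = b * a :=
    map_comm_of_card_sq _ h2
  have hconj : ∀ s ∈ S, ∀ a ∈ (Subgroup.upperCentralSeries ↥S 2).map S.subtype,
      s * a * s⁻¹ ∈ (Subgroup.upperCentralSeries ↥S 2).map S.subtype :=
    conj_mem_map_of_normal _
  have hZ₂N : S ≤ Subgroup.normalizer
      (((Subgroup.upperCentralSeries ↥S 2).map S.subtype : Subgroup Ω) : Set Ω) := by
    intro s hs
    rw [Subgroup.mem_normalizer_iff]
    intro x
    constructor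
    · exact hconj s hs x
    · intro h
      have := hconj s⁻¹ (S.inv_mem hs) _ h
      have e : s⁻¹ * (s * x * s⁻¹) * s⁻¹⁻¹ = x := by group
      rwa [e] at this
  -- C inside S is the centralizer of the second centre
  have hCsub : (centralizerIn S ((Subgroup.upperCentralSeries ↥S 2).map S.subtype)).subgroupOf S =
      Subgroup.centralizer (Subgroup.upperCentralSeries ↥S 2 : Set ↥S) := by
    ext s
    rw [Subgroup.mem_subgroupOf, Subgroup.mem_centralizer_iff]
    show (s : Ω) ∈ S ⊓ Subgroup.centralizer _ ↔ _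
    rw [Subgroup.mem_inf, Subgroup.mem_centralizer_iff]
    constructor
    · rintro ⟨-, hs⟩ y hy
      exact Subtype.ext (hs y ((hZ₂mem y).mpr hy))
    · intro h
      refine ⟨s.2, ?_⟩
      rintro _ ⟨y, hy, rfl⟩
      exact congrArg (fun z : ↥S => (z : Ω)) (h y hy)
  have hCidx : ((centralizerIn S ((Subgroup.upperCentralSeries ↥S 2).map S.subtype)).subgroupOf S).index
      = p := by rw [hCsub]; exact hidx
  have hCne : centralizerIn S ((Subgroup.upperCentralSeries ↥S 2).map S.subtype) ≠ S := by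
    intro h
    rw [h, Subgroup.subgroupOf_self, Subgroup.index_top] at hCidx
    exact hpp.one_lt.ne hCidx
  have hmaxl : ∀ Q : Subgroup Ω,
      centralizerIn S ((Subgroup.upperCentralSeries ↥S 2).map S.subtype) < Q → Q ≤ S → Q = S := by
    intro Q hCQ hQS
    have hle : (centralizerIn S ((Subgroup.upperCentralSeries ↥S 2).map S.subtype)).subgroupOf S ≤
        Q.subgroupOf S := fun x hx => hCQ.le hx
    have hdvd : (Q.subgroupOf S).index ∣ p := hCidx ▸ Subgroup.index_dvd_of_le hle
    rcases (Nat.dvd_prime hpp).mp hdvd with h | h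
    · rw [Subgroup.index_eq_one] at h
      apply le_antisymm hQS
      intro s hs
      have : (⟨s, hs⟩ : S) ∈ Q.subgroupOf S := h ▸ Subgroup.mem_top _
      exact this
    · exfalso
      have hcard : Nat.card ↥(Q.subgroupOf S) ≤
          Nat.card ↥((centralizerIn S ((Subgroup.upperCentralSeries ↥S 2).map S.subtype)).subgroupOf S) := by
        have e1 := Subgroup.card_mul_index (Q.subgroupOf S)
        have e2 := Subgroup.card_mul_index
          ((centralizerIn S ((Subgroup.upperCentralSeries ↥S 2).map S.subtype)).subgroupOf S)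
        rw [h] at e1
        rw [hCidx] at e2
        have : Nat.card ↥(Q.subgroupOf S) * p =
            Nat.card ↥((centralizerIn S
              ((Subgroup.upperCentralSeries ↥S 2).map S.subtype)).subgroupOf S) * p := by
          rw [e1, e2]
        exact (Nat.eq_of_mul_eq_mul_right hpp.pos this).le
      have heq := Subgroup.eq_of_le_of_card_ge hle hcard
      apply hCQ.ne
      apply le_antisymm hCQ.le
      intro x hx
      have : (⟨x, hQS hx⟩ : S) ∈
          (centralizerIn S ((Subgroup.upperCentralSeries ↥S 2).map S.subtype)).subgroupOf S :=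
        heq ▸ (show (⟨x, hQS hx⟩ : S) ∈ Q.subgroupOf S from hx)
      exact this
  -- the centre is invariant under F-automorphisms of S
  have hZ : ∀ σ : S →* Ω, σ ∈ F.Hom S → ∀ x : S,
      σ x ∈ (Subgroup.center ↥S).map S.subtype ↔ (x : Ω) ∈ (Subgroup.center ↥S).map S.subtype := by
    intro σ hσ x
    obtain ⟨τ, -, hτ⟩ := exists_aut_of_hom F hσ (hom_mem_S F hσ)
    have hchar : (Subgroup.center ↥S).Characteristic := inferInstance
    have hfix := Subgroup.characteristic_iff_comap_eq.mp hchar τ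
    rw [← hτ x, hZmem, hZmem]
    have : τ x ∈ Subgroup.center ↥S ↔ x ∈ (Subgroup.center ↥S).comap τ.toMonoidHom := Iff.rfl
    rw [this, hfix]
  exact isEssential_centralizer_of_move hS F hF hZ₂S hZ₂N hZ₂comm hCne hmaxl hZ hφ hφZ hmove

end Cfsg.Agent.S5270
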