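import Cfsg.Statements.S5272
import Cfsg.Agent.Lib.Helper11.AxZJ.Fus

set_option autoImplicit false
open Cfsg

namespace Cfsg.Agent.S5272

open Cfsg.FusionSystem Cfsg.Agent.Lib.Helper88 Cfsg.Agent.Lib.Helper11.AxZJ

/-- An axiomatic Glauberman–Thompson nilpotency criterion for fusion systems. Let p be an odd prime, F a saturated fusion system over a finite p-group S, and 𝒜 a nonempty family of abelian subgroups of S. For Q ≤ S write I(Q) for the intersection of the members of 𝒜 contained in Q. Assume (invariance) that for every Q ≤ S containing a member of 𝒜, every F-automorphism of Q maps I(Q) into itself, and (replacement) that for every subgroup B of S of nilpotency class at most 2, if some member of 𝒜 contains [B,B] but not B, then B normalizes some member of 𝒜 that contains [B,B] but not B. Then F is the inner fusion system of S if and only if the normalizer fusion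 system of I(S) in F is the inner fusion system of N_S(I(S)). -/
theorem result {Ω : Type*} [Group Ω] {S : Subgroup Ω} [Finite S] (p : ℕ) [Fact p.Prime] (hS : IsPGroup p ↥S) (F : Cfsg.FusionSystem S) (hF : F.IsSaturated p) (hp : p ≠ 2) (𝒜 : Set (Subgroup Ω)) (h𝒜 : ∀ A ∈ 𝒜, A ≤ S ∧ IsMulCommutative ↥A) (hne : 𝒜.Nonempty) (hinv : ∀ Q : Subgroup Ω, Q ≤ S → (∃ A ∈ 𝒜, A ≤ Q) → ∀ α ∈ F.autGroup Q, ∀ x : ↥Q, (x : Ω) ∈ (⨅ A ∈ {A : Subgroup Ω | A ∈ 𝒜 ∧ A ≤ Q}, A) → (((α : MulAut ↥Q) x : ↥Q) : Ω) ∈ (⨅ A ∈ {A : Subgroup Ω | A ∈ 𝒜 ∧ A ≤ Q}, A)) (hrep : ∀ B : Subgroup Ω, B ≤ S → ⁅⁅B, B⁆, B⁆ = ⊥ → (∃ A ∈ 𝒜, ⁅B, B⁆ ≤ A ∧ ¬ B ≤ A) → ∃ A ∈ 𝒜, ⁅B, B⁆ ≤ A ∧ ¬ B ≤ A ∧ B ≤ Subgroup.normalizer (A : Set Ω)) : (∀ P : Subgroup Ω, F.Hom P = (Cfsg.innerFusionSystem S).Hom P) ↔ ∀ N : Cfsg.FusionSystem (Cfsg.FusionSystem.normalizerIn S (⨅ A ∈ 𝒜, A)), F.IsNormalizerSystem (⨅ A ∈ 𝒜, A) N → ∀ P : Subgroup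 Ω, N.Hom P = (Cfsg.innerFusionSystem (Cfsg.FusionSystem.normalizerIn S (⨅ A ∈ 𝒜, A))).Hom P := by
  obtain ⟨A₁, hA₁⟩ := hne
  have h𝒜S : ∀ A ∈ 𝒜, A ≤ S := fun A hA => (h𝒜 A hA).1
  have hWS : (⨅ A ∈ 𝒜, A) ≤ S := (iInf₂_le A₁ hA₁).trans (h𝒜S A₁ hA₁)
  have hset : {A : Subgroup Ω | A ∈ 𝒜 ∧ A ≤ S} = 𝒜 :=
    Set.ext fun A => ⟨fun h => h.1, fun h => ⟨h, h𝒜S A h⟩⟩
  -- `S` normalizes the intersection
  have key : ∀ s ∈ S, ∀ w ∈ (⨅ A ∈ 𝒜, A), s * w * s⁻¹ ∈ (⨅ A ∈ 𝒜, A) := by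
    intro s hs w hw
    have hα : MulAut.conj (⟨s, hs⟩ : S) ∈ F.autGroup S := by
      rw [Cfsg.Agent.Lib.Helper87.mem_autGroup_iff F le_rfl]
      have h1 := F.conj_mem (le_refl S) hs
      have e : S.subtype.comp (MulAut.conj (⟨s, hs⟩ : S)).toMonoidHom = Cfsg.conjHom S s := by
        ext x
        rfl
      rw [e]
      exact h1
    have h2 := hinv S le_rfl ⟨A₁, hA₁, h𝒜S A₁ hA₁⟩ _ hα ⟨w, hWS hw⟩
    rw [hset] at h2
    exact h2 hw
  have hSN : S ≤ Subgroup.normalizer ((⨅ A ∈ 𝒜, A : Subgroup Ω) : Set Ω) := by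
    intro s hs
    rw [Subgroup.mem_normalizer_iff]
    intro w
    constructor
    · exact key s hs w
    · intro hw
      have h1 := key s⁻¹ (S.inv_mem hs) _ hw
      have e : s⁻¹ * (s * w * s⁻¹) * s⁻¹⁻¹ = w := by group
      rwa [e] at h1
  constructor
  · intro hinner N hN P
    ext φ
    constructor
    · intro hφ
      rw [hN P] at hφ
      obtain ⟨hφF, hPN, -, -⟩ := hφ
      rw [hinner P] at hφF
      obtain ⟨-, g, hg, hgφ⟩ := hφF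
      exact ⟨hPN, g, ⟨hg, hSN hg⟩, hgφ⟩
    · rintro ⟨hPN, g, hg, hgφ⟩
      have h1 := N.conj_mem hPN hg
      have e : Cfsg.conjHom P g = φ := by
        ext x
        rw [hgφ x]
        rfl
      rw [← e]
      exact h1
  · intro h
    have hyp : HypW F p (⨅ A ∈ 𝒜, A) := hypW_of_normalizer_inner hS F _ hWS hSN h
    have hfree : PFree F p := by
      by_contra hnot
      obtain ⟨T, E, hT, hsub, hcon, hEnot⟩ := concl_of_not_pFree hp hS F hF hnot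
      subst hT
      apply hEnot
      have hinvE : ∀ Q : Subgroup Ω, Q ≤ T → (∃ A ∈ 𝒜, A ≤ Q) → ∀ α ∈ E.autGroup Q, ∀ x : ↥Q,
          (x : Ω) ∈ (⨅ A ∈ {A : Subgroup Ω | A ∈ 𝒜 ∧ A ≤ Q}, A) →
          (((α : MulAut ↥Q) x : ↥Q) : Ω) ∈ (⨅ A ∈ {A : Subgroup Ω | A ∈ 𝒜 ∧ A ≤ Q}, A) :=
        fun Q hQ hex α hα => hinv Q hQ hex α (autGroup_mono hsub Q hα)
      have hypE : HypW E p (⨅ A ∈ 𝒜, A) := by
        intro P hP α hα hcop hZP hαZ
        exact hyp P hP α (autGroup_mono hsub P hα) hcop hZP hαZ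
      exact pFree_of_constrained_ax p hp E inferInstance hS hcon 𝒜 h𝒜 ⟨A₁, hA₁⟩ hinvE hrep hypE
    exact eq_inner_of_pFree hS F hF hfree

end Cfsg.Agent.S5272
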