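-- Statement S5274: a 2-group all of whose elements are conjugate, in a saturated fusion system,
-- to elements of its centre is abelian.
import Cfsg.Statements.S5274
import Cfsg.Agent.Lib.Helper85.DirectFactor2
import Cfsg.Agent.Lib.Helper87.Lemma26
import Cfsg.Agent.Lib.Helper87.AutTransport
import Cfsg.Agent.Lib.Helper87.Saturation

set_option autoImplicit false
open Cfsg Cfsg.FusionSystem

namespace Cfsg.Agent.S5274

variable {Ω : Type*} [Group Ω] {S : Subgroup Ω}

theorem mem_Z_iff {z : Ω} :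
    z ∈ S ⊓ Subgroup.centralizer (S : Set Ω) ↔ z ∈ S ∧ ∀ s ∈ S, s * z = z * s := by
  rw [Subgroup.mem_inf, Subgroup.mem_centralizer_iff]
  rfl

theorem conj_eq_of_mem_Z {z g : Ω} (hz : z ∈ S ⊓ Subgroup.centralizer (S : Set Ω)) (hg : g ∈ S) :
    g * z * g⁻¹ = z := by
  rw [(mem_Z_iff.mp hz).2 g hg, mul_inv_cancel_right]

theorem normalizerIn_eq_of_central {Q : Subgroup Ω}
    (hQ : Q ≤ S ⊓ Subgroup.centralizer (S : Set Ω)) : normalizerIn S Q = S := by
  apply le_antisymm inf_le_left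
  intro g hg
  refine ⟨hg, ?_⟩
  show g ∈ Subgroup.normalizer (Q : Set Ω)
  rw [Subgroup.mem_normalizer_iff]
  intro x
  constructor
  · intro hx
    rw [conj_eq_of_mem_Z (hQ hx) hg]
    exact hx
  · intro hx
    have h1 := conj_eq_of_mem_Z (hQ hx) (S.inv_mem hg)
    have h2 : g⁻¹ * (g * x * g⁻¹) * g⁻¹⁻¹ = x := by group
    rw [h2] at h1
    rw [h1]
    exact hx

theorem centralizerIn_eq_of_central {Q : Subgroup Ω}
    (hQ : Q ≤ S ⊓ Subgroup.centralizer (S : Set Ω)) : centralizerIn S Q = S := by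
  apply le_antisymm inf_le_left
  intro g hg
  refine ⟨hg, ?_⟩
  show g ∈ Subgroup.centralizer (Q : Set Ω)
  rw [Subgroup.mem_centralizer_iff]
  intro x hx
  exact ((mem_Z_iff.mp (hQ hx)).2 g hg).symm

theorem fullyNormalized_of_central [Finite S] (F : FusionSystem S) {Q : Subgroup Ω}
    (hQ : Q ≤ S ⊓ Subgroup.centralizer (S : Set Ω)) : F.IsFullyNormalized Q := by
  refine ⟨hQ.trans inf_le_left, fun Q' _ => ?_⟩
  rw [normalizerIn_eq_of_central hQ]
  exact Subgroup.card_le_of_le (inf_le_left : normalizerIn S Q' ≤ S)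

theorem fullyCentralized_of_central [Finite S] (F : FusionSystem S) {Q : Subgroup Ω}
    (hQ : Q ≤ S ⊓ Subgroup.centralizer (S : Set Ω)) : F.IsFullyCentralized Q := by
  refine ⟨hQ.trans inf_le_left, fun Q' _ => ?_⟩
  rw [centralizerIn_eq_of_central hQ]
  exact Subgroup.card_le_of_le (inf_le_left : centralizerIn S Q' ≤ S)

theorem autInducedBy_eq_bot_of_central {Q : Subgroup Ω}
    (hQ : Q ≤ S ⊓ Subgroup.centralizer (S : Set Ω)) : autInducedBy S Q = ⊥ := by
  rw [eq_bot_iff]
  apply (Subgroup.closure_le _).mpr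
  rintro α ⟨g, hg, hα⟩
  rw [SetLike.mem_coe, Subgroup.mem_bot]
  ext x
  rw [hα x, conj_eq_of_mem_Z (hQ x.2) hg]
  rfl

/-- (P1) If `P` is conjugate in the system to a subgroup of the centre of `S`, then every element
of `S` normalizing `P` centralizes `P`. -/
theorem conj_eq_of_range_central [Finite S] {p : ℕ} [Fact p.Prime] (hS : IsPGroup p S)
    (F : FusionSystem S) (hF : F.IsSaturated p) {P : Subgroup Ω} {φ : P →* Ω}
    (hφ : φ ∈ F.Hom P) (hc : φ.range ≤ S ⊓ Subgroup.centralizer (S : Set Ω)) {g : Ω}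
    (hg : g ∈ S) (hgn : g ∈ Subgroup.normalizer (P : Set Ω)) (x : P) :
    g * (x : Ω) * g⁻¹ = x := by
  have hP : P ≤ S := (F.le_of_mem hφ).1
  have hinj := F.injective_of_mem hφ
  set e : P ≃* φ.range := Lib.Helper87.isoOfHom φ hinj rfl with he
  have hee : ∀ x : P, ((e x : φ.range) : Ω) = φ x := fun x => rfl
  have hfa : F.IsFullyAutomized p φ.range :=
    (Lib.Helper87.fc_fa_of_fullyNormalized hS F hF (fullyNormalized_of_central F hc)).2
  set T : Subgroup (MulAut φ.range) := (autInducedBy S P).map (MulAut.congr e).toMonoidHom with hT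
  have hTle : T ≤ F.autGroup φ.range := by
    rintro _ ⟨α, hα, rfl⟩
    exact Lib.Helper87.autGroup_congr_mem F hφ rfl e hee
      (Lib.Helper87.autInducedBy_le_autGroup F hP hα)
  have hTp : IsPGroup p T := (Lib.Helper87.autInducedBy_isPGroup hS P).map _
  obtain ⟨β, _, hβ⟩ := Lib.Helper87.exists_conj_into_autS F hfa T hTle hTp
  have hc1 : Lib.Helper87.conjAut P g hgn ∈ autInducedBy S P :=
    Lib.Helper87.conjAut_mem_autInducedBy hg hgn
  have h1 := hβ _ (Subgroup.mem_map_of_mem _ hc1)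
  rw [autInducedBy_eq_bot_of_central hc, Subgroup.mem_bot] at h1
  have h2 : (MulAut.congr e) (Lib.Helper87.conjAut P g hgn) = 1 := by
    have : (MulAut.congr e).toMonoidHom (Lib.Helper87.conjAut P g hgn) = β⁻¹ * 1 * β := by
      rw [← h1]; group
    simpa using this
  have h3 : e (Lib.Helper87.conjAut P g hgn x) = e x := by
    have h5 : (MulAut.congr e) (Lib.Helper87.conjAut P g hgn) (e x) =
        e (Lib.Helper87.conjAut P g hgn x) := by
      show e (Lib.Helper87.conjAut P g hgn (e.symm (e x))) = _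
      rw [MulEquiv.symm_apply_apply]
    rw [← h5, h2]
    rfl
  have h4 := Lib.Helper87.conjAut_coe P g hgn x
  rw [e.injective h3] at h4
  exact h4.symm

theorem range_le_of_gen {x z : Ω} {φ : Subgroup.zpowers x →* Ω}
    (hz : φ ⟨x, Subgroup.mem_zpowers x⟩ = z) {Z : Subgroup Ω} (hzZ : z ∈ Z) : φ.range ≤ Z := by
  rintro _ ⟨⟨y, hy⟩, rfl⟩
  obtain ⟨k, rfl⟩ := Subgroup.mem_zpowers_iff.mp hy
  have h1 : (⟨x ^ k, hy⟩ : Subgroup.zpowers x) = ⟨x, Subgroup.mem_zpowers x⟩ ^ k :=
    Subtype.ext rfl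
  rw [h1, map_zpow, hz]
  exact Z.zpow_mem hzZ k

theorem mem_normalizer_zpowers {s r : Ω} (hs : s⁻¹ = s) (h1 : s * r * s⁻¹ = r⁻¹) :
    s ∈ Subgroup.normalizer (Subgroup.zpowers r : Set Ω) := by
  have key : ∀ y ∈ Subgroup.zpowers r, s * y * s⁻¹ ∈ Subgroup.zpowers r := by
    intro y hy
    obtain ⟨k, rfl⟩ := Subgroup.mem_zpowers_iff.mp hy
    have : s * r ^ k * s⁻¹ = (s * r * s⁻¹) ^ k := by
      rw [← MulAut.conj_apply, ← MulAut.conj_apply, map_zpow]
    rw [this, h1]
    exact (Subgroup.zpowers r).zpow_mem ((Subgroup.zpowers r).inv_mem (Subgroup.mem_zpowers r)) k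
  rw [Subgroup.mem_normalizer_iff]
  intro y
  refine ⟨key y, fun hy => ?_⟩
  have := key _ hy
  have h2 : s * (s * y * s⁻¹) * s⁻¹ = y := by
    rw [hs]
    have hss : s * s = 1 := by
      have := mul_inv_cancel s
      rwa [hs] at this
    calc s * (s * y * s) * s = (s * s) * y * (s * s) := by group
      _ = y := by rw [hss, one_mul, mul_one]
  rwa [h2] at this

section main

variable [Finite S] (hS : IsPGroup 2 S) (F : FusionSystem S) (hF : F.IsSaturated 2)
  (h : ∀ x ∈ S, ∃ z ∈ S ⊓ Subgroup.centralizer (S : Set Ω), F.IsConjElt x z)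

include hS hF h

/-- Any two elements of `S` of order at most two commute. -/
theorem involutions_commute {s t : Ω} (hs : s ∈ S) (ht : t ∈ S) (hs2 : s * s = 1)
    (ht2 : t * t = 1) : s * t = t * s := by
  have hsi : s⁻¹ = s := inv_eq_of_mul_eq_one_left hs2
  have hti : t⁻¹ = t := inv_eq_of_mul_eq_one_left ht2
  have hr : s * t ∈ S := S.mul_mem hs ht
  obtain ⟨z, hz, φ, hφ, hφz⟩ := h (s * t) hr
  have hc : φ.range ≤ S ⊓ Subgroup.centralizer (S : Set Ω) := range_le_of_gen hφz hz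
  have hsr : s * (s * t) * s⁻¹ = (s * t)⁻¹ := by
    rw [mul_inv_rev, hsi, hti, ← mul_assoc, hs2, one_mul]
  have hn := mem_normalizer_zpowers hsi hsr
  have h1 := conj_eq_of_range_central hS F hF hφ hc hs hn ⟨s * t, Subgroup.mem_zpowers _⟩
  have h2 : (s * t)⁻¹ = s * t := by
    rw [← hsr]
    exact h1
  rw [mul_inv_rev, hsi, hti] at h2
  exact h2.symm

/-- (P3) If the square of `y ∈ S` is central, then `y` is the product of an element of order at
most two and a central element. -/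
theorem exists_central_sqrt {y : Ω} (hy : y ∈ S)
    (hy2 : y * y ∈ S ⊓ Subgroup.centralizer (S : Set Ω)) :
    ∃ b ∈ S ⊓ Subgroup.centralizer (S : Set Ω), (y * b⁻¹) * (y * b⁻¹) = 1 := by
  obtain ⟨a, ha, φ, hφ, hφa⟩ := h y hy
  -- restrict to the subgroup generated by `y * y`
  have hle : Subgroup.zpowers (y * y) ≤ Subgroup.zpowers y := by
    rw [Subgroup.zpowers_le]
    exact (Subgroup.zpowers y).mul_mem (Subgroup.mem_zpowers y) (Subgroup.mem_zpowers y)
  have hφ' := Lib.Helper87.restrict_mem F hφ hle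
  set φ' := φ.comp (Subgroup.inclusion hle) with hφ'def
  have hφ'y : φ' ⟨y * y, Subgroup.mem_zpowers _⟩ = a * a := by
    show φ (Subgroup.inclusion hle ⟨y * y, Subgroup.mem_zpowers _⟩) = a * a
    have : Subgroup.inclusion hle ⟨y * y, Subgroup.mem_zpowers _⟩ =
        (⟨y, Subgroup.mem_zpowers y⟩ : Subgroup.zpowers y) * ⟨y, Subgroup.mem_zpowers y⟩ :=
      Subtype.ext rfl
    rw [this, map_mul, hφa]
  have haa : a * a ∈ S ⊓ Subgroup.centralizer (S : Set Ω) := Subgroup.mul_mem _ ha ha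
  have hc' : φ'.range ≤ S ⊓ Subgroup.centralizer (S : Set Ω) := range_le_of_gen hφ'y haa
  obtain ⟨ψ, hψ, hψinv, hψr⟩ := Lib.Helper87.inv_exists F hφ' (rfl : φ'.range = φ'.range)
  have hyyZ : Subgroup.zpowers (y * y) ≤ S ⊓ Subgroup.centralizer (S : Set Ω) := by
    rw [Subgroup.zpowers_le]; exact hy2
  have hrec : F.IsReceptive (Subgroup.zpowers (y * y)) :=
    Lib.Helper87.receptive_of_fullyCentralized hS F hF (fullyCentralized_of_central F hyyZ)
  have hcomm : ∀ u ∈ φ'.range, ∀ v ∈ S, u * v = v * u := fun u hu v hv =>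
    ((mem_Z_iff.mp (hc' hu)).2 v hv).symm
  obtain ⟨χ, hχ, hχe⟩ :=
    Lib.Helper85.extend_to_sup_of_receptive F (le_refl S) hcomm hψ hψr hrec
  -- the induced self-map of `S`
  have hχS : ∀ u, χ u ∈ S := (F.le_of_mem hχ).2
  have hχinj := F.injective_of_mem hχ
  let β : S → S := fun v => ⟨χ (Subgroup.inclusion le_sup_right v), hχS _⟩
  have hβinj : Function.Injective β := by
    intro v w hvw
    have := congrArg Subtype.val hvw
    exact Subgroup.inclusion_injective _ (hχinj this)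
  have hβsurj : Function.Surjective β := Finite.surjective_of_injective hβinj
  have haS : a ∈ S := (mem_Z_iff.mp ha).1
  set b := χ (Subgroup.inclusion le_sup_right ⟨a, haS⟩) with hb
  have hbZ : b ∈ S ⊓ Subgroup.centralizer (S : Set Ω) := by
    rw [mem_Z_iff]
    refine ⟨hχS _, fun v hv => ?_⟩
    obtain ⟨w, hw⟩ := hβsurj ⟨v, hv⟩
    have hw' : χ (Subgroup.inclusion le_sup_right w) = v := congrArg Subtype.val hw
    have e1 : Subgroup.inclusion (le_sup_right : S ≤ φ'.range ⊔ S) w *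
        Subgroup.inclusion le_sup_right ⟨a, haS⟩ =
        Subgroup.inclusion le_sup_right ⟨a, haS⟩ * Subgroup.inclusion le_sup_right w :=
      Subtype.ext ((mem_Z_iff.mp ha).2 w w.2)
    calc v * b = χ (Subgroup.inclusion le_sup_right w) * b := by rw [hw']
      _ = χ (Subgroup.inclusion le_sup_right w * Subgroup.inclusion le_sup_right ⟨a, haS⟩) :=
          (map_mul χ _ _).symm
      _ = χ (Subgroup.inclusion le_sup_right ⟨a, haS⟩ * Subgroup.inclusion le_sup_right w) := by
          rw [e1]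
      _ = b * v := by rw [map_mul, hw']
  have hb2 : b * b = y * y := by
    rw [hb, ← map_mul]
    have haar : a * a ∈ φ'.range := ⟨_, hφ'y⟩
    have h1 : Subgroup.inclusion (le_sup_right : S ≤ φ'.range ⊔ S) ⟨a, haS⟩ *
        Subgroup.inclusion le_sup_right ⟨a, haS⟩ =
        Subgroup.inclusion (le_sup_left : φ'.range ≤ φ'.range ⊔ S) ⟨a * a, haar⟩ :=
      Subtype.ext rfl
    rw [h1, hχe]
    have h2 := hψinv ⟨y * y, Subgroup.mem_zpowers _⟩ (by rw [hφ'y]; exact haar)
    have h3 : (⟨φ' ⟨y * y, Subgroup.mem_zpowers _⟩, by rw [hφ'y]; exact haar⟩ : φ'.range) =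
        ⟨a * a, haar⟩ := Subtype.ext hφ'y
    rw [h3] at h2
    exact h2
  refine ⟨b, hbZ, ?_⟩
  have hyb : y * b = b * y := (mem_Z_iff.mp hbZ).2 y hy
  have hyb' : b⁻¹ * y = y * b⁻¹ := by
    rw [inv_mul_eq_iff_eq_mul, ← mul_assoc, hyb.symm, mul_inv_cancel_right]
  calc y * b⁻¹ * (y * b⁻¹) = y * (b⁻¹ * y) * b⁻¹ := by group
    _ = y * y * (b * b)⁻¹ := by rw [hyb']; group
    _ = 1 := by rw [hb2, mul_inv_cancel]

/-- If `g * g` commutes with the involution `t`, so does `g`. -/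
theorem commute_of_sq_commute {t g : Ω} (ht : t ∈ S) (hg : g ∈ S) (ht2 : t * t = 1)
    (hgt : (g * g) * t = t * (g * g)) : g * t = t * g := by
  have hx : g * g ∈ S := S.mul_mem hg hg
  obtain ⟨a, ha, φ, hφ, hφa⟩ := h (g * g) hx
  have hc : φ.range ≤ S ⊓ Subgroup.centralizer (S : Set Ω) := range_le_of_gen hφa ha
  have hrec : F.IsReceptive φ.range :=
    Lib.Helper87.receptive_of_fullyCentralized hS F hF (fullyCentralized_of_central F hc)
  set S₂ : Subgroup Ω := S ⊓ Subgroup.centralizer (Subgroup.zpowers (g * g) : Set Ω) with hS₂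
  have hcomm : ∀ u ∈ Subgroup.zpowers (g * g), ∀ v ∈ S₂, u * v = v * u := fun u hu v hv =>
    (Subgroup.mem_centralizer_iff.mp hv.2) u hu
  have hcen : ∀ v ∈ S, (g * g) * v = v * (g * g) → v ∈ S₂ := by
    intro v hv hvc
    refine ⟨hv, ?_⟩
    show v ∈ Subgroup.centralizer (Subgroup.zpowers (g * g) : Set Ω)
    rw [Subgroup.mem_centralizer_iff]
    intro u hu
    obtain ⟨k, rfl⟩ := Subgroup.mem_zpowers_iff.mp hu
    have : Commute (g * g) v := hvc
    exact this.zpow_left k
  have htS₂ : t ∈ S₂ := hcen t ht hgt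
  have hgS₂ : g ∈ S₂ := hcen g hg (by group)
  obtain ⟨ψ, hψ, hψe⟩ :=
    Lib.Helper85.extend_to_sup_of_receptive F (inf_le_left : S₂ ≤ S) hcomm hφ rfl hrec
  have hψS : ∀ u, ψ u ∈ S := (F.le_of_mem hψ).2
  have hψinj := F.injective_of_mem hψ
  set t' : (Subgroup.zpowers (g * g) ⊔ S₂ : Subgroup Ω) := ⟨t, le_sup_right (a := Subgroup.zpowers (g * g)) htS₂⟩ with ht'
  set g' : (Subgroup.zpowers (g * g) ⊔ S₂ : Subgroup Ω) := ⟨g, le_sup_right (a := Subgroup.zpowers (g * g)) hgS₂⟩ with hg'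
  have h1 : ψ g' * ψ g' = a := by
    rw [← map_mul]
    have : g' * g' = Subgroup.inclusion le_sup_left
        (⟨g * g, Subgroup.mem_zpowers _⟩ : Subgroup.zpowers (g * g)) := Subtype.ext rfl
    rw [this, hψe, hφa]
  have h2 : ψ t' * ψ t' = 1 := by
    rw [← map_mul]
    have : t' * t' = 1 := Subtype.ext ht2
    rw [this, map_one]
  obtain ⟨b, hb, hb2⟩ := exists_central_sqrt hS F hF h (hψS g') (by rw [h1]; exact ha)
  have hbS : b ∈ S := (mem_Z_iff.mp hb).1
  have hsS : ψ g' * b⁻¹ ∈ S := S.mul_mem (hψS g') (S.inv_mem hbS)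
  have h3 := involutions_commute hS F hF h hsS (hψS t') hb2 h2
  have h4 : ψ t' * b = b * ψ t' := (mem_Z_iff.mp hb).2 _ (hψS t')
  have h5 : ψ g' * ψ t' = ψ t' * ψ g' := by
    calc ψ g' * ψ t' = (ψ g' * b⁻¹) * (b * ψ t') := by group
      _ = (ψ g' * b⁻¹) * (ψ t' * b) := by rw [h4]
      _ = ((ψ g' * b⁻¹) * ψ t') * b := by group
      _ = (ψ t' * (ψ g' * b⁻¹)) * b := by rw [h3]
      _ = ψ t' * ψ g' := by group
  rw [← map_mul, ← map_mul] at h5
  have h6 := hψinj h5
  exact congrArg Subtype.val h6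

theorem commute_involution : ∀ (k : ℕ) (g : Ω), g ∈ S → g ^ (2 ^ k) = 1 →
    ∀ t ∈ S, t * t = 1 → g * t = t * g := by
  intro k
  induction k with
  | zero =>
    intro g _ hgk t _ _
    rw [pow_zero, pow_one] at hgk
    rw [hgk, one_mul, mul_one]
  | succ k ih =>
    intro g hg hgk t ht ht2
    have h1 : (g * g) ^ (2 ^ k) = 1 := by
      rw [← pow_two, ← pow_mul, ← pow_succ']
      exact hgk
    have h2 := ih (g * g) (S.mul_mem hg hg) h1 t ht ht2
    exact commute_of_sq_commute hS F hF h ht hg ht2 h2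

theorem involution_central {t : Ω} (ht : t ∈ S) (ht2 : t * t = 1) :
    t ∈ S ⊓ Subgroup.centralizer (S : Set Ω) := by
  rw [mem_Z_iff]
  refine ⟨ht, fun s hs => ?_⟩
  obtain ⟨k, hk⟩ := hS ⟨s, hs⟩
  have hk' : s ^ (2 ^ k) = 1 := by
    have := congrArg Subtype.val hk
    simpa using this
  exact commute_involution hS F hF h k s hs hk' t ht ht2

theorem all_central : ∀ (k : ℕ) (y : Ω), y ∈ S → y ^ (2 ^ k) = 1 →
    y ∈ S ⊓ Subgroup.centralizer (S : Set Ω) := by
  intro k
  induction k with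
  | zero =>
    intro y _ hyk
    rw [pow_zero, pow_one] at hyk
    rw [hyk]
    exact Subgroup.one_mem _
  | succ k ih =>
    intro y hy hyk
    have h1 : (y * y) ^ (2 ^ k) = 1 := by
      rw [← pow_two, ← pow_mul, ← pow_succ']
      exact hyk
    have h2 := ih (y * y) (S.mul_mem hy hy) h1
    obtain ⟨b, hb, hb2⟩ := exists_central_sqrt hS F hF h hy h2
    have hbS : b ∈ S := (mem_Z_iff.mp hb).1
    have h3 := involution_central hS F hF h (S.mul_mem hy (S.inv_mem hbS)) hb2
    have h4 : y = (y * b⁻¹) * b := by group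
    rw [h4]
    exact Subgroup.mul_mem _ h3 hb

end main

/-- Let F be a saturated fusion system over a finite 2-group S. Suppose that every element of S is F-conjugate to an element of the centre Z(S) (some map of F defined on the cyclic subgroup it generates sends it into Z(S)). Then S is abelian. -/
theorem result {Ω : Type*} [Group Ω] {S : Subgroup Ω} [Finite S] (hS : IsPGroup 2 ↥S) (F : Cfsg.FusionSystem S) (hF : F.IsSaturated 2) (h : ∀ x ∈ S, ∃ z ∈ S ⊓ Subgroup.centralizer (S : Set Ω), F.IsConjElt x z) : IsMulCommutative ↥S := by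
  rw [isMulCommutative_iff]
  intro a b
  obtain ⟨k, hk⟩ := hS b
  have hk' : (b : Ω) ^ (2 ^ k) = 1 := by
    have := congrArg Subtype.val hk
    simpa using this
  have hb := all_central hS F hF h k b b.2 hk'
  exact Subtype.ext ((mem_Z_iff.mp hb).2 a a.2)

end Cfsg.Agent.S5274
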