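import Cfsg.Statements.S5275
import Cfsg.Agent.Lib.Helper11.FusGT.Closed

set_option autoImplicit false
open Cfsg

namespace Cfsg.Agent.S5275

open Cfsg.FusionSystem Cfsg.Agent.Lib.Helper88 Cfsg.Agent.Lib.Helper11.FusGT

/-- A Glauberman–Thompson nilpotency criterion for fusion systems relative to a strongly closed subgroup. Let p be an odd prime, F a saturated fusion system over a finite p-group S, and D a subgroup of S that is strongly closed in F. Let Z(J(D)) be the centre of the subgroup of D generated by the abelian subgroups of D of largest order. Then F is the inner fusion system of S if and only if the normalizer fusion system of Z(J(D)) in F is the inner fusion system of N_S(Z(J(D))) = S. -/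
theorem result {Ω : Type*} [Group Ω] {S : Subgroup Ω} [Finite S] (p : ℕ) [Fact p.Prime] (hS : IsPGroup p ↥S) (F : Cfsg.FusionSystem S) (hF : F.IsSaturated p) (hp : p ≠ 2) (D : Subgroup Ω) (hD : F.StronglyClosed D) : (∀ P : Subgroup Ω, F.Hom P = (Cfsg.innerFusionSystem S).Hom P) ↔ ∀ N : Cfsg.FusionSystem (Cfsg.FusionSystem.normalizerIn S (Cfsg.centerThompsonAOf D)), F.IsNormalizerSystem (Cfsg.centerThompsonAOf D) N → ∀ P : Subgroup Ω, N.Hom P = (Cfsg.innerFusionSystem (Cfsg.FusionSystem.normalizerIn S (Cfsg.centerThompsonAOf D))).Hom P := by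
  have hDS : D ≤ S := hD.1
  have hZS : centerThompsonAOf D ≤ S := (centerThompsonAOf_le D).trans hDS
  have hSN : S ≤ Subgroup.normalizer (Cfsg.centerThompsonAOf D : Set Ω) :=
    (Cfsg.Agent.Lib.Helper87.stronglyClosed_le_normalizer F hD).trans
      (normalizer_le_normalizer_centerThompsonAOf D)
  constructor
  · intro hinner N hN P
    ext φ
    constructor
    · intro hφ
      rw [hN P] at hφ
      obtain ⟨hφF, hPN, -, -⟩ := hφ
      rw [hinner P] at hφF
      obtain ⟨-, g, hg, hgφ⟩ := hφF
      exact ⟨hPN, g, ⟨hg, hSN hg⟩, hgφ⟩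
    · rintro ⟨hPN, g, hg, hgφ⟩
      have h1 := N.conj_mem hPN hg
      have e : Cfsg.conjHom P g = φ := by
        ext x
        rw [hgφ x]
        rfl
      rw [← e]
      exact h1
  · intro h
    -- the hypothesis on automorphisms normalizing `Z(J(D))`
    have hyp : HypD F p D := by
      let N := Cfsg.Agent.Lib.Helper84.normalizerSystem F (centerThompsonAOf D) hZS
      have hN : F.IsNormalizerSystem (centerThompsonAOf D) N :=
        Cfsg.Agent.Lib.Helper84.normalizerSystem_spec F _ hZS
      have hfinN : Finite (normalizerIn S (centerThompsonAOf D)) :=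
        Cfsg.Agent.Lib.Helper87.finite_of_le inf_le_left
      have hNp : IsPGroup p (normalizerIn S (centerThompsonAOf D)) := hS.to_le inf_le_left
      have hNfree : PFree N p := pFree_of_eq_inner hNp N (h N hN)
      intro P hP α hα hcop hZP hαZ
      have hPN : P ≤ normalizerIn S (centerThompsonAOf D) :=
        fun x hx => ⟨hP hx, hSN (hP hx)⟩
      exact hNfree P hPN α (mem_autGroup_normalizerSystem F hN hZP hPN hα hαZ) hcop
    have hfree : PFree F p := by
      by_contra hnot
      obtain ⟨T, E, hT, hsub, hcon, hEnot⟩ := concl_of_not_pFree hp hS F hF hnot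
      subst hT
      apply hEnot
      have hDE : E.StronglyClosed D :=
        ⟨hDS, fun R hR φ hφ x => hD.2 R hR φ (hsub R hφ) x⟩
      have hypE : HypD E p D := by
        intro P hP α hα hcop hZP hαZ
        exact hyp P hP α (autGroup_mono hsub P hα) hcop hZP hαZ
      exact pFree_of_constrained_closed p hp E inferInstance hS hcon D hDE hypE
    exact eq_inner_of_pFree hS F hF hfree

end Cfsg.Agent.S5275
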