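import Cfsg.Statements.S5276
import Cfsg.Agent.Lib.Helper87.TateT13
import Cfsg.Agent.Lib.Helper87.TateT15
import Cfsg.Agent.Lib.Helper54.TateT11
import Cfsg.Agent.Lib.Helper80.TateT9
import Cfsg.Agent.Lib.Helper48.TateT12
import Cfsg.Agent.Lib.Helper34.TateTD3
import Cfsg.Agent.S5113

set_option autoImplicit false
open Cfsg

namespace Cfsg.Agent.S5276

open Cfsg.FusionSystem Cfsg.Agent.Lib.Helper34.Tate

/-- the focal subgroup is monotone in the system -/
theorem focal_mono {Ω : Type*} [Group Ω] {S : Subgroup Ω} (F H : Cfsg.FusionSystem S)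
    (hHF : H.IsSubsystemOf F) : H.focalSubgroup ≤ F.focalSubgroup := by
  unfold FusionSystem.focalSubgroup
  rw [Subgroup.closure_le]
  rintro y ⟨P, φ, x, hφ, rfl⟩
  exact Subgroup.subset_closure ⟨P, φ, x, hHF P hφ, rfl⟩

/-- Let p be a prime and F a saturated fusion system over a finite p-group S. Then F is the inner fusion system of S if and only if the normalizer fusion system of S itself in F is the inner fusion system (equivalently, Aut_F(S) is induced by S) and the Frattini subgroup Φ(S) is strongly closed in F. -/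
theorem result {Ω : Type*} [Group Ω] {S : Subgroup Ω} [Finite S] (p : ℕ) [Fact p.Prime] (hS : IsPGroup p ↥S) (F : Cfsg.FusionSystem S) (hF : F.IsSaturated p) : (∀ P : Subgroup Ω, F.Hom P = (Cfsg.innerFusionSystem S).Hom P) ↔ (∀ N : Cfsg.FusionSystem (Cfsg.FusionSystem.normalizerIn S S), F.IsNormalizerSystem S N → ∀ P : Subgroup Ω, N.Hom P = (Cfsg.innerFusionSystem (Cfsg.FusionSystem.normalizerIn S S)).Hom P) ∧ F.StronglyClosed ((frattini ↥S).map S.subtype) := by
  constructor
  · intro h
    exact s5276_forward hS F h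
  · rintro ⟨hN, hΦ⟩
    have hα := top_inner_of_normalizer hS F hF hN
    have hfoc : F.focalSubgroup ≤ (frattini ↥S).map S.subtype := focal_le_frattini hS F hF hα hΦ
    have hI : (Cfsg.innerFusionSystem S).IsSaturated p := inner_saturated hS
    have hIF : (Cfsg.innerFusionSystem S).IsSubsystemOf F := inner_isSubsystemOf F
    have hfocI : (Cfsg.innerFusionSystem S).focalSubgroup ≤ (frattini ↥S).map S.subtype :=
      (focal_mono F _ hIF).trans hfoc
    have h12 : (frattini ↥S).map S.subtype ⊔ F.focalSubgroup =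
        (frattini ↥S).map S.subtype ⊔ (Cfsg.innerFusionSystem S).focalSubgroup := by
      rw [sup_eq_left.mpr hfoc, sup_eq_left.mpr hfocI]
    have hfeq : F.focalSubgroup = (Cfsg.innerFusionSystem S).focalSubgroup :=
      focal_eq_of_frattini hS F _ hF hIF h12
    have hstep : Cfsg.Agent.Lib.Helper85.PPI.Step Ω p := by
      intro S' _ hS' F' hF' T hTS _ hfocT
      have hhyp : F'.hyperfocalSubgroup p ≤ T := by
        refine le_trans ?_ hfocT
        rw [Cfsg.Agent.S5092.result p hS' F' hF']
        exact le_sup_left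
      obtain ⟨E, ⟨hE, hEi⟩, -⟩ := Cfsg.Agent.S5113.result p hS' F' hF' T hTS hhyp
      exact ⟨E, hE, hEi⟩
    have hhyp : F.hyperfocalSubgroup p = (Cfsg.innerFusionSystem S).hyperfocalSubgroup p := by
      refine tate_descent hstep hS F _ hF hI hIF ?_
      intro lam hlam
      rw [stab_iff_focal] at hlam ⊢
      intro x hx hxS
      exact hlam x (hfeq ▸ hx) hxS
    rw [inner_hyperfocal hS] at hhyp
    have := inner_of_hyperfocal_eq_bot hS F hF hhyp
    intro P
    rw [this]

end Cfsg.Agent.S5276
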