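import Cfsg.Statements.S5280
import Cfsg.Agent.Lib.Helper67.PStabConstr

set_option autoImplicit false
open Cfsg

namespace Cfsg.Agent.S5280

/-- Let p be a prime greater than 3, G a finite group with Sylow p-subgroup P, and F the fusion system of G on P. Suppose F is p-stable: for every fully normalized subgroup Q and every χ in Aut_F(Q) acting quadratically on Q (χ(a⁻¹)·a·χ(a⁻¹)·χ(χ(a)) = 1 for all a in Q), χ lies in O_p(Aut_F(Q)). Then F is constrained: some subgroup normal in F is F-centric. -/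
theorem result {Ω : Type*} [Group Ω] [Finite Ω] (p : ℕ) [Fact p.Prime] (hp : 3 < p) (P : Sylow p Ω) (hst : (∀ Q : Subgroup Ω, (Cfsg.groupFusionSystem (P : Subgroup Ω)).IsFullyNormalized Q → ∀ χ : MulAut ↥Q, χ ∈ (Cfsg.groupFusionSystem (P : Subgroup Ω)).autGroup Q → (∀ a : ↥Q, (χ a⁻¹) * a * (χ a⁻¹) * (χ (χ a)) = 1) → χ ∈ ((Cfsg.pCore p ↥((Cfsg.groupFusionSystem (P : Subgroup Ω)).autGroup Q)).map ((Cfsg.groupFusionSystem (P : Subgroup Ω)).autGroup Q).subtype : Subgroup (MulAut ↥Q)))) : (Cfsg.groupFusionSystem (P : Subgroup Ω)).IsConstrained p := by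
  have hp2 : p ≠ 2 := by omega
  have hstG := Cfsg.Agent.Lib.Helper33.isNormalizerPStable_of_fus P hst
  have hcoreN : (Cfsg.groupFusionSystem (P : Subgroup Ω)).IsNormal
      (Cfsg.groupFusionSystem (P : Subgroup Ω)).core :=
    Cfsg.Agent.Lib.Helper88.isNormal_sSup _ _ (fun N hN => hN)
  have hcent : (P : Subgroup Ω) ⊓
      Subgroup.centralizer ((Cfsg.groupFusionSystem (P : Subgroup Ω)).core : Set Ω) ≤
      (Cfsg.groupFusionSystem (P : Subgroup Ω)).core := by
    by_contra hnc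
    obtain ⟨W, hWN, hWle⟩ :=
      Cfsg.Agent.Lib.Helper67.PStabConstr.exists_normal_not_le hp2 hstG P _ hcoreN hnc
    exact hWle (le_sSup hWN)
  refine ⟨Cfsg.Agent.Lib.Helper85.groupFusionSystem_isSaturated P, _, hcoreN, hcoreN.1, ?_⟩
  intro Q hQ
  obtain ⟨φ, hφ, hr⟩ := hQ
  have hsc := Cfsg.Agent.Lib.Helper87.stronglyClosed_of_isNormal _ hcoreN
  have hle : Q ≤ (Cfsg.groupFusionSystem (P : Subgroup Ω)).core := by
    rw [← hr]
    rintro _ ⟨x, rfl⟩
    exact hsc.2 _ le_rfl φ hφ x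
  have hcard : Nat.card ((Cfsg.groupFusionSystem (P : Subgroup Ω)).core) = Nat.card Q := by
    rw [← hr]
    exact Nat.card_congr (MonoidHom.ofInjective
      ((Cfsg.groupFusionSystem (P : Subgroup Ω)).injective_of_mem hφ)).toEquiv
  have : Finite ((Cfsg.groupFusionSystem (P : Subgroup Ω)).core) := inferInstance
  have hQe : Q = (Cfsg.groupFusionSystem (P : Subgroup Ω)).core :=
    Subgroup.eq_of_le_of_card_ge hle hcard.le
  rw [hQe]
  exact hcent

end Cfsg.Agent.S5280
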