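import Cfsg.Statements.S5287
import Cfsg.Agent.Lib.Helper87.MetaSSFwd
import Cfsg.Agent.Lib.Helper87.MetaSSBwd
import Cfsg.Agent.Lib.Helper16.MetaSSM1
import Cfsg.Agent.Lib.Helper51.MetaSSM2
import Cfsg.Agent.Lib.Helper40.MetaSSM3
import Cfsg.Agent.Lib.Helper40.MetaSSM4
import Cfsg.Agent.Lib.Helper51.MetaSSM5

set_option autoImplicit false
open Cfsg

namespace Cfsg.Agent.S5287

/-- Let S be a finite metacyclic p-group (an extension of a cyclic group by a cyclic group). Every saturated fusion system over S is supersoluble (S has a chain of F-strongly closed subgroups from 1 to S with cyclic steps) if and only if S is not homocyclic of rank two (isomorphic to Z/p^n × Z/p^n with n ≥ 1) and, when p = 2, S is not dihedral of order at least 4, not quasi-dihedral (semidihedral) and not generalized quaternion of order at least 8. -/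
theorem result {Ω : Type*} [Group Ω] {S : Subgroup Ω} [Finite S] (p : ℕ) [Fact p.Prime] (hS : IsPGroup p ↥S) (hm : Cfsg.IsMetacyclic ↥S) : (∀ F : Cfsg.FusionSystem S, F.IsSaturated p → (∃ (m : ℕ) (c : Fin (m + 1) → Subgroup Ω), c 0 = ⊥ ∧ c (Fin.last m) = S ∧ (∀ i : Fin (m + 1), F.StronglyClosed (c i)) ∧ ∀ i : Fin m, c i.castSucc ≤ c i.succ ∧ ∃ x ∈ S, c i.succ = c i.castSucc ⊔ Subgroup.zpowers x)) ↔ ¬ ((∃ n : ℕ, 0 < n ∧ Nonempty (↥S ≃* Multiplicative (ZMod (p ^ n)) × Multiplicative (ZMod (p ^ n)))) ∨ (p = 2 ∧ ((∃ n : ℕ, 2 ≤ n ∧ Nonempty (↥S ≃* DihedralGroup n)) ∨ Cfsg.IsQuasiDihedral ↥S ∨ (∃ n : ℕ, 2 ≤ n ∧ Nonempty (↥S ≃* QuaternionGroup n))))) := by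
  have hp : p.Prime := Fact.out
  constructor
  · intro hall
    have hall' : ∀ F : Cfsg.FusionSystem S, F.IsSaturated p →
        ∃ (m : ℕ) (c : Fin (m + 1) → Subgroup Ω), Cfsg.Agent.Lib.Helper87.IsSSChain F m c :=
      fun F hF => hall F hF
    have hprop : Cfsg.Agent.Lib.Helper87.PPrimeAutProp p S := fun K hK =>
      Cfsg.Agent.Lib.Helper87.pprime_aut_of_supersoluble hS hall' K hK
    rintro (⟨n, hn, ⟨e⟩⟩ | ⟨rfl, h⟩)
    · exact Cfsg.Agent.Lib.Helper87.not_pPrimeAutProp_zmod_sq p hn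
        (Cfsg.Agent.Lib.Helper87.pPrimeAutProp_of_mulEquiv e.symm hprop)
    · obtain ⟨j, hj⟩ := IsPGroup.iff_card.mp hS
      rcases h with ⟨n, hn, ⟨e⟩⟩ | hQD | ⟨n, hn, ⟨e⟩⟩
      · -- dihedral
        have hc : Nat.card S = 2 * n := by rw [Nat.card_congr e.toEquiv, DihedralGroup.nat_card]
        obtain ⟨k, -, hk⟩ := (Nat.dvd_prime_pow Nat.prime_two).mp
          (⟨2, by rw [← hj, hc, mul_comm]⟩ : n ∣ 2 ^ j)
        subst hk
        rcases k with _ | _ | i
        · norm_num at hn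
        · -- the Klein four group
          have e' : ↥S ≃* DihedralGroup 2 := e
          obtain ⟨f⟩ := IsKleinFour.nonempty_mulEquiv (G₁ := DihedralGroup 2)
            (G₂ := Multiplicative (ZMod 2 × ZMod 2))
          have e3 : ↥S ≃* Multiplicative (ZMod (2 ^ 1)) × Multiplicative (ZMod (2 ^ 1)) :=
            (e'.trans f).trans (MulEquiv.prodMultiplicative (ZMod 2) (ZMod 2))
          exact Cfsg.Agent.Lib.Helper87.not_pPrimeAutProp_zmod_sq 2 one_pos
            (Cfsg.Agent.Lib.Helper87.pPrimeAutProp_of_mulEquiv e3.symm hprop)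
        · exact Cfsg.Agent.Lib.Helper87.MetaSS.false_of_dihedral hS hall' (i + 1) e
            (Cfsg.Agent.Lib.Helper87.MetaSS.exists_dihedral_sylow (i + 1 + 1) (by omega))
      · -- quasi-dihedral
        obtain ⟨n, hn, hcard, -⟩ := id hQD
        obtain ⟨G, _, _, P, hPQD, hPcard, hconj⟩ :=
          Cfsg.Agent.Lib.Helper87.MetaSS.exists_quasiDihedral_sylow n hn
        obtain ⟨e⟩ := Cfsg.Agent.Lib.Helper87.MetaSS.quasiDihedral_mulEquiv hPQD hQD
          (hPcard.trans hcard.symm)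
        exact Cfsg.Agent.Lib.Helper87.MetaSS.false_of_quasiDihedral hS hall' P hPQD e hconj
      · -- generalized quaternion
        have hn0 : NeZero n := ⟨by omega⟩
        have hc : Nat.card S = 4 * n := by
          rw [Nat.card_congr e.toEquiv, Nat.card_eq_fintype_card, QuaternionGroup.card]
        obtain ⟨k, -, hk⟩ := (Nat.dvd_prime_pow Nat.prime_two).mp
          (⟨4, by rw [← hj, hc, mul_comm]⟩ : n ∣ 2 ^ j)
        subst hk
        rcases k with _ | i
        · norm_num at hn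
        · exact Cfsg.Agent.Lib.Helper87.MetaSS.false_of_quaternion hS hall' i e
            (Cfsg.Agent.Lib.Helper87.MetaSS.exists_quaternion_sylow (i + 1) (by omega))
  · intro hne F hF
    have h1 : ¬ ∃ n : ℕ, 0 < n ∧
        Nonempty (↥S ≃* Multiplicative (ZMod (p ^ n)) × Multiplicative (ZMod (p ^ n))) :=
      fun h => hne (Or.inl h)
    by_cases hab : IsMulCommutative S
    · exact Cfsg.Agent.Lib.Helper87.MetaSS.abelian_case hS hm hab h1 F hF
    · by_cases hp2 : p = 2
      · subst hp2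
        exact Cfsg.Agent.Lib.Helper87.MetaSS.two_case hS hm hab
          (fun h => hne (Or.inr ⟨rfl, Or.inl h⟩))
          (fun h => hne (Or.inr ⟨rfl, Or.inr (Or.inr h)⟩))
          (fun h => hne (Or.inr ⟨rfl, Or.inr (Or.inl h)⟩)) F hF
      · have hna : ¬ ∀ a b : S, a * b = b * a := fun h => hab ⟨⟨h⟩⟩
        exact Cfsg.Agent.Lib.Helper87.MetaSS.odd_case hp2 hS hm
          (Cfsg.Agent.Lib.Helper87.MetaSS.pPrimeAutProp_of_metacyclic_odd hp2 hS hm hna) F hF

end Cfsg.Agent.S5287
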