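import Cfsg.Statements.S5289
import Cfsg.Agent.S5301
import Cfsg.Agent.Lib.Helper31.R2FusA

set_option autoImplicit false
open Cfsg

namespace Cfsg.Agent.S5289

open Cfsg.FusionSystem Cfsg.Agent.Lib.Helper87 Cfsg.Agent.Lib.Helper31.R2

/-- Let p ≥ 5 be a prime and S a finite p-group of p-rank two (it has an elementary abelian subgroup of order p² and none of order p³) which is not the extraspecial group of order p³ and exponent p. Then S is resistant: for every saturated fusion system F over S, S is normal in F, that is, every map of F extends to an F-automorphism of S. -/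
theorem result {Ω : Type*} [Group Ω] {S : Subgroup Ω} [Finite S] (p : ℕ) [Fact p.Prime] (hS : IsPGroup p S)
    (F : Cfsg.FusionSystem S) (hF : F.IsSaturated p)
    (hp : 5 ≤ p)
    (hrank2 : ∃ E : Subgroup Ω, E ≤ S ∧ Cfsg.IsElementaryAbelian p E ∧ Nat.card E = p ^ 2)
    (hrank3 : ∀ E : Subgroup Ω, E ≤ S → Cfsg.IsElementaryAbelian p E → Nat.card E ≤ p ^ 2)
    (hnotE : ¬ (Nat.card S = p ^ 3 ∧ Monoid.exponent ↥S = p)) : F.IsNormal S := by
  classical
  apply Cfsg.Agent.S5301.result p hS F hF
  intro P hfn hcen hrad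
  obtain ⟨-, U, hUeq⟩ := (fc_fa_of_fullyNormalized hS F hF hfn).2
  refine ⟨U, ?_⟩
  have hpp : p.Prime := Fact.out
  have hp3 : 3 < p := by omega
  have hp2 : p ≠ 2 := by omega
  have hPS : P ≤ S := hfn.1
  have hfinP : Finite P := finite_of_le hPS
  have hPp : IsPGroup p P :=
    hS.of_injective (Subgroup.inclusion hPS) (Subgroup.inclusion_injective _)
  have hexp := omegaS_pow hp3 hS hrank3
  have hcardΩ := omegaS_card_le hp3 hS hrank3
  have hfinΩ : Finite (omegaS p S) := finite_of_le (omegaS_le p S)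
  obtain ⟨D, hDdef⟩ : ∃ D : Subgroup ↥P, D = (omegaS p S).subgroupOf P := ⟨_, rfl⟩
  have hD : ∀ x : ↥P, x ∈ D ↔ x ^ p = 1 := by
    intro x
    rw [hDdef, Subgroup.mem_subgroupOf]
    constructor
    · intro hx
      apply Subtype.ext
      have := hexp _ hx
      simpa using this
    · intro hx
      apply mem_omegaS_of_pow (hPS x.2)
      have := congrArg Subtype.val hx
      simpa using this
  have hexp_mem : ∀ x : ↥P, x ^ p = 1 → (x : Ω) ∈ omegaS p S := by
    intro x hx
    apply mem_omegaS_of_pow (hPS x.2)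
    have := congrArg Subtype.val hx
    simpa using this
  have hDp : IsPGroup p D := hPp.to_subgroup D
  obtain ⟨k, hk⟩ := hDp.exists_card_eq
  have hmemD : ∀ d : D, ((d : ↥P) : Ω) ∈ omegaS p S := by
    intro d
    apply hexp_mem
    exact (hD d).mp d.2
  obtain ⟨f, hf⟩ : ∃ f : D → omegaS p S, ∀ d : D, ((f d : omegaS p S) : Ω) = ((d : ↥P) : Ω) :=
    ⟨fun d => ⟨_, hmemD d⟩, fun _ => rfl⟩
  have hinj : Function.Injective f := by
    intro a b hab
    apply Subtype.ext
    apply Subtype.ext
    rw [← hf a, ← hf b, hab]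
  have hDle : Nat.card D ≤ Nat.card (omegaS p S) := Nat.card_le_card_of_injective f hinj
  have hk3 : k ≤ 3 := by
    apply (Nat.pow_le_pow_iff_right hpp.one_lt).mp
    rw [← hk]
    exact hDle.trans hcardΩ
  rcases (by omega : k ≤ 1 ∨ k = 2 ∨ k = 3) with h1 | h2 | h3
  · apply locC hp2 hPp hD _ U
    rw [hk]
    calc p ^ k ≤ p ^ 1 := Nat.pow_le_pow_right hpp.pos h1
      _ = p := pow_one p
  · subst h2
    exact thmA hp hS F hF hcardΩ hnotE hfn hcen hrad D hD hk U hUeq
  · subst h3
    have hcard3 : Nat.card (omegaS p S) = p ^ 3 := le_antisymm hcardΩ (hk ▸ hDle)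
    have hbij : Function.Bijective f :=
      hinj.bijective_of_nat_card_le (by rw [hcard3, hk])
    have hΩP : omegaS p S ≤ P := by
      intro w hw
      obtain ⟨d, hd⟩ := hbij.2 ⟨w, hw⟩
      have h1 : ((f d : omegaS p S) : Ω) = w := congrArg Subtype.val hd
      rw [← h1, hf d]
      exact (d : ↥P).2
    have hna : ¬ ∀ a ∈ omegaS p S, ∀ b ∈ omegaS p S, a * b = b * a := by
      intro hc
      have h1 := hrank3 (omegaS p S) (omegaS_le p S)
        ⟨⟨⟨fun a b => Subtype.ext (hc a a.2 b b.2)⟩⟩, hexp⟩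
      rw [hcard3] at h1
      have h2 : p ^ 2 < p ^ 3 := Nat.pow_lt_pow_right hpp.one_lt (by norm_num)
      omega
    exact thmB hp hS F hF hexp hcard3 hna hfn hΩP U hUeq

end Cfsg.Agent.S5289
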