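import Cfsg.Statements.S5292
import Cfsg.Agent.Lib.Helper85.Realized
import Cfsg.Agent.Lib.Helper88.RealizedQuot
import Cfsg.Agent.Lib.Helper76.PSolvable
import Cfsg.Agent.Lib.Helper54.PSolvExt
import Cfsg.Agent.Lib.Helper30.PPrimeCore
import Cfsg.Agent.S5090

set_option autoImplicit false
universe u
open Cfsg

namespace Cfsg.Agent.S5292

/-- Let F be a saturated fusion system over a finite p-group S. Then F is the fusion system of some finite p-solvable group on a Sylow p-subgroup if and only if F is constrained (some subgroup normal in F is centric in F) and the group of automorphisms that F induces on its largest normal subgroup O_p(F) is p-solvable. -/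
theorem result {Ω : Type u} [Group Ω] {S : Subgroup Ω} [Finite S] (p : ℕ) [Fact p.Prime] (hS : IsPGroup p S)
    (F : Cfsg.FusionSystem S) (hF : F.IsSaturated p) :
    (∃ (G : Type u) (_ : Group G) (_ : Finite G) (ι : S →* G), Cfsg.IsPSolvable p G ∧ F.IsRealizedBy ι ∧
        ∃ T : Sylow p G, (T : Subgroup G) = ι.range) ↔
      (F.IsConstrained p ∧ Cfsg.IsPSolvable p ↥(F.autGroup F.core)) := by
  constructor
  · rintro ⟨G, hGrp, hfin, ι, hsol, hR, T, hT⟩
    have hcop := Cfsg.Agent.Lib.Helper30.pPrimeCore_card_coprime (G := G) p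
    have hinf : ι.range ⊓ Cfsg.pPrimeCore p G = ⊥ := by
      apply Subgroup.inf_eq_bot_of_coprime
      rw [← hT]
      obtain ⟨n, hn⟩ := (IsPGroup.iff_card).mp T.isPGroup'
      rw [hn]
      exact (Nat.Coprime.pow_right n hcop).symm
    obtain ⟨hR', T', hT'⟩ := Cfsg.Agent.Lib.Helper88.isRealizedBy_quot hS hR T hT (Cfsg.pPrimeCore p G) hinf
    have hsol' := Cfsg.Agent.Lib.Helper76.isPSolvable_quotient (Cfsg.pPrimeCore p G) hsol
    have hO := Cfsg.Agent.Lib.Helper30.pPrimeCore_quotient_eq_bot (G := G) p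
    have hcen := Cfsg.Agent.Lib.Helper76.centralizer_pCore_le_of_isPSolvable hsol' hO
    have hm : F.IsModel p (G ⧸ Cfsg.pPrimeCore p G) ((QuotientGroup.mk' _).comp ι) :=
      ⟨inferInstance, hR', ⟨T', hT'⟩, hcen⟩
    refine ⟨Cfsg.Agent.Lib.Helper85.Rz.isConstrained_of_isModel hm, ?_⟩
    rw [Cfsg.Agent.Lib.Helper85.Rz.core_eq_of_isModel hm]
    have hle : Cfsg.pCore p (G ⧸ Cfsg.pPrimeCore p G) ≤ ((QuotientGroup.mk' (Cfsg.pPrimeCore p G)).comp ι).range :=
      hT' ▸ Cfsg.Agent.Lib.Helper11.pCore_le_sylow T'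
    exact Cfsg.Agent.Lib.Helper76.isPSolvable_of_surjective
      (Cfsg.Agent.Lib.Helper85.Rz.autHom hR' (Cfsg.pCore p (G ⧸ Cfsg.pPrimeCore p G)) hle)
      (Cfsg.Agent.Lib.Helper85.Rz.autHom_surjective hR' _ hle) hsol'
  · rintro ⟨hcon, hsolA⟩
    obtain ⟨G, hGrp, ι, hm⟩ := Cfsg.Agent.S5090.result p hS F hcon
    obtain ⟨hfin, hR, ⟨T, hT⟩, hcen⟩ := id hm
    refine ⟨G, hGrp, hfin, ι, ?_, hR, T, hT⟩
    rw [Cfsg.Agent.Lib.Helper85.Rz.core_eq_of_isModel hm] at hsolA
    have hle : Cfsg.pCore p G ≤ ι.range := hT ▸ Cfsg.Agent.Lib.Helper11.pCore_le_sylow T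
    have hsurj := Cfsg.Agent.Lib.Helper85.Rz.autHom_surjective hR (Cfsg.pCore p G) hle
    have hker : IsPGroup p (Cfsg.Agent.Lib.Helper85.Rz.autHom hR (Cfsg.pCore p G) hle).ker :=
      (Cfsg.Agent.Lib.Helper22.pCore_isPGroup' p G).to_le
        ((Cfsg.Agent.Lib.Helper85.Rz.autHom_ker_le hR (Cfsg.pCore p G) hle).trans hcen)
    apply Cfsg.Agent.Lib.Helper54.isPSolvable_ext p (Cfsg.Agent.Lib.Helper85.Rz.autHom hR (Cfsg.pCore p G) hle).ker
      (Cfsg.Agent.Lib.Helper54.isPSolvable_of_isPGroup p hker)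
    exact Cfsg.Agent.Lib.Helper76.isPSolvable_of_mulEquiv
      (QuotientGroup.quotientKerEquivOfSurjective _ hsurj).symm hsolA

end Cfsg.Agent.S5292
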