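import Cfsg.Statements.S5294
import Cfsg.Agent.S5145
import Cfsg.Agent.Lib.Helper87.Lemma26
import Cfsg.Agent.Lib.Helper87.NormalChain
import Cfsg.Agent.Lib.Helper84.FusionIso
import Cfsg.Agent.Lib.Helper88.Trace

set_option autoImplicit false
open Cfsg

universe u

namespace Cfsg.Agent.S5294

open Cfsg.FusionSystem Cfsg.Agent.Lib.Helper87
open Cfsg.Agent.Lib.Helper88 (fixedSub trace trace_fixed trace_of_fixed mem_fixedSub)
open scoped IsMulCommutative

variable {Ω : Type u} [Group Ω] {S : Subgroup Ω}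

/-- the elements of `Q` fixed by `Aut_F(Q)` -/
def fixedQ (F : Cfsg.FusionSystem S) (Q : Subgroup Ω) : Subgroup Q where
  carrier := {x | ∀ a ∈ F.autGroup Q, a x = x}
  one_mem' := fun a _ => map_one a
  mul_mem' := by
    intro x y hx hy a ha
    rw [map_mul, hx a ha, hy a ha]
  inv_mem' := by
    intro x hx a ha
    rw [map_inv, hx a ha]

/-- a subgroup central in the system and contained in `Q` is fixed by `Aut_F(Q)` -/
theorem central_le_fixed (F : Cfsg.FusionSystem S) {Q : Subgroup Ω} (hQS : Q ≤ S) {Y : Subgroup Ω}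
    (hY : F.IsCentral Y) (hYQ : Y ≤ Q) : Y ≤ (fixedQ F Q).map Q.subtype := by
  intro x hxY
  refine ⟨⟨x, hYQ hxY⟩, ?_, rfl⟩
  intro a ha
  have ha' := (mem_autGroup_iff F hQS a).mp ha
  obtain ⟨ψ, -, hψ1, hψ2⟩ := hY.2 Q _ ha'
  have h1 := hψ1 ⟨x, hYQ hxY⟩
  have h2 := hψ2 ⟨x, hxY⟩
  have e : (Subgroup.inclusion (le_sup_left : Q ≤ Q ⊔ Y) ⟨x, hYQ hxY⟩) =
      (Subgroup.inclusion (le_sup_right : Y ≤ Q ⊔ Y) ⟨x, hxY⟩) := Subtype.ext rfl
  rw [e, h2] at h1
  exact Subtype.ext h1.symm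

theorem center_le_S (F : Cfsg.FusionSystem S) : F.center ≤ S :=
  sSup_le fun _ hY => hY.1

/-- an element of a subgroup `Q` normal in the system that is fixed by `Aut_F(Q)` generates a
subgroup central in the system -/
theorem zpowers_central_of_fixed (F : Cfsg.FusionSystem S) {Q : Subgroup Ω} (hN : F.IsNormal Q)
    {z : Ω} (hzQ : z ∈ Q) (hfix : (⟨z, hzQ⟩ : Q) ∈ fixedQ F Q) :
    F.IsCentral (Subgroup.zpowers z) := by
  have hQS : Q ≤ S := hN.1
  have hYQ : Subgroup.zpowers z ≤ Q := Subgroup.zpowers_le.mpr hzQ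
  refine ⟨hYQ.trans hQS, fun P φ hφ => ?_⟩
  obtain ⟨ψ, hψ, hψe, hψQ⟩ := hN.2 P φ hφ
  rw [map_subgroupOf_eq_iff] at hψQ
  have hle : P ⊔ Subgroup.zpowers z ≤ P ⊔ Q := sup_le_sup_left hYQ P
  refine ⟨ψ.comp (Subgroup.inclusion hle), restrict_mem F hψ hle, fun x => hψe x, ?_⟩
  -- the automorphism of `Q` induced by `ψ`
  have hψ' := restrict_mem F hψ (le_sup_right : Q ≤ P ⊔ Q)
  have hr : (ψ.comp (Subgroup.inclusion (le_sup_right : Q ≤ P ⊔ Q))).range = Q := by
    apply le_antisymm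
    · rintro _ ⟨x, rfl⟩
      exact hψQ.1 _ x.2
    · intro q hq
      obtain ⟨y, hy, hyq⟩ := hψQ.2 q hq
      exact ⟨⟨y, hy⟩, hyq⟩
  obtain ⟨e, he, hex⟩ := Cfsg.Agent.Lib.Helper84.exists_iso_of_hom_range F hψ' hr
  have heA : e ∈ F.autGroup Q := (Cfsg.Agent.Lib.Helper84.mem_autGroup_iff F hQS e).mpr he
  have hfixpow : ∀ y : Q, y ∈ Subgroup.zpowers (⟨z, hzQ⟩ : Q) → e y = y := by
    intro y hy
    obtain ⟨k, rfl⟩ := Subgroup.mem_zpowers_iff.mp hy
    rw [map_zpow, hfix e heA]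
  intro x
  have hxQ : (x : Ω) ∈ Q := hYQ x.2
  have h1 := hex ⟨x, hxQ⟩
  have h2 : e ⟨x, hxQ⟩ = ⟨x, hxQ⟩ := by
    apply hfixpow
    obtain ⟨k, hk⟩ := Subgroup.mem_zpowers_iff.mp x.2
    exact Subgroup.mem_zpowers_iff.mpr ⟨k, Subtype.ext (by simpa using hk)⟩
  rw [h2] at h1
  exact h1.symm

/-- the action of `Aut_F(Q)` on `Z(Q)` -/
def rho (F : Cfsg.FusionSystem S) (Q : Subgroup Ω) : F.autGroup Q →* MulAut (Subgroup.center Q) :=
  (MulAut.characteristic (Subgroup.center Q)).comp (F.autGroup Q).subtype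

theorem rho_coe (F : Cfsg.FusionSystem S) (Q : Subgroup Ω) (a : F.autGroup Q) (v : Subgroup.center Q) :
    ((rho F Q a v : Subgroup.center Q) : Q) = (a : MulAut Q) (v : Q) := rfl

/-- `Aut_S(Q)` inside `Aut_F(Q)` -/
def autS (F : Cfsg.FusionSystem S) (Q : Subgroup Ω) : Subgroup (F.autGroup Q) :=
  (autInducedBy S Q).subgroupOf (F.autGroup Q)

/-- `Z(S)`, contained in `Q`, as a subgroup of the fixed points of `Aut_S(Q)` on `Z(Q)` -/
def zEmb (F : Cfsg.FusionSystem S) {Q : Subgroup Ω} (hQS : Q ≤ S)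
    (hZQ : S ⊓ Subgroup.centralizer (S : Set Ω) ≤ Q) :
    ↥(S ⊓ Subgroup.centralizer (S : Set Ω)) →* fixedSub (V := ↥(Subgroup.center ↥Q)) (rho F Q) (autS F Q) :=
  MonoidHom.mk' (fun z => ⟨⟨⟨z, hZQ z.2⟩, by
      rw [Subgroup.mem_center_iff]
      intro y
      apply Subtype.ext
      exact Subgroup.mem_centralizer_iff.mp z.2.2 y (hQS y.2)⟩, by
      intro b hb
      have hb' : (b : MulAut Q) ∈ autInducedBy S Q := Subgroup.mem_subgroupOf.mp hb
      obtain ⟨s, hs, hbs⟩ := (mem_autInducedBy_iff S Q _).mp hb'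
      apply Subtype.ext
      apply Subtype.ext
      rw [rho_coe, hbs]
      show s * (z : Ω) * s⁻¹ = z
      rw [Subgroup.mem_centralizer_iff.mp z.2.2 s hs, mul_inv_cancel_right]⟩)
    (fun _ _ => rfl)

theorem zEmb_coe (F : Cfsg.FusionSystem S) {Q : Subgroup Ω} (hQS : Q ≤ S)
    (hZQ : S ⊓ Subgroup.centralizer (S : Set Ω) ≤ Q) (z : ↥(S ⊓ Subgroup.centralizer (S : Set Ω))) :
    ((((zEmb F hQS hZQ z : fixedSub (V := ↥(Subgroup.center ↥Q)) (rho F Q) (autS F Q)) : Subgroup.center Q) : Q) : Ω) = z := rfl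

theorem center_factor_of_normal [Finite S] (p : ℕ) [Fact p.Prime] (hS : IsPGroup p S)
    (F : Cfsg.FusionSystem S) (hF : F.IsSaturated p) {Q : Subgroup Ω} (hN : F.IsNormal Q)
    (hZQ : S ⊓ Subgroup.centralizer (S : Set Ω) ≤ Q) :
    ∃ K : Subgroup Ω, K ≤ (S ⊓ Subgroup.centralizer (S : Set Ω)) ∧ F.center ⊓ K = ⊥ ∧
      F.center ⊔ K = (S ⊓ Subgroup.centralizer (S : Set Ω)) := by
  have hQS : Q ≤ S := hN.1
  have hfinQ : Finite Q := finite_of_le hQS
  have hsc := stronglyClosed_of_isNormal F hN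
  have hwc := weaklyClosed_of_stronglyClosed F hsc
  have hSN : S ≤ Subgroup.normalizer (Q : Set Ω) := weaklyClosed_le_normalizer F hwc
  have hfn : F.IsFullyNormalized Q := by
    refine ⟨hQS, fun Q' hc => ?_⟩
    obtain ⟨φ, hφ, hr⟩ := hc
    rw [← hr, hwc.2 φ hφ]
  obtain ⟨-, R, hR⟩ := (fc_fa_of_fullyNormalized hS F hF hfn).2
  haveI : Fintype (F.autGroup Q ⧸ autS F Q) := Fintype.ofFinite _
  have hcZ : F.center ≤ S ⊓ Subgroup.centralizer (S : Set Ω) :=
    le_inf (center_le_S F) (Cfsg.FusionSystem.center_le_centralizer F)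
  have hcfix : F.center ≤ (fixedQ F Q).map Q.subtype :=
    sSup_le fun Y hY => central_le_fixed F hQS hY ((le_sSup hY).trans (hcZ.trans hZQ))
  -- the index is prime to p
  have hm : ¬ p ∣ Fintype.card (F.autGroup Q ⧸ autS F Q) := by
    rw [← Nat.card_eq_fintype_card, ← Subgroup.index_eq_card]
    have : autS F Q = (R : Subgroup (F.autGroup Q)) := hR.symm
    rw [this]
    exact R.not_dvd_index
  have hQp : IsPGroup p Q := hS.to_le hQS
  have hCp : IsPGroup p (Subgroup.center Q) := hQp.to_subgroup _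
  have hcop : p.Coprime (Fintype.card (F.autGroup Q ⧸ autS F Q)) :=
    (Nat.Prime.coprime_iff_not_dvd Fact.out).mpr hm
  -- the trace
  set T : ↥(S ⊓ Subgroup.centralizer (S : Set Ω)) →* Subgroup.center Q :=
    (trace (V := ↥(Subgroup.center ↥Q)) (rho F Q) (autS F Q)).comp (zEmb F hQS hZQ) with hT
  have hTfixed : ∀ (z : ↥(S ⊓ Subgroup.centralizer (S : Set Ω))),
      (⟨(z : Ω), hZQ z.2⟩ : Q) ∈ fixedQ F Q →
      T z = (zEmb F hQS hZQ z : Subgroup.center Q) ^ Fintype.card (F.autGroup Q ⧸ autS F Q) := by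
    intro z hz
    apply trace_of_fixed
    intro a
    apply Subtype.ext
    rw [rho_coe]
    exact hz a a.2
  refine ⟨T.ker.map (S ⊓ Subgroup.centralizer (S : Set Ω)).subtype, Subgroup.map_subtype_le _, ?_, ?_⟩
  · -- trivial intersection
    rw [eq_bot_iff]
    rintro x ⟨hxc, z, hzker, rfl⟩
    obtain ⟨y, hy, hyx⟩ := hcfix hxc
    have hy' : (⟨(z : Ω), hZQ z.2⟩ : Q) ∈ fixedQ F Q := by
      have : y = ⟨(z : Ω), hZQ z.2⟩ := Subtype.ext hyx
      rwa [← this]
    have h1 := hTfixed z hy'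
    rw [MonoidHom.mem_ker.mp hzker] at h1
    have h2 : (zEmb F hQS hZQ z : Subgroup.center Q) = 1 := by
      apply (hCp.powEquiv hcop).injective
      show (zEmb F hQS hZQ z : Subgroup.center Q) ^ _ = 1 ^ _
      rw [← h1, one_pow]
    rw [Subgroup.mem_bot]
    have h3 := congrArg (fun v : Subgroup.center Q => ((v : Q) : Ω)) h2
    exact h3
  · apply le_antisymm
    · exact sup_le hcZ (Subgroup.map_subtype_le _)
    · intro z hz
      set t := T ⟨z, hz⟩ with ht
      have htfix : ∀ a : F.autGroup Q, rho F Q a t = t := fun a => trace_fixed _ _ _ a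
      -- t lies in Z(S)
      have htS : (((t : Subgroup.center Q) : Q) : Ω) ∈ S ⊓ Subgroup.centralizer (S : Set Ω) := by
        refine ⟨hQS (t : Q).2, Subgroup.mem_centralizer_iff.mpr ?_⟩
        intro s hs
        have hsN := hSN hs
        have hcs : conjAut Q s hsN ∈ F.autGroup Q :=
          autInducedBy_le_autGroup F hQS (conjAut_mem_autInducedBy hs hsN)
        have h1 := htfix ⟨conjAut Q s hsN, hcs⟩
        have h2 := congrArg (fun v : Subgroup.center Q => ((v : Q) : Ω)) h1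
        have h3 : s * (((t : Subgroup.center Q) : Q) : Ω) * s⁻¹ = (((t : Subgroup.center Q) : Q) : Ω) := h2
        calc s * (((t : Subgroup.center Q) : Q) : Ω)
            = (s * (((t : Subgroup.center Q) : Q) : Ω) * s⁻¹) * s := by group
          _ = (((t : Subgroup.center Q) : Q) : Ω) * s := by rw [h3]
      have htfixQ : ((t : Subgroup.center Q) : Q) ∈ fixedQ F Q := by
        intro a ha
        have h1 := htfix ⟨a, ha⟩
        exact congrArg Subtype.val h1
      -- the root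
      have hcop' : (Nat.card (Subgroup.center Q)).Coprime (Fintype.card (F.autGroup Q ⧸ autS F Q)) := by
        obtain ⟨j, hj⟩ := IsPGroup.iff_card.mp hCp
        rw [hj]
        exact Nat.Coprime.pow_left j hcop
      set w := (powCoprime hcop').symm t with hw
      have hwt : w ^ Fintype.card (F.autGroup Q ⧸ autS F Q) = t := (powCoprime hcop').apply_symm_apply t
      have hwpow : w ∈ Subgroup.zpowers t := ⟨_, rfl⟩
      obtain ⟨k, hk⟩ := Subgroup.mem_zpowers_iff.mp hwpow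
      have hwΩ : (((w : Subgroup.center Q) : Q) : Ω) = ((((t : Subgroup.center Q) : Q) : Ω)) ^ k := by
        rw [← hk]
        simp
      have hwfixQ : ((w : Subgroup.center Q) : Q) ∈ fixedQ F Q := by
        have : ((w : Subgroup.center Q) : Q) = ((t : Subgroup.center Q) : Q) ^ k := by
          rw [← hk]
          simp
        rw [this]
        exact (fixedQ F Q).zpow_mem htfixQ k
      have hwZ : (((w : Subgroup.center Q) : Q) : Ω) ∈ S ⊓ Subgroup.centralizer (S : Set Ω) := by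
        rw [hwΩ]
        exact Subgroup.zpow_mem _ htS k
      have hwc : (((w : Subgroup.center Q) : Q) : Ω) ∈ F.center := by
        have hcen := zpowers_central_of_fixed F hN (t : Q).2 htfixQ
        have : (((w : Subgroup.center Q) : Q) : Ω) ∈ Subgroup.zpowers ((((t : Subgroup.center Q) : Q) : Ω)) := by
          rw [hwΩ]
          exact Subgroup.zpow_mem_zpowers _ k
        have hle : Subgroup.zpowers ((((t : Subgroup.center Q) : Q) : Ω)) ≤ F.center := le_sSup hcen
        exact hle this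
      have hTw : T ⟨_, hwZ⟩ = t := by
        have h1 := hTfixed ⟨_, hwZ⟩ hwfixQ
        rw [h1]
        have e : (zEmb F hQS hZQ ⟨_, hwZ⟩ : Subgroup.center Q) = w := Subtype.ext (Subtype.ext rfl)
        rw [e, hwt]
      have hker : (⟨z, hz⟩ : ↥(S ⊓ Subgroup.centralizer (S : Set Ω))) * (⟨_, hwZ⟩)⁻¹ ∈ T.ker := by
        rw [MonoidHom.mem_ker, map_mul, map_inv, hTw, ← ht, mul_inv_cancel]
      have e : z = (z * ((((w : Subgroup.center Q) : Q) : Ω))⁻¹) * (((w : Subgroup.center Q) : Q) : Ω) := by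
        group
      rw [e, sup_comm]
      have hK : z * ((((w : Subgroup.center Q) : Q) : Ω))⁻¹ ∈
          T.ker.map (S ⊓ Subgroup.centralizer (S : Set Ω)).subtype := ⟨_, hker, rfl⟩
      exact Subgroup.mul_mem_sup hK hwc

/-- Let F be a saturated fusion system over a finite p-group S whose centre Z(S) lies in the largest subgroup O_p(F) normal in F. Then the centre Z(F) of F is a direct factor of Z(S): there is a subgroup K of Z(S) with Z(F) ∩ K = 1 and Z(F)K = Z(S). -/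
theorem result {Ω : Type u} [Group Ω] {S : Subgroup Ω} [Finite S] (p : ℕ) [Fact p.Prime] (hS : IsPGroup p S)
    (F : Cfsg.FusionSystem S) (hF : F.IsSaturated p) (hZ : (S ⊓ Subgroup.centralizer (S : Set Ω)) ≤ F.core) :
    ∃ K : Subgroup Ω, K ≤ (S ⊓ Subgroup.centralizer (S : Set Ω)) ∧ F.center ⊓ K = ⊥ ∧ F.center ⊔ K = (S ⊓ Subgroup.centralizer (S : Set Ω)) :=
  center_factor_of_normal p hS F hF (Cfsg.Agent.S5145.result F) hZ

end Cfsg.Agent.S5294
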