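import Cfsg.Statements.S5295
import Cfsg.Agent.Lib.Helper54.FusWC
import Cfsg.Agent.S1973
import Cfsg.Agent.S5294
import Cfsg.Agent.Lib.Helper33.KInfLocal

set_option autoImplicit false
universe u
open Cfsg

namespace Cfsg.Agent.S5295

open Cfsg.FusionSystem Cfsg.Agent.Lib.Helper87 Cfsg.Agent.Lib.Helper54.FusWP in
/-- The local hypothesis for the lower K-infinity functor, `p` odd. -/
theorem localHyp_kInf {p : ℕ} [Fact p.Prime] (hp : p ≠ 2) {Ω : Type u} [Group Ω] (S : Subgroup Ω)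
    [Finite S] (C : Set Ω) :
    Cfsg.Agent.Lib.Helper54.FusLocal.LocalHyp p (fun (Q : Type u) [Group Q] => kInfLower Q) S C := by
  have hWc := Cfsg.Agent.Lib.Helper33.isCharPFunctor_kInfLower.{u} p
  apply Cfsg.Agent.Lib.Helper54.FusWC.localHyp_of_weaklyClosed _ hWc.2
  intro T _ _ G _ _ ι _ P hP c _ hc hcomm g hg
  have hp3 : 2 ≤ p - 1 := by
    have := (Fact.out : p.Prime).two_le
    omega
  have hloc : ∀ (H T : Subgroup G), T ≤ H → IsPGroup p ↥T → ¬ p ∣ (T).relIndex (H) →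
      ¬ H ≤ Subgroup.normalizer ((Cfsg.inducedFunctor (G := G) Cfsg.kInfLower T : Subgroup G) : Set G) →
      ∃ g : G, g ∈ T ∧ g ∉ Cfsg.pCoreOf p H ∧ ∀ U V : Subgroup ↥H, Cfsg.IsChiefFactor U V →
      U.map H.subtype ≤ Cfsg.pCoreOf p H ⊓
        Subgroup.centralizer ((Cfsg.pCoreOf p H : Subgroup G) : Set G) →
      Cfsg.iterCommutator (U.map H.subtype) (Subgroup.zpowers g) (p - 1) ≤ V.map H.subtype := by
    intro H T hTH hTp hTi hn
    obtain ⟨g, hgT, hgQ, hq⟩ := Cfsg.Agent.Lib.Helper33.kinf_local Cfsg.kInfLower hWc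
      (Or.inl (fun _ _ => rfl)) H T hTH hTp hTi hn
    refine ⟨g, hgT, hgQ, ?_⟩
    intro U V _ hUZ
    have h2 : Cfsg.iterCommutator (U.map H.subtype) (Subgroup.zpowers g) 2 ≤ (⊥ : Subgroup G) := by
      rw [← hq]
      exact Cfsg.Agent.Lib.Helper33.iterC_mono hUZ (Subgroup.zpowers g) 2
    have h3 := Cfsg.Agent.Lib.Helper33.iterC_le_of_le (V := (⊥ : Subgroup G))
      (Z := Subgroup.zpowers g) (by rw [Subgroup.normalizer_eq_top]; exact le_top) hp3 h2
    exact h3.trans bot_le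
  have hmain := Cfsg.Agent.S1973.main (Cfsg.inducedFunctor (G := G) Cfsg.kInfLower)
    (Cfsg.Agent.Lib.Helper33.isConjugacyFunctor_induced hWc)
    (fun P hP => (Cfsg.Agent.Lib.Helper33.center_le_induced_kInf P hP).1) hloc _ ⊤ rfl
    (P : Subgroup G) le_top P.isPGroup'
    (by rw [Subgroup.relIndex_top_right]; exact P.not_dvd_index)
  refine hmain (ι ⟨c, hc⟩) ⟨?_, ?_⟩ g (Subgroup.mem_top g) hg
  · rw [hP]; exact ⟨_, rfl⟩
  · refine Subgroup.mem_centralizer_iff.mpr ?_
    intro n hn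
    exact hcomm n hn.2

/-- Let F be a saturated fusion system over a finite p-group S with p odd. Then the centre Z(F) of F is a direct factor of Z(S): there is a subgroup K of Z(S) with Z(F) ∩ K = 1 and Z(F)K = Z(S). (At the prime 2 this can fail.) -/
theorem result {Ω : Type u} [Group Ω] {S : Subgroup Ω} [Finite S] (p : ℕ) [Fact p.Prime] (hp : p ≠ 2) (hS : IsPGroup p S)
    (F : Cfsg.FusionSystem S) (hF : F.IsSaturated p) :
    ∃ K : Subgroup Ω, K ≤ (S ⊓ Subgroup.centralizer (S : Set Ω)) ∧ F.center ⊓ K = ⊥ ∧ F.center ⊔ K = (S ⊓ Subgroup.centralizer (S : Set Ω)) := by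
  have hWc := Cfsg.Agent.Lib.Helper33.isCharPFunctor_kInfLower.{u} p
  have hWZ : ∀ (Q : Type u) [Group Q] [Finite Q], IsPGroup p Q →
      Subgroup.center Q ≤ (fun (Q : Type u) [Group Q] => kInfLower Q) Q := by
    intro Q _ _ hQ
    have h := Cfsg.Agent.S1978.result hQ
    exact h.2.1.trans h.1
  have hWS : Cfsg.inducedFunctor (fun (Q : Type u) [Group Q] => kInfLower Q) S ≤ S :=
    Cfsg.Agent.Lib.Helper54.FusWP.induced_le _ S
  have hN := Cfsg.Agent.Lib.Helper87.isNormalizerSystem_normalizerSystem F _ hWS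
  have hTS := Cfsg.Agent.Lib.Helper54.FusCenter.normalizerIn_induced_top hS hWc.2
  have hTle : Cfsg.FusionSystem.normalizerIn S
      (Cfsg.inducedFunctor (fun (Q : Type u) [Group Q] => kInfLower Q) S) ≤ S :=
    Cfsg.Agent.Lib.Helper87.normalizerIn_le S _
  haveI : Finite (Cfsg.FusionSystem.normalizerIn S
      (Cfsg.inducedFunctor (fun (Q : Type u) [Group Q] => kInfLower Q) S)) :=
    Cfsg.Agent.Lib.Helper87.finite_of_le hTle
  have hTp : IsPGroup p (Cfsg.FusionSystem.normalizerIn S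
      (Cfsg.inducedFunctor (fun (Q : Type u) [Group Q] => kInfLower Q) S)) := hS.to_le hTle
  have hfn : F.IsFullyNormalized
      (Cfsg.inducedFunctor (fun (Q : Type u) [Group Q] => kInfLower Q) S) :=
    Cfsg.Agent.Lib.Helper54.FusWP.fullyNormalized_of_normalizerIn_eq F hWS hTS
  have hNsat := Cfsg.Agent.S5098.result p hS F hF _ hfn _ hN
  have hcenter : (Cfsg.Agent.Lib.Helper87.normalizerSystem F _ hWS).center = F.center := by
    apply le_antisymm
    · exact Cfsg.Agent.Lib.Helper54.FusCenter.le_center_of_localHyp hS _ hWc.2 hWZ F hF _ hN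
        _ le_rfl (localHyp_kInf hp S _)
    · exact Cfsg.Agent.Lib.Helper54.FusCenter.center_le_center hS _ hWc.2 F hF _ hN
  have hnormal := Cfsg.Agent.Lib.Helper87.normalizerSystem_isNormal F hWS hN
  have e : Cfsg.FusionSystem.normalizerIn S
      (Cfsg.inducedFunctor (fun (Q : Type u) [Group Q] => kInfLower Q) S) ⊓
      Subgroup.centralizer ((Cfsg.FusionSystem.normalizerIn S
      (Cfsg.inducedFunctor (fun (Q : Type u) [Group Q] => kInfLower Q) S) : Subgroup Ω) : Set Ω) =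
      S ⊓ Subgroup.centralizer (S : Set Ω) := by
    rw [hTS]
  have hZ : Cfsg.FusionSystem.normalizerIn S
      (Cfsg.inducedFunctor (fun (Q : Type u) [Group Q] => kInfLower Q) S) ⊓
      Subgroup.centralizer ((Cfsg.FusionSystem.normalizerIn S
      (Cfsg.inducedFunctor (fun (Q : Type u) [Group Q] => kInfLower Q) S) : Subgroup Ω) : Set Ω) ≤
      (Cfsg.Agent.Lib.Helper87.normalizerSystem F _ hWS).core := by
    rw [e]
    refine le_trans ?_ (le_sSup hnormal)
    intro x hx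
    refine (Cfsg.Agent.Lib.Helper54.FusWP.mem_induced _).mpr ⟨⟨x, hx.1⟩, hWZ _ hS ?_, rfl⟩
    refine Subgroup.mem_center_iff.mpr ?_
    intro s
    apply Subtype.ext
    exact Subgroup.mem_centralizer_iff.mp hx.2 s s.2
  obtain ⟨K, hK1, hK2, hK3⟩ := Cfsg.Agent.S5294.result p hTp _ hNsat hZ
  rw [e] at hK1 hK3
  rw [hcenter] at hK2 hK3
  exact ⟨K, hK1, hK2, hK3⟩

end Cfsg.Agent.S5295
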