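import Cfsg.Statements.S5299
import Cfsg.Agent.Lib.Helper88.Involves

set_option autoImplicit false
universe u
open Cfsg

namespace Cfsg.Agent.S5299

open Cfsg.Agent.Lib.Helper88

/-- Let F be a saturated fusion system over a finite p-group S, H a finite group and Q a p-subgroup of H. If Q is not involved in S (no section of S is isomorphic to Q), then F is H-free: H is involved in no model of the normalizer system of a fully normalized centric subgroup. -/
theorem result {Ω : Type u} [Group Ω] {S : Subgroup Ω} [Finite S] (p : ℕ) [Fact p.Prime] (hS : IsPGroup p S)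
    (F : Cfsg.FusionSystem S) (hF : F.IsSaturated p) (H : Type*) [Group H] [Finite H] (Q : Subgroup H) (hQ : IsPGroup p Q)
    (hfree : ¬ Cfsg.Involves (↥Q) (↥S)) : F.IsSectionFree p H := by
  intro Q' _ _ N _ L _ ι hmodel hinv
  obtain ⟨hLfin, ⟨hιinj, -⟩, ⟨T, hT⟩, -⟩ := hmodel
  apply hfree
  apply involves_of_spans
  have h1 : Spans Q L := (spans_of_involves hinv).of_subgroup Q
  obtain ⟨K, _, i, f, hi, hf, hK⟩ := h1.exists_pgroup p hQ
  obtain ⟨j, hj⟩ := spans_of_sylow_range p ι hιinj T hT i f hi hf hK
  have hle : FusionSystem.normalizerIn S Q' ≤ S := inf_le_left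
  -- K lives in universe u; need a copy with injection to S
  refine ⟨(((Subgroup.inclusion hle).comp j).range : Subgroup S), inferInstance, Subgroup.subtype _,
    f.comp (MonoidHom.ofInjective (f := (Subgroup.inclusion hle).comp j)
      ((Subgroup.inclusion_injective hle).comp hj)).symm.toMonoidHom, Subgroup.subtype_injective _, ?_⟩
  exact hf.comp (MulEquiv.surjective _)

end Cfsg.Agent.S5299
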