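import Cfsg.Statements.S5306

set_option autoImplicit false
open Cfsg

namespace Cfsg.Agent.S5306

variable {X : Type*} [Group X]

/-- conjugation as an endomorphism -/
abbrev cj (g : X) : X →* X := (MulAut.conj g).toMonoidHom

theorem cj_apply (g x : X) : cj g x = g * x * g⁻¹ := rfl

theorem cj_injective (g : X) : Function.Injective (cj g) := (MulAut.conj g).injective

theorem map_cj_cj (g h : X) (A : Subgroup X) : (A.map (cj g)).map (cj h) = A.map (cj (h * g)) := by
  rw [Subgroup.map_map]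
  congr 1
  ext x
  simp [cj_apply, mul_assoc]

theorem map_cj_inv (g : X) (A : Subgroup X) : (A.map (cj g)).map (cj g⁻¹) = A := by
  rw [map_cj_cj, inv_mul_cancel]
  ext x
  simp [cj_apply]

theorem map_cj_inv' (g : X) (A : Subgroup X) : (A.map (cj g⁻¹)).map (cj g) = A := by
  have := map_cj_inv g⁻¹ A
  rwa [inv_inv] at this

theorem card_map_cj (g : X) (A : Subgroup X) : Nat.card (A.map (cj g)) = Nat.card A :=
  Subgroup.card_map_of_injective (cj_injective g)

theorem elemAb_iff (p : ℕ) (A : Subgroup X) :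
    IsElementaryAbelian p A ↔ (∀ a ∈ A, ∀ b ∈ A, a * b = b * a) ∧ ∀ a ∈ A, a ^ p = 1 := by
  constructor
  · rintro ⟨⟨⟨hc⟩⟩, he⟩
    refine ⟨fun a ha b hb => ?_, he⟩
    exact congrArg (fun z : A => (z : X)) (hc ⟨a, ha⟩ ⟨b, hb⟩)
  · rintro ⟨hc, he⟩
    refine ⟨⟨⟨fun a b => Subtype.ext (hc a a.2 b b.2)⟩⟩, he⟩

theorem elemAb_map_cj {p : ℕ} {A : Subgroup X} (hA : IsElementaryAbelian p A) (g : X) :
    IsElementaryAbelian p (A.map (cj g)) := by
  rw [elemAb_iff] at hA ⊢
  obtain ⟨hc, he⟩ := hA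
  constructor
  · rintro _ ⟨a, ha, rfl⟩ _ ⟨b, hb, rfl⟩
    rw [← map_mul, ← map_mul, hc a ha b hb]
  · rintro _ ⟨a, ha, rfl⟩
    rw [← map_pow, he a ha, map_one]

/-- elementary abelian subgroups of `X` inside `P` of largest order -/
def maxEA (p : ℕ) (P A : Subgroup X) : Prop :=
  (A ≤ P ∧ IsElementaryAbelian p A) ∧
    ∀ B : Subgroup X, B ≤ P → IsElementaryAbelian p B → Nat.card B ≤ Nat.card A

/-- intrinsic Thompson subgroup -/
def JJ (p : ℕ) (P : Subgroup X) : Subgroup X := sSup {A | maxEA p P A}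

theorem elemAb_map_subtype {p : ℕ} {P : Subgroup X} (A' : Subgroup P) :
    IsElementaryAbelian p (A'.map P.subtype) ↔ IsElementaryAbelian p A' := by
  rw [elemAb_iff, elemAb_iff]
  constructor
  · rintro ⟨hc, he⟩
    constructor
    · intro a ha b hb
      apply Subtype.ext
      exact hc a ⟨a, ha, rfl⟩ b ⟨b, hb, rfl⟩
    · intro a ha
      apply Subtype.ext
      have := he a ⟨a, ha, rfl⟩
      simpa using this
  · rintro ⟨hc, he⟩
    constructor
    · rintro _ ⟨a, ha, rfl⟩ _ ⟨b, hb, rfl⟩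
      have := congrArg (fun z : P => (z : X)) (hc a ha b hb)
      simpa using this
    · rintro _ ⟨a, ha, rfl⟩
      have := congrArg (fun z : P => (z : X)) (he a ha)
      simpa using this

theorem card_map_subtype {P : Subgroup X} (A' : Subgroup P) :
    Nat.card (A'.map P.subtype) = Nat.card A' :=
  Subgroup.card_map_of_injective P.subtype_injective

theorem thompsonSubgroupOf_eq (p : ℕ) (P : Subgroup X) : thompsonSubgroupOf p P = JJ p P := by
  unfold thompsonSubgroupOf thompsonSubgroup JJ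
  apply le_antisymm
  · rw [Subgroup.map_le_iff_le_comap]
    apply sSup_le
    rintro A' ⟨hA', hmax⟩
    rw [← Subgroup.map_le_iff_le_comap]
    apply le_sSup
    refine ⟨⟨Subgroup.map_subtype_le A', (elemAb_map_subtype A').mpr hA'⟩, ?_⟩
    intro B hB hBe
    rw [card_map_subtype]
    have h1 : (B.subgroupOf P).map P.subtype = B := Subgroup.map_subgroupOf_eq_of_le hB
    have h2 : IsElementaryAbelian p (B.subgroupOf P) := by
      rw [← elemAb_map_subtype, h1]; exact hBe
    have h3 := hmax _ h2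
    rwa [← card_map_subtype, h1] at h3
  · apply sSup_le
    rintro A ⟨⟨hAP, hAe⟩, hmax⟩
    have h1 : (A.subgroupOf P).map P.subtype = A := Subgroup.map_subgroupOf_eq_of_le hAP
    rw [← h1]
    apply Subgroup.map_mono
    apply le_sSup
    refine ⟨by rw [← elemAb_map_subtype, h1]; exact hAe, ?_⟩
    intro B' hB'
    have := hmax (B'.map P.subtype) (Subgroup.map_subtype_le B') ((elemAb_map_subtype B').mpr hB')
    rwa [card_map_subtype, ← h1, card_map_subtype] at this

theorem maxEA_map_cj {p : ℕ} {P A : Subgroup X} (h : maxEA p P A) (g : X) :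
    maxEA p (P.map (cj g)) (A.map (cj g)) := by
  obtain ⟨⟨hAP, hAe⟩, hmax⟩ := h
  refine ⟨⟨Subgroup.map_mono hAP, elemAb_map_cj hAe g⟩, ?_⟩
  intro B hB hBe
  rw [card_map_cj]
  have h1 : B.map (cj g⁻¹) ≤ P := by
    have := Subgroup.map_mono (f := cj g⁻¹) hB
    rwa [map_cj_inv] at this
  have := hmax _ h1 (elemAb_map_cj hBe g⁻¹)
  rwa [card_map_cj] at this

theorem JJ_map_cj_le (p : ℕ) (P : Subgroup X) (g : X) : (JJ p P).map (cj g) ≤ JJ p (P.map (cj g)) := by
  rw [Subgroup.map_le_iff_le_comap]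
  apply sSup_le
  intro A hA
  rw [← Subgroup.map_le_iff_le_comap]
  exact le_sSup (maxEA_map_cj hA g)

theorem JJ_map_cj (p : ℕ) (P : Subgroup X) (g : X) : JJ p (P.map (cj g)) = (JJ p P).map (cj g) := by
  apply le_antisymm _ (JJ_map_cj_le p P g)
  have h1 := JJ_map_cj_le p (P.map (cj g)) g⁻¹
  rw [map_cj_inv] at h1
  have h2 := Subgroup.map_mono (f := cj g) h1
  rwa [map_cj_inv'] at h2

theorem JJ_le (p : ℕ) (P : Subgroup X) : JJ p P ≤ P := by
  apply sSup_le
  intro A hA
  exact hA.1.1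

/-- weak closure of the Thompson subgroup -/
theorem JJ_eq_of_le [Finite X] (p : ℕ) (P : Subgroup X) (h : X) (hle : JJ p P ≤ P.map (cj h)) :
    JJ p P = JJ p (P.map (cj h)) := by
  have h1 : JJ p P ≤ JJ p (P.map (cj h)) := by
    apply sSup_le
    rintro A hA
    apply le_sSup
    obtain ⟨⟨hAP, hAe⟩, hmax⟩ := hA
    have hAJ : A ≤ JJ p P := le_sSup ⟨⟨hAP, hAe⟩, hmax⟩
    refine ⟨⟨hAJ.trans hle, hAe⟩, ?_⟩
    intro B hB hBe
    have h1 : B.map (cj h⁻¹) ≤ P := by
      have := Subgroup.map_mono (f := cj h⁻¹) hB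
      rwa [map_cj_inv] at this
    have := hmax _ h1 (elemAb_map_cj hBe h⁻¹)
    rwa [card_map_cj] at this
  apply Subgroup.eq_of_le_of_card_ge h1
  rw [JJ_map_cj, card_map_cj]

/-- two p-subgroups of a subgroup `C` can be moved into a common p-subgroup by an element of `C` -/
theorem exists_common_pgroup [Finite X] (p : ℕ) [Fact p.Prime] (C A B : Subgroup X) (hA : IsPGroup p A)
    (hB : IsPGroup p B) (hAC : A ≤ C) (hBC : B ≤ C) :
    ∃ c ∈ C, ∃ Q : Subgroup X, IsPGroup p Q ∧ A ≤ Q ∧ B.map (cj c) ≤ Q := by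
  have hA' : IsPGroup p (A.subgroupOf C) :=
    hA.of_injective (Subgroup.subgroupOfEquivOfLe hAC).toMonoidHom (MulEquiv.injective _)
  have hB' : IsPGroup p (B.subgroupOf C) :=
    hB.of_injective (Subgroup.subgroupOfEquivOfLe hBC).toMonoidHom (MulEquiv.injective _)
  obtain ⟨Q₁, hQ₁⟩ := hA'.exists_le_sylow
  obtain ⟨Q₂, hQ₂⟩ := hB'.exists_le_sylow
  obtain ⟨c, hc⟩ := MulAction.exists_smul_eq C Q₂ Q₁
  refine ⟨c, c.2, (Q₁ : Subgroup C).map C.subtype, ?_, ?_, ?_⟩
  · exact Q₁.2.map _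
  · intro a ha
    exact ⟨⟨a, hAC ha⟩, hQ₁ (Subgroup.mem_subgroupOf.mpr ha), rfl⟩
  · rintro _ ⟨b, hb, rfl⟩
    have hb2 : (⟨b, hBC hb⟩ : C) ∈ (Q₂ : Subgroup C) := hQ₂ (Subgroup.mem_subgroupOf.mpr hb)
    have hb3 : c * ⟨b, hBC hb⟩ * c⁻¹ ∈ (Q₁ : Subgroup C) := by
      rw [← hc, Sylow.coe_subgroup_smul]
      have := Subgroup.smul_mem_pointwise_smul _ (MulAut.conj c) _ hb2
      simpa using this
    exact ⟨c * ⟨b, hBC hb⟩ * c⁻¹, hb3, rfl⟩

/-- Let P be a Sylow p-subgroup of the finite group X and J = J(P) its Thompson subgroup (generated by the elementary abelian subgroups of P of largest order). If x and y lie in the centre of J and y = g x g⁻¹ for some g in X, then y = n x n⁻¹ for some n in the normalizer N_X(J). -/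
theorem result {X : Type*} [Group X] [Finite X] (p : ℕ) [Fact p.Prime] (P : Sylow p X) (J : Subgroup X) (hJ : J = Cfsg.thompsonSubgroupOf p (P : Subgroup X))
    (x y : X) (hx : x ∈ J ∧ ∀ j ∈ J, Commute j x) (hy : y ∈ J ∧ ∀ j ∈ J, Commute j y) (g : X) (hg : g * x * g⁻¹ = y) :
    ∃ n ∈ Subgroup.normalizer (J : Set X), n * x * n⁻¹ = y := by
  rw [thompsonSubgroupOf_eq] at hJ
  have hJP : J ≤ (P : Subgroup X) := by rw [hJ]; exact JJ_le p _
  have hJp : IsPGroup p J := P.2.to_le hJP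
  set C : Subgroup X := Subgroup.centralizer {y} with hC
  have hJC : J ≤ C := by
    intro j hj
    rw [hC, Subgroup.mem_centralizer_singleton_iff]
    exact (hy.2 j hj).eq
  have hJgC : J.map (cj g) ≤ C := by
    rintro _ ⟨j, hj, rfl⟩
    rw [hC, Subgroup.mem_centralizer_singleton_iff, ← hg, cj_apply]
    have := (hx.2 j hj).eq
    calc g * j * g⁻¹ * (g * x * g⁻¹) = g * (j * x) * g⁻¹ := by group
      _ = g * (x * j) * g⁻¹ := by rw [this]
      _ = g * x * g⁻¹ * (g * j * g⁻¹) := by group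
  have hJgp : IsPGroup p (J.map (cj g)) := hJp.map _
  obtain ⟨c, hcC, Q, hQp, hJQ, hJgQ⟩ := exists_common_pgroup p C J (J.map (cj g)) hJp hJgp hJC hJgC
  rw [map_cj_cj] at hJgQ
  obtain ⟨P', hP'⟩ := hQp.exists_le_sylow
  obtain ⟨h, hh⟩ := MulAction.exists_smul_eq X P P'
  have hP'eq : (P' : Subgroup X) = (P : Subgroup X).map (cj h) := by
    rw [← hh, Sylow.coe_subgroup_smul]
    rfl
  -- J = J(P')
  have e1 : J = JJ p (P' : Subgroup X) := by
    rw [hP'eq, hJ]
    apply JJ_eq_of_le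
    rw [← hJ, ← hP'eq]
    exact hJQ.trans hP'
  -- J^n = J(P')
  set n := c * g with hn
  have e2 : J.map (cj n) = JJ p (P' : Subgroup X) := by
    have h1 : J.map (cj n) = JJ p ((P : Subgroup X).map (cj n)) := by rw [JJ_map_cj, hJ]
    have h2 : (P' : Subgroup X) = ((P : Subgroup X).map (cj n)).map (cj (h * n⁻¹)) := by
      rw [map_cj_cj, hP'eq]
      congr 2
      group
    rw [h1, h2]
    apply JJ_eq_of_le
    rw [← h1, ← h2]
    exact hJgQ.trans hP'
  have e3 : J.map (cj n) = J := by rw [e2, ← e1]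
  refine ⟨n, ?_, ?_⟩
  · rw [Subgroup.mem_normalizer_iff]
    intro z
    constructor
    · intro hz
      rw [← e3]
      exact ⟨z, hz, rfl⟩
    · intro hz
      rw [← e3] at hz
      obtain ⟨w, hw, hwz⟩ := hz
      have : w = z := by
        have := cj_injective n
        apply this
        rw [hwz]
        rfl
      rwa [← this]
  · rw [hn]
    have hcy : c * y = y * c := by
      rw [hC, Subgroup.mem_centralizer_singleton_iff] at hcC
      exact hcC
    calc c * g * x * (c * g)⁻¹ = c * (g * x * g⁻¹) * c⁻¹ := by group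
      _ = c * y * c⁻¹ := by rw [hg]
      _ = y := by rw [hcy, mul_inv_cancel_right]

end Cfsg.Agent.S5306
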