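import Cfsg.Statements.S5311
import Cfsg.Agent.Lib.Helper85.Iso10

set_option autoImplicit false
open Cfsg

namespace Cfsg.Agent.S5311

/-- The layer of a saturated fusion system F over a finite p-group S is characteristic in F: for every automorphism α of S that is an automorphism of F (α and its inverse are morphisms from F to F) and every layer E of F over T, α carries T onto T and, for every map φ of E with source P, the map induced by α on α(P) (that is, α ∘ φ ∘ α⁻¹) is a map of E. -/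
theorem result {Ω : Type*} [Group Ω] {S : Subgroup Ω} [Finite S] (p : ℕ) [Fact p.Prime] (hS : IsPGroup p S) (F : Cfsg.FusionSystem S) (hF : F.IsSaturated p)
    (α : ↥S ≃* ↥S) (hα : F.IsMorphism F (S.subtype.comp α.toMonoidHom))
    (hα' : F.IsMorphism F (S.subtype.comp α.symm.toMonoidHom))
    {T : Subgroup Ω} (E : Cfsg.FusionSystem T) (hE : E.IsLayerOf F p) :
    Cfsg.FusionSystem.imageAlong (S.subtype.comp α.toMonoidHom) T = T ∧
      ∀ (P : Subgroup Ω) (φ : ↥P →* Ω), φ ∈ E.Hom P →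
        ∀ φ' : ↥(Cfsg.FusionSystem.imageAlong (S.subtype.comp α.toMonoidHom) P) →* Ω,
          Cfsg.FusionSystem.InducedAlong (S.subtype.comp α.toMonoidHom) φ φ' →
            φ' ∈ E.Hom (Cfsg.FusionSystem.imageAlong (S.subtype.comp α.toMonoidHom) P) := by
  have hFF : Cfsg.Agent.Lib.Helper85.Iso.CorrespR α F F :=
    Cfsg.Agent.Lib.Helper85.Iso.correspR_of_isMorphism hα hα'
  have hTS : T ≤ S := hE.1.1.2.2.2.1.1
  obtain ⟨E', hEE'⟩ := Cfsg.Agent.Lib.Helper85.Iso.exists_transport α hTS E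
    (rfl : Cfsg.Agent.Lib.Helper85.imE α T = Cfsg.Agent.Lib.Helper85.imE α T)
  have hE' : E'.IsLayerOf F p :=
    Cfsg.Agent.Lib.Helper85.Iso.isLayerOf_transport hFF hEE' rfl hE
  obtain ⟨hTT', hHom⟩ := Cfsg.Agent.Lib.Helper85.Iso.isLayerOf_unique hE hE'
  refine ⟨?_, ?_⟩
  · rw [Cfsg.Agent.Lib.Helper85.Iso.imageAlong_eq_imE]
    exact hTT'.symm
  · intro P φ hφ φ' hind
    obtain ⟨hP, hφS, hPP', heq⟩ := hind
    have hr : Cfsg.Agent.Lib.Helper85.Iso.Rel α φ φ' := by
      refine ⟨hP, hφS, hPP', ?_, heq⟩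
      rintro y ⟨s, hs, rfl⟩
      exact ⟨⟨s, hs⟩, rfl⟩
    rw [hHom]
    exact (hEE' _ _ _ _ hr).mp hφ

end Cfsg.Agent.S5311
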