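import Mathlib
import Cfsg.Statements.S5317
import Cfsg.Agent.Lib.Helper95.FusionTransport
import Cfsg.Agent.Lib.Helper14.PSL2Klein2
import Cfsg.Agent.Lib.Helper38.SLCard

set_option autoImplicit false
open Cfsg

namespace Cfsg.Agent.S5317

open Matrix Cfsg.Agent.Lib.Helper53 Cfsg.Agent.Lib.Helper14.SL2Order4
  Cfsg.Agent.Lib.Helper14.PSL2Klein Cfsg.Agent.Lib.Helper95.Fusion

section General

variable {F : Type*} [Field F]

local notation "SL2" => Matrix.SpecialLinearGroup (Fin 2) F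

theorem cp_mul_cm {a s : SL2} (ha : a ∈ Cp F) (hs : s ∈ Cm F) : a * s ∈ Cm F := by
  simp only [Cp, Cm, Set.mem_ofPred_eq] at *
  have ha' : a * (sl2w F)⁻¹ = (sl2w F)⁻¹ * a := by
    have : (sl2w F)⁻¹ * (a * sl2w F) * (sl2w F)⁻¹ = (sl2w F)⁻¹ * (sl2w F * a) * (sl2w F)⁻¹ := by
      rw [ha]
    simpa [mul_assoc] using this.symm
  rw [mul_assoc, hs, ← mul_assoc, ha', mul_assoc]

theorem cm_mul_cm {s t : SL2} (hs : s ∈ Cm F) (ht : t ∈ Cm F) : s * t ∈ Cp F := by
  simp only [Cp, Cm, Set.mem_ofPred_eq] at *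
  have hs' : s * (sl2w F)⁻¹ = sl2w F * s := by
    have : sl2w F * (s * sl2w F) * (sl2w F)⁻¹ = sl2w F * ((sl2w F)⁻¹ * s) * (sl2w F)⁻¹ := by
      rw [hs]
    simpa [mul_assoc] using this.symm
  rw [mul_assoc, ht, ← mul_assoc, hs', mul_assoc]

theorem cp_mul_cp {a b : SL2} (ha : a ∈ Cp F) (hb : b ∈ Cp F) : a * b ∈ Cp F := by
  simp only [Cp, Set.mem_ofPred_eq] at *
  rw [mul_assoc, hb, ← mul_assoc, ha, mul_assoc]

theorem cp_inv {a : SL2} (ha : a ∈ Cp F) : a⁻¹ ∈ Cp F := by
  simp only [Cp, Set.mem_ofPred_eq] at *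
  have : a⁻¹ * (a * sl2w F) * a⁻¹ = a⁻¹ * (sl2w F * a) * a⁻¹ := by rw [ha]
  simpa [mul_assoc] using this.symm

theorem cm_inv {a : SL2} (ha : a ∈ Cm F) : a⁻¹ ∈ Cm F := by
  simp only [Cm, Set.mem_ofPred_eq] at *
  have h1 : a * sl2w F * a⁻¹ = (sl2w F)⁻¹ := by rw [ha]; group
  have h2 : a * (sl2w F)⁻¹ * a⁻¹ = sl2w F := by
    have := congrArg (fun z => z⁻¹) h1
    simpa [mul_assoc] using this
  calc a⁻¹ * sl2w F = a⁻¹ * (a * (sl2w F)⁻¹ * a⁻¹) := by rw [h2]
    _ = (sl2w F)⁻¹ * a⁻¹ := by group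

theorem w_mem_cp : sl2w F ∈ Cp F := by
  simp only [Cp, Set.mem_ofPred_eq]

/-- elements of `Cm` invert `Cp` -/
theorem cm_inverts {a s : SL2} (ha : a ∈ Cp F) (hs : s ∈ Cm F) : s * a * s⁻¹ = a⁻¹ := by
  rw [mem_Cp_iff] at ha
  rw [mem_Cm_iff] at hs
  obtain ⟨a10, a11⟩ := ha
  obtain ⟨s10, s11⟩ := hs
  have hda : a.1 0 0 * a.1 1 1 - a.1 0 1 * a.1 1 0 = 1 := by
    have := a.2; rw [Matrix.det_fin_two] at this; exact this
  have hds : s.1 0 0 * s.1 1 1 - s.1 0 1 * s.1 1 0 = 1 := by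
    have := s.2; rw [Matrix.det_fin_two] at this; exact this
  have key : s * a = a⁻¹ * s := by
    apply Subtype.ext
    rw [Matrix.SpecialLinearGroup.coe_mul, Matrix.SpecialLinearGroup.coe_mul,
      Matrix.SpecialLinearGroup.coe_inv, Matrix.adjugate_fin_two]
    ext i j
    fin_cases i <;> fin_cases j <;>
      simp [Matrix.mul_apply, Fin.sum_univ_two, a10, a11, s10, s11] <;> ring
  rw [key]; group

/-- an element of `Cp` of square `-1` is `w` or `w⁻¹` -/
theorem cp_sq_neg_one (h2 : (2 : F) ≠ 0) {y : SL2} (hy : y ∈ Cp F) (h : y * y = -1) :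
    y = sl2w F ∨ y = (sl2w F)⁻¹ := by
  rw [mem_Cp_iff] at hy
  obtain ⟨y10, y11⟩ := hy
  have hd : y.1 0 0 * y.1 1 1 - y.1 0 1 * y.1 1 0 = 1 := by
    have := y.2; rw [Matrix.det_fin_two] at this; exact this
  have h' := congrArg Subtype.val h
  rw [Matrix.SpecialLinearGroup.coe_mul, Matrix.SpecialLinearGroup.coe_neg,
    Matrix.SpecialLinearGroup.coe_one] at h'
  have h01 := congrFun (congrFun h' 0) 1
  have h00 := congrFun (congrFun h' 0) 0
  simp [Matrix.mul_apply, Fin.sum_univ_two, y10, y11] at h01 h00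
  rw [y10, y11] at hd
  -- h01 : 2 * y00 * y01 = 0 ; hd : y00^2 + y01^2 = 1 ; h00 : y00^2 - y01^2 = -1
  have hy00 : y.1 0 0 = 0 := by
    have : (2 : F) * (y.1 0 0 * y.1 0 0) = 0 := by linear_combination hd + h00
    have := (mul_eq_zero.mp this).resolve_left h2
    exact mul_self_eq_zero.mp this
  have hsq : (y.1 0 1 - 1) * (y.1 0 1 + 1) = 0 := by
    rw [hy00] at hd
    linear_combination hd
  rcases mul_eq_zero.mp hsq with h1 | h1
  · right
    rw [w_inv]
    apply Subtype.ext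
    rw [Matrix.SpecialLinearGroup.coe_neg, w_val]
    have e01 : y.1 0 1 = 1 := by linear_combination h1
    ext i j
    fin_cases i <;> fin_cases j <;> simp [hy00, e01, y10, y11]
  · left
    apply Subtype.ext
    rw [w_val]
    have e01 : y.1 0 1 = -1 := by linear_combination h1
    ext i j
    fin_cases i <;> fin_cases j <;> simp [hy00, e01, y10, y11]

end General

section Finite

variable {F : Type*} [Field F] [Fintype F]

local notation "SL2" => Matrix.SpecialLinearGroup (Fin 2) F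
local notation "PSL2" => Matrix.ProjectiveSpecialLinearGroup (Fin 2) F

theorem card_comap_mk' {G : Type*} [Group G] [Finite G] (N : Subgroup G) [N.Normal]
    (H : Subgroup (G ⧸ N)) :
    Nat.card (H.comap (QuotientGroup.mk' N)) = Nat.card N * Nat.card H := by
  have hsurj : Function.Surjective (QuotientGroup.mk' N) := QuotientGroup.mk'_surjective N
  have h1 : (H.comap (QuotientGroup.mk' N)).index = H.index :=
    Subgroup.index_comap_of_surjective H hsurj
  have h2 := (H.comap (QuotientGroup.mk' N)).card_mul_index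
  have h3 := H.card_mul_index
  have h4 := Subgroup.card_eq_card_quotient_mul_card_subgroup N
  rw [h1] at h2
  have hidx : 0 < H.index := Nat.pos_of_ne_zero (Subgroup.index_ne_zero_of_finite)
  have : Nat.card (H.comap (QuotientGroup.mk' N)) * H.index =
      (Nat.card N * Nat.card H) * H.index := by
    rw [h2, h4, ← h3]; ring
  exact Nat.eq_of_mul_eq_mul_right hidx this

/-- the data of a Sylow `2`-subgroup of `SL₂(q)` inside the normaliser of `⟨w⟩` -/
structure Good (Sh : Subgroup SL2) (n : ℕ) : Prop where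
  le : ∀ x ∈ Sh, x ∈ Cp F ∨ x ∈ Cm F
  w_mem : sl2w F ∈ Sh
  card : Nat.card Sh = 2 ^ n
  four_le : 4 ≤ n
  s_ex : ∃ s ∈ Sh, s ∈ Cm F

theorem Good.neg_one_mem {Sh : Subgroup SL2} {n : ℕ} (h : Good Sh n) : (-1 : SL2) ∈ Sh := by
  rw [← sl2w_sq F]
  exact Sh.mul_mem h.w_mem h.w_mem

theorem neg_eq_mul (x : SL2) : -x = (-1 : SL2) * x := by
  rw [neg_mul, one_mul]

/-- membership in the image in `PSL₂` -/
theorem Good.mk_mem_iff {Sh : Subgroup SL2} {n : ℕ} (h : Good Sh n) (x : SL2) :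
    (QuotientGroup.mk x : PSL2) ∈ Sh.map (QuotientGroup.mk' (Subgroup.center SL2)) ↔ x ∈ Sh := by
  constructor
  · rintro ⟨y, hy, hxy⟩
    have hxy' : (QuotientGroup.mk y : PSL2) = QuotientGroup.mk x := hxy
    rcases (mk_eq_mk_iff y x).mp hxy' with rfl | rfl
    · exact hy
    · rw [neg_eq_mul]
      exact Sh.mul_mem h.neg_one_mem hy
  · intro hx
    exact ⟨x, hx, rfl⟩

/-- an element of `Cp` in the Sylow subgroup whose square is not `±1` -/
theorem Good.u_ex (hF : Odd (Fintype.card F)) {Sh : Subgroup SL2} {n : ℕ} (h : Good Sh n) :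
    ∃ u ∈ Sh, u ∈ Cp F ∧ u * u ≠ 1 ∧ u * u ≠ -1 := by
  classical
  have h2 := two_ne_zero_of_odd_card_field hF
  by_contra hcon
  obtain ⟨s, hs, hsm⟩ := h.s_ex
  have hU : ∀ u ∈ Sh, u ∈ Cp F → u ∈ ({1, -1, sl2w F, (sl2w F)⁻¹} : Finset SL2) := by
    intro u hu hup
    have : u * u = 1 ∨ u * u = -1 := by
      by_contra hh
      apply hcon
      refine ⟨u, hu, hup, fun h1 => hh (Or.inl h1), fun h1 => hh (Or.inr h1)⟩
    simp only [Finset.mem_insert, Finset.mem_singleton]
    rcases this with h1 | h1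
    · rcases sl2_sq_eq_one hF u h1 with h3 | h3
      · exact Or.inl h3
      · exact Or.inr (Or.inl h3)
    · rcases cp_sq_neg_one h2 hup h1 with h3 | h3
      · exact Or.inr (Or.inr (Or.inl h3))
      · exact Or.inr (Or.inr (Or.inr h3))
  set B : Finset SL2 := {1, -1, sl2w F, (sl2w F)⁻¹} with hB
  have hsub : (Sh : Set SL2) ⊆ ((B ∪ B.image (fun b => b * s⁻¹) : Finset SL2) : Set SL2) := by
    intro x hx
    rw [Finset.mem_coe, Finset.mem_union, Finset.mem_image]
    rcases h.le x hx with hxp | hxm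
    · exact Or.inl (hU x hx hxp)
    · right
      refine ⟨x * s, hU (x * s) (Sh.mul_mem hx hs) (cm_mul_cm hxm hsm), ?_⟩
      group
  have hcardB : B.card ≤ 4 := by
    rw [hB]
    exact Finset.card_le_four
  have h1 : Nat.card Sh ≤ 8 := by
    have e : Nat.card Sh = (Sh : Set SL2).ncard := (Set.ncard.eq_1 (Sh : Set SL2)).symm ▸ rfl
    rw [e]
    calc (Sh : Set SL2).ncard ≤ ((B ∪ B.image (fun b => b * s⁻¹) : Finset SL2) : Set SL2).ncard :=
          Set.ncard_le_ncard hsub (Finset.finite_toSet _)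
      _ = (B ∪ B.image (fun b => b * s⁻¹)).card := Set.ncard_coe_finset _
      _ ≤ B.card + (B.image (fun b => b * s⁻¹)).card := Finset.card_union_le _ _
      _ ≤ 4 + 4 := Nat.add_le_add hcardB (Finset.card_image_le.trans hcardB)
  rw [h.card] at h1
  have : 2 ^ 4 ≤ 2 ^ n := Nat.pow_le_pow_right (by norm_num) h.four_le
  omega

theorem Good.propA (hF : Odd (Fintype.card F)) {Sh : Subgroup SL2} {n : ℕ} (h : Good Sh n) :
    PropA (Sh.map (QuotientGroup.mk' (Subgroup.center SL2))) := by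
  classical
  intro T hT hne hsc
  set S0 := Sh.map (QuotientGroup.mk' (Subgroup.center SL2)) with hS0
  -- an involution in `T`
  have hpS : IsPGroup 2 Sh := IsPGroup.of_card h.card
  have hpS0 : IsPGroup 2 S0 := hpS.map _
  have hpT : IsPGroup 2 T := hpS0.to_le hT
  have h2T : 2 ∣ Nat.card T := by
    rcases hpT.card_eq_or_dvd with h1 | h1
    · exact absurd (Subgroup.card_eq_one.mp h1) hne
    · exact h1
  obtain ⟨t, ht⟩ := exists_prime_orderOf_dvd_card' (G := T) 2 h2T
  have ht' : orderOf (t : PSL2) = 2 := by rw [Subgroup.orderOf_coe]; exact ht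
  obtain ⟨s, hs, hsm⟩ := h.s_ex
  -- every element of `Cm` in the Sylow subgroup maps into `T`
  have hm : ∀ z ∈ Sh, z ∈ Cm F → (QuotientGroup.mk z : PSL2) ∈ T := by
    intro z hz hzm
    have hzz : z * z = -1 := sq_of_mem_Cm z hzm
    have hord : orderOf (QuotientGroup.mk z : PSL2) = 2 := (orderOf_mk_eq_two_iff hF z).mpr hzz
    have hconj := part3 hF (t : PSL2) _ ht' hord
    rw [isConj_iff] at hconj
    obtain ⟨g, hg⟩ := hconj
    rw [← hg]
    apply hsc _ t.2
    rw [hg]
    exact ⟨z, hz, rfl⟩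
  apply le_antisymm hT
  rintro y ⟨x, hx, rfl⟩
  show (QuotientGroup.mk x : PSL2) ∈ T
  rcases h.le x hx with hxp | hxm
  · have h1 := hm (x * s) (Sh.mul_mem hx hs) (cp_mul_cm hxp hsm)
    have h2 := hm s hs hsm
    have : (QuotientGroup.mk x : PSL2) =
        (QuotientGroup.mk (x * s) : PSL2) * (QuotientGroup.mk s : PSL2)⁻¹ := by
      rw [QuotientGroup.mk_mul]; group
    rw [this]
    exact T.mul_mem h1 (T.inv_mem h2)
  · exact hm x hx hxm

theorem Good.propB (hF : Odd (Fintype.card F)) {Sh : Subgroup SL2} {n m : ℕ} (h : Good Sh n)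
    (hSL : Nat.card SL2 = 2 ^ n * m) (hm : ¬ 2 ∣ m) :
    PropB (Sh.map (QuotientGroup.mk' (Subgroup.center SL2))) := by
  classical
  have h2 := two_ne_zero_of_odd_card_field hF
  intro g hg
  obtain ⟨gh, rfl⟩ := QuotientGroup.mk_surjective g
  show (QuotientGroup.mk gh : PSL2) ∈ _
  rw [h.mk_mem_iff]
  -- `gh` normalises `Sh`
  have hN : ∀ x ∈ Sh, gh * x * gh⁻¹ ∈ Sh := by
    intro x hx
    rw [← h.mk_mem_iff]
    have := hg (QuotientGroup.mk x) ⟨x, hx, rfl⟩
    rw [QuotientGroup.mk_mul, QuotientGroup.mk_mul, QuotientGroup.mk_inv]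
    exact this
  have hsurj : ∀ y ∈ Sh, ∃ x ∈ Sh, gh * x * gh⁻¹ = y := by
    have hinj : Function.Injective (fun x : Sh => (⟨gh * x.1 * gh⁻¹, hN x.1 x.2⟩ : Sh)) := by
      intro a b hab
      have := congrArg Subtype.val hab
      simp only at this
      apply Subtype.ext
      have h3 : gh⁻¹ * (gh * a.1 * gh⁻¹) * gh = gh⁻¹ * (gh * b.1 * gh⁻¹) * gh := by rw [this]
      simpa [mul_assoc] using h3
    have hsur := Finite.injective_iff_surjective.mp hinj
    intro y hy
    obtain ⟨x, hx⟩ := hsur ⟨y, hy⟩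
    exact ⟨x.1, x.2, congrArg Subtype.val hx⟩
  have hN' : ∀ x, x ∈ Sh ↔ gh * x * gh⁻¹ ∈ Sh := by
    intro x
    refine ⟨hN x, fun hx => ?_⟩
    obtain ⟨x', hx', he⟩ := hsurj _ hx
    have : x' = x := by
      have h3 : gh⁻¹ * (gh * x' * gh⁻¹) * gh = gh⁻¹ * (gh * x * gh⁻¹) * gh := by rw [he]
      simpa [mul_assoc] using h3
    rw [← this]; exact hx'
  obtain ⟨s, hs, hsm⟩ := h.s_ex
  -- step 1 : `gh` lies in `Cp ∪ Cm`
  have step1 : gh ∈ Cp F ∨ gh ∈ Cm F := by
    set y := gh * sl2w F * gh⁻¹ with hy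
    have hyS : y ∈ Sh := hN _ h.w_mem
    have hyy : y * y = -1 := by
      have : y * y = gh * (sl2w F * sl2w F) * gh⁻¹ := by rw [hy]; group
      rw [this, sl2w_sq, mul_neg, mul_one, neg_mul, mul_inv_cancel]
    rcases h.le y hyS with hyp | hym
    · rcases cp_sq_neg_one h2 hyp hyy with h3 | h3
      · left
        simp only [Cp, Set.mem_ofPred_eq]
        have h4 : gh * sl2w F * gh⁻¹ = sl2w F := by rw [← hy]; exact h3
        calc gh * sl2w F = (gh * sl2w F * gh⁻¹) * gh := by group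
          _ = sl2w F * gh := by rw [h4]
      · right
        simp only [Cm, Set.mem_ofPred_eq]
        have h4 : gh * sl2w F * gh⁻¹ = (sl2w F)⁻¹ := by rw [← hy]; exact h3
        calc gh * sl2w F = (gh * sl2w F * gh⁻¹) * gh := by group
          _ = (sl2w F)⁻¹ * gh := by rw [h4]
    · exfalso
      obtain ⟨u, hu, hup, hu1, hu2⟩ := h.u_ex hF
      obtain ⟨x, hx, hxu⟩ := hsurj u hu
      have hinv : y * u * y⁻¹ = u⁻¹ := cm_inverts hup hym
      have hinv' : y * u⁻¹ * y⁻¹ = u := by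
        have := congrArg (fun z => z⁻¹) hinv
        simpa [mul_assoc] using this
      have huy : u * y * u⁻¹ = u * u * y := by
        calc u * y * u⁻¹ = u * (y * u⁻¹ * y⁻¹) * y := by group
          _ = u * u * y := by rw [hinv']
      rcases h.le x hx with hxp | hxm
      · -- `x` centralises `w`
        have hxw : x * sl2w F * x⁻¹ = sl2w F := by
          simp only [Cp, Set.mem_ofPred_eq] at hxp
          rw [hxp]; group
        have : u * y * u⁻¹ = y := by
          rw [← hxu, hy]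
          calc gh * x * gh⁻¹ * (gh * sl2w F * gh⁻¹) * (gh * x * gh⁻¹)⁻¹
              = gh * (x * sl2w F * x⁻¹) * gh⁻¹ := by group
            _ = gh * sl2w F * gh⁻¹ := by rw [hxw]
        rw [huy] at this
        apply hu1
        exact mul_right_cancel (b := y) (by rw [this, one_mul])
      · have hxw : x * sl2w F * x⁻¹ = (sl2w F)⁻¹ := by
          simp only [Cm, Set.mem_ofPred_eq] at hxm
          rw [hxm]; group
        have : u * y * u⁻¹ = y⁻¹ := by
          rw [← hxu, hy]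
          calc gh * x * gh⁻¹ * (gh * sl2w F * gh⁻¹) * (gh * x * gh⁻¹)⁻¹
              = gh * (x * sl2w F * x⁻¹) * gh⁻¹ := by group
            _ = gh * (sl2w F)⁻¹ * gh⁻¹ := by rw [hxw]
            _ = (gh * sl2w F * gh⁻¹)⁻¹ := by group
        rw [huy] at this
        apply hu2
        have h5 : u * u = y⁻¹ * y⁻¹ := by
          calc u * u = u * u * y * y⁻¹ := by group
            _ = y⁻¹ * y⁻¹ := by rw [this]
        rw [h5, ← _root_.mul_inv_rev, hyy]
        apply inv_eq_of_mul_eq_one_right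
        rw [neg_mul_neg, one_mul]
  -- step 2 : the normaliser in `Cp ∪ Cm` is a `2`-group
  set M : Subgroup SL2 := Subgroup.normalizer ((Subgroup.zpowers (sl2w F) : Subgroup SL2) : Set SL2) ⊓
    Subgroup.normalizer (Sh : Set SL2) with hM
  have memN : ∀ x : SL2, x ∈ Subgroup.normalizer
      ((Subgroup.zpowers (sl2w F) : Subgroup SL2) : Set SL2) ↔ x ∈ Cp F ∨ x ∈ Cm F := by
    intro x
    rw [← SetLike.mem_coe, normalizer_eq h2, Set.mem_union]
  have hShM : Sh ≤ M := by
    intro x hx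
    rw [hM, Subgroup.mem_inf, memN]
    exact ⟨h.le x hx, Subgroup.le_normalizer hx⟩
  have hghM : gh ∈ M := by
    rw [hM, Subgroup.mem_inf, memN, Subgroup.mem_normalizer_iff]
    exact ⟨step1, hN'⟩
  have hpow : ∀ x ∈ M, x * x * (x * x) ∈ Sh := by
    intro x hx
    rw [hM, Subgroup.mem_inf, memN, Subgroup.mem_normalizer_iff] at hx
    obtain ⟨hx1, hx2⟩ := hx
    set a := x * x with ha
    have hap : a ∈ Cp F := by
      rcases hx1 with h3 | h3
      · exact cp_mul_cp h3 h3
      · exact cm_mul_cm h3 h3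
    have haN : a * s * a⁻¹ ∈ Sh := by
      have h3 := (hx2 s).mp hs
      have h4 := (hx2 _).mp h3
      have : x * (x * s * x⁻¹) * x⁻¹ = a * s * a⁻¹ := by rw [ha]; group
      rw [← this]; exact h4
    have hinv : s * a * s⁻¹ = a⁻¹ := cm_inverts hap hsm
    have hinv' : s * a⁻¹ * s⁻¹ = a := by
      have := congrArg (fun z => z⁻¹) hinv
      simpa [mul_assoc] using this
    have : a * s * a⁻¹ = a * a * s := by
      calc a * s * a⁻¹ = a * (s * a⁻¹ * s⁻¹) * s := by group
        _ = a * a * s := by rw [hinv']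
    rw [this] at haN
    have := Sh.mul_mem haN (Sh.inv_mem hs)
    simpa [mul_assoc] using this
  have hpM : IsPGroup 2 M := by
    intro x
    refine ⟨n + 2, ?_⟩
    have h4 := hpow x.1 x.2
    have h5 : (⟨x.1 * x.1 * (x.1 * x.1), h4⟩ : Sh) ^ Nat.card Sh = 1 := pow_card_eq_one'
    have h6 := congrArg Subtype.val h5
    rw [h.card] at h6
    simp only [SubgroupClass.coe_pow, Subgroup.coe_one] at h6
    apply Subtype.ext
    rw [SubgroupClass.coe_pow, Subgroup.coe_one, pow_add, pow_mul', ← h6]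
    congr 1
    rw [show (2 : ℕ) ^ 2 = 4 by norm_num, pow_succ, pow_succ, pow_succ, pow_one, mul_assoc]
  obtain ⟨j, hj⟩ := IsPGroup.iff_card.mp hpM
  have hjn : j ≤ n := by
    have hdvd : 2 ^ j ∣ 2 ^ n * m := by
      rw [← hj, ← hSL]; exact Subgroup.card_subgroup_dvd_card M
    have hcop : Nat.Coprime (2 ^ j) m :=
      Nat.Coprime.pow_left _ ((Nat.Prime.coprime_iff_not_dvd Nat.prime_two).mpr hm)
    have := hcop.dvd_of_dvd_mul_right hdvd
    exact (Nat.pow_dvd_pow_iff_le_right (by norm_num)).mp this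
  have hcard : Nat.card M ≤ Nat.card Sh := by
    rw [hj, h.card]
    exact Nat.pow_le_pow_right (by norm_num) hjn
  have hEq : Sh = M := Subgroup.eq_of_le_of_card_ge hShM hcard
  rw [hEq]
  exact hghM

theorem numerics (q : ℕ) (hq : 1 < q) (hodd : q % 2 = 1) (h16 : 16 ∣ q ^ 2 - 1) :
    ∃ n r m₁ : ℕ, 4 ≤ n ∧ ¬ 2 ∣ r ∧ ¬ 2 ∣ m₁ ∧
      2 * (if q % 4 = 1 then q - 1 else q + 1) = 2 ^ n * r ∧
      q * (q ^ 2 - 1) = 2 ^ n * (r * m₁) := by
  have key : ∃ c m₁ : ℕ, c ≠ 0 ∧ 8 ∣ c ∧ ¬ 2 ∣ m₁ ∧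
      (if q % 4 = 1 then q - 1 else q + 1) = c ∧ q * (q ^ 2 - 1) = 2 * c * m₁ := by
    by_cases h1 : q % 4 = 1
    · obtain ⟨j, rfl⟩ : ∃ j, q = 4 * j + 1 := ⟨q / 4, by omega⟩
      have e : (4 * j + 1) ^ 2 - 1 = 8 * (j * (2 * j + 1)) := by
        have : (4 * j + 1) ^ 2 = 8 * (j * (2 * j + 1)) + 1 := by ring
        omega
      rw [e] at h16
      have h2 : 2 ∣ j * (2 * j + 1) := by
        have : 8 * 2 ∣ 8 * (j * (2 * j + 1)) := h16
        exact (Nat.mul_dvd_mul_iff_left (by norm_num)).mp this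
      have hj : 2 ∣ j := by
        rcases (Nat.Prime.dvd_mul Nat.prime_two).mp h2 with h | h
        · exact h
        · omega
      refine ⟨4 * j, (4 * j + 1) * (2 * j + 1), by omega, by omega, ?_, by rw [if_pos h1]; omega, ?_⟩
      · intro h
        rcases (Nat.Prime.dvd_mul Nat.prime_two).mp h with h | h <;> omega
      · rw [e]; ring
    · have h3 : q % 4 = 3 := by omega
      obtain ⟨j, rfl⟩ : ∃ j, q = 4 * j + 3 := ⟨q / 4, by omega⟩
      have e : (4 * j + 3) ^ 2 - 1 = 8 * ((j + 1) * (2 * j + 1)) := by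
        have : (4 * j + 3) ^ 2 = 8 * ((j + 1) * (2 * j + 1)) + 1 := by ring
        omega
      rw [e] at h16
      have h2 : 2 ∣ (j + 1) * (2 * j + 1) := by
        have : 8 * 2 ∣ 8 * ((j + 1) * (2 * j + 1)) := h16
        exact (Nat.mul_dvd_mul_iff_left (by norm_num)).mp this
      have hj : 2 ∣ j + 1 := by
        rcases (Nat.Prime.dvd_mul Nat.prime_two).mp h2 with h | h
        · exact h
        · omega
      refine ⟨4 * j + 4, (4 * j + 3) * (2 * j + 1), by omega, by omega, ?_,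
        by rw [if_neg h1], ?_⟩
      · intro h
        rcases (Nat.Prime.dvd_mul Nat.prime_two).mp h with h | h <;> omega
      · rw [e]; ring
  obtain ⟨c, m₁, hc0, hc8, hm₁, hc, hSL⟩ := key
  obtain ⟨n, r, hr, hnr⟩ := Nat.exists_eq_two_pow_mul_odd (n := 2 * c) (by omega)
  have hr2 : ¬ 2 ∣ r := by
    rw [← Nat.not_even_iff_odd] at hr
    exact fun h => hr (even_iff_two_dvd.mpr h)
  refine ⟨n, r, m₁, ?_, hr2, hm₁, by rw [hc, hnr], by rw [hSL, hnr]; ring⟩
  have h16' : 2 ^ 4 ∣ 2 ^ n * r := by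
    rw [← hnr]
    obtain ⟨c', rfl⟩ := hc8
    exact ⟨c', by ring⟩
  have hcop : Nat.Coprime (2 ^ 4) r :=
    Nat.Coprime.pow_left _ ((Nat.Prime.coprime_iff_not_dvd Nat.prime_two).mpr hr2)
  have := hcop.dvd_of_dvd_mul_right h16'
  exact (Nat.pow_dvd_pow_iff_le_right (by norm_num)).mp this

theorem exists_good (hF : Odd (Fintype.card F)) (n r : ℕ) (hn : 4 ≤ n) (hr : ¬ 2 ∣ r)
    (hc : 2 * (if Fintype.card F % 4 = 1 then Fintype.card F - 1 else Fintype.card F + 1)
      = 2 ^ n * r) : ∃ Sh : Subgroup SL2, Good Sh n := by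
  classical
  have h2 := two_ne_zero_of_odd_card_field hF
  set N : Subgroup SL2 :=
    Subgroup.normalizer ((Subgroup.zpowers (sl2w F) : Subgroup SL2) : Set SL2) with hN
  have hNcard : Nat.card N = 2 ^ n * r := by rw [hN, card_normalizer_w hF, hc]
  have memN : ∀ x : SL2, x ∈ N ↔ x ∈ Cp F ∨ x ∈ Cm F := by
    intro x
    rw [← SetLike.mem_coe, hN, normalizer_eq h2, Set.mem_union]
  have hzN : Subgroup.zpowers (sl2w F) ≤ N := Subgroup.le_normalizer
  have hH0 : Nat.card ((Subgroup.zpowers (sl2w F)).subgroupOf N) = 2 ^ 2 := by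
    rw [Nat.card_congr (Subgroup.subgroupOfEquivOfLe hzN).toEquiv, Nat.card_zpowers,
      orderOf_eq_four h2 _ (sl2w_sq F)]
    norm_num
  obtain ⟨K, hK, hHK⟩ := Sylow.exists_subgroup_card_pow_prime_le 2
    (show 2 ^ n ∣ Nat.card N by rw [hNcard]; exact dvd_mul_right _ _)
    ((Subgroup.zpowers (sl2w F)).subgroupOf N) hH0 (by omega)
  have hwN : sl2w F ∈ N := hzN (Subgroup.mem_zpowers _)
  have hcardSh : Nat.card (K.map N.subtype) = 2 ^ n := by
    rw [Subgroup.card_map_of_injective N.subtype_injective, hK]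
  have hle : ∀ x ∈ K.map N.subtype, x ∈ Cp F ∨ x ∈ Cm F := by
    rintro x ⟨y, -, rfl⟩
    exact (memN _).mp y.2
  refine ⟨K.map N.subtype, hle, ?_, hcardSh, hn, ?_⟩
  · refine ⟨⟨sl2w F, hwN⟩, hHK ?_, rfl⟩
    rw [Subgroup.mem_subgroupOf]
    exact Subgroup.mem_zpowers _
  · by_contra hcon
    have hallp : ∀ x ∈ K.map N.subtype, x ∈ Cp F := by
      intro x hx
      rcases hle x hx with h | h
      · exact h
      · exact absurd ⟨x, hx, h⟩ hcon
    have hleC : K.map N.subtype ≤ Subgroup.centralizer ({sl2w F} : Set SL2) := by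
      intro x hx
      rw [Subgroup.mem_centralizer_iff]
      intro y hy
      rw [Set.mem_singleton_iff] at hy
      subst hy
      have := hallp x hx
      simp only [Cp, Set.mem_ofPred_eq] at this
      exact this.symm
    have hcardC : Nat.card (Subgroup.centralizer ({sl2w F} : Set SL2)) =
        (if Fintype.card F % 4 = 1 then Fintype.card F - 1 else Fintype.card F + 1) := by
      rw [← card_circle hF h2, ← Nat.card_congr CpEquiv]
      apply Nat.card_congr
      refine Equiv.subtypeEquivRight (fun x => ?_)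
      rw [Subgroup.mem_centralizer_iff]
      simp only [Cp, Set.mem_ofPred_eq, Set.mem_singleton_iff, forall_eq]
      exact eq_comm
    have hdvd := Subgroup.card_dvd_of_le hleC
    rw [hcardSh, hcardC] at hdvd
    obtain ⟨c', hc'⟩ := hdvd
    rw [hc'] at hc
    apply hr
    have : 2 ^ n * (2 * c') = 2 ^ n * r := by rw [← hc]; ring
    have := Nat.eq_of_mul_eq_mul_left (by positivity) this
    exact ⟨c', this.symm⟩

end Finite

/-- Let F be a finite field of odd order q with q² ≡ 1 mod 16 (so that a Sylow 2-subgroup of PSL(2,q), dihedral of order the 2-part of (q²−1)/2, has order at least 8). Then the 2-fusion system of PSL(2,F) on a Sylow 2-subgroup is simple: saturated, over a nontrivial 2-group, with no normal subsystem other than the trivial one and itself. -/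
theorem result {F : Type*} [Field F] [Fintype F] (hodd : Fintype.card F % 2 = 1) (h16 : 16 ∣ Fintype.card F ^ 2 - 1)
    (S : Sylow 2 (Matrix.ProjectiveSpecialLinearGroup (Fin 2) F)) :
    (Cfsg.groupFusionSystem (S : Subgroup (Matrix.ProjectiveSpecialLinearGroup (Fin 2) F))).IsSimple 2 := by
  classical
  have hF : Odd (Fintype.card F) := Nat.odd_iff.mpr hodd
  have h2 := two_ne_zero_of_odd_card_field hF
  have hq : 1 < Fintype.card F := Fintype.one_lt_card
  obtain ⟨n, r, m₁, hn, hr, hm₁, hc, hq3⟩ := numerics _ hq hodd h16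
  obtain ⟨Sh, hSh⟩ := exists_good hF n r hn hr hc
  have hSL : Nat.card (Matrix.SpecialLinearGroup (Fin 2) F) = 2 ^ n * (r * m₁) := by
    rw [Cfsg.Agent.Lib.Helper38.card_SL2, hq3]
  have hm : ¬ 2 ∣ r * m₁ := by
    intro h
    rcases (Nat.Prime.dvd_mul Nat.prime_two).mp h with h | h
    · exact hr h
    · exact hm₁ h
  have hpow : 2 ^ n = 2 ^ (n - 1) * 2 := by
    rw [← pow_succ]
    congr 1
    omega
  have hG : Nat.card (Matrix.ProjectiveSpecialLinearGroup (Fin 2) F) = 2 ^ (n - 1) * (r * m₁) := by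
    have h1 := card_PSL2_mul_two hF
    rw [hq3, hpow] at h1
    have : Nat.card (Matrix.ProjectiveSpecialLinearGroup (Fin 2) F) * 2 =
        2 ^ (n - 1) * (r * m₁) * 2 := by rw [h1]; ring
    exact Nat.eq_of_mul_eq_mul_right (by norm_num) this
  have hS0 : Nat.card (Sh.map (QuotientGroup.mk'
      (Subgroup.center (Matrix.SpecialLinearGroup (Fin 2) F)))) = 2 ^ (n - 1) := by
    have h1 := card_comap_mk' (Subgroup.center (Matrix.SpecialLinearGroup (Fin 2) F))
      (Sh.map (QuotientGroup.mk' (Subgroup.center (Matrix.SpecialLinearGroup (Fin 2) F))))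
    rw [Subgroup.comap_map_eq, QuotientGroup.ker_mk', card_center h2] at h1
    have hle : Subgroup.center (Matrix.SpecialLinearGroup (Fin 2) F) ≤ Sh := by
      intro x hx
      rcases (mem_center_iff' x).mp hx with rfl | rfl
      · exact Sh.one_mem
      · exact hSh.neg_one_mem
    rw [sup_eq_left.mpr hle, hSh.card, hpow] at h1
    omega
  exact isSimple_of_card _ hG hm (by omega) hS0 (hSh.propA hF) (hSh.propB hF hSL hm) S

end Cfsg.Agent.S5317
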