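import Mathlib
import Cfsg.Statements.S5318
import Cfsg.Agent.Lib.Helper41.SL3Case1
import Cfsg.Agent.Lib.Helper41.SL3Case2

set_option autoImplicit false
open Cfsg

namespace Cfsg.Agent.S5318

open Matrix Cfsg.Agent.Lib.Helper95.Fusion Cfsg.Agent.Lib.Helper41.FusionInner
  Cfsg.Agent.Lib.Helper41.SL3

section Finish

variable {F : Type*} [Field F] [Fintype F]

/-- from (A) and (I) for one subgroup of `SL₃(F)` of Sylow order to the fusion system of `PSL₃(F)` -/
theorem finish (S0 : Subgroup (SpecialLinearGroup (Fin 3) F)) (n m : ℕ) (hn : n ≠ 0) (hm : Odd m)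
    (hcard : Nat.card (SpecialLinearGroup (Fin 3) F) = 2 ^ n * m) (hS0 : Nat.card S0 = 2 ^ n)
    (hA : PropA S0) (hI : PropI S0)
    (S : Sylow 2 (Matrix.ProjectiveSpecialLinearGroup (Fin 3) F)) :
    (Cfsg.groupFusionSystem
      (S : Subgroup (Matrix.ProjectiveSpecialLinearGroup (Fin 3) F))).IsSimple 2 := by
  haveI : Fact (Nat.Prime 2) := ⟨Nat.prime_two⟩
  obtain ⟨m', hm', hP⟩ := card_PSL3_of hcard hm
  have hπ : Function.Surjective
      (QuotientGroup.mk' (Subgroup.center (SpecialLinearGroup (Fin 3) F))) :=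
    QuotientGroup.mk'_surjective _
  have hker : (QuotientGroup.mk' (Subgroup.center (SpecialLinearGroup (Fin 3) F))).ker ≤
      Subgroup.center (SpecialLinearGroup (Fin 3) F) := by
    rw [QuotientGroup.ker_mk']
  have hcop : (Nat.card
      (QuotientGroup.mk' (Subgroup.center (SpecialLinearGroup (Fin 3) F))).ker).Coprime 2 := by
    rw [QuotientGroup.ker_mk']
    exact Nat.coprime_two_right.mpr odd_card_center
  have hm2 : ¬ 2 ∣ m' := by
    intro h
    obtain ⟨t, ht⟩ := hm'
    omega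
  exact isSimple_of_card_inner
    (S0.map (QuotientGroup.mk' (Subgroup.center (SpecialLinearGroup (Fin 3) F)))) hP hm2 hn
    (card_map_eq _ hker hcop hS0) (propA_map _ hπ hker hcop hS0 hA)
    (propI_map _ hπ hker hcop hS0 hI) S

theorem odd_factor (q r s : ℕ) (hq : Odd q) (hr : Odd r) (hs : Odd s) :
    Odd (q ^ 3 * (q ^ 2 + q + 1) * r ^ 2 * s) := by
  have h1 : Odd (q ^ 2 + q + 1) := by
    have h2 : Even (q * (q + 1)) := Nat.even_mul_succ_self q
    have e : q ^ 2 + q + 1 = q * (q + 1) + 1 := by ring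
    rw [e]
    exact h2.add_one
  exact ((hq.pow.mul h1).mul hr.pow).mul hs

theorem case1 (h2 : (2 : F) ≠ 0) (h4 : Fintype.card F % 4 = 1)
    (S : Sylow 2 (Matrix.ProjectiveSpecialLinearGroup (Fin 3) F)) :
    (Cfsg.groupFusionSystem
      (S : Subgroup (Matrix.ProjectiveSpecialLinearGroup (Fin 3) F))).IsSimple 2 := by
  have hq1 : 1 < Fintype.card F := Fintype.one_lt_card
  have hqodd : Odd (Fintype.card F) := Nat.odd_iff.mpr (by omega)
  obtain ⟨a, r, hr, hqa⟩ := Nat.exists_eq_two_pow_mul_odd (n := Fintype.card F - 1) (by omega)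
  have ha : 2 ≤ a := by
    obtain ⟨t, ht⟩ := hr
    rcases a with _ | _ | a
    · rw [pow_zero, one_mul] at hqa
      omega
    · rw [zero_add, pow_one] at hqa
      omega
    · omega
  obtain ⟨s, hs, hqs⟩ : ∃ s, Odd s ∧ Fintype.card F + 1 = 2 * s := by
    refine ⟨(Fintype.card F + 1) / 2, ?_, by omega⟩
    rw [Nat.odd_iff]
    omega
  -- the group of `2`-power roots of unity
  let μ : Subgroup Fˣ := (powMonoidHom (2 ^ a) : Fˣ →* Fˣ).ker
  have hμmem : ∀ x : Fˣ, x ∈ μ ↔ x ^ (2 ^ a) = 1 := by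
    intro x
    rw [MonoidHom.mem_ker, powMonoidHom_apply]
  have hμ : Nat.card μ = 2 ^ a := by
    rw [IsCyclic.card_powMonoidHom_ker, Nat.card_units, Nat.card_eq_fintype_card, hqa]
    exact Nat.gcd_eq_right (dvd_mul_right _ _)
  have hneg1 : (-1 : Fˣ) ∈ μ := by
    rw [hμmem]
    exact Even.neg_one_pow ((Nat.even_pow' (by omega)).mpr even_two)
  obtain ⟨w, hw⟩ := (FiniteField.isSquare_neg_one_iff (F := F)).mpr (by omega)
  have hw0 : w ≠ 0 := by
    rintro rfl
    simp at hw
  have hii : Units.mk0 w hw0 * Units.mk0 w hw0 = -1 := by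
    apply Units.ext
    rw [Units.val_mul, Units.val_mk0, Units.val_neg, Units.val_one, ← hw]
  have hi : Units.mk0 w hw0 ∈ μ := by
    rw [hμmem]
    obtain ⟨j, rfl⟩ : ∃ j, a = j + 2 := ⟨a - 2, by omega⟩
    have e : 2 ^ (j + 2) = 2 * (2 * 2 ^ j) := by ring
    rw [e, pow_mul, pow_two, hii, pow_mul]
    simp
  have hcard : Nat.card (SpecialLinearGroup (Fin 3) F) =
      2 ^ (2 * a + 1) *
        (Fintype.card F ^ 3 * (Fintype.card F ^ 2 + Fintype.card F + 1) * r ^ 2 * s) := by
    rw [card_SL3, hqa, hqs]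
    ring
  exact finish ((M2 μ).map iota) (2 * a + 1) _ (by omega) (odd_factor _ r s hqodd hr hs) hcard
    (card_map_M2 μ a hμ) (propA_case1 h2 μ a hμ hneg1)
    (propI_case1 h2 μ hneg1 _ hi hii) S

theorem case2 (h2 : (2 : F) ≠ 0) (h4 : Fintype.card F % 4 = 3)
    (S : Sylow 2 (Matrix.ProjectiveSpecialLinearGroup (Fin 3) F)) :
    (Cfsg.groupFusionSystem
      (S : Subgroup (Matrix.ProjectiveSpecialLinearGroup (Fin 3) F))).IsSimple 2 := by
  have hq1 : 1 < Fintype.card F := Fintype.one_lt_card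
  have hqodd : Odd (Fintype.card F) := Nat.odd_iff.mpr (by omega)
  have hns := hns_of_card h4
  obtain ⟨a, s, hs, hqa⟩ := Nat.exists_eq_two_pow_mul_odd (n := Fintype.card F + 1) (by omega)
  have ha : 2 ≤ a := by
    obtain ⟨t, ht⟩ := hs
    rcases a with _ | _ | a
    · rw [pow_zero, one_mul] at hqa
      omega
    · rw [zero_add, pow_one] at hqa
      omega
    · omega
  obtain ⟨r, hr, hqr⟩ : ∃ r, Odd r ∧ Fintype.card F - 1 = 2 * r := by
    refine ⟨(Fintype.card F - 1) / 2, ?_, by omega⟩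
    rw [Nat.odd_iff]
    omega
  have hC : Nat.card (CC (F := F)) = 2 ^ (a + 1) * (r * s) := by
    rw [card_CC hns]
    have e : Fintype.card F ^ 2 - 1 = (Fintype.card F - 1) * (Fintype.card F + 1) := by
      obtain ⟨t, ht⟩ : ∃ t, Fintype.card F = t + 1 := ⟨Fintype.card F - 1, by omega⟩
      rw [ht, Nat.add_sub_cancel]
      apply Nat.sub_eq_of_eq_add
      ring
    rw [e, hqr, hqa]
    ring
  have hrs : Odd (r * s) := hr.mul hs
  have hcard : Nat.card (SpecialLinearGroup (Fin 3) F) =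
      2 ^ (a + 1 + 1) *
        (Fintype.card F ^ 3 * (Fintype.card F ^ 2 + Fintype.card F + 1) * r ^ 2 * s) := by
    rw [card_SL3, hqr, hqa]
    ring
  exact finish ((SD (F := F) (2 ^ (a + 1))).map iota) (a + 1 + 1) _ (by omega)
    (odd_factor _ r s hqodd hr hs) hcard
    (card_map_SD h2 (a + 1) (r * s) hrs hC)
    (propA_case2 h2 hns hqodd (a + 1) r (r * s) (by omega) hr hqr hrs hC)
    (propI_case2 h2 hns h4 (a + 1) (r * s) (by omega) hrs hC) S

end Finish

/-- For a finite field F of odd order, the 2-fusion system of PSL(3,F) on a Sylow 2-subgroup (semidihedral or wreathed according as |F| ≡ 3 or 1 mod 4) is simple. -/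
theorem result {F : Type*} [Field F] [Fintype F] (hodd : Fintype.card F % 2 = 1) (S : Sylow 2 (Matrix.ProjectiveSpecialLinearGroup (Fin 3) F)) :
    (Cfsg.groupFusionSystem (S : Subgroup (Matrix.ProjectiveSpecialLinearGroup (Fin 3) F))).IsSimple 2 := by
  have hF : Odd (Fintype.card F) := Nat.odd_iff.mpr hodd
  have h2 := Cfsg.Agent.Lib.Helper53.two_ne_zero_of_odd_card_field hF
  have h4 : Fintype.card F % 4 = 1 ∨ Fintype.card F % 4 = 3 := by omega
  rcases h4 with h4 | h4
  · exact case1 h2 h4 S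
  · exact case2 h2 h4 S

end Cfsg.Agent.S5318
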