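import Mathlib
import Cfsg.Statements.S5319
import Cfsg.Agent.Lib.Helper41.SU3CaseA
import Cfsg.Agent.Lib.Helper41.SU3CaseB
import Cfsg.Agent.Lib.Helper20.SylowRealize

set_option autoImplicit false
open Cfsg

namespace Cfsg.Agent.S5319

open Matrix Cfsg.Agent.Lib.Helper95.Fusion Cfsg.Agent.Lib.Helper41.FusionInner
  Cfsg.Agent.Lib.Helper41.FusionRel Cfsg.Agent.Lib.Helper41.SL3 Cfsg.Agent.Lib.Helper41.SU3

theorem card_quot_center_of {G : Type*} [Group G] [Finite G] {n m : ℕ}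
    (h : Nat.card G = 2 ^ n * m) (hm : Odd m) (hco : Odd (Nat.card (Subgroup.center G))) :
    ∃ m', Odd m' ∧ Nat.card (G ⧸ Subgroup.center G) = 2 ^ n * m' := by
  have h1 : Nat.card (G ⧸ Subgroup.center G) * Nat.card (Subgroup.center G) = Nat.card G :=
    (Subgroup.card_eq_card_quotient_mul_card_subgroup _).symm
  rw [h] at h1
  obtain ⟨c, hc⟩ : ∃ c, c = Nat.card (Subgroup.center G) := ⟨_, rfl⟩
  rw [← hc] at h1 hco
  have hcop : Nat.Coprime c (2 ^ n) := by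
    apply Nat.Coprime.pow_right
    exact Nat.coprime_two_right.mpr hco
  have hdvd : c ∣ m := by
    have : c ∣ 2 ^ n * m := ⟨_, by rw [← h1, mul_comm]⟩
    exact hcop.dvd_of_dvd_mul_left this
  obtain ⟨m', rfl⟩ := hdvd
  refine ⟨m', (Nat.odd_mul.mp hm).2, ?_⟩
  have hc0 : 0 < c := by
    rcases Nat.eq_zero_or_pos c with h0 | h0
    · rw [h0] at hco
      exact absurd hco (by decide)
    · exact h0
  have h3 : Nat.card (G ⧸ Subgroup.center G) * c = (2 ^ n * m') * c := by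
    rw [h1]
    ring
  exact Nat.eq_of_mul_eq_mul_right hc0 h3

section Finish

variable {F : Type*} [Field F] [Fintype F] {q : ℕ}

theorem finishU (hF : Fintype.card F = q ^ 2) (hq : Odd q) (h2 : (2 : F) ≠ 0)
    (S0 : Subgroup (SpecialLinearGroup (Fin 3) F)) (hS0G : S0 ≤ Cfsg.SU 3 F q)
    (n m : ℕ) (hn : n ≠ 0) (hm : Odd m) (hcard : Nat.card (Cfsg.SU 3 F q) = 2 ^ n * m)
    (hS0 : Nat.card S0 = 2 ^ n) (hA : PropAIn (Cfsg.SU 3 F q) S0)
    (hI : PropIIn (Cfsg.SU 3 F q) S0) (S : Sylow 2 (Cfsg.PSU 3 F q)) :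
    (Cfsg.groupFusionSystem (S : Subgroup (Cfsg.PSU 3 F q))).IsSimple 2 := by
  haveI : Fact (Nat.Prime 2) := ⟨Nat.prime_two⟩
  obtain ⟨m', hm', hP⟩ := card_quot_center_of hcard hm (odd_card_center hF hq h2)
  have hS1 : Nat.card (S0.subgroupOf (Cfsg.SU 3 F q)) = 2 ^ n := by
    rw [card_subgroupOf_of_le hS0G, hS0]
  have hA1 := propA_subgroupOf hS0G hA
  have hI1 := propI_subgroupOf hS0G hI
  have hπ : Function.Surjective (QuotientGroup.mk' (Subgroup.center (Cfsg.SU 3 F q))) :=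
    QuotientGroup.mk'_surjective _
  have hker : (QuotientGroup.mk' (Subgroup.center (Cfsg.SU 3 F q))).ker ≤
      Subgroup.center (Cfsg.SU 3 F q) := by
    rw [QuotientGroup.ker_mk']
  have hcop : (Nat.card (QuotientGroup.mk' (Subgroup.center (Cfsg.SU 3 F q))).ker).Coprime 2 := by
    rw [QuotientGroup.ker_mk']
    exact Nat.coprime_two_right.mpr (odd_card_center hF hq h2)
  have hm2 : ¬ 2 ∣ m' := by
    intro h
    obtain ⟨t, ht⟩ := hm'
    omega
  exact isSimple_of_card_inner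
    ((S0.subgroupOf (Cfsg.SU 3 F q)).map (QuotientGroup.mk' (Subgroup.center (Cfsg.SU 3 F q))))
    hP hm2 hn (card_map_eq _ hker hcop hS1) (propA_map _ hπ hker hcop hS1 hA1)
    (propI_map _ hπ hker hcop hS1 hI1) S

theorem odd_factor (q r s : ℕ) (hq : Odd q) (hr : Odd r) (hs : Odd s) :
    Odd (q ^ 3 * r * s ^ 2 * (q * (q - 1) + 1)) := by
  have h1 : Odd (q * (q - 1) + 1) := by
    have h2 : Even (q * (q - 1)) := by
      obtain ⟨t, ht⟩ := hq
      rw [ht, Nat.add_sub_cancel]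
      exact (even_two_mul t).mul_left _
    exact h2.add_one
  exact ((hq.pow.mul hr).mul hs.pow).mul h1

theorem card_units_sq (hF : Fintype.card F = q ^ 2) : Nat.card Fˣ = (q - 1) * (q + 1) := by
  rw [Nat.card_units, Nat.card_eq_fintype_card, hF]
  have hq0 := q_ne_zero hF
  obtain ⟨t, rfl⟩ : ∃ t, q = t + 1 := ⟨q - 1, by omega⟩
  rw [Nat.add_sub_cancel]
  apply Nat.sub_eq_of_eq_add
  ring

theorem exists_i (hF : Fintype.card F = q ^ 2) (hq : Odd q) :
    ∃ i : Fˣ, i * i = -1 := by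
  have h4 : Fintype.card F % 4 ≠ 3 := by
    rw [hF]
    obtain ⟨t, rfl⟩ := hq
    have : (2 * t + 1) ^ 2 = 4 * (t * t + t) + 1 := by ring
    rw [this]
    omega
  obtain ⟨w, hw⟩ := (FiniteField.isSquare_neg_one_iff (F := F)).mpr h4
  have hw0 : w ≠ 0 := by
    rintro rfl
    simp at hw
  refine ⟨Units.mk0 w hw0, ?_⟩
  apply Units.ext
  rw [Units.val_mul, Units.val_mk0, Units.val_neg, Units.val_one, ← hw]

theorem pow_four_of_sq {i : Fˣ} (hii : i * i = -1) : i ^ 4 = 1 := by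
  have e : i ^ 4 = (i * i) * (i * i) := by
    rw [show (4 : ℕ) = 2 + 2 from rfl, pow_add, pow_two]
  rw [e, hii]
  simp

theorem caseA (hF : Fintype.card F = q ^ 2) (h2 : (2 : F) ≠ 0) (h4 : q % 4 = 3)
    (S : Sylow 2 (Cfsg.PSU 3 F q)) :
    (Cfsg.groupFusionSystem (S : Subgroup (Cfsg.PSU 3 F q))).IsSimple 2 := by
  have hqodd : Odd q := Nat.odd_iff.mpr (by omega)
  obtain ⟨a, s, hs, hqa⟩ := Nat.exists_eq_two_pow_mul_odd (n := q + 1) (by omega)
  have ha : 2 ≤ a := by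
    obtain ⟨t, ht⟩ := hs
    rcases a with _ | _ | a
    · rw [pow_zero, one_mul] at hqa
      omega
    · rw [zero_add, pow_one] at hqa
      omega
    · omega
  obtain ⟨r, hr, hqr⟩ : ∃ r, Odd r ∧ q - 1 = 2 * r := by
    refine ⟨(q - 1) / 2, ?_, by omega⟩
    rw [Nat.odd_iff]
    omega
  let μ : Subgroup Fˣ := (powMonoidHom (2 ^ a) : Fˣ →* Fˣ).ker
  have hμmem : ∀ x : Fˣ, x ∈ μ ↔ x ^ (2 ^ a) = 1 := by
    intro x
    rw [MonoidHom.mem_ker, powMonoidHom_apply]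
  have hμ : Nat.card μ = 2 ^ a := by
    rw [IsCyclic.card_powMonoidHom_ker, card_units_sq hF, hqa]
    exact Nat.gcd_eq_right ⟨(q - 1) * s, by ring⟩
  have hμq : ∀ x ∈ μ, x ^ (q + 1) = 1 := by
    intro x hx
    rw [hqa, pow_mul, (hμmem x).mp hx, one_pow]
  have hneg1 : (-1 : Fˣ) ∈ μ := by
    rw [hμmem]
    exact Even.neg_one_pow ((Nat.even_pow' (by omega)).mpr even_two)
  obtain ⟨i, hii⟩ := exists_i hF hqodd
  have hi : i ∈ μ := by
    rw [hμmem]
    obtain ⟨j, rfl⟩ : ∃ j, a = j + 2 := ⟨a - 2, by omega⟩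
    have e : 2 ^ (j + 2) = 4 * 2 ^ j := by ring
    rw [e, pow_mul, pow_four_of_sq hii, one_pow]
  have hcard : Nat.card (Cfsg.SU 3 F q) =
      2 ^ (2 * a + 1) * (q ^ 3 * r * s ^ 2 * (q * (q - 1) + 1)) := by
    rw [card_SU3 hF]
    have e : q ^ 3 * (q - 1) * (q + 1) ^ 2 * (q * (q - 1) + 1) =
        q ^ 3 * (2 * r) * (2 ^ a * s) ^ 2 * (q * (q - 1) + 1) := by rw [← hqr, ← hqa]
    rw [e]
    ring
  exact finishU hF hqodd h2 ((M2 μ).map iota) (map_M2_le_SU3 hF μ hμq) (2 * a + 1) _ (by omega)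
    (odd_factor q r s hqodd hr hs) hcard (card_map_M2 μ a hμ)
    (propAIn_caseA hF hqodd h2 μ a hμ hμq) (propIIn_caseA h2 μ hneg1 i hi hii) S

theorem caseB (hF : Fintype.card F = q ^ 2) (h2 : (2 : F) ≠ 0) (h4 : q % 4 = 1)
    (S : Sylow 2 (Cfsg.PSU 3 F q)) :
    (Cfsg.groupFusionSystem (S : Subgroup (Cfsg.PSU 3 F q))).IsSimple 2 := by
  have hqodd : Odd q := Nat.odd_iff.mpr (by omega)
  have hq1 : 1 < q := by
    have h1 := Fintype.one_lt_card (α := F)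
    rw [hF] at h1
    by_contra hcon
    have h3 : q ≤ 1 := by omega
    have h5 : q ^ 2 ≤ 1 ^ 2 := Nat.pow_le_pow_left h3 2
    omega
  obtain ⟨a, r, hr, hqa⟩ := Nat.exists_eq_two_pow_mul_odd (n := q - 1) (by omega)
  have ha : 2 ≤ a := by
    obtain ⟨t, ht⟩ := hr
    rcases a with _ | _ | a
    · rw [pow_zero, one_mul] at hqa
      omega
    · rw [zero_add, pow_one] at hqa
      omega
    · omega
  obtain ⟨s, hs, hqs⟩ : ∃ s, Odd s ∧ q + 1 = 2 * s := by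
    refine ⟨(q + 1) / 2, ?_, by omega⟩
    rw [Nat.odd_iff]
    omega
  have hcardU : Nat.card Fˣ = 2 ^ (a + 1) * (r * s) := by
    rw [card_units_sq hF, hqa, hqs]
    ring
  let μ : Subgroup Fˣ := (powMonoidHom (2 ^ (a + 1)) : Fˣ →* Fˣ).ker
  have hμmem : ∀ x : Fˣ, x ∈ μ ↔ x ^ (2 ^ (a + 1)) = 1 := by
    intro x
    rw [MonoidHom.mem_ker, powMonoidHom_apply]
  have hμ : Nat.card μ = 2 ^ (a + 1) := by
    rw [IsCyclic.card_powMonoidHom_ker, hcardU]
    exact Nat.gcd_eq_right ⟨r * s, rfl⟩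
  have hqsucc : q = (q - 1) + 1 := by omega
  -- (P2)
  have hμ2 : ∀ l ∈ μ, l ^ q = l ∨ l ^ q = -l := by
    intro l hl
    have h1 : (l ^ (q - 1)) * (l ^ (q - 1)) = 1 := by
      rw [← pow_add, hqa]
      have e : 2 ^ a * r + 2 ^ a * r = 2 ^ (a + 1) * r := by ring
      rw [e, pow_mul, (hμmem l).mp hl, one_pow]
    rcases units_mul_self_eq_one h1 with h3 | h3
    · left
      rw [hqsucc, pow_succ, h3, one_mul]
    · right
      rw [hqsucc, pow_succ, h3]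
      simp
  -- (P3)
  obtain ⟨i, hii⟩ := exists_i hF hqodd
  have hi4 := pow_four_of_sq hii
  have hiq : i ^ q = i := by
    obtain ⟨j, rfl⟩ : ∃ j, a = j + 2 := ⟨a - 2, by omega⟩
    have e : 2 ^ (j + 2) * r = 4 * (2 ^ j * r) := by ring
    rw [hqsucc, pow_succ, hqa, e, pow_mul, hi4, one_pow, one_mul]
  have hiμ : i ∈ μ := by
    rw [hμmem]
    obtain ⟨j, rfl⟩ : ∃ j, a = j + 2 := ⟨a - 2, by omega⟩
    have e : 2 ^ (j + 2 + 1) = 4 * 2 ^ (j + 1) := by ring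
    rw [e, pow_mul, hi4, one_pow]
  -- (P4)
  obtain ⟨l0, hl0o⟩ := Cfsg.Agent.Lib.Helper20.exists_orderOf_eq_of_dvd_card (G := Fˣ)
    (2 ^ (a + 1)) ⟨r * s, hcardU⟩
  have hl0μ : l0 ∈ μ := by
    rw [hμmem, ← hl0o]
    exact pow_orderOf_eq_one l0
  have hl0 : l0 ^ q = -l0 := by
    rcases hμ2 l0 hl0μ with h | h
    · exfalso
      have h1 : l0 ^ (q - 1) = 1 := by
        have h3 : l0 ^ (q - 1) * l0 = 1 * l0 := by
          rw [← pow_succ, ← hqsucc, h, one_mul]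
        exact mul_right_cancel h3
      have h3 : 2 ^ (a + 1) ∣ q - 1 := by
        rw [← hl0o]
        exact orderOf_dvd_of_pow_eq_one h1
      rw [hqa, pow_succ] at h3
      have h5 : 2 ∣ r := (Nat.mul_dvd_mul_iff_left (by positivity)).mp h3
      obtain ⟨t, ht⟩ := hr
      omega
    · exact h
  -- squares
  have hchar : ringChar F ≠ 2 := by
    intro h
    have h1 := CharP.cast_eq_zero F (ringChar F)
    rw [h] at h1
    apply h2
    exact_mod_cast h1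
  have hhalf : Fintype.card F / 2 = 2 ^ a * (r * s) := by
    obtain ⟨N, hN⟩ : ∃ N, N = 2 ^ a * (r * s) := ⟨_, rfl⟩
    have h1 : Nat.card Fˣ = 2 * N := by
      rw [hcardU, hN]
      ring
    rw [Nat.card_units, Nat.card_eq_fintype_card] at h1
    have h5 : 0 < Fintype.card F := Fintype.card_pos
    rw [← hN]
    omega
  have hsq : ∀ x : Fˣ, x ^ (2 ^ a) = 1 → ∃ y : Fˣ, y * y = x := by
    intro x hx
    have h1 : IsSquare x := by
      rw [FiniteField.unit_isSquare_iff hchar, hhalf, pow_mul, hx, one_pow]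
    obtain ⟨y, hy⟩ := h1
    exact ⟨y, hy.symm⟩
  -- (P5)
  obtain ⟨l1, hl1⟩ := hsq i (by
    obtain ⟨j, rfl⟩ : ∃ j, a = j + 2 := ⟨a - 2, by omega⟩
    have e : 2 ^ (j + 2) = 4 * 2 ^ j := by ring
    rw [e, pow_mul, hi4, one_pow])
  have hl1μ : l1 ∈ μ := by
    rw [hμmem, pow_succ', pow_mul, pow_two, hl1]
    obtain ⟨j, rfl⟩ : ∃ j, a = j + 2 := ⟨a - 2, by omega⟩
    have e : 2 ^ (j + 2) = 4 * 2 ^ j := by ring
    rw [e, pow_mul, hi4, one_pow]
  -- (P6)
  have hμ6 : ∀ ν ∈ μ, ν ^ q = ν → ∃ l ∈ μ, l * l ^ q = ν := by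
    intro ν hν hνq
    have h1 : ν ^ (q - 1) = 1 := by
      have h3 : ν ^ (q - 1) * ν = 1 * ν := by
        rw [← pow_succ, ← hqsucc, hνq, one_mul]
      exact mul_right_cancel h3
    have h3 : ν ^ (2 ^ a) = 1 := by
      obtain ⟨t, ht⟩ := hr
      have e : 2 ^ a * r = 2 ^ (a + 1) * t + 2 ^ a := by
        rw [ht]
        ring
      rw [hqa, e, pow_add, pow_mul, (hμmem ν).mp hν, one_pow, one_mul] at h1
      exact h1
    have hcop : Nat.Coprime s (2 ^ a) := by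
      apply Nat.Coprime.pow_right
      exact Nat.coprime_two_right.mpr hs
    have h2a : 1 < 2 ^ a := Nat.one_lt_two_pow (by omega)
    obtain ⟨s', -, hs'⟩ := Nat.exists_mul_mod_eq_one_of_coprime hcop h2a
    have hνs : (ν ^ s') ^ s = ν := by
      rw [← pow_mul, mul_comm, ← Nat.div_add_mod (s * s') (2 ^ a), hs', pow_add, pow_mul, h3,
        one_pow, one_mul, pow_one]
    obtain ⟨l, hl⟩ := hsq (ν ^ s') (by rw [← pow_mul, mul_comm, pow_mul, h3, one_pow])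
    refine ⟨l, ?_, ?_⟩
    · rw [hμmem, pow_succ', pow_mul, pow_two, hl, ← pow_mul, mul_comm, pow_mul, h3, one_pow]
    · rw [← pow_succ', hqs, pow_mul, pow_two, hl, hνs]
  have hcard : Nat.card (Cfsg.SU 3 F q) =
      2 ^ (a + 1 + 1) * (q ^ 3 * r * s ^ 2 * (q * (q - 1) + 1)) := by
    rw [card_SU3 hF]
    have e : q ^ 3 * (q - 1) * (q + 1) ^ 2 * (q * (q - 1) + 1) =
        q ^ 3 * (2 ^ a * r) * (2 * s) ^ 2 * (q * (q - 1) + 1) := by rw [← hqa, ← hqs]
    rw [e]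
    ring
  exact finishU hF hqodd h2 (SB hF h2 i μ) (SB_le hF h2 i hii hiq μ) (a + 1 + 1) _ (by omega)
    (odd_factor q r s hqodd hr hs) hcard (card_SB hF h2 i μ (a + 1) hμ)
    (propAIn_caseB hF hqodd h2 i hii hiq μ hiμ (a + 1) hμ hμ2 l0 hl0μ hl0)
    (propIIn_caseB hF hqodd h2 i hii hiq μ hiμ l1 hl1μ hl1 hμ6) S

end Finish

/-- Let q be an odd prime power and F a field with q² elements. Then the 2-fusion system of PSU(3,q) (realised as the special unitary group of the standard Hermitian form over F modulo its centre) on a Sylow 2-subgroup is simple. -/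
theorem result {F : Type*} [Field F] [Fintype F] (q : ℕ) (hq : Fintype.card F = q ^ 2) (hodd : q % 2 = 1) (S : Sylow 2 (Cfsg.PSU 3 F q)) :
    (Cfsg.groupFusionSystem (S : Subgroup (Cfsg.PSU 3 F q))).IsSimple 2 := by
  have hqodd : Odd q := Nat.odd_iff.mpr hodd
  have h2 : (2 : F) ≠ 0 := Cfsg.Agent.Lib.Helper20.two_ne_zero_of_odd_card hq hqodd
  have h4 : q % 4 = 1 ∨ q % 4 = 3 := by omega
  rcases h4 with h4 | h4
  · exact caseB hq h2 h4 S
  · exact caseA hq h2 h4 S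

end Cfsg.Agent.S5319
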