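import Mathlib
import Cfsg.Statements.S5320
import Cfsg.Agent.Lib.Helper41.Sp4Q8e

set_option autoImplicit false
open Cfsg

namespace Cfsg.Agent.S5320

open Cfsg.Agent.Lib.Helper41.Sp4

/-- For a finite field F of odd order, the 2-fusion system of the projective symplectic group PSp(4,F) on a Sylow 2-subgroup is simple. -/
theorem result {F : Type*} [Field F] [Fintype F] (hodd : Fintype.card F % 2 = 1) (S : Sylow 2 (Cfsg.PSp 2 F)) :
    (Cfsg.groupFusionSystem (S : Subgroup (Cfsg.PSp 2 F))).IsSimple 2 := by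
  have h8 : Fintype.card F % 8 = 1 ∨ Fintype.card F % 8 = 3 ∨ Fintype.card F % 8 = 5 ∨
      Fintype.card F % 8 = 7 := by omega
  rcases h8 with h | h | h | h
  · exact isSimple_of_normalizer_eq hodd default
      ((Cfsg.Agent.S2431.result (Nat.odd_iff.mpr hodd) default).2.1 (Or.inl h)) S
  · exact isSimple_q8 hodd (Or.inl h) S
  · exact isSimple_q8 hodd (Or.inr h) S
  · exact isSimple_of_normalizer_eq hodd default
      ((Cfsg.Agent.S2431.result (Nat.odd_iff.mpr hodd) default).2.1 (Or.inr h)) S

end Cfsg.Agent.S5320
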