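import Cfsg.Statements.S5326
import Cfsg.Agent.Lib.Helper88.EssSystem

set_option autoImplicit false
open Cfsg

namespace Cfsg.Agent.S5326

open Cfsg.FusionSystem Cfsg.Agent.Lib.Helper88

/-- Let F be a saturated fusion system over a finite p-group S and Q an essential subgroup. Then the F-conjugacy class of Q cannot be left out of a generating family: there is a fusion system E over S whose automorphism group of every subgroup R ≤ S not F-conjugate to Q contains Aut_F(R), and yet E does not contain every map of F. -/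
theorem result {Ω : Type*} [Group Ω] {S : Subgroup Ω} [Finite S] (p : ℕ) [Fact p.Prime] (hS : IsPGroup p S) (F : Cfsg.FusionSystem S) (hF : F.IsSaturated p) (Q : Subgroup Ω) (hQ : F.IsEssential p Q) : ∃ E : Cfsg.FusionSystem S, (∀ R : Subgroup Ω, R ≤ S → ¬ F.IsConj Q R → F.autGroup R ≤ E.autGroup R) ∧ ¬ F ≤ E := by
  have hQS : Q ≤ S := hQ.2.1.1
  have hQne : Q ≠ S := essential_ne_top hS F hF hQ
  have hfa : F.IsFullyAutomized p Q := (Cfsg.Agent.Lib.Helper87.fc_fa_of_fullyNormalized hS F hF hQ.2.1).2
  have hrec : F.IsReceptive Q := Cfsg.Agent.Lib.Helper87.receptive_of_fullyNormalized hS F hF hQ.2.1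
  obtain ⟨H, -, ⟨α, hαA, hαH⟩, hkey⟩ := exists_proper_aut_subgroup F Q hS hF hQ
  refine ⟨essSystem hS F Q H hQS hQne hfa hrec hkey, ?_, ?_⟩
  · intro R _ hR
    apply Subgroup.closure_mono
    intro β hβ
    exact essHom_of_not_conj F Q H hR hβ
  · intro hle
    have h1 : Q.subtype.comp α.toMonoidHom ∈ F.Hom Q :=
      (Cfsg.Agent.Lib.Helper87.mem_autGroup_iff F hQS α).mp hαA
    exact hαH (mem_of_essHom F H hQS (hle Q h1))

end Cfsg.Agent.S5326
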