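import Cfsg.Statements.S5327
import Cfsg.Agent.Lib.Helper88.Basic

set_option autoImplicit false
open Cfsg

namespace Cfsg.Agent.S5327

open Cfsg.FusionSystem Cfsg.Agent.Lib.Helper88

variable {Ω : Type*} [Group Ω] {S : Subgroup Ω}

/-- auxiliary system: on the class `C` of subgroups use the maps common to `E` and `F`, elsewhere `F`. -/
def aux (F E : FusionSystem S) (C : Set (Subgroup Ω))
    (hC : ∀ P Q : Subgroup Ω, F.IsConj P Q → Q ∈ C → P ∈ C)
    (hbig : ∀ P ∈ C, ∀ φ : P →* Ω, φ ∈ F.Hom P → ∀ Q : Subgroup Ω, (∀ x, φ x ∈ Q) → Q ∉ C →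
      F.Hom Q ⊆ E.Hom Q) : FusionSystem S where
  Hom P := {φ | φ ∈ F.Hom P ∧ (P ∈ C → φ ∈ E.Hom P)}
  le_of_mem h := F.le_of_mem h.1
  injective_of_mem h := F.injective_of_mem h.1
  conj_mem hP hg := ⟨F.conj_mem hP hg, fun _ => E.conj_mem hP hg⟩
  comp_mem := by
    rintro P Q φ ψ ⟨hφ, hφE⟩ ⟨hψ, hψE⟩ h
    refine ⟨F.comp_mem hφ hψ h, fun hPC => ?_⟩
    have hψ' : ψ ∈ E.Hom Q := by
      by_cases hQ : Q ∈ C
      · exact hψE hQ
      · exact hbig P hPC φ hφ Q h hQ hψ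
    exact E.comp_mem (hφE hPC) hψ' h
  inv_mem := by
    rintro P φ ⟨hφ, hφE⟩
    obtain ⟨ψ, hψ, hinv⟩ := F.inv_mem hφ
    refine ⟨ψ, ⟨hψ, fun hr => ?_⟩, hinv⟩
    have hPC : P ∈ C := hC P φ.range ⟨φ, hφ, rfl⟩ hr
    obtain ⟨ψ', hψ', hinv'⟩ := E.inv_mem (hφE hPC)
    have : ψ = ψ' := by
      ext y
      obtain ⟨_, x, rfl⟩ := y
      rw [hinv, hinv']
    rw [this]
    exact hψ'

theorem aux_hom_of_not_mem (F E : FusionSystem S) (C : Set (Subgroup Ω)) hC hbig
    {R : Subgroup Ω} (hR : R ∉ C) : F.autGroup R ≤ (aux F E C hC hbig).autGroup R := by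
  apply Subgroup.closure_mono
  intro α hα
  exact ⟨hα, fun h => absurd h hR⟩

theorem aux_hom_of_good (F E : FusionSystem S) (C : Set (Subgroup Ω)) hC hbig
    {R : Subgroup Ω} (hR : F.Hom R ⊆ E.Hom R) : F.autGroup R ≤ (aux F E C hC hbig).autGroup R := by
  apply Subgroup.closure_mono
  intro α hα
  exact ⟨hα, fun _ => hR hα⟩

theorem aux_le (F E : FusionSystem S) (C : Set (Subgroup Ω)) hC hbig
    (h : F ≤ aux F E C hC hbig) {P : Subgroup Ω} (hP : P ∈ C) : F.Hom P ⊆ E.Hom P := by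
  intro φ hφ
  exact (h P hφ).2 hP

/-- a map into a subgroup of `S` of the same (finite) cardinality is onto -/
theorem range_eq_of_card [Finite S] (F : FusionSystem S) {P Q : Subgroup Ω} (hQS : Q ≤ S) (φ : P →* Ω)
    (hφ : φ ∈ F.Hom P) (hQ : ∀ x, φ x ∈ Q) (hcard : Nat.card Q = Nat.card P) : φ.range = Q := by
  have : Finite Q := Finite.of_injective (Subgroup.inclusion hQS) (Subgroup.inclusion_injective hQS)
  have hle : φ.range ≤ Q := by
    rintro _ ⟨x, rfl⟩
    exact hQ x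
  have hc : Nat.card φ.range = Nat.card P :=
    (Nat.card_congr (Equiv.ofInjective φ (F.injective_of_mem hφ))).symm
  apply Subgroup.eq_of_le_of_card_ge hle
  rw [hc, hcard]

theorem card_le_of_map [Finite S] (F : FusionSystem S) {P Q : Subgroup Ω} (hQS : Q ≤ S) (φ : P →* Ω)
    (hφ : φ ∈ F.Hom P) (hQ : ∀ x, φ x ∈ Q) : Nat.card P ≤ Nat.card Q := by
  have : Finite Q := Finite.of_injective (Subgroup.inclusion hQS) (Subgroup.inclusion_injective hQS)
  apply Nat.card_le_card_of_injective (φ.codRestrict Q hQ)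
  intro a b hab
  apply F.injective_of_mem hφ
  exact congrArg (fun z : Q => (z : Ω)) hab

section step

variable [Finite S] (F E : FusionSystem S) (n : ℕ)
  (IH : ∀ Q : Subgroup Ω, n < Nat.card Q → F.Hom Q ⊆ E.Hom Q)

include IH in
theorem hbig_of (C : Set (Subgroup Ω)) (hCn : ∀ P ∈ C, Nat.card P = n)
    (hCconj : ∀ P Q : Subgroup Ω, F.IsConj P Q → P ∈ C → Q ∈ C) :
    ∀ P ∈ C, ∀ φ : P →* Ω, φ ∈ F.Hom P → ∀ Q : Subgroup Ω, (∀ x, φ x ∈ Q) → Q ∉ C →
      F.Hom Q ⊆ E.Hom Q := by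
  intro P hPC φ hφ Q hQ hQC
  by_cases hQS : Q ≤ S
  · have hle := card_le_of_map F hQS φ hφ hQ
    rw [hCn P hPC] at hle
    rcases hle.lt_or_eq with hlt | heq
    · exact IH Q hlt
    · exfalso
      apply hQC
      have hr := range_eq_of_card F hQS φ hφ hQ (by rw [← heq, hCn P hPC])
      exact hCconj P Q ⟨φ, hφ, hr⟩ hPC
  · intro ψ hψ
    exact absurd (F.le_of_mem hψ).1 hQS

end step

/-- Let F be a saturated fusion system over a finite p-group S. Call a family of subgroups of S generating when every fusion system over S whose automorphism group of each member R contains Aut_F(R) contains every map of F. If two families are each closed under F-conjugacy and each generating, then their intersection is generating. -/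
theorem result {Ω : Type*} [Group Ω] {S : Subgroup Ω} [Finite S] (p : ℕ) [Fact p.Prime] (hS : IsPGroup p S) (F : Cfsg.FusionSystem S) (hF : F.IsSaturated p) (𝒬₁ 𝒬₂ : Set (Subgroup Ω)) (h₁ : ∀ R ∈ 𝒬₁, ∀ R' : Subgroup Ω, F.IsConj R R' → R' ∈ 𝒬₁) (h₂ : ∀ R ∈ 𝒬₂, ∀ R' : Subgroup Ω, F.IsConj R R' → R' ∈ 𝒬₂) (hg₁ : ∀ E : Cfsg.FusionSystem S, (∀ R ∈ 𝒬₁, F.autGroup R ≤ E.autGroup R) → F ≤ E) (hg₂ : ∀ E : Cfsg.FusionSystem S, (∀ R ∈ 𝒬₂, F.autGroup R ≤ E.autGroup R) → F ≤ E) (E : Cfsg.FusionSystem S) (hE : ∀ R ∈ 𝒬₁ ∩ 𝒬₂, F.autGroup R ≤ E.autGroup R) : F ≤ E := by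
  -- the inductive step
  have step : ∀ n : ℕ, (∀ Q : Subgroup Ω, n < Nat.card Q → F.Hom Q ⊆ E.Hom Q) →
      ∀ P : Subgroup Ω, P ≤ S → Nat.card P = n → F.Hom P ⊆ E.Hom P := by
    intro n IH
    -- Step A: subgroups of order n outside 𝒬₂
    have stepA : ∀ P : Subgroup Ω, P ≤ S → Nat.card P = n → P ∉ 𝒬₂ → F.Hom P ⊆ E.Hom P := by
      let C : Set (Subgroup Ω) := {P | Nat.card P = n ∧ P ≤ S ∧ P ∉ 𝒬₂}
      have hCconj : ∀ P Q : Subgroup Ω, F.IsConj P Q → P ∈ C → Q ∈ C := by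
        rintro P Q hPQ ⟨hc, hPS, hP2⟩
        refine ⟨(isConj_card F hPQ).symm.trans hc, (isConj_le F hPQ).2, fun hQ2 => hP2 ?_⟩
        exact h₂ Q hQ2 P (isConj_symm F hPQ)
      have hC : ∀ P Q : Subgroup Ω, F.IsConj P Q → Q ∈ C → P ∈ C :=
        fun P Q hPQ hQ => hCconj Q P (isConj_symm F hPQ) hQ
      have hbig := hbig_of F E n IH C (fun P hP => hP.1) hCconj
      have hle : F ≤ aux F E C hC hbig := by
        apply hg₂
        intro R hR
        apply aux_hom_of_not_mem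
        exact fun hRC => hRC.2.2 hR
      intro P hPS hPn hP2
      exact aux_le F E C hC hbig hle ⟨hPn, hPS, hP2⟩
    -- Step B
    let C : Set (Subgroup Ω) := {P | Nat.card P = n ∧ P ≤ S}
    have hCconj : ∀ P Q : Subgroup Ω, F.IsConj P Q → P ∈ C → Q ∈ C := by
      rintro P Q hPQ ⟨hc, hPS⟩
      exact ⟨(isConj_card F hPQ).symm.trans hc, (isConj_le F hPQ).2⟩
    have hC : ∀ P Q : Subgroup Ω, F.IsConj P Q → Q ∈ C → P ∈ C :=
      fun P Q hPQ hQ => hCconj Q P (isConj_symm F hPQ) hQ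
    have hbig := hbig_of F E n IH C (fun P hP => hP.1) hCconj
    have hle : F ≤ aux F E C hC hbig := by
      apply hg₁
      intro R hR
      by_cases hRC : R ∈ C
      · by_cases hR2 : R ∈ 𝒬₂
        · have hRE := hE R ⟨hR, hR2⟩
          apply (Subgroup.closure_le _).mpr
          intro α hα
          apply Subgroup.subset_closure
          refine ⟨hα, fun _ => ?_⟩
          exact (mem_autGroup_iff E hRC.2 α).mp (hRE (Subgroup.subset_closure hα))
        · exact aux_hom_of_good F E C hC hbig (stepA R hRC.2 hRC.1 hR2)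
      · exact aux_hom_of_not_mem F E C hC hbig hRC
    intro P hPS hPn
    exact aux_le F E C hC hbig hle ⟨hPn, hPS⟩
  -- conclude by strong induction
  have main : ∀ k : ℕ, ∀ P : Subgroup Ω, P ≤ S → Nat.card S - Nat.card P = k → F.Hom P ⊆ E.Hom P := by
    intro k
    induction k using Nat.strong_induction_on with
    | _ k ih =>
      intro P hPS hk
      apply step (Nat.card P) _ P hPS rfl
      intro Q hQ
      by_cases hQS : Q ≤ S
      · have hQc : Nat.card Q ≤ Nat.card S := Subgroup.card_le_of_le hQS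
        apply ih (Nat.card S - Nat.card Q) _ Q hQS rfl
        omega
      · intro ψ hψ
        exact absurd (F.le_of_mem hψ).1 hQS
  intro P φ hφ
  exact main _ P (F.le_of_mem hφ).1 rfl hφ

end Cfsg.Agent.S5327
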