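import Cfsg.Statements.S5330
import Cfsg.Agent.Lib.Helper88.Abelian
import Cfsg.Agent.Lib.Helper88.Coprime

set_option autoImplicit false
open Cfsg

namespace Cfsg.Agent.S5330

open Cfsg.FusionSystem Cfsg.Agent.Lib.Helper88

variable {Ω : Type*} [Group Ω] {S : Subgroup Ω}

/-- commutative group structure on an abelian subgroup -/
@[reducible] def commOfAb (S : Subgroup Ω) (hab : ∀ x ∈ S, ∀ y ∈ S, x * y = y * x) : CommGroup S :=
  { (inferInstance : Group S) with
    mul_comm := fun a b => Subtype.ext (hab a a.2 b b.2) }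

theorem autInducedBy_eq_bot (hab : ∀ x ∈ S, ∀ y ∈ S, x * y = y * x) : autInducedBy S S = ⊥ := by
  rw [eq_bot_iff]
  apply (Subgroup.closure_le _).mpr
  rintro α ⟨g, hg, h⟩
  rw [SetLike.mem_coe, Subgroup.mem_bot]
  ext x
  rw [h x, hab g hg x x.2, mul_inv_cancel_right]
  rfl

theorem card_autGroup_coprime [Finite S] (p : ℕ) [Fact p.Prime] (F : FusionSystem S)
    (hF : F.IsSaturated p) (hab : ∀ x ∈ S, ∀ y ∈ S, x * y = y * x) :
    (Nat.card (F.autGroup S)).Coprime p := by
  obtain ⟨⟨-, R, hR⟩, -⟩ := top_automized_receptive F p hF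
  rw [autInducedBy_eq_bot hab] at hR
  have hRbot : (R : Subgroup (F.autGroup S)) = ⊥ := by
    rw [hR]
    exact Subgroup.bot_subgroupOf _
  have hcard : Nat.card (R : Subgroup (F.autGroup S)) = 1 := by
    rw [hRbot]
    exact Subgroup.card_bot
  have h2 := Sylow.card_eq_multiplicity R
  rw [hcard] at h2
  have hp : Nat.Prime p := Fact.out
  rw [Nat.coprime_comm, Nat.Prime.coprime_iff_not_dvd hp]
  intro hdvd
  have hpos : 0 < (Nat.card (F.autGroup S)).factorization p :=
    Nat.Prime.factorization_pos_of_dvd hp Nat.card_pos.ne' hdvd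
  have : 1 < p ^ (Nat.card (F.autGroup S)).factorization p :=
    Nat.one_lt_pow hpos.ne' hp.one_lt
  omega

/-- Let F be a saturated fusion system over a finite abelian p-group S. Then S is the internal direct product of the centre of the system and the focal subgroup: Z(F) ∩ foc(F) = 1 and Z(F)·foc(F) = S. -/
theorem result {Ω : Type*} [Group Ω] {S : Subgroup Ω} [Finite S] (p : ℕ) [Fact p.Prime] (hS : IsPGroup p S) (F : Cfsg.FusionSystem S) (hF : F.IsSaturated p) (hab : ∀ x ∈ S, ∀ y ∈ S, x * y = y * x) : F.center ⊓ F.focalSubgroup = ⊥ ∧ F.center ⊔ F.focalSubgroup = S := by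
  set A : Subgroup (MulAut S) := F.autGroup S with hA
  -- coprimality
  have hcopA : (Nat.card A).Coprime (Nat.card S) := by
    obtain ⟨n, hn⟩ := IsPGroup.iff_card.mp hS
    rw [hn]
    exact Nat.Coprime.pow_right n (card_autGroup_coprime p F hF hab)
  obtain ⟨hinf, hsup⟩ := @coprime_decomp S (commOfAb S hab) _ A hcopA
  -- the two subgroups, inside Ω
  set C : Subgroup Ω := (fixedPts A).map S.subtype with hC
  set D : Subgroup Ω := (commSub A).map S.subtype with hD
  have hCD : C ⊓ D = ⊥ := by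
    rw [hC, hD, ← Subgroup.map_inf _ _ _ S.subtype_injective]
    have : fixedPts A ⊓ commSub A = ⊥ := hinf
    rw [this, Subgroup.map_bot]
  have hCDsup : C ⊔ D = S := by
    rw [hC, hD, ← Subgroup.map_sup]
    have : fixedPts A ⊔ commSub A = ⊤ := hsup
    rw [this, ← MonoidHom.range_eq_map, Subgroup.range_subtype]
  -- focal ≤ D
  have hfocD : F.focalSubgroup ≤ D := by
    apply (Subgroup.closure_le _).mpr
    rintro y ⟨P, φ, x, hφ, rfl⟩
    have hPS : P ≤ S := (F.le_of_mem hφ).1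
    obtain ⟨α, hα, hext⟩ := extend_to_aut hab F p hF hφ
    rw [← hext x (hPS x.2)]
    refine ⟨(⟨x, hPS x.2⟩ : S)⁻¹ * α ⟨x, hPS x.2⟩, ?_, rfl⟩
    exact Subgroup.subset_closure ⟨α, hα, ⟨x, hPS x.2⟩, rfl⟩
  -- D ≤ focal
  have hDfoc : D ≤ F.focalSubgroup := by
    rw [hD, Subgroup.map_le_iff_le_comap]
    apply (Subgroup.closure_le _).mpr
    rintro _ ⟨α, hα, x, rfl⟩
    show S.subtype (x⁻¹ * α x) ∈ F.focalSubgroup
    apply Subgroup.subset_closure
    exact ⟨S, S.subtype.comp α.toMonoidHom, x, (mem_autGroup_iff F le_rfl α).mp hα, rfl⟩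
  -- center ≤ C
  have hcenC : F.center ≤ C := by
    apply sSup_le
    rintro Q ⟨hQS, hext⟩ q hq
    refine ⟨⟨q, hQS hq⟩, ?_, rfl⟩
    intro α hα
    obtain ⟨ψ, -, hψS, hψQ⟩ := hext S (S.subtype.comp α.toMonoidHom) ((mem_autGroup_iff F le_rfl α).mp hα)
    have h1 := hψS ⟨q, hQS hq⟩
    have h2 := hψQ ⟨q, hq⟩
    have h12 : (Subgroup.inclusion (le_sup_left : S ≤ S ⊔ Q) ⟨q, hQS hq⟩) =
        Subgroup.inclusion (le_sup_right : Q ≤ S ⊔ Q) ⟨q, hq⟩ := Subtype.ext rfl
    rw [h12, h2] at h1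
    apply Subtype.ext
    exact h1.symm
  -- C ≤ center
  have hCcen : C ≤ F.center := by
    apply le_sSup
    have hCS : C ≤ S := by
      rw [hC]
      rintro _ ⟨x, -, rfl⟩
      exact x.2
    refine ⟨hCS, ?_⟩
    intro P φ hφ
    have hPS : P ≤ S := (F.le_of_mem hφ).1
    obtain ⟨α, hα, hext⟩ := extend_to_aut hab F p hF hφ
    have hle : P ⊔ C ≤ S := sup_le hPS hCS
    refine ⟨(S.subtype.comp α.toMonoidHom).comp (Subgroup.inclusion hle),
      restrict_mem F hle ((mem_autGroup_iff F le_rfl α).mp hα), ?_, ?_⟩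
    · intro x
      exact hext x (hPS x.2)
    · rintro ⟨c, hc⟩
      obtain ⟨c', hc', rfl⟩ := hc
      show ((α c' : S) : Ω) = c'
      rw [hc' α hα]
  constructor
  · rw [eq_bot_iff, ← hCD]
    exact inf_le_inf hcenC hfocD
  · apply le_antisymm
    · exact (sup_le_sup hcenC hfocD).trans hCDsup.le
    · exact hCDsup.ge.trans (sup_le_sup hCcen hDfoc)

end Cfsg.Agent.S5330
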