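import Cfsg.Statements.S5331
import Cfsg.Agent.Lib.Helper88.AbelianAut
import Cfsg.Agent.Lib.Helper88.OddAut

set_option autoImplicit false
open Cfsg

namespace Cfsg.Agent.S5331

open Cfsg.FusionSystem Cfsg.Agent.Lib.Helper88

/-- an automorphism of odd order of a finite abelian 2-group fixing all involutions is trivial -/
theorem aut_trivial_of_fixes_invs {Ω : Type*} [Group Ω] {S : Subgroup Ω} [Finite S]
    (hab : ∀ x ∈ S, ∀ y ∈ S, x * y = y * x) (m : ℕ) (hcard : Nat.card S = 2 ^ m)
    (α : MulAut S) (hodd : Odd (orderOf α)) (hfix : ∀ x : S, x ^ 2 = 1 → α x = x) : α = 1 := by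
  set B : Subgroup (MulAut S) := Subgroup.zpowers α with hB
  have hBcard : Nat.card B = orderOf α := Nat.card_zpowers α
  have hcop : (Nat.card B).Coprime (Nat.card S) := by
    rw [hBcard, hcard]
    apply Nat.Coprime.pow_right
    exact Nat.Coprime.symm (Nat.coprime_two_left.mpr hodd)
  obtain ⟨hinf, -⟩ := @coprime_decomp S (commOfAb S hab) _ B hcop
  have hinf' : fixedPts B ⊓ commSub B = ⊥ := hinf
  -- the commutator subgroup is trivial
  have hD : commSub B = ⊥ := by
    by_contra hne
    have hnt : Nontrivial (commSub B) := (Subgroup.nontrivial_iff_ne_bot _).mpr hne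
    have hdvd : Nat.card (commSub B) ∣ 2 ^ m := by
      rw [← hcard]
      exact Subgroup.card_subgroup_dvd_card _
    obtain ⟨r, -, hr⟩ := (Nat.dvd_prime_pow Nat.prime_two).mp hdvd
    have hr0 : r ≠ 0 := by
      rintro rfl
      rw [pow_zero] at hr
      have : Subsingleton (commSub B) := (Nat.card_eq_one_iff_unique.mp hr).1
      exact not_subsingleton _ this
    have h2 : 2 ∣ Nat.card (commSub B) := by rw [hr]; exact dvd_pow_self 2 hr0
    have : Fact (Nat.Prime 2) := ⟨Nat.prime_two⟩
    obtain ⟨d, hd⟩ := exists_prime_orderOf_dvd_card' 2 h2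
    have hd2 : (d : S) ^ 2 = 1 := by
      have : d ^ 2 = 1 := by rw [← hd]; exact pow_orderOf_eq_one d
      exact_mod_cast congrArg (fun z : commSub B => (z : S)) this
    have hdfix : (d : S) ∈ fixedPts B := by
      intro b hb
      obtain ⟨k, rfl⟩ := Subgroup.mem_zpowers_iff.mp hb
      have h1 : α (d : S) = d := hfix _ hd2
      have hpow : ∀ n : ℕ, (α ^ n) (d : S) = d := fun n => by
        induction n with
        | zero => simp
        | succ n ih => rw [pow_succ, MulAut.mul_apply, h1, ih]
      rcases Int.eq_nat_or_neg k with ⟨n, rfl | rfl⟩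
      · rw [zpow_natCast]; exact hpow n
      · rw [zpow_neg, zpow_natCast]
        have h3 := hpow n
        have h4 : ((α ^ n)⁻¹) ((α ^ n) (d : S)) = (d : S) := MulAut.inv_apply_self _ _ _
        rw [h3] at h4
        exact h4
    have hdbot : (d : S) ∈ (⊥ : Subgroup S) := by
      rw [← hinf']
      exact ⟨hdfix, d.2⟩
    rw [Subgroup.mem_bot] at hdbot
    have : d = 1 := Subtype.ext hdbot
    rw [this, orderOf_one] at hd
    omega
  ext x
  have hx : x⁻¹ * α x ∈ commSub B :=
    Subgroup.subset_closure ⟨α, Subgroup.mem_zpowers α, x, rfl⟩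
  rw [hD, Subgroup.mem_bot] at hx
  have : α x = x := by
    have := congrArg (fun z => x * z) hx
    simpa using this
  rw [this]
  rfl

/-- Let S be a finite abelian 2-group that is a direct product of cyclic groups of pairwise distinct orders 2^{a_1} < 2^{a_2} < ⋯ < 2^{a_n} (all a_i ≥ 1). Then every saturated fusion system over S is the inner one: its maps are exactly the conjugations by elements of S. -/
theorem result {Ω : Type*} [Group Ω] {S : Subgroup Ω} [Finite S] (n : ℕ) (a : Fin n → ℕ) (ha : StrictMono a) (ha1 : ∀ i, 1 ≤ a i) (e : ↥S ≃* Multiplicative ((i : Fin n) → ZMod (2 ^ a i))) (F : Cfsg.FusionSystem S) (hF : F.IsSaturated 2) (P : Subgroup Ω) : F.Hom P = (Cfsg.innerFusionSystem S).Hom P := by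
  have : Fact (Nat.Prime 2) := ⟨Nat.prime_two⟩
  have hab : ∀ x ∈ S, ∀ y ∈ S, x * y = y * x := by
    intro x hx y hy
    have h := mul_comm (e ⟨x, hx⟩) (e ⟨y, hy⟩)
    rw [← map_mul, ← map_mul] at h
    exact congrArg (fun z : S => (z : Ω)) (e.injective h)
  have hcard : Nat.card S = 2 ^ (∑ i, a i) := by
    rw [Nat.card_congr e.toEquiv]
    have : Nat.card (Multiplicative ((i : Fin n) → ZMod (2 ^ a i))) =
        Nat.card ((i : Fin n) → ZMod (2 ^ a i)) := rfl
    rw [this, Nat.card_pi]
    simp only [Nat.card_zmod]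
    exact Finset.prod_pow_eq_pow_sum _ _ _
  apply hom_eq_inner_of_autGroup_trivial 2 F hF hab
  intro α hα
  have hcop := card_autGroup_top_coprime 2 F hF hab
  have hoddA : Odd (Nat.card (F.autGroup S)) := Nat.coprime_two_right.mp hcop
  have hodd : Odd (orderOf α) := by
    have h1 : orderOf (⟨α, hα⟩ : F.autGroup S) ∣ Nat.card (F.autGroup S) := orderOf_dvd_natCard _
    have h2 : orderOf (⟨α, hα⟩ : F.autGroup S) = orderOf α := by
      rw [← Subgroup.orderOf_coe]
    rw [h2] at h1
    exact Odd.of_dvd_nat hoddA h1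
  obtain ⟨k, hk⟩ := hodd
  apply aut_trivial_of_fixes_invs hab _ hcard α ⟨k, hk⟩
  intro x hx
  -- transport to the product of cyclic groups
  set c := MulAut.congr e with hc
  have hpow : (c α) ^ (2 * k + 1) = 1 := by
    rw [← map_pow, ← hk, pow_orderOf_eq_one, map_one]
  have hex : (e x) ^ 2 = 1 := by rw [← map_pow, hx, map_one]
  have := odd_aut_fixes_pi a ha.injective (c α) k hpow (e x) hex
  apply e.injective
  rw [← this]
  simp [hc, MulAut.congr]

end Cfsg.Agent.S5331
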