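import Cfsg.Statements.S5333
import Cfsg.Agent.Lib.Helper84.CentralizerSystem
import Cfsg.Agent.Lib.Helper88.Receptive

set_option autoImplicit false
open Cfsg

namespace Cfsg.Agent.S5333

open Cfsg.FusionSystem Cfsg.Agent.Lib.Helper87
open Cfsg.Agent.Lib.Helper88 (receptive_of_fullyCentralized)
open Cfsg.Agent.Lib.Helper84 (centralizerSystem centralizerSystem_spec)

variable {Ω : Type*} [Group Ω] {S : Subgroup Ω} [Finite S] {p : ℕ} [Fact p.Prime]

/-- key step: automorphisms of centric subgroups lie in `F'` -/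
theorem aut_mem (hS : IsPGroup p S) (F : FusionSystem S) (F' : FusionSystem S)
    (hF' : F'.IsSaturated p) (hle : F' ≤ F)
    (hZ : ∀ Z : Subgroup Ω, Z ≤ S → Nat.card Z = p → F'.IsFullyCentralized Z →
      F.Hom Z = F'.Hom Z ∧ ∀ P : Subgroup Ω, F.centralizerHom Z P = F'.centralizerHom Z P)
    {R : Subgroup Ω} (hRS : R ≤ S) (hRne : R ≠ ⊥) (α : MulAut R) (hα : α ∈ F.autGroup R) :
    R.subtype.comp α.toMonoidHom ∈ F'.Hom R := by
  have hp : p.Prime := Fact.out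
  have hαF := (mem_autGroup_iff F hRS α).mp hα
  have hRfin : Finite R := Finite.of_injective _ (Subgroup.inclusion_injective hRS)
  have hRp : IsPGroup p R := hS.to_le hRS
  have hRnt : Nontrivial R := (Subgroup.nontrivial_iff_ne_bot R).mpr hRne
  -- a central element of order p
  have hcnt : Nontrivial (Subgroup.center R) := hRp.center_nontrivial
  have hcp : IsPGroup p (Subgroup.center R) := hRp.to_subgroup _
  obtain ⟨n, hn0, hn⟩ := hcp.nontrivial_iff_card.mp hcnt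
  have hdvd : p ∣ Nat.card (Subgroup.center R) := by rw [hn]; exact dvd_pow_self p hn0.ne'
  obtain ⟨z, hz⟩ := exists_prime_orderOf_dvd_card' p hdvd
  have hzc : ∀ r : R, r * (z : R) = (z : R) * r := fun r => (Subgroup.mem_center_iff.mp z.2 r)
  set z₀ : Ω := ((z : R) : Ω) with hz₀
  have hz₀ord : orderOf z₀ = p := by
    rw [hz₀, Subgroup.orderOf_coe, Subgroup.orderOf_coe]; exact hz
  set Z : Subgroup Ω := Subgroup.zpowers z₀ with hZdef
  have hZcard : Nat.card Z = p := by rw [hZdef, Nat.card_zpowers]; exact hz₀ord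
  have hZR : Z ≤ R := by rw [hZdef, Subgroup.zpowers_le]; exact (z : R).2
  have hZS : Z ≤ S := hZR.trans hRS
  -- Z is central in R
  have hZc : ∀ x ∈ Z, ∀ r ∈ R, r * x = x * r := by
    intro x hx r hr
    obtain ⟨k, rfl⟩ := Subgroup.mem_zpowers_iff.mp hx
    have h1 : (⟨r, hr⟩ : R) * (z : R) ^ k = (z : R) ^ k * ⟨r, hr⟩ := by
      have : Commute (⟨r, hr⟩ : R) (z : R) := hzc ⟨r, hr⟩
      exact (this.zpow_right k).eq
    have := congrArg (fun w : R => (w : Ω)) h1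
    simpa using this
  -- the restriction of α to Z and its image Z₂
  have hαZ : (R.subtype.comp α.toMonoidHom).comp (Subgroup.inclusion hZR) ∈ F.Hom Z :=
    restrict_mem F hαF hZR
  set αZ := (R.subtype.comp α.toMonoidHom).comp (Subgroup.inclusion hZR) with hαZdef
  have hαZx : ∀ x : Z, αZ x = ((α (Subgroup.inclusion hZR x) : R) : Ω) := fun x => rfl
  set Z₂ : Subgroup Ω := αZ.range with hZ₂def
  have hZ₂R : Z₂ ≤ R := by
    rintro _ ⟨x, rfl⟩
    exact (α _).2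
  have hZ₂c : ∀ y ∈ Z₂, ∀ r ∈ R, r * y = y * r := by
    rintro _ ⟨x, rfl⟩ r hr
    rw [hαZx]
    have h1 := hZc x x.2 ((α.symm ⟨r, hr⟩ : R) : Ω) (α.symm ⟨r, hr⟩).2
    have h2 : α.symm ⟨r, hr⟩ * Subgroup.inclusion hZR x = Subgroup.inclusion hZR x * α.symm ⟨r, hr⟩ :=
      Subtype.ext h1
    have h3 := congrArg (fun w : R => ((α w : R) : Ω)) h2
    simpa using h3
  -- the fully centralized conjugate of Z in F'
  obtain ⟨Zs, ⟨ρ, hρ, hρr⟩, hfc⟩ := exists_fullyCentralized_conj F' hZS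
  have hZsS : Zs ≤ S := hfc.1
  have hZscard : Nat.card Zs = p := by
    rw [← card_eq_of_isConj F' ⟨ρ, hρ, hρr⟩]; exact hZcard
  obtain ⟨hHomZs, hCent⟩ := hZ Zs hZsS hZscard hfc
  have hrecs : F'.IsReceptive Zs := receptive_of_fullyCentralized hS F' hF' hfc
  -- R centralizes Z and Z₂
  have hRCZ : R ≤ centralizerIn S Z := fun r hr =>
    ⟨hRS hr, Subgroup.mem_centralizer_iff.mpr fun x hx => (hZc x hx r hr).symm⟩
  have hRCZ₂ : R ≤ centralizerIn S Z₂ := fun r hr =>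
    ⟨hRS hr, Subgroup.mem_centralizer_iff.mpr fun x hx => (hZ₂c x hx r hr).symm⟩
  -- σ extends ρ to R
  obtain ⟨σ, hσ, hσx⟩ := extend_to_sub F' hρ hρr hrecs (hRCZ.trans (centralizerIn_le_extender' Z ρ))
  -- ρ₂ = ρ ∘ (α|Z)⁻¹
  obtain ⟨ι, hι, hιinv⟩ := F.inv_mem hαZ
  have hιZ : ∀ y : Z₂, ι y ∈ Z := by
    rintro ⟨_, x, rfl⟩
    rw [hιinv]; exact x.2
  have hρ₂F := F.comp_mem hι (hle _ hρ) hιZ
  set ρ₂ := ρ.comp (ι.codRestrict Z hιZ) with hρ₂def
  have hρ₂x : ∀ x : Z, ρ₂ ⟨αZ x, ⟨x, rfl⟩⟩ = ρ x := by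
    intro x
    show ρ (ι.codRestrict Z hιZ ⟨αZ x, ⟨x, rfl⟩⟩) = ρ x
    congr 1
    exact Subtype.ext (hιinv x)
  have hρ₂r : ρ₂.range = Zs := by
    rw [← hρr]
    apply le_antisymm
    · rintro _ ⟨y, rfl⟩
      exact ⟨_, rfl⟩
    · rintro _ ⟨x, rfl⟩
      exact ⟨⟨αZ x, ⟨x, rfl⟩⟩, hρ₂x x⟩
  -- ρ₂ lies in F'
  have hρ₂F' : ρ₂ ∈ F'.Hom Z₂ := by
    obtain ⟨κ, hκ, hκinv, hκr⟩ := inv_exists F hρ₂F hρ₂r
    rw [hHomZs] at hκ
    obtain ⟨lam, hlam, hlaminv, -⟩ := inv_exists F' hκ hκr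
    have : lam = ρ₂ := by
      ext y
      have hy : ρ₂ y ∈ Zs := hρ₂r ▸ ⟨y, rfl⟩
      have h1 := hκinv y hy
      have h2 : κ ⟨ρ₂ y, hy⟩ ∈ Z₂ := by rw [h1]; exact y.2
      have h3 := hlaminv ⟨ρ₂ y, hy⟩ h2
      have h4 : (⟨κ ⟨ρ₂ y, hy⟩, h2⟩ : Z₂) = y := Subtype.ext h1
      rw [h4] at h3
      exact h3
    rw [← this]
    exact hlam
  -- σ₂ extends ρ₂ to R
  obtain ⟨σ₂, hσ₂, hσ₂x⟩ := extend_to_sub F' hρ₂F' hρ₂r hrecs
    (hRCZ₂.trans (centralizerIn_le_extender' Z₂ ρ₂))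
  -- β = σ₂ ∘ α ∘ σ⁻¹
  obtain ⟨τ, hτ, hτinv⟩ := F'.inv_mem hσ
  have hτR : ∀ y : σ.range, τ y ∈ R := by
    rintro ⟨_, r, rfl⟩
    rw [hτinv]; exact r.2
  have hc1 := F.comp_mem (hle _ hτ) hαF hτR
  have hval2 : ∀ y : σ.range, ((R.subtype.comp α.toMonoidHom).comp (τ.codRestrict R hτR)) y ∈ R :=
    fun y => (α _).2
  have hβF := F.comp_mem hc1 (hle _ hσ₂) hval2
  set β := σ₂.comp (((R.subtype.comp α.toMonoidHom).comp (τ.codRestrict R hτR)).codRestrict R hval2)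
    with hβdef
  have hβx : ∀ r : R, β ⟨σ r, ⟨r, rfl⟩⟩ = σ₂ (α r) := by
    intro r
    show σ₂ ⟨((α (τ.codRestrict R hτR ⟨σ r, ⟨r, rfl⟩⟩) : R) : Ω), _⟩ = σ₂ (α r)
    congr 1
    apply Subtype.ext
    show ((α (τ.codRestrict R hτR ⟨σ r, ⟨r, rfl⟩⟩) : R) : Ω) = ((α r : R) : Ω)
    congr 2
    exact Subtype.ext (hτinv r)
  -- Zs ≤ σ.range
  have hσZ : ∀ x : Z, σ (Subgroup.inclusion hZR x) = ρ x := fun x => hσx x x.2 (hZR x.2)
  have hZsσ : Zs ≤ σ.range := by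
    rw [← hρr]
    rintro _ ⟨x, rfl⟩
    exact ⟨Subgroup.inclusion hZR x, hσZ x⟩
  -- β is a map of the centralizer system of Zs in F
  have hβcent : β ∈ F.centralizerHom Zs σ.range := by
    refine ⟨hβF, ?_, ?_, ?_⟩
    · rintro _ ⟨r, rfl⟩
      refine ⟨hom_mem_S F' hσ r, Subgroup.mem_centralizer_iff.mpr ?_⟩
      intro q hq
      rw [← hρr] at hq
      obtain ⟨x, rfl⟩ := hq
      rw [← hσZ x, ← map_mul, ← map_mul]
      congr 1
      apply Subtype.ext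
      exact (hZc x x.2 r r.2).symm
    · rintro ⟨_, r, rfl⟩
      rw [hβx]
      refine ⟨hom_mem_S F' hσ₂ _, Subgroup.mem_centralizer_iff.mpr ?_⟩
      intro q hq
      rw [← hρ₂r] at hq
      obtain ⟨y, rfl⟩ := hq
      have h1 : σ₂ ⟨y, hZ₂R y.2⟩ = ρ₂ y := hσ₂x y y.2 (hZ₂R y.2)
      rw [← h1, ← map_mul, ← map_mul]
      congr 1
      apply Subtype.ext
      exact (hZ₂c y y.2 _ (α r).2).symm
    · have hsup : σ.range ⊔ Zs ≤ σ.range := sup_le le_rfl hZsσ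
      refine ⟨β.comp (Subgroup.inclusion hsup), restrict_mem F hβF hsup, ?_, ?_⟩
      · intro x
        show β (Subgroup.inclusion hsup (Subgroup.inclusion le_sup_left x)) = β x
        congr 1
      · intro q
        have hq : (q : Ω) ∈ ρ.range := by rw [hρr]; exact q.2
        obtain ⟨x, hx⟩ := hq
        have e1 : Subgroup.inclusion hsup (Subgroup.inclusion le_sup_right q) =
            ⟨σ (Subgroup.inclusion hZR x), ⟨_, rfl⟩⟩ := by
          apply Subtype.ext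
          show (q : Ω) = σ (Subgroup.inclusion hZR x)
          rw [hσZ, hx]
        show β (Subgroup.inclusion hsup (Subgroup.inclusion le_sup_right q)) = q
        rw [e1, hβx]
        have e2 : α (Subgroup.inclusion hZR x) = ⟨αZ x, hZ₂R ⟨x, rfl⟩⟩ := Subtype.ext rfl
        rw [e2, hσ₂x (αZ x) ⟨x, rfl⟩ (hZ₂R ⟨x, rfl⟩), hρ₂x, hx]
  rw [hCent σ.range] at hβcent
  have hβF' : β ∈ F'.Hom σ.range := hβcent.1
  -- α = σ₂⁻¹ ∘ β ∘ σ
  obtain ⟨τ₂, hτ₂, hτ₂inv⟩ := F'.inv_mem hσ₂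
  have hv1 : ∀ r : R, σ r ∈ σ.range := fun r => ⟨r, rfl⟩
  have hc3 := F'.comp_mem hσ hβF' hv1
  have hv2 : ∀ r : R, (β.comp (σ.codRestrict σ.range hv1)) r ∈ σ₂.range := by
    intro r
    show β ⟨σ r, ⟨r, rfl⟩⟩ ∈ σ₂.range
    rw [hβx]
    exact ⟨_, rfl⟩
  have hc4 := F'.comp_mem hc3 hτ₂ hv2
  have : τ₂.comp ((β.comp (σ.codRestrict σ.range hv1)).codRestrict σ₂.range hv2) =
      R.subtype.comp α.toMonoidHom := by
    ext r
    show τ₂ ⟨β ⟨σ r, ⟨r, rfl⟩⟩, _⟩ = ((α r : R) : Ω)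
    have e : (⟨β ⟨σ r, ⟨r, rfl⟩⟩, hv2 r⟩ : σ₂.range) = ⟨σ₂ (α r), ⟨_, rfl⟩⟩ := Subtype.ext (hβx r)
    rw [e, hτ₂inv]
  rwa [this] at hc4

/-- Let F′ ≤ F be saturated fusion systems over the same finite p-group S. Suppose that for every subgroup Z ≤ S of order p that is fully centralized in F′, the maps of F and of F′ with source Z coincide and the centralizer systems C_F(Z) and C_{F′}(Z) coincide. Then F = F′. -/
theorem result {Ω : Type*} [Group Ω] {S : Subgroup Ω} [Finite S] (p : ℕ) [Fact p.Prime] (hS : IsPGroup p S) (F : Cfsg.FusionSystem S) (hF : F.IsSaturated p) (F' : Cfsg.FusionSystem S) (hF' : F'.IsSaturated p) (hle : F' ≤ F) (hZ : ∀ Z : Subgroup Ω, Z ≤ S → Nat.card Z = p → F'.IsFullyCentralized Z → F.Hom Z = F'.Hom Z ∧ ∀ (C C' : Cfsg.FusionSystem (Cfsg.FusionSystem.centralizerIn S Z)), F.IsCentralizerSystem Z C → F'.IsCentralizerSystem Z C' → ∀ P : Subgroup Ω, C.Hom P = C'.Hom P) (P : Subgroup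 Ω) : F.Hom P = F'.Hom P := by
  apply Set.Subset.antisymm _ (hle P)
  have hZ' : ∀ Z : Subgroup Ω, Z ≤ S → Nat.card Z = p → F'.IsFullyCentralized Z →
      F.Hom Z = F'.Hom Z ∧ ∀ P : Subgroup Ω, F.centralizerHom Z P = F'.centralizerHom Z P := by
    intro Z hZS hc hfc
    obtain ⟨h1, h2⟩ := hZ Z hZS hc hfc
    refine ⟨h1, fun P => ?_⟩
    exact h2 (centralizerSystem F Z hZS) (centralizerSystem F' Z hZS) (centralizerSystem_spec F Z hZS)
      (centralizerSystem_spec F' Z hZS) P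
  intro φ hφ
  have h := alperin hS F hF P φ hφ
  induction h with
  | @aut P R hR α hα hPR =>
    have hRS : R ≤ S := hR.1.1
    by_cases hRne : R = ⊥
    · -- trivial group: α is the identity
      have hαid : R.subtype.comp α.toMonoidHom = R.subtype := by
        ext x
        have hx : (x : Ω) = 1 := by
          have : (x : Ω) ∈ (⊥ : Subgroup Ω) := by rw [← hRne]; exact x.2
          exact Subgroup.mem_bot.mp this
        have hx1 : x = 1 := Subtype.ext hx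
        rw [hx1]
        simp
      have : (R.subtype.comp α.toMonoidHom) ∈ F'.Hom R := by
        rw [hαid]; exact subtype_mem F' hRS
      exact restrict_mem F' this hPR
    · exact restrict_mem F' (aut_mem hS F F' hF' hle hZ' hRS hRne α hα) hPR
  | @comp P Q φ ψ h1 h2 h ih1 ih2 =>
    exact F'.comp_mem (ih1 h1.mem_hom) (ih2 h2.mem_hom) h

end Cfsg.Agent.S5333
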