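import Cfsg.Statements.S5334
import Cfsg.Agent.Lib.Helper88.CentricSub

set_option autoImplicit false
open Cfsg

namespace Cfsg.Agent.S5334

open Cfsg.FusionSystem Cfsg.Agent.Lib.Helper87 Cfsg.Agent.Lib.Helper88

/-- Let F′ ≤ F be saturated fusion systems over the same finite p-group S, let Q and R be F-centric subgroups, φ a map of F with source Q and values in R, and ψ a map of F with source R. If two of φ, ψ and the composite ψ ∘ φ are maps of F′ then so is the third. -/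
theorem result {Ω : Type*} [Group Ω] {S : Subgroup Ω} [Finite S] (p : ℕ) [Fact p.Prime] (hS : IsPGroup p S) (F : Cfsg.FusionSystem S) (hF : F.IsSaturated p) (F' : Cfsg.FusionSystem S) (hF' : F'.IsSaturated p) (hle : F' ≤ F) (Q R : Subgroup Ω) (hQ : F.IsCentric Q) (hR : F.IsCentric R) (φ : ↥Q →* Ω) (hφ : φ ∈ F.Hom Q) (hφR : ∀ x : Q, φ x ∈ R) (ψ : ↥R →* Ω) (hψ : ψ ∈ F.Hom R) : (φ ∈ F'.Hom Q → ψ ∈ F'.Hom R → ψ.comp (φ.codRestrict R hφR) ∈ F'.Hom Q) ∧ (ψ ∈ F'.Hom R → ψ.comp (φ.codRestrict R hφR) ∈ F'.Hom Q → φ ∈ F'.Hom Q) ∧ (φ ∈ F'.Hom Q → ψ.comp (φ.codRestrict R hφR) ∈ F'.Hom Q → ψ ∈ F'.Hom R) := by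
  refine ⟨fun h1 h2 => F'.comp_mem h1 h2 hφR, ?_, ?_⟩
  · intro h2 h3
    obtain ⟨ρ, hρ, hρinv⟩ := F'.inv_mem h2
    have hval : ∀ x : Q, (ψ.comp (φ.codRestrict R hφR)) x ∈ ψ.range := fun x => ⟨_, rfl⟩
    have hc := F'.comp_mem h3 hρ hval
    have : ρ.comp ((ψ.comp (φ.codRestrict R hφR)).codRestrict ψ.range hval) = φ := by
      ext x
      exact hρinv (φ.codRestrict R hφR x)
    rwa [this] at hc
  · intro h1 h3
    -- Q₁ = φ(Q) ≤ R
    have hQ₁R : φ.range ≤ R := by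
      rintro _ ⟨x, rfl⟩
      exact hφR x
    have hQ₁c : F.IsCentric φ.range := isCentric_of_isConj F hQ ⟨φ, hφ, rfl⟩
    obtain ⟨ρ, hρ, hρinv⟩ := F'.inv_mem h1
    have hvalρ : ∀ y : φ.range, ρ y ∈ Q := by
      rintro ⟨_, x, rfl⟩
      rw [hρinv]
      exact x.2
    have hc := F'.comp_mem hρ h3 hvalρ
    have : (ψ.comp (φ.codRestrict R hφR)).comp (ρ.codRestrict Q hvalρ) =
        ψ.comp (Subgroup.inclusion hQ₁R) := by
      ext y
      obtain ⟨_, x, rfl⟩ := y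
      show ψ (φ.codRestrict R hφR (ρ.codRestrict Q hvalρ ⟨φ x, ⟨x, rfl⟩⟩)) = ψ _
      congr 1
      apply Subtype.ext
      show φ (ρ.codRestrict Q hvalρ ⟨φ x, ⟨x, rfl⟩⟩) = φ x
      congr 1
      apply Subtype.ext
      exact hρinv x
    rw [this] at hc
    exact mem_of_restrict_mem hS F F' hF hF' hle _ hQ₁R rfl hQ₁c hψ hc

end Cfsg.Agent.S5334
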