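import Cfsg.Statements.S5335
import Cfsg.Agent.Lib.Helper88.AlperinUse

set_option autoImplicit false
open Cfsg

namespace Cfsg.Agent.S5335

open Cfsg.FusionSystem Cfsg.Agent.Lib.Helper87 Cfsg.Agent.Lib.Helper88

/-- a minimal centric subgroup below a centric subgroup -/
theorem exists_minimal_centric {Ω : Type*} [Group Ω] {S : Subgroup Ω} [Finite S] (F : FusionSystem S)
    {R : Subgroup Ω} (hR : F.IsCentric R) :
    ∃ Q : Subgroup Ω, Q ≤ R ∧ F.IsCentric Q ∧ ∀ R' : Subgroup Ω, R' < Q → ¬ F.IsCentric R' := by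
  classical
  have hex : ∃ n : ℕ, ∃ Q : Subgroup Ω, Q ≤ R ∧ F.IsCentric Q ∧ Nat.card Q = n := ⟨_, R, le_rfl, hR, rfl⟩
  obtain ⟨Q, hQR, hQc, hQn⟩ := Nat.find_spec hex
  refine ⟨Q, hQR, hQc, fun R' hR' hc => ?_⟩
  have hQS : Q ≤ S := hQc.1
  have hQfin : Finite Q := Finite.of_injective _ (Subgroup.inclusion_injective hQS)
  have hlt : Nat.card R' < Nat.card Q := by
    have hle := Subgroup.card_le_of_le hR'.le
    rcases hle.lt_or_eq with h | h
    · exact h
    · exact absurd (Subgroup.eq_of_le_of_card_ge hR'.le h.ge) hR'.ne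
  rw [hQn] at hlt
  exact Nat.find_min hex hlt ⟨R', hR'.le.trans hQR, hc, rfl⟩

/-- Let F′ ≤ F be saturated fusion systems over the same finite p-group S. If the maps of F and of F′ with source Q coincide for every F-centric subgroup Q that is minimal among F-centric subgroups, then F = F′. -/
theorem result {Ω : Type*} [Group Ω] {S : Subgroup Ω} [Finite S] (p : ℕ) [Fact p.Prime] (hS : IsPGroup p S) (F : Cfsg.FusionSystem S) (hF : F.IsSaturated p) (F' : Cfsg.FusionSystem S) (hF' : F'.IsSaturated p) (hle : F' ≤ F) (hmin : ∀ Q : Subgroup Ω, F.IsCentric Q → (∀ R : Subgroup Ω, R < Q → ¬ F.IsCentric R) → F.Hom Q = F'.Hom Q) (P : Subgroup Ω) : F.Hom P = F'.Hom P := by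
  apply Set.Subset.antisymm _ (hle P)
  intro φ hφ
  have h := alperin hS F hF P φ hφ
  induction h with
  | @aut P R hR α hα hPR =>
    have hRS : R ≤ S := hR.1.1
    have hαF := (mem_autGroup_iff F hRS α).mp hα
    obtain ⟨Q, hQR, hQc, hQmin⟩ := exists_minimal_centric F hR.2.2.1
    have h1 : (R.subtype.comp α.toMonoidHom).comp (Subgroup.inclusion hQR) ∈ F'.Hom Q := by
      rw [← hmin Q hQc hQmin]
      exact restrict_mem F hαF hQR
    have h2 := mem_of_restrict_mem hS F F' hF hF' hle _ hQR rfl hQc hαF h1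
    exact restrict_mem F' h2 hPR
  | @comp P Q φ ψ h1 h2 h ih1 ih2 =>
    exact F'.comp_mem (ih1 h1.mem_hom) (ih2 h2.mem_hom) h

end Cfsg.Agent.S5335
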