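import Cfsg.Statements.S5339

set_option autoImplicit false
open Cfsg

namespace Cfsg.Agent.S5339

theorem top_case {Ω : Type*} [Group Ω] {S : Subgroup Ω} (F E : Cfsg.FusionSystem S)
    (htop : F.autGroup S = Cfsg.Inn ↥S) (hsub : E.IsSubsystemOf F)
    (hfrat : ∀ (P : Subgroup Ω), P ≤ S → ∀ (φ : P →* Ω), φ ∈ F.Hom P →
      ∃ α ∈ F.autGroup S, ∃ φ₀ ∈ E.Hom P, ∀ (x : P) (hx : φ₀ x ∈ S), φ x = ((α ⟨φ₀ x, hx⟩ : S) : Ω))
    (P : Subgroup Ω) : E.Hom P = F.Hom P := by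
  apply Set.Subset.antisymm (hsub P)
  intro φ hφ
  have hPS : P ≤ S := (F.le_of_mem hφ).1
  obtain ⟨α, hα, φ₀, hφ₀, h⟩ := hfrat P hPS φ hφ
  rw [htop] at hα
  obtain ⟨s, rfl⟩ := hα
  have hφ₀S : ∀ x : P, φ₀ x ∈ S := (E.le_of_mem hφ₀).2
  have hc : conjHom S (s : Ω) ∈ E.Hom S := E.conj_mem le_rfl s.2
  have hcomp := E.comp_mem hφ₀ hc hφ₀S
  have : φ = (conjHom S (s : Ω)).comp (φ₀.codRestrict S hφ₀S) := by
    ext x
    rw [h x (hφ₀S x)]
    rfl
  rw [this]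
  exact hcomp

/-- Let F be a saturated fusion system over a nontrivial finite p-group S such that Aut_F(S) consists of inner automorphisms only and S has no strongly closed subgroup other than 1 and S. Then F is simple. -/
theorem result {Ω : Type*} [Group Ω] {S : Subgroup Ω} [Finite S] (p : ℕ) [Fact p.Prime] (hS : IsPGroup p S) (F : Cfsg.FusionSystem S) (hF : F.IsSaturated p) (hS1 : S ≠ ⊥) (htop : F.autGroup S = Cfsg.Inn ↥S) (hsc : ∀ T : Subgroup Ω, F.StronglyClosed T → T = ⊥ ∨ T = S) : F.IsSimple p := by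
  refine ⟨hF, hS1, ?_⟩
  intro T E hE
  obtain ⟨⟨-, -, hsub, hTsc, -, hfrat⟩, -⟩ := hE
  rcases hsc T hTsc with h | h
  · exact Or.inl h
  · right
    refine ⟨h, ?_⟩
    subst h
    exact top_case F E htop hsub hfrat

end Cfsg.Agent.S5339
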