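import Cfsg.Statements.S5341
import Cfsg.Agent.Lib.Helper87.Lemma26

set_option autoImplicit false
open Cfsg

namespace Cfsg.Agent.S5341

open Cfsg.FusionSystem Cfsg.Agent.Lib.Helper87

/-- Let F be a saturated fusion system over a finite p-group S, T a subgroup strongly closed in F, and F′ any fusion system over T all of whose maps are maps of F. For a subgroup Q ≤ T: if Q is fully centralized in F then it is fully centralized in F′, and if Q is fully normalized in F then it is fully normalized in F′. -/
theorem result {Ω : Type*} [Group Ω] {S : Subgroup Ω} [Finite S] (p : ℕ) [Fact p.Prime] (hS : IsPGroup p S) (F : Cfsg.FusionSystem S) (hF : F.IsSaturated p) (T : Subgroup Ω) (hT : F.StronglyClosed T) (F' : Cfsg.FusionSystem T) (hsub : F'.IsSubsystemOf F) (Q : Subgroup Ω) (hQT : Q ≤ T) : (F.IsFullyCentralized Q → F'.IsFullyCentralized Q) ∧ (F.IsFullyNormalized Q → F'.IsFullyNormalized Q) := by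
  have hTS : T ≤ S := hT.1
  have hconj : ∀ Q' : Subgroup Ω, F'.IsConj Q Q' → F.IsConj Q Q' := by
    rintro Q' ⟨φ, hφ, hr⟩
    exact ⟨φ, hsub Q hφ, hr⟩
  constructor
  · intro hfc
    have hrec := receptive_of_fullyCentralized hS F hF hfc
    refine ⟨hQT, fun Q' hc' => ?_⟩
    have hc := hconj Q' hc'
    obtain ⟨χ, hχ, hr⟩ := isConj_symm F hc
    have hM : Q' ⊔ centralizerIn S Q' ≤ extender S Q' χ :=
      sup_le (self_le_extender F hχ) (centralizerIn_le_extender' Q' χ)
    obtain ⟨ψ, hψ, hψe⟩ := extend_to_sub F hχ hr hrec hM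
    have hfin : Finite (centralizerIn T Q) := finite_of_le ((centralizerIn_le T Q).trans hTS)
    have hCT : centralizerIn T Q' ≤ Q' ⊔ centralizerIn S Q' := fun c hc =>
      (le_sup_right : centralizerIn S Q' ≤ _) ⟨hTS hc.1, hc.2⟩
    have hmaps : ∀ c : centralizerIn T Q', ψ (Subgroup.inclusion hCT c) ∈ centralizerIn T Q := by
      intro c
      refine ⟨?_, ?_⟩
      · exact hT.2 (centralizerIn T Q') (centralizerIn_le T Q') _ (restrict_mem F hψ hCT) c
      · intro q hq
        rw [← hr] at hq
        obtain ⟨x, rfl⟩ := hq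
        have hxM : (x : Ω) ∈ Q' ⊔ centralizerIn S Q' := (le_sup_left : Q' ≤ _) x.2
        rw [← hψe x x.2 hxM, ← map_mul, ← map_mul]
        congr 1
        apply Subtype.ext
        exact c.2.2 x x.2
    let f : centralizerIn T Q' → centralizerIn T Q := fun c => ⟨_, hmaps c⟩
    have hf : Function.Injective f := by
      intro a b hab
      have h1 : ψ (Subgroup.inclusion hCT a) = ψ (Subgroup.inclusion hCT b) :=
        congrArg Subtype.val hab
      exact Subgroup.inclusion_injective hCT (F.injective_of_mem hψ h1)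
    exact Nat.card_le_card_of_injective f hf
  · intro hfn
    obtain ⟨hfc, hfa⟩ := fc_fa_of_fullyNormalized hS F hF hfn
    have hrec := receptive_of_fullyCentralized hS F hF hfc
    refine ⟨hQT, fun Q' hc' => ?_⟩
    have hc := hconj Q' hc'
    obtain ⟨ψ, hψ, h1, -, -⟩ := exists_normalizer_map hS F hfa hrec (isConj_symm F hc)
    have hfin : Finite (normalizerIn T Q) := finite_of_le ((normalizerIn_le T Q).trans hTS)
    have hNT : normalizerIn T Q' ≤ normalizerIn S Q' := fun n hn => ⟨hTS hn.1, hn.2⟩
    have hmaps : ∀ n : normalizerIn T Q', ψ (Subgroup.inclusion hNT n) ∈ normalizerIn T Q := by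
      intro n
      refine ⟨?_, (h1 _).2⟩
      exact hT.2 (normalizerIn T Q') (normalizerIn_le T Q') _ (restrict_mem F hψ hNT) n
    let f : normalizerIn T Q' → normalizerIn T Q := fun n => ⟨_, hmaps n⟩
    have hf : Function.Injective f := by
      intro a b hab
      have h2 : ψ (Subgroup.inclusion hNT a) = ψ (Subgroup.inclusion hNT b) :=
        congrArg Subtype.val hab
      exact Subgroup.inclusion_injective hNT (F.injective_of_mem hψ h2)
    exact Nat.card_le_card_of_injective f hf

end Cfsg.Agent.S5341
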