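import Cfsg.Statements.S5342
import Cfsg.Agent.Lib.Helper87.ConstrainedNormal

set_option autoImplicit false
open Cfsg

namespace Cfsg.Agent.S5342

open Cfsg.FusionSystem Cfsg.Agent.Lib.Helper87

theorem aux {Ω : Type*} [Group Ω] {T : Subgroup Ω} (E : Cfsg.FusionSystem T) {S : Subgroup Ω}
    (F : Cfsg.FusionSystem S) (p : ℕ) (h : E.IsSubnormalIn F p) :
    Finite S → Fact p.Prime → IsPGroup p S → F.IsConstrained p → E.IsConstrained p := by
  induction h with
  | refl F p => intro _ _ _ hF; exact hF
  | step hED hDF ih =>
    intro hfin hp hS hF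
    have := hfin
    have := hp
    have hU := hDF.1.2.2.2.1
    have hDc := isConstrained_of_subsystem hS _ hF hU _ hDF.1.1 hDF.1.2.2.1
    exact ih (finite_of_le hU.1) hp (hS.to_le hU.1) hDc

/-- Let F be a constrained saturated fusion system over a finite p-group S. Then every subsystem of F that is subnormal in F (reached from F by a finite chain of successive normal subsystems) is constrained. -/
theorem result {Ω : Type*} [Group Ω] {S : Subgroup Ω} [Finite S] (p : ℕ) [Fact p.Prime] (hS : IsPGroup p S) (F : Cfsg.FusionSystem S) (hF : F.IsConstrained p) {T : Subgroup Ω} (E : Cfsg.FusionSystem T) (hE : E.IsSubnormalIn F p) : E.IsConstrained p :=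
  aux E F p hE inferInstance inferInstance hS hF

end Cfsg.Agent.S5342
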