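import Cfsg.Statements.S5343
import Cfsg.Agent.Lib.Helper88.RealizedQuot

set_option autoImplicit false
universe u
open Cfsg

namespace Cfsg.Agent.S5343

open Cfsg.Agent.Lib.Helper88

/-- Let F be a simple saturated fusion system over a finite p-group S that is realized by some finite group on a Sylow p-subgroup. Then F is realized by a finite simple group on a Sylow p-subgroup. -/
theorem result {Ω : Type u} [Group Ω] {S : Subgroup Ω} [Finite S] (p : ℕ) [Fact p.Prime] (hS : IsPGroup p S) (F : Cfsg.FusionSystem S) (hsimple : F.IsSimple p) (hreal : F.IsRealizable p) : ∃ (G : Type u) (_ : Group G) (_ : Finite G) (_ : IsSimpleGroup G) (ι : ↥S →* G), F.IsRealizedBy ι ∧ ∃ T : Sylow p G, (T : Subgroup G) = ι.range := by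
  classical
  obtain ⟨hsat, hSne, hsimp⟩ := hsimple
  have hex : ∃ n : ℕ, ∃ (G : Type u) (_ : Group G) (_ : Finite G) (ι : ↥S →* G),
      F.IsRealizedBy ι ∧ (∃ T : Sylow p G, (T : Subgroup G) = ι.range) ∧ Nat.card G = n := by
    obtain ⟨G, iG, iF, ι, h1, h2⟩ := hreal
    exact ⟨Nat.card G, G, iG, iF, ι, h1, h2, rfl⟩
  obtain ⟨G, instG, instF, ι, hR, ⟨Tsyl, hT⟩, hcard⟩ := Nat.find_spec hex
  have hmin : ∀ (G' : Type u) [Group G'] [Finite G'] (ι' : ↥S →* G'), F.IsRealizedBy ι' →
      (∃ T : Sylow p G', (T : Subgroup G') = ι'.range) → Nat.card G ≤ Nat.card G' := by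
    intro G' iG' iF' ι' h1 h2
    rw [hcard]
    exact Nat.find_min' hex ⟨G', iG', iF', ι', h1, h2, rfl⟩
  have hsimpleG : IsSimpleGroup G := by
    refine { exists_pair_ne := ?_, eq_bot_or_eq_top_of_normal := ?_ }
    · obtain ⟨a, ha⟩ := (Subgroup.ne_bot_iff_exists_ne_one).mp hSne
      refine ⟨ι a, 1, fun h => ha ?_⟩
      rw [← map_one ι] at h
      exact hR.1 h
    · intro N hN
      have hE := realSub_isNormalIn hR Tsyl hT hsat N
      rcases hsimp _ _ hE with h | ⟨h1, h2⟩
      · left
        by_contra hne
        have hbot : ι.range ⊓ N = ⊥ := by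
          rw [eq_bot_iff]
          rintro y ⟨⟨s, rfl⟩, hy⟩
          have hs : (s : Ω) ∈ preN ι N := mem_preN.mpr ⟨s.2, hy⟩
          rw [h, Subgroup.mem_bot] at hs
          have : s = 1 := Subtype.ext hs
          rw [this, map_one]
          exact Subgroup.mem_bot.mpr rfl
        obtain ⟨hR', hT'⟩ := isRealizedBy_quot hS hR Tsyl hT N hbot
        have hle := hmin (G ⧸ N) _ hR' hT'
        have hlt : Nat.card (G ⧸ N) < Nat.card G := by
          have h1 := Subgroup.card_eq_card_quotient_mul_card_subgroup N
          have h2 : 1 < Nat.card N := by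
            rw [Subgroup.one_lt_card_iff_ne_bot]
            exact hne
          have h3 : 0 < Nat.card (G ⧸ N) := Nat.card_pos
          rw [h1]
          nlinarith
        omega
      · right
        by_contra hne
        have hle' : ι.range ≤ N := by
          rintro _ ⟨s, rfl⟩
          have hs : (s : Ω) ∈ preN ι N := by rw [h1]; exact s.2
          exact preN_mem ι N hs
        obtain ⟨hR', hT'⟩ := isRealizedBy_sub hR Tsyl hT N hle' h2
        have hle := hmin N _ hR' hT'
        have hlt : Nat.card N < Nat.card G := by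
          have h1 := Subgroup.card_eq_card_quotient_mul_card_subgroup N
          have h3 : 1 < Nat.card (G ⧸ N) := by
            have : N.index ≠ 1 := fun h => hne (Subgroup.index_eq_one.mp h)
            have h4 : N.index ≠ 0 := Subgroup.index_ne_zero_of_finite
            rw [Subgroup.index_eq_card] at this h4
            omega
          have h2 : 0 < Nat.card N := Nat.card_pos
          rw [h1]
          nlinarith
        omega
  exact ⟨G, instG, instF, hsimpleG, ι, hR, Tsyl, hT⟩

end Cfsg.Agent.S5343
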