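import Cfsg.Statements.S5345

set_option autoImplicit false
open Cfsg

namespace Cfsg.Agent.S5345

theorem sq_one_of_mem {G : Type*} [Group G] {D : Set G} (hord : ∀ d ∈ D, orderOf d = 2) {x : G} (hx : x ∈ D) :
    x * x = 1 := by
  have := hord x hx
  rw [← pow_two, ← this, pow_orderOf_eq_one]

/-- two members of `D` in a common 2-subgroup commute -/
theorem commute_of_mem_two_group {G : Type*} [Group G] {D : Set G} (hD : Cfsg.IsThreeTranspositionSet D)
    (P : Subgroup G) (hP : IsPGroup 2 P) {d e : G} (hd : d ∈ D) (he : e ∈ D) (hdP : d ∈ P) (heP : e ∈ P) :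
    d * e = e * d := by
  obtain ⟨hord, h23⟩ := hD
  have hdd := sq_one_of_mem hord hd
  have hee := sq_one_of_mem hord he
  have hdinv : d⁻¹ = d := inv_eq_of_mul_eq_one_right hdd
  have heinv : e⁻¹ = e := inv_eq_of_mul_eq_one_right hee
  have h2 : (d * e) ^ 2 = 1 := by
    rcases h23 d hd e he with h | h
    · exact h
    · obtain ⟨k, hk⟩ := hP ⟨d * e, P.mul_mem hdP heP⟩
      have hk' : (d * e) ^ (2 ^ k) = 1 := by
        have := congrArg Subtype.val hk
        simpa using this
      have h1 : orderOf (d * e) ∣ 2 ^ k := orderOf_dvd_of_pow_eq_one hk'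
      have h3 : orderOf (d * e) ∣ 3 := orderOf_dvd_of_pow_eq_one h
      have hcop : Nat.Coprime (2 ^ k) 3 := by
        apply Nat.Coprime.pow_left
        decide
      have : orderOf (d * e) = 1 := Nat.eq_one_of_dvd_coprimes hcop h1 h3
      rw [orderOf_eq_one_iff] at this
      rw [this, one_pow]
  have : d * e = (d * e)⁻¹ := by
    apply eq_inv_of_mul_eq_one_right
    rw [← pow_two]; exact h2
  rw [this, mul_inv_rev, hdinv, heinv]

theorem isPGroup_closure_of_commute {G : Type*} [Group G] {D E : Set G} (hord : ∀ d ∈ D, orderOf d = 2)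
    (hE : E ⊆ D) (hcomm : ∀ a ∈ E, ∀ b ∈ E, Commute a b) : IsPGroup 2 (Subgroup.closure E) := by
  have hc : IsMulCommutative (Subgroup.closure E) :=
    Subgroup.isMulCommutative_closure (fun x hx y hy => (hcomm x hx y hy).eq)
  have key : ∀ y (hy : y ∈ Subgroup.closure E), y * y = 1 := by
    intro y hy
    induction hy using Subgroup.closure_induction with
    | mem x hx => exact sq_one_of_mem hord (hE hx)
    | one => simp
    | mul x y hx hy ihx ihy =>
      have hxy : x * y = y * x := by
        have := (isMulCommutative_iff.mp hc) ⟨x, hx⟩ ⟨y, hy⟩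
        exact congrArg Subtype.val this
      calc x * y * (x * y) = x * (y * x) * y := by group
        _ = x * (x * y) * y := by rw [hxy]
        _ = (x * x) * (y * y) := by group
        _ = 1 := by rw [ihx, ihy, one_mul]
    | inv x hx ih =>
      have : x⁻¹ = x := inv_eq_of_mul_eq_one_right ih
      rw [this, ih]
  intro g
  refine ⟨1, ?_⟩
  apply Subtype.ext
  rw [pow_one, pow_two]
  simpa using key g.1 g.2

theorem result {G : Type*} [Group G] [Finite G] {D : Set G} (hD : Cfsg.IsThreeTranspositionGroup D) (T : Sylow 2 G) : IsMulCommutative (Subgroup.closure {d : G | d ∈ D ∧ d ∈ T}) ∧ {d : G | d ∈ D ∧ d ∈ T}.ncard = Cfsg.commutingWidth D := by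
  obtain ⟨hTS, hconj, -⟩ := hD
  have hcommT : ∀ a ∈ {d : G | d ∈ D ∧ d ∈ T}, ∀ b ∈ {d : G | d ∈ D ∧ d ∈ T}, a * b = b * a := by
    rintro a ⟨ha, haT⟩ b ⟨hb, hbT⟩
    exact commute_of_mem_two_group hTS T T.isPGroup' ha hb haT hbT
  refine ⟨Subgroup.isMulCommutative_closure hcommT, ?_⟩
  unfold Cfsg.commutingWidth
  symm
  apply IsGreatest.csSup_eq
  constructor
  · exact ⟨_, fun x hx => hx.1, Set.toFinite _, fun a ha b hb => hcommT a ha b hb, rfl⟩
  · rintro n ⟨E, hED, hEfin, hEcomm, rfl⟩
    have hP : IsPGroup 2 (Subgroup.closure E) := isPGroup_closure_of_commute hTS.1 hED hEcomm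
    obtain ⟨Q, hQ⟩ := hP.exists_le_sylow
    obtain ⟨g, hg⟩ := MulAction.exists_smul_eq G Q T
    have himg : (fun x => g * x * g⁻¹) '' E ⊆ {d : G | d ∈ D ∧ d ∈ T} := by
      rintro _ ⟨x, hx, rfl⟩
      refine ⟨hconj g x (hED hx), ?_⟩
      have hxQ : x ∈ Q := hQ (Subgroup.subset_closure hx)
      rw [← hg]
      show g * x * g⁻¹ ∈ ((g • Q : Sylow 2 G) : Subgroup G)
      rw [Sylow.coe_subgroup_smul]
      have := Subgroup.smul_mem_pointwise_smul x (MulAut.conj g) (Q : Subgroup G) hxQ
      simpa [MulAut.smul_def] using this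
    have hinj : Function.Injective (fun x : G => g * x * g⁻¹) := by
      intro a b hab
      simpa using hab
    calc E.ncard = ((fun x => g * x * g⁻¹) '' E).ncard := (Set.ncard_image_of_injective E hinj).symm
      _ ≤ _ := Set.ncard_le_ncard himg (Set.toFinite _)

end Cfsg.Agent.S5345
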