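import Cfsg.Statements.S5356
import Cfsg.Agent.S5349
import Cfsg.Agent.Lib.Helper46.Width1
import Cfsg.Agent.Lib.Helper83.SylLift3
import Cfsg.Agent.Lib.Helper84.PCore

set_option autoImplicit false
set_option linter.all false
open Cfsg

namespace Cfsg.Agent.S5356

open Cfsg.Agent.Lib.Helper83.SylLift

/-- the core of the argument, for `d ∉ O_2(G)` -/
theorem main_case {G : Type*} [Group G] [Finite G] {D : Set G}
    (hTS : IsThreeTranspositionSet D) (hconj : ∀ g : G, ∀ x ∈ D, g * x * g⁻¹ ∈ D)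
    (hgen : Subgroup.closure D = ⊤) {d : G} (hd : d ∈ D)
    (hall : ∀ a ∈ D, ∃ g : G, a = g * d * g⁻¹)
    (F1 : ∀ a ∈ D, ∀ y ∈ D, Commute a y → a⁻¹ * y ∈ pCore 2 G)
    (F2 : ∀ y ∈ D, Commute d y → ∃ g ∈ pCore 2 G, y = g * d * g⁻¹)
    (hdQ : d ∉ pCore 2 G) :
    ∃ P : Sylow 3 G, d ∈ Subgroup.normalizer (P : Set G) ∧
      Subgroup.zpowers d ⊔ (P : Subgroup G) ⊔ pCore 2 G = ⊤ := by
  classical
  haveI : Fact (Nat.Prime 2) := ⟨Nat.prime_two⟩
  haveI : Fact (Nat.Prime 3) := ⟨by norm_num⟩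
  have hsq : ∀ x ∈ D, x * x = 1 := by
    intro x hx
    have := hTS.1 x hx
    have h2 : x ^ 2 = 1 := by rw [← this]; exact pow_orderOf_eq_one x
    rwa [pow_two] at h2
  have hinv : ∀ x ∈ D, x⁻¹ = x := fun x hx => inv_eq_of_mul_eq_one_right (hsq x hx)
  have hdd : d * d = 1 := hsq d hd
  have hdinv : d⁻¹ = d := hinv d hd
  set Q : Subgroup G := pCore 2 G with hQ
  haveI hQn : Q.Normal := Cfsg.Agent.Lib.Helper84.pCore_normal 2 G
  have hQ2 : IsPGroup 2 Q := Cfsg.Agent.Lib.Helper84.pCore_isPGroup 2 G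
  have hDQ : ∀ a ∈ D, a ∉ Q := by
    intro a ha haQ
    obtain ⟨g, rfl⟩ := hall a ha
    apply hdQ
    have := hQn.conj_mem _ haQ g⁻¹
    have h2 : g⁻¹ * (g * d * g⁻¹) * g⁻¹⁻¹ = d := by group
    rwa [h2] at this
  set π : G →* G ⧸ Q := QuotientGroup.mk' Q with hπ
  have hπs : Function.Surjective π := QuotientGroup.mk'_surjective Q
  have hπ1 : ∀ x : G, π x = 1 ↔ x ∈ Q := fun x => QuotientGroup.eq_one_iff x
  -- the image class
  set Dq : Set (G ⧸ Q) := π '' D with hDq
  have hTq : IsThreeTranspositionGroup Dq := by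
    refine ⟨⟨?_, ?_⟩, ?_, ?_⟩
    · rintro x ⟨a, ha, rfl⟩
      refine orderOf_eq_prime ?_ ?_
      · rw [pow_two, ← map_mul, hsq a ha, map_one]
      · intro h1
        exact hDQ a ha ((hπ1 a).mp h1)
    · rintro x ⟨a, ha, rfl⟩ y ⟨b, hb, rfl⟩
      rcases hTS.2 a ha b hb with h | h
      · left; rw [← map_mul, ← map_pow, h, map_one]
      · right; rw [← map_mul, ← map_pow, h, map_one]
    · rintro g x ⟨a, ha, rfl⟩
      obtain ⟨g', rfl⟩ := hπs g
      refine ⟨g' * a * g'⁻¹, hconj g' a ha, ?_⟩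
      rw [map_mul, map_mul, map_inv]
    · rw [hDq, ← MonoidHom.map_closure, hgen]
      exact Subgroup.map_top_of_surjective π hπs
  have hw : ∀ x ∈ Dq, ∀ y ∈ Dq, Commute x y → x = y := by
    rintro x ⟨a, ha, rfl⟩ y ⟨b, hb, rfl⟩ hc
    -- (a b)^2 ∈ Q
    have h1 : (a * b) * (a * b) ∈ Q := by
      rw [← hπ1, map_mul, map_mul]
      have hc' : π a * π b = π b * π a := hc
      calc π a * π b * (π a * π b) = π a * π b * (π b * π a) := by rw [hc']
        _ = π (a * (b * b) * a) := by simp [map_mul, mul_assoc]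
        _ = 1 := by rw [hsq b hb, mul_one, hsq a ha, map_one]
    have hab : a * b ∈ Q := by
      rcases hTS.2 a ha b hb with h | h
      · -- a and b commute
        have hcomm : Commute a b := by
          have h2 : a * b * (a * b) = 1 := by rw [← pow_two]; exact h
          have : a * b = b * a := by
            calc a * b = a * b * (a * b * (a * b))⁻¹ := by rw [h2]; group
              _ = b⁻¹ * a⁻¹ := by group
              _ = b * a := by rw [hinv a ha, hinv b hb]
          exact this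
        have := F1 a ha b hb hcomm
        rwa [hinv a ha] at this
      · -- (a b)^3 = 1, so a b = ((a b)^2)⁻¹
        have h2 : a * b = ((a * b) * (a * b))⁻¹ := by
          have h3 : (a * b) * ((a * b) * (a * b)) = 1 := by
            rw [← h, pow_succ, pow_two]; group
          exact eq_inv_of_mul_eq_one_left h3
        rw [h2]; exact Q.inv_mem h1
    -- so π a = π b
    have h3 : π a * π b = 1 := by rw [← map_mul]; exact (hπ1 _).mpr hab
    have h4 : π b * π b = 1 := by rw [← map_mul, hsq b hb, map_one]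
    calc π a = π a * (π b * π b) := by rw [h4, mul_one]
      _ = (π a * π b) * π b := by group
      _ = π b := by rw [h3, one_mul]
  have key : ∀ a ∈ D, ∀ b ∈ D, π (a * b) ∈ pCore 3 (G ⧸ Q) := by
    intro a ha b hb
    rw [map_mul]
    exact Cfsg.Agent.Lib.Helper46.mul_mem_pCore_three hTq hw ⟨a, ha, rfl⟩ ⟨b, hb, rfl⟩
  haveI hO3n : (pCore 3 (G ⧸ Q)).Normal := Cfsg.Agent.Lib.Helper84.pCore_normal 3 (G ⧸ Q)
  have hO33 : IsPGroup 3 (pCore 3 (G ⧸ Q)) := Cfsg.Agent.Lib.Helper84.pCore_isPGroup 3 (G ⧸ Q)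
  set R : Subgroup G := (pCore 3 (G ⧸ Q)).comap π with hR
  haveI hRn : R.Normal := hO3n.comap π
  have hQR : Q ≤ R := by
    intro q hq
    show π q ∈ pCore 3 (G ⧸ Q)
    rw [(hπ1 q).mpr hq]; exact Subgroup.one_mem _
  have hR3 : ∀ r ∈ R, ∃ k : ℕ, r ^ (3 ^ k) ∈ Q := by
    intro r hr
    obtain ⟨k, hk⟩ := hO33 ⟨π r, hr⟩
    have hk' : (π r) ^ (3 ^ k) = 1 := by
      have := congrArg Subtype.val hk
      simpa using this
    exact ⟨k, by rw [← hπ1, map_pow]; exact hk'⟩
  -- inverted elements have order 3 modulo Q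
  have hO3 : ∀ x ∈ R, d * x * d⁻¹ * x ∈ Q → x ^ 3 ∈ Q := by
    intro x hx hxQ
    set e : G := x * d * x⁻¹ with he
    have heD : e ∈ D := hconj x d hd
    have h1 : π (e * d) = π x * π x := by
      have h2 : e * d = x * x * (d * x * d⁻¹ * x)⁻¹ * (d * d) := by rw [he]; group
      rw [hdd, mul_one] at h2
      rw [h2, map_mul, map_inv, (hπ1 _).mpr hxQ, inv_one, mul_one, map_mul]
    obtain ⟨k, hk⟩ := hR3 x hx
    have hk' : (π x) ^ (3 ^ k) = 1 := by rw [← map_pow]; exact (hπ1 _).mpr hk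
    have h3 : (π x) ^ 3 = 1 := by
      rcases hTS.2 e heD d hd with h | h
      · have h4 : (π x) ^ (2 ^ 2) = 1 := by
          have : (π x) ^ (2 ^ 2) = (π x * π x) ^ 2 := by
            rw [← pow_two, ← pow_mul]; norm_num
          rw [this, ← h1, ← map_pow, h, map_one]
        rw [eq_one_of_pow2_of_pow3 h4 hk', one_pow]
      · have h4 : (π x) ^ 6 = 1 := by
          have : (π x) ^ 6 = (π x * π x) ^ 3 := by
            rw [← pow_two, ← pow_mul]
          rw [this, ← h1, ← map_pow, h, map_one]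
        have h5 : orderOf (π x) ∣ 6 := orderOf_dvd_of_pow_eq_one h4
        have h6 : orderOf (π x) ∣ 3 ^ k := orderOf_dvd_of_pow_eq_one hk'
        have h7 : orderOf (π x) ∣ 3 := by
          have hc : Nat.Coprime (orderOf (π x)) 2 :=
            Nat.Coprime.coprime_dvd_left h6 (Nat.Coprime.pow_left k (by norm_num))
          have h5' : orderOf (π x) ∣ 3 * 2 := by norm_num; exact h5
          exact hc.dvd_of_dvd_mul_right h5'
        exact orderOf_dvd_iff_pow_eq_one.mp h7
    rw [← hπ1, map_pow]; exact h3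
  -- stability
  have hS0 : ∀ g : G, d * g * d⁻¹ * g⁻¹ ∈ Q → ∃ c : G, c * d = d * c ∧ g * c⁻¹ ∈ Q := by
    intro g hg
    set e : G := g * d * g⁻¹ with he
    have heD : e ∈ D := hconj g d hd
    have hde : d * e ∈ Q := by
      have : d * e = d * g * d⁻¹ * g⁻¹ := by rw [he, hdinv]; group
      rw [this]; exact hg
    have hcomm : Commute d e := by
      rcases hTS.2 d hd e heD with h | h
      · have h2 : d * e * (d * e) = 1 := by rw [← pow_two]; exact h
        have : d * e = e * d := by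
          calc d * e = d * e * (d * e * (d * e))⁻¹ := by rw [h2]; group
            _ = e⁻¹ * d⁻¹ := by group
            _ = e * d := by rw [hinv d hd, hinv e heD]
        exact this
      · obtain ⟨j, hj⟩ := hQ2 ⟨d * e, hde⟩
        have hj' : (d * e) ^ (2 ^ j) = 1 := by
          have := congrArg Subtype.val hj
          simpa using this
        have h3 : (d * e) ^ (3 ^ 1) = 1 := by rw [pow_one]; exact h
        have h4 : d * e = 1 := eq_one_of_pow2_of_pow3 hj' h3
        have h5 : e = d := by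
          have : e = d⁻¹ * (d * e) := by group
          rw [this, h4, mul_one, hdinv]
        rw [h5]
    obtain ⟨q, hq, hqe⟩ := F2 e heD hcomm
    refine ⟨q⁻¹ * g, ?_, ?_⟩
    · have h1 : g * d * g⁻¹ = q * d * q⁻¹ := hqe
      calc q⁻¹ * g * d = q⁻¹ * (g * d * g⁻¹) * g := by group
        _ = q⁻¹ * (q * d * q⁻¹) * g := by rw [h1]
        _ = d * (q⁻¹ * g) := by group
    · have : g * (q⁻¹ * g)⁻¹ = q := by group
      rw [this]; exact hq
  -- the 3-group Y inside the centraliser of d
  set C : Subgroup G := R ⊓ Subgroup.centralizer {d} with hC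
  have hqC : ∀ g : C, ∃ k : ℕ, g ^ (3 ^ k) ∈ Q.subgroupOf C := by
    intro g
    obtain ⟨k, hk⟩ := hR3 g g.2.1
    exact ⟨k, by rw [Subgroup.mem_subgroupOf]; simpa using hk⟩
  obtain ⟨S, -, hScov⟩ := exists_sylow_cover (Q.subgroupOf C) hqC ⊥ (IsPGroup.of_bot)
  set Y : Subgroup G := (S : Subgroup C).map C.subtype with hY
  have hYR : Y ≤ R := by
    intro y hy
    obtain ⟨y', _, rfl⟩ := Subgroup.mem_map.mp hy
    exact y'.2.1
  have hY3 : IsPGroup 3 Y := S.isPGroup'.map _
  have hYd : ∀ y ∈ Y, d * y * d⁻¹ = y := by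
    intro y hy
    obtain ⟨y', _, rfl⟩ := Subgroup.mem_map.mp hy
    have h1 := Subgroup.mem_centralizer_iff.mp y'.2.2 d rfl
    have h2 : d * (y' : G) = (y' : G) * d := h1
    show d * (y' : G) * d⁻¹ = (y' : G)
    rw [h2]; group
  have hS : ∀ g ∈ R, d * g * d⁻¹ * g⁻¹ ∈ Q → ∃ y ∈ Y, g * y⁻¹ ∈ Q := by
    intro g hgR hg
    obtain ⟨c, hcd, hgc⟩ := hS0 g hg
    have hcR : c ∈ R := by
      have : c = (g * c⁻¹)⁻¹ * g := by group
      rw [this]
      exact R.mul_mem (R.inv_mem (hQR hgc)) hgR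
    have hcC : c ∈ C := by
      refine ⟨hcR, ?_⟩
      show c ∈ Subgroup.centralizer {d}
      rw [Subgroup.mem_centralizer_iff]
      intro h hh
      rw [Set.mem_singleton_iff] at hh
      subst hh
      exact hcd.symm
    obtain ⟨a, ha, p, hp, hap⟩ := hScov ⟨c, hcC⟩
    have hap' : c = (a : G) * (p : G) := by
      have := congrArg Subtype.val hap
      simpa using this
    refine ⟨(p : G), Subgroup.mem_map.mpr ⟨p, hp, rfl⟩, ?_⟩
    have : g * (p : G)⁻¹ = (g * c⁻¹) * (a : G) := by rw [hap']; group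
    rw [this]
    exact Q.mul_mem hgc (Subgroup.mem_subgroupOf.mp ha)
  -- apply the lifting theorem
  obtain ⟨P0, hP03, hP0R, -, hP0cov, hP0d⟩ :=
    lift_main (Nat.card G) G Q R Y d rfl hQ2 hdd hQR hR3 hO3 hYR hY3 hYd hS
  -- every element lies in R or dR
  have hGR : ∀ g : G, g ∈ R ∨ d * g ∈ R := by
    intro g
    have hg : g ∈ Subgroup.closure D := by rw [hgen]; trivial
    induction hg using Subgroup.closure_induction with
    | mem a ha =>
      right
      exact key d hd a ha
    | one => left; exact R.one_mem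
    | mul x y _ _ hx hy =>
      rcases hx with hx | hx <;> rcases hy with hy | hy
      · left; exact R.mul_mem hx hy
      · right
        have : d * (x * y) = (d * x * d⁻¹) * (d * y) := by group
        rw [this]; exact R.mul_mem (hRn.conj_mem x hx d) hy
      · right
        have : d * (x * y) = (d * x) * y := by group
        rw [this]; exact R.mul_mem hx hy
      · left
        have : x * y = (d * (d * x) * d⁻¹) * (d * y) := by
          have h1 : d * (d * x) * d⁻¹ * (d * y) = (d * d) * x * y := by group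
          rw [h1, hdd, one_mul]
        rw [this]; exact R.mul_mem (hRn.conj_mem _ hx d) hy
    | inv x _ hx =>
      rcases hx with hx | hx
      · left; exact R.inv_mem hx
      · right
        have : d * x⁻¹ = d * (d * x)⁻¹ * d⁻¹ * (d * d) := by group
        rw [this, hdd, mul_one]
        exact hRn.conj_mem _ (R.inv_mem hx) d
  -- 3-elements lie in R
  have h3R : ∀ s : G, ∀ k : ℕ, s ^ (3 ^ k) = 1 → s ∈ R := by
    intro s k hk
    rcases hGR s with h | h
    · exact h
    · have hs2 : s * s ∈ R := by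
        have : s * s = (d * (d * s) * d⁻¹) * (d * s) := by
          have h1 : d * (d * s) * d⁻¹ * (d * s) = (d * d) * s * s := by group
          rw [h1, hdd, one_mul]
        rw [this]; exact R.mul_mem (hRn.conj_mem _ h d) h
      obtain ⟨t, ht⟩ : Odd (3 ^ k) := Odd.pow (by decide)
      have : s = (s * s) ^ (t + 1) := by
        have h1 : (s * s) ^ (t + 1) = s ^ (3 ^ k) * s := by
          rw [← pow_two, ← pow_mul, ht, ← pow_succ]
          congr 1
        rw [h1, hk, one_mul]
      rw [this]; exact R.pow_mem hs2 _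
  obtain ⟨S3, hP0S⟩ := hP03.exists_le_sylow
  have hS3P0 : ∀ s ∈ (S3 : Subgroup G), s ∈ P0 := by
    intro s hs
    obtain ⟨k, hk⟩ := S3.isPGroup' ⟨s, hs⟩
    have hk' : s ^ (3 ^ k) = 1 := by
      have := congrArg Subtype.val hk
      simpa using this
    obtain ⟨q, hq, p, hp, hsqp⟩ := hP0cov s (h3R s k hk')
    have hqS : q ∈ (S3 : Subgroup G) := by
      have : q = s * p⁻¹ := by rw [hsqp]; group
      rw [this]
      exact (S3 : Subgroup G).mul_mem hs ((S3 : Subgroup G).inv_mem (hP0S hp))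
    obtain ⟨k2, hk2⟩ := S3.isPGroup' ⟨q, hqS⟩
    have hk2' : q ^ (3 ^ k2) = 1 := by
      have := congrArg Subtype.val hk2
      simpa using this
    obtain ⟨j, hj⟩ := hQ2 ⟨q, hq⟩
    have hj' : q ^ (2 ^ j) = 1 := by
      have := congrArg Subtype.val hj
      simpa using this
    have hq1 : q = 1 := eq_one_of_pow2_of_pow3 hj' hk2'
    rw [hsqp, hq1, one_mul]; exact hp
  refine ⟨S3, ?_, ?_⟩
  · rw [Subgroup.mem_set_normalizer_iff]
    intro h
    constructor
    · intro hh
      exact hP0S (hP0d h (hS3P0 h hh))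
    · intro hh
      have h1 := hP0d _ (hS3P0 _ hh)
      have h2 : d * (d * h * d⁻¹) * d⁻¹ = h := by
        have : d * (d * h * d⁻¹) * d⁻¹ = (d * d) * h * (d * d)⁻¹ := by group
        rw [this, hdd]; group
      rw [h2] at h1
      exact hP0S h1
  · rw [eq_top_iff]
    intro g _
    have hRle : R ≤ Subgroup.zpowers d ⊔ (S3 : Subgroup G) ⊔ Q := by
      intro r hr
      obtain ⟨q, hq, p, hp, hrqp⟩ := hP0cov r hr
      rw [hrqp]
      exact Subgroup.mul_mem _ (Subgroup.mem_sup_right hq)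
        (Subgroup.mem_sup_left (Subgroup.mem_sup_right (hP0S hp)))
    rcases hGR g with h | h
    · exact hRle h
    · have : g = d * (d * g) := by
        have h1 : d * (d * g) = (d * d) * g := by group
        rw [h1, hdd, one_mul]
      rw [this]
      exact Subgroup.mul_mem _
        (Subgroup.mem_sup_left (Subgroup.mem_sup_left (Subgroup.mem_zpowers d))) (hRle h)

/-- Let D be a conjugacy class of 3-transpositions generating the finite group G, with at least two members, and d a member of D such that every member of D commuting with d commutes with exactly the same members of D as d. Then there is a Sylow 3-subgroup P of G normalized by d such that G is generated by d, P and the largest normal 2-subgroup of G. -/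
theorem result {G : Type*} [Group G] [Finite G] {D : Set G} (hD : Cfsg.IsThreeTranspositionClass D) (hD2 : ∃ a ∈ D, ∃ b ∈ D, a ≠ b) {d : G} (hd : d ∈ D) (hV : {y : G | y ∈ D ∧ Commute d y} = {v : G | v ∈ D ∧ ∀ e ∈ D, Commute v e ↔ Commute d e}) : ∃ P : Sylow 3 G, d ∈ Subgroup.normalizer (P : Set G) ∧ Subgroup.zpowers d ⊔ (P : Subgroup G) ⊔ Cfsg.pCore 2 G = ⊤ := by
  classical
  haveI : Fact (Nat.Prime 2) := ⟨Nat.prime_two⟩
  haveI : Fact (Nat.Prime 3) := ⟨by norm_num⟩
  obtain ⟨hV1, hV2⟩ := Cfsg.Agent.S5349.result hD hD2 hd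
  obtain ⟨hTS, ⟨d0, hd0, hDeq⟩, hgen⟩ := hD
  have hconj : ∀ g : G, ∀ x ∈ D, g * x * g⁻¹ ∈ D := by
    intro g x hx
    rw [hDeq, Cfsg.Agent.S5349.mem_conjugatesOf_iff'] at hx ⊢
    exact hx.trans (isConj_iff.mpr ⟨g, rfl⟩)
  have hall : ∀ a ∈ D, ∃ g : G, a = g * d * g⁻¹ := by
    intro a ha
    rw [hDeq, Cfsg.Agent.S5349.mem_conjugatesOf_iff'] at ha hd
    obtain ⟨g, hg⟩ := isConj_iff.mp (hd.symm.trans ha)
    exact ⟨g, hg.symm⟩
  haveI hQn : (pCore 2 G).Normal := Cfsg.Agent.Lib.Helper84.pCore_normal 2 G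
  have F1d : ∀ y ∈ D, Commute d y → d⁻¹ * y ∈ pCore 2 G := by
    intro y hy hc
    have h1 : y ∈ {y : G | y ∈ D ∧ Commute d y} := ⟨hy, hc⟩
    rw [hV, hV1] at h1
    exact h1.2
  have F2 : ∀ y ∈ D, Commute d y → ∃ g ∈ pCore 2 G, y = g * d * g⁻¹ := by
    intro y hy hc
    have h1 : y ∈ {y : G | y ∈ D ∧ Commute d y} := ⟨hy, hc⟩
    rw [hV, hV2] at h1
    exact h1
  have F1 : ∀ a ∈ D, ∀ y ∈ D, Commute a y → a⁻¹ * y ∈ pCore 2 G := by
    intro a ha y hy hc
    obtain ⟨g, rfl⟩ := hall a ha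
    have hy' : g⁻¹ * y * g ∈ D := by
      have := hconj g⁻¹ y hy
      rwa [inv_inv] at this
    have hc' : Commute d (g⁻¹ * y * g) := by
      have h1 : g * d * g⁻¹ * y = y * (g * d * g⁻¹) := hc
      show d * (g⁻¹ * y * g) = (g⁻¹ * y * g) * d
      calc d * (g⁻¹ * y * g) = g⁻¹ * (g * d * g⁻¹ * y) * g := by group
        _ = g⁻¹ * (y * (g * d * g⁻¹)) * g := by rw [h1]
        _ = (g⁻¹ * y * g) * d := by group
    have h2 := F1d _ hy' hc'
    have h3 := hQn.conj_mem _ h2 g
    have h4 : g * (d⁻¹ * (g⁻¹ * y * g)) * g⁻¹ = (g * d * g⁻¹)⁻¹ * y := by group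
    rwa [h4] at h3
  by_cases hdQ : d ∈ pCore 2 G
  · -- G is a 2-group
    have hDQ : D ⊆ pCore 2 G := by
      intro a ha
      obtain ⟨g, rfl⟩ := hall a ha
      exact hQn.conj_mem d hdQ g
    have htop : pCore 2 G = ⊤ := by
      rw [eq_top_iff, ← hgen, Subgroup.closure_le]
      exact hDQ
    have hG2 : IsPGroup 2 (pCore 2 G) := Cfsg.Agent.Lib.Helper84.pCore_isPGroup 2 G
    obtain ⟨P⟩ : Nonempty (Sylow 3 G) := inferInstance
    have hP1 : ∀ s ∈ (P : Subgroup G), s = 1 := by
      intro s hs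
      obtain ⟨k, hk⟩ := P.isPGroup' ⟨s, hs⟩
      have hk' : s ^ (3 ^ k) = 1 := by
        have := congrArg Subtype.val hk
        simpa using this
      have hsQ : s ∈ pCore 2 G := by rw [htop]; trivial
      obtain ⟨j, hj⟩ := hG2 ⟨s, hsQ⟩
      have hj' : s ^ (2 ^ j) = 1 := by
        have := congrArg Subtype.val hj
        simpa using this
      exact eq_one_of_pow2_of_pow3 hj' hk'
    refine ⟨P, ?_, ?_⟩
    · rw [Subgroup.mem_set_normalizer_iff]
      intro h
      constructor
      · intro hh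
        have := hP1 h hh
        subst this
        have : d * 1 * d⁻¹ = 1 := by group
        rw [this]; exact (P : Subgroup G).one_mem
      · intro hh
        have h1 := hP1 _ hh
        have : h = d⁻¹ * (d * h * d⁻¹) * d := by group
        rw [this, h1]
        have : d⁻¹ * 1 * d = 1 := by group
        rw [this]; exact (P : Subgroup G).one_mem
    · rw [htop]; exact sup_top_eq _
  · exact main_case hTS hconj hgen hd hall F1 F2 hdQ

end Cfsg.Agent.S5356
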