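import Cfsg.Statements.S5358

set_option autoImplicit false
open Cfsg Matrix

namespace Cfsg.Agent.S5358

theorem polarVec_dot (n : ℕ) (Q : QuadraticForm (ZMod 3) (Fin n → ZMod 3)) (v x : Fin n → ZMod 3) :
    Cfsg.polarVec (⇑Q) v ⬝ᵥ x = QuadraticMap.polar (⇑Q) v x := by
  have h := LinearMap.pi_apply_eq_sum_univ (QuadraticMap.polarBilin Q v) x
  simp only [QuadraticMap.polarBilin_apply_apply] at h
  rw [h]
  unfold Cfsg.polarVec dotProduct
  apply Finset.sum_congr rfl
  intro i _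
  rw [smul_eq_mul, mul_comm]
  show x i * QuadraticMap.polar (⇑Q) v (Pi.single i 1) = _
  have : (Pi.single i 1 : Fin n → ZMod 3) = fun j => if i = j then 1 else 0 := by
    ext j
    simp [Pi.single_apply, eq_comm]
  rw [this]

theorem result (n : ℕ) (Q : QuadraticForm (ZMod 3) (Fin n → ZMod 3)) (hQ : (QuadraticMap.polarBilin Q).Nondegenerate) (u v : Fin n → ZMod 3) (hu : Q u ≠ 0) (huv : Q u = Q v) (h1 : v ≠ u) (h2 : v ≠ -u) : Commute (Cfsg.reflectionMatrix (⇑Q) u) (Cfsg.reflectionMatrix (⇑Q) v) ↔ QuadraticMap.polar (⇑Q) u v = 0 := by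
  have hv : Q v ≠ 0 := huv ▸ hu
  set A := Matrix.vecMulVec u (Cfsg.polarVec (⇑Q) u) with hA
  set B := Matrix.vecMulVec v (Cfsg.polarVec (⇑Q) v) with hB
  have hAB : A * B = QuadraticMap.polar (⇑Q) u v • Matrix.vecMulVec u (Cfsg.polarVec (⇑Q) v) := by
    rw [hA, hB, Matrix.vecMulVec_mul_vecMulVec, polarVec_dot]
    ext i j
    simp [Matrix.vecMulVec_apply]; ring
  have hBA : B * A = QuadraticMap.polar (⇑Q) u v • Matrix.vecMulVec v (Cfsg.polarVec (⇑Q) u) := by
    rw [hA, hB, Matrix.vecMulVec_mul_vecMulVec, polarVec_dot, QuadraticMap.polar_comm]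
    ext i j
    simp [Matrix.vecMulVec_apply]; ring
  have hcomm : Commute (Cfsg.reflectionMatrix (⇑Q) u) (Cfsg.reflectionMatrix (⇑Q) v) ↔ A * B = B * A := by
    unfold Cfsg.reflectionMatrix
    rw [← hA, ← hB]
    unfold Commute SemiconjBy
    constructor
    · intro h
      have h' : ((Q u)⁻¹ * (Q v)⁻¹) • (A * B) = ((Q u)⁻¹ * (Q v)⁻¹) • (B * A) := by
        have e1 : (1 - (Q u)⁻¹ • A) * (1 - (Q v)⁻¹ • B) = 1 - (Q u)⁻¹ • A - (Q v)⁻¹ • B + ((Q u)⁻¹ * (Q v)⁻¹) • (A * B) := by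
          rw [sub_mul, mul_sub, mul_sub, one_mul, mul_one, one_mul, Matrix.smul_mul, Matrix.mul_smul, smul_smul]
          abel
        have e2 : (1 - (Q v)⁻¹ • B) * (1 - (Q u)⁻¹ • A) = 1 - (Q u)⁻¹ • A - (Q v)⁻¹ • B + ((Q u)⁻¹ * (Q v)⁻¹) • (B * A) := by
          rw [sub_mul, mul_sub, mul_sub, one_mul, mul_one, one_mul, Matrix.smul_mul, Matrix.mul_smul, smul_smul, mul_comm (Q v)⁻¹]
          abel
        rw [e1, e2] at h
        exact add_left_cancel h
      have hne : (Q u)⁻¹ * (Q v)⁻¹ ≠ 0 := mul_ne_zero (inv_ne_zero hu) (inv_ne_zero hv)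
      exact smul_right_injective _ hne h'
    · intro h
      rw [sub_mul, mul_sub, mul_sub, one_mul, mul_one, one_mul, sub_mul, mul_sub, mul_sub, one_mul, mul_one, one_mul,
        Matrix.smul_mul, Matrix.mul_smul, Matrix.smul_mul, Matrix.mul_smul, h]
      rw [smul_comm (Q v)⁻¹ (Q u)⁻¹]
      abel
  rw [hcomm, hAB, hBA]
  constructor
  · intro h
    by_contra hne
    have h3 : Matrix.vecMulVec u (Cfsg.polarVec (⇑Q) v) = Matrix.vecMulVec v (Cfsg.polarVec (⇑Q) u) :=
      smul_right_injective _ hne h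
    have h4 := congrArg (fun M => M *ᵥ u) h3
    simp only [Matrix.vecMulVec_mulVec, polarVec_dot, QuadraticMap.polar_self] at h4
    simp only [op_smul_eq_smul] at h4
    have h2ne : (2 • Q u : ZMod 3) ≠ 0 := by
      rw [nsmul_eq_mul]
      apply mul_ne_zero _ hu
      decide
    have h5 : v = ((2 • Q u)⁻¹ * QuadraticMap.polar (⇑Q) v u) • u := by
      rw [mul_smul, h4, smul_smul, inv_mul_cancel₀ h2ne, one_smul]
    set c := (2 • Q u)⁻¹ * QuadraticMap.polar (⇑Q) v u with hc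
    have h6 : Q v = c * c * Q u := by
      rw [h5, QuadraticMap.map_smul, smul_eq_mul]
    rw [← huv] at h6
    have h7 : c * c = 1 := by
      have : (c * c - 1) * Q u = 0 := by rw [sub_mul, ← h6, one_mul, sub_self]
      rcases mul_eq_zero.mp this with h | h
      · exact sub_eq_zero.mp h
      · exact absurd h hu
    have h8 : (c - 1) * (c + 1) = 0 := by
      have : (c - 1) * (c + 1) = c * c - 1 := by ring
      rw [this, h7, sub_self]
    rcases mul_eq_zero.mp h8 with h | h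
    · apply h1
      rw [h5, sub_eq_zero.mp h, one_smul]
    · apply h2
      rw [h5, eq_neg_of_add_eq_zero_left h, neg_smul, one_smul]
  · intro h
    rw [h, zero_smul, zero_smul]

end Cfsg.Agent.S5358
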