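import Cfsg.Statements.S5363

set_option autoImplicit false
open Cfsg

namespace Cfsg.Agent.S5363

/-- forward direction key lemma -/
theorem fwd_key {G : Type*} [Group G] {a b y : G} (ha : a * a = 1) (hb : b * b = 1) (hy : y * y = 1)
    (hab : a * b = b * a) (hne : b ≠ a) (hz : Commute (a * b) y)
    (h1 : Odd (orderOf (y * a)) ∨ orderOf (y * a) = 2)
    (h2 : Odd (orderOf (y * b)) ∨ orderOf (y * b) = 2) : Commute a y := by
  have hainv : a⁻¹ = a := inv_eq_of_mul_eq_one_right ha
  have hyinv : y⁻¹ = y := inv_eq_of_mul_eq_one_right hy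
  rcases h1 with hm | hm
  · -- m odd
    have hzz : (a * b) * (a * b) = 1 := by
      calc a * b * (a * b) = a * (b * a) * b := by group
        _ = a * (a * b) * b := by rw [hab]
        _ = (a * a) * (b * b) := by group
        _ = 1 := by rw [ha, hb, one_mul]
    have hz1 : a * b ≠ 1 := by
      intro h
      apply hne
      have : b = a⁻¹ := (eq_inv_of_mul_eq_one_right h)
      rw [this, hainv]
    have hbz : b = a * (a * b) := by
      rw [← mul_assoc, ha, one_mul]
    have hza : Commute (a * b) a := by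
      show a * b * a = a * (a * b)
      rw [mul_assoc, ← hab]
    obtain ⟨z, hzdef⟩ : ∃ z, z = a * b := ⟨_, rfl⟩
    rw [← hzdef] at hzz hz1 hbz hza
    have hzy : Commute z y := by rw [hzdef]; exact hz
    have hzya : Commute (y * a) z := (hzy.symm.mul_left hza.symm)
    have hyb : y * b = (y * a) * z := by rw [hbz, mul_assoc]
    have hpow : ∀ k : ℕ, (y * b) ^ k = (y * a) ^ k * z ^ k := by
      intro k
      rw [hyb, hzya.mul_pow]
    have hzodd : ∀ k : ℕ, Odd k → z ^ k = z := by
      rintro k ⟨j, rfl⟩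
      rw [pow_succ, pow_mul, pow_two, hzz, one_pow, one_mul]
    rcases h2 with hn | hn
    · exfalso
      -- z = ((y a)^n)⁻¹
      have e1 : (y * a) ^ (orderOf (y * b)) * z = 1 := by
        have := hpow (orderOf (y * b))
        rw [pow_orderOf_eq_one, hzodd _ hn] at this
        exact this.symm
      have e2 : z = ((y * a) ^ (orderOf (y * b)))⁻¹ := eq_inv_of_mul_eq_one_right e1
      have e3 : z ^ (orderOf (y * a)) = 1 := by
        rw [e2, inv_pow, ← pow_mul, mul_comm, pow_mul, pow_orderOf_eq_one, one_pow, inv_one]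
      rw [hzodd _ hm] at e3
      exact hz1 e3
    · -- n = 2
      have e1 : (y * a) ^ 2 = 1 := by
        have := hpow 2
        rw [← hn, pow_orderOf_eq_one, hn, pow_two z, hzz, mul_one] at this
        exact this.symm
      have e2 : orderOf (y * a) ∣ 2 := orderOf_dvd_of_pow_eq_one e1
      have e3 : orderOf (y * a) = 1 := by
        rcases (Nat.dvd_prime Nat.prime_two).mp e2 with h | h
        · exact h
        · rw [h] at hm; exact absurd hm (by decide)
      rw [orderOf_eq_one_iff] at e3
      have : a = y := by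
        have := eq_inv_of_mul_eq_one_right e3
        rw [this, hyinv]
      rw [this]
  · -- (y a)^2 = 1
    have e1 : (y * a) ^ 2 = 1 := by rw [← hm, pow_orderOf_eq_one]
    show a * y = y * a
    have : y * a = (y * a)⁻¹ := by
      apply eq_inv_of_mul_eq_one_right
      rw [← pow_two]; exact e1
    rw [this, mul_inv_rev, hainv, hyinv]

theorem bwd_key {G : Type*} [Group G] {D : Set G} (hconj : ∀ g : G, ∀ d ∈ D, g * d * g⁻¹ ∈ D)
    {a b : G} (haD : a ∈ D) (hbD : b ∈ D) (ha : a * a = 1) (hb : b * b = 1)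
    (k : ℕ) (hk : 2 ≤ k) (hord : orderOf (a * b) = 2 * k)
    (H : ∀ a ∈ D, ∀ b ∈ D, b ≠ a → Commute a b → {y : G | y ∈ D ∧ Commute (a * b) y} = {y : G | y ∈ D ∧ Commute a y} ∩ {y : G | y ∈ D ∧ Commute b y}) : False := by
  have hainv : a⁻¹ = a := inv_eq_of_mul_eq_one_right ha
  have hbinv : b⁻¹ = b := inv_eq_of_mul_eq_one_right hb
  set r := a * b with hr
  have hrinv : r⁻¹ = b * a := by rw [hr, mul_inv_rev, hainv, hbinv]
  have hconj_a : a * r * a⁻¹ = r⁻¹ := by
    rw [hrinv, hainv, hr]
    calc a * (a * b) * a = (a * a) * b * a := by group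
      _ = b * a := by rw [ha, one_mul]
  have hconj_b : b * r * b⁻¹ = r⁻¹ := by
    rw [hrinv, hbinv, hr]
    calc b * (a * b) * b = b * a * (b * b) := by group
      _ = b * a := by rw [hb, mul_one]
  have hapow : ∀ j : ℕ, a * r ^ j * a⁻¹ = (r ^ j)⁻¹ := by
    intro j
    rw [← conj_pow, hconj_a, inv_pow]
  have hbpow : ∀ j : ℕ, b * r ^ j * b⁻¹ = (r ^ j)⁻¹ := by
    intro j
    rw [← conj_pow, hconj_b, inv_pow]
  set z := r ^ k with hz
  have hzz : z * z = 1 := by
    rw [hz, ← pow_add, ← two_mul, ← hord, pow_orderOf_eq_one]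
  have hzinv : z⁻¹ = z := inv_eq_of_mul_eq_one_right hzz
  have hz1 : z ≠ 1 := by
    intro h
    have : orderOf r ∣ k := orderOf_dvd_of_pow_eq_one h
    rw [hord] at this
    have := Nat.le_of_dvd (by omega) this
    omega
  have hza : a * z = z * a := by
    have := hapow k
    rw [← hz, hzinv] at this
    calc a * z = (a * z * a⁻¹) * a := by group
      _ = z * a := by rw [this]
  have hzb : b * z = z * b := by
    have := hbpow k
    rw [← hz, hzinv] at this
    calc b * z = (b * z * b⁻¹) * b := by group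
      _ = z * b := by rw [this]
  have ha'D : a * z ∈ D := by
    rcases Nat.even_or_odd' k with ⟨j, hj | hj⟩
    · -- k = 2 j
      have h1 : a * z = (r ^ j)⁻¹ * a * ((r ^ j)⁻¹)⁻¹ := by
        rw [inv_inv, hz, hj, two_mul, pow_add]
        have := hapow j
        calc a * (r ^ j * r ^ j) = (a * r ^ j * a⁻¹) * a * r ^ j := by group
          _ = (r ^ j)⁻¹ * a * r ^ j := by rw [this]
      rw [h1]
      exact hconj _ a haD
    · have h1 : a * z = (r ^ j)⁻¹ * b * ((r ^ j)⁻¹)⁻¹ := by
        rw [inv_inv, hz, hj, pow_succ, two_mul, pow_add]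
        have := hapow j
        have hab : a * r = b := by rw [hr, ← mul_assoc, ha, one_mul]
        calc a * (r ^ j * r ^ j * r) = (a * r ^ j * a⁻¹) * (a * r) * r ^ j := by
              have : r ^ j * r = r * r ^ j := (Commute.pow_self r j).eq
              rw [mul_assoc (r ^ j), this]; group
          _ = (r ^ j)⁻¹ * b * r ^ j := by rw [this, hab]
      rw [h1]
      exact hconj _ b hbD
  have hne : a * z ≠ a := by
    intro h
    apply hz1
    exact mul_left_cancel (h.trans (mul_one a).symm)
  have hcomm : Commute a (a * z) := by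
    show a * (a * z) = a * z * a
    rw [mul_assoc, hza]
  have key := H a haD (a * z) ha'D hne hcomm
  have hprod : a * (a * z) = z := by rw [← mul_assoc, ha, one_mul]
  have hbmem : b ∈ {y : G | y ∈ D ∧ Commute (a * (a * z)) y} := by
    refine ⟨hbD, ?_⟩
    rw [hprod]
    exact hzb.symm
  rw [key] at hbmem
  have hcab : Commute a b := hbmem.1.2
  have : r ^ 2 = 1 := by
    rw [pow_two, hr]
    calc a * b * (a * b) = a * (b * a) * b := by group
      _ = a * (a * b) * b := by rw [hcab.eq]
      _ = (a * a) * (b * b) := by group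
      _ = 1 := by rw [ha, hb, one_mul]
  have : orderOf r ∣ 2 := orderOf_dvd_of_pow_eq_one this
  rw [hord] at this
  have := Nat.le_of_dvd (by omega) this
  omega

/-- Let D be a conjugation-invariant set of involutions of a finite group G. Then every product of two members of D has odd order or order 2 if and only if, for every a in D and every b in D different from a and commuting with a, the members of D commuting with a b are exactly those commuting with both a and b. -/
theorem result {G : Type*} [Group G] [Finite G] {D : Set G} (hinv : ∀ d ∈ D, orderOf d = 2) (hconj : ∀ g : G, ∀ d ∈ D, g * d * g⁻¹ ∈ D) : (∀ a ∈ D, ∀ b ∈ D, Odd (orderOf (a * b)) ∨ orderOf (a * b) = 2) ↔ ∀ a ∈ D, ∀ b ∈ D, b ≠ a → Commute a b → {y : G | y ∈ D ∧ Commute (a * b) y} = {y : G | y ∈ D ∧ Commute a y} ∩ {y : G | y ∈ D ∧ Commute b y} := by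
  have hsq : ∀ x ∈ D, x * x = 1 := by
    intro x hx
    have := hinv x hx
    rw [← pow_two, ← this, pow_orderOf_eq_one]
  constructor
  · intro H a ha b hb hne hcomm
    ext y
    constructor
    · rintro ⟨hy, hzy⟩
      refine ⟨⟨hy, ?_⟩, ⟨hy, ?_⟩⟩
      · exact fwd_key (hsq a ha) (hsq b hb) (hsq y hy) hcomm.eq hne hzy (H y hy a ha) (H y hy b hb)
      · have hzy' : Commute (b * a) y := by rw [← hcomm.eq]; exact hzy
        exact fwd_key (hsq b hb) (hsq a ha) (hsq y hy) hcomm.eq.symm hne.symm hzy' (H y hy b hb) (H y hy a ha)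
    · rintro ⟨⟨hy, h1⟩, ⟨-, h2⟩⟩
      exact ⟨hy, h1.mul_left h2⟩
  · intro H a ha b hb
    by_contra hcon
    push Not at hcon
    obtain ⟨hnodd, hn2⟩ := hcon
    rw [Nat.not_odd_iff_even] at hnodd
    obtain ⟨k, hk⟩ := hnodd
    have hpos : 0 < orderOf (a * b) := orderOf_pos _
    have hk2 : 2 ≤ k := by
      by_contra h
      have : k = 0 ∨ k = 1 := by omega
      rcases this with rfl | rfl
      · omega
      · exact hn2 hk
    exact bwd_key hconj ha hb (hsq a ha) (hsq b hb) k hk2 (by rw [hk, two_mul]) H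

end Cfsg.Agent.S5363
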