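import Cfsg.Statements.S5364

set_option autoImplicit false
open Cfsg

namespace Cfsg.Agent.S5364

theorem mem_zpowers_two {G : Type*} [Group G] {t x : G} (ht : orderOf t = 2) (hx : x ∈ Subgroup.zpowers t) :
    x = 1 ∨ x = t := by
  obtain ⟨k, rfl⟩ := Subgroup.mem_zpowers_iff.mp hx
  rw [← zpow_mod_orderOf, ht]
  rcases Int.emod_two_eq_zero_or_one k with h | h
  · left; rw [show k % ((2 : ℕ) : ℤ) = 0 from h]; simp
  · right; rw [show k % ((2 : ℕ) : ℤ) = 1 from h]; simp

/-- Let D be a conjugation-invariant set of involutions of a finite group G and t an involution in the centre of G such that d t does not lie in D for any d in D. If the images of the members of D in G modulo the subgroup generated by t satisfy the 3-transposition order conditions (each has order 2 and any two have product of order at most 3), then so do the members of D. -/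
theorem result {G : Type*} [Group G] [Finite G] {D : Set G} (hinv : ∀ d ∈ D, orderOf d = 2) (hconj : ∀ g : G, ∀ d ∈ D, g * d * g⁻¹ ∈ D) (t : G) (ht : orderOf t = 2) (htZ : t ∈ Subgroup.center G) (hDt : ∀ d ∈ D, d * t ∉ D) [(Subgroup.zpowers t).Normal] (himg : Cfsg.IsThreeTranspositionSet ((QuotientGroup.mk : G → G ⧸ Subgroup.zpowers t) '' D)) : Cfsg.IsThreeTranspositionSet D := by
  refine ⟨hinv, ?_⟩
  intro d hd e he
  have hsq : ∀ x ∈ D, x * x = 1 := by
    intro x hx
    have := hinv x hx
    rw [← pow_two, ← this, pow_orderOf_eq_one]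
  have hinv' : ∀ x ∈ D, x⁻¹ = x := fun x hx => inv_eq_of_mul_eq_one_right (hsq x hx)
  have htc : ∀ g : G, g * t = t * g := fun g => Subgroup.mem_center_iff.mp htZ g
  have key := himg.2 _ ⟨d, hd, rfl⟩ _ ⟨e, he, rfl⟩
  rcases key with h | h
  · left
    have h1 : ((d * e) ^ 2 : G) ∈ Subgroup.zpowers t := by
      rw [← QuotientGroup.eq_one_iff]
      simpa using h
    rcases mem_zpowers_two ht h1 with h2 | h2
    · exact h2
    · exfalso
      apply hDt e he
      have h3 : e * t = d * e * d⁻¹ := by
        rw [htc e, ← h2, hinv' d hd, pow_two]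
        calc d * e * (d * e) * e = d * e * d * (e * e) := by group
          _ = d * e * d := by rw [hsq e he, mul_one]
      rw [h3]
      exact hconj d e he
  · right
    have h1 : ((d * e) ^ 3 : G) ∈ Subgroup.zpowers t := by
      rw [← QuotientGroup.eq_one_iff]
      simpa using h
    rcases mem_zpowers_two ht h1 with h2 | h2
    · exact h2
    · exfalso
      apply hDt e he
      have h3 : e * t = d * (e * d * e⁻¹) * d⁻¹ := by
        rw [htc e, ← h2, hinv' d hd, hinv' e he, pow_succ, pow_two]
        calc d * e * (d * e) * (d * e) * e = d * e * d * e * d * (e * e) := by group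
          _ = d * (e * d * e) * d := by rw [hsq e he, mul_one]; group
      rw [h3]
      exact hconj d _ (hconj e d hd)

end Cfsg.Agent.S5364
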