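import Cfsg.Statements.S5365
import Cfsg.Agent.Lib.Helper83.LocS3c
import Cfsg.Agent.Lib.Helper83.LocS3f

set_option autoImplicit false
open Cfsg

namespace Cfsg.Agent.S5365

open Cfsg.Agent.Lib.Helper83.LocS3 in
/-- Let D be a non-empty conjugation-invariant set of involutions of a finite group G satisfying the 3-transposition order conditions, and suppose that for every d in D the members of D other than d commuting with d generate a subgroup isomorphic to the symmetric group of degree 3, and the largest normal 3-subgroup of the centralizer of d has order 3. Then the subgroup generated by D is isomorphic to the symmetric group of degree 5 or to the direct product of two symmetric groups of degree 3. -/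
theorem result {G : Type*} [Group G] [Finite G] {D : Set G} (hD : Cfsg.IsThreeTranspositionSet D) (hconj : ∀ g : G, ∀ d ∈ D, g * d * g⁻¹ ∈ D) (hne : D.Nonempty) (hloc : ∀ d ∈ D, Nonempty (↥(Subgroup.closure {y : G | y ∈ D ∧ y ≠ d ∧ Commute d y}) ≃* Equiv.Perm (Fin 3)) ∧ Nat.card (Cfsg.pCore 3 ↥(Subgroup.centralizer ({d} : Set G))) = 3) : Nonempty (↥(Subgroup.closure D) ≃* Equiv.Perm (Fin 5)) ∨ Nonempty (↥(Subgroup.closure D) ≃* Equiv.Perm (Fin 3) × Equiv.Perm (Fin 3)) := by
  have h : Ctx D := ⟨hD, hconj, fun d hd => (hloc d hd).1⟩
  by_cases hK : AllK D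
  · right
    exact partB h hK hne (fun d hd => (hloc d hd).2)
  · left
    unfold AllK at hK
    push Not at hK
    obtain ⟨d, hd, b, hb, c, hc, c1, hc1, hne1, hnc⟩ := hK
    have hdc : d ∈ Dd D c := Ctx.Dd_symm hd hc
    have hbc : b ≠ c := by
      rintro rfl
      exact hnc hc1.2.2.symm
    exact partA h (s0 := d) (s1 := c1) (s2 := b) (s3 := c)
      { m0 := hd
        m1 := hc1.1
        m2 := hb.1
        m3 := hc.1
        n01 := h.not_commute hc.1 hdc hc1 (fun e => hne1 e.symm)
        n12 := hnc
        n23 := h.not_commute hd hb hc hbc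
        c02 := hb.2.2
        c03 := hc.2.2
        c13 := hc1.2.2.symm
        ne02 := fun e => hb.2.1 e.symm }

end Cfsg.Agent.S5365
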