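import Cfsg.Statements.S5366
import Cfsg.Agent.Lib.Helper31.Fischer3
import Cfsg.Agent.Lib.Helper31.Fischer4

set_option autoImplicit false
open Cfsg

namespace Cfsg.Agent.S5366

open Cfsg.LineSystem Cfsg.Agent.Lib.Helper31.Fischer

section main

variable {X : Type*} {L : Set (Set X)} (hL : Cfsg.IsFischerSpace L)

include hL in
theorem plane_props {l m : Set X} (hl : l ∈ L) (hm : m ∈ L) (hne : l ≠ m) (hnon : (l ∩ m).Nonempty) :
    P1 (restrict L (span L (l ∪ m))) ∧ P2 (restrict L (span L (l ∪ m))) ∧
      P3 (restrict L (span L (l ∪ m))) ∧ P4 (restrict L (span L (l ∪ m))) := by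
  rcases hL.2.2 l hl m hm hne hnon with ⟨e, he⟩ | ⟨e, he⟩
  · exact ⟨P1_of_iso he dual_P1, P2_of_iso he dual_P2, P3_of_iso he dual_P3, P4_of_iso he dual_P4⟩
  · exact ⟨P1_of_iso he ag_P1, P2_of_iso he ag_P2, P3_of_iso he ag_P3, P4_of_iso he ag_P4⟩

theorem mem_span_left {l m : Set X} {p : X} (hp : p ∈ l) : p ∈ span L (l ∪ m) :=
  subset_span _ (Or.inl hp)

theorem mem_span_right {l m : Set X} {p : X} (hp : p ∈ m) : p ∈ span L (l ∪ m) :=
  subset_span _ (Or.inr hp)

include hL in
theorem L1 {a b c x a' : X} (hT : T L a b c) (hxa : x ≠ a) (hxb : x ≠ b) (hxc : x ≠ c)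
    (hx : T L x a a') : ∃ b' c', Img L x b b' ∧ Img L x c c' ∧ T L a' b' c' := by
  have hne : ({a, b, c} : Set X) ≠ {x, a, a'} := by
    intro e
    have : x ∈ ({a, b, c} : Set X) := by rw [e]; simp
    simp only [Set.mem_insert_iff, Set.mem_singleton_iff] at this
    rcases this with r | r | r
    · exact hxa r
    · exact hxb r
    · exact hxc r
  have hnon : (({a, b, c} : Set X) ∩ {x, a, a'}).Nonempty := ⟨a, by simp, by simp⟩
  have hp := plane_props hL hT.mem hx.mem hne hnon
  exact P1_ambient hL.2.1 (isSubspace_span _) hp.1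
    (mem_span_left (by simp)) (mem_span_left (by simp)) (mem_span_left (by simp))
    (mem_span_right (by simp)) (mem_span_right (by simp)) hT hxa hxb hxc hx

include hL in
theorem L2 {x y z z' u : X} (h1 : T L x z z') (h2 : T L y z' u) (hxy : x ≠ y) :
    (∃ w, T L x y w) ∨ (∃ w, T L y z w) := by
  by_cases hyz : y = z
  · left
    exact ⟨z', by rw [hyz]; exact h1⟩
  have hne : ({x, z, z'} : Set X) ≠ {y, z', u} := by
    intro e
    have : y ∈ ({x, z, z'} : Set X) := by rw [e]; simp
    simp only [Set.mem_insert_iff, Set.mem_singleton_iff] at this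
    rcases this with r | r | r
    · exact hxy r.symm
    · exact hyz r
    · exact h2.2.2.1 r
  have hnon : (({x, z, z'} : Set X) ∩ {y, z', u}).Nonempty := ⟨z', by simp, by simp⟩
  have hp := plane_props hL h1.mem h2.mem hne hnon
  exact P2_ambient hL.2.1 (isSubspace_span _) hp.2.1
    (mem_span_left (by simp)) (mem_span_right (by simp)) (mem_span_left (by simp))
    (mem_span_left (by simp)) (mem_span_right (by simp)) h1 h2 hxy

include hL in
theorem L3 {x y z v u : X} (h1 : T L x z v) (h2 : T L y z u) (hxy : x ≠ y)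
    (hnc : ¬ ∃ w, T L x y w) : ∃ r, Img L x u r ∧ Img L y v r := by
  have hne : ({x, z, v} : Set X) ≠ {y, z, u} := by
    intro e
    have : y ∈ ({x, z, v} : Set X) := by rw [e]; simp
    simp only [Set.mem_insert_iff, Set.mem_singleton_iff] at this
    rcases this with r | r | r
    · exact hxy r.symm
    · exact h2.2.2.1 r
    · apply hnc
      exact ⟨z, by rw [r]; exact h1.symm23⟩
  have hnon : (({x, z, v} : Set X) ∩ {y, z, u}).Nonempty := ⟨z, by simp, by simp⟩
  have hp := plane_props hL h1.mem h2.mem hne hnon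
  exact P3_ambient hL.2.1 (isSubspace_span _) hp.2.2.1
    (mem_span_left (by simp)) (mem_span_right (by simp)) (mem_span_left (by simp))
    (mem_span_left (by simp)) (mem_span_right (by simp)) h1 h2 hxy hnc

include hL in
theorem L4 {x y w z u₀ z' : X} (h1 : T L x y w) (hzx : z ≠ x) (hzy : z ≠ y) (hzw : z ≠ w)
    (hu : u₀ = x ∨ u₀ = y) (h2 : T L u₀ z z') :
    ∃ z₁ z₂ z₃ z₄ z₅, Img L y z z₁ ∧ Img L x z₁ z₂ ∧ Img L y z₂ z₃ ∧ Img L x z₃ z₄ ∧
      Img L y z₄ z₅ ∧ Img L x z₅ z := by
  have hne : ({x, y, w} : Set X) ≠ {u₀, z, z'} := by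
    intro e
    have : z ∈ ({x, y, w} : Set X) := by rw [e]; simp
    simp only [Set.mem_insert_iff, Set.mem_singleton_iff] at this
    rcases this with r | r | r
    · exact hzx r
    · exact hzy r
    · exact hzw r
  have hnon : (({x, y, w} : Set X) ∩ {u₀, z, z'}).Nonempty := by
    refine ⟨u₀, ?_, by simp⟩
    rcases hu with r | r <;> rw [r] <;> simp
  have hp := plane_props hL h1.mem h2.mem hne hnon
  exact P4_ambient hL.2.1 (isSubspace_span _) hp.2.2.2
    (mem_span_left (by simp)) (mem_span_left (by simp)) (mem_span_left (by simp))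
    (mem_span_right (by simp)) h1

include hL in
/-- the image of a line not through `x`, one of whose points is collinear with `x` -/
theorem image_line_aux {a b c x a' : X} (hT : T L a b c) (hxa : x ≠ a) (hxb : x ≠ b) (hxc : x ≠ c)
    (hx : T L x a a') : lineMap L x '' {a, b, c} ∈ L := by
  obtain ⟨b', c', k1, k2, k3⟩ := L1 hL hT hxa hxb hxc hx
  rw [Set.image_insert_eq, Set.image_pair, lineMap_of_T hL.1 hx, lineMap_of_Img hL.1 k1,
    lineMap_of_Img hL.1 k2]
  exact k3.mem

include hL in
theorem image_line (x : X) {l : Set X} (hl : l ∈ L) : lineMap L x '' l ∈ L := by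
  obtain ⟨a, b, c, rfl, hT⟩ := exists_T_of_line hL.2.1 hl
  by_cases hxa : x = a
  · subst hxa
    rw [Set.image_insert_eq, Set.image_pair, lineMap_self, lineMap_of_T hL.1 hT,
      lineMap_of_T hL.1 hT.symm23, Set.pair_comm c b]
    exact hl
  by_cases hxb : x = b
  · subst hxb
    rw [Set.image_insert_eq, Set.image_pair, lineMap_self, lineMap_of_T hL.1 hT.symm12,
      lineMap_of_T hL.1 hT.rot]
    have : ({c, x, a} : Set X) = {a, x, c} := by
      ext t; simp only [Set.mem_insert_iff, Set.mem_singleton_iff]; tauto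
    rw [this]
    exact hl
  by_cases hxc : x = c
  · subst hxc
    rw [Set.image_insert_eq, Set.image_pair, lineMap_self, lineMap_of_T hL.1 hT.rot',
      lineMap_of_T hL.1 hT.symm13, Set.insert_comm]
    exact hl
  by_cases ha : ∃ a', T L x a a'
  · obtain ⟨a', ha'⟩ := ha
    exact image_line_aux hL hT hxa hxb hxc ha'
  by_cases hb : ∃ b', T L x b b'
  · obtain ⟨b', hb'⟩ := hb
    have : ({a, b, c} : Set X) = {b, c, a} := by
      ext t; simp only [Set.mem_insert_iff, Set.mem_singleton_iff]; tauto
    rw [this]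
    exact image_line_aux hL hT.rot hxb hxc hxa hb'
  by_cases hc : ∃ c', T L x c c'
  · obtain ⟨c', hc'⟩ := hc
    have : ({a, b, c} : Set X) = {c, a, b} := by
      ext t; simp only [Set.mem_insert_iff, Set.mem_singleton_iff]; tauto
    rw [this]
    exact image_line_aux hL hT.rot' hxc hxa hxb hc'
  rw [Set.image_insert_eq, Set.image_pair, lineMap_of_not ha, lineMap_of_not hb, lineMap_of_not hc]
  exact hl

include hL in
/-- non-collinear points give commuting maps -/
theorem comm_of_noncollinear {x y : X} (hxy : x ≠ y) (hnc : ¬ ∃ w, T L x y w) (z : X) :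
    lineMap L x (lineMap L y z) = lineMap L y (lineMap L x z) := by
  by_cases hy : ∃ u, T L y z u
  · obtain ⟨u, hu⟩ := hy
    by_cases hx : ∃ v, T L x z v
    · obtain ⟨v, hv⟩ := hx
      obtain ⟨r, k1, k2⟩ := L3 hL hv hu hxy hnc
      rw [lineMap_of_T hL.1 hu, lineMap_of_T hL.1 hv, lineMap_of_Img hL.1 k1, lineMap_of_Img hL.1 k2]
    · rw [lineMap_of_T hL.1 hu, lineMap_of_not hx, lineMap_of_T hL.1 hu]
      apply lineMap_of_not
      rintro ⟨w, hw⟩
      rcases L2 hL hu hw hxy.symm with ⟨w', hw'⟩ | ⟨w', hw'⟩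
      · exact hnc ⟨w', hw'.symm12⟩
      · exact hx ⟨w', hw'⟩
  · by_cases hx : ∃ v, T L x z v
    · obtain ⟨v, hv⟩ := hx
      rw [lineMap_of_not hy, lineMap_of_T hL.1 hv]
      symm
      apply lineMap_of_not
      rintro ⟨w, hw⟩
      rcases L2 hL hv hw hxy with ⟨w', hw'⟩ | ⟨w', hw'⟩
      · exact hnc ⟨w', hw'⟩
      · exact hy ⟨w', hw'⟩
    · rw [lineMap_of_not hy, lineMap_of_not hx, lineMap_of_not hy]

include hL in
/-- collinear points give maps whose product has order three -/
theorem cube_of_collinear {x y w : X} (hT : T L x y w) (z : X) :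
    lineMap L x (lineMap L y (lineMap L x (lineMap L y (lineMap L x (lineMap L y z))))) = z := by
  have gx : lineMap L y x = w := lineMap_of_T hL.1 hT.symm12
  have gy : lineMap L y y = y := lineMap_self y
  have gw : lineMap L y w = x := lineMap_of_T hL.1 hT.rot
  have fx : lineMap L x x = x := lineMap_self x
  have fy : lineMap L x y = w := lineMap_of_T hL.1 hT
  have fw : lineMap L x w = y := lineMap_of_T hL.1 hT.symm23
  by_cases hzx : z = x
  · rw [hzx, gx, fw, gy, fy, gw, fx]
  by_cases hzy : z = y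
  · rw [hzy, gy, fy, gw, fx, gx, fw]
  by_cases hzw : z = w
  · rw [hzw, gw, fx, gx, fw, gy, fy]
  by_cases hx : ∃ z', T L x z z'
  · obtain ⟨z', hz'⟩ := hx
    obtain ⟨z₁, z₂, z₃, z₄, z₅, k1, k2, k3, k4, k5, k6⟩ := L4 hL hT hzx hzy hzw (Or.inl rfl) hz'
    rw [lineMap_of_Img hL.1 k1, lineMap_of_Img hL.1 k2, lineMap_of_Img hL.1 k3,
      lineMap_of_Img hL.1 k4, lineMap_of_Img hL.1 k5, lineMap_of_Img hL.1 k6]
  by_cases hy : ∃ z', T L y z z'
  · obtain ⟨z', hz'⟩ := hy
    obtain ⟨z₁, z₂, z₃, z₄, z₅, k1, k2, k3, k4, k5, k6⟩ := L4 hL hT hzx hzy hzw (Or.inr rfl) hz'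
    rw [lineMap_of_Img hL.1 k1, lineMap_of_Img hL.1 k2, lineMap_of_Img hL.1 k3,
      lineMap_of_Img hL.1 k4, lineMap_of_Img hL.1 k5, lineMap_of_Img hL.1 k6]
  rw [lineMap_of_not hy, lineMap_of_not hx, lineMap_of_not hy, lineMap_of_not hx,
    lineMap_of_not hy, lineMap_of_not hx]

end main

/-- Let L be a nondegenerate Fischer space on the point type X (every point on a line). Then for every point x the map t(x) — sending a point collinear with x to the third point of their common line and fixing every other point — is a permutation of X of order 2 and an automorphism of the line system; and the set of all t(x) satisfies the 3-transposition order conditions in the permutation group of X (any two have product of order at most 3). -/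
theorem result {X : Type*} (L : Set (Set X)) (hL : Cfsg.IsFischerSpace L) (hnd : Cfsg.LineSystem.IsNondegenerate L) : (∀ x : X, ∃ σ : Equiv.Perm X, ⇑σ = Cfsg.LineSystem.lineMap L x ∧ orderOf σ = 2 ∧ Cfsg.LineSystem.IsIso L L σ) ∧ Cfsg.IsThreeTranspositionSet {σ : Equiv.Perm X | ∃ x : X, ⇑σ = Cfsg.LineSystem.lineMap L x} := by
  have hPL := hL.1
  have h3 := hL.2.1
  -- part 1
  have part1 : ∀ x : X, ∃ σ : Equiv.Perm X, ⇑σ = Cfsg.LineSystem.lineMap L x ∧ orderOf σ = 2 ∧
      Cfsg.LineSystem.IsIso L L σ := by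
    intro x
    refine ⟨(lineMap_invol hPL x).toPerm, rfl, ?_, ?_⟩
    · have : Fact (Nat.Prime 2) := ⟨Nat.prime_two⟩
      apply orderOf_eq_prime
      · ext y
        simp only [pow_two, Equiv.Perm.coe_mul, Function.comp_apply, Function.Involutive.coe_toPerm,
          Equiv.Perm.coe_one, id_eq]
        exact lineMap_invol hPL x y
      · obtain ⟨l, hl, hxl⟩ := hnd x
        obtain ⟨a, b, c, rfl, hT⟩ := exists_T_of_line h3 hl
        have key : ∃ y z, T L x y z := by
          simp only [Set.mem_insert_iff, Set.mem_singleton_iff] at hxl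
          rcases hxl with r | r | r
          · exact ⟨b, c, by rw [r]; exact hT⟩
          · exact ⟨a, c, by rw [r]; exact hT.symm12⟩
          · exact ⟨a, b, by rw [r]; exact hT.rot'⟩
        obtain ⟨y, z, hyz⟩ := key
        intro e
        have := congrArg (fun s : Equiv.Perm X => s y) e
        simp only [Function.Involutive.coe_toPerm, Equiv.Perm.coe_one, id_eq] at this
        rw [lineMap_of_T hPL hyz] at this
        exact hyz.2.1 this
    · intro l
      constructor
      · intro hl
        exact image_line hL x hl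
      · intro hl
        have h2 := image_line hL x hl
        have : lineMap L x '' (⇑(lineMap_invol hPL x).toPerm '' l) = l := by
          rw [Function.Involutive.coe_toPerm, Set.image_image]
          simp only [lineMap_invol hPL x _, Set.image_id']
        rwa [this] at h2
  refine ⟨part1, ?_, ?_⟩
  · rintro σ ⟨x, hx⟩
    obtain ⟨σ', h1, h2, -⟩ := part1 x
    have : σ = σ' := by
      apply DFunLike.coe_injective
      rw [hx, h1]
    rw [this]; exact h2
  · rintro σ ⟨x, hx⟩ τ ⟨y, hy⟩
    by_cases hxy : x = y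
    · left
      subst hxy
      have : σ * τ = 1 := by
        ext z
        simp only [Equiv.Perm.coe_mul, Function.comp_apply, Equiv.Perm.coe_one, id_eq]
        rw [hx, hy]
        exact lineMap_invol hPL x z
      rw [this, one_pow]
    by_cases hc : ∃ w, T L x y w
    · right
      obtain ⟨w, hw⟩ := hc
      ext z
      simp only [pow_succ, pow_zero, one_mul, Equiv.Perm.coe_mul, Function.comp_apply,
        Equiv.Perm.coe_one, id_eq]
      rw [hx, hy]
      exact cube_of_collinear hL hw z
    · left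
      ext z
      simp only [pow_two, Equiv.Perm.coe_mul, Function.comp_apply, Equiv.Perm.coe_one, id_eq]
      rw [hx, hy]
      rw [← comm_of_noncollinear hL hxy hc (lineMap L y z), lineMap_invol hPL x, lineMap_invol hPL y]

end Cfsg.Agent.S5366
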