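import Cfsg.Statements.S5367
import Cfsg.Agent.Lib.Helper31.Fischer7
import Cfsg.Agent.Lib.Helper31.Fischer8

set_option autoImplicit false
open Cfsg

namespace Cfsg.Agent.S5367

open Cfsg.LineSystem Cfsg.Agent.Lib.Helper31.Fischer

/-- Let D be a conjugation-invariant generating set of 3-transpositions of a finite group G. Then the line system on D whose lines are the triples {x, y, y x y⁻¹} for non-commuting members x, y of D is a Fischer space: two points lie on at most one line, lines have three points, and two different meeting lines generate a subspace isomorphic to the dual affine plane of order two or to the affine plane of order three. -/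
theorem result {G : Type*} [Group G] [Finite G] {D : Set G} (hD : Cfsg.IsThreeTranspositionGroup D) : Cfsg.IsFischerSpace (Cfsg.threeTranspositionLines D) := by
  obtain ⟨hset, hconj, _⟩ := hD
  have hPL := TL_partialLinear hset hconj
  refine ⟨hPL, TL_three hconj, ?_⟩
  rintro l hl m hm hlm ⟨a, hal, ham⟩
  obtain ⟨b, b', rfl, hTb⟩ := exists_T_of_point (TL_three hconj) hl hal
  obtain ⟨c, c', rfl, hTc⟩ := exists_T_of_point (TL_three hconj) hm ham
  have key : ∀ x : D, x ∈ ({a, b, b'} : Set D) → x ∈ ({a, c, c'} : Set D) → x ≠ a → False :=
    fun x h1 h2 hx => hlm (hPL _ hl _ hm a x hx.symm hal h1 ham h2)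
  by_cases c1 : Commute (b : G) (c : G)
  · left
    exact s4_case hset hconj hTb hTc c1
      (fun e => key b (by simp) (by rw [e]; simp) hTb.2.2.1.symm)
  by_cases c2 : Commute (b : G) (c' : G)
  · left
    have := s4_case hset hconj hTb hTc.symm23 c2
      (fun e => key b (by simp) (by rw [e]; simp) hTb.2.2.1.symm)
    rwa [Set.pair_comm c' c] at this
  by_cases c3 : Commute (b' : G) (c : G)
  · left
    have := s4_case hset hconj hTb.symm23 hTc c3
      (fun e => key b' (by simp) (by rw [e]; simp) hTb.1)
    rwa [Set.pair_comm b' b] at this
  · right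
    exact ag_case hset hconj hTb hTc c1 c2 c3

end Cfsg.Agent.S5367
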