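import Cfsg.Statements.S5387
import Cfsg.Agent.Lib.Helper30.L34.Uniq

set_option autoImplicit false
open Cfsg

namespace Cfsg.Agent.S5387

/-- Up to isomorphism there is at most one quasisimple group whose centre is elementary abelian of order 4 and whose central quotient is isomorphic to the projective special linear group of dimension 3 over the field with four elements: any two such groups are isomorphic. -/
theorem result {L₁ L₂ : Type*} [Group L₁] [Finite L₁] [Group L₂] [Finite L₂] (F : Type) [Field F] [Fintype F] (hF : Fintype.card F = 4) (h₁ : Cfsg.IsQuasisimple L₁) (h₂ : Cfsg.IsQuasisimple L₂) (hc₁ : Nat.card (Subgroup.center L₁) = 4) (hc₂ : Nat.card (Subgroup.center L₂) = 4) (he₁ : ∀ x ∈ Subgroup.center L₁, x * x = 1) (he₂ : ∀ x ∈ Subgroup.center L₂, x * x = 1) (e₁ : L₁ ⧸ Subgroup.center L₁ ≃* Matrix.ProjectiveSpecialLinearGroup (Fin 3) F) (e₂ : L₂ ⧸ Subgroup.center L₂ ≃* Matrix.ProjectiveSpecialLinearGroup (Fin 3) F) : Nonempty (L₁ ≃*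 L₂) := by
  obtain ⟨ι⟩ := Cfsg.Agent.Lib.Helper30.L34.exists_mulEquiv_G0 hF
  have s1 := Cfsg.Agent.Lib.Helper30.L34.stem_of_quasisimple h₁ (e₁.trans ι)
  have s2 := Cfsg.Agent.Lib.Helper30.L34.stem_of_quasisimple h₂ (e₂.trans ι)
  refine Cfsg.Agent.Lib.Helper30.L34.stem_unique L₁ _ s1.1 ?_ ?_ L₂ _ s2.1 ?_ ?_
  · rw [s1.2]; exact hc₁
  · rw [s1.2]; exact he₁
  · rw [s2.2]; exact hc₂
  · rw [s2.2]; exact he₂

end Cfsg.Agent.S5387
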