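import Cfsg.Statements.S5392
import Cfsg.Agent.S1570
import Cfsg.Agent.S0398
import Cfsg.Agent.S0392
import Cfsg.Agent.Lib.Conway.Trans6
import Cfsg.Agent.Lib.Conway.Trans8

set_option autoImplicit false
open scoped Pointwise
open Cfsg

namespace Cfsg.Agent.S5392

open Cfsg.Agent.Lib.Conway Cfsg.Agent.Lib.Helper93.Leech Cfsg.Agent.Lib.Helper93.Golay
open Cfsg.Agent.Lib.Golay.LeechBasis Cfsg.Agent.Lib.Golay.LeechGram

/-! ### elementary identities -/

theorem sqNorm_double (x : Vec) : sqNorm (x + x) = 4 * sqNorm x := by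
  unfold sqNorm
  rw [Finset.mul_sum]
  apply Finset.sum_congr rfl
  intro i _
  simp only [Pi.add_apply]
  ring

theorem parallelogram (a b : Vec) :
    sqNorm (a - b) + sqNorm (a + b) = 2 * sqNorm a + 2 * sqNorm b := by
  unfold sqNorm
  rw [← Finset.sum_add_distrib, Finset.mul_sum, Finset.mul_sum, ← Finset.sum_add_distrib]
  apply Finset.sum_congr rfl
  intro i _
  simp only [Pi.sub_apply, Pi.add_apply]
  ring

theorem sqNorm_add' (x y : Vec) : sqNorm (x + y) = sqNorm x + 2 * dotInt x y + sqNorm y := by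
  unfold sqNorm dotInt
  rw [Finset.mul_sum, ← Finset.sum_add_distrib, ← Finset.sum_add_distrib]
  apply Finset.sum_congr rfl
  intro i _
  simp only [Pi.add_apply]
  ring

theorem co0_dot' (g : Co0) (x y : leechLattice) :
    dotInt ((g • x : leechLattice) : Vec) ((g • y : leechLattice) : Vec) = dotInt (x : Vec) (y : Vec) := by
  have h1 := sqNorm_add' ((g • x : leechLattice) : Vec) ((g • y : leechLattice) : Vec)
  have h2 := sqNorm_add' (x : Vec) (y : Vec)
  have h3 : ((g • x : leechLattice) : Vec) + ((g • y : leechLattice) : Vec) =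
      ((g • (x + y) : leechLattice) : Vec) := by
    rw [co0_add]; rfl
  have h4 : (x : Vec) + (y : Vec) = ((x + y : leechLattice) : Vec) := rfl
  rw [h3, co0_norm, co0_norm, co0_norm] at h1
  rw [h4] at h2
  omega

theorem dot_smul_smul (s t : ℤ) (x y : Vec) : dotInt (s • x) (t • y) = s * t * dotInt x y := by
  unfold dotInt
  rw [Finset.mul_sum]
  apply Finset.sum_congr rfl
  intro i _
  simp only [Pi.smul_apply, smul_eq_mul]
  ring

/-! ### the vectors `(4, ±4, 0^22)` -/

/-- `4 e_i + 4 e_j` -/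
def pv (i j : GolayPt) : Vec := Pi.single i 4 + Pi.single j 4

/-- `4 e_i - 4 e_j` -/
def mv (i j : GolayPt) : Vec := Pi.single i 4 - Pi.single j 4

set_option maxRecDepth 100000 in
theorem pv_cond : ∀ i j : GolayPt, i ≠ j → LeechCond (pv i j) 0 := by unfold pv; decide +kernel

set_option maxRecDepth 100000 in
theorem mv_cond : ∀ i j : GolayPt, i ≠ j → LeechCond (mv i j) 0 := by unfold mv; decide +kernel

set_option maxRecDepth 100000 in
theorem pv_norm : ∀ i j : GolayPt, i ≠ j → sqNorm (pv i j) = 32 := by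
  unfold sqNorm pv; decide +kernel

set_option maxRecDepth 100000 in
theorem mv_norm : ∀ i j : GolayPt, i ≠ j → sqNorm (mv i j) = 32 := by
  unfold sqNorm mv; decide +kernel

set_option maxRecDepth 100000 in
theorem pv_dot_vC : ∀ i j : GolayPt, i ≠ j → dotInt vC (pv i j) ≠ 0 := by
  unfold dotInt vC pv; decide +kernel

set_option maxRecDepth 100000 in
theorem mv_dot_pv : ∀ i j : GolayPt, i ≠ j →
    ∃ k : GolayPt, i ≠ k ∧ dotInt (mv i j) (pv i k) ≠ 0 := by
  unfold dotInt mv pv; decide +kernel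

theorem pv_add_mv (i j : GolayPt) : pv i j + mv i j = Pi.single i 8 := by
  unfold pv mv
  rw [add_add_sub_cancel, ← Pi.single_add]
  norm_num

/-- `4 e_i + 4 e_j` in the lattice -/
def PV (i j : GolayPt) (h : i ≠ j) : leechLattice := ⟨pv i j, mem_of_leechCond (pv_cond i j h)⟩

/-- `4 e_i - 4 e_j` in the lattice -/
def MV (i j : GolayPt) (h : i ≠ j) : leechLattice := ⟨mv i j, mem_of_leechCond (mv_cond i j h)⟩

set_option maxRecDepth 100000 in
theorem LC_norm : sqNorm (LC : Vec) = 32 := by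
  show sqNorm vC = 32
  unfold sqNorm
  decide +kernel

/-! ### faithfulness -/

section faithful

variable (g : Co0) (hg : ∀ v : leechLattice, ∃ w : leechLattice,
  ((g • v : leechLattice) : Vec) - (v : Vec) = 2 • (w : Vec))

include hg in
theorem pm_of_cong (v : leechLattice) (hv : sqNorm (v : Vec) = 32) :
    ∃ s : ℤ, (s = 1 ∨ s = -1) ∧ g • v = s • v := by
  obtain ⟨w, hw⟩ := hg v
  rw [two_nsmul] at hw
  have hgn := co0_norm g v
  have hgv : ((g • v : leechLattice) : Vec) = (v : Vec) + ((w : Vec) + (w : Vec)) := by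
    rw [← hw]; abel
  by_cases h0 : (w : Vec) = 0
  · refine ⟨1, Or.inl rfl, ?_⟩
    apply Subtype.ext
    rw [one_smul, hgv, h0]
    simp
  · by_cases h1 : (w : Vec) + (v : Vec) = 0
    · refine ⟨-1, Or.inr rfl, ?_⟩
      apply Subtype.ext
      rw [neg_one_zsmul, hgv]
      have : (w : Vec) = -(v : Vec) := eq_neg_of_add_eq_zero_left h1
      rw [this]
      show (v : Vec) + (-(v : Vec) + -(v : Vec)) = -(v : Vec)
      abel
    · exfalso
      have n1 := sqNorm_ge_of_mem_leechLattice w.2 h0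
      have n2 := sqNorm_ge_of_mem_leechLattice (add_mem w.2 v.2) h1
      have hp := parallelogram ((g • v : leechLattice) : Vec) (v : Vec)
      have e2 : ((g • v : leechLattice) : Vec) + (v : Vec) =
          ((w : Vec) + (v : Vec)) + ((w : Vec) + (v : Vec)) := by
        rw [hgv]; abel
      rw [hw, e2, sqNorm_double, sqNorm_double, hgn, hv] at hp
      omega

theorem sign_eq (v w : leechLattice) (s t : ℤ) (hs : s = 1 ∨ s = -1) (ht : t = 1 ∨ t = -1)
    (hv : g • v = s • v) (hw : g • w = t • w) (hd : dotInt (v : Vec) (w : Vec) ≠ 0) : s = t := by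
  have h := co0_dot' g v w
  rw [hv, hw] at h
  have e : dotInt ((s • v : leechLattice) : Vec) ((t • w : leechLattice) : Vec) =
      s * t * dotInt (v : Vec) (w : Vec) := dot_smul_smul s t _ _
  rw [e] at h
  rcases hs with rfl | rfl <;> rcases ht with rfl | rfl
  · rfl
  · exfalso; norm_num at h; omega
  · exfalso; norm_num at h; omega
  · rfl

include hg in
theorem scalar_of_cong : ∃ s : ℤ, (s = 1 ∨ s = -1) ∧ ∀ v : leechLattice, g • v = s • v := by
  obtain ⟨s, hs, hLC⟩ := pm_of_cong g hg LC LC_norm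
  have hP : ∀ i j (h : i ≠ j), g • PV i j h = s • PV i j h := by
    intro i j h
    obtain ⟨t, ht, hPt⟩ := pm_of_cong g hg (PV i j h) (pv_norm i j h)
    have := sign_eq g LC (PV i j h) s t hs ht hLC hPt (pv_dot_vC i j h)
    rw [this]; exact hPt
  have hM : ∀ i j (h : i ≠ j), g • MV i j h = s • MV i j h := by
    intro i j h
    obtain ⟨k, hki, hd⟩ := mv_dot_pv i j h
    obtain ⟨t, ht, hMt⟩ := pm_of_cong g hg (MV i j h) (mv_norm i j h)
    have := sign_eq g (MV i j h) (PV i k hki) t s ht hs hMt (hP i k hki) hd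
    rw [← this]; exact hMt
  have hfr : ∀ i, g • fr i = s • fr i := by
    intro i
    obtain ⟨j, hj⟩ : ∃ j : GolayPt, i ≠ j := by
      by_cases h : i = none
      · exact ⟨some 0, by rw [h]; simp⟩
      · exact ⟨none, h⟩
    have e : fr i = PV i j hj + MV i j hj := Subtype.ext (pv_add_mv i j).symm
    rw [e, co0_add, hP, hM, smul_add]
  refine ⟨s, hs, fun v => ?_⟩
  have h8 : (8 : ℤ) • (g • v) = (8 : ℤ) • (s • v) := by
    rw [← co0_zsmul, eight_smul_eq v, co0_sum, smul_comm, eight_smul_eq v, Finset.smul_sum]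
    apply Finset.sum_congr rfl
    intro i _
    rw [co0_zsmul, hfr i, smul_comm]
  apply Subtype.ext
  funext j
  have := congrArg (fun w : leechLattice => (w : Vec) j) h8
  simp only [AddSubgroup.coe_zsmul, Pi.smul_apply, smul_eq_mul] at this ⊢
  omega

include hg in
theorem mem_center_of_cong : g ∈ Subgroup.center Co0 := by
  obtain ⟨s, hs, hall⟩ := scalar_of_cong g hg
  rcases hs with rfl | rfl
  · have : g = 1 := co0_ext (fun v => by rw [hall v, one_smul, co0_one_smul])
    rw [this]; exact Subgroup.one_mem _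
  · have : g = negCo0 := co0_ext (fun v => by rw [hall v, negCo0_smul, neg_one_zsmul])
    rw [this]; exact Cfsg.Agent.S0398.negCo0_mem_center

end faithful

/-! ### irreducibility -/

/-- `(1, 5, 1^22)`-like vector: `5` at the point `some 0` -/
def v5' : Vec := fun p => if p = some 0 then 5 else 1

set_option maxRecDepth 100000 in
theorem v5'_cond : LeechCond v5' 1 := by decide +kernel

set_option maxRecDepth 100000 in
theorem v5_facts : sqNorm v5 = 48 ∧ sqNorm v5' = 48 ∧ ∀ p, v5 p - v5' p = mv none (some 0) p := by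
  unfold sqNorm v5 v5' mv; decide +kernel

def x41 : Vec := vecOfList [4, 4, 4, 4, 0, 0, 0, 0, 0, 0, 0, 0, 0, 0, 0, 0, 0, 0, 0, 0, 0, 0, 0, 0]
def x42 : Vec := vecOfList [4, 4, 4, 0, 4, 0, 0, 0, 0, 0, 0, 0, 0, 0, 0, 0, 0, 0, 0, 0, 0, 0, 0, 0]

set_option maxRecDepth 100000 in
theorem x41_cond : LeechCond x41 0 := by decide +kernel
set_option maxRecDepth 100000 in
theorem x42_cond : LeechCond x42 0 := by decide +kernel

set_option maxRecDepth 100000 in
theorem x4_facts : sqNorm x41 = 64 ∧ sqNorm x42 = 64 ∧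
    ∀ p, x41 p - x42 p = mv (ptOf 3) (ptOf 4) p := by
  unfold sqNorm x41 x42 mv vecOfList; decide +kernel

/-- `(-3, 1^23)` with `-3` at the point of index `0` -/
def t3 : Vec := vecOfList [-3, 1, 1, 1, 1, 1, 1, 1, 1, 1, 1, 1, 1, 1, 1, 1, 1, 1, 1, 1, 1, 1, 1, 1]

set_option maxRecDepth 100000 in
theorem t3_cond : LeechCond t3 1 := by decide +kernel

set_option maxRecDepth 100000 in
theorem bvec_facts : (∀ j : Fin 24, sqNorm (bvec j) = 32 ∨ j = 0 ∨ j = 23) ∧ sqNorm t3 = 32 ∧
    (∀ p, bvec 0 p = pv (ptOf 0) (ptOf 1) p + mv (ptOf 0) (ptOf 1) p) ∧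
    (∀ p, bvec 23 p = t3 p + bvec 0 p) := by
  unfold sqNorm t3 pv mv vecOfList; decide +kernel

theorem irreducible (M : AddSubgroup Vec) (h2 : ∀ v ∈ leechLattice, (2 : ℤ) • v ∈ M)
    (hM : M ≤ leechLattice)
    (hinv : ∀ g : Co0, ∀ v : leechLattice, (v : Vec) ∈ M → ((g • v : leechLattice) : Vec) ∈ M) :
    (∀ x ∈ M, ∃ w ∈ leechLattice, x = (2 : ℤ) • w) ∨ M = leechLattice := by
  by_cases hcase : ∀ x ∈ M, ∃ w ∈ leechLattice, x = (2 : ℤ) • w
  · left; exact hcase
  right
  push Not at hcase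
  obtain ⟨x, hxM, hx⟩ := hcase
  obtain ⟨y, hyL, hyn, z, hzL, hxy⟩ := Cfsg.Agent.S1570.result x (hM hxM)
  have hzz : (2 : ℕ) • z = (2 : ℤ) • z := by rw [two_nsmul, two_zsmul]
  rw [hzz] at hxy
  have hyM : y ∈ M := by
    have : y = x - (2 : ℤ) • z := by rw [← hxy]; abel
    rw [this]; exact M.sub_mem hxM (h2 z hzL)
  have hy0 : y ≠ 0 := by
    intro h
    apply hx z hzL
    rw [h, sub_zero] at hxy
    exact hxy
  -- one vector of sum of squares 32 in `M` gives all of them
  have key32 : (∃ t : leechLattice, sqNorm (t : Vec) = 32 ∧ (t : Vec) ∈ M) →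
      ∀ w : leechLattice, sqNorm (w : Vec) = 32 → (w : Vec) ∈ M := by
    rintro ⟨t, ht, htM⟩ w hw
    obtain ⟨g, hg⟩ := trans4 t w ht hw
    rw [← hg]; exact hinv g t htM
  have hex : ∃ t : leechLattice, sqNorm (t : Vec) = 32 ∧ (t : Vec) ∈ M := by
    have h16 := Cfsg.Agent.S0392.result y hyL
    have h32 := sqNorm_ge_of_mem_leechLattice hyL hy0
    obtain ⟨k, hk⟩ := h16
    have hk' : k = 2 ∨ k = 3 ∨ k = 4 := by omega
    rcases hk' with rfl | rfl | rfl
    · exact ⟨⟨y, hyL⟩, by rw [hk]; norm_num, hyM⟩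
    · -- sum of squares 48
      have h48 : sqNorm y = 48 := by rw [hk]; norm_num
      have hall : ∀ w : leechLattice, sqNorm (w : Vec) = 48 → (w : Vec) ∈ M := by
        intro w hw
        obtain ⟨g, hg⟩ := trans6 ⟨y, hyL⟩ w h48 hw
        rw [← hg]; exact hinv g ⟨y, hyL⟩ hyM
      have h1 := hall L5 v5_facts.1
      have h2' := hall ⟨v5', mem_of_leechCond v5'_cond⟩ v5_facts.2.1
      have hne : (none : GolayPt) ≠ some 0 := by simp
      refine ⟨MV none (some 0) hne, mv_norm _ _ hne, ?_⟩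
      have e : ((MV none (some 0) hne : leechLattice) : Vec) = v5 - v5' := by
        funext p; exact (v5_facts.2.2 p).symm
      rw [e]; exact M.sub_mem h1 h2'
    · -- sum of squares 64
      have h64 : sqNorm y = 64 := by rw [hk]; norm_num
      have hall : ∀ w : leechLattice, sqNorm (w : Vec) = 64 → (w : Vec) ∈ M := by
        intro w hw
        obtain ⟨g, hg⟩ := trans8 ⟨y, hyL⟩ w h64 hw
        rw [← hg]; exact hinv g ⟨y, hyL⟩ hyM
      have h1 := hall ⟨x41, mem_of_leechCond x41_cond⟩ x4_facts.1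
      have h2' := hall ⟨x42, mem_of_leechCond x42_cond⟩ x4_facts.2.1
      have hne : ptOf 3 ≠ ptOf 4 := by decide
      refine ⟨MV (ptOf 3) (ptOf 4) hne, mv_norm _ _ hne, ?_⟩
      have e : ((MV (ptOf 3) (ptOf 4) hne : leechLattice) : Vec) = x41 - x42 := by
        funext p; exact (x4_facts.2.2 p).symm
      rw [e]; exact M.sub_mem h1 h2'
  have key := key32 hex
  -- the basis vectors belong to `M`
  have hne01 : ptOf 0 ≠ ptOf 1 := by decide
  have hb0 : bvec 0 ∈ M := by
    have e : bvec 0 = pv (ptOf 0) (ptOf 1) + mv (ptOf 0) (ptOf 1) := by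
      funext p; exact bvec_facts.2.2.1 p
    rw [e]
    exact M.add_mem (key (PV _ _ hne01) (pv_norm _ _ hne01)) (key (MV _ _ hne01) (mv_norm _ _ hne01))
  have hb : ∀ j : Fin 24, bvec j ∈ M := by
    intro j
    rcases bvec_facts.1 j with h | rfl | rfl
    · exact key ⟨bvec j, bvec_mem j⟩ h
    · exact hb0
    · have e : bvec 23 = t3 + bvec 0 := by
        funext p; exact bvec_facts.2.2.2 p
      rw [e]
      exact M.add_mem (key ⟨t3, mem_of_leechCond t3_cond⟩ bvec_facts.2.1) hb0
  apply le_antisymm hM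
  intro u hu
  obtain ⟨c, rfl⟩ := exists_Tf hu
  exact sum_mem fun j _ => zsmul_mem (hb j) _

/-- The Leech lattice modulo twice itself is a faithful irreducible module for the first Conway group: an automorphism of the rank-24 lattice built from the length-24 code that moves every lattice vector only by twice a lattice vector lies in the centre of the automorphism group (the centre consists of ±1, which act trivially there, so the kernel is exactly the centre), and an additive subgroup lying between twice the lattice and the lattice that is invariant under all lattice automorphisms is one of the two. -/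
theorem result : (∀ g : ↥Cfsg.Co0, (∀ v : ↥Cfsg.leechLattice, ∃ w : ↥Cfsg.leechLattice, ((g • v : ↥Cfsg.leechLattice) : Cfsg.GolayPt → ℤ) - (v : Cfsg.GolayPt → ℤ) = 2 • (w : Cfsg.GolayPt → ℤ)) → g ∈ Subgroup.center ↥Cfsg.Co0) ∧ ∀ M : AddSubgroup (Cfsg.GolayPt → ℤ), (∀ v ∈ Cfsg.leechLattice, (2 : ℤ) • v ∈ M) → M ≤ Cfsg.leechLattice → (∀ g : ↥Cfsg.Co0, ∀ v : ↥Cfsg.leechLattice, (v : Cfsg.GolayPt → ℤ) ∈ M → ((g • v : ↥Cfsg.leechLattice) : Cfsg.GolayPt → ℤ) ∈ M) → (∀ x ∈ M, ∃ w ∈ Cfsg.leechLattice, x = (2 : ℤ) • w) ∨ M = Cfsg.leechLattice :=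
  ⟨fun g hg => mem_center_of_cong g hg, fun M h2 hM hinv => irreducible M h2 hM hinv⟩

end Cfsg.Agent.S5392
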