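import Cfsg.Statements.S5548
import Cfsg.Agent.Lib.Helper26.Trans5
import Cfsg.Agent.Lib.Helper26.OctadMeet
import Cfsg.Agent.Lib.Helper92.Cover
import Cfsg.Agent.Lib.Golay.M24

set_option autoImplicit false
open Cfsg

namespace Cfsg.Agent.S5548

open Cfsg.Agent.Lib Cfsg.Agent.Lib.Helper26
open scoped Pointwise

/-- indicator word of a set of points. -/
def ind (S : Finset GolayPt) : GolayPt → ZMod 2 := fun p => if p ∈ S then 1 else 0

theorem support₂_ind (S : Finset GolayPt) : support₂ (ind S) = S := by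
  ext p
  rw [mem_support₂']
  by_cases h : p ∈ S <;> simp [ind, h]

theorem ind_support₂ (w : GolayPt → ZMod 2) : ind (support₂ w) = w :=
  support₂_inj (support₂_ind _)

theorem ind_symmDiff (S T : Finset GolayPt) : ind (symmDiff S T) = ind S + ind T :=
  support₂_inj (by rw [support₂_ind, Helper26.support₂_add, support₂_ind, support₂_ind])

theorem ind_smul (σ : Equiv.Perm GolayPt) (S : Finset GolayPt) :
    ind (σ • S) = fun p => ind S (σ.symm p) :=
  support₂_inj (by
    show support₂ (ind (σ • S)) = support₂ (ind S ∘ σ.symm)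
    rw [support₂_ind, support₂_comp_symm', support₂_ind])

theorem ind_dec (m : ℕ) : ind (dec m) = Golay.ofMask m :=
  support₂_inj (by rw [support₂_ind, Helper26.support₂_ofMask])

theorem ind_empty : ind ∅ = 0 := by
  funext p; simp [ind]

theorem ind_univ : ind Finset.univ = 1 := by
  funext p; simp [ind]

theorem sum_ind (S : Finset GolayPt) : ∑ p, ind S p = (S.card : ZMod 2) := by
  simp [ind, Finset.sum_ite_mem]

/-! ### transitivity on short lists -/

theorem trans_lists_aux {base : List ℕ} (hT : IsTransOn base) (as bs : List GolayPt)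
    (ha : as.length = base.length) (hb : bs.length = base.length) (han : as.Nodup)
    (hbn : bs.Nodup) : ∃ g ∈ M24, as.map g = bs := by
  obtain ⟨g1, hg1, e1⟩ := hT as ha han
  obtain ⟨g2, hg2, e2⟩ := hT bs hb hbn
  refine ⟨g2 * g1⁻¹, M24.mul_mem hg2 (M24.inv_mem hg1), ?_⟩
  rw [e1, e2, List.map_map]
  apply List.map_congr_left
  intro j _
  simp

theorem trans_lists (as bs : List GolayPt) (hlen : as.length = bs.length) (h5 : as.length ≤ 5)
    (han : as.Nodup) (hbn : bs.Nodup) : ∃ g ∈ M24, as.map g = bs := by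
  have h : as.length = 0 ∨ as.length = 1 ∨ as.length = 2 ∨ as.length = 3 ∨ as.length = 4 ∨
      as.length = 5 := by omega
  rcases h with h | h | h | h | h | h
  · exact trans_lists_aux isTransOn_nil as bs h (hlen ▸ h) han hbn
  · exact trans_lists_aux isTransOn1 as bs h (hlen ▸ h) han hbn
  · exact trans_lists_aux isTransOn2 as bs h (hlen ▸ h) han hbn
  · exact trans_lists_aux isTransOn3 as bs h (hlen ▸ h) han hbn
  · exact trans_lists_aux isTransOn4 as bs h (hlen ▸ h) han hbn
  · exact trans_lists_aux isTransOn5 as bs h (hlen ▸ h) han hbn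

theorem trans_pair {a b a' b' : GolayPt} (hab : a ≠ b) (hab' : a' ≠ b') :
    ∃ g ∈ M24, g a = a' ∧ g b = b' := by
  obtain ⟨g, hg, h⟩ := trans_lists [a, b] [a', b'] rfl (by simp) (by simp [hab]) (by simp [hab'])
  simp only [List.map_cons, List.map_nil, List.cons.injEq, and_true] at h
  exact ⟨g, hg, h⟩


/-! ### invariant subspaces -/

/-- invariance of a subspace under `M24`. -/
def Inv (W : Submodule (ZMod 2) (GolayPt → ZMod 2)) : Prop :=
  ∀ σ ∈ M24, ∀ w ∈ W, (fun p => w (σ.symm p)) ∈ W

variable {W : Submodule (ZMod 2) (GolayPt → ZMod 2)}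

theorem Inv.smul (hW : Inv W) {σ : Equiv.Perm GolayPt} (hσ : σ ∈ M24) {S : Finset GolayPt}
    (hS : ind S ∈ W) : ind (σ • S) ∈ W := by
  rw [ind_smul]
  exact hW σ hσ _ hS

theorem mem_symmDiff {S T : Finset GolayPt} (hS : ind S ∈ W) (hT : ind T ∈ W) :
    ind (symmDiff S T) ∈ W := by
  rw [ind_symmDiff]
  exact W.add_mem hS hT

theorem mem_iff_support (w : GolayPt → ZMod 2) : w ∈ W ↔ ind (support₂ w) ∈ W := by
  rw [ind_support₂]

/-- all even-weight words lie in `W` as soon as all pairs do. -/
theorem even_of_pairs (hp : ∀ a b : GolayPt, a ≠ b → ind {a, b} ∈ W) :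
    ∀ n : ℕ, ∀ S : Finset GolayPt, S.card = n → Even n → ind S ∈ W := by
  intro n
  induction n using Nat.strong_induction_on with
  | _ n ih =>
    intro S hS hn
    by_cases h0 : n = 0
    · subst h0
      rw [Finset.card_eq_zero] at hS
      rw [hS, ind_empty]
      exact W.zero_mem
    · have h2 : 2 ≤ n := by
        rcases hn with ⟨k, rfl⟩
        omega
      have hne : S.Nonempty := by
        rw [← Finset.card_pos]; omega
      obtain ⟨a, ha⟩ := hne
      have hne2 : (S.erase a).Nonempty := by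
        rw [← Finset.card_pos, Finset.card_erase_of_mem ha]; omega
      obtain ⟨b, hb⟩ := hne2
      have hba : b ≠ a := Finset.ne_of_mem_erase hb
      have hbS : b ∈ S := Finset.mem_of_mem_erase hb
      set S' := (S.erase a).erase b with hS'
      have hcard : S'.card = n - 2 := by
        rw [hS', Finset.card_erase_of_mem hb, Finset.card_erase_of_mem ha, hS]
        omega
      have hev : Even (n - 2) := by
        rcases hn with ⟨k, rfl⟩
        exact ⟨k - 1, by omega⟩
      have h1 := ih (n - 2) (by omega) S' hcard hev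
      have h2' := hp a b (Ne.symm hba)
      have hS_eq : S = symmDiff S' {a, b} := by
        ext p
        simp only [hS', Finset.mem_symmDiff, Finset.mem_erase, Finset.mem_insert,
          Finset.mem_singleton]
        constructor
        · intro hpS
          by_cases hpa : p = a
          · right; exact ⟨Or.inl hpa, fun h => h.2.1 hpa⟩
          · by_cases hpb : p = b
            · right; exact ⟨Or.inr hpb, fun h => h.1 hpb⟩
            · left; exact ⟨⟨hpb, hpa, hpS⟩, fun h => h.elim hpa hpb⟩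
        · rintro (⟨⟨_, _, h⟩, _⟩ | ⟨h | h, _⟩)
          · exact h
          · rw [h]; exact ha
          · rw [h]; exact hbS
      rw [hS_eq]
      exact mem_symmDiff h1 h2'

theorem E_le_of_pairs (hp : ∀ a b : GolayPt, a ≠ b → ind {a, b} ∈ W) (w : GolayPt → ZMod 2)
    (hw : ∑ p, w p = 0) : w ∈ W := by
  rw [mem_iff_support]
  apply even_of_pairs hp _ _ rfl
  rw [← ind_support₂ w, sum_ind] at hw
  exact (ZMod.natCast_eq_zero_iff_even).mp hw

theorem smul_compl' (g : Equiv.Perm GolayPt) (T : Finset GolayPt) : g • Tᶜ = (g • T)ᶜ := by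
  ext p
  rw [Finset.mem_compl, ← Finset.inv_smul_mem_iff, ← Finset.inv_smul_mem_iff, Finset.mem_compl]

/-- a word which is, up to complement, of weight between 1 and 4 generates all even words. -/
theorem E_le_of_small (hW : Inv W) (S T : Finset GolayPt) (hS : ind S ∈ W) (hT1 : T.Nonempty)
    (hT4 : T.card ≤ 4) (hST : S = T ∨ S = Tᶜ) (w : GolayPt → ZMod 2) (hw : ∑ p, w p = 0) :
    w ∈ W := by
  classical
  obtain ⟨t0, ht0⟩ := hT1
  obtain ⟨b', hb'⟩ : ∃ b', b' ∉ T := by
    by_contra hcon
    push Not at hcon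
    have : T = Finset.univ := Finset.eq_univ_iff_forall.mpr hcon
    rw [this, Finset.card_univ] at hT4
    have : Fintype.card GolayPt = 24 := rfl
    omega
  set L := (T.erase t0).toList with hL
  have hLmem : ∀ x, x ∈ L ↔ x ≠ t0 ∧ x ∈ T := by
    intro x; rw [hL, Finset.mem_toList, Finset.mem_erase]
  have hLlen : L.length = T.card - 1 := by
    rw [hL, Finset.length_toList, Finset.card_erase_of_mem ht0]
  have hLnd : L.Nodup := Finset.nodup_toList _
  obtain ⟨g, hg, hmap⟩ := trans_lists (t0 :: L) (b' :: L) (by simp) (by simp; omega)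
    (List.nodup_cons.mpr ⟨fun h => ((hLmem t0).mp h).1 rfl, hLnd⟩)
    (List.nodup_cons.mpr ⟨fun h => hb' ((hLmem b').mp h).2, hLnd⟩)
  simp only [List.map_cons, List.cons.injEq] at hmap
  obtain ⟨hgt0, hgL⟩ := hmap
  have hfix : ∀ x ∈ L, g x = x := by
    have := List.map_inj_left.mp (hgL.trans (List.map_id L).symm)
    intro x hx
    simpa using this x hx
  -- the image of `T`
  have hgT : ∀ p, p ∈ g • T ↔ p = b' ∨ (p ≠ t0 ∧ p ∈ T) := by
    intro p
    rw [Finset.mem_smul_finset]
    constructor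
    · rintro ⟨q, hq, rfl⟩
      by_cases hqt : q = t0
      · left; rw [hqt]; exact hgt0
      · right
        have := hfix q ((hLmem q).mpr ⟨hqt, hq⟩)
        rw [Equiv.Perm.smul_def, this]
        exact ⟨hqt, hq⟩
    · rintro (rfl | ⟨hpt, hpT⟩)
      · exact ⟨t0, ht0, hgt0⟩
      · exact ⟨p, hpT, hfix p ((hLmem p).mpr ⟨hpt, hpT⟩)⟩
  have hsd : symmDiff T (g • T) = {t0, b'} := by
    ext p
    rw [Finset.mem_symmDiff, hgT, Finset.mem_insert, Finset.mem_singleton]
    constructor
    · rintro (⟨h1, h2⟩ | ⟨h1 | h1, h2⟩)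
      · left
        by_contra hne
        exact h2 (Or.inr ⟨hne, h1⟩)
      · right; exact h1
      · exact absurd h1.2 h2
    · rintro (rfl | rfl)
      · left
        refine ⟨ht0, ?_⟩
        rintro (h | h)
        · exact hb' (h ▸ ht0)
        · exact h.1 rfl
      · right
        exact ⟨Or.inl rfl, hb'⟩
  have hsd' : symmDiff S (g • S) = {t0, b'} := by
    rcases hST with rfl | rfl
    · exact hsd
    · rw [smul_compl', compl_symmDiff_compl, hsd]
  have hpair0 : ind {t0, b'} ∈ W := by
    rw [← hsd']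
    exact mem_symmDiff hS (hW.smul hg hS)
  have hne0 : t0 ≠ b' := fun h => hb' (h ▸ ht0)
  apply E_le_of_pairs _ w hw
  intro a b hab
  obtain ⟨h, hh, ha, hb⟩ := trans_pair hne0 hab
  have := hW.smul hh hpair0
  have himg : h • ({t0, b'} : Finset GolayPt) = {a, b} := by
    rw [Finset.smul_finset_insert, Finset.smul_finset_singleton, Equiv.Perm.smul_def,
      Equiv.Perm.smul_def, ha, hb]
  rwa [himg] at this


/-! ### generation of the code by one non-trivial code word -/

theorem basis_octads : Golay.basisMasks.all (fun b => octL.contains b) = true := by decide +kernel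

theorem mem_golayCode_of_supports {S : Finset GolayPt}
    (hS : S ∈ supports (golayCode : Set (GolayPt → ZMod 2))) : ind S ∈ golayCode := by
  obtain ⟨v, hv, rfl⟩ := hS
  rw [ind_support₂]
  exact hv

theorem supports_of_mem {v : GolayPt → ZMod 2} (hv : v ∈ golayCode) :
    support₂ v ∈ supports (golayCode : Set (GolayPt → ZMod 2)) := ⟨v, hv, rfl⟩

/-- an octad in `W` generates the code. -/
theorem code_le_of_octad (hW : Inv W) {O : Finset GolayPt} (hO : O ∈ octads) (hOW : ind O ∈ W) :
    golayCode ≤ W := by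
  apply Golay.golayCode_le_of_basis
  intro b hb
  have hbL : b ∈ octL := by
    have := List.all_eq_true.mp basis_octads b hb
    simpa using this
  have hbO : dec b ∈ octads := (Helper26.mem_octads_iff _).mpr ⟨b, hbL, rfl⟩
  obtain ⟨g1, hg1, e1⟩ := octads_transitive O hO
  obtain ⟨g2, hg2, e2⟩ := octads_transitive (dec b) hbO
  have : dec b = (g2 * g1⁻¹) • O := by
    rw [← e1, mul_smul, inv_smul_smul, e2]
  rw [← ind_dec, this]
  exact hW.smul (M24.mul_mem hg2 (M24.inv_mem hg1)) hOW

/-- from a word `g • dec m0` of `W` in the code and an element moving `m0` to a word at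
distance eight, an octad of `W`. -/
theorem octad_of_step (hW : Inv W) (m0 : ℕ) (d : PermData) (hd : d.inM24 = true)
    (hpc : pc 24 (m0 ^^^ d.applyMask m0) = 8) {g : Equiv.Perm GolayPt} (hg : g ∈ M24)
    {S : Finset GolayPt} (hS : S = g • dec m0) (hSW : ind S ∈ W)
    (hSC : S ∈ supports (golayCode : Set (GolayPt → ZMod 2))) :
    ∃ O ∈ octads, ind O ∈ W := by
  have hok := PermData.ok_of_inM24 hd
  have hdM := PermData.toPerm_mem_M24 hd
  set σ := g * d.toPerm * g⁻¹ with hσ
  have hσM : σ ∈ M24 := M24.mul_mem (M24.mul_mem hg hdM) (M24.inv_mem hg)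
  have hσS : σ • S = g • dec (d.applyMask m0) := by
    rw [hS, hσ, mul_smul, mul_smul, inv_smul_smul, PermData.smul_dec hok]
  have hsd : symmDiff S (σ • S) = g • dec (m0 ^^^ d.applyMask m0) := by
    rw [hσS, hS, dec_xor, Finset.smul_finset_symmDiff]
  refine ⟨symmDiff S (σ • S), ⟨?_, ?_⟩, mem_symmDiff hSW (hW.smul hσM hSW)⟩
  · exact supports_symmDiff hSC ((smul_mem_supports_iff hσM S).mpr hSC)
  · rw [hsd, Finset.card_smul_finset, card_dec, hpc]

def hDod : PermData := ⟨[17, 6, 13, 22, 11, 1, 18, 7, 16, 23, 8, 10, 3, 5, 14, 9, 12, 0, 20, 2, 19, 15, 4, 21],  [17, 5, 19, 12, 22, 13, 1, 7, 10, 15, 11, 4, 16, 2, 14, 21, 8, 0, 6, 20, 18, 23, 3, 9]⟩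
def hCo : PermData := ⟨[14, 12, 8, 5, 22, 2, 15, 9, 11, 13, 10, 20, 16, 6, 7, 18, 17, 1, 0, 3, 23, 21, 4, 19],  [18, 17, 5, 19, 22, 3, 13, 14, 2, 7, 10, 8, 1, 9, 0, 6, 12, 16, 15, 23, 11, 21, 4, 20]⟩

theorem hDod_ok : hDod.inM24 = true ∧ pc 24 (dod0 ^^^ hDod.applyMask dod0) = 8 := by
  decide +kernel

theorem hCo_ok : hCo.inM24 = true ∧
    pc 24 ((oct0 ^^^ 16777215) ^^^ hCo.applyMask (oct0 ^^^ 16777215)) = 8 := by
  decide +kernel

theorem symmDiff_univ' (A : Finset GolayPt) : symmDiff A Finset.univ = Aᶜ := by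
  ext p; simp [Finset.mem_symmDiff]

theorem dec_allOnes : dec 16777215 = Finset.univ := by
  rw [← Helper26.support₂_ofMask, Golay.ofMask_allOnes, support₂_one]

/-- **the code is generated by any of its words other than `0` and `1`**. -/
theorem code_le (hW : Inv W) {S : Finset GolayPt} (hSW : ind S ∈ W)
    (hSC : S ∈ supports (golayCode : Set (GolayPt → ZMod 2))) (h0 : S ≠ ∅)
    (h1 : S ≠ Finset.univ) : golayCode ≤ W := by
  have hcard : S.card = 0 ∨ S.card = 8 ∨ S.card = 12 ∨ S.card = 16 ∨ S.card = 24 := by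
    obtain ⟨v, hv, rfl⟩ := hSC
    exact Golay.hammingNorm_of_mem hv
  rcases hcard with h | h | h | h | h
  · exact absurd (Finset.card_eq_zero.mp h) h0
  · exact code_le_of_octad hW ⟨hSC, h⟩ hSW
  · obtain ⟨g, hg, hgS⟩ := dodecads_transitive S ⟨hSC, h⟩
    obtain ⟨O, hO, hOW⟩ := octad_of_step hW dod0 hDod hDod_ok.1 hDod_ok.2 hg hgS.symm hSW hSC
    exact code_le_of_octad hW hO hOW
  · have hco : Sᶜ ∈ octads := by
      refine ⟨supports_compl hSC, ?_⟩
      rw [Finset.card_compl, h]
      rfl
    obtain ⟨g, hg, hgS⟩ := octads_transitive Sᶜ hco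
    have hS' : S = g • dec (oct0 ^^^ 16777215) := by
      rw [dec_xor, dec_allOnes, symmDiff_univ', smul_compl', hgS, compl_compl]
    obtain ⟨O, hO, hOW⟩ := octad_of_step hW _ hCo hCo_ok.1 hCo_ok.2 hg hS' hSW hSC
    exact code_le_of_octad hW hO hOW
  · exfalso
    apply h1
    rw [← Finset.card_eq_iff_eq_univ, h]
    rfl


/-! ### words outside the code -/

def stabGens : List PermData := [⟨[0, 1, 2, 4, 3, 16, 6, 7, 9, 8, 12, 20, 10, 17, 22, 18, 5, 13, 15, 19, 11, 21, 14, 23],  [0, 1, 2, 4, 3, 16, 6, 7, 9, 8, 12, 20, 10, 17, 22, 18, 5, 13, 15, 19, 11, 21, 14, 23]⟩, ⟨[0, 1, 2, 13, 18, 22, 10, 20, 6, 14, 3, 19, 21, 8, 16, 5, 12, 4, 7, 15, 17, 9, 11, 23],  [0, 1, 2, 10, 17, 15, 8, 18, 13, 21, 6, 22, 16, 3, 9, 19, 14, 20, 4, 11, 7, 12, 5, 23]⟩]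

theorem stabGens_ok : stabGens.all (fun d => d.inM24 && d.fixesAll [2, 1, 0, 23]) = true := by
  decide +kernel

def bfCheck : Bool :=
  (List.range 4096).all (fun k =>
    (Golay.encode k == 0) || (Golay.encode k == 16777215) ||
      stabGens.any (fun d => (d.applyMask (Golay.encode k) != Golay.encode k) &&
        (d.applyMask (Golay.encode k) != (Golay.encode k ^^^ 16777215))))

theorem bfCheck_ok : bfCheck = true := by decide +kernel

theorem smul_eq_of_fix {σ : Equiv.Perm GolayPt} {A B : Finset GolayPt} (hAB : A ⊆ B)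
    (hfix : ∀ p ∈ B, σ p = p) : σ • A = A := by
  ext p
  rw [Finset.mem_smul_finset]
  constructor
  · rintro ⟨q, hq, rfl⟩
    rw [Equiv.Perm.smul_def, hfix q (hAB hq)]
    exact hq
  · intro hp
    exact ⟨p, hp, hfix p (hAB hp)⟩

/-- a word outside the code generates all even-weight words. -/
theorem E_le_of_not_mem (hW : Inv W) {w : GolayPt → ZMod 2} (hwW : w ∈ W)
    (hwC : w ∉ golayCode) (v : GolayPt → ZMod 2) (hv : ∑ p, v p = 0) : v ∈ W := by
  classical
  obtain ⟨c, hc, e, hpc, hwce⟩ := Helper92.Cover.covering w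
  set T := dec e with hT
  have hTcard : T.card ≤ 4 := by rw [hT, card_dec]; exact hpc
  have hindT : Golay.ofMask e = ind T := (ind_dec e).symm
  have hTne : T.Nonempty := by
    rw [Finset.nonempty_iff_ne_empty]
    intro h
    apply hwC
    rw [hwce, hindT, h, ind_empty, add_zero]
    exact hc
  set Sc := support₂ c with hSc
  have hcind : c = ind Sc := (ind_support₂ c).symm
  have hScC : Sc ∈ supports (golayCode : Set (GolayPt → ZMod 2)) := supports_of_mem hc
  have hwS : w = ind (symmDiff Sc T) := by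
    rw [ind_symmDiff, ← hcind, ← hindT]
    exact hwce
  by_cases h0 : Sc = ∅
  · refine E_le_of_small hW (symmDiff Sc T) T (hwS ▸ hwW) hTne hTcard (Or.inl ?_) v hv
    rw [h0]
    exact bot_symmDiff T
  by_cases h1 : Sc = Finset.univ
  · refine E_le_of_small hW (symmDiff Sc T) T (hwS ▸ hwW) hTne hTcard (Or.inr ?_) v hv
    rw [h1, symmDiff_comm, symmDiff_univ']
  -- the main case: move the error positions into the four base points
  obtain ⟨T', hTT', hT'card⟩ := Finset.exists_superset_card_eq hTcard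
    (show 4 ≤ Fintype.card GolayPt by
      have : Fintype.card GolayPt = 24 := rfl
      omega)
  obtain ⟨g, hg, hgT⟩ := exists_smul_eq_of_card isTransOn4 T' hT'card
  set T4 : Finset GolayPt := ([2, 1, 0, 23].map pt).toFinset with hT4
  have hτ : g⁻¹ ∈ M24 := M24.inv_mem hg
  have hτT : g⁻¹ • T ⊆ T4 := by
    rw [← inv_smul_smul g T4, hgT]
    exact Finset.smul_finset_subset_smul_finset hTT'
  -- the translated code word
  have hSc' : g⁻¹ • Sc ∈ supports (golayCode : Set (GolayPt → ZMod 2)) :=
    (smul_mem_supports_iff hτ Sc).mpr hScC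
  obtain ⟨k, hk, hkS⟩ := (Helper26.mem_supports_iff _).mp hSc'
  have hcm0 : Golay.encode k ≠ 0 := by
    intro h
    rw [h, dec_zero] at hkS
    exact h0 (Finset.smul_finset_eq_empty.mp hkS)
  have hcm1 : Golay.encode k ≠ 16777215 := by
    intro h
    rw [h, dec_allOnes] at hkS
    apply h1
    have := congrArg (fun A => g • A) hkS
    simp only [smul_inv_smul, Finset.smul_finset_univ] at this
    exact this
  have hbf := List.all_eq_true.mp bfCheck_ok k (List.mem_range.mpr hk)
  simp only [Bool.or_eq_true, beq_iff_eq, hcm0, hcm1, false_or, List.any_eq_true,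
    Bool.and_eq_true, bne_iff_ne, ne_eq] at hbf
  obtain ⟨d, hd, hx1, hx2⟩ := hbf
  have hdok := List.all_eq_true.mp stabGens_ok d hd
  rw [Bool.and_eq_true] at hdok
  have hdfix := PermData.toPerm_mem_fixK hdok.1 hdok.2
  have hok := PermData.ok_of_inM24 hdok.1
  set σ := d.toPerm with hσ
  have hσM : σ ∈ M24 := hdfix.1
  have hσfix : ∀ p ∈ T4, σ p = p := by
    intro p hp
    rw [hT4, List.mem_toFinset, List.mem_map] at hp
    obtain ⟨j, hj, rfl⟩ := hp
    exact hdfix.2 j hj
  have hσT : σ • (g⁻¹ • T) = g⁻¹ • T := smul_eq_of_fix hτT hσfix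
  -- the word `g⁻¹ • w` and its image under `σ`
  set S' := g⁻¹ • symmDiff Sc T with hS'
  have hS'W : ind S' ∈ W := hW.smul hτ (hwS ▸ hwW)
  have hS'eq : S' = symmDiff (dec (Golay.encode k)) (g⁻¹ • T) := by
    rw [hS', Finset.smul_finset_symmDiff, hkS]
  have hσS' : σ • S' = symmDiff (dec (d.applyMask (Golay.encode k))) (g⁻¹ • T) := by
    rw [hS'eq, Finset.smul_finset_symmDiff, hσT, hσ, PermData.smul_dec hok]
  have hdiff : symmDiff S' (σ • S') = dec (Golay.encode k ^^^ d.applyMask (Golay.encode k)) := by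
    rw [hσS', hS'eq, dec_xor, symmDiff_symmDiff_symmDiff_comm, symmDiff_self, symmDiff_bot]
  have hDW : ind (dec (Golay.encode k ^^^ d.applyMask (Golay.encode k))) ∈ W := by
    rw [← hdiff]
    exact mem_symmDiff hS'W (hW.smul hσM hS'W)
  have hlt1 : Golay.encode k < 2 ^ 24 := Golay.encode_lt k
  have hlt2 : d.applyMask (Golay.encode k) < 2 ^ 24 := PermData.applyMask_lt hok _
  have hlt3 : Golay.encode k ^^^ d.applyMask (Golay.encode k) < 2 ^ 24 :=
    Nat.xor_lt_two_pow hlt1 hlt2
  have hDC : dec (Golay.encode k ^^^ d.applyMask (Golay.encode k)) ∈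
      supports (golayCode : Set (GolayPt → ZMod 2)) := by
    rw [dec_xor]
    refine supports_symmDiff ((Helper26.mem_supports_iff _).mpr ⟨k, hk, rfl⟩) ?_
    rw [← PermData.smul_dec hok]
    exact (smul_mem_supports_iff hσM _).mpr ((Helper26.mem_supports_iff _).mpr ⟨k, hk, rfl⟩)
  have hD0 : dec (Golay.encode k ^^^ d.applyMask (Golay.encode k)) ≠ ∅ := by
    intro h
    rw [← dec_zero] at h
    have := dec_injOn hlt3 (by norm_num) h
    apply hx1
    have h2 := congrArg (fun z => Golay.encode k ^^^ z) this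
    simp only [Nat.xor_xor_cancel_left, Nat.xor_zero] at h2
    exact h2
  have hD1 : dec (Golay.encode k ^^^ d.applyMask (Golay.encode k)) ≠ Finset.univ := by
    intro h
    rw [← dec_allOnes] at h
    have := dec_injOn hlt3 (by norm_num) h
    apply hx2
    have h2 := congrArg (fun z => Golay.encode k ^^^ z) this
    simp only [Nat.xor_xor_cancel_left] at h2
    exact h2
  have hCW : golayCode ≤ W := code_le hW hDW hDC hD0 hD1
  have heW : ind T ∈ W := by
    have : ind T = w + c := by
      rw [hwce, hindT, add_comm c, add_assoc, CharTwo.add_self_eq_zero, add_zero]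
    rw [this]
    exact W.add_mem hwW (hCW hc)
  exact E_le_of_small hW T T heW hTne hTcard (Or.inl rfl) v hv


theorem zmod2_cases' : ∀ a : ZMod 2, a = 0 ∨ a = 1 := by decide

theorem result (W : Submodule (ZMod 2) (Cfsg.GolayPt → ZMod 2)) (hW : ∀ σ ∈ Cfsg.M24, ∀ w ∈ W, (fun p => w (σ.symm p)) ∈ W) : W = ⊥ ∨ W = Submodule.span (ZMod 2) {fun _ => (1 : ZMod 2)} ∨ W = Cfsg.golayCode ∨ (W : Set (Cfsg.GolayPt → ZMod 2)) = {w | ∑ p, w p = 0} ∨ W = ⊤ := by
  classical
  have hInv : Inv W := hW
  have hone : (fun _ => (1 : ZMod 2)) = (1 : GolayPt → ZMod 2) := rfl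
  by_cases hC : W ≤ golayCode
  · by_cases h1 : W ≤ Submodule.span (ZMod 2) {fun _ => (1 : ZMod 2)}
    · by_cases hbot : W = ⊥
      · exact Or.inl hbot
      · right; left
        apply le_antisymm h1
        rw [Submodule.span_le, Set.singleton_subset_iff]
        obtain ⟨w, hwW, hw0⟩ := (Submodule.ne_bot_iff W).mp hbot
        obtain ⟨a, ha⟩ := Submodule.mem_span_singleton.mp (h1 hwW)
        rcases zmod2_cases' a with rfl | rfl
        · rw [zero_smul] at ha
          exact absurd ha.symm hw0
        · rw [one_smul] at ha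
          rw [SetLike.mem_coe, ha]
          exact hwW
    · right; right; left
      apply le_antisymm hC
      obtain ⟨w, hwW, hw1⟩ := SetLike.not_le_iff_exists.mp h1
      have hS0 : support₂ w ≠ ∅ := by
        intro h
        apply hw1
        rw [← ind_support₂ w, h, ind_empty]
        exact Submodule.zero_mem _
      have hS1 : support₂ w ≠ Finset.univ := by
        intro h
        apply hw1
        rw [← ind_support₂ w, h, ind_univ, ← hone]
        exact Submodule.subset_span rfl
      exact code_le hInv ((mem_iff_support w).mp hwW) (supports_of_mem (hC hwW)) hS0 hS1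
  · right; right; right
    obtain ⟨w, hwW, hwC⟩ := SetLike.not_le_iff_exists.mp hC
    have hE := E_le_of_not_mem hInv hwW hwC
    by_cases hall : ∀ u ∈ W, ∑ p, u p = 0
    · left
      ext u
      constructor
      · intro hu
        exact hall u hu
      · intro hu
        exact hE u hu
    · right
      push Not at hall
      obtain ⟨u, huW, hu⟩ := hall
      have hu1 : ∑ p, u p = 1 := (zmod2_cases' _).resolve_left hu
      rw [eq_top_iff]
      intro v _
      rcases zmod2_cases' (∑ p, v p) with hv | hv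
      · exact hE v hv
      · have hvu : ∑ p, (v + u) p = 0 := by
          simp only [Pi.add_apply, Finset.sum_add_distrib, hv, hu1]
          decide
        have := W.sub_mem (hE _ hvu) huW
        rwa [add_sub_cancel_right] at this

end Cfsg.Agent.S5548
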