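import Cfsg.Statements.S5393
import Cfsg.Agent.S5548

set_option autoImplicit false
open Cfsg

namespace Cfsg.Agent.S5393

open Cfsg.Agent.Lib Cfsg.Agent.Lib.Helper26

/-- a word of weight two (not in the code). -/
theorem pair_not_mem : Cfsg.Agent.S5548.ind {pt 0, pt 1} ∉ golayCode := by
  intro h
  have h1 := Golay.hammingNorm_of_mem h
  have h2 : hammingNorm (Cfsg.Agent.S5548.ind {pt 0, pt 1}) = 2 := by
    show (support₂ (Cfsg.Agent.S5548.ind {pt 0, pt 1})).card = 2
    rw [Cfsg.Agent.S5548.support₂_ind]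
    decide
  omega

theorem pair_sum : ∑ p, Cfsg.Agent.S5548.ind {pt 0, pt 1} p = 0 := by
  rw [Cfsg.Agent.S5548.sum_ind]
  decide

theorem result : (fun _ : Cfsg.GolayPt => (1 : ZMod 2)) ∈ Cfsg.golayCode ∧ ∀ W : Submodule (ZMod 2) (Cfsg.GolayPt → ZMod 2), (fun _ => (1 : ZMod 2)) ∈ W → W ≤ Cfsg.golayCode → (∀ σ ∈ Cfsg.M24, ∀ w ∈ W, (fun p => w (σ.symm p)) ∈ W) → W = Submodule.span (ZMod 2) {fun _ => (1 : ZMod 2)} ∨ W = Cfsg.golayCode := by
  refine ⟨Golay.one_mem_golayCode, ?_⟩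
  intro W h1 hC hW
  rcases Cfsg.Agent.S5548.result W hW with h | h | h | h | h
  · exfalso
    rw [h, Submodule.mem_bot] at h1
    have := congrFun h1 none
    simp at this
  · exact Or.inl h
  · exact Or.inr h
  · exfalso
    apply pair_not_mem
    apply hC
    have : Cfsg.Agent.S5548.ind {pt 0, pt 1} ∈ (W : Set (GolayPt → ZMod 2)) := by
      rw [h]
      exact pair_sum
    exact this
  · exfalso
    apply pair_not_mem
    apply hC
    rw [h]
    exact Submodule.mem_top

end Cfsg.Agent.S5393
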