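import Cfsg.Statements.S5394
import Cfsg.Agent.Lib.Helper93.M24Structure
import Cfsg.Agent.Lib.Helper26.M24Inv

set_option autoImplicit false
open Cfsg

namespace Cfsg.Agent.S5394

open Cfsg.Agent.Lib.Helper93.Golay
open scoped Pointwise

/-- an element of `M24` interchanging the indices 0, 1 and 2, 3. -/
def t0 : ℕ := 462822290990434009864109031292996609
/-- a transversal of the stabiliser of five points in the stabiliser of four points. -/
def U : List ℕ := [984818244535754528103549039458486304, 359866085119682197367440323948677152, 338246879765463657442817195771004960, 963721886883755259286232606933354528, 275489290087712633192259634654709792, 850537979680284174355609592322426912, 404375045276016595118646811970078752, 234153413042967425184668628406077472, 269536057975790052404448167765051424, 344490037891099063757771509091895328, 802583294843730744195719179150657568, 266520414492436681648410828435720224, 984436632068016323118584907140532256, 524801651788502926803618598317295648, 652132913432075291646800643152250912, 219870721700441641049736227392161824,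 731230548138011471765822002050467872, 725920488506007687520362502292604960, 882990548271142430413101270252488736, 764059028100932647650303324435089440]
/-- an involution fixing an octad pointwise. -/
def sA : ℕ := 984490757400711034068282643818023937
/-- a fixed-point-free involution. -/
def sB : ℕ := 396462979902350827935195316479921153
/-- the octad fixed by `sA`. -/
def oA : ℕ := 12733024
/-- conjugating elements. -/
def Kall : List ℕ := [2193179663445211564025295869976933, 5602470536878570943122943195357390, 21222469611423893163426072316401975, 30532079405429753860177051775152299, 63750691174592971855439780877971767, 67149454145907105603513581442572624, 71691230765951503346104017359454804, 113229696119717505920355677079489197, 135771149524266068258802505387494121, 150918161940702013648199759683922486, 154742130590577217853819873609228428, 155170790370531068039802800904159890, 166525810432607212544393641890302227, 178650695139721841999090747176563744, 180970592810501051298497739495102800, 196270679643360582241905575096539623, 209099269044972804978342151607082131,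 220689537372810091892815105866914031, 228606470658877892092875531400876424, 254490269381786057820877793837766967, 264377534414962000394923668833386528, 295149986691677853404630033089511630, 302949008687077150096196410932665041, 353133681446688266022707769634787049, 376083335872750243747552494264993255, 404416634078929062177466490076714506, 423267811768453468973265043235800456, 443385423076052639001124575947959394, 458349113843483475321169565855617709, 462358589522166158353018615124994359, 543087571659445850527680118957190176, 543212942029303473086078834589216055, 544797174736529274123272009871236708, 555187881818024539875234402325826871, 583085697332602869989089452015400324, 601025555360454782714284913323203941, 605778547530044994874061158138226755, 624031759868322033956028938298168418, 626405759310519880250466858287337783, 630094892927909928570344409517363766, 641781204691045945888524227584870711, 649328125641577826992071003537622453, 670591061676860436693221684269005856, 673950773284899912097794211688238081, 680501677049638444168492964525657155, 723042932490438949106460708743220395,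 726362966219657770019707167779300353, 800145600094370011068910280697764151, 808964272743697443964674561036812556, 846693929331191039000242181805261006, 856390881793818255304718513407736200, 914184657346499742137991512377102647, 957098009757553154362152763560889956, 957191840980690165560643003500386001, 958105558015470781015018203858025133, 958615416173845819318344893111481005, 962788856482791585460783212980811874, 963992626613057213772035796593456694, 964997910438128875805814001970387510, 967636252123734651636980744051181140, 972382254181686369878438464848269546, 973561327812882139739395352605406600, 973767490442653227544569793357601205, 975125065846856191845539292180531637, 975764230554743937941184720440164709, 976283273705687562135305308624853384, 977675775038615826612652202375775844, 979620498031303147597735293713714742, 981407769244870161522849397979158885, 983030361473071739951532804197613715, 983100440103924080668190237313449414, 983274786655490069191755303134568970, 984493369334060478447889424982281248, 984818244535754528103549039458486304]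

theorem t0_ok : isAutC t0 = true ∧ papp t0 0 = 1 ∧ papp t0 1 = 0 ∧ papp t0 2 = 3 ∧ papp t0 3 = 2 := by
  decide +kernel

theorem U_ok : U.all (fun S => isAutC S && fixesMask S 15) = true := by decide +kernel

theorem U_cov : (List.range 24).all (fun j => Nat.testBit 15 j ||
    U.any (fun S => Nat.beq (papp S 4) j)) = true := by decide +kernel

theorem K_ok : Kall.all isAutC = true := by decide +kernel

theorem s_ok : isAutC sA = true ∧ isAutC sB = true := by decide +kernel

def cand (u h i : ℕ) : ℕ := papp t0 (papp u (papp h i))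

def isInv (u h : ℕ) : Bool := (List.range 24).all (fun i => Nat.beq (cand u h (cand u h i)) i)

def conjOK (K u h s : ℕ) : Bool :=
  (List.range 24).all (fun i => Nat.beq (papp K (cand u h i)) (papp s (papp K i)))

theorem bigCheck : U.all (fun u => H5list.all (fun h => !isInv u h ||
    Kall.any (fun K => conjOK K u h sA || conjOK K u h sB))) = true := by decide +kernel


/-! ### a step of a stabiliser chain in `M24` -/

theorem stepH (k : ℕ) (hk : k < 24) (L : List ℕ) (m : ℕ)
    (hL : L.all (fun S => isAutC S && fixesMask S m) = true)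
    (hcov : (List.range 24).all (fun j => Nat.testBit m j ||
      L.any (fun S => Nat.beq (papp S k) j)) = true)
    (hkm : m.testBit k = false) {g : Equiv.Perm GolayPt} (hg : g ∈ Hfix m) :
    ∃ S ∈ L, isAutC S = true ∧ (permC S)⁻¹ * g ∈ Hfix (m ||| 1 <<< k) := by
  set j : ℕ := ((ptIdx (g (P k hk)) : Fin 24) : ℕ) with hj
  have hj24 : j < 24 := (ptIdx (g (P k hk))).isLt
  have hjm : m.testBit j = false := by
    by_contra hne
    have hne' : m.testBit j = true := by simpa using hne
    have h1 : g (P k hk) ∈ fset m := (mem_fset _ _).2 hne'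
    have h2 : P k hk ∉ fset m := by
      rw [mem_fset_P, hkm]; simp
    exact image_not_mem_fixed hg h2 h1
  have hc := List.all_eq_true.1 hcov j (List.mem_range.2 hj24)
  rw [hjm] at hc
  simp only [Bool.false_or, List.any_eq_true] at hc
  obtain ⟨S, hS, hSj⟩ := hc
  have hSok := List.all_eq_true.1 hL S hS
  simp only [Bool.and_eq_true] at hSok
  obtain ⟨hA, hF⟩ := hSok
  refine ⟨S, hS, hA, ?_⟩
  have hSK := permC_mem_Hfix hA hF
  have hmul : (permC S)⁻¹ * g ∈ Hfix m := (Hfix m).mul_mem ((Hfix m).inv_mem hSK) hg
  rw [Hfix_or m k hk, Subgroup.mem_inf, MulAction.mem_stabilizer_iff]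
  refine ⟨hmul, ?_⟩
  have h1 : permC S (P k hk) = ptOf ⟨j, hj24⟩ :=
    permC_ptOf (isPerm_of_isAutC hA) k hk j hj24 (Nat.eq_of_beq_eq_true hSj)
  have h2 : g (P k hk) = ptOf ⟨j, hj24⟩ := (ptOf_ptIdx (g (P k hk))).symm
  show ((permC S)⁻¹ * g) (P k hk) = P k hk
  rw [Equiv.Perm.mul_apply, h2, ← h1]
  simp

theorem ptIdx_inj {p q : GolayPt} (h : ((ptIdx p : Fin 24) : ℕ) = ptIdx q) : p = q :=
  ptEquiv.injective (Fin.ext h)

/-- elements of `M24` interchanging `P 0, P 1` and `P 2, P 3` with square one are conjugate
to one of the two standard involutions. -/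
theorem conj_of_swaps {g : Equiv.Perm GolayPt} (hg : g ∈ M24) (hsq : g * g = 1)
    (h0 : g (P 0) = P 1) (h1 : g (P 1) = P 0) (h2 : g (P 2) = P 3) (h3 : g (P 3) = P 2) :
    ∃ k ∈ M24, k * g * k⁻¹ = permC sA ∨ k * g * k⁻¹ = permC sB := by
  obtain ⟨ht0, t00, t01, t02, t03⟩ := t0_ok
  have hpt0 := isPerm_of_isAutC ht0
  have hT : permC t0 ∈ M24 := permC_mem_M24 ht0
  have hmem : (permC t0)⁻¹ * g ∈ Hfix 15 := by
    refine ⟨M24.mul_mem (M24.inv_mem hT) hg, fun p hp => ?_⟩
    rw [mem_fset] at hp
    have hcases : ∀ x : Fin 24, (15 : ℕ).testBit x = true →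
        (x : ℕ) = 0 ∨ (x : ℕ) = 1 ∨ (x : ℕ) = 2 ∨ (x : ℕ) = 3 := by decide
    have hp' : p = P (ptIdx p) (ptIdx p).isLt := (P_ptIdx p).symm
    rw [Equiv.Perm.mul_apply, Equiv.Perm.inv_eq_iff_eq]
    rcases hcases _ hp with h | h | h | h
    · have e : p = P 0 := by rw [hp']; simp only [h]
      rw [e, h0]
      exact (permC_ptOf hpt0 0 (by decide) 1 (by decide) t00).symm
    · have e : p = P 1 := by rw [hp']; simp only [h]
      rw [e, h1]
      exact (permC_ptOf hpt0 1 (by decide) 0 (by decide) t01).symm
    · have e : p = P 2 := by rw [hp']; simp only [h]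
      rw [e, h2]
      exact (permC_ptOf hpt0 2 (by decide) 3 (by decide) t02).symm
    · have e : p = P 3 := by rw [hp']; simp only [h]
      rw [e, h3]
      exact (permC_ptOf hpt0 3 (by decide) 2 (by decide) t03).symm
  obtain ⟨u, hu, huA, hmem2⟩ := stepH 4 (by norm_num) U 15 U_ok U_cov (by decide) hmem
  obtain ⟨h, hh, hhe⟩ := H5_complete (show (permC u)⁻¹ * ((permC t0)⁻¹ * g) ∈ Hfix 31 from hmem2)
  have hhok := List.all_eq_true.1 H5_ok h hh
  rw [Bool.and_eq_true] at hhok
  have hph := isPerm_of_isAutC hhok.1
  have hpu := isPerm_of_isAutC huA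
  have hgeq : g = permC t0 * permC u * permC h := by
    rw [← hhe]; group
  have hf : ∀ p : GolayPt, ((ptIdx (g p) : Fin 24) : ℕ) = cand u h (ptIdx p) := by
    intro p
    rw [hgeq]
    simp only [Equiv.Perm.mul_apply, cand]
    rw [ptIdx_permC hpt0, ptIdx_permC hpu, ptIdx_permC hph]
  have hinv : isInv u h = true := by
    unfold isInv
    rw [List.all_eq_true]
    intro i hi
    have hi24 : i < 24 := List.mem_range.1 hi
    have e1 : g (g (P i hi24)) = P i hi24 := by
      have := congrArg (fun f : Equiv.Perm GolayPt => f (P i hi24)) hsq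
      simpa using this
    have e2 : ((ptIdx (g (g (P i hi24))) : Fin 24) : ℕ) = ((ptIdx (P i hi24) : Fin 24) : ℕ) := by
      rw [e1]
    rw [hf, hf, ptIdx_P] at e2
    rw [e2]
    exact Nat.beq_refl i
  have hc := List.all_eq_true.1 (List.all_eq_true.1 bigCheck u hu) h hh
  rw [hinv] at hc
  simp only [Bool.not_true, Bool.false_or, List.any_eq_true, Bool.or_eq_true] at hc
  obtain ⟨K, hK, hKc⟩ := hc
  have hKA := List.all_eq_true.1 K_ok K hK
  have hpK := isPerm_of_isAutC hKA
  have key : ∀ s : ℕ, isAutC s = true → conjOK K u h s = true →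
      permC K * g * (permC K)⁻¹ = permC s := by
    intro s hs hcs
    have hps := isPerm_of_isAutC hs
    rw [mul_inv_eq_iff_eq_mul]
    apply Equiv.ext
    intro p
    apply ptIdx_inj
    simp only [Equiv.Perm.mul_apply]
    rw [ptIdx_permC hpK, hf, ptIdx_permC hps, ptIdx_permC hpK]
    exact Nat.eq_of_beq_eq_true
      (List.all_eq_true.1 hcs (ptIdx p) (List.mem_range.2 (ptIdx p).isLt))
  refine ⟨permC K, permC_mem_M24 hKA, ?_⟩
  rcases hKc with hA | hB
  · exact Or.inl (key sA s_ok.1 hA)
  · exact Or.inr (key sB s_ok.2 hB)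


/-! ### an involution has at least two transpositions -/

def isIdCode (S : ℕ) : Bool := (List.range 24).all (fun i => Nat.beq (papp S i) i)

theorem permC_eq_one {S : ℕ} (hS : isPerm S = true) (h : isIdCode S = true) : permC S = 1 := by
  apply Equiv.ext
  intro p
  have hi := List.all_eq_true.1 h (ptIdx p) (List.mem_range.2 (ptIdx p).isLt)
  have h3 := permC_ptOf hS (ptIdx p) (ptIdx p).isLt (ptIdx p) (ptIdx p).isLt
    (Nat.eq_of_beq_eq_true hi)
  have e : ptOf ⟨(ptIdx p : ℕ), (ptIdx p).isLt⟩ = p := ptOf_ptIdx p
  rw [e] at h3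
  exact h3

theorem h5_moves : H5list.all (fun S => isIdCode S ||
    (List.range 24).all (fun i => (List.range 24).all (fun j => (List.range 24).any (fun l =>
      !(Nat.beq l i) && !(Nat.beq l j) && !(Nat.beq (papp S l) l))))) = true := by
  decide +kernel

theorem P_inj {i j : ℕ} (hi : i < 24) (hj : j < 24) (h : P i hi = P j hj) : i = j := by
  have := congrArg (fun q => ((ptIdx q : Fin 24) : ℕ)) h
  simpa [ptIdx_P] using this

theorem two_swaps {g : Equiv.Perm GolayPt} (hg : g ∈ M24) (hne : g ≠ 1) (a : GolayPt) : ∃ c, c ≠ a ∧ c ≠ g a ∧ g c ≠ c := by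
  classical
  by_contra hcon
  push Not at hcon
  -- five fixed points
  set F : Finset GolayPt := Finset.univ.filter (fun c => g c = c) with hF
  have hsub : (Finset.univ \ {a, g a} : Finset GolayPt) ⊆ F := by
    intro c hc
    rw [Finset.mem_sdiff, Finset.mem_insert, Finset.mem_singleton] at hc
    rw [hF, Finset.mem_filter]
    exact ⟨Finset.mem_univ _, hcon c (fun h => hc.2 (Or.inl h)) (fun h => hc.2 (Or.inr h))⟩
  have hcard : 5 ≤ F.card := by
    have h1 := Finset.card_le_card hsub
    have h2 : (Finset.univ \ {a, g a} : Finset GolayPt).card = 24 - ({a, g a} : Finset GolayPt).card := by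
      rw [Finset.card_sdiff_of_subset (Finset.subset_univ _)]
      rfl
    have h3 : ({a, g a} : Finset GolayPt).card ≤ 2 := Finset.card_le_two
    omega
  obtain ⟨t, htF, htc⟩ := Finset.exists_subset_card_eq hcard
  let e : t ≃ Fin 5 := t.equivFinOfCardEq htc
  let p : Fin 5 → GolayPt := fun i => ((e.symm i : t) : GolayPt)
  have hp : Function.Injective p := Subtype.val_injective.comp e.symm.injective
  let q : Fin 5 → GolayPt := fun i => P i (by omega)
  have hq : Function.Injective q := by
    intro i j h
    exact Fin.ext (P_inj _ _ h)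
  obtain ⟨k0, hk0, hmap⟩ := five_transitive p q hp hq
  have hpfix : ∀ i, g (p i) = p i := by
    intro i
    have : p i ∈ F := htF (e.symm i).2
    rw [hF, Finset.mem_filter] at this
    exact this.2
  have hmem : k0 * g * k0⁻¹ ∈ Hfix 31 := by
    refine ⟨M24.mul_mem (M24.mul_mem hk0 hg) (M24.inv_mem hk0), fun x hx => ?_⟩
    rw [mem_fset] at hx
    have hlt : (ptIdx x : ℕ) < 5 := by
      have : ∀ y : Fin 24, (31 : ℕ).testBit y = true → (y : ℕ) < 5 := by decide
      exact this _ hx
    have hx' : x = q ⟨ptIdx x, hlt⟩ := (P_ptIdx x).symm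
    rw [hx', ← hmap]
    simp only [Equiv.Perm.mul_apply]
    rw [show k0⁻¹ (k0 (p ⟨ptIdx x, hlt⟩)) = p ⟨ptIdx x, hlt⟩ from by simp, hpfix]
  obtain ⟨S, hS, hSe⟩ := H5_complete hmem
  have hSok := List.all_eq_true.1 H5_ok S hS
  rw [Bool.and_eq_true] at hSok
  have hpS := isPerm_of_isAutC hSok.1
  have hmv := List.all_eq_true.1 h5_moves S hS
  rw [Bool.or_eq_true] at hmv
  rcases hmv with hid | hmv
  · have h1 := permC_eq_one hpS hid
    rw [← hSe] at h1
    apply hne
    have : g = k0⁻¹ * (k0 * g * k0⁻¹) * k0 := by group
    rw [this, h1]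
    group
  · have h1 := List.all_eq_true.1 (List.all_eq_true.1 hmv (ptIdx (k0 a))
      (List.mem_range.2 (ptIdx (k0 a)).isLt)) (ptIdx (k0 (g a)))
      (List.mem_range.2 (ptIdx (k0 (g a))).isLt)
    rw [List.any_eq_true] at h1
    obtain ⟨l, hl, hl3⟩ := h1
    have hl24 : l < 24 := List.mem_range.1 hl
    simp only [Bool.and_eq_true, Bool.not_eq_true'] at hl3
    obtain ⟨⟨hla, hlb⟩, hlm⟩ := hl3
    -- the point `k0⁻¹ (P l)` is moved by `g`
    set c := k0⁻¹ (P l hl24) with hc
    have hkc : k0 c = P l hl24 := by rw [hc]; simp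
    have hca : c ≠ a := by
      intro h
      rw [h] at hkc
      have := congrArg (fun z => ((ptIdx z : Fin 24) : ℕ)) hkc
      simp only [ptIdx_P] at this
      rw [this] at hla
      simp at hla
    have hcb : c ≠ g a := by
      intro h
      rw [h] at hkc
      have := congrArg (fun z => ((ptIdx z : Fin 24) : ℕ)) hkc
      simp only [ptIdx_P] at this
      rw [this] at hlb
      simp at hlb
    have hfixc := hcon c hca hcb
    have h2 : (k0 * g * k0⁻¹) (P l hl24) = P l hl24 := by
      simp only [Equiv.Perm.mul_apply]
      rw [← hc, hfixc, hkc]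
    rw [hSe] at h2
    have h3 := congrArg (fun z => ((ptIdx z : Fin 24) : ℕ)) h2
    simp only [ptIdx_permC hpS, ptIdx_P] at h3
    rw [h3] at hlm
    simp at hlm


/-! ### the normal form of an involution -/

theorem normal_form {g : Equiv.Perm GolayPt} (hg : g ∈ M24) (h2 : orderOf g = 2) :
    ∃ k ∈ M24, k * g * k⁻¹ = permC sA ∨ k * g * k⁻¹ = permC sB := by
  classical
  have hsq : g * g = 1 := by
    have := pow_orderOf_eq_one g
    rwa [h2, pow_two] at this
  have hne : g ≠ 1 := by
    intro h
    rw [h, orderOf_one] at h2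
    omega
  have hgg : ∀ x, g (g x) = x := by
    intro x
    have := congrArg (fun f : Equiv.Perm GolayPt => f x) hsq
    simpa using this
  obtain ⟨a, ha⟩ : ∃ a, g a ≠ a := by
    by_contra hcon
    push Not at hcon
    exact hne (Equiv.ext hcon)
  obtain ⟨c, hca, hcb, hc⟩ := two_swaps hg hne a
  set b := g a with hb
  set d := g c with hd
  have hab : a ≠ b := fun h => ha h.symm
  have hcd : c ≠ d := fun h => hc h.symm
  have hda : d ≠ a := by
    intro h
    have : g d = g a := by rw [h]
    rw [hd, hgg] at this
    exact hcb this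
  have hdb : d ≠ b := by
    intro h
    exact hca (g.injective h)
  obtain ⟨e, he⟩ : ∃ e, e ∉ ({a, b, c, d} : Finset GolayPt) := by
    by_contra hcon
    push Not at hcon
    have : ({a, b, c, d} : Finset GolayPt) = Finset.univ := Finset.eq_univ_iff_forall.mpr hcon
    have h1 : ({a, b, c, d} : Finset GolayPt).card ≤ 4 := Finset.card_le_four
    rw [this, Finset.card_univ] at h1
    have : Fintype.card GolayPt = 24 := rfl
    omega
  simp only [Finset.mem_insert, Finset.mem_singleton, not_or] at he
  obtain ⟨hea, heb, hec, hed⟩ := he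
  let q : ℕ → GolayPt := fun i =>
    if i = 0 then a else if i = 1 then b else if i = 2 then c else if i = 3 then d else e
  have hq : ∀ i j, i < 5 → j < 5 → q i = q j → i = j := by
    intro i j hi hj h
    interval_cases i <;> interval_cases j <;> simp only [q] at h <;> simp_all
  obtain ⟨g0, hg0, hmap⟩ := exists_M24_map q hq 5 (le_refl 5)
  have m0 : g0 (P 0) = a := hmap 0 (by norm_num)
  have m1 : g0 (P 1) = b := hmap 1 (by norm_num)
  have m2 : g0 (P 2) = c := hmap 2 (by norm_num)
  have m3 : g0 (P 3) = d := hmap 3 (by norm_num)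
  set g' := g0⁻¹ * g * g0 with hg'
  have hg'M : g' ∈ M24 := M24.mul_mem (M24.mul_mem (M24.inv_mem hg0) hg) hg0
  have hsq' : g' * g' = 1 := by
    rw [hg']
    have : g0⁻¹ * g * g0 * (g0⁻¹ * g * g0) = g0⁻¹ * (g * g) * g0 := by group
    rw [this, hsq]
    group
  have e0 : g' (P 0) = P 1 := by
    simp only [hg', Equiv.Perm.mul_apply, m0]
    rw [← hb, ← m1]; simp
  have e1 : g' (P 1) = P 0 := by
    simp only [hg', Equiv.Perm.mul_apply, m1]
    rw [hb, hgg, ← m0]; simp
  have e2 : g' (P 2) = P 3 := by
    simp only [hg', Equiv.Perm.mul_apply, m2]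
    rw [← hd, ← m3]; simp
  have e3 : g' (P 3) = P 2 := by
    simp only [hg', Equiv.Perm.mul_apply, m3]
    rw [hd, hgg, ← m2]; simp
  obtain ⟨k, hk, hkc⟩ := conj_of_swaps hg'M hsq' e0 e1 e2 e3
  refine ⟨k * g0⁻¹, M24.mul_mem hk (M24.inv_mem hg0), ?_⟩
  have : k * g0⁻¹ * g * (k * g0⁻¹)⁻¹ = k * g' * k⁻¹ := by
    rw [hg']; group
  rw [this]
  exact hkc


/-! ### the two standard involutions -/

theorem fixA : (List.range 24).all (fun i => (Nat.beq (papp sA i) i) == oA.testBit i) = true := by
  decide +kernel

theorem fixB : (List.range 24).all (fun i => !(Nat.beq (papp sB i) i)) = true := by decide +kernel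

theorem invAB : (List.range 24).all (fun i => Nat.beq (papp sA (papp sA i)) i &&
    Nat.beq (papp sB (papp sB i)) i) = true := by decide +kernel

theorem oA_mem : fset oA ∈ octads :=
  fset_mem_octads (by norm_num [oA]) (by decide +kernel) (by decide +kernel)

theorem fixedA : (Finset.univ.filter fun p => permC sA p = p) = fset oA := by
  have hp := isPerm_of_isAutC s_ok.1
  ext p
  rw [Finset.mem_filter, mem_fset]
  have h := List.all_eq_true.1 fixA (ptIdx p) (List.mem_range.2 (ptIdx p).isLt)
  rw [beq_iff_eq] at h
  rw [← h]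
  simp only [Finset.mem_univ, true_and]
  constructor
  · intro hfix
    have := congrArg (fun z => ((ptIdx z : Fin 24) : ℕ)) hfix
    simp only [ptIdx_permC hp] at this
    rw [this]
    exact Nat.beq_refl _
  · intro hb
    apply ptIdx_inj
    rw [ptIdx_permC hp]
    exact Nat.eq_of_beq_eq_true hb

theorem fixedB (p : GolayPt) : permC sB p ≠ p := by
  have hp := isPerm_of_isAutC s_ok.2
  intro hfix
  have := congrArg (fun z => ((ptIdx z : Fin 24) : ℕ)) hfix
  simp only [ptIdx_permC hp] at this
  have h := List.all_eq_true.1 fixB (ptIdx p) (List.mem_range.2 (ptIdx p).isLt)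
  rw [this] at h
  simp at h

theorem sq_one {s : ℕ} (hs : isPerm s = true)
    (h : ∀ i < 24, papp s (papp s i) = i) : permC s * permC s = 1 := by
  apply Equiv.ext
  intro p
  apply ptIdx_inj
  simp only [Equiv.Perm.mul_apply, Equiv.Perm.coe_one, id_eq]
  rw [ptIdx_permC hs, ptIdx_permC hs]
  exact h _ (ptIdx p).isLt

theorem orderA : orderOf (permC sA) = 2 := by
  have hp := isPerm_of_isAutC s_ok.1
  apply orderOf_eq_prime
  · rw [pow_two]
    apply sq_one hp
    intro i hi
    have := List.all_eq_true.1 invAB i (List.mem_range.2 hi)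
    rw [Bool.and_eq_true] at this
    exact Nat.eq_of_beq_eq_true this.1
  · intro h1
    -- `sA` moves the point of index 0 or some point outside the octad
    have hne : (Finset.univ.filter fun p => permC sA p = p) = Finset.univ := by
      rw [h1]; simp
    rw [fixedA] at hne
    have hc : (fset oA).card = 8 := oA_mem.2
    rw [hne, Finset.card_univ] at hc
    have : Fintype.card GolayPt = 24 := rfl
    omega

theorem orderB : orderOf (permC sB) = 2 := by
  have hp := isPerm_of_isAutC s_ok.2
  apply orderOf_eq_prime
  · rw [pow_two]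
    apply sq_one hp
    intro i hi
    have := List.all_eq_true.1 invAB i (List.mem_range.2 hi)
    rw [Bool.and_eq_true] at this
    exact Nat.eq_of_beq_eq_true this.2
  · intro h1
    apply fixedB none
    rw [h1]; rfl

theorem fixed_conj (g k : Equiv.Perm GolayPt) :
    (Finset.univ.filter fun p => g p = p) =
      k⁻¹ • (Finset.univ.filter fun p => (k * g * k⁻¹) p = p) := by
  ext p
  rw [Finset.mem_inv_smul_finset_iff, Finset.mem_filter, Finset.mem_filter]
  simp only [Finset.mem_univ, true_and, Equiv.Perm.smul_def, Equiv.Perm.mul_apply]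
  rw [show k⁻¹ (k p) = p from by simp, EmbeddingLike.apply_eq_iff_eq]

/-- the type of an involution. -/
theorem type_of {g : Equiv.Perm GolayPt} (hg : g ∈ M24) (h2 : orderOf g = 2) :
    (∃ k ∈ M24, k * g * k⁻¹ = permC sA ∧ ¬ ∀ p, g p ≠ p) ∨
    (∃ k ∈ M24, k * g * k⁻¹ = permC sB ∧ ∀ p, g p ≠ p) := by
  obtain ⟨k, hk, h | h⟩ := normal_form hg h2
  · left
    refine ⟨k, hk, h, ?_⟩
    intro hfpf
    have h1 := fixed_conj g k
    rw [h, fixedA] at h1
    have hempty : (Finset.univ.filter fun p => g p = p) = ∅ := by
      rw [Finset.filter_eq_empty_iff]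
      intro p _
      exact hfpf p
    rw [hempty] at h1
    have hc : (k⁻¹ • fset oA).card = 8 := by
      rw [Finset.card_smul_finset]; exact oA_mem.2
    rw [← h1] at hc
    simp at hc
  · right
    refine ⟨k, hk, h, ?_⟩
    intro p hp
    apply fixedB (k p)
    rw [← h]
    simp only [Equiv.Perm.mul_apply]
    rw [show k⁻¹ (k p) = p from by simp, hp]

theorem result : (∀ g ∈ Cfsg.M24, orderOf g = 2 → (Finset.univ.filter fun p => g p = p) ∈ Cfsg.octads ∨ ∀ p, g p ≠ p) ∧ (∃ g ∈ Cfsg.M24, orderOf g = 2 ∧ (Finset.univ.filter fun p => g p = p) ∈ Cfsg.octads) ∧ (∃ g ∈ Cfsg.M24, orderOf g = 2 ∧ ∀ p, g p ≠ p) ∧ ∀ g ∈ Cfsg.M24, ∀ h ∈ Cfsg.M24, orderOf g = 2 → orderOf h = 2 → ((∀ p, g p ≠ p) ↔ (∀ p, h p ≠ p)) → ∃ k ∈ Cfsg.M24, k * g * k⁻¹ = h := by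
  refine ⟨?_, ?_, ?_, ?_⟩
  · intro g hg h2
    rcases type_of hg h2 with ⟨k, hk, h, _⟩ | ⟨k, hk, h, hfpf⟩
    · left
      rw [fixed_conj g k, h, fixedA]
      exact (Cfsg.Agent.Lib.Helper26.smul_mem_octads_iff (M24.inv_mem hk) _).mpr oA_mem
    · right
      exact hfpf
  · refine ⟨permC sA, permC_mem_M24 s_ok.1, orderA, ?_⟩
    rw [fixedA]
    exact oA_mem
  · exact ⟨permC sB, permC_mem_M24 s_ok.2, orderB, fixedB⟩
  · intro g hg h hh hg2 hh2 hiff
    rcases type_of hg hg2 with ⟨k1, hk1, e1, f1⟩ | ⟨k1, hk1, e1, f1⟩ <;>
      rcases type_of hh hh2 with ⟨k2, hk2, e2, f2⟩ | ⟨k2, hk2, e2, f2⟩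
    · refine ⟨k2⁻¹ * k1, M24.mul_mem (M24.inv_mem hk2) hk1, ?_⟩
      have : k2⁻¹ * k1 * g * (k2⁻¹ * k1)⁻¹ = k2⁻¹ * (k1 * g * k1⁻¹) * k2 := by group
      rw [this, e1, ← e2]
      group
    · exact absurd (hiff.mpr f2) f1
    · exact absurd (hiff.mp f1) f2
    · refine ⟨k2⁻¹ * k1, M24.mul_mem (M24.inv_mem hk2) hk1, ?_⟩
      have : k2⁻¹ * k1 * g * (k2⁻¹ * k1)⁻¹ = k2⁻¹ * (k1 * g * k1⁻¹) * k2 := by group
      rw [this, e1, ← e2]
      group

end Cfsg.Agent.S5394
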