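import Cfsg.Statements.S5395

set_option autoImplicit false
open Cfsg
open scoped IsMulCommutative

namespace Cfsg.Agent.S5395

/-- A bound on the number of homomorphisms from a finite group to a group of order two. -/
theorem card_hom_le {E Z : Type*} [Group E] [Finite E] [CommGroup Z] (hZ : Nat.card Z = 2) :
    Nat.card (E →* Z) ≤ Nat.card (Abelianization E) := by
  have : Fact (Nat.Prime 2) := ⟨Nat.prime_two⟩
  have e : Z ≃* rootsOfUnity 2 ℂ := mulEquivOfPrimeCardEq hZ (Complex.card_rootsOfUnity 2)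
  let ι : Z →* ℂˣ := (rootsOfUnity 2 ℂ).subtype.comp e.toMonoidHom
  have hι : Function.Injective ι := by
    intro x y hxy
    apply e.injective
    exact Subtype.ext hxy
  have : NeZero (Monoid.exponent (Abelianization E)) := ⟨Monoid.exponent_ne_zero_of_finite⟩
  have h1 : Nat.card (Abelianization E →* ℂˣ) = Nat.card (Abelianization E) :=
    CommGroup.card_monoidHom_of_hasEnoughRootsOfUnity (Abelianization E) ℂ
  have : Finite (Abelianization E →* ℂˣ) := by
    apply Nat.finite_of_card_ne_zero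
    rw [h1]
    exact Nat.card_pos.ne'
  rw [← h1]
  let F : (E →* Z) → (Abelianization E →* ℂˣ) := fun f => Abelianization.lift (ι.comp f)
  have hF : Function.Injective F := by
    intro f g hfg
    have h2 : ι.comp f = ι.comp g := Abelianization.lift.injective hfg
    ext x
    have := DFunLike.congr_fun h2 x
    exact hι this
  exact Nat.card_le_card_of_injective F hF

/-- The homomorphism `x ↦ φ x * x⁻¹` into the centre. -/
def chi {E : Type*} [Group E] (φ : E →* E) (h : ∀ x, φ x * x⁻¹ ∈ Subgroup.center E) : E →* Subgroup.center E where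
  toFun x := ⟨φ x * x⁻¹, h x⟩
  map_one' := by
    apply Subtype.ext
    simp
  map_mul' x y := by
    apply Subtype.ext
    show φ (x * y) * (x * y)⁻¹ = (φ x * x⁻¹) * (φ y * y⁻¹)
    have hc : (φ y * y⁻¹) * x⁻¹ = x⁻¹ * (φ y * y⁻¹) := (Subgroup.mem_center_iff.mp (h y) x⁻¹).symm
    rw [map_mul, mul_inv_rev]
    calc φ x * φ y * (y⁻¹ * x⁻¹) = φ x * ((φ y * y⁻¹) * x⁻¹) := by group
      _ = φ x * (x⁻¹ * (φ y * y⁻¹)) := by rw [hc]
      _ = _ := by group

theorem result {E : Type*} [Group E] [Finite E] (hE : Cfsg.IsExtraspecial 2 E) (φ : E ≃* E) (hφ : ∀ x : E, φ x * x⁻¹ ∈ Subgroup.center E) : ∃ g : E, ∀ x : E, φ x = g * x * g⁻¹ := by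
  obtain ⟨⟨-, -, hcomm⟩, hcard⟩ := hE
  have hin : ∀ g x : E, (MulAut.conj g).toMonoidHom x * x⁻¹ ∈ Subgroup.center E := by
    intro g x
    rw [← hcomm]
    show g * x * g⁻¹ * x⁻¹ ∈ commutator E
    rw [← commutatorElement_def, commutator_def]
    exact Subgroup.commutator_mem_commutator (Subgroup.mem_top g) (Subgroup.mem_top x)
  -- the homomorphism g ↦ chi (conj g)
  let Ψ : E →* (E →* Subgroup.center E) :=
    { toFun := fun g => chi (MulAut.conj g).toMonoidHom (hin g)
      map_one' := by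
        ext x
        simp [chi]
      map_mul' := by
        intro g h
        ext x
        show g * h * x * (g * h)⁻¹ * x⁻¹ = (g * x * g⁻¹ * x⁻¹) * (h * x * h⁻¹ * x⁻¹)
        have hc : (h * x * h⁻¹ * x⁻¹) * (x * g⁻¹ * x⁻¹) = (x * g⁻¹ * x⁻¹) * (h * x * h⁻¹ * x⁻¹) :=
          (Subgroup.mem_center_iff.mp (hin h x) _).symm
        calc g * h * x * (g * h)⁻¹ * x⁻¹ = g * ((h * x * h⁻¹ * x⁻¹) * (x * g⁻¹ * x⁻¹)) := by group
          _ = g * ((x * g⁻¹ * x⁻¹) * (h * x * h⁻¹ * x⁻¹)) := by rw [hc]
          _ = _ := by group }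
  have hker : Ψ.ker = Subgroup.center E := by
    ext g
    rw [MonoidHom.mem_ker, Subgroup.mem_center_iff]
    constructor
    · intro h x
      have := DFunLike.congr_fun h x
      have h2 : g * x * g⁻¹ * x⁻¹ = 1 := congrArg Subtype.val this
      calc x * g = (g * x * g⁻¹ * x⁻¹) * x * g := by rw [h2, one_mul]
        _ = g * x := by group
    · intro h
      ext x
      show g * x * g⁻¹ * x⁻¹ = 1
      rw [← h x]; group
  -- counting
  have hcount : Nat.card (E →* Subgroup.center E) ≤ Nat.card (E ⧸ Ψ.ker) := by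
    refine (card_hom_le hcard).trans (le_of_eq ?_)
    show Nat.card (E ⧸ commutator E) = Nat.card (E ⧸ Ψ.ker)
    rw [← Subgroup.index_eq_card, ← Subgroup.index_eq_card, hker, hcomm]
  have : Finite (E →* Subgroup.center E) := by
    apply Finite.of_injective (fun f : E →* Subgroup.center E => (f : E → Subgroup.center E))
    exact DFunLike.coe_injective
  have hbij : Function.Bijective (QuotientGroup.kerLift Ψ) :=
    (QuotientGroup.kerLift_injective Ψ).bijective_of_nat_card_le hcount
  obtain ⟨q, hq⟩ := hbij.2 (chi φ.toMonoidHom hφ)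
  obtain ⟨g, rfl⟩ := QuotientGroup.mk_surjective q
  refine ⟨g, fun x => ?_⟩
  have h1 := DFunLike.congr_fun hq x
  have h2 : g * x * g⁻¹ * x⁻¹ = φ x * x⁻¹ := congrArg Subtype.val h1
  exact (mul_right_cancel h2).symm

end Cfsg.Agent.S5395
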