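import Cfsg.Statements.S5406
import Mathlib
import Cfsg.Agent.Lib.Helper4.MonsterConj

set_option autoImplicit false
open Cfsg

namespace Cfsg.Agent.S5406

open Cfsg.Agent.Lib.Conway Cfsg.Agent.Lib.Helper29 Cfsg.Agent.Lib.Helper4.LXF
open Cfsg.Agent.Lib.Helper4.C2C Cfsg.Agent.Lib.Helper4.MC

theorem trans_conj {G : Type*} [Group G] [Finite G] {z : G}
    {Q : Subgroup (Subgroup.centralizer ({z} : Set G))} [hQn : Q.Normal]
    (hS : IsExtraspecialCentralizerSetting z Q 12)
    (e : (Subgroup.centralizer ({z} : Set G)) ⧸ Q ≃* Spor.Co1)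
    (ψ : leechLattice → Q ⧸ Subgroup.center Q) (hψ : IsLeechModTwoIso Q e ψ) (xs xt : Q)
    (gs gt : G) (hgs : gs * z * gs⁻¹ = ((xs : Subgroup.centralizer ({z} : Set G)) : G))
    (hgt : gt * z * gt⁻¹ = ((xt : Subgroup.centralizer ({z} : Set G)) : G))
    (hnes : ((xs : Subgroup.centralizer ({z} : Set G)) : G) ≠ z)
    (hnet : ((xt : Subgroup.centralizer ({z} : Set G)) : G) ≠ z) :
    ∃ h ∈ Subgroup.centralizer ({z} : Set G),
      h * ((xs : Subgroup.centralizer ({z} : Set G)) : G) * h⁻¹ =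
        ((xt : Subgroup.centralizer ({z} : Set G)) : G) := by
  have hS' := hS
  have hψ' := hψ
  obtain ⟨hz, hF, hX, hcard, -⟩ := hS
  obtain ⟨hadd, hsurj, hker, hequiv⟩ := hψ
  have hzQ := z_mem_Q hF
  have hE := isE2_Q hz hX hzQ
  have hzz : z * z = 1 := by
    have := pow_orderOf_eq_one z
    rwa [hz, pow_two] at this
  obtain ⟨vs, hvs, hψs⟩ := fwd hS' e ψ hψ' xs gs hgs hnes
  obtain ⟨vt, hvt, hψt⟩ := fwd hS' e ψ hψ' xt gt hgt hnet
  obtain ⟨γ, hγ⟩ := trans8 vs vt hvs hvt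
  obtain ⟨hc, hhc⟩ := e.surjective (QuotientGroup.mk γ)
  obtain ⟨h, rfl⟩ := QuotientGroup.mk_surjective hc
  have h1 := hequiv h γ hhc.symm vs xs hψs
  rw [hγ, hψt] at h1
  have h2 := QuotientGroup.eq.mp h1
  rcases hE.all _ h2 with h3 | h3
  · have h4 := congrArg (fun q : Q => ((q : Subgroup.centralizer ({z} : Set G)) : G)) h3
    simp only [Subgroup.coe_mul, Subgroup.coe_inv, Subgroup.coe_one] at h4
    exact ⟨(h : G), h.2, (inv_mul_eq_one.mp h4).symm⟩
  · have h4 := congrArg (fun q : Q => ((q : Subgroup.centralizer ({z} : Set G)) : G)) h3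
    simp only [Subgroup.coe_mul, Subgroup.coe_inv] at h4
    have h5 : (h : G) * ((xs : Subgroup.centralizer ({z} : Set G)) : G) * (h : G)⁻¹ =
        ((xt : Subgroup.centralizer ({z} : Set G)) : G) * z := by
      calc (h : G) * ((xs : Subgroup.centralizer ({z} : Set G)) : G) * (h : G)⁻¹
          = ((xt : Subgroup.centralizer ({z} : Set G)) : G) *
            (((xt : Subgroup.centralizer ({z} : Set G)) : G)⁻¹ *
              ((h : G) * ((xs : Subgroup.centralizer ({z} : Set G)) : G) * (h : G)⁻¹)) := by group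
        _ = _ := by rw [h4]
    have hs'Q : (h : G) * ((xs : Subgroup.centralizer ({z} : Set G)) : G) * (h : G)⁻¹ ∈ Q1 Q :=
      mem_Q1.mpr ⟨⟨h * xs * h⁻¹, hQn.conj_mem _ xs.2 h⟩, rfl⟩
    have hs'ne : (h : G) * ((xs : Subgroup.centralizer ({z} : Set G)) : G) * (h : G)⁻¹ ≠ z := by
      intro h6
      apply hnes
      have hhz := comm_z_of_mem_cent h
      calc ((xs : Subgroup.centralizer ({z} : Set G)) : G)
          = (h : G)⁻¹ * ((h : G) * ((xs : Subgroup.centralizer ({z} : Set G)) : G) * (h : G)⁻¹) *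
            (h : G) := by group
        _ = (h : G)⁻¹ * z * (h : G) := by rw [h6]
        _ = (h : G)⁻¹ * (z * (h : G)) := by group
        _ = (h : G)⁻¹ * ((h : G) * z) := by rw [hhz]
        _ = z := by group
    have hs' : ((h : G) * gs) * z * ((h : G) * gs)⁻¹ =
        (h : G) * ((xs : Subgroup.centralizer ({z} : Set G)) : G) * (h : G)⁻¹ := by
      rw [← hgs]; group
    have P := pair_of_conj hz hF hX _ hs'Q hs'ne ((h : G) * gs) hs'
    obtain ⟨q1, hq1, hq1s, hq1z⟩ := P.exists_q1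
    have hq1C : q1 ∈ Subgroup.centralizer ({z} : Set G) :=
      Subgroup.mem_centralizer_singleton_iff.mpr hq1z
    refine ⟨q1 * (h : G), Subgroup.mul_mem _ hq1C h.2, ?_⟩
    have hx : ((xt : Subgroup.centralizer ({z} : Set G)) : G) =
        z * ((h : G) * ((xs : Subgroup.centralizer ({z} : Set G)) : G) * (h : G)⁻¹) := by
      rw [h5, comm_z_of_mem_cent (xt : Subgroup.centralizer ({z} : Set G)), ← mul_assoc, hzz,
        one_mul]
    rw [hx, ← hq1s]
    group

/-- Let G be a finite group of Monster type at the involution z with Q the extraspecial normal subgroup of order 2^25 of C = C_G(z) (so C/Q is identified with the first Conway group with Q modulo its centre the Leech lattice modulo 2, and z is not weakly closed in Q). Then C acts transitively by conjugation on the conjugates of z that lie in Q and differ from z. -/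
theorem result {G : Type*} [Group G] [Finite G] (z : G) (Q : Subgroup (Subgroup.centralizer ({z} : Set G))) [Q.Normal] (hM : Cfsg.IsOfMonsterType z Q) (s t : G) (hsQ : ∃ hsc : s ∈ Subgroup.centralizer ({z} : Set G), (⟨s, hsc⟩ : Subgroup.centralizer ({z} : Set G)) ∈ Q) (htQ : ∃ htc : t ∈ Subgroup.centralizer ({z} : Set G), (⟨t, htc⟩ : Subgroup.centralizer ({z} : Set G)) ∈ Q) (hs : IsConj z s) (ht : IsConj z t) (hs1 : s ≠ z) (ht1 : t ≠ z) : ∃ h ∈ Subgroup.centralizer ({z} : Set G), h * s * h⁻¹ = t := by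
  obtain ⟨hS, e, ψ, hψ⟩ := hM
  obtain ⟨hsc, hsQ⟩ := hsQ
  obtain ⟨htc, htQ⟩ := htQ
  obtain ⟨gs, hgs⟩ := isConj_iff.mp hs
  obtain ⟨gt, hgt⟩ := isConj_iff.mp ht
  exact trans_conj hS e ψ hψ ⟨⟨s, hsc⟩, hsQ⟩ ⟨⟨t, htc⟩, htQ⟩ gs gt hgs hgt hs1 ht1

end Cfsg.Agent.S5406
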