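import Cfsg.Statements.S5408
import Mathlib
import Cfsg.Agent.Lib.Helper4.MonsterPlus

set_option autoImplicit false
open Cfsg

namespace Cfsg.Agent.S5408

open Cfsg.Agent.Lib.Helper29 Cfsg.Agent.Lib.Helper4.MP

/-- Let G be a finite group of Monster type at the involution z with Q the extraspecial normal subgroup of order 2^25 of C = C_G(z) (so C/Q is identified with the first Conway group with Q modulo its centre the Leech lattice modulo 2, and z is not weakly closed in Q). Then Q is of plus type: it contains an elementary abelian subgroup of order 2^13. -/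
theorem result {G : Type*} [Group G] [Finite G] (z : G) (Q : Subgroup (Subgroup.centralizer ({z} : Set G))) [Q.Normal] (hM : Cfsg.IsOfMonsterType z Q) : ∃ E : Subgroup Q, Cfsg.IsElementaryAbelian 2 E ∧ Nat.card E = 2 ^ 13 := by
  obtain ⟨⟨-, -, hX, hcard, -⟩, e, ψ, hadd, hsurj, hker, hequiv⟩ := hM
  obtain ⟨z0, hE⟩ := IsE2.exists_of_card hX.2 (le_of_eq hX.1.2.2)
  have hcard' : Nat.card Q = 2 ^ 25 := by rw [hcard]
  refine exists_elemAb hE ψ hadd hsurj hker ?_ hcard'
  intro g v
  obtain ⟨hc, hhc⟩ := e.surjective (QuotientGroup.mk g)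
  obtain ⟨h, rfl⟩ := QuotientGroup.mk_surjective hc
  refine ⟨(ψ v).out, ⟨h * ((ψ v).out : Q) * h⁻¹,
    (inferInstance : Q.Normal).conj_mem _ (ψ v).out.2 h⟩, (QuotientGroup.out_eq' _).symm,
    hequiv h g hhc.symm v (ψ v).out (QuotientGroup.out_eq' _).symm, ?_⟩
  constructor
  · intro h1
    have h2 := congrArg Subtype.val h1
    apply Subtype.ext
    simp only [Subgroup.coe_mul, Subgroup.coe_one] at h2 ⊢
    have h3 : h * (((ψ v).out : Q) : Subgroup.centralizer ({z} : Set G)) * h⁻¹ *
        (h * (((ψ v).out : Q) : Subgroup.centralizer ({z} : Set G)) * h⁻¹) =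
        h * ((((ψ v).out : Q) : Subgroup.centralizer ({z} : Set G)) *
          (((ψ v).out : Q) : Subgroup.centralizer ({z} : Set G))) * h⁻¹ := by group
    rw [h3] at h2
    have h4 : h⁻¹ * (h * ((((ψ v).out : Q) : Subgroup.centralizer ({z} : Set G)) *
          (((ψ v).out : Q) : Subgroup.centralizer ({z} : Set G))) * h⁻¹) * h = h⁻¹ * 1 * h := by
      rw [h2]
    have h5 : h⁻¹ * (h * ((((ψ v).out : Q) : Subgroup.centralizer ({z} : Set G)) *
          (((ψ v).out : Q) : Subgroup.centralizer ({z} : Set G))) * h⁻¹) * h =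
        (((ψ v).out : Q) : Subgroup.centralizer ({z} : Set G)) *
          (((ψ v).out : Q) : Subgroup.centralizer ({z} : Set G)) := by group
    rw [h5] at h4
    rw [h4]; group
  · intro h1
    have h2 := congrArg Subtype.val h1
    apply Subtype.ext
    simp only [Subgroup.coe_mul, Subgroup.coe_one] at h2 ⊢
    have h3 : h * (((ψ v).out : Q) : Subgroup.centralizer ({z} : Set G)) * h⁻¹ *
        (h * (((ψ v).out : Q) : Subgroup.centralizer ({z} : Set G)) * h⁻¹) =
        h * ((((ψ v).out : Q) : Subgroup.centralizer ({z} : Set G)) *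
          (((ψ v).out : Q) : Subgroup.centralizer ({z} : Set G))) * h⁻¹ := by group
    rw [h3, h2]; group

end Cfsg.Agent.S5408
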