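import Cfsg.Statements.S5420
import Cfsg.Agent.Lib.Helper90.Basic

set_option autoImplicit false
open Cfsg

namespace Cfsg.Agent.S5420

open Cfsg.Agent.Lib.Helper90 in
/-- Let Q be an extraspecial 2-subgroup of the finite group G whose centralizer in G is its centre Z and which is normal in the centralizer of Z. If Z lies in the largest normal 2-subgroup of G, then Q is a large extraspecial 2-subgroup of G: it normalizes no non-trivial subgroup of G of odd order. -/
theorem result {G : Type*} [Group G] [Finite G] (Q : Subgroup G) (hL1 : Cfsg.IsExtraspecial 2 ↥Q) (hL2 : Subgroup.centralizer (Q : Set G) = ((Subgroup.center ↥Q).map Q.subtype)) (hL3 : Subgroup.centralizer (((Subgroup.center ↥Q).map Q.subtype) : Set G) ≤ Subgroup.normalizer (Q : Set G)) (hZ : ((Subgroup.center ↥Q).map Q.subtype) ≤ Cfsg.pCore 2 G) : Cfsg.IsLargeExtraspecial Q := by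
  refine ⟨hL1, hL2, hL3, ?_⟩
  intro K hodd hQK
  apply odd_normalized_trivial_of_centralizes Q hL1 hL2 hL3 K hodd hQK
  haveI : Fact (Nat.Prime 2) := ⟨Nat.prime_two⟩
  have hT2 : IsPGroup 2 (Cfsg.pCore 2 G) := pCore_isPGroup
  have hTn : (Cfsg.pCore 2 G).Normal := inferInstance
  have hcop : Nat.Coprime (Nat.card (Cfsg.pCore 2 G)) (Nat.card K) := by
    obtain ⟨n, hn⟩ := IsPGroup.iff_card.mp hT2
    rw [hn]
    exact Nat.Coprime.pow_left n (Nat.coprime_two_left.mpr hodd)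
  have hinf : Cfsg.pCore 2 G ⊓ K = ⊥ := (Subgroup.disjoint_of_coprime_natCard hcop).eq_bot
  intro k hk
  rw [Subgroup.mem_centralizer_iff]
  intro z hz
  have hzZ : z ∈ (Subgroup.center ↥Q).map Q.subtype := hz
  have hzQ : z ∈ Q := by
    obtain ⟨y, _, rfl⟩ := hzZ
    exact y.2
  have hzT : z ∈ Cfsg.pCore 2 G := hZ hzZ
  have h1 : z * k * z⁻¹ * k⁻¹ ∈ K := by
    have := (Subgroup.mem_normalizer_iff.mp (hQK hzQ) k).mp hk
    exact K.mul_mem this (K.inv_mem hk)
  have h2 : z * k * z⁻¹ * k⁻¹ ∈ Cfsg.pCore 2 G := by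
    have := hTn.conj_mem z⁻¹ ((Cfsg.pCore 2 G).inv_mem hzT) k
    have h3 : z * (k * z⁻¹ * k⁻¹) ∈ Cfsg.pCore 2 G := (Cfsg.pCore 2 G).mul_mem hzT this
    simpa [mul_assoc] using h3
  have h3 : z * k * z⁻¹ * k⁻¹ ∈ Cfsg.pCore 2 G ⊓ K := ⟨h2, h1⟩
  rw [hinf, Subgroup.mem_bot] at h3
  have h4 : z * k * z⁻¹ * k⁻¹ * k * z = k * z := by rw [h3]; simp
  simpa [mul_assoc] using h4

end Cfsg.Agent.S5420
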