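import Cfsg.Statements.S5421
import Cfsg.Agent.Lib.Helper90.Large
import Cfsg.Agent.Lib.Helper90.FourGroup

set_option autoImplicit false
open Cfsg


namespace Cfsg.Agent.S5421

open Cfsg.Agent.Lib.Helper90 in
open scoped commutatorElement in
/-- Let Q be an extraspecial 2-subgroup of the finite group G whose centralizer in G is its centre Z and which is normal in the centralizer of Z. If some involution b of Q outside Z has Z inside the largest normal 2-subgroup of the centralizer of b, then Q is a large extraspecial 2-subgroup of G. -/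
theorem result {G : Type*} [Group G] [Finite G] (Q : Subgroup G) (hL1 : Cfsg.IsExtraspecial 2 ↥Q) (hL2 : Subgroup.centralizer (Q : Set G) = ((Subgroup.center ↥Q).map Q.subtype)) (hL3 : Subgroup.centralizer (((Subgroup.center ↥Q).map Q.subtype) : Set G) ≤ Subgroup.normalizer (Q : Set G)) (b : G) (hbQ : b ∈ Q) (hbZ : b ∉ ((Subgroup.center ↥Q).map Q.subtype)) (hb : orderOf b = 2) (hZ : ((Subgroup.center ↥Q).map Q.subtype) ≤ (Cfsg.pCore 2 ↥(Subgroup.centralizer ({b} : Set G))).map (Subgroup.centralizer ({b} : Set G)).subtype) : Cfsg.IsLargeExtraspecial Q := by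
  have : Fact (Nat.Prime 2) := ⟨Nat.prime_two⟩
  refine ⟨hL1, hL2, hL3, ?_⟩
  intro K hodd hQK
  apply odd_normalized_trivial_of_centralizes Q hL1 hL2 hL3 K hodd hQK
  obtain ⟨z, hzZ, hz1, hzall⟩ := exists_center_generator Q hL1
  have hzQ : z ∈ Q := by
    obtain ⟨y, _, rfl⟩ := hzZ
    exact y.2
  -- z commutes with all of Q
  have hzcomm : ∀ q ∈ Q, q * z = z * q := by
    intro q hq
    obtain ⟨y, hy, rfl⟩ := hzZ
    have := Subgroup.mem_center_iff.mp hy ⟨q, hq⟩
    simpa using congrArg Subtype.val this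
  have hzz : z * z = 1 := by
    rcases hzall (z * z) (Subgroup.mul_mem _ hzZ hzZ) with h | h
    · exact h
    · exfalso; apply hz1
      calc z = z⁻¹ * (z * z) := by group
        _ = z⁻¹ * z := by rw [h]
        _ = 1 := by group
  have hbb : b * b = 1 := by
    have := pow_orderOf_eq_one b
    rwa [hb, sq] at this
  have hbz : b * z = z * b := hzcomm b hbQ
  -- it suffices that every element of K commutes with z
  suffices hK : ∀ k ∈ K, k * z = z * k by
    intro k hk
    rw [Subgroup.mem_centralizer_iff]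
    intro x hx
    rcases hzall x hx with h | h
    · rw [h]; simp
    · rw [h]; exact (hK k hk).symm
  -- C_K(b) centralizes z
  set Cb := Subgroup.centralizer ({b} : Set G) with hCb
  have hT2 : IsPGroup 2 (Cfsg.pCore 2 Cb) := pCore_isPGroup
  have hTn : (Cfsg.pCore 2 Cb).Normal := inferInstance
  have hT2' : IsPGroup 2 ((Cfsg.pCore 2 Cb).map Cb.subtype) := hT2.map _
  have hcop : Nat.Coprime (Nat.card ((Cfsg.pCore 2 Cb).map Cb.subtype)) (Nat.card K) := by
    obtain ⟨n, hn⟩ := IsPGroup.iff_card.mp hT2'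
    rw [hn]
    exact Nat.Coprime.pow_left n (Nat.coprime_two_left.mpr hodd)
  have hinf : (Cfsg.pCore 2 Cb).map Cb.subtype ⊓ K = ⊥ := (Subgroup.disjoint_of_coprime_natCard hcop).eq_bot
  have hCKb : ∀ k ∈ K, k * b = b * k → k * z = z * k := by
    intro k hk hkb
    have hkCb : k ∈ Cb := by
      rw [hCb, Subgroup.mem_centralizer_iff]
      intro y hy
      rw [Set.mem_singleton_iff.mp hy]; exact hkb.symm
    obtain ⟨ζ, hζ, hζz⟩ := hZ hzZ
    have h1 : z * k * z⁻¹ * k⁻¹ ∈ K := by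
      have := (Subgroup.mem_normalizer_iff.mp (hQK hzQ) k).mp hk
      exact K.mul_mem this (K.inv_mem hk)
    have h2 : z * k * z⁻¹ * k⁻¹ ∈ (Cfsg.pCore 2 Cb).map Cb.subtype := by
      have h3 := hTn.conj_mem ζ⁻¹ ((Cfsg.pCore 2 Cb).inv_mem hζ) ⟨k, hkCb⟩
      have h4 := (Cfsg.pCore 2 Cb).mul_mem hζ h3
      refine ⟨_, h4, ?_⟩
      have hζz' : (ζ : G) = z := hζz
      simp only [Subgroup.coe_subtype, Subgroup.coe_mul, Subgroup.coe_inv, hζz']
      group
    have h3 : z * k * z⁻¹ * k⁻¹ ∈ (Cfsg.pCore 2 Cb).map Cb.subtype ⊓ K := ⟨h2, h1⟩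
    rw [hinf, Subgroup.mem_bot] at h3
    have h4 : z * k * z⁻¹ * k⁻¹ * k * z = k * z := by rw [h3]; simp
    have h5 : z * k * z⁻¹ * k⁻¹ * k * z = z * k := by group
    rw [← h4, h5]
  -- b * z is a Q-conjugate of b
  obtain ⟨q, hq, hqb⟩ : ∃ q ∈ Q, q * b * q⁻¹ = b * z := by
    by_contra hcon
    apply hbZ
    -- b commutes with all of Q
    have hbcomm : ∀ q ∈ Q, q * b = b * q := by
      intro q hq
      by_contra hne
      apply hcon
      refine ⟨q, hq, ?_⟩
      have hcomm : (⁅(⟨q, hq⟩ : Q), (⟨b, hbQ⟩ : Q)⁆ : Q) ∈ commutator Q :=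
        Subgroup.commutator_mem_commutator (Subgroup.mem_top _) (Subgroup.mem_top _)
      rw [hL1.1.2.2] at hcomm
      have h1 : q * b * q⁻¹ * b⁻¹ ∈ (Subgroup.center ↥Q).map Q.subtype := by
        refine ⟨_, hcomm, ?_⟩
        simp [commutatorElement_def]
      rcases hzall _ h1 with h | h
      · exfalso; apply hne
        calc q * b = (q * b * q⁻¹ * b⁻¹) * b * q := by group
          _ = b * q := by rw [h, one_mul]
      · calc q * b * q⁻¹ = (q * b * q⁻¹ * b⁻¹) * b := by group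
          _ = z * b := by rw [h]
          _ = b * z := hbz.symm
    refine ⟨⟨b, hbQ⟩, ?_, rfl⟩
    show (⟨b, hbQ⟩ : Q) ∈ Subgroup.center ↥Q
    rw [Subgroup.mem_center_iff]
    intro y
    apply Subtype.ext
    simpa using hbcomm y y.2
  have hCKbz : ∀ k ∈ K, k * (b * z) = (b * z) * k → k * z = z * k := by
    intro k hk hkbz
    have hk' : q⁻¹ * k * q ∈ K := conj_mem_of_mem_normalizer' K (hQK hq) hk
    have h1 : (q⁻¹ * k * q) * b = b * (q⁻¹ * k * q) := by
      have e : b = q⁻¹ * (b * z) * q := by rw [← hqb]; group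
      calc (q⁻¹ * k * q) * b = q⁻¹ * k * q * (q⁻¹ * (b * z) * q) := by rw [← e]
        _ = q⁻¹ * (k * (b * z)) * q := by group
        _ = q⁻¹ * ((b * z) * k) * q := by rw [hkbz]
        _ = (q⁻¹ * (b * z) * q) * (q⁻¹ * k * q) := by group
        _ = b * (q⁻¹ * k * q) := by rw [← e]
    have h2 := hCKb _ hk' h1
    have hqz : q * z = z * q := hzcomm q hq
    have hqz' : q⁻¹ * z = z * q⁻¹ := by
      calc q⁻¹ * z = q⁻¹ * (z * q) * q⁻¹ := by group
        _ = q⁻¹ * (q * z) * q⁻¹ := by rw [hqz]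
        _ = z * q⁻¹ := by group
    calc k * z = q * ((q⁻¹ * k * q) * z) * q⁻¹ * (q * z⁻¹ * q⁻¹ * z) := by group
      _ = q * (z * (q⁻¹ * k * q)) * q⁻¹ * (q * z⁻¹ * q⁻¹ * z) := by rw [h2]
      _ = (q * z * q⁻¹) * k * (q * z⁻¹ * q⁻¹ * z) := by group
      _ = (z * q * q⁻¹) * k * (q * z⁻¹ * q⁻¹ * z) := by rw [hqz]
      _ = z * k * (q * (z⁻¹ * q⁻¹ * z)) := by group
      _ = z * k * (q * (z⁻¹ * (z * q⁻¹))) := by rw [← hqz']; group
      _ = z * k := by group
  intro k hk
  obtain ⟨x, y, w, hxK, hxb, hyK, hybz, hwK, hwz, rfl⟩ :=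
    four_group_factor K hodd b z hbb hzz hbz (hQK hbQ) (hQK hzQ) k hk
  have e1 := hCKb x hxK hxb
  have e2 := hCKbz y hyK hybz
  calc x * y * w * z = x * y * (w * z) := by group
    _ = x * y * (z * w) := by rw [hwz]
    _ = x * (y * z) * w := by group
    _ = x * (z * y) * w := by rw [e2]
    _ = (x * z) * y * w := by group
    _ = (z * x) * y * w := by rw [e1]
    _ = z * (x * y * w) := by group

end Cfsg.Agent.S5421
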