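import Cfsg.Statements.S5422
import Mathlib
import Cfsg.Agent.Lib.Helper4.LargeExtraP10

set_option autoImplicit false
open Cfsg

namespace Cfsg.Agent.S5422

/-- Let Q be an extraspecial 2-subgroup of the finite group G whose centralizer in G is its centre Z and which is normal in the centralizer of Z; suppose Q has width at least 2 (order 2^(2w+1) with w ≥ 2) and g is an element of G not normalizing Z with g Z g⁻¹ inside Q. Then Z lies inside g Q g⁻¹; writing V for the subgroup generated by Z and g Z g⁻¹ (a four-group), the normalizer of V induces on V its full automorphism group, that is, the centralizer of V has index 6 in the normalizer of V; and Q is a large extraspecial 2-subgroup of G. -/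
theorem result {G : Type*} [Group G] [Finite G] (Q : Subgroup G) (hL1 : Cfsg.IsExtraspecial 2 ↥Q) (hL2 : Subgroup.centralizer (Q : Set G) = ((Subgroup.center ↥Q).map Q.subtype)) (hL3 : Subgroup.centralizer (((Subgroup.center ↥Q).map Q.subtype) : Set G) ≤ Subgroup.normalizer (Q : Set G)) (w : ℕ) (hw : 2 ≤ w) (hcard : Nat.card ↥Q = 2 ^ (2 * w + 1)) (g : G) (hg : g ∉ Subgroup.normalizer (((Subgroup.center ↥Q).map Q.subtype) : Set G)) (hZg : (((Subgroup.center ↥Q).map Q.subtype)).map (MulAut.conj g).toMonoidHom ≤ Q) : ((Subgroup.center ↥Q).map Q.subtype) ≤ (Q).map (MulAut.conj g).toMonoidHom ∧ (Subgroup.centralizer ((((Subgroup.center ↥Q).map Q.subtype) ⊔ (((Subgroup.center ↥Q).map Q.subtype)).map (MulAut.conj g).toMonoidHom : Subgroup G) : Set G)).relIndex (Subgroup.normalizer ((((Subgroup.center ↥Q).map Q.subtype) ⊔ (((Subgroup.center ↥Q).map Q.subtype)).map (MulAut.conj g).toMonoidHom : Subgroup G) : Set G)) = 6 ∧ Cfsg.IsLargeExtraspecial Q := by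
  classical
  have hc2 : Nat.card (Subgroup.center ↥Q) = 2 := hL1.2
  -- a generator of the centre
  have hnt : Nontrivial (Subgroup.center ↥Q) := by
    have : 1 < Nat.card (Subgroup.center ↥Q) := by rw [hc2]; norm_num
    exact (Finite.one_lt_card_iff_nontrivial).1 this
  obtain ⟨c, hc⟩ := exists_ne (1 : Subgroup.center ↥Q)
  have hoc : orderOf c = 2 := by
    have h1 : orderOf c ∣ 2 := by rw [← hc2]; exact orderOf_dvd_natCard c
    rcases (Nat.dvd_prime Nat.prime_two).1 h1 with h | h
    · exact absurd (orderOf_eq_one_iff.1 h) hc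
    · exact h
  have htop : Subgroup.zpowers c = ⊤ := by
    apply Subgroup.eq_top_of_card_eq
    rw [Nat.card_zpowers, hoc, hc2]
  set z : G := ((c : ↥Q) : G) with hzdef
  have hz2 : orderOf z = 2 := by
    rw [hzdef, Subgroup.orderOf_coe, Subgroup.orderOf_coe, hoc]
  have hz : (Subgroup.center ↥Q).map Q.subtype = Subgroup.zpowers z := by
    ext x
    constructor
    · rintro ⟨y, hy, rfl⟩
      have : (⟨y, hy⟩ : Subgroup.center ↥Q) ∈ Subgroup.zpowers c := by rw [htop]; trivial
      obtain ⟨k, hk⟩ := this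
      refine ⟨k, ?_⟩
      have hk' : c ^ k = ⟨y, hy⟩ := hk
      have h1 : ((c ^ k : Subgroup.center ↥Q) : ↥Q) = y := by rw [hk']
      show z ^ k = ((y : ↥Q) : G)
      rw [← h1, hzdef]
      simp
    · rintro ⟨k, rfl⟩
      refine ⟨((c ^ k : Subgroup.center ↥Q) : ↥Q), (c ^ k).2, ?_⟩
      simp [hzdef]
  have hgH : g ∉ Subgroup.centralizer ({z} : Set G) := by
    intro h
    apply hg
    rw [hz]
    apply Subgroup.centralizer_le_normalizer
    rw [Cfsg.Agent.Lib.Helper4.LXF.centralizer_zpowers]
    exact h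
  have hgQ : g * z * g⁻¹ ∈ Q := by
    apply hZg
    refine ⟨z, ?_, by simp⟩
    rw [hz]; exact Subgroup.mem_zpowers z
  obtain ⟨P, hself, hconj⟩ :=
    Cfsg.Agent.Lib.Helper4.LXF.pair_of_large Q hL1 hL2 hL3 z hz hz2 g hgH hgQ
  set Qf := Cfsg.Agent.Lib.Helper4.LXF.famOf Q z with hQf
  refine ⟨?_, ?_, hL1, hL2, hL3, ?_⟩
  · rw [hz, Subgroup.zpowers_le, ← hconj]
    exact P.m12
  · have eV : ((Subgroup.center ↥Q).map Q.subtype ⊔
        ((Subgroup.center ↥Q).map Q.subtype).map (MulAut.conj g).toMonoidHom : Subgroup G) =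
        Cfsg.Agent.Lib.Helper4.LXF.Pair.VV z (g * z * g⁻¹) := by
      unfold Cfsg.Agent.Lib.Helper4.LXF.Pair.VV
      rw [hz, Subgroup.zpowers_eq_closure, MonoidHom.map_closure, ← Subgroup.closure_union]
      congr 1
      ext x
      simp [Set.mem_insert_iff, or_comm]
    rw [eV]
    exact P.relIndex_eq
  · intro K hodd hK
    apply P.odd_trivial K hodd
    rw [hself]
    exact hK

end Cfsg.Agent.S5422
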