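import Cfsg.Statements.S5423
import Cfsg.Agent.Lib.Helper48.ElemAbTwo
import Cfsg.Agent.Lib.Helper29.ExtraTwoBuild

set_option autoImplicit false
open Cfsg

namespace Cfsg.Agent.S5423

open Cfsg.Agent.Lib.Helper48 in
/-- Let G be a finite group that is the split extension of an elementary abelian normal subgroup U of order 2^(n+1), n ≥ 1, by its full automorphism group: U has a complement M in G whose conjugation action on U is faithful and realizes every automorphism of U. Let Z be a subgroup of U of order 2 and Q the largest normal 2-subgroup of the centralizer C of Z. Then Q is extraspecial of order 2^(2n+1) with an elementary abelian subgroup of order 2^(n+1) (plus type), Q is a large extraspecial 2-subgroup of G, and C is the split extension of Q by the general linear group of degree n over the field with two elements. -/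
theorem result {G : Type*} [Group G] [Finite G] (n : ℕ) (hn : 1 ≤ n) (U M : Subgroup G) [U.Normal] (hU : Cfsg.IsElementaryAbelian 2 U) (hUcard : Nat.card ↥U = 2 ^ (n + 1)) (hUM : U ⊓ M = ⊥) (hUM' : U ⊔ M = ⊤) (hfaith : ∀ m ∈ M, (∀ u ∈ U, m * u * m⁻¹ = u) → m = 1) (hfull : ∀ φ : ↥U ≃* ↥U, ∃ m ∈ M, ∀ u : ↥U, ((φ u : ↥U) : G) = m * u * m⁻¹) (Z : Subgroup G) (hZU : Z ≤ U) (hZ : Nat.card ↥Z = 2) (Q : Subgroup G) (hQ : Q = (Cfsg.pCore 2 ↥(Subgroup.centralizer (Z : Set G))).map (Subgroup.centralizer (Z : Set G)).subtype) : Cfsg.IsExtraspecial 2 ↥Q ∧ Nat.card ↥Q = 2 ^ (2 * n + 1) ∧ (∃ E : Subgroup G, E ≤ Q ∧ Cfsg.IsElementaryAbelian 2 E ∧ Nat.card ↥E = 2 ^ (n + 1)) ∧ Cfsg.IsLargeExtraspecial Q ∧ ∃ K : Subgroup G, K ≤ Subgroup.centralizer (Z : Set G) ∧ Q ⊓ K = ⊥ ∧ Q ⊔ K = Subgroup.centralizer (Z : Set G) ∧ Nonempty (↥K ≃* Matrix.GeneralLinearGroup (Fin n) (ZMod 2)) := by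
  classical
  have hf2 : Fact (Nat.Prime 2) := ⟨Nat.prime_two⟩
  -- basic facts on `U`
  have hcomm : ∀ a ∈ U, ∀ b ∈ U, a * b = b * a := by
    intro a ha b hb
    have := hU.1.is_comm.comm (⟨a, ha⟩ : ↥U) ⟨b, hb⟩
    exact congrArg Subtype.val this
  have hsq : ∀ a ∈ U, a * a = 1 := by
    intro a ha
    have := hU.2 a ha
    rwa [pow_two] at this
  have hinvU : ∀ a ∈ U, a⁻¹ = a := fun a ha => inv_eq_of_mul_eq_one_right (hsq a ha)
  have hV : EA2.Hyp ↥U :=
    ⟨fun a b => Subtype.ext (hcomm a a.2 b b.2), fun a => Subtype.ext (hsq a a.2)⟩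
  set cj : G →* MulAut ↥U := MulAut.conjNormal with hcjdef
  have hcj : ∀ (g : G) (u : ↥U), ((cj g u : ↥U) : G) = g * u * g⁻¹ :=
    fun g u => MulAut.conjNormal_apply g u
  have hcjU : ∀ u ∈ U, cj u = 1 := by
    intro u hu
    ext v
    rw [hcj, MulAut.one_apply, hcomm u hu v v.2, mul_assoc, mul_inv_cancel, mul_one]
  have hdecomp : ∀ g : G, ∃ u ∈ U, ∃ m ∈ M, g = u * m := by
    intro g
    have hg : g ∈ U ⊔ M := by rw [hUM']; exact Subgroup.mem_top g
    obtain ⟨u, hu, m, hm, e⟩ := Subgroup.mem_sup_of_normal_left.mp hg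
    exact ⟨u, hu, m, hm, e.symm⟩
  have hinjM : ∀ m ∈ M, cj m = 1 → m = 1 := by
    intro m hm e
    apply hfaith m hm
    intro u hu
    have := hcj m ⟨u, hu⟩
    rw [e, MulAut.one_apply] at this
    exact this.symm
  have hker : ∀ g : G, cj g = 1 → g ∈ U := by
    intro g e
    obtain ⟨u, hu, m, hm, rfl⟩ := hdecomp g
    rw [map_mul, hcjU u hu, one_mul] at e
    rw [hinjM m hm e, mul_one]
    exact hu
  have hsurj : ∀ φ : MulAut ↥U, ∃ m ∈ M, cj m = φ := by
    intro φ
    obtain ⟨m, hm, e⟩ := hfull φ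
    refine ⟨m, hm, ?_⟩
    ext u
    rw [hcj, e]
  have hinjM' : ∀ m ∈ M, ∀ m' ∈ M, cj m = cj m' → m = m' := by
    intro m hm m' hm' e
    have : cj (m * m'⁻¹) = 1 := by rw [map_mul, map_inv, e, mul_inv_cancel]
    have := hinjM _ (M.mul_mem hm (M.inv_mem hm')) this
    exact mul_inv_eq_one.mp this
  -- the involution `z`
  obtain ⟨z0, hz0, hz0u⟩ := (Nat.card_eq_two_iff' (1 : ↥Z)).mp hZ
  set z : G := (z0 : G) with hzdef
  have hzZ : z ∈ Z := z0.2
  have hzU : z ∈ U := hZU hzZ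
  have hz1 : z ≠ 1 := fun e => hz0 (Subtype.ext e)
  have hZmem : ∀ x ∈ Z, x = 1 ∨ x = z := by
    intro x hx
    by_cases hx1 : x = 1
    · exact Or.inl hx1
    · right
      have := hz0u ⟨x, hx⟩ (fun e => hx1 (congrArg Subtype.val e))
      exact congrArg Subtype.val this
  have hzsq : z * z = 1 := hsq z hzU
  set zV : ↥U := ⟨z, hzU⟩ with hzVdef
  have hzV1 : zV ≠ 1 := fun e => hz1 (congrArg Subtype.val e)
  set C : Subgroup G := Subgroup.centralizer (Z : Set G) with hCdef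
  have hC : ∀ g : G, g ∈ C ↔ cj g zV = zV := by
    intro g
    constructor
    · intro hg
      apply Subtype.ext
      rw [hcj]
      have := (Subgroup.mem_centralizer_iff.mp hg) z hzZ
      show g * z * g⁻¹ = z
      rw [← this, mul_assoc, mul_inv_cancel, mul_one]
    · intro hg
      have h1 : g * z * g⁻¹ = z := by
        have := congrArg Subtype.val hg
        rwa [hcj] at this
      rw [hCdef, Subgroup.mem_centralizer_iff]
      intro x hx
      rcases hZmem x hx with rfl | rfl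
      · rw [one_mul, mul_one]
      · calc z * g = (g * z * g⁻¹) * g := by rw [h1]
          _ = g * z := by group
  have hC' : ∀ g : G, g ∈ C ↔ g * z = z * g := by
    intro g
    rw [hC]
    constructor
    · intro hg
      have h1 : g * z * g⁻¹ = z := by
        have := congrArg Subtype.val hg
        rwa [hcj] at this
      calc g * z = (g * z * g⁻¹) * g := by group
        _ = z * g := by rw [h1]
    · intro hg
      apply Subtype.ext
      rw [hcj]
      show g * z * g⁻¹ = z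
      rw [hg, mul_assoc, mul_inv_cancel, mul_one]
  -- a hyperplane avoiding `z`
  obtain ⟨H, -, hzH, hH⟩ := EA2.exists_hyper hV ⊥ zV (fun e => hzV1 (Subgroup.mem_bot.mp e))
  set TA := EA2.TA hV zV hzV1 with hTAdef
  set KA := EA2.KA zV H with hKAdef
  set Q0 : Subgroup G := TA.comap cj with hQ0def
  set K : Subgroup G := M ⊓ KA.comap cj with hKdef
  have hQ0mem : ∀ g : G, g ∈ Q0 ↔ cj g ∈ TA := fun g => Iff.rfl
  have hKmem : ∀ g : G, g ∈ K ↔ g ∈ M ∧ cj g ∈ KA := fun g => Iff.rfl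
  have hQ0C : Q0 ≤ C := by
    intro g hg
    rw [hC]
    exact EA2.TA_fix hV zV hzV1 hg
  have hKC : K ≤ C := by
    intro g hg
    rw [hC]
    exact hg.2.1
  have hUQ0 : U ≤ Q0 := by
    intro u hu
    rw [hQ0mem, hcjU u hu]
    exact TA.one_mem
  have hQ0conj : ∀ c ∈ C, ∀ q ∈ Q0, c * q * c⁻¹ ∈ Q0 := by
    intro c hc q hq
    rw [hQ0mem, map_mul, map_mul, map_inv]
    exact EA2.TA_conj hV zV hzV1 hq ((hC c).mp hc)
  have hQ0sq : ∀ q ∈ Q0, q * q ∈ U := by
    intro q hq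
    apply hker
    rw [map_mul]
    exact EA2.TA_sq hV zV hzV1 hq
  have hQ0four : ∀ q ∈ Q0, q ^ 4 = 1 := by
    intro q hq
    have h2 : q ^ 4 = (q * q) * (q * q) := by
      rw [show (4 : ℕ) = 2 + 2 from rfl, pow_add, pow_two]
    rw [h2]
    exact hsq _ (hQ0sq q hq)
  -- `Q0 ≤ Q`
  have hQmem : ∀ g : G, g ∈ Q ↔ ∃ hg : g ∈ C, (⟨g, hg⟩ : ↥C) ∈ Cfsg.pCore 2 ↥C := by
    intro g
    rw [hQ]
    constructor
    · rintro ⟨x, hx, rfl⟩
      exact ⟨x.2, hx⟩
    · rintro ⟨hg, hx⟩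
      exact ⟨⟨g, hg⟩, hx, rfl⟩
  have hQC : Q ≤ C := by
    intro g hg
    obtain ⟨h1, -⟩ := (hQmem g).mp hg
    exact h1
  have hpCn : (Cfsg.pCore 2 ↥C).Normal := Subgroup.sSup_normal _ (fun _ h => h.1)
  have hpC2 : IsPGroup 2 (Cfsg.pCore 2 ↥C) :=
    Sylow.sSup_of_normal _ (fun _ h => h.2) (fun _ h => h.1)
  have hQconj : ∀ c ∈ C, ∀ q ∈ Q, c * q * c⁻¹ ∈ Q := by
    intro c hc q hq
    obtain ⟨h1, h2⟩ := (hQmem q).mp hq
    rw [hQmem]
    refine ⟨C.mul_mem (C.mul_mem hc h1) (C.inv_mem hc), ?_⟩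
    exact hpCn.conj_mem _ h2 ⟨c, hc⟩
  have hQ2 : ∀ q ∈ Q, ∃ k : ℕ, q ^ 2 ^ k = 1 := by
    intro q hq
    obtain ⟨h1, h2⟩ := (hQmem q).mp hq
    obtain ⟨k, hk⟩ := hpC2 ⟨⟨q, h1⟩, h2⟩
    refine ⟨k, ?_⟩
    have := congrArg (fun x : ↥(Cfsg.pCore 2 ↥C) => ((x : ↥C) : G)) hk
    simpa using this
  have hQ0Q : Q0 ≤ Q := by
    have hn : (Q0.subgroupOf C).Normal := by
      constructor
      intro x hx c
      rw [Subgroup.mem_subgroupOf] at hx ⊢
      exact hQ0conj c c.2 x hx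
    have hp : IsPGroup 2 (Q0.subgroupOf C) := by
      rintro ⟨x, hx⟩
      refine ⟨2, ?_⟩
      apply Subtype.ext
      apply Subtype.ext
      have := hQ0four x (Subgroup.mem_subgroupOf.mp hx)
      simpa using this
    have hle : Q0.subgroupOf C ≤ Cfsg.pCore 2 ↥C := le_sSup ⟨hn, hp⟩
    intro q hq
    rw [hQmem]
    exact ⟨hQ0C hq, hle (Subgroup.mem_subgroupOf.mpr hq)⟩
  -- `C = Q0 K`
  have hCQ0K : ∀ g ∈ C, ∃ q ∈ Q0, ∃ k ∈ K, g = q * k := by
    intro g hg
    obtain ⟨κ, hκ, hφκ⟩ := EA2.exists_KA_mul hV zV hzV1 hH hzH (cj g) ((hC g).mp hg)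
    obtain ⟨k, hkM, hk⟩ := hsurj κ
    refine ⟨g * k⁻¹, ?_, k, ⟨hkM, ?_⟩, by group⟩
    · rw [hQ0mem, map_mul, map_inv, hk]
      exact hφκ
    · show cj k ∈ KA
      rw [hk]; exact hκ
  -- `Q ∩ K = 1`
  have hQK : Q ⊓ K = ⊥ := by
    have hP2 : IsPGroup 2 ↥(Q ⊓ K) := by
      rintro ⟨g, hg⟩
      obtain ⟨k, hk⟩ := hQ2 g hg.1
      exact ⟨k, Subtype.ext (by simpa using hk)⟩
    have hPbot : (Q ⊓ K).map cj = ⊥ := by
      apply EA2.eq_bot_of_normal_two hV zV hH hzH _ _ (hP2.map cj)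
      · rintro κ hκ _ ⟨g, hg, rfl⟩
        obtain ⟨k, hkM, hk⟩ := hsurj κ
        have hkK : k ∈ K := ⟨hkM, by show cj k ∈ KA; rw [hk]; exact hκ⟩
        refine ⟨k⁻¹ * g * k, ⟨?_, K.mul_mem (K.mul_mem (K.inv_mem hkK) hg.2) hkK⟩, ?_⟩
        · have := hQconj k⁻¹ (C.inv_mem (hKC hkK)) g hg.1
          rwa [inv_inv] at this
        · rw [map_mul, map_mul, map_inv, hk]
      · rintro _ ⟨g, hg, rfl⟩
        exact hg.2.2
    rw [eq_bot_iff]
    intro g hg
    have h1 : cj g ∈ (Q ⊓ K).map cj := ⟨g, hg, rfl⟩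
    rw [hPbot, Subgroup.mem_bot] at h1
    have h2 : g ∈ U ⊓ M := ⟨hker g h1, hg.2.1⟩
    rw [hUM] at h2
    exact h2
  have hQeq : Q = Q0 := by
    apply le_antisymm _ hQ0Q
    intro q hq
    obtain ⟨q0, hq0, k, hk, e⟩ := hCQ0K q (hQC hq)
    have hkQ : k ∈ Q := by
      have : k = q0⁻¹ * q := by rw [e]; group
      rw [this]
      exact Q.mul_mem (Q.inv_mem (hQ0Q hq0)) hq
    have hk1 : k ∈ Q ⊓ K := ⟨hkQ, hk⟩
    rw [hQK, Subgroup.mem_bot] at hk1
    rw [e, hk1, mul_one]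
    exact hq0
  have hQKC : Q ⊔ K = C := by
    apply le_antisymm (sup_le hQC hKC)
    intro g hg
    obtain ⟨q0, hq0, k, hk, e⟩ := hCQ0K g hg
    rw [e]
    exact Subgroup.mul_mem_sup (hQ0Q hq0) hk
  -- from now on only `Q`
  have hQmem' : ∀ g : G, g ∈ Q ↔ cj g ∈ TA := by
    intro g
    rw [hQeq]
    exact Iff.rfl
  have hUQ : U ≤ Q := hUQ0.trans hQ0Q
  have hzQ : z ∈ Q := hUQ hzU
  have hzcomm : ∀ g ∈ C, g * z = z * g := fun g hg => (hC' g).mp hg
  have hact : ∀ t ∈ Q, ∀ u ∈ U, t * u * t⁻¹ = u ∨ t * u * t⁻¹ = u * z := by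
    intro t ht u hu
    have h1 := (hQmem' t).mp ht
    rcases h1 ⟨u, hu⟩ with e | e
    · left
      have := congrArg Subtype.val e
      rwa [hcj] at this
    · right
      have := congrArg Subtype.val e
      rwa [hcj] at this
  set T : Subgroup G := M ⊓ Q with hTdef
  have hTcomm : ∀ t ∈ T, ∀ t' ∈ T, t * t' = t' * t := by
    intro t ht t' ht'
    apply hinjM' _ (M.mul_mem ht.1 ht'.1) _ (M.mul_mem ht'.1 ht.1)
    rw [map_mul, map_mul]
    exact EA2.TA_comm hV zV hzV1 ((hQmem' t).mp ht.2) ((hQmem' t').mp ht'.2)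
  have hTsq : ∀ t ∈ T, t * t = 1 := by
    intro t ht
    apply hinjM _ (M.mul_mem ht.1 ht.1)
    rw [map_mul]
    exact EA2.TA_sq hV zV hzV1 ((hQmem' t).mp ht.2)
  have hQdecomp : ∀ q ∈ Q, ∃ u ∈ U, ∃ t ∈ T, q = u * t := by
    intro q hq
    obtain ⟨u, hu, m, hm, e⟩ := hdecomp q
    refine ⟨u, hu, m, ⟨hm, ?_⟩, e⟩
    have : m = u⁻¹ * q := by rw [e]; group
    rw [this]
    exact Q.mul_mem (Q.inv_mem (hUQ hu)) hq
  have hzz : ∀ x ∈ U, z * (x * z) = x := by
    intro x hx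
    rw [hcomm x hx z hzU, ← mul_assoc, hzsq, one_mul]
  have hkey : ∀ a ∈ Q, ∀ b ∈ Q, a * b = b * a ∨ a * b = z * (b * a) := by
    intro a ha b hb
    obtain ⟨u, hu, t, ht, rfl⟩ := hQdecomp a ha
    obtain ⟨u', hu', t', ht', rfl⟩ := hQdecomp b hb
    have e1 : u * t * (u' * t') = u * (t * u' * t⁻¹) * (t * t') := by group
    have e2 : u' * t' * (u * t) = u' * (t' * u * t'⁻¹) * (t * t') := by
      rw [hTcomm t ht t' ht']; group
    rw [e1, e2]
    rcases hact t ht.2 u' hu' with f1 | f1 <;> rcases hact t' ht'.2 u hu with f2 | f2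
    · left
      rw [f1, f2, hcomm u hu u' hu']
    · right
      rw [f1, f2]
      generalize t * t' = X
      symm
      calc z * (u' * (u * z) * X) = (z * ((u' * u) * z)) * X := by simp only [mul_assoc]
        _ = (u' * u) * X := by rw [hzz _ (U.mul_mem hu' hu)]
        _ = u * u' * X := by rw [hcomm u' hu' u hu]
    · right
      rw [f1, f2]
      generalize t * t' = X
      calc u * (u' * z) * X = ((u * u') * z) * X := by simp only [mul_assoc]
        _ = (z * (u * u')) * X := by rw [hcomm _ (U.mul_mem hu hu') z hzU]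
        _ = z * (u' * u * X) := by rw [hcomm u hu u' hu']; simp only [mul_assoc]
    · left
      rw [f1, f2, ← mul_assoc u, ← mul_assoc u', hcomm u hu u' hu']
  -- an element of `U` outside `Z`
  have hexv : ∃ v : ↥U, v ≠ 1 ∧ v ≠ zV := by
    by_contra hcon
    push Not at hcon
    have h2 : Nat.card ↥U = 2 := by
      rw [Nat.card_eq_two_iff' (1 : ↥U)]
      refine ⟨zV, hzV1, fun y hy => hcon y hy⟩
    rw [hUcard] at h2
    have : 2 ^ (n + 1) ≥ 2 ^ 2 := Nat.pow_le_pow_right (by norm_num) (by omega)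
    omega
  have hmove : ∀ v : ↥U, v ≠ 1 → v ≠ zV → ∃ t ∈ T, t * (v : G) * t⁻¹ = v * z := by
    intro v hv1 hvz
    obtain ⟨τ, hτ, hτv⟩ := EA2.exists_TA_move hV zV hzV1 hv1 hvz
    obtain ⟨t, htM, ht⟩ := hsurj τ
    refine ⟨t, ⟨htM, (hQmem' t).mpr (by rw [ht]; exact hτ)⟩, ?_⟩
    have := congrArg Subtype.val hτv
    rw [← ht, hcj] at this
    exact this
  set ζ : ↥Q := ⟨z, hzQ⟩ with hζdef
  have hE2 : Lib.Helper29.IsE2 ↥Q ζ := by
    refine ⟨?_, ?_, ?_, ?_⟩
    · rw [Subgroup.mem_center_iff]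
      intro g
      apply Subtype.ext
      exact hzcomm g (hQC g.2)
    · intro e
      exact hz1 (congrArg Subtype.val e)
    · intro w hw
      rw [Subgroup.mem_center_iff] at hw
      have hwc : ∀ q ∈ Q, q * (w : G) = w * q := by
        intro q hq
        exact congrArg Subtype.val (hw ⟨q, hq⟩)
      have hwU : (w : G) ∈ U := by
        apply hker
        ext v
        rw [hcj, MulAut.one_apply, ← hwc v (hUQ v.2), mul_assoc, mul_inv_cancel, mul_one]
      by_contra hcon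
      push Not at hcon
      have h1 : (⟨w, hwU⟩ : ↥U) ≠ 1 := by
        intro e
        apply hcon.1
        apply Subtype.ext
        have := congrArg Subtype.val e
        exact this
      have h2 : (⟨w, hwU⟩ : ↥U) ≠ zV := by
        intro e
        apply hcon.2
        apply Subtype.ext
        have := congrArg Subtype.val e
        exact this
      obtain ⟨t, ht, htw⟩ := hmove ⟨w, hwU⟩ h1 h2
      have h3 : t * (w : G) * t⁻¹ = w := by
        rw [hwc t ht.2, mul_assoc, mul_inv_cancel, mul_one]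
      have h4 : (w : G) = w * z := by
        have : ((⟨w, hwU⟩ : ↥U) : G) = w := rfl
        rw [this] at htw
        rw [← htw, h3]
      have h5 : (w : G) * 1 = w * z := by rw [mul_one]; exact h4
      exact hz1 (mul_left_cancel h5).symm
    · rw [commutator_def, Subgroup.commutator_le]
      intro a _ b _
      rw [commutatorElement_def]
      have hab : a * b * a⁻¹ * b⁻¹ = 1 ∨ a * b * a⁻¹ * b⁻¹ = ζ := by
        rcases hkey a a.2 b b.2 with e | e
        · left
          apply Subtype.ext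
          show (a : G) * b * (a : G)⁻¹ * (b : G)⁻¹ = 1
          rw [e]; group
        · right
          apply Subtype.ext
          show (a : G) * b * (a : G)⁻¹ * (b : G)⁻¹ = z
          rw [e]; group
      rcases hab with e | e
      · rw [e]; exact Subgroup.one_mem _
      · rw [e, Subgroup.mem_center_iff]
        intro g
        apply Subtype.ext
        exact hzcomm g (hQC g.2)
  have hna : ∃ x y : ↥Q, x * y ≠ y * x := by
    obtain ⟨v, hv1, hvz⟩ := hexv
    obtain ⟨t, ht, htv⟩ := hmove v hv1 hvz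
    refine ⟨⟨t, ht.2⟩, ⟨v, hUQ v.2⟩, ?_⟩
    intro e
    have e' : t * (v : G) = v * t := congrArg Subtype.val e
    rw [e', mul_assoc, mul_inv_cancel, mul_one] at htv
    have h5 : (v : G) * 1 = v * z := by rw [mul_one]; exact htv
    exact hz1 (mul_left_cancel h5).symm
  have hextra : Cfsg.IsExtraspecial 2 ↥Q := hE2.isExtraspecial hna
  -- the order of `Q`
  have hTQ : T ≤ Q := inf_le_right
  have hcardQ : Nat.card ↥Q = Nat.card ↥U * Nat.card ↥T := by
    let f : ↥U × ↥T → ↥Q := fun p => ⟨(p.1 : G) * (p.2 : G), Q.mul_mem (hUQ p.1.2) (hTQ p.2.2)⟩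
    have hinj : Function.Injective f := by
      rintro ⟨u, t⟩ ⟨u', t'⟩ e
      have e' : (u : G) * t = u' * t' := congrArg Subtype.val e
      have h1 : (u' : G)⁻¹ * u = t' * (t : G)⁻¹ := by
        calc (u' : G)⁻¹ * u = (u' : G)⁻¹ * (u * t) * (t : G)⁻¹ := by group
          _ = t' * (t : G)⁻¹ := by rw [e']; group
      have h2 : (u' : G)⁻¹ * u ∈ U ⊓ M :=
        ⟨U.mul_mem (U.inv_mem u'.2) u.2, by rw [h1]; exact M.mul_mem t'.2.1 (M.inv_mem t.2.1)⟩
      rw [hUM, Subgroup.mem_bot] at h2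
      have h3 : (u : G) = u' := (inv_mul_eq_one.mp h2).symm
      have h4 : (t : G) = t' := by
        rw [h3] at e'
        exact mul_left_cancel e'
      exact Prod.ext (Subtype.ext h3) (Subtype.ext h4)
    have hsurjf : Function.Surjective f := by
      rintro ⟨q, hq⟩
      obtain ⟨u, hu, t, ht, e⟩ := hQdecomp q hq
      exact ⟨(⟨u, hu⟩, ⟨t, ht⟩), Subtype.ext e.symm⟩
    rw [← Nat.card_prod]
    exact (Nat.card_congr (Equiv.ofBijective f ⟨hinj, hsurjf⟩)).symm
  -- first bound, from `U`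
  have hUEA : Lib.Helper29.IsEA2 (U.subgroupOf Q) := by
    constructor
    · intro a ha b hb
      exact Subtype.ext (hcomm _ (Subgroup.mem_subgroupOf.mp ha) _ (Subgroup.mem_subgroupOf.mp hb))
    · intro a ha
      exact Subtype.ext (hsq _ (Subgroup.mem_subgroupOf.mp ha))
  have hb1 := (Lib.Helper29.IsE2.rank_upper _ ↥Q ζ hE2 rfl (U.subgroupOf Q) hUEA).1
  rw [Nat.card_congr (Subgroup.subgroupOfEquivOfLe hUQ).toEquiv] at hb1
  -- second bound, from `T × Z`
  have hTC : T ≤ C := hTQ.trans hQC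
  have hTnorm : T ≤ Subgroup.normalizer (Z : Set G) := by
    intro t ht
    rw [Subgroup.mem_normalizer_iff]
    intro x
    have hcx : ∀ y ∈ Z, t * y * t⁻¹ = y := by
      intro y hy
      have := (Subgroup.mem_centralizer_iff.mp (hTC ht)) y hy
      rw [← this, mul_assoc, mul_inv_cancel, mul_one]
    constructor
    · intro hx
      rw [hcx x hx]; exact hx
    · intro hx
      have := hcx _ hx
      have h2 : x = t⁻¹ * (t * x * t⁻¹) * t := by group
      have h3 : t * x * t⁻¹ = x := by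
        have h4 : t * (t * x * t⁻¹) * t⁻¹ = t * x * t⁻¹ := this
        have h5 : t * x * t⁻¹ = t⁻¹ * (t * (t * x * t⁻¹) * t⁻¹) * t := by group
        rw [h5, h4]; group
      rw [← h3]; exact hx
  set A : Subgroup G := T ⊔ Z with hAdef
  have hAmem : ∀ a ∈ A, ∃ t ∈ T, ∃ y ∈ Z, a = t * y := by
    intro a ha
    have h1 : a ∈ ((T ⊔ Z : Subgroup G) : Set G) := ha
    rw [Subgroup.coe_mul_of_left_le_normalizer_right T Z hTnorm, Set.mem_mul] at h1
    obtain ⟨t, ht, y, hy, e⟩ := h1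
    exact ⟨t, ht, y, hy, e.symm⟩
  have hZC : ∀ y ∈ Z, ∀ g ∈ C, g * y = y * g := by
    intro y hy g hg
    exact ((Subgroup.mem_centralizer_iff.mp hg) y hy).symm
  have hZQ : Z ≤ Q := hZU.trans hUQ
  have hAQ : A ≤ Q := sup_le hTQ hZQ
  have hAEA : Lib.Helper29.IsEA2 (A.subgroupOf Q) := by
    constructor
    · intro a ha b hb
      apply Subtype.ext
      obtain ⟨t, ht, y, hy, e1⟩ := hAmem _ (Subgroup.mem_subgroupOf.mp ha)
      obtain ⟨t', ht', y', hy', e2⟩ := hAmem _ (Subgroup.mem_subgroupOf.mp hb)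
      show (a : G) * (b : G) = b * a
      rw [e1, e2]
      have c1 := hZC y hy t' (hTC ht')
      have c2 := hZC y' hy' t (hTC ht)
      have c3 := hcomm y (hZU hy) y' (hZU hy')
      have c4 := hTcomm t ht t' ht'
      calc t * y * (t' * y') = t * (y * t') * y' := by group
        _ = t * (t' * y) * y' := by rw [c1]
        _ = (t * t') * (y * y') := by group
        _ = (t' * t) * (y' * y) := by rw [c4, c3]
        _ = t' * (t * y') * y := by group
        _ = t' * (y' * t) * y := by rw [c2]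
        _ = t' * y' * (t * y) := by group
    · intro a ha
      apply Subtype.ext
      obtain ⟨t, ht, y, hy, e1⟩ := hAmem _ (Subgroup.mem_subgroupOf.mp ha)
      show (a : G) * (a : G) = 1
      rw [e1]
      have c1 := hZC y hy t (hTC ht)
      calc t * y * (t * y) = t * (y * t) * y := by group
        _ = t * (t * y) * y := by rw [c1]
        _ = (t * t) * (y * y) := by group
        _ = 1 := by rw [hTsq t ht, hsq y (hZU hy), one_mul]
  have hb2 := (Lib.Helper29.IsE2.rank_upper _ ↥Q ζ hE2 rfl (A.subgroupOf Q) hAEA).1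
  rw [Nat.card_congr (Subgroup.subgroupOfEquivOfLe hAQ).toEquiv] at hb2
  have hTA : T ≤ A := le_sup_left
  have hzT : z ∉ T := by
    intro hzT
    have : z ∈ U ⊓ M := ⟨hzU, hzT.1⟩
    rw [hUM, Subgroup.mem_bot] at this
    exact hz1 this
  have hAT : 2 * Nat.card ↥T ≤ Nat.card ↥A := by
    obtain ⟨k, hk⟩ := Subgroup.card_dvd_of_le hTA
    have hApos : 0 < Nat.card ↥A := Nat.card_pos
    have hk0 : k ≠ 0 := by
      rintro rfl
      rw [mul_zero] at hk
      omega
    have hk1 : k ≠ 1 := by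
      rintro rfl
      rw [mul_one] at hk
      have := Subgroup.eq_of_le_of_card_ge hTA (le_of_eq hk)
      apply hzT
      rw [this]
      exact (le_sup_right : Z ≤ T ⊔ Z) hzZ
    have hk2 : 2 ≤ k := by omega
    rw [hk, mul_comm]
    exact Nat.mul_le_mul_left _ hk2
  have hTpos : 0 < Nat.card ↥T := Nat.card_pos
  have hcardT : Nat.card ↥T = 2 ^ n := by
    rw [hcardQ, hUcard] at hb1 hb2
    have h1 : 2 ^ (n + 1) ≤ 2 * Nat.card ↥T := by
      have h0 : 2 ^ (n + 1) * 2 ^ (n + 1) ≤ 2 ^ (n + 1) * (2 * Nat.card ↥T) := by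
        calc 2 ^ (n + 1) * 2 ^ (n + 1) = (2 ^ (n + 1)) ^ 2 := (pow_two _).symm
          _ ≤ 2 * (2 ^ (n + 1) * Nat.card ↥T) := hb1
          _ = 2 ^ (n + 1) * (2 * Nat.card ↥T) := by ring
      exact Nat.le_of_mul_le_mul_left h0 (by positivity)
    have h2 : 2 * Nat.card ↥T ≤ 2 ^ (n + 1) := by
      have h0 : (2 * Nat.card ↥T) * (2 * Nat.card ↥T) ≤ (2 * Nat.card ↥T) * 2 ^ (n + 1) := by
        calc (2 * Nat.card ↥T) * (2 * Nat.card ↥T) ≤ Nat.card ↥A * Nat.card ↥A :=
              Nat.mul_le_mul hAT hAT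
          _ = Nat.card ↥A ^ 2 := (pow_two _).symm
          _ ≤ 2 * (2 ^ (n + 1) * Nat.card ↥T) := hb2
          _ = (2 * Nat.card ↥T) * 2 ^ (n + 1) := by ring
      exact Nat.le_of_mul_le_mul_left h0 (by omega)
    have h3 : 2 * Nat.card ↥T = 2 * 2 ^ n := by
      rw [pow_succ] at h1 h2
      omega
    omega
  have hcardQ' : Nat.card ↥Q = 2 ^ (2 * n + 1) := by
    rw [hcardQ, hUcard, hcardT, ← pow_add]
    congr 1
    omega
  -- `Q` is large
  have hcentQ : Subgroup.centralizer (Q : Set G) = (Subgroup.center ↥Q).map Q.subtype := by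
    ext x
    constructor
    · intro hx
      have hxc : ∀ q ∈ Q, q * x = x * q := fun q hq => (Subgroup.mem_centralizer_iff.mp hx) q hq
      have hxU : x ∈ U := by
        apply hker
        ext v
        rw [hcj, MulAut.one_apply, ← hxc v (hUQ v.2), mul_assoc, mul_inv_cancel, mul_one]
      refine ⟨⟨x, hUQ hxU⟩, ?_, rfl⟩
      rw [SetLike.mem_coe, Subgroup.mem_center_iff]
      intro g
      exact Subtype.ext (hxc g g.2)
    · rintro ⟨w, hw, rfl⟩
      rw [SetLike.mem_coe, Subgroup.mem_center_iff] at hw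
      rw [Subgroup.mem_centralizer_iff]
      intro q hq
      exact congrArg Subtype.val (hw ⟨q, hq⟩)
  have hnormQ : Subgroup.centralizer (((Subgroup.center ↥Q).map Q.subtype : Subgroup G) : Set G)
      ≤ Subgroup.normalizer (Q : Set G) := by
    intro g hg
    have hzc : z ∈ (Subgroup.center ↥Q).map Q.subtype := ⟨ζ, hE2.mem, rfl⟩
    have hgC : g ∈ C := by
      rw [hC']
      exact ((Subgroup.mem_centralizer_iff.mp hg) z hzc).symm
    rw [Subgroup.mem_normalizer_iff]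
    intro x
    constructor
    · intro hx
      exact hQconj g hgC x hx
    · intro hx
      have := hQconj g⁻¹ (C.inv_mem hgC) _ hx
      have h2 : g⁻¹ * (g * x * g⁻¹) * g⁻¹⁻¹ = x := by group
      rwa [h2] at this
  have hodd : ∀ K' : Subgroup G, Odd (Nat.card ↥K') →
      Q ≤ Subgroup.normalizer (K' : Set G) → K' = ⊥ := by
    intro K' hK'odd hK'norm
    have hodd1 : ∀ x ∈ K', x * x = 1 → x = 1 := by
      intro x hx hxx
      obtain ⟨m, hm⟩ := hK'odd
      have h1 : (⟨x, hx⟩ : ↥K') ^ Nat.card ↥K' = 1 := pow_card_eq_one'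
      have h2 : x ^ Nat.card ↥K' = 1 := by
        have := congrArg Subtype.val h1
        rwa [Subgroup.coe_pow, Subgroup.coe_one] at this
      rw [hm, pow_succ, pow_mul, pow_two, hxx, one_pow, one_mul] at h2
      exact h2
    have hKU : ∀ k ∈ K', ∀ u ∈ U, k * u = u * k := by
      intro k hk u hu
      have h1 : k * u * k⁻¹ * u⁻¹ ∈ U :=
        U.mul_mem (‹U.Normal›.conj_mem u hu k) (U.inv_mem hu)
      have h2 : k * u * k⁻¹ * u⁻¹ ∈ K' := by
        have hun : u ∈ Subgroup.normalizer (K' : Set G) := hK'norm (hUQ hu)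
        have h3 : u * k⁻¹ * u⁻¹ ∈ K' :=
          (Subgroup.mem_normalizer_iff.mp hun k⁻¹).mp (K'.inv_mem hk)
        have h4 : k * u * k⁻¹ * u⁻¹ = k * (u * k⁻¹ * u⁻¹) := by group
        rw [h4]
        exact K'.mul_mem hk h3
      have h5 := hodd1 _ h2 (hsq _ h1)
      calc k * u = (k * u * k⁻¹ * u⁻¹) * (u * k) := by group
        _ = u * k := by rw [h5, one_mul]
    rw [eq_bot_iff]
    intro k hk
    rw [Subgroup.mem_bot]
    have hkU : k ∈ U := by
      apply hker
      ext v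
      rw [hcj, MulAut.one_apply, hKU k hk v v.2, mul_assoc, mul_inv_cancel, mul_one]
    exact hodd1 k hk (hsq k hkU)
  have hlarge : Cfsg.IsLargeExtraspecial Q := ⟨hextra, hcentQ, hnormQ, hodd⟩
  -- the complement `K`
  have hKiso : Nonempty (↥K ≃* Matrix.GeneralLinearGroup (Fin n) (ZMod 2)) := by
    let f : ↥K →* ↥KA := (cj.comp K.subtype).codRestrict KA (fun k => k.2.2)
    have hf : ∀ k : ↥K, ((f k : ↥KA) : MulAut ↥U) = cj k := fun k => rfl
    have hfinj : Function.Injective f := by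
      rw [injective_iff_map_eq_one]
      intro k hk
      have h1 : cj (k : G) = 1 := by rw [← hf, hk]; rfl
      exact Subtype.ext (hinjM _ k.2.1 h1)
    have hfsurj : Function.Surjective f := by
      rintro ⟨κ, hκ⟩
      obtain ⟨k, hkM, hk⟩ := hsurj κ
      refine ⟨⟨k, hkM, by show cj k ∈ KA; rw [hk]; exact hκ⟩, ?_⟩
      apply Subtype.ext
      rw [hf]
      exact hk
    have e1 : ↥K ≃* ↥KA := MulEquiv.ofBijective f ⟨hfinj, hfsurj⟩
    have e2 : ↥KA ≃* MulAut ↥H := EA2.equivKA hV hH zV hzH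
    obtain ⟨e3⟩ := EA2.mulAut_equiv_GL (hV.subgroup H) n (hH.card_eq hzH n hUcard)
    exact ⟨(e1.trans e2).trans e3⟩
  exact ⟨hextra, hcardQ', ⟨U, hUQ, hU, hUcard⟩, hlarge, K, hKC, hQK, hQKC, hKiso⟩

end Cfsg.Agent.S5423
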