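import Cfsg.Statements.S5425
import Cfsg.Agent.S2133
import Cfsg.Agent.S5424
import Cfsg.Agent.S5394
import Cfsg.Agent.S5421
import Cfsg.Agent.S0381
import Cfsg.Agent.Lib.Helper7.M24Six
import Cfsg.Agent.Lib.Helper7.CentTransport

set_option autoImplicit false
open Cfsg

namespace Cfsg.Agent.S5425

open Cfsg.Agent.Lib.Helper7 Cfsg.Agent.Lib.Helper7.IsoT

/-! ### the pointwise stabiliser of a set of points, inside the group of the code -/

/-- the pointwise stabiliser of a finset of points, as a subgroup of `↥M24`. -/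
def EE (o : Finset GolayPt) : Subgroup ↥M24 :=
  (M24 ⊓ fixingSubgroup (Equiv.Perm GolayPt) (o : Set GolayPt)).subgroupOf M24

theorem mem_EE (o : Finset GolayPt) (g : ↥M24) :
    g ∈ EE o ↔ ∀ p ∈ o, (g : Equiv.Perm GolayPt) p = p := by
  rw [EE, Subgroup.mem_subgroupOf, Subgroup.mem_inf, mem_fixingSubgroup_iff]
  constructor
  · rintro ⟨-, h⟩ p hp
    exact h p (Finset.mem_coe.2 hp)
  · intro h
    exact ⟨g.2, fun p hp => h p (Finset.mem_coe.1 hp)⟩

theorem card_EE {o : Finset GolayPt} (ho : o ∈ octads) : Nat.card ↥(EE o) = 16 := by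
  rw [← (Cfsg.Agent.S0381.result o ho).1]
  exact Nat.card_congr (Subgroup.subgroupOfEquivOfLe inf_le_left).toEquiv

theorem sq_EE {o : Finset GolayPt} (ho : o ∈ octads) (g : ↥M24) (hg : g ∈ EE o) : g * g = 1 := by
  apply Subtype.ext
  exact (Cfsg.Agent.S0381.result o ho).2 g.1 (Subgroup.mem_subgroupOf.1 hg)

theorem comm_EE {o : Finset GolayPt} (ho : o ∈ octads) (a b : ↥M24) (ha : a ∈ EE o)
    (hb : b ∈ EE o) : a * b = b * a := by
  have ha' : a⁻¹ = a := inv_eq_of_mul_eq_one_left (sq_EE ho a ha)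
  have hb' : b⁻¹ = b := inv_eq_of_mul_eq_one_left (sq_EE ho b hb)
  have hab : (a * b)⁻¹ = a * b :=
    inv_eq_of_mul_eq_one_left (sq_EE ho (a * b) ((EE o).mul_mem ha hb))
  calc a * b = (a * b)⁻¹ := hab.symm
    _ = b⁻¹ * a⁻¹ := mul_inv_rev a b
    _ = b * a := by rw [ha', hb']

section fixed

variable {o : Finset GolayPt} {w : ↥M24}

theorem self_mem_EE (hfix : ∀ p, (w : Equiv.Perm GolayPt) p = p ↔ p ∈ o) : w ∈ EE o :=
  (mem_EE o w).2 (fun p hp => (hfix p).2 hp)

theorem EE_le_cent (ho : o ∈ octads) (hfix : ∀ p, (w : Equiv.Perm GolayPt) p = p ↔ p ∈ o) :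
    EE o ≤ Subgroup.centralizer ({w} : Set ↥M24) := by
  intro g hg
  rw [Subgroup.mem_centralizer_singleton_iff]
  exact comm_EE ho g w hg (self_mem_EE hfix)

theorem EE_conj (hfix : ∀ p, (w : Equiv.Perm GolayPt) p = p ↔ p ∈ o) :
    ∀ c ∈ Subgroup.centralizer ({w} : Set ↥M24), ∀ g ∈ EE o, c * g * c⁻¹ ∈ EE o := by
  intro c hc g hg
  rw [Subgroup.mem_centralizer_singleton_iff] at hc
  rw [mem_EE] at hg ⊢
  intro p hp
  have hc' : (c : Equiv.Perm GolayPt) * (w : Equiv.Perm GolayPt) =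
      (w : Equiv.Perm GolayPt) * (c : Equiv.Perm GolayPt) := by
    have := congrArg Subtype.val hc
    simpa using this
  have h1 : (c : Equiv.Perm GolayPt)⁻¹ p ∈ o := by
    rw [← hfix]
    have h2 : (w : Equiv.Perm GolayPt) ((c : Equiv.Perm GolayPt)⁻¹ p) =
        (c : Equiv.Perm GolayPt)⁻¹ ((c : Equiv.Perm GolayPt) ((w : Equiv.Perm GolayPt)
          ((c : Equiv.Perm GolayPt)⁻¹ p))) := by simp
    rw [h2, ← Equiv.Perm.mul_apply (c : Equiv.Perm GolayPt), hc', Equiv.Perm.mul_apply]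
    simp [(hfix p).2 hp]
  have h3 := hg _ h1
  show ((c * g * c⁻¹ : ↥M24) : Equiv.Perm GolayPt) p = p
  rw [Subgroup.coe_mul, Subgroup.coe_mul, Subgroup.coe_inv, Equiv.Perm.mul_apply,
    Equiv.Perm.mul_apply, h3]
  simp

theorem EE_le_Qc (ho : o ∈ octads) (hfix : ∀ p, (w : Equiv.Perm GolayPt) p = p ↔ p ∈ o) :
    EE o ≤ Qc w :=
  le_Qc_of_normal w (EE o) (EE_le_cent ho hfix) (EE_conj hfix)
    (IsPGroup.of_card (n := 4) (by rw [card_EE ho]; norm_num))

end fixed

/-- nonidentity elements of the pointwise stabiliser of an octad fix no further point. -/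
theorem fix_of_mem_EE {o : Finset GolayPt} (ho : o ∈ octads) {u : ↥M24} (hu : u ∈ EE o)
    (hu1 : u ≠ 1) : ∀ p, (u : Equiv.Perm GolayPt) p = p ↔ p ∈ o := by
  intro p
  refine ⟨fun hp => ?_, fun hp => (mem_EE o u).1 hu p hp⟩
  by_contra hpo
  apply hu1
  obtain ⟨t, hto, ht5⟩ := Finset.exists_subset_card_eq (show 5 ≤ o.card by rw [ho.2]; norm_num)
  have h3 := card_fixL6_eq_3 t.toList (by rw [Finset.length_toList, ht5]) t.nodup_toList p ho
    (fun x hx => hto (Finset.mem_toList.1 hx)) hpo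
  have hmem : (u : Equiv.Perm GolayPt) ∈ fixL (p :: t.toList) := by
    rw [mem_fixL]
    refine ⟨u.2, ?_⟩
    intro x hx
    rw [List.mem_cons] at hx
    rcases hx with rfl | hx
    · exact hp
    · exact (mem_EE o u).1 hu x (hto (Finset.mem_toList.1 hx))
  have hdvd := Subgroup.orderOf_dvd_natCard (fixL (p :: t.toList)) hmem
  rw [h3] at hdvd
  have h2 : orderOf (u : Equiv.Perm GolayPt) ∣ 2 := by
    apply orderOf_dvd_of_pow_eq_one
    rw [pow_two]
    exact congrArg Subtype.val (sq_EE ho u hu)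
  have h1 : orderOf (u : Equiv.Perm GolayPt) ∣ Nat.gcd 3 2 := Nat.dvd_gcd hdvd h2
  have h1' : orderOf (u : Equiv.Perm GolayPt) = 1 := Nat.dvd_one.1 (by simpa using h1)
  apply Subtype.ext
  exact orderOf_eq_one_iff.1 h1'

/-! ### the isomorphism with the centraliser of a transvection -/

open Cfsg.Agent.Lib.Helper93.Golay Cfsg.Agent.Lib.Helper93.Cent2A
  Cfsg.Agent.Lib.Helper93.CentSL5 in
theorem iso_zM (s : Matrix.SpecialLinearGroup (Fin 5) (ZMod 2))
    (hs : (s : Matrix (Fin 5) (Fin 5) (ZMod 2)) = Matrix.transvection 0 1 1) :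
    Nonempty (↥(Subgroup.centralizer ({Cfsg.Agent.S2133.zM} : Set ↥M24)) ≃*
      ↥(Subgroup.centralizer ({s} : Set (Matrix.SpecialLinearGroup (Fin 5) (ZMod 2))))) := by
  have hle : Nat.card ↥(Subgroup.centralizer
      ({s} : Set (Matrix.SpecialLinearGroup (Fin 5) (ZMod 2)))) ≤
      Nat.card ↥(centM (permC Zc)) :=
    le_trans (card_centralizer_le (s := s) hs) card_centM_ge
  have hbij := (Cfsg.Agent.S2133.Psi_injective s hs).bijective_of_nat_card_le hle
  exact ⟨Cfsg.Agent.S2133.centEquiv.trans (MulEquiv.ofBijective (Cfsg.Agent.S2133.Psi s hs) hbij)⟩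

open Cfsg.Agent.Lib.Helper93.Golay Cfsg.Agent.Lib.Helper93.Cent2A in
theorem iso_z (z : ↥M24) (hz : orderOf z = 2) {o : Finset GolayPt} (ho : o ∈ octads)
    (hfix : ∀ p, (z : Equiv.Perm GolayPt) p = p ↔ p ∈ o)
    (s : Matrix.SpecialLinearGroup (Fin 5) (ZMod 2))
    (hs : (s : Matrix (Fin 5) (Fin 5) (ZMod 2)) = Matrix.transvection 0 1 1) :
    Nonempty (↥(Subgroup.centralizer ({z} : Set ↥M24)) ≃*
      ↥(Subgroup.centralizer ({s} : Set (Matrix.SpecialLinearGroup (Fin 5) (ZMod 2))))) := by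
  obtain ⟨e0⟩ := iso_zM s hs
  have h4 := Cfsg.Agent.S5394.result.2.2.2
  obtain ⟨p0, hp0⟩ : ∃ p, p ∈ O0 := Finset.card_pos.1 (by rw [O0_mem.2]; norm_num)
  obtain ⟨p1, hp1⟩ : ∃ p, p ∈ o := Finset.card_pos.1 (by rw [ho.2]; norm_num)
  obtain ⟨k, hk, hkz⟩ := h4 (permC Zc) Cfsg.Agent.S2133.zM.2 (z : Equiv.Perm GolayPt) z.2
    (by
      have := Cfsg.Agent.S2133.orderOf_zM
      rwa [← Subgroup.orderOf_coe] at this)
    (by rwa [Subgroup.orderOf_coe])
    ⟨fun h => absurd ((Zc_fix_iff p0).2 hp0) (h p0), fun h => absurd ((hfix p1).2 hp1) (h p1)⟩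
  have hconj : (⟨k, hk⟩ : ↥M24) * Cfsg.Agent.S2133.zM * (⟨k, hk⟩ : ↥M24)⁻¹ = z :=
    Subtype.ext hkz
  exact ⟨(centConj _ _ _ hconj).symm.trans e0⟩

/-- In the Mathieu group of degree 24 (the automorphism group of the length-24 binary Golay code, acting on the 24 coordinates), let z be an involution whose fixed points form an octad (the support of a code word of weight 8), and let Q be the largest normal 2-subgroup of the centralizer C of z. Then Q is extraspecial of order 2^7 with an elementary abelian subgroup of order 16 (plus type), Q is a large extraspecial 2-subgroup, and C is the split extension of Q by the special linear group of degree 3 over the field with two elements. -/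
theorem result (z : ↥Cfsg.M24) (hz : orderOf z = 2) (hfix : (Finset.univ.filter fun p : Cfsg.GolayPt => (z : Equiv.Perm Cfsg.GolayPt) p = p) ∈ Cfsg.octads) (Q : Subgroup ↥Cfsg.M24) (hQ : Q = (Cfsg.pCore 2 ↥(Subgroup.centralizer ({z} : Set ↥Cfsg.M24))).map (Subgroup.centralizer ({z} : Set ↥Cfsg.M24)).subtype) : Cfsg.IsExtraspecial 2 ↥Q ∧ Nat.card ↥Q = 2 ^ 7 ∧ (∃ E : Subgroup ↥Cfsg.M24, E ≤ Q ∧ Cfsg.IsElementaryAbelian 2 E ∧ Nat.card ↥E = 2 ^ 4) ∧ Cfsg.IsLargeExtraspecial Q ∧ ∃ K : Subgroup ↥Cfsg.M24, K ≤ Subgroup.centralizer ({z} : Set ↥Cfsg.M24) ∧ Q ⊓ K = ⊥ ∧ Q ⊔ K = Subgroup.centralizer ({z} : Set ↥Cfsg.M24) ∧ Nonempty (↥K ≃* Matrix.SpecialLinearGroup (Fin 3) (ZMod 2)) := by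
  subst hQ
  have hfix' : ∀ p, (z : Equiv.Perm GolayPt) p = p ↔
      p ∈ Finset.univ.filter (fun p : GolayPt => (z : Equiv.Perm GolayPt) p = p) := by
    intro p
    simp
  generalize Finset.univ.filter (fun p : GolayPt => (z : Equiv.Perm GolayPt) p = p) = o
    at hfix hfix'
  -- the transvection
  obtain ⟨s, hs⟩ : ∃ s : Matrix.SpecialLinearGroup (Fin 5) (ZMod 2),
      (s : Matrix (Fin 5) (Fin 5) (ZMod 2)) = Matrix.transvection 0 1 1 :=
    ⟨⟨Matrix.transvection 0 1 1, Matrix.det_transvection_of_ne 0 1 (by decide) 1⟩, rfl⟩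
  obtain ⟨e⟩ := iso_z z hz hfix hfix' s hs
  obtain ⟨hE5, hc5, -, hL5, K5, hK5le, hK5inf, hK5sup, ⟨eK5⟩⟩ :=
    Cfsg.Agent.S5424.result 3 (by norm_num) s hs (Qc s) rfl
  have hC5 := hL5.2.1
  -- the elementary abelian group of order 16
  have hEQ : EE o ≤ Qc z := EE_le_Qc hfix hfix'
  have hzE : z ∈ EE o := self_mem_EE hfix'
  have hzQ : z ∈ Qc z := hEQ hzE
  have hE1 : IsExtraspecial 2 ↥(Qc z) := isExtraspecial_Qc e hE5
  have hcard : Nat.card ↥(Qc z) = 2 ^ 7 := by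
    rw [card_Qc e, hc5]
  have hL2 := centralizer_Qc e hzQ hC5
  have hL3 := cent_le_normalizer_Qc hzQ
  have hz1 : z ≠ 1 := by
    intro h
    rw [h, orderOf_one] at hz
    omega
  -- a further involution
  obtain ⟨u, huE, hu1, huz⟩ : ∃ u ∈ EE o, u ≠ 1 ∧ u ≠ z := by
    by_contra hcon
    push Not at hcon
    have hsub : ((EE o : Subgroup ↥M24) : Set ↥M24) ⊆ {1, z} := by
      intro u hu
      by_cases h1 : u = 1
      · exact Or.inl h1
      · exact Or.inr (hcon u hu h1)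
    have hle := Set.ncard_le_ncard hsub (Set.toFinite _)
    have h16 : ((EE o : Subgroup ↥M24) : Set ↥M24).ncard = 16 := by
      rw [← card_EE hfix]
      exact (Nat.card_coe_set_eq _).symm
    have h2 : ({1, z} : Set ↥M24).ncard ≤ 2 := Set.ncard_insert_le _ _ |>.trans (by simp)
    omega
  have hufix := fix_of_mem_EE hfix huE hu1
  have hEQu : EE o ≤ Qc u := EE_le_Qc hfix hufix
  have hu2 : orderOf u = 2 :=
    orderOf_eq_prime (by rw [pow_two]; exact sq_EE hfix u huE) hu1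
  -- the centre of `Qc z`
  have hcen : ∀ x ∈ (Subgroup.center ↥(Qc z)).map (Qc z).subtype, x = 1 ∨ x = z := by
    rintro x ⟨q, hq, rfl⟩
    have h2 := hE1.2
    have hzc : (⟨z, hzQ⟩ : ↥(Qc z)) ∈ Subgroup.center ↥(Qc z) := by
      rw [Subgroup.mem_center_iff]
      intro q'
      apply Subtype.ext
      have := Qc_le z q'.2
      rw [Subgroup.mem_centralizer_singleton_iff] at this
      exact this
    obtain ⟨y, -, hy⟩ := (Nat.card_eq_two_iff' (1 : ↥(Subgroup.center ↥(Qc z)))).1 h2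
    by_cases hq1 : (⟨q, hq⟩ : ↥(Subgroup.center ↥(Qc z))) = 1
    · left
      have := congrArg (fun t : ↥(Subgroup.center ↥(Qc z)) => ((t : ↥(Qc z)) : ↥M24)) hq1
      exact this
    · right
      have hzne : (⟨⟨z, hzQ⟩, hzc⟩ : ↥(Subgroup.center ↥(Qc z))) ≠ 1 := by
        intro h
        apply hz1
        have := congrArg (fun t : ↥(Subgroup.center ↥(Qc z)) => ((t : ↥(Qc z)) : ↥M24)) h
        exact this
      have h3 := (hy _ hq1).trans (hy _ hzne).symm
      have := congrArg (fun t : ↥(Subgroup.center ↥(Qc z)) => ((t : ↥(Qc z)) : ↥M24)) h3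
      exact this
  have hLarge : IsLargeExtraspecial (Qc z) :=
    Cfsg.Agent.S5421.result (Qc z) hE1 hL2 hL3 u (hEQ huE)
      (fun h => by
        rcases hcen u h with h | h
        · exact hu1 h
        · exact huz h) hu2
      (fun x hx => by
        rcases hcen x hx with rfl | rfl
        · exact Subgroup.one_mem _
        · exact hEQu hzE)
  obtain ⟨K, hKle, hKinf, hKsup, ⟨eK⟩⟩ := exists_complement e K5 hK5le hK5inf hK5sup
  refine ⟨hE1, hcard, ⟨EE o, hEQ, ⟨⟨⟨fun a b => ?_⟩⟩, fun a ha => ?_⟩, ?_⟩, hLarge, K, hKle, hKinf,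
    hKsup, ⟨eK.trans eK5⟩⟩
  · apply Subtype.ext
    exact comm_EE hfix a.1 b.1 a.2 b.2
  · rw [pow_two]
    exact sq_EE hfix a ha
  · rw [card_EE hfix]
    norm_num

end Cfsg.Agent.S5425
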