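import Cfsg.Statements.S5426
import Cfsg.Agent.Lib.Helper90.LargeStructH

set_option autoImplicit false
open Cfsg


namespace Cfsg.Agent.S5426

open Cfsg.Agent.Lib.Helper90.LS in
/-- Let Q be a large extraspecial 2-subgroup of the finite group G (extraspecial; centralizer equal to its centre; normal in the centralizer of its centre; normalizing no non-trivial subgroup of odd order) with centre generated by z, and let M be the normal closure of z in G. Then one of the following holds: Q is normal in G; or M is abelian and the generalized Fitting subgroup of G is its largest normal 2-subgroup; or M is the generalized Fitting subgroup of G and is a non-abelian simple group; or M is the generalized Fitting subgroup of G and is the direct product of a non-abelian simple subgroup L and its conjugate u L u⁻¹ by some u in Q (the two meet trivially and commute elementwise), with z = z₁ (u z₁ u⁻¹) for some z₁ in L whose centralizer in L is a Sylow 2-subgroup of L with Frattini subgroup inside the subgroup generated by z₁,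 and Q is not the largest normal 2-subgroup of the centralizer of z. -/
theorem result {G : Type*} [Group G] [Finite G] (Q : Subgroup G) (hQ : Cfsg.IsLargeExtraspecial Q) (z : G) (hz : ((Subgroup.center ↥Q).map Q.subtype) = Subgroup.zpowers z) (M : Subgroup G) (hM : M = Subgroup.normalClosure ({z} : Set G)) : Q.Normal ∨ (IsMulCommutative ↥M ∧ Cfsg.generalizedFittingSubgroup G = Cfsg.pCore 2 G) ∨ (M = Cfsg.generalizedFittingSubgroup G ∧ IsSimpleGroup ↥M ∧ ¬ IsMulCommutative ↥M) ∨ (M = Cfsg.generalizedFittingSubgroup G ∧ ∃ (L : Subgroup G) (u : G), u ∈ Q ∧ IsSimpleGroup ↥L ∧ ¬ IsMulCommutative ↥L ∧ L ⊓ (L).map (MulAut.conj u).toMonoidHom = ⊥ ∧ (∀ x ∈ L, ∀ y ∈ (L).map (MulAut.conj u).toMonoidHom, x * y = y * x) ∧ L ⊔ (L).map (MulAut.conj u).toMonoidHom = M ∧ ∃ z₁ ∈ L, z = z₁ * (u * z₁ * u⁻¹) ∧ (∃ R : Sylow 2 ↥L, (R : Subgroup ↥L) = (Subgroup.centralizer ({z₁} : Set G)).subgroupOf L ∧ (frattini ↥(R : Subgroup ↥L)).map ((L.subtype).comp (R : Subgroup ↥L).subtype) ≤ Subgroup.zpowers z₁) ∧ Q ≠ (Cfsg.pCore 2 ↥(Subgroup.centralizer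 ({z} : Set G))).map (Subgroup.centralizer ({z} : Set G)).subtype) := by
  have h := LQ.of_hyp hQ hz
  subst hM
  by_cases hR : Cfsg.pCore 2 G = ⊥
  swap
  · right; left; exact h.caseA hR
  have hF := h.fitting_eq_bot hR
  have hFstar : Cfsg.generalizedFittingSubgroup G = Cfsg.layer G := by
    unfold Cfsg.generalizedFittingSubgroup
    rw [hF, sup_bot_eq]
  have hE : Cfsg.layer G ≠ ⊥ := by
    intro e
    have hle := Cfsg.Agent.Lib.Helper22.centralizer_generalizedFitting_le G
    rw [hFstar, e] at hle
    have hzc : z ∈ Subgroup.centralizer (((⊥ : Subgroup G) : Subgroup G) : Set G) := by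
      rw [Subgroup.mem_centralizer_iff]
      intro x hx
      have : x = 1 := Subgroup.mem_bot.mp hx
      rw [this, one_mul, mul_one]
    exact h.ne (Subgroup.mem_bot.mp (hle hzc))
  obtain ⟨L, hL⟩ := exists_component_of_layer_ne_bot hE
  have hMl := h.normalClosure_eq_layer hL
  by_cases hQL : ∀ q ∈ Q, ∀ x ∈ L, q * x * q⁻¹ ∈ L
  · right; right; left
    have hlayer := h.layer_eq_of_normalizes hF hL hQL
    obtain ⟨hs, hnc⟩ := component_simple hF hL
    refine ⟨by rw [hMl, hFstar], ?_, ?_⟩
    · rw [hMl, hlayer]; exact hs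
    · rw [hMl, hlayer]; exact hnc
  · right; right; right
    push Not at hQL
    obtain ⟨u, hu, x, hx, hxL⟩ := hQL
    have hne : L ≠ L.map (MulAut.conj u).toMonoidHom := by
      intro e
      apply hxL
      rw [e]
      exact ⟨x, hx, rfl⟩
    have hL' := Cfsg.Agent.Lib.Helper22.isComponent_map_equiv (MulAut.conj u) hL
    obtain ⟨a, ha, c, hc, hzac, ha1, haa, haz⟩ := h.split hF {L}
      (by intro K hK; rw [Set.mem_singleton_iff] at hK; rw [hK]; exact hL) ⟨L, rfl⟩
    rw [sSup_singleton] at ha hc
    obtain ⟨hlayer, y, hyL, hyz, hy1, hya⟩ := h.pair_main hF hL hu hne ha ha1 haa haz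
    have hceq := h.c_eq hF hL hu hne ha hc hzac hlayer
    have hz' : z = a * (u * a * u⁻¹) := by rw [← hceq]; exact hzac
    obtain ⟨hs, hnc⟩ := component_simple hF hL
    obtain ⟨R, hR1, hR2⟩ := h.sylow_data hF hL hu hne ha hz'
    refine ⟨by rw [hMl, hFstar], L, u, hu, hs, hnc, ?_, ?_, ?_, a, ha, hz', ⟨R, hR1, hR2⟩, ?_⟩
    · rw [eq_bot_iff]
      intro t ht
      rw [Subgroup.mem_bot]
      exact comp_disjoint hF hL hL' hne ht.1 ht.2
    · intro x hx y hy
      exact comm_of_components hL hL' hne hx hy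
    · rw [hMl, hlayer]
    · exact h.Q_ne hF hL hu hne ha haa hz' hlayer hyL hyz hy1 hya

end Cfsg.Agent.S5426
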