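import Cfsg.Statements.S5428
import Cfsg.Agent.S5427
import Cfsg.Agent.Lib.Helper29.ExtraTwoBuild
import Cfsg.Agent.Lib.Helper24.Coprime

set_option autoImplicit false
open Cfsg

namespace Cfsg.Agent.S5428

open Subgroup Cfsg.Agent.Lib.Helper4.LX Cfsg.Agent.S5427 Cfsg.Agent.Lib.Helper29
open scoped commutatorElement

/-- an element killed by a power of two and by an odd number is trivial -/
theorem eq_one_of_pow_two_of_pow_odd {X : Type*} [Group X] (x : X) (k m : ℕ) (h1 : x ^ 2 ^ k = 1)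
    (h2 : x ^ m = 1) (hm : Odd m) : x = 1 := by
  have d1 : orderOf x ∣ 2 ^ k := orderOf_dvd_of_pow_eq_one h1
  have d2 : orderOf x ∣ m := orderOf_dvd_of_pow_eq_one h2
  have hc : Nat.Coprime (2 ^ k) m := Nat.Coprime.pow_left k (Nat.coprime_two_left.mpr hm)
  exact orderOf_eq_one_iff.mp (Nat.eq_one_of_dvd_coprimes hc d1 d2)

/-- a group of order twice an odd number with a central involution: a normal subgroup of odd
order and index two -/
theorem twice_odd {D : Type*} [Group D] [Finite D] (z : D) (hz : orderOf z = 2)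
    (hc : ∀ d : D, d * z = z * d) (h4 : ¬ 4 ∣ Nat.card D) :
    ∃ K : Subgroup D, K.Normal ∧ Odd (Nat.card K) ∧ ∀ d : D, d ∈ K ∨ z * d ∈ K := by
  have hN : (zpowers z).Normal := by
    constructor
    intro n hn g
    obtain ⟨k, rfl⟩ := mem_zpowers_iff.mp hn
    have : g * z ^ k * g⁻¹ = z ^ k := by
      have h1 : Commute g z := hc g
      have h2 : Commute g (z ^ k) := h1.zpow_right k
      calc g * z ^ k * g⁻¹ = z ^ k * g * g⁻¹ := by rw [h2.eq]
        _ = z ^ k := by group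
    rw [this]
    exact zpow_mem (mem_zpowers z) k
  have hcardN : Nat.card (zpowers z) = 2 := by rw [Nat.card_zpowers, hz]
  have hmul : Nat.card (zpowers z) * (zpowers z).index = Nat.card D :=
    Subgroup.card_mul_index (zpowers z)
  rw [hcardN] at hmul
  have hodd : Odd (zpowers z).index := by
    rcases Nat.even_or_odd (zpowers z).index with he | ho
    · exfalso
      obtain ⟨j, hj⟩ := he
      apply h4
      rw [← hmul, hj]
      exact ⟨j, by ring⟩
    · exact ho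
  obtain ⟨K, hK⟩ := Subgroup.exists_left_complement'_of_coprime (N := zpowers z)
    (by rw [hcardN]; exact Nat.coprime_two_left.mpr hodd)
  have hKcard : Nat.card K = (zpowers z).index := by
    rw [← hK.index_eq_card]
  have hKidx : K.index = 2 := by
    rw [hK.symm.index_eq_card, hcardN]
  have hKodd : Odd (Nat.card K) := by rw [hKcard]; exact hodd
  refine ⟨K, Subgroup.normal_of_index_eq_two hKidx, hKodd, ?_⟩
  have hzK : z ∉ K := by
    intro hzK
    have h1 : orderOf z ∣ Nat.card K := K.orderOf_dvd_natCard hzK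
    rw [hz] at h1
    obtain ⟨j, hj⟩ := hKodd
    omega
  intro d
  by_cases hd : d ∈ K
  · exact Or.inl hd
  · right
    rw [Subgroup.mul_mem_iff_of_index_two hKidx]
    exact ⟨fun h => absurd h hzK, fun h => absurd h hd⟩

/-- coprime action on `Q_x`: the centre of `C_{Q_x}(A)` is the centre of `Q_x` -/
theorem cent_fix {G : Type*} [Group G] [Finite G] {x : G} (h : LE (Qf G) x) (A : Subgroup G)
    (hA : A ≤ centralizer ({x} : Set G)) (hAodd : Odd (Nat.card A)) (r : G)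
    (hrQ : r ∈ Qf G x) (hrA : r ∈ centralizer (A : Set G))
    (hall : ∀ s ∈ Qf G x, s ∈ centralizer (A : Set G) → s * r = r * s) : r = 1 ∨ r = x := by
  have hp2 : Fact (Nat.Prime 2) := ⟨Nat.prime_two⟩
  have hspec : Spec (Qf G) := spec_Qf
  have hxi : x⁻¹ = x := inv_eq_of_mul_eq_one_right h.sq
  have hAx : ∀ α ∈ A, α * x = x * α := fun α hα => mem_centralizer_singleton_iff.mp (hA hα)
  have hAK : A ≤ normalizer ((Qf G x : Subgroup G) : Set G) := by
    intro α hα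
    rw [mem_normalizer_iff]
    intro q
    constructor
    · intro hq
      exact Q_normal hspec (hAx α hα) hq
    · intro hq
      have := Q_normal' hspec (hAx α hα) hq
      have e : α⁻¹ * (α * q * α⁻¹) * α = q := by group
      rwa [e] at this
  obtain ⟨n, hn⟩ := (Qf_isPGroup x).exists_card_eq
  have hcop : (Nat.card A).Coprime (Nat.card (Qf G x)) := by
    rw [hn]
    exact (Nat.Coprime.pow_left n (Nat.coprime_two_left.mpr hAodd)).symm
  have hnil : Group.IsNilpotent ↥(Qf G x) := (Qf_isPGroup x).isNilpotent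
  have hsolv : Group.IsSolvable ↥(Qf G x) := inferInstance
  have hdec := Cfsg.Agent.Lib.Helper24.commutator_sup_centralizer_eq A (Qf G x) hAK hcop
    (Or.inr hsolv)
  apply h.cent
  have hle : Qf G x ≤ centralizer ({r} : Set G) := by
    rw [← hdec]
    apply sup_le
    · rw [Subgroup.commutator_le]
      intro q hq α hα
      rw [mem_centralizer_singleton_iff, commutatorElement_def]
      -- u = q, v = α q α⁻¹
      have hvQ : α * q * α⁻¹ ∈ Qf G x := Q_normal hspec (hAx α hα) hq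
      have hrα : α * r = r * α := by
        have := mem_centralizer_iff.mp hrA α hα
        exact this
      have hαi : α⁻¹ * r = r * α⁻¹ := by
        calc α⁻¹ * r = α⁻¹ * (r * α) * α⁻¹ := by group
          _ = α⁻¹ * (α * r) * α⁻¹ := by rw [hrα]
          _ = r * α⁻¹ := by group
      have hconj : (α * q * α⁻¹) * r * (α * q * α⁻¹)⁻¹ * r⁻¹ = α * (q * r * q⁻¹ * r⁻¹) * α⁻¹ := by
        calc (α * q * α⁻¹) * r * (α * q * α⁻¹)⁻¹ * r⁻¹
            = α * q * (α⁻¹ * r) * α * q⁻¹ * α⁻¹ * r⁻¹ := by group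
          _ = α * q * (r * α⁻¹) * α * q⁻¹ * α⁻¹ * r⁻¹ := by rw [hαi]
          _ = α * q * r * q⁻¹ * (r * α)⁻¹ := by group
          _ = α * q * r * q⁻¹ * (α * r)⁻¹ := by rw [hrα]
          _ = α * (q * r * q⁻¹ * r⁻¹) * α⁻¹ := by group
      have hrx : r * x = x * r := Q_comm hspec hrQ
      -- both `q` and `α q α⁻¹` act on `r` in the same way
      rcases h.comm q hq r hrQ with e | e
      · have e1 : q * r = r * q := by
          calc q * r = (q * r * q⁻¹ * r⁻¹) * (r * q) := by group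
            _ = r * q := by rw [e, one_mul]
        have e2 : (α * q * α⁻¹) * r = r * (α * q * α⁻¹) := by
          have : (α * q * α⁻¹) * r * (α * q * α⁻¹)⁻¹ * r⁻¹ = 1 := by
            rw [hconj, e]; group
          calc (α * q * α⁻¹) * r
              = ((α * q * α⁻¹) * r * (α * q * α⁻¹)⁻¹ * r⁻¹) * (r * (α * q * α⁻¹)) := by group
            _ = r * (α * q * α⁻¹) := by rw [this, one_mul]
        have e3 : (α * q * α⁻¹)⁻¹ * r = r * (α * q * α⁻¹)⁻¹ := by
          calc (α * q * α⁻¹)⁻¹ * r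
              = (α * q * α⁻¹)⁻¹ * (r * (α * q * α⁻¹)) * (α * q * α⁻¹)⁻¹ := by group
            _ = (α * q * α⁻¹)⁻¹ * ((α * q * α⁻¹) * r) * (α * q * α⁻¹)⁻¹ := by rw [e2]
            _ = r * (α * q * α⁻¹)⁻¹ := by group
        calc q * α * q⁻¹ * α⁻¹ * r = q * ((α * q * α⁻¹)⁻¹ * r) := by group
          _ = q * (r * (α * q * α⁻¹)⁻¹) := by rw [e3]
          _ = (q * r) * (α * q * α⁻¹)⁻¹ := by group
          _ = (r * q) * (α * q * α⁻¹)⁻¹ := by rw [e1]
          _ = r * (q * α * q⁻¹ * α⁻¹) := by group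
      · have hαx : α * x * α⁻¹ = x := by
          rw [hAx α hα]; group
        have e1 : q * r = x * (r * q) := by
          calc q * r = (q * r * q⁻¹ * r⁻¹) * (r * q) := by group
            _ = x * (r * q) := by rw [e]
        have e2 : (α * q * α⁻¹) * r = x * (r * (α * q * α⁻¹)) := by
          have : (α * q * α⁻¹) * r * (α * q * α⁻¹)⁻¹ * r⁻¹ = x := by
            rw [hconj, e, hαx]
          calc (α * q * α⁻¹) * r
              = ((α * q * α⁻¹) * r * (α * q * α⁻¹)⁻¹ * r⁻¹) * (r * (α * q * α⁻¹)) := by group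
            _ = x * (r * (α * q * α⁻¹)) := by rw [this]
        have hvx : (α * q * α⁻¹) * x = x * (α * q * α⁻¹) := Q_comm hspec hvQ
        have hvix : (α * q * α⁻¹)⁻¹ * x = x * (α * q * α⁻¹)⁻¹ := by
          calc (α * q * α⁻¹)⁻¹ * x
              = (α * q * α⁻¹)⁻¹ * (x * (α * q * α⁻¹)) * (α * q * α⁻¹)⁻¹ := by group
            _ = (α * q * α⁻¹)⁻¹ * ((α * q * α⁻¹) * x) * (α * q * α⁻¹)⁻¹ := by rw [hvx]
            _ = x * (α * q * α⁻¹)⁻¹ := by group
        have e3 : (α * q * α⁻¹)⁻¹ * r = x * (r * (α * q * α⁻¹)⁻¹) := by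
          have : r * (α * q * α⁻¹)⁻¹ = (α * q * α⁻¹)⁻¹ * x * r := by
            calc r * (α * q * α⁻¹)⁻¹
                = (α * q * α⁻¹)⁻¹ * ((α * q * α⁻¹) * r) * (α * q * α⁻¹)⁻¹ := by group
              _ = (α * q * α⁻¹)⁻¹ * (x * (r * (α * q * α⁻¹))) * (α * q * α⁻¹)⁻¹ := by rw [e2]
              _ = (α * q * α⁻¹)⁻¹ * x * r := by group
          rw [this, hvix]
          calc (α * q * α⁻¹)⁻¹ * r = (x * x) * ((α * q * α⁻¹)⁻¹ * r) := by rw [h.sq, one_mul]
            _ = x * (x * (α * q * α⁻¹)⁻¹ * r) := by group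
        have hqx : q * x = x * q := Q_comm hspec hq
        calc q * α * q⁻¹ * α⁻¹ * r = q * ((α * q * α⁻¹)⁻¹ * r) := by group
          _ = q * (x * (r * (α * q * α⁻¹)⁻¹)) := by rw [e3]
          _ = (q * x) * r * (α * q * α⁻¹)⁻¹ := by group
          _ = (x * q) * r * (α * q * α⁻¹)⁻¹ := by rw [hqx]
          _ = x * (q * r) * (α * q * α⁻¹)⁻¹ := by group
          _ = x * (x * (r * q)) * (α * q * α⁻¹)⁻¹ := by rw [e1]
          _ = (x * x) * r * (q * α * q⁻¹ * α⁻¹) := by group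
          _ = r * (q * α * q⁻¹ * α⁻¹) := by rw [h.sq, one_mul]
    · intro s hs
      rw [mem_centralizer_singleton_iff]
      exact hall s hs.1 hs.2
  intro b hb
  have := mem_centralizer_singleton_iff.mp (hle hb)
  exact this.symm

/-- two involutions inverting... abstract form: an odd-order subgroup normalized by involutions
`z`, `a` acting without fixed points and by `s` with `s a s⁻¹ = z a` is trivial -/
theorem odd_trivial_abs {X : Type*} [Group X] (D : Subgroup X) [Finite D] (z a s : X)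
    (hzz : z * z = 1) (haa : a * a = 1) (hs : s * a * s⁻¹ = z * a)
    (hnz : ∀ d ∈ D, z * d * z⁻¹ ∈ D) (hna : ∀ d ∈ D, a * d * a⁻¹ ∈ D)
    (hns : ∀ d ∈ D, s⁻¹ * d * s ∈ D)
    (hfz : ∀ d ∈ D, z * d * z⁻¹ = d → d = 1) (hfa : ∀ d ∈ D, a * d * a⁻¹ = d → d = 1) :
    D = ⊥ := by
  have hinvz := inverts_of_normalizes D z hzz hnz hfz
  have hinvu := inverts_of_normalizes D a haa hna hfa
  rw [eq_bot_iff]
  intro d hd
  rw [mem_bot]
  have hd' : s⁻¹ * d * s ∈ D := hns d hd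
  have hzud : ∀ e ∈ D, (z * a) * e * (z * a)⁻¹ = e := by
    intro e he
    have h1 := hinvu e he
    have h2 := hinvz e⁻¹ (D.inv_mem he)
    calc (z * a) * e * (z * a)⁻¹ = z * (a * e * a⁻¹) * z⁻¹ := by group
      _ = z * e⁻¹ * z⁻¹ := by rw [h1]
      _ = e := by rw [h2, inv_inv]
  have h7 : a * (s⁻¹ * d * s) * a⁻¹ = s⁻¹ * d * s := by
    calc a * (s⁻¹ * d * s) * a⁻¹
        = s⁻¹ * ((s * a * s⁻¹) * d * (s * a * s⁻¹)⁻¹) * s := by group
      _ = s⁻¹ * ((z * a) * d * (z * a)⁻¹) * s := by rw [hs]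
      _ = s⁻¹ * d * s := by rw [hzud d hd]
  have h8 := hfa _ hd' h7
  calc d = s * (s⁻¹ * d * s) * s⁻¹ := by group
    _ = 1 := by rw [h8]; group

/-- commuting modulo an odd-order subgroup centralized by the `2`-element `y` means commuting -/
theorem comm_of_comm_mod {G : Type*} [Group G] (A : Subgroup G) [Finite A]
    (hAodd : Odd (Nat.card A)) (c y : G) (hy : y ∈ centralizer (A : Set G)) (k : ℕ)
    (hyk : y ^ 2 ^ k = 1) (hβ : c * y * c⁻¹ * y⁻¹ ∈ A) : c * y = y * c := by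
  have hcomm : Commute (c * y * c⁻¹ * y⁻¹) y := mem_centralizer_iff.mp hy _ hβ
  have e1 : c * y * c⁻¹ = (c * y * c⁻¹ * y⁻¹) * y := by group
  have e2 : (c * y * c⁻¹) ^ 2 ^ k = 1 := by
    rw [conj_pow, hyk]; group
  have e3 : (c * y * c⁻¹ * y⁻¹) ^ 2 ^ k = 1 := by
    have := hcomm.mul_pow (2 ^ k)
    rw [← e1, e2, hyk, mul_one] at this
    exact this.symm
  have e4 : (c * y * c⁻¹ * y⁻¹) ^ Nat.card A = 1 := by
    have h1 : (⟨_, hβ⟩ : ↥A) ^ Nat.card A = 1 := pow_card_eq_one'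
    have h2 : ((⟨_, hβ⟩ : ↥A) : G) ^ Nat.card A = 1 := by
      rw [← Subgroup.coe_pow, h1]; rfl
    exact h2
  have e5 := eq_one_of_pow_two_of_pow_odd _ k _ e3 e4 hAodd
  calc c * y = (c * y * c⁻¹ * y⁻¹) * (y * c) := by group
    _ = y * c := by rw [e5, one_mul]

/-- Let z be an involution of the finite group G whose centralizer C has generalized Fitting subgroup Q extraspecial (as a 2-group), let A be a subgroup of C of odd order, and let R be the centralizer of A in Q; suppose R has order at least 32, the largest normal subgroup of odd order of the centralizer of the subgroup generated by A and R lies in A, the order of that centralizer is not divisible by 4, and g is an element of G with g z g⁻¹ in R but outside the centre Z of Q. Let M be the subgroup generated by A and the centralizer of A (A is normal in it). Then: the centralizer in M of the subgroup generated by R and A, joined with A, equals the subgroup generated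 by A and Z; the image of R in M/A is a large extraspecial 2-subgroup of M/A; and g z g⁻¹ is conjugate to z inside the subgroup generated by R and the centralizer of A in g Q g⁻¹. -/
theorem result {G : Type*} [Group G] [Finite G] (z : G) (hz : orderOf z = 2) (Q : Subgroup G) (hQC : Q ≤ Subgroup.centralizer ({z} : Set G)) (hF : (Cfsg.generalizedFittingSubgroup ↥(Subgroup.centralizer ({z} : Set G))).map (Subgroup.centralizer ({z} : Set G)).subtype = Q) (hQ : Cfsg.IsExtraspecial 2 ↥Q) (A : Subgroup G) (hA : A ≤ Subgroup.centralizer ({z} : Set G)) (hAodd : Odd (Nat.card ↥A)) (R : Subgroup G) (hR : R = Q ⊓ Subgroup.centralizer (A : Set G)) (hR32 : 32 ≤ Nat.card ↥R) (hO : (Cfsg.oddCore ↥(Subgroup.centralizer ((A ⊔ R : Subgroup G) : Set G))).map (Subgroup.centralizer ((A ⊔ R : Subgroup G) : Set G)).subtype ≤ A) (h4 : ¬ 4 ∣ Nat.card ↥(Subgroup.centralizer ((A ⊔ R : Subgroup G) : Set G))) (g : G) (hgR : g * z * g⁻¹ ∈ R) (hgZ : g * z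 * g⁻¹ ∉ ((Subgroup.center ↥Q).map Q.subtype)) (M : Subgroup G) (hM : M = Subgroup.centralizer (A : Set G) ⊔ A) [hn : (A.subgroupOf M).Normal] : (M ⊓ Subgroup.centralizer ((R ⊔ A : Subgroup G) : Set G)) ⊔ A = A ⊔ ((Subgroup.center ↥Q).map Q.subtype) ∧ Cfsg.IsLargeExtraspecial ((R.subgroupOf M).map (QuotientGroup.mk' (A.subgroupOf M))) ∧ ∃ x ∈ R ⊔ ((Q).map (MulAut.conj g).toMonoidHom ⊓ Subgroup.centralizer (A : Set G)), x * (g * z * g⁻¹) * x⁻¹ = z := by
  classical
  have hp2 : Fact (Nat.Prime 2) := ⟨Nat.prime_two⟩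
  have hFn : (Cfsg.generalizedFittingSubgroup ↥(centralizer ({z} : Set G))).Normal :=
    Cfsg.Agent.Lib.Helper22.generalizedFittingSubgroup_normal _
  have hF2 : IsPGroup 2 ↥(Cfsg.generalizedFittingSubgroup ↥(centralizer ({z} : Set G))) := by
    have e : ↥(Cfsg.generalizedFittingSubgroup ↥(centralizer ({z} : Set G))) ≃* ↥Q :=
      ((Cfsg.generalizedFittingSubgroup ↥(centralizer ({z} : Set G))).equivMapOfInjective _
        (Subgroup.subtype_injective _)).trans (MulEquiv.subgroupCongr hF)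
    exact hQ.1.1.of_equiv e.symm
  have hFeq : Cfsg.generalizedFittingSubgroup ↥(centralizer ({z} : Set G)) =
      Cfsg.pCore 2 ↥(centralizer ({z} : Set G)) :=
    le_antisymm (Cfsg.Agent.Lib.Helper87.le_pCore hFn hF2)
      ((Cfsg.Agent.Lib.Helper22.pCore_le_fitting 2).trans
        (Cfsg.Agent.Lib.Helper22.fitting_le_generalizedFitting _))
  have hQeq : Q = Qf G z := by
    rw [← hF, hFeq]; rfl
  subst hQeq
  have hspec : Spec (Qf G) := spec_Qf
  have hzz : z * z = 1 := by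
    have := pow_orderOf_eq_one z
    rwa [hz, pow_two] at this
  have hz1 : z ≠ 1 := by
    intro h; rw [h, orderOf_one] at hz; omega
  have hmemQ : ∀ x : G, x * z = z * x → (∀ b ∈ Qf G z, b * x = x * b) → x ∈ Qf G z := by
    intro x hxz hxb
    have hxC : x ∈ centralizer ({z} : Set G) := mem_centralizer_singleton_iff.mpr hxz
    have h1 : (⟨x, hxC⟩ : ↥(centralizer ({z} : Set G))) ∈
        centralizer ((Cfsg.generalizedFittingSubgroup ↥(centralizer ({z} : Set G)) :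
          Subgroup ↥(centralizer ({z} : Set G))) : Set ↥(centralizer ({z} : Set G))) := by
      rw [mem_centralizer_iff]
      intro b hb
      apply Subtype.ext
      have hbQ : (b : G) ∈ Qf G z := by
        rw [← hF]
        exact ⟨b, hb, rfl⟩
      exact hxb _ hbQ
    have h2 := Cfsg.Agent.Lib.Helper22.centralizer_generalizedFitting_le _ h1
    rw [← hF]
    exact ⟨⟨x, hxC⟩, h2, rfl⟩
  have hzQ : z ∈ Qf G z := hmemQ z rfl (fun b hb => Q_comm hspec hb)
  have hcent : centralizer ((Qf G z : Subgroup G) : Set G) ≤ Qf G z := by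
    intro x hx
    rw [mem_centralizer_iff] at hx
    exact hmemQ x (hx z hzQ).symm (fun b hb => hx b hb)
  have hLE : LE (Qf G) z := LE.of_hyp hspec hz hQ hcent
  have hLEa : LE (Qf G) (g * z * g⁻¹) := hLE.conj hspec g
  have hQa : (Qf G z).map (MulAut.conj g).toMonoidHom = Qf G (g * z * g⁻¹) := Q_conj hspec g z
  rw [hQa]
  set a : G := g * z * g⁻¹ with ha
  -- basic facts on `R`
  have hRQ : R ≤ Qf G z := by rw [hR]; exact inf_le_left
  have hRA : R ≤ centralizer (A : Set G) := by rw [hR]; exact inf_le_right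
  have hmemR : ∀ q : G, q ∈ Qf G z → q ∈ centralizer (A : Set G) → q ∈ R := by
    intro q h1 h2; rw [hR]; exact ⟨h1, h2⟩
  have hAz : ∀ α ∈ A, α * z = z * α := fun α hα => mem_centralizer_singleton_iff.mp (hA hα)
  have hzA : z ∈ centralizer (A : Set G) := by
    rw [mem_centralizer_iff]; exact hAz
  have hzR : z ∈ R := hmemR z hzQ hzA
  have haR : a ∈ R := hgR
  have haQ : a ∈ Qf G z := hRQ haR
  have haA : a ∈ centralizer (A : Set G) := hRA haR
  have hAa : A ≤ centralizer ({a} : Set G) := by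
    intro α hα
    rw [mem_centralizer_singleton_iff]
    exact mem_centralizer_iff.mp haA α hα
  have hza : z ∈ Qf G a := LE.symm_mem hspec hLE hLEa (card_Q_conj hspec g z).le haQ
  have ha1 : a ≠ 1 := hLEa.ne
  have haa : a * a = 1 := hLEa.sq
  have hzi : z⁻¹ = z := inv_eq_of_mul_eq_one_right hzz
  have hai : a⁻¹ = a := inv_eq_of_mul_eq_one_right haa
  have hcaz : a * z = z * a := Q_comm hspec haQ
  -- the centre of `Q`
  have hZc : ∀ y : G, y ∈ (center ↥(Qf G z)).map (Qf G z).subtype ↔ (y = 1 ∨ y = z) := by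
    intro y
    constructor
    · rintro ⟨q, hq, rfl⟩
      rw [SetLike.mem_coe, mem_center_iff] at hq
      apply hLE.cent
      intro b hb
      exact (congrArg Subtype.val (hq ⟨b, hb⟩)).symm
    · rintro (e | e)
      · rw [e]; exact one_mem _
      · rw [e]
        refine ⟨⟨z, hzQ⟩, ?_, rfl⟩
        rw [SetLike.mem_coe, mem_center_iff]
        intro b
        apply Subtype.ext
        exact Q_comm hspec b.2
  have haz : a ≠ z := by
    intro e
    apply hgZ
    rw [hZc]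
    exact Or.inr e
  have hR2 : IsPGroup 2 ↥R := (Qf_isPGroup z).to_le hRQ
  have hpow4 : ∀ r ∈ Qf G z, r ^ 2 ^ 2 = 1 := by
    intro r hr
    have e : r ^ 2 ^ 2 = (r * r) * (r * r) := by
      norm_num [pow_succ, mul_assoc]
    rw [e]
    rcases hLE.sqr r hr with e1 | e1
    · rw [e1, one_mul]
    · rw [e1, hzz]
  -- elements moving `a` and `z`
  have hmove : ∃ s ∈ Qf G z, s ∈ centralizer (A : Set G) ∧ s * a * s⁻¹ * a⁻¹ = z := by
    by_contra hcon
    push Not at hcon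
    have hall : ∀ s ∈ Qf G z, s ∈ centralizer (A : Set G) → s * a = a * s := by
      intro s hs hsA
      rcases hLE.comm s hs a haQ with e | e
      · calc s * a = (s * a * s⁻¹ * a⁻¹) * (a * s) := by group
          _ = a * s := by rw [e, one_mul]
      · exact absurd e (hcon s hs hsA)
    rcases cent_fix hLE A hA hAodd a haQ haA hall with e | e
    · exact ha1 e
    · exact haz e
  have hmove' : ∃ s ∈ Qf G a, s ∈ centralizer (A : Set G) ∧ s * z * s⁻¹ * z⁻¹ = a := by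
    by_contra hcon
    push Not at hcon
    have hall : ∀ s ∈ Qf G a, s ∈ centralizer (A : Set G) → s * z = z * s := by
      intro s hs hsA
      rcases hLEa.comm s hs z hza with e | e
      · calc s * z = (s * z * s⁻¹ * z⁻¹) * (z * s) := by group
          _ = z * s := by rw [e, one_mul]
      · exact absurd e (hcon s hs hsA)
    rcases cent_fix hLEa A hAa hAodd z hza hzA hall with e | e
    · exact hz1 e
    · exact haz e.symm
  obtain ⟨s0, hs0Q, hs0A, hs0a⟩ := hmove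
  obtain ⟨s1, hs1Q, hs1A, hs1z⟩ := hmove'
  have hs0R : s0 ∈ R := hmemR s0 hs0Q hs0A
  have e0 : s0 * a * s0⁻¹ = z * a := by
    calc s0 * a * s0⁻¹ = (s0 * a * s0⁻¹ * a⁻¹) * a := by group
      _ = z * a := by rw [hs0a]
  have part3 : ∃ x ∈ R ⊔ (Qf G a ⊓ centralizer (A : Set G)), x * a * x⁻¹ = z := by
    refine ⟨s1 * s0, ?_, ?_⟩
    · apply Subgroup.mul_mem
      · exact (le_sup_right : _ ≤ R ⊔ (Qf G a ⊓ centralizer (A : Set G))) ⟨hs1Q, hs1A⟩
      · exact (le_sup_left : R ≤ R ⊔ (Qf G a ⊓ centralizer (A : Set G))) hs0R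
    · have e1 : s1 * z * s1⁻¹ = a * z := by
        calc s1 * z * s1⁻¹ = (s1 * z * s1⁻¹ * z⁻¹) * z := by group
          _ = a * z := by rw [hs1z]
      have e2 : s1 * a * s1⁻¹ = a := by
        have := Q_comm hspec hs1Q
        calc s1 * a * s1⁻¹ = (a * s1) * s1⁻¹ := by rw [this]
          _ = a := by group
      calc s1 * s0 * a * (s1 * s0)⁻¹ = s1 * (s0 * a * s0⁻¹) * s1⁻¹ := by group
        _ = s1 * (z * a) * s1⁻¹ := by rw [e0]
        _ = (s1 * z * s1⁻¹) * (s1 * a * s1⁻¹) := by group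
        _ = (a * z) * a := by rw [e1, e2]
        _ = (z * a) * a := by rw [hcaz]
        _ = z := by rw [mul_assoc, haa, mul_one]
  -- the centralizer `D` of `A R`
  have hARz : A ⊔ R ≤ centralizer ({z} : Set G) := sup_le hA (hRQ.trans hQC)
  have hzD : z ∈ centralizer ((A ⊔ R : Subgroup G) : Set G) := by
    rw [mem_centralizer_iff]
    intro h hh
    exact mem_centralizer_singleton_iff.mp (hARz hh)
  have hDA : ∀ d ∈ centralizer ((A ⊔ R : Subgroup G) : Set G), d ∈ A ∨ z * d ∈ A := by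
    intro d hd
    have hcen : ∀ e : ↥(centralizer ((A ⊔ R : Subgroup G) : Set G)),
        e * ⟨z, hzD⟩ = ⟨z, hzD⟩ * e := by
      intro e
      apply Subtype.ext
      have := mem_centralizer_iff.mp e.2 z ((le_sup_right : R ≤ A ⊔ R) hzR)
      exact this.symm
    have hord : orderOf (⟨z, hzD⟩ : ↥(centralizer ((A ⊔ R : Subgroup G) : Set G))) = 2 := by
      rw [← Subgroup.orderOf_coe]
      exact hz
    obtain ⟨K, hKn, hKodd, hK⟩ := twice_odd ⟨z, hzD⟩ hord hcen h4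
    have hKle : K ≤ Cfsg.oddCore ↥(centralizer ((A ⊔ R : Subgroup G) : Set G)) :=
      le_sSup ⟨hKn, Nat.coprime_two_right.mpr hKodd⟩
    rcases hK ⟨d, hd⟩ with h1 | h1
    · left
      exact hO ⟨⟨d, hd⟩, hKle h1, rfl⟩
    · right
      exact hO ⟨⟨z, hzD⟩ * ⟨d, hd⟩, hKle h1, rfl⟩
  have hCM : centralizer (A : Set G) ≤ M := by rw [hM]; exact le_sup_left
  have hAM : A ≤ M := by rw [hM]; exact le_sup_right
  have hzM : z ∈ M := hCM hzA
  have hDle : centralizer ((A ⊔ R : Subgroup G) : Set G) ≤ centralizer (A : Set G) :=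
    centralizer_le (by
      intro x hx
      exact (le_sup_left : A ≤ A ⊔ R) hx)
  have part1 : (M ⊓ centralizer ((R ⊔ A : Subgroup G) : Set G)) ⊔ A =
      A ⊔ ((center ↥(Qf G z)).map (Qf G z).subtype) := by
    apply le_antisymm
    · apply sup_le _ le_sup_left
      rintro d ⟨-, hd⟩
      rw [SetLike.mem_coe, sup_comm] at hd
      rcases hDA d hd with h1 | h1
      · exact (le_sup_left : A ≤ A ⊔ _) h1
      · have e : d = z * (z * d) := by
          rw [← mul_assoc, hzz, one_mul]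
        rw [e]
        apply Subgroup.mul_mem
        · exact (le_sup_right : _ ≤ A ⊔ _) ((hZc z).mpr (Or.inr rfl))
        · exact (le_sup_left : A ≤ A ⊔ _) h1
    · apply sup_le le_sup_right
      intro y hy
      apply (le_sup_left : _ ≤ (M ⊓ centralizer ((R ⊔ A : Subgroup G) : Set G)) ⊔ A)
      rcases (hZc y).mp hy with e | e
      · rw [e]; exact one_mem _
      · rw [e]
        refine ⟨hzM, ?_⟩
        rw [SetLike.mem_coe, sup_comm]
        exact hzD
  refine ⟨part1, ?_, part3⟩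
  -- the quotient `M/A`
  have hRM : R ≤ M := hRA.trans hCM
  have hMdec : ∀ m ∈ M, ∃ c ∈ centralizer (A : Set G), ∃ α ∈ A, c * α = m := by
    intro m hm
    have hle : centralizer (A : Set G) ≤ normalizer ((A : Subgroup G) : Set G) :=
      Subgroup.centralizer_le_normalizer _
    have h1 : m ∈ ((centralizer (A : Set G) ⊔ A : Subgroup G) : Set G) := by
      rw [← hM]; exact hm
    rw [Subgroup.coe_mul_of_left_le_normalizer_right _ _ hle] at h1
    obtain ⟨c, hc, α, hα, e⟩ := h1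
    exact ⟨c, hc, α, hα, e⟩
  have hπ1 : ∀ m : ↥M, QuotientGroup.mk' (A.subgroupOf M) m = 1 ↔ (m : G) ∈ A := by
    intro m
    rw [QuotientGroup.mk'_apply, QuotientGroup.eq_one_iff, mem_subgroupOf]
  set An : Subgroup ↥M := A.subgroupOf M with hAndef
  set π : ↥M →* ↥M ⧸ An := QuotientGroup.mk' An with hπdef
  set RB : Subgroup (↥M ⧸ An) := (R.subgroupOf M).map π with hRBdef
  have hπs : Function.Surjective π := QuotientGroup.mk'_surjective An
  have hlift : ∀ x : ↥M ⧸ An, ∃ c : G, ∃ hc : c ∈ centralizer (A : Set G), π ⟨c, hCM hc⟩ = x := by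
    intro x
    obtain ⟨m, rfl⟩ := hπs x
    obtain ⟨c, hc, α, hα, e⟩ := hMdec m m.2
    refine ⟨c, hc, ?_⟩
    have e' : m = ⟨c, hCM hc⟩ * ⟨α, hAM hα⟩ := Subtype.ext e.symm
    rw [e', map_mul, (hπ1 ⟨α, hAM hα⟩).mpr hα, mul_one]
  have hmemRB : ∀ x : ↥M ⧸ An, x ∈ RB ↔ ∃ r : ↥M, (r : G) ∈ R ∧ π r = x := by
    intro x
    rw [hRBdef, mem_map]
    constructor
    · rintro ⟨p, hp, rfl⟩
      exact ⟨p, mem_subgroupOf.mp hp, rfl⟩
    · rintro ⟨p, hp, rfl⟩
      exact ⟨p, mem_subgroupOf.mpr hp, rfl⟩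
  -- commuting images of `2`-elements of `C(A)` commute
  have hπc : ∀ (c y : ↥M), (y : G) ∈ centralizer (A : Set G) → ∀ k : ℕ, (y : G) ^ 2 ^ k = 1 →
      π c * π y = π y * π c → (c : G) * y = y * c := by
    intro c y hy k hyk hcy
    apply comm_of_comm_mod A hAodd (c : G) (y : G) hy k hyk
    have h1 : π (c * y * c⁻¹ * y⁻¹) = 1 := by
      rw [map_mul, map_mul, map_mul, map_inv, map_inv, hcy]
      group
    exact (hπ1 _).mp h1
  have hzRB : π ⟨z, hzM⟩ ∈ RB := (hmemRB _).mpr ⟨⟨z, hzM⟩, hzR, rfl⟩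
  have hzA' : z ∉ A := by
    intro h
    exact hz1 (eq_one_of_mem_odd_of_mem_two A R hAodd hR2 h hzR)
  have hπz1 : π ⟨z, hzM⟩ ≠ 1 := by
    intro e
    exact hzA' ((hπ1 _).mp e)
  have hπzz : π ⟨z, hzM⟩ * π ⟨z, hzM⟩ = 1 := by
    rw [← map_mul]
    have : (⟨z, hzM⟩ : ↥M) * ⟨z, hzM⟩ = 1 := Subtype.ext hzz
    rw [this, map_one]
  have hRB2 : IsPGroup 2 ↥RB := by
    rw [hRBdef]
    apply IsPGroup.map
    exact hR2.comap_subtype
  have hcommR : ∀ p1 ∈ R, ∀ p2 ∈ R, p1 * p2 * p1⁻¹ * p2⁻¹ = 1 ∨ p1 * p2 * p1⁻¹ * p2⁻¹ = z :=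
    fun p1 h1 p2 h2 => hLE.comm p1 (hRQ h1) p2 (hRQ h2)
  -- elements of `C(A)` centralizing `R` have image `1` or the image of `z`
  have hDimg : ∀ (c : G) (hc : c ∈ centralizer (A : Set G)), (∀ r ∈ R, c * r = r * c) →
      (π ⟨c, hCM hc⟩ = 1 ∨ π ⟨c, hCM hc⟩ = π ⟨z, hzM⟩) := by
    intro c hc hcR
    have hcD : c ∈ centralizer ((A ⊔ R : Subgroup G) : Set G) := by
      have hle : A ⊔ R ≤ centralizer ({c} : Set G) := by
        apply sup_le
        · intro α hα
          rw [mem_centralizer_singleton_iff]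
          exact mem_centralizer_iff.mp hc α hα
        · intro r hr
          rw [mem_centralizer_singleton_iff]
          exact (hcR r hr).symm
      rw [mem_centralizer_iff]
      intro h hh
      exact mem_centralizer_singleton_iff.mp (hle hh)
    rcases hDA c hcD with h1 | h1
    · left
      exact (hπ1 _).mpr h1
    · right
      have h2 : π (⟨z, hzM⟩ * ⟨c, hCM hc⟩) = 1 := (hπ1 _).mpr h1
      rw [map_mul] at h2
      calc π ⟨c, hCM hc⟩ = (π ⟨z, hzM⟩ * π ⟨z, hzM⟩) * π ⟨c, hCM hc⟩ := by rw [hπzz, one_mul]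
        _ = π ⟨z, hzM⟩ * (π ⟨z, hzM⟩ * π ⟨c, hCM hc⟩) := by group
        _ = π ⟨z, hzM⟩ := by rw [h2, mul_one]
  -- elements of `C(A)` centralizing `z` normalize `R`
  have hnormR : ∀ c ∈ centralizer (A : Set G), c * z = z * c → ∀ r ∈ R, c * r * c⁻¹ ∈ R := by
    intro c hc hcz r hr
    apply hmemR
    · exact Q_normal hspec hcz (hRQ hr)
    · exact Subgroup.mul_mem _ (Subgroup.mul_mem _ hc (hRA hr)) (Subgroup.inv_mem _ hc)
  have hzcenRB : (⟨π ⟨z, hzM⟩, hzRB⟩ : ↥RB) ∈ center ↥RB := by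
    rw [mem_center_iff]
    rintro ⟨x, hx⟩
    obtain ⟨p, hp, rfl⟩ := (hmemRB x).mp hx
    apply Subtype.ext
    show π p * π ⟨z, hzM⟩ = π ⟨z, hzM⟩ * π p
    rw [← map_mul, ← map_mul]
    congr 1
    apply Subtype.ext
    exact Q_comm hspec (hRQ hp)
  -- (i) extraspecial
  have hE2 : IsE2 ↥RB ⟨π ⟨z, hzM⟩, hzRB⟩ := by
    refine ⟨hzcenRB, ?_, ?_, ?_⟩
    · intro e
      exact hπz1 (congrArg Subtype.val e)
    · rintro ⟨x, hx⟩ hw
      obtain ⟨p, hp, rfl⟩ := (hmemRB x).mp hx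
      rw [mem_center_iff] at hw
      have hall : ∀ s ∈ Qf G z, s ∈ centralizer (A : Set G) → s * (p : G) = (p : G) * s := by
        intro s hs hsA
        have hsR : s ∈ R := hmemR s hs hsA
        have hsM : s ∈ M := hRM hsR
        have h1 := hw ⟨π ⟨s, hsM⟩, (hmemRB _).mpr ⟨⟨s, hsM⟩, hsR, rfl⟩⟩
        have h2 : π ⟨s, hsM⟩ * π p = π p * π ⟨s, hsM⟩ := congrArg Subtype.val h1
        exact hπc ⟨s, hsM⟩ p (hRA hp) 2 (hpow4 _ (hRQ hp)) h2
      rcases cent_fix hLE A hA hAodd (p : G) (hRQ hp) (hRA hp) hall with e | e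
      · left
        apply Subtype.ext
        show π p = 1
        have : p = 1 := Subtype.ext e
        rw [this, map_one]
      · right
        apply Subtype.ext
        show π p = π ⟨z, hzM⟩
        congr 1
        exact Subtype.ext e
    · rw [commutator_def, Subgroup.commutator_le]
      rintro ⟨x1, hx1⟩ _ ⟨x2, hx2⟩ _
      obtain ⟨p1, hp1, rfl⟩ := (hmemRB x1).mp hx1
      obtain ⟨p2, hp2, rfl⟩ := (hmemRB x2).mp hx2
      have hval : ((⁅(⟨π p1, hx1⟩ : ↥RB), ⟨π p2, hx2⟩⁆ : ↥RB) : ↥M ⧸ An) =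
          π (p1 * p2 * p1⁻¹ * p2⁻¹) := by
        rw [commutatorElement_def]
        simp only [map_mul, map_inv]
        rfl
      rcases hcommR p1 hp1 p2 hp2 with e | e
      · have : (⁅(⟨π p1, hx1⟩ : ↥RB), ⟨π p2, hx2⟩⁆ : ↥RB) = 1 := by
          apply Subtype.ext
          rw [hval]
          show π (p1 * p2 * p1⁻¹ * p2⁻¹) = 1
          have : p1 * p2 * p1⁻¹ * p2⁻¹ = 1 := Subtype.ext e
          rw [this, map_one]
        rw [this]
        exact one_mem _
      · have : (⁅(⟨π p1, hx1⟩ : ↥RB), ⟨π p2, hx2⟩⁆ : ↥RB) = ⟨π ⟨z, hzM⟩, hzRB⟩ := by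
          apply Subtype.ext
          rw [hval]
          show π (p1 * p2 * p1⁻¹ * p2⁻¹) = π ⟨z, hzM⟩
          congr 1
          exact Subtype.ext e
        rw [this]
        exact hzcenRB
  have hs0M : s0 ∈ M := hRM hs0R
  have haM : a ∈ M := hRM haR
  have hs0RB : π ⟨s0, hs0M⟩ ∈ RB := (hmemRB _).mpr ⟨⟨s0, hs0M⟩, hs0R, rfl⟩
  have haRB : π ⟨a, haM⟩ ∈ RB := (hmemRB _).mpr ⟨⟨a, haM⟩, haR, rfl⟩
  have hna : ∃ x y : ↥RB, x * y ≠ y * x := by
    refine ⟨⟨π ⟨s0, hs0M⟩, hs0RB⟩, ⟨π ⟨a, haM⟩, haRB⟩, ?_⟩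
    intro e
    have e1 : π ⟨s0, hs0M⟩ * π ⟨a, haM⟩ = π ⟨a, haM⟩ * π ⟨s0, hs0M⟩ := congrArg Subtype.val e
    have e2 : s0 * a = a * s0 := hπc ⟨s0, hs0M⟩ ⟨a, haM⟩ haA 2 (hpow4 _ haQ) e1
    apply hz1
    rw [← hs0a, e2]
    group
  have hex : IsExtraspecial 2 ↥RB := hE2.isExtraspecial hna
  -- (ii) the centralizer of the image of `R`
  have hcentRB : centralizer (RB : Set (↥M ⧸ An)) = (center ↥RB).map RB.subtype := by
    ext x
    constructor
    · intro hx
      rw [mem_centralizer_iff] at hx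
      obtain ⟨c, hc, rfl⟩ := hlift x
      have hcR : ∀ r ∈ R, c * r = r * c := by
        intro r hr
        have hrM : r ∈ M := hRM hr
        have h1 := hx (π ⟨r, hrM⟩) ((hmemRB _).mpr ⟨⟨r, hrM⟩, hr, rfl⟩)
        exact hπc ⟨c, hCM hc⟩ ⟨r, hrM⟩ (hRA hr) 2 (hpow4 _ (hRQ hr)) h1.symm
      have hxRB : π ⟨c, hCM hc⟩ ∈ RB := by
        rcases hDimg c hc hcR with e | e
        · rw [e]; exact one_mem _
        · rw [e]; exact hzRB
      refine ⟨⟨π ⟨c, hCM hc⟩, hxRB⟩, ?_, rfl⟩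
      rw [SetLike.mem_coe, mem_center_iff]
      rintro ⟨y, hy⟩
      apply Subtype.ext
      exact hx y hy
    · rintro ⟨w, hw, rfl⟩
      rw [SetLike.mem_coe, mem_center_iff] at hw
      rw [mem_centralizer_iff]
      intro y hy
      exact congrArg Subtype.val (hw ⟨y, hy⟩)
  -- (iii) the centralizer of the centre normalizes
  have hnormRB : centralizer (((center ↥RB).map RB.subtype : Subgroup (↥M ⧸ An)) : Set (↥M ⧸ An)) ≤
      normalizer (RB : Set (↥M ⧸ An)) := by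
    intro x hx
    rw [mem_centralizer_iff] at hx
    obtain ⟨c, hc, rfl⟩ := hlift x
    have hzcen : π ⟨z, hzM⟩ ∈ (((center ↥RB).map RB.subtype : Subgroup (↥M ⧸ An)) : Set (↥M ⧸ An)) :=
      ⟨⟨π ⟨z, hzM⟩, hzRB⟩, hzcenRB, rfl⟩
    have hcz : c * z = z * c :=
      hπc ⟨c, hCM hc⟩ ⟨z, hzM⟩ hzA 1 (by rw [pow_one, pow_two]; exact hzz) (hx _ hzcen).symm
    have hci : c⁻¹ ∈ centralizer (A : Set G) := Subgroup.inv_mem _ hc
    have hczi : c⁻¹ * z = z * c⁻¹ := by
      calc c⁻¹ * z = c⁻¹ * (z * c) * c⁻¹ := by group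
        _ = c⁻¹ * (c * z) * c⁻¹ := by rw [hcz]
        _ = z * c⁻¹ := by group
    rw [mem_normalizer_iff]
    intro y
    constructor
    · intro hy
      obtain ⟨p, hp, rfl⟩ := (hmemRB y).mp hy
      rw [← map_inv, ← map_mul, ← map_mul]
      refine (hmemRB _).mpr ⟨⟨c, hCM hc⟩ * p * ⟨c, hCM hc⟩⁻¹, ?_, rfl⟩
      exact hnormR c hc hcz p hp
    · intro hy
      obtain ⟨p, hp, hpe⟩ := (hmemRB _).mp hy
      have : y = π (⟨c, hCM hc⟩⁻¹ * p * ⟨c, hCM hc⟩) := by
        rw [map_mul, map_mul, map_inv, hpe]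
        group
      rw [this]
      refine (hmemRB _).mpr ⟨⟨c, hCM hc⟩⁻¹ * p * ⟨c, hCM hc⟩, ?_, rfl⟩
      have := hnormR c⁻¹ hci hczi p hp
      simpa using this
  -- (iv) no odd-order subgroup is normalized
  have hoddRB : ∀ Kb : Subgroup (↥M ⧸ An), Odd (Nat.card Kb) →
      RB ≤ normalizer (Kb : Set (↥M ⧸ An)) → Kb = ⊥ := by
    intro Kb hKodd hKn
    have hconjK : ∀ y ∈ RB, ∀ d ∈ Kb, y * d * y⁻¹ ∈ Kb := by
      intro y hy d hd
      exact (mem_normalizer_iff.mp (hKn hy) d).mp hd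
    have hmeet : ∀ x : ↥M ⧸ An, x ∈ Kb → x ∈ RB → x = 1 := fun x h1 h2 =>
      eq_one_of_mem_odd_of_mem_two Kb RB hKodd hRB2 h1 h2
    -- `z` acts without fixed points
    have hfz : ∀ d ∈ Kb, π ⟨z, hzM⟩ * d * (π ⟨z, hzM⟩)⁻¹ = d → d = 1 := by
      intro d hd hzd
      obtain ⟨c, hc, rfl⟩ := hlift d
      have hcomm : π ⟨c, hCM hc⟩ * π ⟨z, hzM⟩ = π ⟨z, hzM⟩ * π ⟨c, hCM hc⟩ := by
        calc π ⟨c, hCM hc⟩ * π ⟨z, hzM⟩
            = (π ⟨z, hzM⟩ * π ⟨c, hCM hc⟩ * (π ⟨z, hzM⟩)⁻¹) * π ⟨z, hzM⟩ := by rw [hzd]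
          _ = π ⟨z, hzM⟩ * π ⟨c, hCM hc⟩ := by group
      have hcz : c * z = z * c :=
        hπc ⟨c, hCM hc⟩ ⟨z, hzM⟩ hzA 1 (by rw [pow_one, pow_two]; exact hzz) hcomm
      have hcR : ∀ r ∈ R, c * r = r * c := by
        intro r hr
        have hrM : r ∈ M := hRM hr
        have hw : c * r * c⁻¹ * r⁻¹ ∈ R := R.mul_mem (hnormR c hc hcz r hr) (R.inv_mem hr)
        have hwM : c * r * c⁻¹ * r⁻¹ ∈ M := hRM hw
        have hπw : π ⟨c * r * c⁻¹ * r⁻¹, hwM⟩ =
            π ⟨c, hCM hc⟩ * (π ⟨r, hrM⟩ * (π ⟨c, hCM hc⟩)⁻¹ * (π ⟨r, hrM⟩)⁻¹) := by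
          have : (⟨c * r * c⁻¹ * r⁻¹, hwM⟩ : ↥M) =
              ⟨c, hCM hc⟩ * (⟨r, hrM⟩ * ⟨c, hCM hc⟩⁻¹ * ⟨r, hrM⟩⁻¹) := by
            apply Subtype.ext
            show c * r * c⁻¹ * r⁻¹ = c * (r * c⁻¹ * r⁻¹)
            group
          rw [this, map_mul, map_mul, map_mul, map_inv, map_inv]
        have h1 : π ⟨c * r * c⁻¹ * r⁻¹, hwM⟩ ∈ Kb := by
          rw [hπw]
          apply Kb.mul_mem hd
          exact hconjK _ ((hmemRB _).mpr ⟨⟨r, hrM⟩, hr, rfl⟩) _ (Kb.inv_mem hd)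
        have h2 : π ⟨c * r * c⁻¹ * r⁻¹, hwM⟩ ∈ RB := (hmemRB _).mpr ⟨_, hw, rfl⟩
        have h3 : c * r * c⁻¹ * r⁻¹ ∈ A := (hπ1 _).mp (hmeet _ h1 h2)
        have h4 : c * r * c⁻¹ * r⁻¹ = 1 := eq_one_of_mem_odd_of_mem_two A R hAodd hR2 h3 hw
        calc c * r = (c * r * c⁻¹ * r⁻¹) * (r * c) := by group
          _ = r * c := by rw [h4, one_mul]
      apply hmeet _ hd
      rcases hDimg c hc hcR with e | e
      · rw [e]; exact one_mem _
      · rw [e]; exact hzRB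
    -- `a` acts without fixed points
    have hfa : ∀ d ∈ Kb, π ⟨a, haM⟩ * d * (π ⟨a, haM⟩)⁻¹ = d → d = 1 := by
      intro d hd had
      obtain ⟨c, hc, rfl⟩ := hlift d
      have hcomm : π ⟨c, hCM hc⟩ * π ⟨a, haM⟩ = π ⟨a, haM⟩ * π ⟨c, hCM hc⟩ := by
        calc π ⟨c, hCM hc⟩ * π ⟨a, haM⟩
            = (π ⟨a, haM⟩ * π ⟨c, hCM hc⟩ * (π ⟨a, haM⟩)⁻¹) * π ⟨a, haM⟩ := by rw [had]
          _ = π ⟨a, haM⟩ * π ⟨c, hCM hc⟩ := by group
      have hca : c * a = a * c :=
        hπc ⟨c, hCM hc⟩ ⟨a, haM⟩ haA 1 (by rw [pow_one, pow_two]; exact haa) hcomm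
      have hw : c * z * c⁻¹ * z⁻¹ ∈ Qf G a :=
        (Qf G a).mul_mem (Q_normal hspec hca hza) ((Qf G a).inv_mem hza)
      have hwM : c * z * c⁻¹ * z⁻¹ ∈ M :=
        M.mul_mem (M.mul_mem (M.mul_mem (hCM hc) hzM) (M.inv_mem (hCM hc))) (M.inv_mem hzM)
      have hπw : π ⟨c * z * c⁻¹ * z⁻¹, hwM⟩ =
          π ⟨c, hCM hc⟩ * (π ⟨z, hzM⟩ * (π ⟨c, hCM hc⟩)⁻¹ * (π ⟨z, hzM⟩)⁻¹) := by
        have : (⟨c * z * c⁻¹ * z⁻¹, hwM⟩ : ↥M) =
            ⟨c, hCM hc⟩ * (⟨z, hzM⟩ * ⟨c, hCM hc⟩⁻¹ * ⟨z, hzM⟩⁻¹) := by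
          apply Subtype.ext
          show c * z * c⁻¹ * z⁻¹ = c * (z * c⁻¹ * z⁻¹)
          group
        rw [this, map_mul, map_mul, map_mul, map_inv, map_inv]
      have h1 : π ⟨c * z * c⁻¹ * z⁻¹, hwM⟩ ∈ Kb := by
        rw [hπw]
        apply Kb.mul_mem hd
        exact hconjK _ hzRB _ (Kb.inv_mem hd)
      -- the image of `w` is a `2`-element
      obtain ⟨k, hk⟩ := (Qf_isPGroup a) ⟨_, hw⟩
      have hk' : (c * z * c⁻¹ * z⁻¹) ^ 2 ^ k = 1 := by
        have h2 : ((⟨_, hw⟩ : ↥(Qf G a)) : G) ^ 2 ^ k = 1 := by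
          rw [← Subgroup.coe_pow, hk]; rfl
        exact h2
      have h2 : (π ⟨c * z * c⁻¹ * z⁻¹, hwM⟩) ^ 2 ^ k = 1 := by
        rw [← map_pow]
        have : (⟨c * z * c⁻¹ * z⁻¹, hwM⟩ : ↥M) ^ 2 ^ k = 1 := by
          apply Subtype.ext
          rw [Subgroup.coe_pow]
          exact hk'
        rw [this, map_one]
      have h3 : (π ⟨c * z * c⁻¹ * z⁻¹, hwM⟩) ^ Nat.card Kb = 1 := by
        have h4 : (⟨_, h1⟩ : ↥Kb) ^ Nat.card Kb = 1 := pow_card_eq_one'
        have h5 : ((⟨_, h1⟩ : ↥Kb) : ↥M ⧸ An) ^ Nat.card Kb = 1 := by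
          rw [← Subgroup.coe_pow, h4]; rfl
        exact h5
      have h4 : π ⟨c * z * c⁻¹ * z⁻¹, hwM⟩ = 1 :=
        eq_one_of_pow_two_of_pow_odd _ k _ h2 h3 hKodd
      have h5 : c * z * c⁻¹ * z⁻¹ ∈ A := (hπ1 _).mp h4
      have h6 : c * z * c⁻¹ * z⁻¹ = 1 :=
        eq_one_of_mem_odd_of_mem_two A (Qf G a) hAodd (Qf_isPGroup a) h5 hw
      have hcz : c * z = z * c := by
        calc c * z = (c * z * c⁻¹ * z⁻¹) * (z * c) := by group
          _ = z * c := by rw [h6, one_mul]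
      apply hfz _ hd
      have : (⟨z, hzM⟩ : ↥M) * ⟨c, hCM hc⟩ * ⟨z, hzM⟩⁻¹ = ⟨c, hCM hc⟩ := by
        apply Subtype.ext
        show z * c * z⁻¹ = c
        rw [← hcz]; group
      rw [← map_inv, ← map_mul, ← map_mul, this]
    have hs : π ⟨s0, hs0M⟩ * π ⟨a, haM⟩ * (π ⟨s0, hs0M⟩)⁻¹ = π ⟨z, hzM⟩ * π ⟨a, haM⟩ := by
      rw [← map_inv, ← map_mul, ← map_mul, ← map_mul]
      congr 1
      apply Subtype.ext
      exact e0
    have hπaa : π ⟨a, haM⟩ * π ⟨a, haM⟩ = 1 := by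
      rw [← map_mul]
      have : (⟨a, haM⟩ : ↥M) * ⟨a, haM⟩ = 1 := Subtype.ext haa
      rw [this, map_one]
    apply odd_trivial_abs Kb (π ⟨z, hzM⟩) (π ⟨a, haM⟩) (π ⟨s0, hs0M⟩) hπzz hπaa hs
      (hconjK _ hzRB) (hconjK _ haRB) ?_ hfz hfa
    intro d hd
    have := hconjK _ (RB.inv_mem hs0RB) d hd
    simpa using this
  exact ⟨hex, hcentRB, hnormRB, hoddRB⟩

end Cfsg.Agent.S5428
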