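import Cfsg.Statements.S5429
import Cfsg.Agent.S5427
import Cfsg.Agent.Lib.Helper29.ExtraTwoBuild

set_option autoImplicit false
open Cfsg

namespace Cfsg.Agent.S5429

open Subgroup Cfsg.Agent.Lib.Helper4.LX Cfsg.Agent.S5427 Cfsg.Agent.Lib.Helper29
open scoped commutatorElement

theorem mem_zpowers_two {G : Type*} [Group G] (t : G) (ht : orderOf t = 2) (x : G)
    (hx : x ∈ zpowers t) : x = 1 ∨ x = t := by
  obtain ⟨k, rfl⟩ := mem_zpowers_iff.mp hx
  rw [← zpow_mod_orderOf, ht]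
  rcases Int.emod_two_eq_zero_or_one k with h | h
  · left; rw [show (k % ((2 : ℕ) : ℤ)) = 0 from h, zpow_zero]
  · right; rw [show (k % ((2 : ℕ) : ℤ)) = 1 from h, zpow_one]

/-- relative version of `S5427.odd_trivial`: a subgroup `P` of `Q_z` containing `z` and a pair
`a, s0` with `[s0, a] = z` and `z ∈ Q_a` normalizes no nontrivial odd-order subgroup on which `z`
acts without fixed points. -/
theorem odd_trivial_rel {G : Type*} [Group G] [Finite G] {z : G} (h : LE (Qf G) z)
    (P : Subgroup G) (hzP : z ∈ P)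
    (a s0 : G) (haP : a ∈ P) (hs0P : s0 ∈ P) (hs0a : s0 * a * s0⁻¹ * a⁻¹ = z) (haa : a * a = 1)
    (hza : z ∈ Qf G a)
    (D : Subgroup G) (hD : Odd (Nat.card D)) (hnorm : ∀ q ∈ P, ∀ d ∈ D, q * d * q⁻¹ ∈ D)
    (hfz : ∀ d ∈ D, z * d * z⁻¹ = d → d = 1) : D = ⊥ := by
  have hspec : Spec (Qf G) := spec_Qf
  have hQ2 : ∀ x : G, IsPGroup 2 (Qf G x) := Qf_isPGroup
  have hinvz := inverts_of_normalizes D z h.sq (fun d hd => hnorm z hzP d hd) hfz
  have hfu : ∀ d ∈ D, a * d * a⁻¹ = d → d = 1 := by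
    intro d hd hdu
    have hdu' : d * a = a * d := by
      calc d * a = (a * d * a⁻¹) * a := by rw [hdu]
        _ = a * d := by group
    have h1 : d * z * d⁻¹ ∈ Qf G a := Q_normal hspec hdu' hza
    have h2 : d * z * d⁻¹ * z⁻¹ ∈ Qf G a := (Qf G a).mul_mem h1 ((Qf G a).inv_mem hza)
    have h3 : d * z * d⁻¹ * z⁻¹ = d * d := by
      have := hinvz d⁻¹ (D.inv_mem hd)
      calc d * z * d⁻¹ * z⁻¹ = d * (z * d⁻¹ * z⁻¹) := by group
        _ = d * d := by rw [this, inv_inv]
    rw [h3] at h2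
    have h4 := eq_one_of_mem_odd_of_mem_two D (Qf G a) hD (hQ2 a) (D.mul_mem hd hd) h2
    have h5 : orderOf d ∣ 2 := orderOf_dvd_of_pow_eq_one (by rw [pow_two]; exact h4)
    have h6 : orderOf d ∣ Nat.card D := D.orderOf_dvd_natCard hd
    have := Nat.eq_one_of_dvd_coprimes (Nat.coprime_two_left.mpr hD) h5 h6
    exact orderOf_eq_one_iff.mp this
  have hinvu := inverts_of_normalizes D a haa (fun d hd => hnorm a haP d hd) hfu
  rw [eq_bot_iff]
  intro d hd
  rw [mem_bot]
  have hqu' : s0 * a * s0⁻¹ = z * a := by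
    calc s0 * a * s0⁻¹ = (s0 * a * s0⁻¹ * a⁻¹) * a := by group
      _ = z * a := by rw [hs0a]
  have hd' : s0⁻¹ * d * s0 ∈ D := by
    have := hnorm s0⁻¹ (P.inv_mem hs0P) d hd
    simpa using this
  have hzud : ∀ e ∈ D, (z * a) * e * (z * a)⁻¹ = e := by
    intro e he
    have h1 := hinvu e he
    have h2 := hinvz e⁻¹ (D.inv_mem he)
    calc (z * a) * e * (z * a)⁻¹ = z * (a * e * a⁻¹) * z⁻¹ := by group
      _ = z * e⁻¹ * z⁻¹ := by rw [h1]
      _ = e := by rw [h2, inv_inv]
  have h7 : a * (s0⁻¹ * d * s0) * a⁻¹ = s0⁻¹ * d * s0 := by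
    calc a * (s0⁻¹ * d * s0) * a⁻¹
        = s0⁻¹ * ((s0 * a * s0⁻¹) * d * (s0 * a * s0⁻¹)⁻¹) * s0 := by group
      _ = s0⁻¹ * ((z * a) * d * (z * a)⁻¹) * s0 := by rw [hqu']
      _ = s0⁻¹ * d * s0 := by rw [hzud d hd]
  have h8 := hfu _ hd' h7
  calc d = s0 * (s0⁻¹ * d * s0) * s0⁻¹ := by group
    _ = 1 := by rw [h8]; group

/-- Let z be an involution of the finite group G with centralizer C whose generalized Fitting subgroup Q is extraspecial of width at least 3 (order 2^(2w+1), w ≥ 3); let g be an element of G with g z g⁻¹ in Q but outside the centre Z of Q, and t an involution lying in both Q and g Q g⁻¹ that is not conjugate to z; write P for the centralizer of t in Q and suppose that the elements of C acting trivially by conjugation on P modulo the subgroup generated by t and z are exactly the elements of Q. Then the image of P in the centralizer of t modulo the subgroup generated by t is a large extraspecial 2-subgroup there, and g z g⁻¹ is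 conjugate to z inside the subgroup generated by P and the centralizer of t in g Q g⁻¹. -/
theorem result {G : Type*} [Group G] [Finite G] (z : G) (hz : orderOf z = 2) (Q : Subgroup G) (hQC : Q ≤ Subgroup.centralizer ({z} : Set G)) (hF : (Cfsg.generalizedFittingSubgroup ↥(Subgroup.centralizer ({z} : Set G))).map (Subgroup.centralizer ({z} : Set G)).subtype = Q) (hQ : Cfsg.IsExtraspecial 2 ↥Q) (w : ℕ) (hw : 3 ≤ w) (hcard : Nat.card ↥Q = 2 ^ (2 * w + 1)) (g : G) (hgQ : g * z * g⁻¹ ∈ Q) (hgZ : g * z * g⁻¹ ∉ ((Subgroup.center ↥Q).map Q.subtype)) (t : G) (ht : orderOf t = 2) (htQ : t ∈ Q ⊓ (Q).map (MulAut.conj g).toMonoidHom) (htz : ¬ IsConj z t) (P : Subgroup G) (hP : P = Q ⊓ Subgroup.centralizer ({t} : Set G)) (hCP : ∀ c ∈ Subgroup.centralizer ({z} : Set G), (∀ x ∈ P, ∃ y ∈ Subgroup.closure ({t, z} : Set G), c * x * c⁻¹ = x * y) ↔ c ∈ Q) [hn : ((Subgroup.zpowers t).subgroupOf (Subgroup.centralizer ({t} : Set G))).Normal] : Cfsg.IsLargeExtraspecial ((P.subgroupOf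 (Subgroup.centralizer ({t} : Set G))).map (QuotientGroup.mk' ((Subgroup.zpowers t).subgroupOf (Subgroup.centralizer ({t} : Set G))))) ∧ ∃ x ∈ P ⊔ ((Q).map (MulAut.conj g).toMonoidHom ⊓ Subgroup.centralizer ({t} : Set G)), x * (g * z * g⁻¹) * x⁻¹ = z := by
  classical
  have hp2 : Fact (Nat.Prime 2) := ⟨Nat.prime_two⟩
  have hFn : (Cfsg.generalizedFittingSubgroup ↥(centralizer ({z} : Set G))).Normal :=
    Cfsg.Agent.Lib.Helper22.generalizedFittingSubgroup_normal _
  have hF2 : IsPGroup 2 ↥(Cfsg.generalizedFittingSubgroup ↥(centralizer ({z} : Set G))) := by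
    have e : ↥(Cfsg.generalizedFittingSubgroup ↥(centralizer ({z} : Set G))) ≃* ↥Q :=
      ((Cfsg.generalizedFittingSubgroup ↥(centralizer ({z} : Set G))).equivMapOfInjective _
        (Subgroup.subtype_injective _)).trans (MulEquiv.subgroupCongr hF)
    exact hQ.1.1.of_equiv e.symm
  have hFeq : Cfsg.generalizedFittingSubgroup ↥(centralizer ({z} : Set G)) =
      Cfsg.pCore 2 ↥(centralizer ({z} : Set G)) :=
    le_antisymm (Cfsg.Agent.Lib.Helper87.le_pCore hFn hF2)
      ((Cfsg.Agent.Lib.Helper22.pCore_le_fitting 2).trans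
        (Cfsg.Agent.Lib.Helper22.fitting_le_generalizedFitting _))
  have hQeq : Q = Qf G z := by
    rw [← hF, hFeq]; rfl
  subst hQeq
  have hspec : Spec (Qf G) := spec_Qf
  have hzz : z * z = 1 := by
    have := pow_orderOf_eq_one z
    rwa [hz, pow_two] at this
  have hz1 : z ≠ 1 := by
    intro h; rw [h, orderOf_one] at hz; omega
  have hmemQ : ∀ x : G, x * z = z * x → (∀ b ∈ Qf G z, b * x = x * b) → x ∈ Qf G z := by
    intro x hxz hxb
    have hxC : x ∈ centralizer ({z} : Set G) := mem_centralizer_singleton_iff.mpr hxz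
    have h1 : (⟨x, hxC⟩ : ↥(centralizer ({z} : Set G))) ∈
        centralizer ((Cfsg.generalizedFittingSubgroup ↥(centralizer ({z} : Set G)) :
          Subgroup ↥(centralizer ({z} : Set G))) : Set ↥(centralizer ({z} : Set G))) := by
      rw [mem_centralizer_iff]
      intro b hb
      apply Subtype.ext
      have hbQ : (b : G) ∈ Qf G z := by
        rw [← hF]
        exact ⟨b, hb, rfl⟩
      exact hxb _ hbQ
    have h2 := Cfsg.Agent.Lib.Helper22.centralizer_generalizedFitting_le _ h1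
    rw [← hF]
    exact ⟨⟨x, hxC⟩, h2, rfl⟩
  have hzQ : z ∈ Qf G z := hmemQ z rfl (fun b hb => Q_comm hspec hb)
  have hcent : centralizer ((Qf G z : Subgroup G) : Set G) ≤ Qf G z := by
    intro x hx
    rw [mem_centralizer_iff] at hx
    exact hmemQ x (hx z hzQ).symm (fun b hb => hx b hb)
  have hLE : LE (Qf G) z := LE.of_hyp hspec hz hQ hcent
  -- the conjugate `a` of `z`
  have hLEa : LE (Qf G) (g * z * g⁻¹) := hLE.conj hspec g
  have hQa : (Qf G z).map (MulAut.conj g).toMonoidHom = Qf G (g * z * g⁻¹) := Q_conj hspec g z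
  rw [hQa] at htQ ⊢
  set a : G := g * z * g⁻¹ with ha
  have haQ : a ∈ Qf G z := hgQ
  have hza : z ∈ Qf G a := LE.symm_mem hspec hLE hLEa (card_Q_conj hspec g z).le haQ
  have ha1 : a ≠ 1 := hLEa.ne
  have haa : a * a = 1 := hLEa.sq
  have haz : a ≠ z := by
    intro e
    apply hgZ
    rw [e]
    refine ⟨⟨z, hzQ⟩, ?_, rfl⟩
    rw [SetLike.mem_coe, mem_center_iff]
    intro b
    apply Subtype.ext
    exact Q_comm hspec b.2
  have hconj_a : IsConj z a := isConj_iff.mpr ⟨g, rfl⟩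
  -- the involution `t`
  have htt : t * t = 1 := by
    have := pow_orderOf_eq_one t
    rwa [ht, pow_two] at this
  have ht1 : t ≠ 1 := by
    intro h; rw [h, orderOf_one] at ht; omega
  have hti : t⁻¹ = t := inv_eq_of_mul_eq_one_right htt
  have hzi : z⁻¹ = z := inv_eq_of_mul_eq_one_right hzz
  have hai : a⁻¹ = a := inv_eq_of_mul_eq_one_right haa
  have htQz : t ∈ Qf G z := htQ.1
  have htQa : t ∈ Qf G a := htQ.2
  have htz' : t ≠ z := by
    intro e; apply htz; rw [e]
  have hta : t ≠ a := by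
    intro e; apply htz; rw [e]; exact hconj_a
  have hctz : t * z = z * t := Q_comm hspec htQz
  have hcta : t * a = a * t := Q_comm hspec htQa
  have hcaz : a * z = z * a := Q_comm hspec haQ
  obtain ⟨q0, hq0, hq0t⟩ := hLE.exists_move htQz ht1 htz'
  obtain ⟨q1, hq1, hq1t⟩ := hLEa.exists_move htQa ht1 hta
  have hzt_nc : ∀ x : G, IsConj z x → x ≠ z * t := by
    intro x hx e
    apply htz
    rw [e] at hx
    refine hx.trans ?_
    rw [isConj_comm, isConj_iff]
    refine ⟨q0, ?_⟩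
    calc q0 * t * q0⁻¹ = (q0 * t * q0⁻¹ * t⁻¹) * t := by group
      _ = z * t := by rw [hq0t]
  have hat_nc : ∀ x : G, IsConj z x → x ≠ a * t := by
    intro x hx e
    apply htz
    rw [e] at hx
    refine hx.trans ?_
    rw [isConj_comm, isConj_iff]
    refine ⟨q1, ?_⟩
    calc q1 * t * q1⁻¹ = (q1 * t * q1⁻¹ * t⁻¹) * t := by group
      _ = a * t := by rw [hq1t]
  -- an element of `P` moving `a`, and an element of `C_{Q_a}(t)` moving `z`
  have hmove : ∃ s ∈ Qf G z, s * t = t * s ∧ s * a * s⁻¹ * a⁻¹ = z := by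
    by_contra hcon
    push Not at hcon
    have hall : ∀ s ∈ Qf G z, s * t = t * s → s * a = a * s := by
      intro s hs hst
      rcases hLE.comm s hs a haQ with e | e
      · calc s * a = (s * a * s⁻¹ * a⁻¹) * (a * s) := by group
          _ = a * s := by rw [e, one_mul]
      · exact absurd e (hcon s hs hst)
    rcases hLE.double_cent hspec htQz ht1 htz' haQ hall with e | e | e | e
    · exact ha1 e
    · exact haz e
    · rw [hti] at e; exact hta e.symm
    · rw [hti] at e; exact hzt_nc a hconj_a e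
  have hmove' : ∃ s ∈ Qf G a, s * t = t * s ∧ s * z * s⁻¹ * z⁻¹ = a := by
    by_contra hcon
    push Not at hcon
    have hall : ∀ s ∈ Qf G a, s * t = t * s → s * z = z * s := by
      intro s hs hst
      rcases hLEa.comm s hs z hza with e | e
      · calc s * z = (s * z * s⁻¹ * z⁻¹) * (z * s) := by group
          _ = z * s := by rw [e, one_mul]
      · exact absurd e (hcon s hs hst)
    rcases hLEa.double_cent hspec htQa ht1 hta hza hall with e | e | e | e
    · exact hz1 e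
    · exact haz e.symm
    · rw [hti] at e; exact htz' e.symm
    · rw [hti] at e; exact hat_nc z (IsConj.refl z) e
  obtain ⟨s0, hs0Q, hs0t, hs0a⟩ := hmove
  obtain ⟨s1, hs1Q, hs1t, hs1z⟩ := hmove'
  have hs0P : s0 ∈ P := by
    rw [hP]; exact ⟨hs0Q, mem_centralizer_singleton_iff.mpr hs0t⟩
  have haP : a ∈ P := by
    rw [hP]; exact ⟨haQ, mem_centralizer_singleton_iff.mpr hcta.symm⟩
  have hzP : z ∈ P := by
    rw [hP]; exact ⟨hzQ, mem_centralizer_singleton_iff.mpr hctz.symm⟩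
  have hPQ : P ≤ Qf G z := by rw [hP]; exact inf_le_left
  have hPt : ∀ p ∈ P, p * t = t * p := by
    intro p hp
    rw [hP] at hp
    exact mem_centralizer_singleton_iff.mp hp.2
  have hmemP : ∀ p : G, p ∈ Qf G z → p * t = t * p → p ∈ P := by
    intro p hp hpt
    rw [hP]; exact ⟨hp, mem_centralizer_singleton_iff.mpr hpt⟩
  have part2 : ∃ x ∈ P ⊔ (Qf G a ⊓ centralizer ({t} : Set G)), x * a * x⁻¹ = z := by
    refine ⟨s1 * s0, ?_, ?_⟩
    · apply Subgroup.mul_mem
      · exact (le_sup_right : _ ≤ P ⊔ (Qf G a ⊓ centralizer ({t} : Set G)))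
          ⟨hs1Q, mem_centralizer_singleton_iff.mpr hs1t⟩
      · exact (le_sup_left : P ≤ P ⊔ (Qf G a ⊓ centralizer ({t} : Set G))) hs0P
    · have e0 : s0 * a * s0⁻¹ = z * a := by
        calc s0 * a * s0⁻¹ = (s0 * a * s0⁻¹ * a⁻¹) * a := by group
          _ = z * a := by rw [hs0a]
      have e1 : s1 * z * s1⁻¹ = a * z := by
        calc s1 * z * s1⁻¹ = (s1 * z * s1⁻¹ * z⁻¹) * z := by group
          _ = a * z := by rw [hs1z]
      have e2 : s1 * a * s1⁻¹ = a := by
        have := Q_comm hspec hs1Q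
        calc s1 * a * s1⁻¹ = (a * s1) * s1⁻¹ := by rw [this]
          _ = a := by group
      calc s1 * s0 * a * (s1 * s0)⁻¹ = s1 * (s0 * a * s0⁻¹) * s1⁻¹ := by group
        _ = s1 * (z * a) * s1⁻¹ := by rw [e0]
        _ = (s1 * z * s1⁻¹) * (s1 * a * s1⁻¹) := by group
        _ = (a * z) * a := by rw [e1, e2]
        _ = (z * a) * a := by rw [hcaz]
        _ = z := by rw [mul_assoc, haa, mul_one]
  refine ⟨?_, part2⟩
  -- the quotient `C_G(t)/⟨t⟩`
  have hzCt : z ∈ centralizer ({t} : Set G) := mem_centralizer_singleton_iff.mpr hctz.symm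
  have haCt : a ∈ centralizer ({t} : Set G) := mem_centralizer_singleton_iff.mpr hcta.symm
  have htCt : t ∈ centralizer ({t} : Set G) := mem_centralizer_singleton_iff.mpr rfl
  have hPCt : P ≤ centralizer ({t} : Set G) := by rw [hP]; exact inf_le_right
  have hπ1 : ∀ c : ↥(centralizer ({t} : Set G)),
      QuotientGroup.mk' ((zpowers t).subgroupOf (centralizer ({t} : Set G))) c = 1 ↔
        ((c : G) = 1 ∨ (c : G) = t) := by
    intro c
    rw [QuotientGroup.mk'_apply, QuotientGroup.eq_one_iff, mem_subgroupOf]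
    constructor
    · exact mem_zpowers_two t ht _
    · rintro (e | e)
      · rw [e]; exact one_mem _
      · rw [e]; exact mem_zpowers t
  -- commuting images
  have hπc : ∀ c p : ↥(centralizer ({t} : Set G)),
      QuotientGroup.mk' ((zpowers t).subgroupOf (centralizer ({t} : Set G))) p *
        QuotientGroup.mk' ((zpowers t).subgroupOf (centralizer ({t} : Set G))) c =
      QuotientGroup.mk' ((zpowers t).subgroupOf (centralizer ({t} : Set G))) c *
        QuotientGroup.mk' ((zpowers t).subgroupOf (centralizer ({t} : Set G))) p →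
      ((c : G) * p * (c : G)⁻¹ * (p : G)⁻¹ = 1 ∨ (c : G) * p * (c : G)⁻¹ * (p : G)⁻¹ = t) := by
    intro c p hcp
    have h1 : QuotientGroup.mk' ((zpowers t).subgroupOf (centralizer ({t} : Set G)))
        (c * p * c⁻¹ * p⁻¹) = 1 := by
      rw [map_mul, map_mul, map_mul, map_inv, map_inv, ← hcp]
      group
    have := (hπ1 _).mp h1
    simpa using this
  -- an element of `C_G(t)` whose image commutes with the image of `z` centralizes `z`
  have hF2 : ∀ c : G, c * t = t * c →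
      (c * z * c⁻¹ * z⁻¹ = 1 ∨ c * z * c⁻¹ * z⁻¹ = t) → c * z = z * c := by
    intro c _ hc
    rcases hc with e | e
    · calc c * z = (c * z * c⁻¹ * z⁻¹) * (z * c) := by group
        _ = z * c := by rw [e, one_mul]
    · exfalso
      have e' : c * z * c⁻¹ = z * t := by
        calc c * z * c⁻¹ = (c * z * c⁻¹ * z⁻¹) * z := by group
          _ = t * z := by rw [e]
          _ = z * t := hctz
      exact hzt_nc (c * z * c⁻¹) (isConj_iff.mpr ⟨c, rfl⟩) e'
  -- such elements normalize `P`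
  have hF3 : ∀ c : G, c * t = t * c → c * z = z * c → ∀ p ∈ P, c * p * c⁻¹ ∈ P := by
    intro c hct hcz p hp
    apply hmemP
    · exact Q_normal hspec hcz (hPQ hp)
    · have hpt := hPt p hp
      have hcti : c⁻¹ * t = t * c⁻¹ := by
        calc c⁻¹ * t = c⁻¹ * (t * c) * c⁻¹ := by group
          _ = c⁻¹ * (c * t) * c⁻¹ := by rw [hct]
          _ = t * c⁻¹ := by group
      calc c * p * c⁻¹ * t = c * p * (c⁻¹ * t) := by group
        _ = c * p * (t * c⁻¹) := by rw [hcti]
        _ = c * (p * t) * c⁻¹ := by group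
        _ = c * (t * p) * c⁻¹ := by rw [hpt]
        _ = (c * t) * p * c⁻¹ := by group
        _ = (t * c) * p * c⁻¹ := by rw [hct]
        _ = t * (c * p * c⁻¹) := by group
  -- centralizing `P` modulo `⟨t⟩` forces membership in `P`
  have hF4 : ∀ c : G, c * t = t * c → c * z = z * c →
      (∀ p ∈ P, c * p * c⁻¹ * p⁻¹ = 1 ∨ c * p * c⁻¹ * p⁻¹ = t) → c ∈ P := by
    intro c hct hcz hall
    apply hmemP _ _ hct
    apply (hCP c (mem_centralizer_singleton_iff.mpr hcz)).mp
    intro p hp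
    rcases hall p hp with e | e
    · refine ⟨1, one_mem _, ?_⟩
      calc c * p * c⁻¹ = (c * p * c⁻¹ * p⁻¹) * p := by group
        _ = p * 1 := by rw [e, one_mul, mul_one]
    · refine ⟨t, subset_closure (by simp), ?_⟩
      calc c * p * c⁻¹ = (c * p * c⁻¹ * p⁻¹) * p := by group
        _ = t * p := by rw [e]
        _ = p * t := (hPt p hp).symm
  set Ct : Subgroup G := centralizer ({t} : Set G) with hCtdef
  set Tn : Subgroup ↥Ct := (zpowers t).subgroupOf Ct with hTndef
  set π : ↥Ct →* ↥Ct ⧸ Tn := QuotientGroup.mk' Tn with hπdef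
  set PB : Subgroup (↥Ct ⧸ Tn) := (P.subgroupOf Ct).map π with hPBdef
  have hπs : Function.Surjective π := QuotientGroup.mk'_surjective Tn
  have hmemPB : ∀ x : ↥Ct ⧸ Tn, x ∈ PB ↔ ∃ p : ↥Ct, (p : G) ∈ P ∧ π p = x := by
    intro x
    rw [hPBdef, mem_map]
    constructor
    · rintro ⟨p, hp, rfl⟩
      exact ⟨p, mem_subgroupOf.mp hp, rfl⟩
    · rintro ⟨p, hp, rfl⟩
      exact ⟨p, mem_subgroupOf.mpr hp, rfl⟩
  -- images of elements of `P`
  have hzPB : π ⟨z, hzCt⟩ ∈ PB := (hmemPB _).mpr ⟨⟨z, hzCt⟩, hzP, rfl⟩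
  have hπz1 : π ⟨z, hzCt⟩ ≠ 1 := by
    intro e
    rcases (hπ1 _).mp e with e' | e'
    · exact hz1 e'
    · exact htz' e'.symm
  have hπt : π ⟨t, htCt⟩ = 1 := (hπ1 _).mpr (Or.inr rfl)
  -- commutators in `P`
  have hcommP : ∀ p1 ∈ P, ∀ p2 ∈ P, p1 * p2 * p1⁻¹ * p2⁻¹ = 1 ∨ p1 * p2 * p1⁻¹ * p2⁻¹ = z :=
    fun p1 h1 p2 h2 => hLE.comm p1 (hPQ h1) p2 (hPQ h2)
  -- (i) extraspecial
  have hE2 : IsE2 ↥PB ⟨π ⟨z, hzCt⟩, hzPB⟩ := by
    refine ⟨?_, ?_, ?_, ?_⟩
    · rw [mem_center_iff]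
      rintro ⟨x, hx⟩
      obtain ⟨p, hp, rfl⟩ := (hmemPB x).mp hx
      apply Subtype.ext
      show π p * π ⟨z, hzCt⟩ = π ⟨z, hzCt⟩ * π p
      rw [← map_mul, ← map_mul]
      congr 1
      apply Subtype.ext
      exact Q_comm hspec (hPQ hp)
    · intro e
      exact hπz1 (congrArg Subtype.val e)
    · rintro ⟨x, hx⟩ hw
      obtain ⟨p, hp, rfl⟩ := (hmemPB x).mp hx
      rw [mem_center_iff] at hw
      have hall : ∀ s ∈ Qf G z, s * t = t * s → s * (p : G) = (p : G) * s := by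
        intro s hs hst
        have hsP : s ∈ P := hmemP s hs hst
        have hsCt : s ∈ Ct := hPCt hsP
        have h1 := hw ⟨π ⟨s, hsCt⟩, (hmemPB _).mpr ⟨⟨s, hsCt⟩, hsP, rfl⟩⟩
        have h2 : π ⟨s, hsCt⟩ * π p = π p * π ⟨s, hsCt⟩ := congrArg Subtype.val h1
        rcases hπc p ⟨s, hsCt⟩ h2 with e | e
        · have e' : (p : G) * s * (p : G)⁻¹ * s⁻¹ = 1 := e
          calc s * (p : G) = ((p : G) * s * (p : G)⁻¹ * s⁻¹)⁻¹ * ((p : G) * s) := by group
            _ = (p : G) * s := by rw [e', inv_one, one_mul]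
        · exfalso
          have e' : (p : G) * s * (p : G)⁻¹ * s⁻¹ = t := e
          rcases hcommP p hp s hsP with e2 | e2
          · exact ht1 (e'.symm.trans e2)
          · exact htz' (e'.symm.trans e2)
      rcases hLE.double_cent hspec htQz ht1 htz' (hPQ hp) hall with e | e | e | e
      · left
        apply Subtype.ext
        show π p = 1
        exact (hπ1 p).mpr (Or.inl e)
      · right
        apply Subtype.ext
        show π p = π ⟨z, hzCt⟩
        congr 1
        exact Subtype.ext e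
      · left
        apply Subtype.ext
        show π p = 1
        rw [hti] at e
        exact (hπ1 p).mpr (Or.inr e)
      · right
        apply Subtype.ext
        show π p = π ⟨z, hzCt⟩
        have : p = ⟨z, hzCt⟩ * ⟨t, htCt⟩ := by
          apply Subtype.ext
          rw [e, hti]
          rfl
        rw [this, map_mul, hπt, mul_one]
    · rw [commutator_def, Subgroup.commutator_le]
      rintro ⟨x1, hx1⟩ _ ⟨x2, hx2⟩ _
      obtain ⟨p1, hp1, rfl⟩ := (hmemPB x1).mp hx1
      obtain ⟨p2, hp2, rfl⟩ := (hmemPB x2).mp hx2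
      have hval : ((⁅(⟨π p1, hx1⟩ : ↥PB), ⟨π p2, hx2⟩⁆ : ↥PB) : ↥Ct ⧸ Tn) =
          π (p1 * p2 * p1⁻¹ * p2⁻¹) := by
        rw [commutatorElement_def]
        simp only [map_mul, map_inv]
        rfl
      rcases hcommP p1 hp1 p2 hp2 with e | e
      · have : (⁅(⟨π p1, hx1⟩ : ↥PB), ⟨π p2, hx2⟩⁆ : ↥PB) = 1 := by
          apply Subtype.ext
          rw [hval]
          show π (p1 * p2 * p1⁻¹ * p2⁻¹) = 1
          apply (hπ1 _).mpr
          left
          exact e
        rw [this]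
        exact one_mem _
      · have : (⁅(⟨π p1, hx1⟩ : ↥PB), ⟨π p2, hx2⟩⁆ : ↥PB) = ⟨π ⟨z, hzCt⟩, hzPB⟩ := by
          apply Subtype.ext
          rw [hval]
          show π (p1 * p2 * p1⁻¹ * p2⁻¹) = π ⟨z, hzCt⟩
          congr 1
          exact Subtype.ext e
        rw [this, mem_center_iff]
        rintro ⟨x, hx⟩
        obtain ⟨p, hp, rfl⟩ := (hmemPB x).mp hx
        apply Subtype.ext
        show π p * π ⟨z, hzCt⟩ = π ⟨z, hzCt⟩ * π p
        rw [← map_mul, ← map_mul]
        congr 1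
        apply Subtype.ext
        exact Q_comm hspec (hPQ hp)
  have hna : ∃ x y : ↥PB, x * y ≠ y * x := by
    have hs0Ct : s0 ∈ Ct := hPCt hs0P
    refine ⟨⟨π ⟨s0, hs0Ct⟩, (hmemPB _).mpr ⟨⟨s0, hs0Ct⟩, hs0P, rfl⟩⟩,
      ⟨π ⟨a, haCt⟩, (hmemPB _).mpr ⟨⟨a, haCt⟩, haP, rfl⟩⟩, ?_⟩
    intro e
    have e1 : π ⟨s0, hs0Ct⟩ * π ⟨a, haCt⟩ = π ⟨a, haCt⟩ * π ⟨s0, hs0Ct⟩ := congrArg Subtype.val e
    rcases hπc ⟨s0, hs0Ct⟩ ⟨a, haCt⟩ e1.symm with e2 | e2
    · have e3 : s0 * a * s0⁻¹ * a⁻¹ = 1 := e2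
      exact hz1 (hs0a.symm.trans e3)
    · have e3 : s0 * a * s0⁻¹ * a⁻¹ = t := e2
      exact htz' (e3.symm.trans hs0a)
  have hex : IsExtraspecial 2 ↥PB := hE2.isExtraspecial hna
  -- from commuting with the image of `z` to centralizing `z`
  have hczOf : ∀ c : ↥Ct, π ⟨z, hzCt⟩ * π c = π c * π ⟨z, hzCt⟩ → (c : G) * z = z * (c : G) := by
    intro c hc
    have hct : (c : G) * t = t * (c : G) := mem_centralizer_singleton_iff.mp c.2
    exact hF2 (c : G) hct (hπc c ⟨z, hzCt⟩ hc)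
  -- (ii) the centralizer of the image of `P`
  have hcentPB : centralizer (PB : Set (↥Ct ⧸ Tn)) = (center ↥PB).map PB.subtype := by
    ext x
    constructor
    · intro hx
      rw [mem_centralizer_iff] at hx
      obtain ⟨c, rfl⟩ := hπs x
      have hct : (c : G) * t = t * (c : G) := mem_centralizer_singleton_iff.mp c.2
      have hcz : (c : G) * z = z * (c : G) := hczOf c (hx _ hzPB)
      have hcP : (c : G) ∈ P := by
        apply hF4 (c : G) hct hcz
        intro p hp
        have hpCt : p ∈ Ct := hPCt hp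
        exact hπc c ⟨p, hpCt⟩ (hx _ ((hmemPB _).mpr ⟨⟨p, hpCt⟩, hp, rfl⟩))
      have hxPB : π c ∈ PB := (hmemPB _).mpr ⟨c, hcP, rfl⟩
      refine ⟨⟨π c, hxPB⟩, ?_, rfl⟩
      rw [SetLike.mem_coe, mem_center_iff]
      rintro ⟨y, hy⟩
      apply Subtype.ext
      exact hx y hy
    · rintro ⟨w, hw, rfl⟩
      rw [SetLike.mem_coe, mem_center_iff] at hw
      rw [mem_centralizer_iff]
      intro y hy
      exact congrArg Subtype.val (hw ⟨y, hy⟩)
  -- (iii) the centralizer of the centre normalizes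
  have hnormPB : centralizer (((center ↥PB).map PB.subtype : Subgroup (↥Ct ⧸ Tn)) : Set (↥Ct ⧸ Tn)) ≤
      normalizer (PB : Set (↥Ct ⧸ Tn)) := by
    intro x hx
    rw [mem_centralizer_iff] at hx
    obtain ⟨c, rfl⟩ := hπs x
    have hct : (c : G) * t = t * (c : G) := mem_centralizer_singleton_iff.mp c.2
    have hzcen : π ⟨z, hzCt⟩ ∈ (((center ↥PB).map PB.subtype : Subgroup (↥Ct ⧸ Tn)) : Set (↥Ct ⧸ Tn)) :=
      ⟨⟨π ⟨z, hzCt⟩, hzPB⟩, hE2.mem, rfl⟩
    have hcz : (c : G) * z = z * (c : G) := hczOf c (hx _ hzcen)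
    have hcti : (c : G)⁻¹ * t = t * (c : G)⁻¹ := by
      calc (c : G)⁻¹ * t = (c : G)⁻¹ * (t * c) * (c : G)⁻¹ := by group
        _ = (c : G)⁻¹ * (c * t) * (c : G)⁻¹ := by rw [hct]
        _ = t * (c : G)⁻¹ := by group
    have hczi : (c : G)⁻¹ * z = z * (c : G)⁻¹ := by
      calc (c : G)⁻¹ * z = (c : G)⁻¹ * (z * c) * (c : G)⁻¹ := by group
        _ = (c : G)⁻¹ * (c * z) * (c : G)⁻¹ := by rw [hcz]
        _ = z * (c : G)⁻¹ := by group
    rw [mem_normalizer_iff]
    intro y
    constructor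
    · intro hy
      obtain ⟨p, hp, rfl⟩ := (hmemPB y).mp hy
      rw [← map_inv, ← map_mul, ← map_mul]
      refine (hmemPB _).mpr ⟨c * p * c⁻¹, ?_, rfl⟩
      exact hF3 (c : G) hct hcz p hp
    · intro hy
      obtain ⟨p, hp, hpe⟩ := (hmemPB _).mp hy
      have : y = π (c⁻¹ * p * c) := by
        rw [map_mul, map_mul, map_inv, hpe]
        group
      rw [this]
      refine (hmemPB _).mpr ⟨c⁻¹ * p * c, ?_, rfl⟩
      have := hF3 (c : G)⁻¹ hcti hczi p hp
      simpa using this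
  -- (iv) no odd-order subgroup is normalized
  have hoddPB : ∀ Kb : Subgroup (↥Ct ⧸ Tn), Odd (Nat.card Kb) →
      PB ≤ normalizer (Kb : Set (↥Ct ⧸ Tn)) → Kb = ⊥ := by
    intro Kb hKodd hKn
    have hmpos : 0 < Nat.card Kb := Nat.card_pos
    -- the preimage
    have hker : π.ker = Tn := by
      rw [hπdef]
      exact QuotientGroup.ker_mk' Tn
    have hTnD0 : Tn ≤ Kb.comap π := by
      intro x hx
      rw [mem_comap]
      have hx1 : π x = 1 := by
        have : x ∈ π.ker := by rw [hker]; exact hx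
        exact MonoidHom.mem_ker.mp this
      rw [hx1]
      exact one_mem _
    have hcardTn : Nat.card Tn = 2 := by
      have hle : zpowers t ≤ Ct := (zpowers_le).mpr htCt
      rw [hTndef, Nat.card_congr (Subgroup.subgroupOfEquivOfLe hle).toEquiv, Nat.card_zpowers, ht]
    have hcardN0 : Nat.card (Tn.subgroupOf (Kb.comap π)) = 2 := by
      rw [Nat.card_congr (Subgroup.subgroupOfEquivOfLe hTnD0).toEquiv, hcardTn]
    have hindex : (Tn.subgroupOf (Kb.comap π)).index = Nat.card Kb := by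
      show Tn.relIndex (Kb.comap π) = Nat.card Kb
      have h := Subgroup.relIndex_comap (⊥ : Subgroup (↥Ct ⧸ Tn)) π (Kb.comap π)
      rw [MonoidHom.comap_bot, Subgroup.map_comap_eq_self_of_surjective hπs,
        Subgroup.relIndex_bot_left] at h
      have h' : Tn.relIndex (Kb.comap π) = π.ker.relIndex (Kb.comap π) :=
        congrArg (fun X : Subgroup ↥Ct => X.relIndex (Kb.comap π)) hker.symm
      exact h'.trans h
    obtain ⟨H0, hH0⟩ := Subgroup.exists_left_complement'_of_coprime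
      (N := Tn.subgroupOf (Kb.comap π))
      (by rw [hcardN0, hindex]; exact Nat.coprime_two_left.mpr hKodd)
    have hcardH0 : Nat.card H0 = Nat.card Kb := by
      rw [← hH0.index_eq_card, hindex]
    have hH0idx : H0.index = 2 := by
      rw [hH0.symm.index_eq_card, hcardN0]
    have hmemH0 : ∀ x : ↥(Kb.comap π), x ^ Nat.card Kb = 1 → x ∈ H0 := by
      intro x hx
      obtain ⟨k, hk⟩ := hKodd
      have h1 : (x ^ 2) ^ (k + 1) ∈ H0 := H0.pow_mem (Subgroup.sq_mem_of_index_two hH0idx x) _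
      have h2 : (x ^ 2) ^ (k + 1) = x := by
        rw [← pow_mul]
        have : 2 * (k + 1) = Nat.card Kb + 1 := by omega
        rw [this, pow_succ, hx, one_mul]
      rwa [h2] at h1
    -- the lift `K` of `Kb` to `G`
    set K : Subgroup G := (H0.map (Kb.comap π).subtype).map Ct.subtype with hKdef
    have hcardK : Nat.card K = Nat.card Kb := by
      rw [hKdef, Subgroup.card_map_of_injective (Subgroup.subtype_injective _),
        Subgroup.card_map_of_injective (Subgroup.subtype_injective _), hcardH0]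
    have hKodd' : Odd (Nat.card K) := by rw [hcardK]; exact hKodd
    have hKmem : ∀ (y : G) (hy : y ∈ Ct), π ⟨y, hy⟩ ∈ Kb → y ^ Nat.card Kb = 1 → y ∈ K := by
      intro y hy hyK hym
      have hx : (⟨⟨y, hy⟩, mem_comap.mpr hyK⟩ : ↥(Kb.comap π)) ∈ H0 := by
        apply hmemH0
        apply Subtype.ext
        apply Subtype.ext
        simpa using hym
      exact ⟨⟨y, hy⟩, ⟨⟨⟨y, hy⟩, mem_comap.mpr hyK⟩, hx, rfl⟩, rfl⟩
    have hKelim : ∀ y ∈ K, ∃ hy : y ∈ Ct, π ⟨y, hy⟩ ∈ Kb ∧ y ^ Nat.card Kb = 1 := by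
      rintro y ⟨c, ⟨x, hx, rfl⟩, rfl⟩
      refine ⟨(x : ↥Ct).2, mem_comap.mp x.2, ?_⟩
      have h1 : (⟨x, hx⟩ : ↥H0) ^ Nat.card H0 = 1 := pow_card_eq_one'
      rw [hcardH0] at h1
      have h2 : x ^ Nat.card Kb = 1 := by
        have := congrArg Subtype.val h1
        simpa using this
      have h3 := congrArg (fun w : ↥(Kb.comap π) => ((w : ↥Ct) : G)) h2
      simpa using h3
    have hnormK : ∀ q ∈ P, ∀ d ∈ K, q * d * q⁻¹ ∈ K := by
      intro q hq d hd
      obtain ⟨hdCt, hdK, hdm⟩ := hKelim d hd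
      have hqCt : q ∈ Ct := hPCt hq
      have hqPB : π ⟨q, hqCt⟩ ∈ PB := (hmemPB _).mpr ⟨⟨q, hqCt⟩, hq, rfl⟩
      have hmemCt : q * d * q⁻¹ ∈ Ct := Ct.mul_mem (Ct.mul_mem hqCt hdCt) (Ct.inv_mem hqCt)
      apply hKmem _ hmemCt
      · have h1 := (mem_normalizer_iff.mp (hKn hqPB) (π ⟨d, hdCt⟩)).mp hdK
        have h2 : π ⟨q * d * q⁻¹, hmemCt⟩ = π ⟨q, hqCt⟩ * π ⟨d, hdCt⟩ * (π ⟨q, hqCt⟩)⁻¹ := by
          rw [← map_inv, ← map_mul, ← map_mul]
          rfl
        rw [h2]
        exact h1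
      · rw [conj_pow, hdm]
        group
    have hfzK : ∀ d ∈ K, z * d * z⁻¹ = d → d = 1 := by
      intro d hd hdz
      obtain ⟨hdCt, -, -⟩ := hKelim d hd
      have hdt : d * t = t * d := mem_centralizer_singleton_iff.mp hdCt
      have hdz' : d * z = z * d := by
        calc d * z = (z * d * z⁻¹) * z := by rw [hdz]
          _ = z * d := by group
      have hall : ∀ p ∈ P, d * p * d⁻¹ * p⁻¹ = 1 ∨ d * p * d⁻¹ * p⁻¹ = t := by
        intro p hp
        left
        have h1 : d * p * d⁻¹ * p⁻¹ ∈ Qf G z :=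
          hPQ (P.mul_mem (hF3 d hdt hdz' p hp) (P.inv_mem hp))
        have h2 : d * p * d⁻¹ * p⁻¹ ∈ K := by
          have : d * p * d⁻¹ * p⁻¹ = d * (p * d⁻¹ * p⁻¹) := by group
          rw [this]
          exact K.mul_mem hd (hnormK p hp _ (K.inv_mem hd))
        exact eq_one_of_mem_odd_of_mem_two K (Qf G z) hKodd' (Qf_isPGroup z) h2 h1
      have hdP : d ∈ P := hF4 d hdt hdz' hall
      exact eq_one_of_mem_odd_of_mem_two K (Qf G z) hKodd' (Qf_isPGroup z) hd (hPQ hdP)
    have hKbot : K = ⊥ :=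
      odd_trivial_rel hLE P hzP a s0 haP hs0P hs0a haa hza K hKodd' hnormK hfzK
    have hcard1 : Nat.card Kb = 1 := by
      rw [← hcardK, hKbot]
      exact Subgroup.card_bot
    exact Subgroup.card_eq_one.mp hcard1
  exact ⟨hex, hcentPB, hnormPB, hoddPB⟩

end Cfsg.Agent.S5429
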