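import Cfsg.Statements.S5430
import Mathlib
import Cfsg.Agent.Lib.Helper4.LargeExtraP9

set_option autoImplicit false
open Cfsg

namespace Cfsg.Agent.S5430

/-- Let Q be a large extraspecial 2-subgroup of the finite group G (extraspecial; centralizer equal to its centre; normal in the centralizer of its centre; normalizing no non-trivial subgroup of odd order) with centre generated by z, an involution, of width w ≥ 2 (order 2^(2w+1)); let g be an element outside the centralizer H of z with g z g⁻¹ in Q; write V for the subgroup generated by z and g z g⁻¹, X for the subgroup generated by Q and g Q g⁻¹, R for the subgroup generated by the centralizer of z in g Q g⁻¹ and the centralizer of g z g⁻¹ in Q, and E for the intersection of Q and g Q g⁻¹. Then R is the centralizer of V in X and is the largest normal 2-subgroup of X, and X/R is isomorphic to the symmetric group of degree 3; moreover the normalizer of V is the product of X and the centralizer of V in H, X is normal in it, and modulo R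 it is the direct product of X/R and of the centralizer of V in H modulo R. -/
theorem result {G : Type*} [Group G] [Finite G] (Q : Subgroup G) (hQ : Cfsg.IsLargeExtraspecial Q) (z : G) (hz : ((Subgroup.center ↥Q).map Q.subtype) = Subgroup.zpowers z) (hz2 : orderOf z = 2) (w : ℕ) (hw : 2 ≤ w) (hcard : Nat.card ↥Q = 2 ^ (2 * w + 1)) (g : G) (hgH : g ∉ Subgroup.centralizer ({z} : Set G)) (hgQ : g * z * g⁻¹ ∈ Q) (V X R E : Subgroup G) (hV : V = Subgroup.closure ({z, g * z * g⁻¹} : Set G)) (hX : X = Q ⊔ (Q).map (MulAut.conj g).toMonoidHom) (hR : R = ((Q).map (MulAut.conj g).toMonoidHom ⊓ Subgroup.centralizer ({z} : Set G)) ⊔ (Q ⊓ Subgroup.centralizer ({g * z * g⁻¹} : Set G))) (hE : E = Q ⊓ (Q).map (MulAut.conj g).toMonoidHom) : R = X ⊓ Subgroup.centralizer (V : Set G) ∧ R = (Cfsg.pCore 2 ↥X).map X.subtype ∧ (∃ h : (R.subgroupOf X).Normal, Nonempty (↥X ⧸ R.subgroupOf X ≃* Equiv.Perm (Fin 3))) ∧ Subgroup.normalizer (V : Set G) = X ⊔ (Subgroup.centralizer ({z} : Set G) ⊓ Subgroup.centralizer (V :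 Set G)) ∧ (∀ y ∈ Subgroup.normalizer (V : Set G), ∀ x ∈ X, y * x * y⁻¹ ∈ X) ∧ R ≤ Subgroup.centralizer ({z} : Set G) ⊓ Subgroup.centralizer (V : Set G) ∧ (∀ x ∈ X, ∀ c ∈ Subgroup.centralizer ({z} : Set G) ⊓ Subgroup.centralizer (V : Set G), x * c * x⁻¹ * c⁻¹ ∈ R) ∧ X ⊓ (Subgroup.centralizer ({z} : Set G) ⊓ Subgroup.centralizer (V : Set G)) = R := by
  obtain ⟨hE1, hC, hN, -⟩ := hQ
  obtain ⟨P, hself, hconj⟩ :=
    Cfsg.Agent.Lib.Helper4.LXF.pair_of_large Q hE1 hC hN z hz hz2 g hgH hgQ
  set Qf := Cfsg.Agent.Lib.Helper4.LXF.famOf Q z with hQf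
  -- identify the subgroups
  have eV : Cfsg.Agent.Lib.Helper4.LXF.Pair.VV z (g * z * g⁻¹) = V := hV.symm
  have eX : Cfsg.Agent.Lib.Helper4.LXF.Pair.XX Qf z (g * z * g⁻¹) = X := by
    rw [hX]; unfold Cfsg.Agent.Lib.Helper4.LXF.Pair.XX; rw [hself, hconj]
  have eR : Cfsg.Agent.Lib.Helper4.LXF.Pair.RR Qf z (g * z * g⁻¹) = R := by
    rw [hR]
    unfold Cfsg.Agent.Lib.Helper4.LXF.Pair.RR Cfsg.Agent.Lib.Helper4.LXF.Pair.R1
      Cfsg.Agent.Lib.Helper4.LXF.Pair.R2
    rw [hself, hconj]
  have hzV : z ∈ V := by rw [hV]; exact Subgroup.subset_closure (by simp)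
  have eC : Subgroup.centralizer ({z} : Set G) ⊓ Subgroup.centralizer (V : Set G) =
      Subgroup.centralizer (V : Set G) := by
    apply inf_eq_right.2
    intro c hc
    rw [Subgroup.mem_centralizer_singleton_iff]
    rw [Subgroup.mem_centralizer_iff] at hc
    exact (hc z hzV).symm
  have h1 := P.XX_inf_CV
  have h2 := P.pCore_XX
  have h3 := P.quot_iso
  have h4 := P.NV_eq
  rw [eV, eX, eR] at h1
  rw [eX, eR] at h2 h3
  rw [eV, eX] at h4
  have hXN : X ≤ Subgroup.normalizer (V : Set G) := by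
    rw [← eX, ← eV]; exact P.X_le_NV
  refine ⟨h1.symm, h2.symm, h3, ?_, ?_, ?_, ?_, ?_⟩
  · rw [eC]; exact h4
  · -- X is normal in N(V)
    have hCN : Subgroup.centralizer (V : Set G) ≤ Subgroup.normalizer (X : Set G) := by
      intro c hc
      have hc' : c ∈ Subgroup.centralizer
          (Cfsg.Agent.Lib.Helper4.LXF.Pair.VV z (g * z * g⁻¹) : Set G) := by rw [eV]; exact hc
      have key : ∀ c ∈ Subgroup.centralizer
          (Cfsg.Agent.Lib.Helper4.LXF.Pair.VV z (g * z * g⁻¹) : Set G), ∀ x ∈ X, c * x * c⁻¹ ∈ X := by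
        intro c hc x hx
        have hm : X.map (MulAut.conj c).toMonoidHom ≤ X := by
          rw [← eX]
          unfold Cfsg.Agent.Lib.Helper4.LXF.Pair.XX
          rw [Subgroup.map_sup]
          apply sup_le
          · rintro _ ⟨q, hq, rfl⟩
            exact Subgroup.mem_sup_left (P.CV_conj_Q1 hc hq)
          · rintro _ ⟨q, hq, rfl⟩
            exact Subgroup.mem_sup_right (P.CV_conj_Q2 hc hq)
        exact hm ⟨x, hx, rfl⟩
      rw [Subgroup.mem_normalizer_iff]
      intro x
      constructor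
      · exact key c hc' x
      · intro hx
        have := key c⁻¹ (Subgroup.inv_mem _ hc') _ hx
        have e : c⁻¹ * (c * x * c⁻¹) * c⁻¹⁻¹ = x := by group
        rwa [e] at this
    have hNX : Subgroup.normalizer (V : Set G) ≤ Subgroup.normalizer (X : Set G) := by
      rw [h4]
      exact sup_le Subgroup.le_normalizer hCN
    intro y hy x hx
    have := hNX hy
    rw [Subgroup.mem_normalizer_iff] at this
    exact (this x).1 hx
  · rw [eC, ← eR, ← eV]; exact P.RR_le_CV
  · intro x hx c hc
    rw [eC] at hc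
    rw [← eR]
    exact P.comm_XX_CV (by rw [eX]; exact hx) (by rw [eV]; exact hc)
  · rw [eC]; exact h1

end Cfsg.Agent.S5430
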