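import Cfsg.Statements.S5431
import Mathlib
import Cfsg.Agent.Lib.Helper4.LargeExtraP12

set_option autoImplicit false
open Cfsg

namespace Cfsg.Agent.S5431

/-- Let Q be a large extraspecial 2-subgroup of the finite group G (extraspecial; centralizer equal to its centre; normal in the centralizer of its centre; normalizing no non-trivial subgroup of odd order) with centre generated by z, an involution, of width w ≥ 2 (order 2^(2w+1)); let g be an element outside the centralizer H of z with g z g⁻¹ in Q; write V for the subgroup generated by z and g z g⁻¹, X for the subgroup generated by Q and g Q g⁻¹, R for the subgroup generated by the centralizer of z in g Q g⁻¹ and the centralizer of g z g⁻¹ in Q, and E for the intersection of Q and g Q g⁻¹. Then V is the centre of R, E lies in the second centre of R, R is nilpotent of class at most 3, E and R/E are elementary abelian, R/E is the direct product of the images of the centralizer of g z g⁻¹ in Q and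 of the centralizer of z in g Q g⁻¹ (R is their product and they meet in E), and the commutator subgroup of X and E lies in V. -/
theorem result {G : Type*} [Group G] [Finite G] (Q : Subgroup G) (hQ : Cfsg.IsLargeExtraspecial Q) (z : G) (hz : ((Subgroup.center ↥Q).map Q.subtype) = Subgroup.zpowers z) (hz2 : orderOf z = 2) (w : ℕ) (hw : 2 ≤ w) (hcard : Nat.card ↥Q = 2 ^ (2 * w + 1)) (g : G) (hgH : g ∉ Subgroup.centralizer ({z} : Set G)) (hgQ : g * z * g⁻¹ ∈ Q) (V X R E : Subgroup G) (hV : V = Subgroup.closure ({z, g * z * g⁻¹} : Set G)) (hX : X = Q ⊔ (Q).map (MulAut.conj g).toMonoidHom) (hR : R = ((Q).map (MulAut.conj g).toMonoidHom ⊓ Subgroup.centralizer ({z} : Set G)) ⊔ (Q ⊓ Subgroup.centralizer ({g * z * g⁻¹} : Set G))) (hE : E = Q ⊓ (Q).map (MulAut.conj g).toMonoidHom) : (Subgroup.center ↥R).map R.subtype = V ∧ E ≤ (Subgroup.upperCentralSeries ↥R 2).map R.subtype ∧ Subgroup.upperCentralSeries ↥R 3 = ⊤ ∧ Cfsg.IsElementaryAbelian 2 E ∧ (∀ x ∈ R, ∀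 y ∈ R, x * y * x⁻¹ * y⁻¹ ∈ E ∧ x ^ 2 ∈ E) ∧ ((Q).map (MulAut.conj g).toMonoidHom ⊓ Subgroup.centralizer ({z} : Set G)) ⊓ (Q ⊓ Subgroup.centralizer ({g * z * g⁻¹} : Set G)) = E ∧ ⁅X, E⁆ ≤ V := by
  obtain ⟨hE1, hC, hN, -⟩ := hQ
  obtain ⟨P, hself, hconj⟩ :=
    Cfsg.Agent.Lib.Helper4.LXF.pair_of_large Q hE1 hC hN z hz hz2 g hgH hgQ
  set Qf := Cfsg.Agent.Lib.Helper4.LXF.famOf Q z with hQf
  have eV : Cfsg.Agent.Lib.Helper4.LXF.Pair.VV z (g * z * g⁻¹) = V := hV.symm
  have eX : Cfsg.Agent.Lib.Helper4.LXF.Pair.XX Qf z (g * z * g⁻¹) = X := by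
    rw [hX]; unfold Cfsg.Agent.Lib.Helper4.LXF.Pair.XX; rw [hself, hconj]
  have eR1 : Cfsg.Agent.Lib.Helper4.LXF.Pair.R1 Qf z (g * z * g⁻¹) =
      Q ⊓ Subgroup.centralizer ({g * z * g⁻¹} : Set G) := by
    unfold Cfsg.Agent.Lib.Helper4.LXF.Pair.R1; rw [hself]
  have eR2 : Cfsg.Agent.Lib.Helper4.LXF.Pair.R2 Qf z (g * z * g⁻¹) =
      (Q).map (MulAut.conj g).toMonoidHom ⊓ Subgroup.centralizer ({z} : Set G) := by
    unfold Cfsg.Agent.Lib.Helper4.LXF.Pair.R2; rw [hconj]
  have eR : Cfsg.Agent.Lib.Helper4.LXF.Pair.RR Qf z (g * z * g⁻¹) = R := by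
    rw [hR]
    unfold Cfsg.Agent.Lib.Helper4.LXF.Pair.RR
    rw [eR1, eR2]
  have eE : Cfsg.Agent.Lib.Helper4.LXF.Pair.EE Qf z (g * z * g⁻¹) = E := by
    rw [hE]; unfold Cfsg.Agent.Lib.Helper4.LXF.Pair.EE; rw [hself, hconj]
  have hVE : V ≤ E := by rw [← eV, ← eE]; exact P.VV_le_EE
  have hER : E ≤ R := by rw [← eE, ← eR]; exact P.EE_le_RR
  have hR1R : Cfsg.Agent.Lib.Helper4.LXF.Pair.R1 Qf z (g * z * g⁻¹) ≤ R := by
    rw [← eR]; exact Cfsg.Agent.Lib.Helper4.LXF.Pair.R1_le_RR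
  have hRCV : R ≤ Subgroup.centralizer (V : Set G) := by
    rw [← eR, ← eV]; exact P.RR_le_CV
  have hcomm : ∀ x ∈ R, ∀ y ∈ R, x * y * x⁻¹ * y⁻¹ ∈ E := by
    intro x hx y hy
    rw [← eE]
    exact P.comm_RR (by rw [eR]; exact hx) (by rw [eR]; exact hy)
  have hcentre : (Subgroup.center ↥R).map R.subtype = V := by
    ext v
    constructor
    · rintro ⟨y, hy, rfl⟩
      rw [← eV]
      apply P.cent_R1_le_VV
      intro r hr
      have := Subgroup.mem_center_iff.1 hy ⟨r, hR1R hr⟩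
      exact (congrArg Subtype.val this).symm
    · intro hv
      refine ⟨⟨v, hER (hVE hv)⟩, ?_, rfl⟩
      rw [SetLike.mem_coe, Subgroup.mem_center_iff]
      intro r
      apply Subtype.ext
      have := hRCV r.2
      rw [Subgroup.mem_centralizer_iff] at this
      exact (this v hv).symm
  have hE2 : E ≤ (Subgroup.upperCentralSeries ↥R 2).map R.subtype := by
    intro e he
    refine ⟨⟨e, hER he⟩, ?_, rfl⟩
    rw [SetLike.mem_coe, Subgroup.mem_upperCentralSeries_succ_iff, Subgroup.upperCentralSeries_one]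
    intro r
    have h1 : e * (r : G) * e⁻¹ * (r : G)⁻¹ ∈ V := by
      rw [← eV]
      exact P.comm_EE_RR (by rw [eE]; exact he) (by rw [eR]; exact r.2)
    rw [← hcentre] at h1
    obtain ⟨c, hc, hce⟩ := h1
    have : c = (⟨e, hER he⟩ : ↥R) * r * (⟨e, hER he⟩ : ↥R)⁻¹ * r⁻¹ := Subtype.ext hce
    rw [commutatorElement_def, ← this]; exact hc
  refine ⟨hcentre, hE2, ?_, ?_, ?_, ?_, ?_⟩
  · rw [eq_top_iff]
    intro x _
    rw [Subgroup.mem_upperCentralSeries_succ_iff]
    intro y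
    have h1 := hE2 (hcomm x x.2 y y.2)
    obtain ⟨c, hc, hce⟩ := h1
    have : c = x * y * x⁻¹ * y⁻¹ := Subtype.ext hce
    rw [commutatorElement_def, ← this]; exact hc
  · refine ⟨⟨⟨fun a b => ?_⟩⟩, ?_⟩
    · apply Subtype.ext
      exact P.EE_comm (by rw [eE]; exact a.2) (by rw [eE]; exact b.2)
    · intro a ha
      rw [pow_two]
      exact P.EE_sq (by rw [eE]; exact ha)
  · intro x hx y hy
    refine ⟨hcomm x hx y hy, ?_⟩
    rw [pow_two, ← eE]
    exact P.sq_RR (by rw [eR]; exact hx)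
  · rw [← eR1, ← eR2, ← eE]
    exact P.R1_inf_R2
  · rw [Subgroup.commutator_le]
    intro x hx e he
    rw [← eV]
    have := P.comm_XX_EE (x := x) (e := e) (by rw [eX]; exact hx) (by rw [eE]; exact he)
    rw [commutatorElement_def]
    exact this

end Cfsg.Agent.S5431
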