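import Cfsg.Statements.S5433
import Cfsg.Agent.Lib.Helper90.Large

set_option autoImplicit false
open Cfsg

namespace Cfsg.Agent.S5433

open Cfsg.Agent.Lib.Helper90 in
/-- Let Q be a large extraspecial 2-subgroup of the finite group G (extraspecial; centralizer equal to its centre; normal in the centralizer of its centre; normalizing no non-trivial subgroup of odd order), and L a normal subgroup of G containing Q. Then G is the product of L and the normalizer of Q. -/
theorem result {G : Type*} [Group G] [Finite G] (Q : Subgroup G) (hQ : Cfsg.IsLargeExtraspecial Q) (L : Subgroup G) [L.Normal] (hQL : Q ≤ L) : L ⊔ Subgroup.normalizer (Q : Set G) = ⊤ := by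
  have : Fact (Nat.Prime 2) := ⟨Nat.prime_two⟩
  obtain ⟨hL1, hL2, hL3, -⟩ := hQ
  have hQ2 : IsPGroup 2 Q := hL1.1.1
  have hQ2' : IsPGroup 2 (Q.subgroupOf L) :=
    hQ2.comap_of_injective L.subtype (Subgroup.subtype_injective L)
  obtain ⟨P, hP⟩ := hQ2'.exists_le_sylow
  have hfr := Sylow.normalizer_sup_eq_top P
  have hP2 : IsPGroup 2 ((P : Subgroup L).map L.subtype) := P.2.map L.subtype
  have hQP : Q ≤ (P : Subgroup L).map L.subtype := by
    intro q hq
    exact ⟨⟨q, hQL hq⟩, hP (by simpa [Subgroup.mem_subgroupOf] using hq), rfl⟩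
  have hle := normalizer_le_normalizer_of_le Q hL1 hL2 hL3 _ hP2 hQP
  rw [eq_top_iff, ← hfr, sup_comm]
  exact sup_le_sup_left hle L

end Cfsg.Agent.S5433
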