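import Cfsg.Statements.S5434
import Cfsg.Agent.Lib.Helper24.Coprime
import Cfsg.Agent.Lib.Helper29.ExtraTwoClass
import Cfsg.Agent.Lib.Helper1.PFrattini
import Cfsg.Agent.Lib.Helper47.Frattini

set_option autoImplicit false
open Cfsg
open scoped commutatorElement

namespace Cfsg.Agent.S5434

/-- elementwise criterion for a finite `2`-group to be extraspecial -/
theorem extraspecial_criterion {P : Type*} [Group P] [Finite P] (hp : IsPGroup 2 P) (z : P)
    (hz1 : z ≠ 1) (hzc : z ∈ Subgroup.center P)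
    (hZ : ∀ w ∈ Subgroup.center P, w = 1 ∨ w = z)
    (hcomm : ∀ x y : P, ⁅x, y⁆ = 1 ∨ ⁅x, y⁆ = z)
    (hsq : ∀ x : P, x ^ 2 = 1 ∨ x ^ 2 = z)
    (hnc : ∃ x y : P, x * y ≠ y * x) : Cfsg.IsExtraspecial 2 P := by
  have hf2 : Fact (Nat.Prime 2) := ⟨Nat.prime_two⟩
  have h1c : (1 : P) ∈ Subgroup.center P := Subgroup.one_mem _
  have hcomm_center : ∀ x y : P, ⁅x, y⁆ ∈ Subgroup.center P := by
    intro x y
    rcases hcomm x y with h | h
    · rw [h]; exact h1c
    · rw [h]; exact hzc
  have hcomm_eq : commutator P = Subgroup.center P := by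
    apply le_antisymm
    · rw [commutator_def, Subgroup.commutator_le]
      intro x _ y _
      exact hcomm_center x y
    · intro w hw
      rcases hZ w hw with rfl | rfl
      · exact Subgroup.one_mem _
      · obtain ⟨x, y, hxy⟩ := hnc
        have : ⁅x, y⁆ = w := by
          rcases hcomm x y with h | h
          · exfalso; apply hxy; exact commutatorElement_eq_one_iff_mul_comm.mp h
          · exact h
        rw [← this, commutator_def]
        exact Subgroup.commutator_mem_commutator (Subgroup.mem_top x) (Subgroup.mem_top y)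
  refine ⟨⟨hp, ?_, hcomm_eq⟩, ?_⟩
  · apply le_antisymm
    · refine Lib.Helper47.frattini_le_of_elementary_abelian_quotient 2 (Subgroup.center P)
        hcomm_center (fun x => ?_)
      rcases hsq x with h | h
      · rw [h]; exact h1c
      · rw [h]; exact hzc
    · rw [← hcomm_eq]
      intro w hw
      unfold frattini Order.radical
      simp only [Subgroup.mem_iInf]
      exact fun M hM => Lib.Helper1.commutator_le_coatom_of_isPGroup hp M hM hw
  · rw [Nat.card_eq_two_iff' (1 : Subgroup.center P)]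
    refine ⟨⟨z, hzc⟩, fun h => hz1 (congrArg Subtype.val h), ?_⟩
    intro w hw
    rcases hZ w.1 w.2 with h | h
    · exact absurd (Subtype.ext h) hw
    · exact Subtype.ext h

/-- the criterion for a subgroup of an ambient group -/
theorem extraspecial_subgroup {G : Type*} [Group G] [Finite G] (H : Subgroup G) (hp : IsPGroup 2 H)
    (z : G) (hzH : z ∈ H) (hz1 : z ≠ 1) (hzc : ∀ h ∈ H, h * z = z * h)
    (hZ : ∀ w ∈ H, (∀ h ∈ H, h * w = w * h) → w = 1 ∨ w = z)
    (hcomm : ∀ x ∈ H, ∀ y ∈ H, ⁅x, y⁆ = 1 ∨ ⁅x, y⁆ = z)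
    (hsq : ∀ x ∈ H, x * x = 1 ∨ x * x = z)
    (hnc : ∃ x ∈ H, ∃ y ∈ H, x * y ≠ y * x) : Cfsg.IsExtraspecial 2 ↥H := by
  apply extraspecial_criterion hp ⟨z, hzH⟩
  · intro h; exact hz1 (congrArg Subtype.val h)
  · rw [Subgroup.mem_center_iff]
    intro g
    exact Subtype.ext (hzc g.1 g.2)
  · intro w hw
    rw [Subgroup.mem_center_iff] at hw
    rcases hZ w.1 w.2 (fun h hh => congrArg Subtype.val (hw ⟨h, hh⟩)) with h | h
    · left; exact Subtype.ext h
    · right; exact Subtype.ext h
  · intro x y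
    rcases hcomm x.1 x.2 y.1 y.2 with h | h
    · left; exact Subtype.ext h
    · right; exact Subtype.ext h
  · intro x
    rcases hsq x.1 x.2 with h | h
    · left; apply Subtype.ext; rw [pow_two]; exact h
    · right; apply Subtype.ext; rw [pow_two]; exact h
  · obtain ⟨x, hx, y, hy, hxy⟩ := hnc
    exact ⟨⟨x, hx⟩, ⟨y, hy⟩, fun h => hxy (congrArg Subtype.val h)⟩

theorem result {G : Type*} [Group G] [Finite G] (Q : Subgroup G) (hQ : Cfsg.IsLargeExtraspecial Q) (A : Subgroup G) (hA : A ≤ Subgroup.normalizer (Q : Set G)) (hAodd : Odd (Nat.card ↥A)) (hA1 : A ≠ ⊥) : (Q ⊓ Subgroup.centralizer (A : Set G)) ⊔ ⁅Q, A⁆ = Q ∧ (∀ x ∈ Q ⊓ Subgroup.centralizer (A : Set G), ∀ y ∈ ⁅Q, A⁆, x * y = y * x) ∧ Cfsg.IsExtraspecial 2 ↥⁅Q, A⁆ ∧ (Q ⊓ Subgroup.centralizer (A : Set G) = ((Subgroup.center ↥Q).map Q.subtype) ∨ Cfsg.IsExtraspecial 2 ↥(Q ⊓ Subgroup.centralizer (A : Set G))) := by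
  have hf2 : Fact (Nat.Prime 2) := ⟨Nat.prime_two⟩
  obtain ⟨hL1, hL2, hL3, hL4⟩ := hQ
  obtain ⟨ζ, hζ⟩ := Lib.Helper29.IsE2.of_isExtraspecial hL1
  have hQ2 : IsPGroup 2 ↥Q := hL1.1.1
  set z : G := ζ.1 with hzdef
  have hzQ : z ∈ Q := ζ.2
  have hz1 : z ≠ 1 := fun h => hζ.ne (Subtype.ext h)
  have hzcen : ∀ q ∈ Q, q * z = z * q := by
    intro q hq
    have := Subgroup.mem_center_iff.mp hζ.mem ⟨q, hq⟩
    exact congrArg Subtype.val this
  have hZall : ∀ w ∈ Q, (∀ q ∈ Q, q * w = w * q) → w = 1 ∨ w = z := by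
    intro w hw hc
    have hwc : (⟨w, hw⟩ : ↥Q) ∈ Subgroup.center ↥Q := by
      rw [Subgroup.mem_center_iff]
      intro g
      exact Subtype.ext (hc g.1 g.2)
    rcases hζ.all _ hwc with h | h
    · left; exact congrArg Subtype.val h
    · right; exact congrArg Subtype.val h
  have hcommQ : ∀ x ∈ Q, ∀ y ∈ Q, ⁅x, y⁆ = 1 ∨ ⁅x, y⁆ = z := by
    intro x hx y hy
    rcases hζ.cm_cases ⟨x, hx⟩ ⟨y, hy⟩ with h | h
    · left; exact congrArg Subtype.val h
    · right; exact congrArg Subtype.val h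
  have hsqQ : ∀ x ∈ Q, x * x = 1 ∨ x * x = z := by
    intro x hx
    rcases hζ.sq_cases ⟨x, hx⟩ with h | h
    · left; exact congrArg Subtype.val h
    · right; exact congrArg Subtype.val h
  have hZiff : ∀ g : G, g ∈ (Subgroup.center ↥Q).map Q.subtype ↔ (g ∈ Q ∧ ∀ q ∈ Q, q * g = g * q) := by
    intro g
    constructor
    · rintro ⟨y, hy, rfl⟩
      refine ⟨y.2, fun q hq => ?_⟩
      have := Subgroup.mem_center_iff.mp hy ⟨q, hq⟩
      exact congrArg Subtype.val this
    · rintro ⟨hg, hc⟩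
      refine ⟨⟨g, hg⟩, Subgroup.mem_center_iff.mpr ?_, rfl⟩
      intro q
      exact Subtype.ext (hc q.1 q.2)
  -- elements centralizing Q are 1 or z
  have hCQ : ∀ g : G, (∀ q ∈ Q, q * g = g * q) → g = 1 ∨ g = z := by
    intro g hg
    have h1 : g ∈ Subgroup.centralizer (Q : Set G) := by
      rw [Subgroup.mem_centralizer_iff]
      intro q hq
      exact hg q hq
    rw [hL2, hZiff] at h1
    exact hZall g h1.1 h1.2
  -- A centralizes z
  have hAz : ∀ a ∈ A, a * z = z * a := by
    intro a ha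
    have haN := hA ha
    have h1 : a * z * a⁻¹ ∈ Q := (Subgroup.mem_normalizer_iff.mp haN z).mp hzQ
    have h2 : ∀ q ∈ Q, q * (a * z * a⁻¹) = (a * z * a⁻¹) * q := by
      intro q hq
      have hq' : a⁻¹ * q * a ∈ Q := by
        have := (Subgroup.mem_normalizer_iff.mp (Subgroup.inv_mem _ haN) q).mp hq
        simpa using this
      have h3 := hzcen _ hq'
      calc q * (a * z * a⁻¹) = a * ((a⁻¹ * q * a) * z) * a⁻¹ := by group
        _ = a * (z * (a⁻¹ * q * a)) * a⁻¹ := by rw [h3]
        _ = (a * z * a⁻¹) * q := by group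
    rcases hZall _ h1 h2 with h | h
    · exfalso
      apply hz1
      have : z = a⁻¹ * (a * z * a⁻¹) * a := by group
      rw [this, h]; group
    · calc a * z = (a * z * a⁻¹) * a := by group
        _ = z * a := by rw [h]
  set D : Subgroup G := ⁅Q, A⁆ with hD
  set C : Subgroup G := Q ⊓ Subgroup.centralizer (A : Set G) with hC
  have hDQ : D ≤ Q := Lib.Helper24.commutator_le_of_le_normalizer Q A hA
  have hCQ' : C ≤ Q := inf_le_left
  have hcop : (Nat.card A).Coprime (Nat.card Q) := by
    obtain ⟨n, hn⟩ := IsPGroup.iff_card.mp hQ2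
    rw [hn]
    exact Nat.Coprime.pow_right n (Nat.coprime_two_right.mpr hAodd)
  have hsolvQ : Group.IsSolvable ↥Q := by
    have := hQ2.isNilpotent
    infer_instance
  have hG1 : D ⊔ C = Q := Lib.Helper24.commutator_sup_centralizer_eq A Q hA hcop (Or.inr hsolvQ)
  -- C and D commute
  have hG2 : ∀ x ∈ C, ∀ y ∈ D, x * y = y * x := by
    intro x hx
    have hxQ : x ∈ Q := hx.1
    have hxA : ∀ a ∈ A, a * x = x * a := by
      intro a ha
      exact Subgroup.mem_centralizer_iff.mp hx.2 a ha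
    have hle : D ≤ Subgroup.centralizer ({x} : Set G) := by
      rw [hD, Subgroup.commutator_le]
      intro q hq a ha
      rw [Subgroup.mem_centralizer_iff]
      intro x' hx'
      rw [Set.mem_singleton_iff] at hx'
      subst hx'
      have hxa : x' * a * x'⁻¹ = a := by rw [← hxA a ha]; group
      have key : x' * ⁅q, a⁆ * x'⁻¹ = ⁅q, a⁆ := by
        have e1 : x' * ⁅q, a⁆ * x'⁻¹ = ⁅x' * q * x'⁻¹, x' * a * x'⁻¹⁆ := by
          simp only [commutatorElement_def]; group
        rw [e1, hxa]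
        have e2 : x' * q * x'⁻¹ = ⁅x', q⁆ * q := by rw [commutatorElement_def]; group
        rw [e2]
        rcases hcommQ x' hxQ q hq with h | h
        · rw [h, one_mul]
        · rw [h]
          have hc1 : Commute z q := (hzcen q hq).symm
          have hc2 : Commute z a := (hAz a ha).symm
          have hc3 : Commute z (q * a * q⁻¹) := (hc1.mul_right hc2).mul_right hc1.inv_right
          have hc3' : z * (q * a * q⁻¹) = (q * a * q⁻¹) * z := hc3
          calc ⁅z * q, a⁆ = z * (q * a * q⁻¹) * z⁻¹ * a⁻¹ := by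
                rw [commutatorElement_def]; group
            _ = (q * a * q⁻¹) * z * z⁻¹ * a⁻¹ := by rw [hc3']
            _ = ⁅q, a⁆ := by rw [commutatorElement_def]; group
      calc x' * ⁅q, a⁆ = (x' * ⁅q, a⁆ * x'⁻¹) * x' := by group
        _ = ⁅q, a⁆ * x' := by rw [key]
    intro y hy
    have := Subgroup.mem_centralizer_iff.mp (hle hy) x rfl
    exact this
  -- an element of Q commuting with C and D is central in Q
  have hcentral : ∀ w : G, (∀ c ∈ C, c * w = w * c) → (∀ d ∈ D, d * w = w * d) →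
      ∀ q ∈ Q, q * w = w * q := by
    intro w h1 h2 q hq
    have hle : D ⊔ C ≤ Subgroup.centralizer ({w} : Set G) := by
      apply sup_le
      · intro d hd
        rw [Subgroup.mem_centralizer_iff]
        intro w' hw'
        rw [Set.mem_singleton_iff] at hw'
        subst hw'
        exact (h2 d hd).symm
      · intro c hc
        rw [Subgroup.mem_centralizer_iff]
        intro w' hw'
        rw [Set.mem_singleton_iff] at hw'
        subst hw'
        exact (h1 c hc).symm
    rw [hG1] at hle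
    have := Subgroup.mem_centralizer_iff.mp (hle hq) w rfl
    exact this.symm
  -- D is not abelian
  have hDnc : ∃ x ∈ D, ∃ y ∈ D, x * y ≠ y * x := by
    by_contra hcon
    push Not at hcon
    -- D ≤ {1, z}
    have hDz : ∀ d ∈ D, d = 1 ∨ d = z := by
      intro d hd
      apply hCQ
      apply hcentral d
      · intro c hc; exact hG2 c hc d hd
      · intro d' hd'; exact hcon d' hd' d hd
    -- so A centralizes D
    have hDA : ⁅D, A⁆ = ⊥ := by
      rw [eq_bot_iff, Subgroup.commutator_le]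
      intro d hd a ha
      rw [Subgroup.mem_bot, commutatorElement_eq_one_iff_mul_comm]
      rcases hDz d hd with h | h
      · rw [h]; simp
      · rw [h]; exact (hAz a ha).symm
    have hDbot : D = ⊥ := by
      have := Lib.Helper24.commutator_commutator_eq A Q hA hcop (Or.inr hsolvQ)
      rw [← hD] at this
      rw [← this, hDA]
    -- hence A centralizes Q
    have hAQ : ∀ a ∈ A, a = 1 ∨ a = z := by
      intro a ha
      apply hCQ
      intro q hq
      have h1 : ⁅q, a⁆ ∈ D := Subgroup.commutator_mem_commutator hq ha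
      rw [hDbot, Subgroup.mem_bot, commutatorElement_eq_one_iff_mul_comm] at h1
      exact h1
    have hAle : A ≤ Q := by
      intro a ha
      rcases hAQ a ha with h | h
      · rw [h]; exact Q.one_mem
      · rw [h]; exact hzQ
    apply hA1
    have hdvd : Nat.card A ∣ Nat.card Q := Subgroup.card_dvd_of_le hAle
    have h1 : Nat.card A = 1 := Nat.Coprime.eq_one_of_dvd hcop hdvd
    exact Subgroup.card_eq_one.mp h1
  -- D is extraspecial
  have hDex : Cfsg.IsExtraspecial 2 ↥D := by
    obtain ⟨x, hx, y, hy, hxy⟩ := hDnc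
    have hzD : z ∈ D := by
      rcases hcommQ x (hDQ hx) y (hDQ hy) with h | h
      · exact absurd (commutatorElement_eq_one_iff_mul_comm.mp h) hxy
      · rw [← h, commutatorElement_def]
        exact D.mul_mem (D.mul_mem (D.mul_mem hx hy) (D.inv_mem hx)) (D.inv_mem hy)
    refine extraspecial_subgroup D (hQ2.to_le hDQ) z hzD hz1 (fun h hh => hzcen h (hDQ hh)) ?_
      (fun x hx y hy => hcommQ x (hDQ hx) y (hDQ hy)) (fun x hx => hsqQ x (hDQ hx))
      ⟨x, hx, y, hy, hxy⟩
    intro w hw hc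
    apply hCQ
    exact hcentral w (fun c hc' => hG2 c hc' w hw) hc
  have hzC : z ∈ C := by
    refine ⟨hzQ, ?_⟩
    show z ∈ Subgroup.centralizer (A : Set G)
    rw [Subgroup.mem_centralizer_iff]
    intro a ha
    exact hAz a ha
  refine ⟨by rw [sup_comm]; exact hG1, hG2, hDex, ?_⟩
  by_cases hCnc : ∃ x ∈ C, ∃ y ∈ C, x * y ≠ y * x
  · right
    obtain ⟨x, hx, y, hy, hxy⟩ := hCnc
    refine extraspecial_subgroup C (hQ2.to_le hCQ') z hzC hz1 (fun h hh => hzcen h (hCQ' hh)) ?_
      (fun x hx y hy => hcommQ x (hCQ' hx) y (hCQ' hy)) (fun x hx => hsqQ x (hCQ' hx))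
      ⟨x, hx, y, hy, hxy⟩
    intro w hw hc
    apply hCQ
    exact hcentral w hc (fun d hd => (hG2 w hw d hd).symm)
  · left
    push Not at hCnc
    ext g
    rw [hZiff]
    constructor
    · intro hg
      exact ⟨hCQ' hg, hcentral g (fun c hc => hCnc c hc g hg) (fun d hd => (hG2 g hg d hd).symm)⟩
    · rintro ⟨hg, hc⟩
      rcases hZall g hg hc with h | h
      · rw [h]; exact C.one_mem
      · rw [h]; exact hzC

end Cfsg.Agent.S5434
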