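import Cfsg.Statements.S5435
import Cfsg.Agent.S0206
import Cfsg.Agent.Lib.Helper90.CentralTransfer
import Cfsg.Agent.Lib.Helper90.FocalReach
import Cfsg.Agent.Lib.Helper2.PGroup

set_option autoImplicit false
open Cfsg


namespace Cfsg.Agent.S5435

open Subgroup Cfsg.Agent.Lib.Helper90 Cfsg.Agent.Lib.Helper2 Cfsg.Agent.Lib.Helper33
open scoped commutatorElement

section basic

variable {L : Type*} [Group L]

theorem mem_zpowers_two {z x : L} (hz : orderOf z = 2) (hx : x ∈ zpowers z) : x = 1 ∨ x = z := by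
  obtain ⟨k, rfl⟩ := mem_zpowers_iff.1 hx
  rw [← zpow_mod_orderOf, hz]
  have : k % ((2 : ℕ) : ℤ) = 0 ∨ k % ((2 : ℕ) : ℤ) = 1 := by omega
  rcases this with h | h <;> rw [h] <;> simp

theorem false_of_normal_two_power_index [Finite L] [IsSimpleGroup L] (hL : ¬ IsMulCommutative L)
    (K : Subgroup L) (hKn : K.Normal) (k : ℕ) (hK : K.index ∣ 2 ^ k) (hK1 : K.index ≠ 1) :
    False := by
  have : Fact (Nat.Prime 2) := ⟨Nat.prime_two⟩
  rcases hKn.eq_bot_or_eq_top with h | h
  · rw [h, index_bot] at hK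
    obtain ⟨m, -, hm⟩ := (Nat.dvd_prime_pow Nat.prime_two).1 hK
    have hp : IsPGroup 2 L := IsPGroup.of_card hm
    have hc := hp.center_nontrivial
    have hcn : (center L).Normal := inferInstance
    rcases hcn.eq_bot_or_eq_top with h0 | h0
    · rw [h0] at hc
      exact not_nontrivial _ hc
    · apply hL
      refine ⟨⟨fun a b => ?_⟩⟩
      have ha : a ∈ center L := by rw [h0]; trivial
      exact ((mem_center_iff.1 ha) b).symm
  · rw [h, index_top] at hK1
    exact hK1 rfl

end basic

/-- The elementwise facts about `S = C_L(z)` with `Φ(S) = ⟨z⟩`. -/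
structure Ctx {L : Type*} [Group L] (S : Subgroup L) (z : L) : Prop where
  zS : z ∈ S
  z1 : z ≠ 1
  zz : z * z = 1
  cen : ∀ g : L, g ∈ S ↔ z * g = g * z
  sq : ∀ a ∈ S, a * a = 1 ∨ a * a = z
  comm : ∀ a ∈ S, ∀ b ∈ S, a⁻¹ * (b⁻¹ * a * b) = 1 ∨ a⁻¹ * (b⁻¹ * a * b) = z
  nS : normalizer (S : Set L) ≤ S
  exM : ∀ c ∈ S, c ≠ 1 → c ≠ z → ∃ M : Subgroup L, M.relIndex S = 2 ∧ c ∉ M

section ctx

variable {L : Type*} [Group L] [Finite L]

theorem ctx_of_hyp (z : L) (hz : orderOf z = 2) (R : Sylow 2 L)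
    (hR : (R : Subgroup L) = Subgroup.centralizer ({z} : Set L))
    (hΦ : (frattini ↥(R : Subgroup L)).map (R : Subgroup L).subtype = Subgroup.zpowers z) :
    Ctx (R : Subgroup L) z := by
  have : Fact (Nat.Prime 2) := ⟨Nat.prime_two⟩
  have hcen : ∀ g : L, g ∈ (R : Subgroup L) ↔ z * g = g * z := by
    intro g
    rw [hR, mem_centralizer_iff]
    simp
  have hzS : z ∈ (R : Subgroup L) := (hcen z).2 rfl
  have hz1 : z ≠ 1 := by
    rintro rfl
    rw [orderOf_one] at hz
    omega
  have hzz : z * z = 1 := by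
    have := pow_orderOf_eq_one z
    rwa [hz, pow_two] at this
  have hmemΦ : ∀ a : ↥(R : Subgroup L), a ∈ frattini ↥(R : Subgroup L) →
      (a : L) = 1 ∨ (a : L) = z := by
    intro a ha
    apply mem_zpowers_two hz
    rw [← hΦ]
    exact ⟨a, ha, rfl⟩
  have hΦmem : ∀ a : ↥(R : Subgroup L), (a : L) ∈ zpowers z → a ∈ frattini ↥(R : Subgroup L) := by
    intro a ha
    rw [← hΦ] at ha
    obtain ⟨b, hb, hba⟩ := ha
    have : b = a := Subtype.ext hba
    exact this ▸ hb
  refine ⟨hzS, hz1, hzz, hcen, ?_, ?_, ?_, ?_⟩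
  · intro a ha
    have h1 := pow_mem_frattini (R.isPGroup') (⟨a, ha⟩ : ↥(R : Subgroup L))
    have h2 := hmemΦ _ h1
    simpa [pow_two] using h2
  · intro a ha b hb
    have h0 : ⁅(⟨a, ha⟩ : ↥(R : Subgroup L))⁻¹, (⟨b, hb⟩ : ↥(R : Subgroup L))⁻¹⁆ ∈
        commutator ↥(R : Subgroup L) := by
      rw [commutator_def]
      exact commutator_mem_commutator (mem_top _) (mem_top _)
    have h1 := commutator_le_frattini (R.isPGroup') h0
    have h2 := hmemΦ _ h1
    have e : ((⁅(⟨a, ha⟩ : ↥(R : Subgroup L))⁻¹, (⟨b, hb⟩ : ↥(R : Subgroup L))⁻¹⁆ :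
        ↥(R : Subgroup L)) : L) = a⁻¹ * (b⁻¹ * a * b) := by
      rw [commutatorElement_def]
      simp [mul_assoc]
    rwa [e] at h2
  · intro n hn
    have hz' : (⟨z, hzS⟩ : ↥(R : Subgroup L)) ∈ frattini ↥(R : Subgroup L) :=
      hΦmem _ (mem_zpowers z)
    have hchar : (frattini ↥(R : Subgroup L)).Characteristic := inferInstance
    have h1 := hchar.fixed ((R : Subgroup L).normalizerMonoidHom ⟨n, hn⟩)
    have h2 : (⟨z, hzS⟩ : ↥(R : Subgroup L)) ∈
        (frattini ↥(R : Subgroup L)).comap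
          ((R : Subgroup L).normalizerMonoidHom ⟨n, hn⟩).toMonoidHom := by
      rw [h1]; exact hz'
    rw [mem_comap] at h2
    have h3 := hmemΦ _ h2
    have e : ((((R : Subgroup L).normalizerMonoidHom ⟨n, hn⟩).toMonoidHom
        (⟨z, hzS⟩ : ↥(R : Subgroup L)) : ↥(R : Subgroup L)) : L) = n * z * n⁻¹ := rfl
    rw [e] at h3
    rcases h3 with h3 | h3
    · exfalso
      apply hz1
      have : z = n⁻¹ * (n * z * n⁻¹) * n := by group
      rw [this, h3]; group
    · rw [hcen]
      have : n * z = n * z * n⁻¹ * n := by group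
      rw [this, h3]
  · intro c hc hc1 hcz
    have hcΦ : (⟨c, hc⟩ : ↥(R : Subgroup L)) ∉ frattini ↥(R : Subgroup L) := by
      intro h
      rcases hmemΦ _ h with h | h
      · exact hc1 h
      · exact hcz h
    rw [mem_frattini_iff] at hcΦ
    push Not at hcΦ
    obtain ⟨M', hM', hcM'⟩ := hcΦ
    have hMn := coatom_normal (R.isPGroup') M' hM'
    have hcard := coatom_card_quotient (R.isPGroup') M' hM'
    refine ⟨M'.map (R : Subgroup L).subtype, ?_, ?_⟩
    · have e : (M'.map (R : Subgroup L).subtype).subgroupOf (R : Subgroup L) = M' :=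
        comap_map_eq_self_of_injective (subtype_injective _) M'
      rw [relIndex, e, index_eq_card]
      exact hcard
    · rintro ⟨b, hb, hbc⟩
      have : b = ⟨c, hc⟩ := Subtype.ext hbc
      exact hcM' (this ▸ hb)

/-- Central involutions of `S` lie in `⟨z⟩` (Thompson-type transfer). -/
theorem central_cases [IsSimpleGroup L] (hL : ¬ IsMulCommutative L) {z : L} (R : Sylow 2 L)
    (h : Ctx (R : Subgroup L) z) (c : L) (hc : c ∈ (R : Subgroup L))
    (hcent : ∀ s ∈ (R : Subgroup L), s * c = c * s) (hcc : c * c = 1) : c = 1 ∨ c = z := by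
  by_contra hne
  push Not at hne
  obtain ⟨M, hM, hcM⟩ := h.exM c hc hne.1 hne.2
  obtain ⟨N, hNn, hNi, -⟩ := central_involution_transfer R h.nS M hM c hc hcc hcent hcM
  exact false_of_normal_two_power_index hL N hNn 1 (by rw [hNi, pow_one]) (by rw [hNi]; norm_num)

/-- The involution `z` is fused to another element of `S`. -/
theorem exists_fused [IsSimpleGroup L] (hL : ¬ IsMulCommutative L) (z : L) (_hz : orderOf z = 2)
    (R : Sylow 2 L) (hR : (R : Subgroup L) = Subgroup.centralizer ({z} : Set L))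
    (hΦ : (frattini ↥(R : Subgroup L)).map (R : Subgroup L).subtype = Subgroup.zpowers z)
    (h : Ctx (R : Subgroup L) z) :
    ∃ g : L, g⁻¹ * z * g ∈ (R : Subgroup L) ∧ g⁻¹ * z * g ≠ z := by
  have : Fact (Nat.Prime 2) := ⟨Nat.prime_two⟩
  by_contra hiso
  push Not at hiso
  obtain ⟨𝓔, h𝓔def⟩ : ∃ 𝓔 : Set (Subgroup L), 𝓔 = {T | T ≤ (R : Subgroup L) ∧
      (R : Subgroup L) ⊓ centralizer (T : Set L) ≤ T} := ⟨_, rfl⟩
  have hSstep : ∀ a ∈ (R : Subgroup L), ∀ s ∈ (R : Subgroup L),
      a⁻¹ * (s⁻¹ * a * s) ∈ zpowers z := by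
    intro a ha s hs
    rcases h.comm a ha s hs with h1 | h1
    · rw [h1]; exact one_mem _
    · rw [h1]; exact mem_zpowers z
  have hfoc : (R : Subgroup L).focalSubgroup ≤ zpowers z := by
    apply focalSubgroup_le_of_steps R 𝓔 (zpowers z) ?_ ?_ hSstep ?_ ?_
    · intro T hT
      rw [h𝓔def] at hT
      exact hT.1
    · intro x hx
      exact ⟨1, one_mem _, x, h.nS hx, (one_mul x).symm⟩
    · intro T hT x hx a ha
      rw [h𝓔def] at hT
      obtain ⟨hTS, hTc⟩ := hT
      have hzT : z ∈ T := by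
        apply hTc
        refine mem_inf.2 ⟨h.zS, ?_⟩
        rw [mem_centralizer_iff]
        intro t ht
        exact ((h.cen t).1 (hTS ht)).symm
      have h1 : x⁻¹ * z * x ∈ T := by
        have := (mem_normalizer_iff.1 (inv_mem hx) z).1 hzT
        simpa using this
      have h2 := hiso x (hTS h1)
      have hxS : x ∈ (R : Subgroup L) := by
        rw [h.cen]
        calc z * x = x * (x⁻¹ * z * x) := by group
          _ = x * z := by rw [h2]
      exact hSstep a (hTS ha) x hxS
    · intro A g hA hAg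
      apply creach_of_essential R ({(R : Subgroup L)} ∪ 𝓔) (Or.inl rfl) ?_ A g hA hAg
      intro T hTS _ hTc _ x hx
      apply CReach.of_reach
      refine Reach.single (Or.inr ?_) hx (le_refl _)
      rw [h𝓔def]
      exact ⟨hTS, hTc⟩
  have hle : (R : Subgroup L).focalSubgroupOf ≤ frattini ↥(R : Subgroup L) := by
    intro s hs
    rw [Subgroup.focalSubgroupOf_def, Subgroup.mem_subgroupOf] at hs
    have h1 := hfoc hs
    rw [← hΦ] at h1
    obtain ⟨b, hb, hbs⟩ := h1
    have hbs' : b = s := Subtype.ext hbs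
    exact hbs' ▸ hb
  obtain ⟨K, hKn, hKi, -, -⟩ := exists_normal_of_focal_le R (frattini ↥(R : Subgroup L)) hle
  have hne_top : frattini ↥(R : Subgroup L) ≠ ⊤ := by
    intro htop
    rcases eq_top_or_exists_le_coatom (⊥ : Subgroup ↥(R : Subgroup L)) with h0 | ⟨M, hM, -⟩
    · have : (⟨z, h.zS⟩ : ↥(R : Subgroup L)) ∈ (⊥ : Subgroup ↥(R : Subgroup L)) := by
        rw [h0]; trivial
      rw [mem_bot] at this
      exact h.z1 (congrArg Subtype.val this)
    · have := frattini_le_coatom hM
      rw [htop] at this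
      exact hM.1 (top_le_iff.1 this)
  obtain ⟨k, hk⟩ := (IsPGroup.iff_card.1 R.isPGroup')
  apply false_of_normal_two_power_index hL K hKn k
  · rw [hKi, ← hk]
    exact index_dvd_card _
  · rw [hKi]
    exact fun h1 => hne_top (index_eq_one.1 h1)

end ctx

section structure_

variable {L : Type*} [Group L] [Finite L]

theorem structure_of_fused {S : Subgroup L} {z : L} (h : Ctx S z)
    (hZ : ∀ c ∈ S, (∀ s ∈ S, s * c = c * s) → c * c = 1 → c = 1 ∨ c = z)
    (g : L) (hgS : g⁻¹ * z * g ∈ S) (hgz : g⁻¹ * z * g ≠ z) :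
    ∃ x y : L, orderOf x = 2 ∧ orderOf y = 2 ∧ orderOf (x * y) = 4 ∧
      closure ({x, y} : Set L) = S := by
  have : Fact (Nat.Prime 2) := ⟨Nat.prime_two⟩
  obtain ⟨t, ht⟩ : ∃ t, t = g⁻¹ * z * g := ⟨_, rfl⟩
  rw [← ht] at hgS hgz
  have htt : t * t = 1 := by
    rw [ht]
    calc g⁻¹ * z * g * (g⁻¹ * z * g) = g⁻¹ * (z * z) * g := by group
      _ = 1 := by rw [h.zz]; group
  have ht1 : t ≠ 1 := by
    intro h1
    apply h.z1
    have : z = g * t * g⁻¹ := by rw [ht]; group
    rw [this, h1]; group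
  have hzt : z * t = t * z := (h.cen t).1 hgS
  have hCt : ∀ a : L, t * a = a * t → g * a * g⁻¹ ∈ S := by
    intro a ha
    rw [h.cen]
    have hz' : z = g * t * g⁻¹ := by rw [ht]; group
    rw [hz']
    calc g * t * g⁻¹ * (g * a * g⁻¹) = g * (t * a) * g⁻¹ := by group
      _ = g * (a * t) * g⁻¹ := by rw [ha]
      _ = g * a * g⁻¹ * (g * t * g⁻¹) := by group
  obtain ⟨T, hT⟩ : ∃ T : Subgroup L, T = S ⊓ centralizer ({t} : Set L) := ⟨_, rfl⟩
  have mem_T : ∀ a : L, a ∈ T ↔ a ∈ S ∧ t * a = a * t := by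
    intro a
    rw [hT, mem_inf, mem_centralizer_iff]
    simp
  have hTsq : ∀ a ∈ T, a * a = 1 := by
    intro a ha
    obtain ⟨haS, hat⟩ := (mem_T a).1 ha
    rcases h.sq a haS with h1 | h1
    · exact h1
    · exfalso
      have h2 := hCt a hat
      have e : a * a = g⁻¹ * (g * a * g⁻¹ * (g * a * g⁻¹)) * g := by group
      rcases h.sq _ h2 with h3 | h3
      · rw [h3] at e
        apply h.z1
        rw [← h1, e]; group
      · rw [h3, ← ht] at e
        apply hgz
        rw [← e, h1]
  have hTab : ∀ a ∈ T, ∀ b ∈ T, a * b = b * a := by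
    intro a ha b hb
    have ha' : a⁻¹ = a := inv_eq_of_mul_eq_one_right (hTsq a ha)
    have hb' : b⁻¹ = b := inv_eq_of_mul_eq_one_right (hTsq b hb)
    have hab' : (a * b)⁻¹ = a * b := inv_eq_of_mul_eq_one_right (hTsq _ (mul_mem ha hb))
    calc a * b = (a * b)⁻¹ := hab'.symm
      _ = b⁻¹ * a⁻¹ := mul_inv_rev a b
      _ = b * a := by rw [ha', hb']
  have htT : t ∈ T := (mem_T t).2 ⟨hgS, rfl⟩
  have hu : ∃ u ∈ S, u ∉ T := by
    by_contra hall
    push Not at hall
    have hgN : g ∈ normalizer (S : Set L) := by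
      apply mem_normalizer_fintype
      intro n hn
      exact hCt n ((mem_T n).1 (hall n hn)).2
    have hgS' := (h.cen g).1 (h.nS hgN)
    apply hgz
    rw [ht]
    calc g⁻¹ * z * g = g⁻¹ * (z * g) := by group
      _ = g⁻¹ * (g * z) := by rw [hgS']
      _ = z := by group
  have hidx : ∀ a ∈ S, a ∉ T → a⁻¹ * t * a = t * z := by
    intro a ha haT
    have e : a⁻¹ * t * a = t * (t⁻¹ * (a⁻¹ * t * a)) := by group
    rcases h.comm t hgS a ha with h1 | h1
    · exfalso
      apply haT
      rw [mem_T]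
      refine ⟨ha, ?_⟩
      have h2 : a⁻¹ * t * a = t := by rw [e, h1, mul_one]
      calc t * a = a * (a⁻¹ * t * a) := by group
        _ = a * t := by rw [h2]
    · rw [e, h1]
  have hidx2 : ∀ a ∈ S, a ∉ T → ∀ b ∈ S, b ∉ T → a * b⁻¹ ∈ T := by
    intro a ha haT b hb hbT
    rw [mem_T]
    refine ⟨mul_mem ha (inv_mem hb), ?_⟩
    have h1 := hidx a ha haT
    have h2 := hidx b hb hbT
    have e1 : t * a = a * (t * z) := by rw [← h1]; group
    have e2 : b⁻¹ * t = t * z * b⁻¹ := by rw [← h2]; group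
    calc t * (a * b⁻¹) = (t * a) * b⁻¹ := by group
      _ = a * (t * z) * b⁻¹ := by rw [e1]
      _ = a * (t * z * b⁻¹) := by group
      _ = a * (b⁻¹ * t) := by rw [e2]
      _ = a * b⁻¹ * t := by group
  obtain ⟨u, huS, huT⟩ := hu
  have hcentral_of : ∀ a ∈ T, u⁻¹ * a * u = a → a = 1 ∨ a = z := by
    intro a ha hau
    apply hZ a ((mem_T a).1 ha).1 ?_ (hTsq a ha)
    intro s hs
    by_cases hsT : s ∈ T
    · exact hTab s hsT a ha
    · have h1 := hidx2 s hs hsT u huS huT
      have h2 := hTab (s * u⁻¹) h1 a ha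
      have h3 : u * a = a * u := by
        calc u * a = u * (u⁻¹ * a * u) := by rw [hau]
          _ = a * u := by group
      calc s * a = (s * u⁻¹) * (u * a) := by group
        _ = (s * u⁻¹) * (a * u) := by rw [h3]
        _ = (s * u⁻¹ * a) * u := by group
        _ = (a * (s * u⁻¹)) * u := by rw [h2]
        _ = a * s := by group
  have hTelems : ∀ a ∈ T, a = 1 ∨ a = z ∨ a = t ∨ a = z * t := by
    intro a ha
    have haS := ((mem_T a).1 ha).1
    have e : u⁻¹ * a * u = a * (a⁻¹ * (u⁻¹ * a * u)) := by group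
    rcases h.comm a haS u huS with h1 | h1
    · have hau : u⁻¹ * a * u = a := by rw [e, h1, mul_one]
      rcases hcentral_of a ha hau with h2 | h2
      · exact Or.inl h2
      · exact Or.inr (Or.inl h2)
    · have hau : u⁻¹ * a * u = a * z := by rw [e, h1]
      have htu := hidx u huS huT
      have hbu : u⁻¹ * (a * t) * u = a * t := by
        calc u⁻¹ * (a * t) * u = (u⁻¹ * a * u) * (u⁻¹ * t * u) := by group
          _ = a * z * (t * z) := by rw [hau, htu]
          _ = a * (z * t) * z := by group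
          _ = a * (t * z) * z := by rw [hzt]
          _ = a * t * (z * z) := by group
          _ = a * t := by rw [h.zz, mul_one]
      rcases hcentral_of (a * t) (mul_mem ha htT) hbu with h2 | h2
      · right; right; left
        calc a = a * t * t := by rw [mul_assoc, htt, mul_one]
          _ = t := by rw [h2, one_mul]
      · right; right; right
        calc a = a * t * t := by rw [mul_assoc, htt, mul_one]
          _ = z * t := by rw [h2]
  have hy : ∃ y ∈ S, y ∉ T ∧ y * y = 1 := by
    rcases h.sq u huS with h1 | h1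
    · exact ⟨u, huS, huT, h1⟩
    · refine ⟨u * t, mul_mem huS hgS, ?_, ?_⟩
      · intro hut
        apply huT
        have := mul_mem hut htT
        rwa [mul_assoc, htt, mul_one] at this
      · have htu := hidx u huS huT
        have e1 : t * u = u * (t * z) := by rw [← htu]; group
        calc u * t * (u * t) = u * (t * u) * t := by group
          _ = u * (u * (t * z)) * t := by rw [e1]
          _ = (u * u) * t * (z * t) := by group
          _ = z * t * (t * z) := by rw [h1, hzt]
          _ = z * (t * t) * z := by group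
          _ = 1 := by rw [htt, mul_one, h.zz]
  obtain ⟨y, hyS, hyT, hyy⟩ := hy
  have hy1 : y ≠ 1 := by rintro rfl; exact hyT (one_mem _)
  have hoy : orderOf y = 2 := orderOf_eq_prime (by rw [pow_two]; exact hyy) hy1
  have hot : orderOf t = 2 := orderOf_eq_prime (by rw [pow_two]; exact htt) ht1
  have hty : t * y * (t * y) = z := by
    have hyt := hidx y hyS hyT
    have hy' : y⁻¹ = y := inv_eq_of_mul_eq_one_right hyy
    rw [hy'] at hyt
    calc t * y * (t * y) = t * (y * t * y) := by group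
      _ = t * (t * z) := by rw [hyt]
      _ = (t * t) * z := by group
      _ = z := by rw [htt, one_mul]
  have ho4 : orderOf (t * y) = 4 := by
    have h4 : orderOf (t * y) = 2 ^ (1 + 1) := by
      apply orderOf_eq_prime_pow
      · rw [pow_one, pow_two, hty]; exact h.z1
      · have e : (t * y) ^ 2 ^ (1 + 1) = (t * y * (t * y)) * (t * y * (t * y)) := by
          norm_num [pow_succ, mul_assoc]
        rw [e, hty, h.zz]
    simpa using h4
  refine ⟨t, y, hot, hoy, ho4, ?_⟩
  have htc : t ∈ closure ({t, y} : Set L) := subset_closure (by simp)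
  have hyc : y ∈ closure ({t, y} : Set L) := subset_closure (by simp)
  have hzc : z ∈ closure ({t, y} : Set L) := by
    rw [← hty]; exact mul_mem (mul_mem htc hyc) (mul_mem htc hyc)
  apply le_antisymm
  · rw [closure_le]
    rintro w (rfl | rfl)
    · exact hgS
    · exact hyS
  · intro s hs
    have hTc : ∀ a ∈ T, a ∈ closure ({t, y} : Set L) := by
      intro a ha
      rcases hTelems a ha with h1 | h1 | h1 | h1
      · rw [h1]; exact one_mem _
      · rw [h1]; exact hzc
      · rw [h1]; exact htc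
      · rw [h1]; exact mul_mem hzc htc
    by_cases hsT : s ∈ T
    · exact hTc s hsT
    · have h1 := hidx2 s hs hsT y hyS hyT
      have e : s = s * y⁻¹ * y := by group
      rw [e]; exact mul_mem (hTc _ h1) hyc

end structure_

/-- Let L be a finite non-abelian simple group with an involution z whose centralizer R is a Sylow 2-subgroup of L whose Frattini subgroup is the subgroup generated by z. Then R is dihedral of order 8. -/
theorem result {L : Type*} [Group L] [Finite L] [IsSimpleGroup L] (hL : ¬ IsMulCommutative L) (z : L) (hz : orderOf z = 2) (R : Sylow 2 L) (hR : (R : Subgroup L) = Subgroup.centralizer ({z} : Set L)) (hΦ : (frattini ↥(R : Subgroup L)).map (R : Subgroup L).subtype = Subgroup.zpowers z) : Nonempty (↥(R : Subgroup L) ≃* DihedralGroup 4) := by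
  have h := ctx_of_hyp z hz R hR hΦ
  obtain ⟨g, hgS, hgz⟩ := exists_fused hL z hz R hR hΦ h
  obtain ⟨x, y, hx, hy, hxy, hcl⟩ :=
    structure_of_fused h (fun c hc hcent hcc => central_cases hL R h c hc hcent hcc) g hgS hgz
  obtain ⟨e⟩ := Cfsg.Agent.S0206.iso_of_involutions x y hx hy
  rw [hxy] at e
  exact ⟨(MulEquiv.subgroupCongr hcl.symm).trans e⟩

end Cfsg.Agent.S5435
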