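import Cfsg.Statements.S5436
import Cfsg.Agent.Lib.Helper22.FStar

set_option autoImplicit false
open Cfsg

namespace Cfsg.Agent.S5436

open Subgroup
open scoped commutatorElement

/-- a fixed-point-free involutory automorphism inverts -/
theorem inverts_of_fpf {B : Type*} [Group B] [Finite B] (φ : MulAut B)
    (hfpf : ∀ b, φ b = b → b = 1) (h2 : ∀ b, φ (φ b) = b) : ∀ b, φ b = b⁻¹ := by
  have hinj : Function.Injective (fun b : B => b⁻¹ * φ b) := by
    intro b c hbc
    simp only at hbc
    have h1 : φ (c * b⁻¹) = c * b⁻¹ := by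
      rw [map_mul, map_inv]
      have : φ c = c * (b⁻¹ * φ b) := by rw [hbc]; group
      rw [this]; group
    have := hfpf _ h1
    exact (mul_inv_eq_one.mp this).symm
  have hsurj := Finite.injective_iff_surjective.mp hinj
  intro b
  obtain ⟨a, rfl⟩ := hsurj b
  simp only [map_mul, map_inv, h2, mul_inv_rev, inv_inv]

theorem mem_zpowers_of_order_two {G : Type*} [Group G] (z : G) (hz : orderOf z = 2) (x : G)
    (hx : x ∈ zpowers z) : x = 1 ∨ x = z := by
  obtain ⟨k, rfl⟩ := mem_zpowers_iff.mp hx
  rw [← zpow_mod_orderOf, hz]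
  rcases Int.emod_two_eq_zero_or_one k with h | h
  · left; rw [show (k % ((2 : ℕ) : ℤ)) = 0 from h, zpow_zero]
  · right; rw [show (k % ((2 : ℕ) : ℤ)) = 1 from h, zpow_one]

theorem normal_closure_of_conj_mem {G : Type*} [Group G] (S : Set G)
    (hS : ∀ x ∈ S, ∀ g : G, g * x * g⁻¹ ∈ S) : (closure S).Normal := by
  constructor
  intro n hn g
  induction hn using closure_induction with
  | mem x hx => exact Subgroup.subset_closure (hS x hx g)
  | one => simp
  | mul a b _ _ iha ihb =>
    have : g * (a * b) * g⁻¹ = (g * a * g⁻¹) * (g * b * g⁻¹) := by group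
    rw [this]; exact (closure S).mul_mem iha ihb
  | inv a _ iha =>
    have : g * a⁻¹ * g⁻¹ = (g * a * g⁻¹)⁻¹ := by group
    rw [this]; exact (closure S).inv_mem iha

/-- Let z be an involution of the finite group G with centralizer H whose generalized Fitting subgroup Q is extraspecial of width at least 2 (order 2^(2w+1), w ≥ 2); suppose some conjugate of z other than z lies in Q, H/Q is a non-abelian simple group, H acts irreducibly by conjugation on Q modulo the subgroup generated by z (the only H-invariant subgroups of Q containing z are that subgroup and Q), and Q is not the subgroup generated by the conjugates of z lying in H. Then G is simple. -/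
theorem result {G : Type*} [Group G] [Finite G] (z : G) (hz : orderOf z = 2) (Q : Subgroup (Subgroup.centralizer ({z} : Set G))) [Q.Normal] (hF : Cfsg.generalizedFittingSubgroup ↥(Subgroup.centralizer ({z} : Set G)) = Q) (hQ : Cfsg.IsExtraspecial 2 ↥Q) (w : ℕ) (hw : 2 ≤ w) (hcard : Nat.card ↥Q = 2 ^ (2 * w + 1)) (hnwc : ∃ g : G, (∃ hq : g * z * g⁻¹ ∈ Subgroup.centralizer ({z} : Set G), (⟨g * z * g⁻¹, hq⟩ : Subgroup.centralizer ({z} : Set G)) ∈ Q) ∧ g * z * g⁻¹ ≠ z) (hsimp : IsSimpleGroup (↥(Subgroup.centralizer ({z} : Set G)) ⧸ Q)) (hna : ¬ IsMulCommutative (↥(Subgroup.centralizer ({z} : Set G)) ⧸ Q)) (hirr : ∀ W : Subgroup (Subgroup.centralizer ({z} : Set G)), W.Normal → W ≤ Q → (W = Q ∨ ∀ x ∈ W, (x : G) ∈ Subgroup.zpowers z)) (hwcl : Subgroup.closure {x : Subgroup.centralizer ({z} : Set G) | IsConj z (x : G)} ≠ Q) : IsSimpleGroup G := by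
  classical
  have hz2 : z * z = 1 := by rw [← pow_two, ← hz]; exact pow_orderOf_eq_one z
  have hz1 : z ≠ 1 := by intro h; rw [h, orderOf_one] at hz; omega
  have hzinv : z⁻¹ = z := inv_eq_of_mul_eq_one_left hz2
  have hzH : z ∈ Subgroup.centralizer ({z} : Set G) := mem_centralizer_singleton_iff.mpr rfl
  set zH : ↥(Subgroup.centralizer ({z} : Set G)) := ⟨z, hzH⟩ with hzHdef
  have hzc : ∀ h : ↥(Subgroup.centralizer ({z} : Set G)), h * zH = zH * h := fun h =>
    Subtype.ext (mem_centralizer_singleton_iff.mp h.2)
  have hCQ : Subgroup.centralizer (Q : Set ↥(Subgroup.centralizer ({z} : Set G))) ≤ Q := by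
    have := Cfsg.Agent.Lib.Helper22.centralizer_generalizedFitting_le
      ↥(Subgroup.centralizer ({z} : Set G))
    rwa [hF] at this
  have hzQ : zH ∈ Q := hCQ (by
    rw [mem_centralizer_iff]
    intro q _
    exact hzc q)
  obtain ⟨g, ⟨hq, hyQ⟩, hyz⟩ := hnwc
  set y : G := g * z * g⁻¹ with hy
  set yH : ↥(Subgroup.centralizer ({z} : Set G)) := ⟨y, hq⟩ with hyHdef
  have hy1 : y ≠ 1 := by
    intro h
    apply hz1
    have := congrArg (fun w => g⁻¹ * w * g) h
    simpa [hy, mul_assoc] using this
  have hynz : y ∉ Subgroup.zpowers z := by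
    intro h
    rcases mem_zpowers_of_order_two z hz y h with h | h
    · exact hy1 h
    · exact hyz h
  -- the centre of Q
  have hcenter : ∀ q : ↥(Subgroup.centralizer ({z} : Set G)), q ∈ Q →
      (∀ q' ∈ Q, q' * q = q * q') → q = 1 ∨ q = zH := by
    intro q hqQ hcomm
    obtain ⟨u, hu1, huu⟩ := (Nat.card_eq_two_iff' (1 : Subgroup.center ↥Q)).mp hQ.2
    have hzcen : (⟨zH, hzQ⟩ : ↥Q) ∈ Subgroup.center ↥Q := by
      rw [Subgroup.mem_center_iff]
      intro a
      exact Subtype.ext (hzc a.1)
    have hqcen : (⟨q, hqQ⟩ : ↥Q) ∈ Subgroup.center ↥Q := by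
      rw [Subgroup.mem_center_iff]
      intro a
      exact Subtype.ext (hcomm a.1 a.2)
    by_cases hq1 : q = 1
    · exact Or.inl hq1
    · right
      have h1 : (⟨⟨zH, hzQ⟩, hzcen⟩ : Subgroup.center ↥Q) = u := huu _ (by
        intro h
        have := congrArg (fun w : Subgroup.center ↥Q => (((w : ↥Q) : ↥(Subgroup.centralizer ({z} : Set G))) : G)) h
        exact hz1 this)
      have h2 : (⟨⟨q, hqQ⟩, hqcen⟩ : Subgroup.center ↥Q) = u := huu _ (by
        intro h
        have := congrArg (fun w : Subgroup.center ↥Q => ((w : ↥Q) : ↥(Subgroup.centralizer ({z} : Set G)))) h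
        exact hq1 this)
      have := h2.trans h1.symm
      exact congrArg (fun w : Subgroup.center ↥Q => ((w : ↥Q) : ↥(Subgroup.centralizer ({z} : Set G)))) this
  -- the centralizer of Q in G
  have hCG : ∀ x : G, (∀ q ∈ Q, (q : G) * x = x * (q : G)) → x = 1 ∨ x = z := by
    intro x hx
    have hxH : x ∈ Subgroup.centralizer ({z} : Set G) :=
      mem_centralizer_singleton_iff.mpr (hx zH hzQ).symm
    have hxC : (⟨x, hxH⟩ : ↥(Subgroup.centralizer ({z} : Set G))) ∈
        Subgroup.centralizer (Q : Set ↥(Subgroup.centralizer ({z} : Set G))) := by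
      rw [mem_centralizer_iff]
      intro q hq
      exact Subtype.ext (hx q hq)
    rcases hcenter _ (hCQ hxC) (fun q' hq' => Subtype.ext (hx q' hq')) with h | h
    · left; exact congrArg Subtype.val h
    · right; exact congrArg Subtype.val h
  refine { exists_pair_ne := ⟨z, 1, hz1⟩, eq_bot_or_eq_top_of_normal := fun N hN => ?_ }
  by_cases hNb : N = ⊥
  · exact Or.inl hNb
  right
  set NH : Subgroup ↥(Subgroup.centralizer ({z} : Set G)) :=
    N.subgroupOf (Subgroup.centralizer ({z} : Set G)) with hNH
  have hNHn : NH.Normal := hN.subgroupOf _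
  have hmapn : (NH.map (QuotientGroup.mk' Q)).Normal :=
    hNHn.map _ (QuotientGroup.mk'_surjective Q)
  rcases hsimp.eq_bot_or_eq_top_of_normal _ hmapn with hbot | htop
  · -- `N ∩ H ≤ Q`
    have hNHQ : NH ≤ Q := by
      intro x hx
      have hx' : QuotientGroup.mk' Q x ∈ NH.map (QuotientGroup.mk' Q) := mem_map_of_mem _ hx
      rw [hbot, mem_bot] at hx'
      exact (QuotientGroup.eq_one_iff x).mp hx'
    rcases hirr NH hNHn hNHQ with hEq | hLe
    · -- `N ∩ H = Q`
      exfalso
      apply hwcl
      have hzN : z ∈ N := by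
        have : zH ∈ NH := hEq ▸ hzQ
        exact mem_subgroupOf.mp this
      have hKn : (closure {x : ↥(Subgroup.centralizer ({z} : Set G)) | IsConj z (x : G)}).Normal := by
        apply normal_closure_of_conj_mem
        intro x hx h
        have hx' : IsConj z (x : G) := hx
        show IsConj z ((h * x * h⁻¹ : ↥(Subgroup.centralizer ({z} : Set G))) : G)
        obtain ⟨c, hc⟩ := isConj_iff.mp hx'
        rw [isConj_iff]
        refine ⟨(h : G) * c, ?_⟩
        push_cast
        rw [← hc]; group
      have hKQ : closure {x : ↥(Subgroup.centralizer ({z} : Set G)) | IsConj z (x : G)} ≤ Q := by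
        rw [closure_le]
        intro x hx
        have hx' : IsConj z (x : G) := hx
        obtain ⟨c, hc⟩ := isConj_iff.mp hx'
        have : (x : G) ∈ N := by rw [← hc]; exact hN.conj_mem z hzN c
        have hxNH : x ∈ NH := mem_subgroupOf.mpr this
        rw [hEq] at hxNH
        exact hxNH
      rcases hirr _ hKn hKQ with h | h
      · exact h
      · exfalso
        have hyK : yH ∈ closure {x : ↥(Subgroup.centralizer ({z} : Set G)) | IsConj z (x : G)} := by
          apply Subgroup.subset_closure
          show IsConj z y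
          rw [isConj_iff]
          exact ⟨g, rfl⟩
        exact hynz (h yH hyK)
    · -- `N ∩ H ≤ ⟨z⟩`
      exfalso
      by_cases hzN : z ∈ N
      · have : yH ∈ NH := mem_subgroupOf.mpr (hN.conj_mem z hzN g)
        exact hynz (hLe yH this)
      · have hNH1 : ∀ n ∈ N, n * z = z * n → n = 1 := by
          intro n hn hcomm
          have hnH : n ∈ Subgroup.centralizer ({z} : Set G) :=
            mem_centralizer_singleton_iff.mpr hcomm
          have := hLe ⟨n, hnH⟩ (mem_subgroupOf.mpr hn)
          rcases mem_zpowers_of_order_two z hz n this with h | h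
          · exact h
          · exact absurd (h ▸ hn) hzN
        have hinv : ∀ n ∈ N, z * n * z⁻¹ = n⁻¹ := by
          intro n hn
          have key := inverts_of_fpf (MulAut.conjNormal z : MulAut N) ?_ ?_ ⟨n, hn⟩
          · have := congrArg Subtype.val key
            simpa [MulAut.conjNormal_apply] using this
          · intro b hb
            have hb' : z * (b : G) * z⁻¹ = b := by
              have := congrArg Subtype.val hb
              simpa [MulAut.conjNormal_apply] using this
            have hcomm : (b : G) * z = z * b := by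
              calc (b : G) * z = (z * b * z⁻¹) * z := by rw [hb']
                _ = z * b := by group
            exact Subtype.ext (hNH1 b b.2 hcomm)
          · intro b
            apply Subtype.ext
            simp only [MulAut.conjNormal_apply]
            rw [hzinv]
            calc z * (z * (b : G) * z) * z = (z * z) * b * (z * z) := by group
              _ = b := by rw [hz2]; simp
        have hinvy : ∀ n ∈ N, y * n * y⁻¹ = n⁻¹ := by
          intro n hn
          have h1 : g⁻¹ * n * g ∈ N := by
            have := hN.conj_mem n hn g⁻¹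
            simpa using this
          have h2 := hinv _ h1
          calc y * n * y⁻¹ = g * (z * (g⁻¹ * n * g) * z⁻¹) * g⁻¹ := by rw [hy]; group
            _ = g * (g⁻¹ * n * g)⁻¹ * g⁻¹ := by rw [h2]
            _ = n⁻¹ := by group
        have hzy : ∀ n ∈ N, n * (z * y) = (z * y) * n := by
          intro n hn
          have h1 := hinvy n hn
          have h2 := hinv n⁻¹ (N.inv_mem hn)
          rw [inv_inv] at h2
          have h3 : (z * y) * n * (z * y)⁻¹ = n := by
            calc (z * y) * n * (z * y)⁻¹ = z * (y * n * y⁻¹) * z⁻¹ := by group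
              _ = z * n⁻¹ * z⁻¹ := by rw [h1]
              _ = n := h2
          calc n * (z * y) = ((z * y) * n * (z * y)⁻¹) * (z * y) := by rw [h3]
            _ = (z * y) * n := by group
        have hCNn : (Subgroup.centralizer (N : Set G)).Normal := inferInstance
        set W : Subgroup ↥(Subgroup.centralizer ({z} : Set G)) :=
          (Subgroup.centralizer (N : Set G)).subgroupOf (Subgroup.centralizer ({z} : Set G)) ⊓ Q with hW
        have hWn : W.Normal := by
          have : ((Subgroup.centralizer (N : Set G)).subgroupOf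
              (Subgroup.centralizer ({z} : Set G))).Normal := hCNn.subgroupOf _
          exact Subgroup.normal_inf_normal _ _
        rcases hirr W hWn inf_le_right with hWQ | hWz
        · have hzW : zH ∈ W := by rw [hWQ]; exact hzQ
          have hzC : z ∈ Subgroup.centralizer (N : Set G) := mem_subgroupOf.mp hzW.1
          obtain ⟨n, hn1⟩ := (Subgroup.ne_bot_iff_exists_ne_one).mp hNb
          apply hn1
          apply Subtype.ext
          exact hNH1 n n.2 (mem_centralizer_iff.mp hzC n n.2)
        · have hzyW : zH * yH ∈ W := by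
            have h1 : zH * yH ∈ (Subgroup.centralizer (N : Set G)).subgroupOf
                (Subgroup.centralizer ({z} : Set G)) := by
              rw [mem_subgroupOf, mem_centralizer_iff]
              intro n hn
              exact hzy n hn
            exact ⟨h1, Q.mul_mem hzQ hyQ⟩
          have h' : z * y ∈ Subgroup.zpowers z := hWz _ hzyW
          rcases mem_zpowers_of_order_two z hz _ h' with h | h
          · apply hyz
            rw [← hzinv]
            exact eq_inv_of_mul_eq_one_right h
          · exact hy1 (mul_eq_left.mp h)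
  · -- `(N ∩ H) Q = H`
    have hcover : ∀ h : ↥(Subgroup.centralizer ({z} : Set G)), ∃ n ∈ NH, n⁻¹ * h ∈ Q := by
      intro h
      have hm : QuotientGroup.mk' Q h ∈ NH.map (QuotientGroup.mk' Q) := by
        rw [htop]; exact mem_top _
      obtain ⟨n, hn, hnh⟩ := mem_map.mp hm
      exact ⟨n, hn, QuotientGroup.eq.mp hnh⟩
    set W : Subgroup ↥(Subgroup.centralizer ({z} : Set G)) := NH ⊓ Q with hW
    have hWn : W.Normal := Subgroup.normal_inf_normal _ _
    rcases hirr W hWn inf_le_right with hWQ | hWz
    · -- `Q ≤ N`, hence `H ≤ N`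
      have hQN : Q ≤ NH := by rw [← hWQ]; exact inf_le_left
      have hHN : ∀ h : ↥(Subgroup.centralizer ({z} : Set G)), (h : G) ∈ N := by
        intro h
        obtain ⟨n, hn, hq⟩ := hcover h
        have h1 : (n : G) ∈ N := mem_subgroupOf.mp hn
        have h2 : ((n⁻¹ * h : ↥(Subgroup.centralizer ({z} : Set G))) : G) ∈ N :=
          mem_subgroupOf.mp (hQN hq)
        have h3 : (h : G) = (n : G) * ((n⁻¹ * h : ↥(Subgroup.centralizer ({z} : Set G))) : G) := by
          push_cast; group
        rw [h3]
        exact N.mul_mem h1 h2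
      have : Fact (Nat.Prime 2) := ⟨Nat.prime_two⟩
      have hQ'p : IsPGroup 2 (Q.map (Subgroup.centralizer ({z} : Set G)).subtype) :=
        hQ.1.1.of_equiv (Q.equivMapOfInjective _ (Subgroup.subtype_injective _))
      obtain ⟨T, hQT⟩ := hQ'p.exists_le_sylow
      have hmemT : ∀ q ∈ Q, (q : G) ∈ (T : Subgroup G) := fun q hq => hQT ⟨q, hq, rfl⟩
      have hzT : z ∈ (T : Subgroup G) := hmemT zH hzQ
      have : Nontrivial ↥(T : Subgroup G) := ⟨⟨⟨z, hzT⟩, 1, fun h => hz1 (congrArg Subtype.val h)⟩⟩
      have hcnt : Nontrivial (Subgroup.center ↥(T : Subgroup G)) := T.isPGroup'.center_nontrivial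
      obtain ⟨c, hc⟩ := exists_ne (1 : Subgroup.center ↥(T : Subgroup G))
      have hc1 : ((c : ↥(T : Subgroup G)) : G) ≠ 1 := fun h => hc (Subtype.ext (Subtype.ext h))
      have hcc : ∀ t ∈ (T : Subgroup G), t * ((c : ↥(T : Subgroup G)) : G) = ((c : ↥(T : Subgroup G)) : G) * t := by
        intro t ht
        exact congrArg Subtype.val (Subgroup.mem_center_iff.mp c.2 ⟨t, ht⟩)
      have hcz : ((c : ↥(T : Subgroup G)) : G) = z := by
        rcases hCG _ (fun q hq => hcc _ (hmemT q hq)) with h | h
        · exact absurd h hc1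
        · exact h
      rw [hcz] at hcc
      have hTH : (T : Subgroup G) ≤ Subgroup.centralizer ({z} : Set G) := fun t ht =>
        mem_centralizer_singleton_iff.mpr (hcc t ht)
      have hNTH : Subgroup.normalizer ((T : Subgroup G) : Set G) ≤ Subgroup.centralizer ({z} : Set G) := by
        intro x hx
        have hcen : ∀ q ∈ Q, (q : G) * (x * z * x⁻¹) = (x * z * x⁻¹) * (q : G) := by
          intro q hq
          have hqT : (q : G) ∈ (T : Subgroup G) := hmemT q hq
          have h1 : x⁻¹ * (q : G) * x ∈ (T : Subgroup G) := by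
            apply (mem_normalizer_iff.mp hx (x⁻¹ * q * x)).mpr
            have : x * (x⁻¹ * (q : G) * x) * x⁻¹ = q := by group
            rw [this]; exact hqT
          have h2 := hcc _ h1
          calc (q : G) * (x * z * x⁻¹) = x * ((x⁻¹ * q * x) * z) * x⁻¹ := by group
            _ = x * (z * (x⁻¹ * q * x)) * x⁻¹ := by rw [h2]
            _ = (x * z * x⁻¹) * q := by group
        rcases hCG _ hcen with h | h
        · exfalso
          apply hz1
          have := congrArg (fun w => x⁻¹ * w * x) h
          simpa [mul_assoc] using this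
        · rw [mem_centralizer_singleton_iff]
          calc x * z = (x * z * x⁻¹) * x := by group
            _ = z * x := by rw [h]
      have hTN : (T : Subgroup G) ≤ N := fun t ht => hHN ⟨t, hTH ht⟩
      have hfr := Sylow.normalizer_sup_eq_top' T hTN
      rw [eq_top_iff, ← hfr]
      exact sup_le (fun x hx => hHN ⟨x, hNTH hx⟩) le_rfl
    · -- `N ∩ Q ≤ ⟨z⟩`: impossible
      exfalso
      have hzz : zH * zH = 1 := Subtype.ext hz2
      have hconj : ∀ h : ↥(Subgroup.centralizer ({z} : Set G)),
          h * yH * h⁻¹ = yH ∨ h * yH * h⁻¹ = yH * zH := by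
        intro h
        obtain ⟨n, hn, hq⟩ := hcover h
        set q := n⁻¹ * h with hqdef
        have hh : h = n * q := by rw [hqdef]; group
        -- first commutator
        have hc1 : q * yH * q⁻¹ * yH⁻¹ = 1 ∨ q * yH * q⁻¹ * yH⁻¹ = zH := by
          have hmem : ⁅(⟨q, hq⟩ : ↥Q), ⟨yH, hyQ⟩⁆ ∈ commutator ↥Q :=
            Subgroup.commutator_mem_commutator (mem_top _) (mem_top _)
          rw [hQ.1.2.2, Subgroup.mem_center_iff] at hmem
          have hval : ((⁅(⟨q, hq⟩ : ↥Q), ⟨yH, hyQ⟩⁆ : ↥Q) : ↥(Subgroup.centralizer ({z} : Set G))) =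
              q * yH * q⁻¹ * yH⁻¹ := by
            rw [commutatorElement_def]; rfl
          rw [← hval]
          apply hcenter _ (⁅(⟨q, hq⟩ : ↥Q), ⟨yH, hyQ⟩⁆ : ↥Q).2
          intro q' hq'
          exact congrArg Subtype.val (hmem ⟨q', hq'⟩)
        -- second commutator
        have hc2 : n * yH * n⁻¹ * yH⁻¹ = 1 ∨ n * yH * n⁻¹ * yH⁻¹ = zH := by
          have hmemW : n * yH * n⁻¹ * yH⁻¹ ∈ W := by
            have hm1 : n * yH * n⁻¹ * yH⁻¹ ∈ NH := by
              have : n * yH * n⁻¹ * yH⁻¹ = n * (yH * n⁻¹ * yH⁻¹) := by group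
              rw [this]
              exact NH.mul_mem hn (hNHn.conj_mem _ (NH.inv_mem hn) yH)
            have hm2 : n * yH * n⁻¹ * yH⁻¹ ∈ Q :=
              Q.mul_mem (‹Q.Normal›.conj_mem _ hyQ n) (Q.inv_mem hyQ)
            exact ⟨hm1, hm2⟩
          have := hWz _ hmemW
          rcases mem_zpowers_of_order_two z hz _ this with h | h
          · left; exact Subtype.ext h
          · right; exact Subtype.ext h
        have hexp : h * yH * h⁻¹ = (n * yH * n⁻¹ * yH⁻¹) * (q * yH * q⁻¹ * yH⁻¹) * yH := by
          -- uses that the first commutator is central in H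
          rcases hc1 with e | e
          · rw [hh, e]; 
            have : q * yH * q⁻¹ = yH := by
              calc q * yH * q⁻¹ = (q * yH * q⁻¹ * yH⁻¹) * yH := by group
                _ = yH := by rw [e, one_mul]
            calc n * q * yH * (n * q)⁻¹ = n * (q * yH * q⁻¹) * n⁻¹ := by group
              _ = n * yH * n⁻¹ := by rw [this]
              _ = n * yH * n⁻¹ * yH⁻¹ * 1 * yH := by group
          · rw [hh, e]
            have : q * yH * q⁻¹ = zH * yH := by
              calc q * yH * q⁻¹ = (q * yH * q⁻¹ * yH⁻¹) * yH := by group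
                _ = zH * yH := by rw [e]
            calc n * q * yH * (n * q)⁻¹ = n * (q * yH * q⁻¹) * n⁻¹ := by group
              _ = n * (zH * yH) * n⁻¹ := by rw [this]
              _ = (n * zH) * yH * n⁻¹ := by group
              _ = (zH * n) * yH * n⁻¹ := by rw [hzc n]
              _ = zH * (n * yH * n⁻¹ * yH⁻¹) * yH := by group
              _ = (n * yH * n⁻¹ * yH⁻¹) * zH * yH := by rw [hzc (n * yH * n⁻¹ * yH⁻¹)]
        rw [hexp]
        rcases hc1 with e1 | e1 <;> rcases hc2 with e2 | e2
        · left; rw [e1, e2]; group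
        · right; rw [e1, e2, mul_one, hzc yH]
        · right; rw [e1, e2, one_mul, hzc yH]
        · left; rw [e1, e2, hzz, one_mul]
      set S : Set ↥(Subgroup.centralizer ({z} : Set G)) := {x | x = zH ∨ x = yH ∨ x = yH * zH} with hS
      have hSn : (closure S).Normal := by
        apply normal_closure_of_conj_mem
        rintro x (rfl | rfl | rfl) h
        · left
          calc h * zH * h⁻¹ = zH * h * h⁻¹ := by rw [hzc h]
            _ = zH := by group
        · rcases hconj h with e | e
          · right; left; exact e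
          · right; right; exact e
        · have e0 : h * (yH * zH) * h⁻¹ = (h * yH * h⁻¹) * zH := by
            calc h * (yH * zH) * h⁻¹ = h * yH * (zH * h⁻¹) := by group
              _ = h * yH * (h⁻¹ * zH) := by rw [hzc h⁻¹]
              _ = (h * yH * h⁻¹) * zH := by group
          rcases hconj h with e | e
          · right; right; rw [e0, e]
          · right; left; rw [e0, e, mul_assoc, hzz, mul_one]
      have hSQ : closure S ≤ Q := by
        rw [closure_le]
        rintro x (rfl | rfl | rfl)
        · exact hzQ
        · exact hyQ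
        · exact Q.mul_mem hyQ hzQ
      have hyS : yH ∈ closure S := Subgroup.subset_closure (Or.inr (Or.inl rfl))
      rcases hirr _ hSn hSQ with h | h
      · -- `Q` commutative: contradiction
        have hcommS : IsMulCommutative (closure S) := by
          apply isMulCommutative_closure
          rintro a (rfl | rfl | rfl) b (rfl | rfl | rfl)
          · rfl
          · exact (hzc yH).symm
          · exact (hzc (yH * zH)).symm
          · exact hzc yH
          · rfl
          · show yH * (yH * zH) = yH * zH * yH
            rw [mul_assoc, hzc yH]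
          · exact hzc (yH * zH)
          · show yH * zH * yH = yH * (yH * zH)
            rw [mul_assoc, hzc yH]
          · rfl
        have hyc : ∀ q' ∈ Q, q' * yH = yH * q' := by
          intro q' hq'
          rw [← h] at hq'
          exact setLike_mul_comm hq' hyS
        rcases hcenter yH hyQ hyc with e | e
        · exact hy1 (congrArg Subtype.val e)
        · exact hyz (congrArg Subtype.val e)
      · exact hynz (h yH hyS)

end Cfsg.Agent.S5436
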