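import Cfsg.Statements.S5437


set_option autoImplicit false
open Cfsg


namespace Cfsg.Agent.S5437

theorem mem_map_conj_iff {G : Type*} [Group G] (H : Subgroup G) (g x : G) :
    x ∈ H.map (MulAut.conj g).toMonoidHom ↔ g⁻¹ * x * g ∈ H := by
  constructor
  · rintro ⟨y, hy, rfl⟩
    simpa [mul_assoc] using hy
  · intro h
    exact ⟨g⁻¹ * x * g, h, by simp [mul_assoc]⟩

theorem smul_coset_eq_iff {G : Type*} [Group G] (H : Subgroup G) (x g : G) :
    x • (g : G ⧸ H) = (g : G ⧸ H) ↔ g⁻¹ * x * g ∈ H := by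
  rw [MulAction.Quotient.smul_mk, eq_comm, QuotientGroup.eq]
  simp [mul_assoc]

/-- Let I be a set of involutions of the finite group G closed under conjugation, and H a subgroup of G. The following are equivalent: (1) for every member x of I lying in H, the conjugates of x lying in H form a single H-class and the centralizer of x lies in H; (2) for every g outside H, no member of I lies in both H and g H g⁻¹; (3) every member of I lying in H fixes exactly one coset in the action of G on the cosets of H. -/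
theorem result {G : Type*} [Group G] [Finite G] (I : Set G) (hI : ∀ x ∈ I, orderOf x = 2) (hIc : ∀ g : G, ∀ x ∈ I, g * x * g⁻¹ ∈ I) (H : Subgroup G) : ((∀ x ∈ I, x ∈ H → (∀ g : G, g * x * g⁻¹ ∈ H → ∃ h ∈ H, h * x * h⁻¹ = g * x * g⁻¹) ∧ Subgroup.centralizer ({x} : Set G) ≤ H) ↔ (∀ g : G, g ∉ H → ∀ x ∈ I, ¬ (x ∈ H ∧ x ∈ (H : Subgroup G).map (MulAut.conj g).toMonoidHom))) ∧ ((∀ g : G, g ∉ H → ∀ x ∈ I, ¬ (x ∈ H ∧ x ∈ (H : Subgroup G).map (MulAut.conj g).toMonoidHom)) ↔ ∀ x ∈ I, x ∈ H → ∃! c : G ⧸ H, x • c = c) := by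
  refine ⟨⟨?_, ?_⟩, ⟨?_, ?_⟩⟩
  · intro hA g hg x hxI ⟨hxH, hxg⟩
    rw [mem_map_conj_iff] at hxg
    obtain ⟨h1, h2⟩ := hA x hxI hxH
    obtain ⟨h, hh, he⟩ := h1 g⁻¹ (by simpa using hxg)
    apply hg
    have hc : g * h ∈ Subgroup.centralizer ({x} : Set G) := by
      rw [Subgroup.mem_centralizer_iff]
      intro y hy
      rw [Set.mem_singleton_iff.mp hy]
      have : g * (h * x * h⁻¹) * g⁻¹ = x := by rw [he]; group
      calc x * (g * h) = (g * (h * x * h⁻¹) * g⁻¹) * (g * h) := by rw [this]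
        _ = g * h * x := by group
    have := H.mul_mem (h2 hc) (H.inv_mem hh)
    simpa using this
  · intro hB x hxI hxH
    refine ⟨?_, ?_⟩
    · intro g hg
      by_cases hgH : g ∈ H
      · exact ⟨g, hgH, rfl⟩
      · exfalso
        have hgH' : g⁻¹ ∉ H := fun h => hgH (by simpa using H.inv_mem h)
        apply hB g⁻¹ hgH' x hxI
        refine ⟨hxH, ?_⟩
        rw [mem_map_conj_iff]
        simpa using hg
    · intro c hc
      by_contra hcH
      apply hB c hcH x hxI
      refine ⟨hxH, ?_⟩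
      rw [mem_map_conj_iff]
      rw [Subgroup.mem_centralizer_iff] at hc
      have := hc x rfl
      have e : c⁻¹ * x * c = x := by rw [mul_assoc, this]; group
      rw [e]; exact hxH
  · intro hB x hxI hxH
    refine ⟨((1 : G) : G ⧸ H), ?_, ?_⟩
    · show x • ((1 : G) : G ⧸ H) = ((1 : G) : G ⧸ H)
      rw [smul_coset_eq_iff]; simpa using hxH
    · intro c
      induction c using QuotientGroup.induction_on with
      | H g =>
        intro hfix
        have hfix' : x • (g : G ⧸ H) = (g : G ⧸ H) := hfix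
        rw [smul_coset_eq_iff] at hfix'
        have hgH : g ∈ H := by
          by_contra hgH
          exact hB g hgH x hxI ⟨hxH, (mem_map_conj_iff H g x).mpr hfix'⟩
        show (g : G ⧸ H) = ((1 : G) : G ⧸ H)
        rw [QuotientGroup.eq]
        simpa using hgH
  · intro hC g hg x hxI ⟨hxH, hxg⟩
    rw [mem_map_conj_iff] at hxg
    obtain ⟨c, -, huniq⟩ := hC x hxI hxH
    have h1 : ((1 : G) : G ⧸ H) = c := huniq _ (by
      show x • ((1 : G) : G ⧸ H) = ((1 : G) : G ⧸ H)
      rw [smul_coset_eq_iff]; simpa using hxH)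
    have h2 : (g : G ⧸ H) = c := huniq _ (by
      show x • (g : G ⧸ H) = (g : G ⧸ H)
      rw [smul_coset_eq_iff]; exact hxg)
    apply hg
    have := h1.trans h2.symm
    rw [QuotientGroup.eq] at this
    simpa using this

end Cfsg.Agent.S5437
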