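import Cfsg.Statements.S5438
import Cfsg.Agent.Lib.Helper90.Basic

set_option autoImplicit false
open Cfsg


namespace Cfsg.Agent.S5438

/-- Every `p`-subgroup is conjugate into a given Sylow `p`-subgroup. -/
theorem exists_conj_mem_sylow {G : Type*} [Group G] [Finite G] {p : ℕ} [Fact p.Prime] (P : Sylow p G)
    (K : Subgroup G) (hK : IsPGroup p K) : ∃ d : G, ∀ k ∈ K, d⁻¹ * k * d ∈ (P : Subgroup G) := by
  obtain ⟨P', hP'⟩ := hK.exists_le_sylow
  obtain ⟨g, hg⟩ := MulAction.exists_smul_eq G P P'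
  refine ⟨g, fun k hk => ?_⟩
  have h1 : k ∈ ((g • P : Sylow p G) : Subgroup G) := by rw [hg]; exact hP' hk
  rw [Sylow.coe_subgroup_smul, Subgroup.mem_pointwise_smul_iff_inv_smul_mem] at h1
  simpa [MulAut.smul_def, mul_assoc] using h1

theorem isPGroup_zpowers_of_sq {G : Type*} [Group G] (t : G) (ht : t ^ 2 = 1) :
    IsPGroup 2 (Subgroup.zpowers t) := by
  rintro ⟨g, hg⟩
  obtain ⟨n, rfl⟩ := Subgroup.mem_zpowers_iff.mp hg
  refine ⟨1, ?_⟩
  ext
  simp only [pow_one, Subgroup.coe_pow, Subgroup.coe_one]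
  rw [← zpow_natCast, ← zpow_mul, mul_comm, zpow_mul, zpow_natCast, ht, one_zpow]

/-- Let z be a 2-central involution of the finite group G (an involution central in some Sylow 2-subgroup) and H a subgroup containing z such that the coset H is the only coset of H fixed by z (in the action of G on the cosets of H). Then H has odd index in G, and for every 2-element x of H the conjugates of x lying in H form a single H-class. -/
theorem result {G : Type*} [Group G] [Finite G] (z : G) (hz : Cfsg.IsTwoCentralInvolution z) (H : Subgroup G) (hzH : z ∈ H) (hfix : ∀ g : G, g⁻¹ * z * g ∈ H → g ∈ H) : Odd H.index ∧ ∀ x ∈ H, (∃ k : ℕ, orderOf x = 2 ^ k) → ∀ g : G, g * x * g⁻¹ ∈ H → ∃ h ∈ H, h * x * h⁻¹ = g * x * g⁻¹ := by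
  have : Fact (Nat.Prime 2) := ⟨Nat.prime_two⟩
  obtain ⟨hz2, P, hzP, hPz⟩ := hz
  have hzsq : z ^ 2 = 1 := by rw [← hz2]; exact pow_orderOf_eq_one z
  -- Step 1: elements commuting with z lie in H
  have hC : ∀ u : G, u * z = z * u → u ∈ H := by
    intro u hu
    apply hfix
    have : u⁻¹ * z * u = z := by rw [mul_assoc, ← hu]; group
    rw [this]; exact hzH
  have hPH : (P : Subgroup G) ≤ H := fun x hx => hC x (hPz x hx)
  -- Lemma A
  have hA : ∀ a b : G, (a * z * a⁻¹) * (b * z * b⁻¹) = (b * z * b⁻¹) * (a * z * a⁻¹) → b⁻¹ * a ∈ H := by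
    intro a b hab
    apply hfix
    apply hC
    have h1 : a⁻¹ * ((a * z * a⁻¹) * (b * z * b⁻¹)) * a = a⁻¹ * ((b * z * b⁻¹) * (a * z * a⁻¹)) * a := by
      rw [hab]
    calc (b⁻¹ * a)⁻¹ * z * (b⁻¹ * a) * z = a⁻¹ * ((b * z * b⁻¹) * (a * z * a⁻¹)) * a := by group
      _ = a⁻¹ * ((a * z * a⁻¹) * (b * z * b⁻¹)) * a := h1.symm
      _ = z * ((b⁻¹ * a)⁻¹ * z * (b⁻¹ * a)) := by group
  -- Step 5: 2-elements of H are H-conjugate into P
  have h5 : ∀ x ∈ H, (∃ k : ℕ, orderOf x = 2 ^ k) → ∃ h ∈ H, h⁻¹ * x * h ∈ P := by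
    intro x hx ⟨k, hk⟩
    have hK : IsPGroup 2 (Subgroup.zpowers (⟨x, hx⟩ : H)) := by
      apply IsPGroup.of_card (n := k)
      rw [Nat.card_zpowers, ← hk]
      exact Subgroup.orderOf_mk x hx
    obtain ⟨d, hd⟩ := exists_conj_mem_sylow (P.subtype hPH) _ hK
    refine ⟨d, d.2, ?_⟩
    have := hd ⟨x, hx⟩ (Subgroup.mem_zpowers _)
    rw [Sylow.coe_subtype, Subgroup.mem_subgroupOf] at this
    show _ ∈ (P : Subgroup G)
    simpa using this
  refine ⟨?_, ?_⟩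
  · have h1 : H.index ∣ (P : Subgroup G).index := Subgroup.index_dvd_of_le hPH
    have h2 : ¬ 2 ∣ (P : Subgroup G).index := P.not_dvd_index
    rw [← Nat.not_even_iff_odd, even_iff_two_dvd]
    exact fun h => h2 (h.trans h1)
  · intro x hx hx2 g hg
    obtain ⟨h1, hh1, hx1⟩ := h5 x hx hx2
    have hy2 : ∃ k : ℕ, orderOf (g * x * g⁻¹) = 2 ^ k := by
      obtain ⟨k, hk⟩ := hx2
      refine ⟨k, ?_⟩
      rw [← hk]
      have hs : SemiconjBy g x (g * x * g⁻¹) := by simp [SemiconjBy]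
      exact (hs.orderOf_eq g).symm
    obtain ⟨h2, hh2, hy1⟩ := h5 _ hg hy2
    -- t1 = h1 z h1⁻¹ commutes with x; t2 = g⁻¹ h2 z h2⁻¹ g commutes with x
    have ht1 : (h1 * z * h1⁻¹) * x = x * (h1 * z * h1⁻¹) := by
      have := hPz _ hx1
      calc (h1 * z * h1⁻¹) * x = h1 * (z * (h1⁻¹ * x * h1)) * h1⁻¹ := by group
        _ = h1 * ((h1⁻¹ * x * h1) * z) * h1⁻¹ := by rw [this]
        _ = x * (h1 * z * h1⁻¹) := by group
    have ht2 : ((g⁻¹ * h2) * z * (g⁻¹ * h2)⁻¹) * x = x * ((g⁻¹ * h2) * z * (g⁻¹ * h2)⁻¹) := by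
      have := hPz _ hy1
      calc ((g⁻¹ * h2) * z * (g⁻¹ * h2)⁻¹) * x
          = (g⁻¹ * h2) * (z * (h2⁻¹ * (g * x * g⁻¹) * h2)) * (g⁻¹ * h2)⁻¹ := by group
        _ = (g⁻¹ * h2) * ((h2⁻¹ * (g * x * g⁻¹) * h2) * z) * (g⁻¹ * h2)⁻¹ := by rw [this]
        _ = x * ((g⁻¹ * h2) * z * (g⁻¹ * h2)⁻¹) := by group
    -- work in C = C_G(x)
    set C := Subgroup.centralizer ({x} : Set G) with hCdef
    have hmemC : ∀ u : G, u * x = x * u → u ∈ C := by
      intro u hu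
      rw [hCdef, Subgroup.mem_centralizer_iff]
      intro y hy
      rw [Set.mem_singleton_iff.mp hy]
      exact hu.symm
    have hCcomm : ∀ u ∈ C, u * x = x * u := by
      intro u hu
      rw [hCdef, Subgroup.mem_centralizer_iff] at hu
      exact (hu x rfl).symm
    obtain ⟨R⟩ : Nonempty (Sylow 2 C) := inferInstance
    have hsq : ∀ a : G, (a * z * a⁻¹) ^ 2 = 1 := by
      intro a
      rw [conj_pow, hzsq]; group
    have hK1 : IsPGroup 2 (Subgroup.zpowers (⟨h1 * z * h1⁻¹, hmemC _ ht1⟩ : C)) := by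
      apply isPGroup_zpowers_of_sq
      ext
      simpa using hsq h1
    have hK2 : IsPGroup 2 (Subgroup.zpowers (⟨(g⁻¹ * h2) * z * (g⁻¹ * h2)⁻¹, hmemC _ ht2⟩ : C)) := by
      apply isPGroup_zpowers_of_sq
      ext
      simpa using hsq (g⁻¹ * h2)
    obtain ⟨c1, hc1⟩ := exists_conj_mem_sylow R _ hK1
    obtain ⟨c2, hc2⟩ := exists_conj_mem_sylow R _ hK2
    have hr1 := hc1 _ (Subgroup.mem_zpowers _)
    have hr2 := hc2 _ (Subgroup.mem_zpowers _)
    have hRG : IsPGroup 2 ((R : Subgroup C).map C.subtype) := R.2.map C.subtype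
    obtain ⟨d, hd⟩ := exists_conj_mem_sylow P _ hRG
    -- d z d⁻¹ commutes with every element of R
    have hdz : ∀ r : C, r ∈ R → (d * z * d⁻¹) * (r : G) = (r : G) * (d * z * d⁻¹) := by
      intro r hr
      have h3 := hd (r : G) ⟨r, hr, rfl⟩
      have := hPz _ h3
      calc (d * z * d⁻¹) * (r : G) = d * (z * (d⁻¹ * (r : G) * d)) * d⁻¹ := by group
        _ = d * ((d⁻¹ * (r : G) * d) * z) * d⁻¹ := by rw [this]
        _ = (r : G) * (d * z * d⁻¹) := by group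
    have e1 := hdz _ hr1
    have e2 := hdz _ hr2
    simp only [Subgroup.coe_mul, Subgroup.coe_inv] at e1 e2
    have k1 : d⁻¹ * ((c1 : G)⁻¹ * h1) ∈ H := by
      apply hA
      have : ((c1 : G)⁻¹ * h1) * z * ((c1 : G)⁻¹ * h1)⁻¹ = (c1 : G)⁻¹ * (h1 * z * h1⁻¹) * (c1 : G) := by group
      rw [this]
      exact e1.symm
    have k2 : ((c2 : G)⁻¹ * (g⁻¹ * h2))⁻¹ * d ∈ H := by
      apply hA
      have : ((c2 : G)⁻¹ * (g⁻¹ * h2)) * z * ((c2 : G)⁻¹ * (g⁻¹ * h2))⁻¹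
          = (c2 : G)⁻¹ * ((g⁻¹ * h2) * z * (g⁻¹ * h2)⁻¹) * (c2 : G) := by group
      rw [this]
      exact e2
    have k3 : g * (c2 : G) * (c1 : G)⁻¹ ∈ H := by
      have := H.mul_mem (H.mul_mem hh2 (H.mul_mem k2 k1)) (H.inv_mem hh1)
      have e : h2 * (((c2 : G)⁻¹ * (g⁻¹ * h2))⁻¹ * d * (d⁻¹ * ((c1 : G)⁻¹ * h1))) * h1⁻¹
          = g * (c2 : G) * (c1 : G)⁻¹ := by group
      rwa [e] at this
    refine ⟨g * (c2 : G) * (c1 : G)⁻¹, k3, ?_⟩
    have hcx : ((c2 : G) * (c1 : G)⁻¹) * x = x * ((c2 : G) * (c1 : G)⁻¹) :=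
      hCcomm _ (C.mul_mem c2.2 (C.inv_mem c1.2))
    calc g * (c2 : G) * (c1 : G)⁻¹ * x * (g * (c2 : G) * (c1 : G)⁻¹)⁻¹
        = g * (((c2 : G) * (c1 : G)⁻¹) * x) * ((c2 : G) * (c1 : G)⁻¹)⁻¹ * g⁻¹ := by group
      _ = g * (x * ((c2 : G) * (c1 : G)⁻¹)) * ((c2 : G) * (c1 : G)⁻¹)⁻¹ * g⁻¹ := by rw [hcx]
      _ = g * x * g⁻¹ := by group

end Cfsg.Agent.S5438
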