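import Cfsg.Statements.S5439


set_option autoImplicit false
open Cfsg


namespace Cfsg.Agent.S5439

theorem smul_coset_eq_iff {G : Type*} [Group G] (H : Subgroup G) (x g : G) :
    x • (g : G ⧸ H) = (g : G ⧸ H) ↔ g⁻¹ * x * g ∈ H := by
  rw [MulAction.Quotient.smul_mk, eq_comm, QuotientGroup.eq]
  simp [mul_assoc]

/-- Two non-conjugate involutions `a`, `b`: there is an element `w`, conjugate to `a` or to `b`, different from `a`,
commuting with `a`, such that `b` commutes with `a * w`. -/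
theorem dihedral_key {G : Type*} [Group G] [Finite G] (a b : G) (ha : a * a = 1) (hb : b * b = 1)
    (hn : ¬ IsConj b a) :
    ∃ w : G, (IsConj a w ∨ IsConj b w) ∧ w ≠ a ∧ a * w = w * a ∧ b * (a * w) = (a * w) * b := by
  have hainv : a⁻¹ = a := inv_eq_of_mul_eq_one_right ha
  have hbinv : b⁻¹ = b := inv_eq_of_mul_eq_one_right hb
  set r := a * b with hr
  have hrinv : a * r * a⁻¹ = r⁻¹ := by
    rw [hr, hainv, mul_inv_rev, hainv, hbinv]
    calc a * (a * b) * a = (a * a) * b * a := by group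
      _ = b * a := by rw [ha, one_mul]
  have hpow : ∀ m : ℕ, (r ^ m)⁻¹ * a = a * r ^ m := by
    intro m
    have h1 : a * r ^ m * a⁻¹ = (r ^ m)⁻¹ := by
      rw [← conj_pow, hrinv, inv_pow]
    calc (r ^ m)⁻¹ * a = a * r ^ m * a⁻¹ * a := by rw [h1]
      _ = a * r ^ m := by group
  have hconja : ∀ m : ℕ, IsConj a (a * r ^ (2 * m)) := by
    intro m
    rw [isConj_iff]
    refine ⟨(r ^ m)⁻¹, ?_⟩
    rw [hpow, inv_inv, mul_assoc, ← pow_add, two_mul]
  have hbr : b = a * r := by
    rw [hr, ← mul_assoc, ha, one_mul]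
  have hconjb : ∀ m : ℕ, IsConj b (a * r ^ (2 * m + 1)) := by
    intro m
    rw [isConj_iff]
    refine ⟨(r ^ m)⁻¹, ?_⟩
    rw [inv_inv]
    nth_rewrite 1 [hbr]
    rw [← mul_assoc, hpow, mul_assoc, mul_assoc, ← pow_succ', ← pow_add]
    congr 2
    omega
  have hnpos : 0 < orderOf r := orderOf_pos r
  rcases Nat.even_or_odd' (orderOf r) with ⟨k, hk | hk⟩
  · -- even order
    have hkpos : 0 < k := by omega
    have hu1 : r ^ k ≠ 1 := pow_ne_one_of_lt_orderOf (by omega) (by omega)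
    have hu2 : r ^ k * r ^ k = 1 := by
      rw [← pow_add, ← two_mul, ← hk, pow_orderOf_eq_one]
    have huinv : (r ^ k)⁻¹ = r ^ k := inv_eq_of_mul_eq_one_right hu2
    have hau : a * r ^ k = r ^ k * a := by
      rw [← hpow, huinv]
    refine ⟨a * r ^ k, ?_, ?_, ?_, ?_⟩
    · rcases Nat.even_or_odd' k with ⟨m, hm | hm⟩
      · left; rw [hm]; exact hconja m
      · right; rw [hm]; exact hconjb m
    · intro h
      apply hu1
      have : a * r ^ k = a * 1 := by rw [h, mul_one]
      exact mul_left_cancel this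
    · calc a * (a * r ^ k) = (a * a) * r ^ k := by group
        _ = r ^ k * (a * a) := by rw [ha, one_mul, mul_one]
        _ = (r ^ k * a) * a := by group
        _ = a * r ^ k * a := by rw [hau]
    · have e : a * (a * r ^ k) = r ^ k := by
        calc a * (a * r ^ k) = (a * a) * r ^ k := by group
          _ = r ^ k := by rw [ha, one_mul]
      rw [e, hbr]
      calc a * r * r ^ k = a * (r ^ k * r) := by rw [mul_assoc, ← pow_succ', pow_succ]
        _ = (a * r ^ k) * r := by group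
        _ = r ^ k * a * r := by rw [hau]
        _ = r ^ k * (a * r) := by group
  · -- odd order: a and b conjugate
    exfalso
    apply hn
    have := hconjb k
    rw [← hk, pow_orderOf_eq_one, mul_one] at this
    exact this

/-- Let I and J be two different conjugacy classes of involutions of the finite group G and H a subgroup such that every member of I ∪ J fixes exactly one coset in the action on the cosets of H, and such that for every a in I ∩ H and every b in (I ∪ J) ∩ H different from a and commuting with it, the centralizer of a b lies in H. Then H = G. -/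
theorem result {G : Type*} [Group G] [Finite G] (I J : Set G) (a₀ b₀ : G) (ha₀ : orderOf a₀ = 2) (hb₀ : orderOf b₀ = 2) (hI : I = {x | IsConj a₀ x}) (hJ : J = {x | IsConj b₀ x}) (hIJ : I ≠ J) (H : Subgroup G) (hfix : ∀ x ∈ I ∪ J, ∃! c : G ⧸ H, x • c = c) (hcent : ∀ a ∈ I, a ∈ H → ∀ b ∈ I ∪ J, b ∈ H → a ≠ b → a * b = b * a → Subgroup.centralizer ({a * b} : Set G) ≤ H) : H = ⊤ := by
  by_contra hH
  obtain ⟨g0, hg0⟩ : ∃ g0 : G, g0 ∉ H := by
    by_contra h
    exact hH (eq_top_iff.mpr fun x _ => by_contra fun hx => h ⟨x, hx⟩)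
  have ha₀I : a₀ ∈ I := by rw [hI]; exact IsConj.refl a₀
  have hb₀J : b₀ ∈ J := by rw [hJ]; exact IsConj.refl b₀
  -- conjugation closure
  have hIc : ∀ g x, x ∈ I → g * x * g⁻¹ ∈ I := by
    intro g x hx
    rw [hI] at hx ⊢
    exact hx.trans (isConj_iff.mpr ⟨g, rfl⟩)
  have hJc : ∀ g x, x ∈ J → g * x * g⁻¹ ∈ J := by
    intro g x hx
    rw [hJ] at hx ⊢
    exact hx.trans (isConj_iff.mpr ⟨g, rfl⟩)
  -- a ∈ I ∩ H
  obtain ⟨a, haI, haH⟩ : ∃ a ∈ I, a ∈ H := by
    obtain ⟨c, hc, -⟩ := hfix a₀ (Or.inl ha₀I)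
    induction c using QuotientGroup.induction_on with
    | H g =>
      have hc' : a₀ • (g : G ⧸ H) = (g : G ⧸ H) := hc
      rw [smul_coset_eq_iff] at hc'
      exact ⟨g⁻¹ * a₀ * g, by simpa using hIc g⁻¹ a₀ ha₀I, hc'⟩
  obtain ⟨b1, hb1J, hb1H⟩ : ∃ b ∈ J, b ∈ H := by
    obtain ⟨c, hc, -⟩ := hfix b₀ (Or.inr hb₀J)
    induction c using QuotientGroup.induction_on with
    | H g =>
      have hc' : b₀ • (g : G ⧸ H) = (g : G ⧸ H) := hc
      rw [smul_coset_eq_iff] at hc'
      exact ⟨g⁻¹ * b₀ * g, by simpa using hJc g⁻¹ b₀ hb₀J, hc'⟩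
  -- elements of I ∪ J in H fix only the trivial coset
  have huniq : ∀ x ∈ I ∪ J, x ∈ H → ∀ g : G, g⁻¹ * x * g ∈ H → g ∈ H := by
    intro x hx hxH g hg
    obtain ⟨c, -, hc⟩ := hfix x hx
    have h1 : ((1 : G) : G ⧸ H) = c := hc _ (by
      show x • ((1 : G) : G ⧸ H) = ((1 : G) : G ⧸ H)
      rw [smul_coset_eq_iff]; simpa using hxH)
    have h2 : (g : G ⧸ H) = c := hc _ (by
      show x • (g : G ⧸ H) = (g : G ⧸ H)
      rw [smul_coset_eq_iff]; exact hg)
    have := h1.trans h2.symm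
    rw [QuotientGroup.eq] at this
    simpa using this
  set b' := g0 * b1 * g0⁻¹ with hb'
  have hb'J : b' ∈ J := hJc g0 b1 hb1J
  have hb'H : b' ∉ H := by
    intro h
    apply hg0
    apply huniq b' (Or.inr hb'J) h g0
    have : g0⁻¹ * b' * g0 = b1 := by rw [hb']; group
    rw [this]; exact hb1H
  have hsq : ∀ x₀ x : G, orderOf x₀ = 2 → IsConj x₀ x → x * x = 1 := by
    intro x₀ x h2 hc
    obtain ⟨c, rfl⟩ := isConj_iff.mp hc
    have h0 : x₀ * x₀ = 1 := by
      have := pow_orderOf_eq_one x₀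
      rwa [h2, sq] at this
    calc c * x₀ * c⁻¹ * (c * x₀ * c⁻¹) = c * (x₀ * x₀) * c⁻¹ := by group
      _ = 1 := by rw [h0]; group
  have haa : a * a = 1 := hsq a₀ a ha₀ (by rw [hI] at haI; exact haI)
  have hbb : b' * b' = 1 := hsq b₀ b' hb₀ (by rw [hJ] at hb'J; exact hb'J)
  have hnc : ¬ IsConj b' a := by
    intro hc
    apply hIJ
    have h1 : IsConj a₀ a := by rw [hI] at haI; exact haI
    have h2 : IsConj b₀ b' := by rw [hJ] at hb'J; exact hb'J
    have h3 : IsConj b₀ a₀ := (h2.trans hc).trans h1.symm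
    rw [hI, hJ]
    ext x
    exact ⟨fun h => h3.trans h, fun h => h3.symm.trans h⟩
  obtain ⟨w, hw1, hw2, hw3, hw4⟩ := dihedral_key a b' haa hbb hnc
  have hwIJ : w ∈ I ∪ J := by
    rcases hw1 with h | h
    · left
      rw [hI] at haI ⊢
      exact IsConj.trans haI h
    · right
      rw [hJ] at hb'J ⊢
      exact IsConj.trans hb'J h
  have hwH : w ∈ H := by
    apply huniq a (Or.inl haI) haH w
    have : w⁻¹ * a * w = a := by rw [mul_assoc, hw3]; group
    rw [this]; exact haH
  have hle := hcent a haI haH w hwIJ hwH (Ne.symm hw2) hw3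
  apply hb'H
  apply hle
  rw [Subgroup.mem_centralizer_iff]
  intro y hy
  rw [Set.mem_singleton_iff.mp hy]
  exact hw4.symm

end Cfsg.Agent.S5439
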