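import Cfsg.Statements.S5459


set_option autoImplicit false
open Cfsg


namespace Cfsg.Agent.S5459

variable {G : Type*} [Group G]

/-- The conjugate `g d g⁻¹` as a member of the class of `d`. -/
def cj (d g : G) : conjugatesOf d := ⟨g * d * g⁻¹, isConj_iff.mpr ⟨g, rfl⟩⟩

/-- Conjugation by `g` on the class of `d`. -/
def conjMap (d g : G) : conjugatesOf d → conjugatesOf d := fun u =>
  ⟨g * (u : G) * g⁻¹, IsConj.trans u.2 (isConj_iff.mpr ⟨g, rfl⟩)⟩

theorem conjMap_cj (d g h : G) : conjMap d g (cj d h) = cj d (g * h) := by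
  apply Subtype.ext
  simp only [conjMap, cj]
  group

theorem adj_iff (D : Set G) (u v : D) :
    (Cfsg.commutingGraph D).Adj u v ↔ u ≠ v ∧ Commute (u : G) (v : G) := by
  unfold Cfsg.commutingGraph
  rw [SimpleGraph.fromRel_adj]
  constructor
  · rintro ⟨h1, h2 | h2⟩
    · exact ⟨h1, h2⟩
    · exact ⟨h1, h2.symm⟩
  · rintro ⟨h1, h2⟩
    exact ⟨h1, Or.inl h2⟩

/-- Conjugation by `g` as a graph homomorphism of the commuting graph. -/
def conjHom (d g : G) :
    Cfsg.commutingGraph (conjugatesOf d) →g Cfsg.commutingGraph (conjugatesOf d) where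
  toFun := conjMap d g
  map_rel' := by
    intro u v h
    rw [adj_iff] at h ⊢
    obtain ⟨h1, h2⟩ := h
    refine ⟨?_, ?_⟩
    · intro he
      apply h1
      apply Subtype.ext
      have := congrArg Subtype.val he
      simp only [conjMap] at this
      exact mul_left_cancel (mul_right_cancel this)
    · show Commute (g * (u : G) * g⁻¹) (g * (v : G) * g⁻¹)
      have h3 : (u : G) * (v : G) = (v : G) * (u : G) := h2
      show g * (u : G) * g⁻¹ * (g * (v : G) * g⁻¹) = g * (v : G) * g⁻¹ * (g * (u : G) * g⁻¹)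
      calc g * (u : G) * g⁻¹ * (g * (v : G) * g⁻¹) = g * ((u : G) * (v : G)) * g⁻¹ := by group
        _ = g * ((v : G) * (u : G)) * g⁻¹ := by rw [h3]
        _ = g * (v : G) * g⁻¹ * (g * (u : G) * g⁻¹) := by group

/-- The elements `g` such that `g d g⁻¹` is reachable from `d` in the commuting graph. -/
def reachSubgroup (d : G) : Subgroup G where
  carrier := {g | (Cfsg.commutingGraph (conjugatesOf d)).Reachable (cj d 1) (cj d g)}
  one_mem' := SimpleGraph.Reachable.refl _
  mul_mem' := by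
    intro g h hg hh
    have h1 := hh.map (conjHom d g)
    have e1 : (conjHom d g) (cj d 1) = cj d g := by
      show conjMap d g (cj d 1) = cj d g
      rw [conjMap_cj, mul_one]
    have e2 : (conjHom d g) (cj d h) = cj d (g * h) := conjMap_cj d g h
    rw [e1, e2] at h1
    exact hg.trans h1
  inv_mem' := by
    intro g hg
    have h1 := hg.map (conjHom d g⁻¹)
    have e1 : (conjHom d g⁻¹) (cj d 1) = cj d g⁻¹ := by
      show conjMap d g⁻¹ (cj d 1) = cj d g⁻¹
      rw [conjMap_cj, mul_one]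
    have e2 : (conjHom d g⁻¹) (cj d g) = cj d 1 := by
      show conjMap d g⁻¹ (cj d g) = cj d 1
      rw [conjMap_cj, inv_mul_cancel]
    rw [e1, e2] at h1
    exact h1.symm

theorem mem_reachSubgroup (d g : G) :
    g ∈ reachSubgroup d ↔ (Cfsg.commutingGraph (conjugatesOf d)).Reachable (cj d 1) (cj d g) :=
  Iff.rfl

open scoped commutatorElement in
theorem comm_central (z1 z2 l1 l2 : G) (h1 : ∀ g, g * z1 = z1 * g) (h2 : ∀ g, g * z2 = z2 * g) :
    ⁅z1 * l1, z2 * l2⁆ = ⁅l1, l2⁆ := by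
  rw [commutatorElement_def, commutatorElement_def]
  calc z1 * l1 * (z2 * l2) * (z1 * l1)⁻¹ * (z2 * l2)⁻¹
      = z1 * (l1 * (z2 * l2) * l1⁻¹) * z1⁻¹ * (z2 * l2)⁻¹ := by group
    _ = (l1 * (z2 * l2) * l1⁻¹) * z1 * z1⁻¹ * (z2 * l2)⁻¹ := by rw [← h1 (l1 * (z2 * l2) * l1⁻¹)]
    _ = l1 * (z2 * (l2 * l1⁻¹ * l2⁻¹)) * z2⁻¹ := by group
    _ = l1 * ((l2 * l1⁻¹ * l2⁻¹) * z2) * z2⁻¹ := by rw [← h2]
    _ = l1 * l2 * l1⁻¹ * l2⁻¹ := by group

/-- In a finite subgroup of odd order every element is an `n`-th power for `n` a power of two. -/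
theorem exists_pow_eq_of_odd [Finite G] (Z : Subgroup G) (hodd : Odd (Nat.card Z)) (k : ℕ) (c : G) (hc : c ∈ Z) :
    ∃ z ∈ Z, z ^ (2 ^ k) = c := by
  have h1 : orderOf (⟨c, hc⟩ : Z) ∣ Nat.card Z := orderOf_dvd_natCard _
  have h2 : orderOf (⟨c, hc⟩ : Z) = orderOf c := Subgroup.orderOf_mk c hc
  have hodd' : Odd (orderOf c) := by
    rw [← h2]
    exact Odd.of_dvd_nat hodd h1
  have hcop : (2 ^ k).Coprime (orderOf c) :=
    Nat.Coprime.pow_left k (Nat.coprime_two_left.mpr hodd')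
  obtain ⟨m, hm⟩ := exists_pow_eq_self_of_coprime hcop
  refine ⟨c ^ m, Z.pow_mem hc m, ?_⟩
  rw [← pow_mul, mul_comm, pow_mul]
  exact hm

/-- The lifting step: two involutions inverting the odd-order normal subgroup `Z` whose commutator lies in `Z`:
a `Z`-conjugate of the second commutes with the first. -/
theorem lift_commute [Finite G] (Z : Subgroup G) (hodd : Odd (Nat.card Z)) (a b : G) (ha2 : a * a = 1)
    (hb2 : b * b = 1) (ha : ∀ c ∈ Z, a * c * a⁻¹ = c⁻¹) (hb : ∀ c ∈ Z, b * c * b⁻¹ = c⁻¹)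
    (hab : a * b * a⁻¹ * b⁻¹ ∈ Z) : ∃ z ∈ Z, Commute a (z * b * z⁻¹) := by
  obtain ⟨z, hz, hz4⟩ := exists_pow_eq_of_odd Z hodd 2 _ hab
  have hainv : a⁻¹ = a := inv_eq_of_mul_eq_one_right ha2
  have hbinv : b⁻¹ = b := inv_eq_of_mul_eq_one_right hb2
  refine ⟨z, hz, ?_⟩
  have e1 : b * z⁻¹ * b⁻¹ = z := by
    rw [hb _ (Z.inv_mem hz), inv_inv]
  have e2 : a * (z * z) * a⁻¹ = z⁻¹ * z⁻¹ := by
    calc a * (z * z) * a⁻¹ = (a * z * a⁻¹) * (a * z * a⁻¹) := by group
      _ = z⁻¹ * z⁻¹ := by rw [ha z hz]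
  have e3 : z * b * z⁻¹ = z * z * b := by
    calc z * b * z⁻¹ = z * (b * z⁻¹ * b⁻¹) * b := by group
      _ = z * z * b := by rw [e1]
  have e4 : a * b = z ^ 4 * (b * a) := by
    have : z ^ (2 ^ 2) = a * b * a * b := by rw [hz4, hainv, hbinv]
    have h4 : z ^ 4 = a * b * a * b := by simpa using this
    rw [h4]
    calc a * b = a * b * (a * a) * (b * b) := by rw [ha2, hb2, mul_one, mul_one]
      _ = a * b * a * (a * (b * b)) := by group
      _ = a * b * a * ((b * b) * a) := by rw [hb2, one_mul, mul_one]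
      _ = a * b * a * b * (b * a) := by group
  show a * (z * b * z⁻¹) = (z * b * z⁻¹) * a
  rw [e3]
  calc a * (z * z * b) = (a * (z * z) * a⁻¹) * (a * b) := by group
    _ = z⁻¹ * z⁻¹ * (z ^ 4 * (b * a)) := by rw [e2, e4]
    _ = z * z * b * a := by
      have : z ^ 4 = z * z * z * z := by
        rw [pow_succ, pow_succ, pow_succ, pow_one]
      rw [this]
      calc z⁻¹ * z⁻¹ * (z * z * z * z * (b * a)) = (z⁻¹ * z⁻¹ * (z * z)) * (z * z * b * a) := by
            simp only [mul_assoc]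
        _ = z * z * b * a := by simp

/-- Let G be a finite group with a quasisimple normal subgroup L and an involution d such that G is generated by L and d, the centre of L has odd order, and d inverts every element of the centre of L. If the commuting graph on the conjugacy class of the image of d in G modulo the centre of L is connected, then the commuting graph on the conjugacy class of d is connected. -/
theorem result {G : Type*} [Group G] [Finite G] (L : Subgroup G) [L.Normal] (hL : Cfsg.IsQuasisimple ↥L) (d : G) (hd : orderOf d = 2) (hgen : L ⊔ Subgroup.zpowers d = ⊤) (hodd : Odd (Nat.card ↥(Subgroup.center ↥L))) (hinv : ∀ c ∈ (Subgroup.center ↥L).map L.subtype, d * c * d⁻¹ = c⁻¹) [hn : ((Subgroup.center ↥L).map L.subtype).Normal] (hconn : (Cfsg.commutingGraph (conjugatesOf (QuotientGroup.mk d : G ⧸ (Subgroup.center ↥L).map L.subtype))).Connected) : (Cfsg.commutingGraph (conjugatesOf d)).Connected := by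
  set Z := (Subgroup.center ↥L).map L.subtype with hZ
  set M := reachSubgroup d with hM
  have hoddZ : Odd (Nat.card Z) := by
    rw [hZ, Subgroup.card_subtype]; exact hodd
  have hdd : d * d = 1 := by
    have := pow_orderOf_eq_one d
    rwa [hd, sq] at this
  -- conjugates of d are involutions inverting Z
  have hsq : ∀ g : G, (g * d * g⁻¹) * (g * d * g⁻¹) = 1 := by
    intro g
    calc (g * d * g⁻¹) * (g * d * g⁻¹) = g * (d * d) * g⁻¹ := by group
      _ = 1 := by rw [hdd]; group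
  have hinvg : ∀ g : G, ∀ c ∈ Z, (g * d * g⁻¹) * c * (g * d * g⁻¹)⁻¹ = c⁻¹ := by
    intro g c hc
    have h1 : g⁻¹ * c * g ∈ Z := by
      have := hn.conj_mem c hc g⁻¹
      simpa using this
    calc (g * d * g⁻¹) * c * (g * d * g⁻¹)⁻¹ = g * (d * (g⁻¹ * c * g) * d⁻¹) * g⁻¹ := by group
      _ = g * (g⁻¹ * c * g)⁻¹ * g⁻¹ := by rw [hinv _ h1]
      _ = c⁻¹ := by group
  -- lifting along reachability in the quotient
  have hlift : ∀ v : conjugatesOf (QuotientGroup.mk d : G ⧸ Z),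
      (Cfsg.commutingGraph (conjugatesOf (QuotientGroup.mk d : G ⧸ Z))).Reachable
        ⟨QuotientGroup.mk d, mem_conjugatesOf_self⟩ v →
      ∃ g : G, (QuotientGroup.mk (g * d * g⁻¹) : G ⧸ Z) = (v : G ⧸ Z) ∧ g ∈ M := by
    intro v hv
    rw [SimpleGraph.reachable_iff_reflTransGen] at hv
    induction hv with
    | refl => exact ⟨1, by simp, M.one_mem⟩
    | @tail v w _ hadj ih =>
      obtain ⟨g, hgv, hgM⟩ := ih
      rw [adj_iff] at hadj
      obtain ⟨hne, hcomm⟩ := hadj
      obtain ⟨xbar, hx⟩ := isConj_iff.mp w.2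
      obtain ⟨x, rfl⟩ := QuotientGroup.mk_surjective xbar
      have hw : (QuotientGroup.mk (x * d * x⁻¹) : G ⧸ Z) = (w : G ⧸ Z) := by
        rw [← hx]; simp
      have hab : (g * d * g⁻¹) * (x * d * x⁻¹) * (g * d * g⁻¹)⁻¹ * (x * d * x⁻¹)⁻¹ ∈ Z := by
        rw [← QuotientGroup.eq_one_iff]
        simp only [QuotientGroup.mk_mul, QuotientGroup.mk_inv]
        have h1 : (QuotientGroup.mk (g * d * g⁻¹) : G ⧸ Z) = (v : G ⧸ Z) := hgv
        simp only [QuotientGroup.mk_mul, QuotientGroup.mk_inv] at h1 hw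
        rw [h1, hw]
        have h2 : (v : G ⧸ Z) * (w : G ⧸ Z) = (w : G ⧸ Z) * (v : G ⧸ Z) := hcomm
        rw [h2]; group
      obtain ⟨z, hz, hzc⟩ := lift_commute Z hoddZ _ _ (hsq g) (hsq x) (hinvg g) (hinvg x) hab
      have e : z * (x * d * x⁻¹) * z⁻¹ = (z * x) * d * (z * x)⁻¹ := by group
      have hmk : (QuotientGroup.mk ((z * x) * d * (z * x)⁻¹) : G ⧸ Z) = (w : G ⧸ Z) := by
        rw [← e, ← hw]
        have hz1 : (QuotientGroup.mk z : G ⧸ Z) = 1 := (QuotientGroup.eq_one_iff z).mpr hz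
        simp only [QuotientGroup.mk_mul, QuotientGroup.mk_inv, hz1]
        group
      refine ⟨z * x, hmk, ?_⟩
      rw [hM, mem_reachSubgroup]
      have hgM' := hgM
      rw [hM, mem_reachSubgroup] at hgM'
      refine hgM'.trans (SimpleGraph.Adj.reachable ?_)
      rw [adj_iff]
      refine ⟨?_, ?_⟩
      · intro he
        apply hne
        apply Subtype.ext
        rw [← hgv, ← hmk]
        have := congrArg Subtype.val he
        simp only [cj] at this
        rw [this]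
      · show Commute (g * d * g⁻¹) ((z * x) * d * (z * x)⁻¹)
        rw [← e]; exact hzc
  -- G = Z M
  have hZM : ∀ g : G, ∃ z ∈ Z, z * g ∈ M := by
    intro g
    obtain ⟨g', hg', hg'M⟩ := hlift ⟨QuotientGroup.mk (g * d * g⁻¹), by
      show IsConj _ _
      rw [isConj_iff]
      exact ⟨QuotientGroup.mk g, by simp⟩⟩ (hconn.preconnected _ _)
    have h1 : (g * d * g⁻¹)⁻¹ * (g' * d * g'⁻¹) ∈ Z := by
      rw [← QuotientGroup.eq]
      exact hg'.symm
    -- a = e z' with z' ∈ Z; a = z'' e with z'' = e z' e⁻¹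
    set e := g * d * g⁻¹ with he
    set z' := e⁻¹ * (g' * d * g'⁻¹) with hz'
    have h2 : e * z' * e⁻¹ = z'⁻¹ := hinvg g z' h1
    obtain ⟨z, hz, hz2⟩ := exists_pow_eq_of_odd Z hoddZ 1 z'⁻¹ (Z.inv_mem h1)
    have hz2' : z * z = z'⁻¹ := by simpa [sq] using hz2
    refine ⟨z, hz, ?_⟩
    have h3 : e * z⁻¹ * e⁻¹ = z := by rw [hinvg g _ (Z.inv_mem hz), inv_inv]
    have h4 : (z * g) * d * (z * g)⁻¹ = g' * d * g'⁻¹ := by
      calc (z * g) * d * (z * g)⁻¹ = z * (e * z⁻¹ * e⁻¹) * e := by rw [he]; group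
        _ = (z * z) * e := by rw [h3]
        _ = (e * z' * e⁻¹) * e := by rw [hz2', h2]
        _ = g' * d * g'⁻¹ := by rw [hz']; group
    rw [hM, mem_reachSubgroup] at hg'M ⊢
    have h5 : cj d (z * g) = cj d g' := Subtype.ext h4
    rw [h5]; exact hg'M
  -- L ≤ M
  have hLM : L ≤ M := by
    have hperf : Group.IsPerfect L := hL.1
    rw [← Subgroup.isPerfect_iff.mp hperf, Subgroup.commutator_le]
    intro l1 hl1 l2 hl2
    obtain ⟨z1, hz1, hm1⟩ := hZM l1
    obtain ⟨z2, hz2, hm2⟩ := hZM l2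
    obtain ⟨ζ1, hζ1, rfl⟩ := hz1
    obtain ⟨ζ2, hζ2, rfl⟩ := hz2
    have hc1 : ∀ y : L, y * ζ1 = ζ1 * y := fun y => Subgroup.mem_center_iff.mp hζ1 y
    have hc2 : ∀ y : L, y * ζ2 = ζ2 * y := fun y => Subgroup.mem_center_iff.mp hζ2 y
    have := comm_central ζ1 ζ2 ⟨l1, hl1⟩ ⟨l2, hl2⟩ hc1 hc2
    have h2 := congrArg (fun y : L => (y : G)) this
    simp only [commutatorElement_def, Subgroup.coe_mul, Subgroup.coe_inv] at h2
    rw [commutatorElement_def, ← h2]
    have := M.mul_mem (M.mul_mem (M.mul_mem hm1 hm2) (M.inv_mem hm1)) (M.inv_mem hm2)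
    simpa using this
  -- d ∈ M
  have hdM : d ∈ M := by
    rw [hM, mem_reachSubgroup]
    have : cj d d = cj d 1 := by
      apply Subtype.ext
      simp [cj]
    rw [this]
  have hMtop : M = ⊤ := by
    rw [eq_top_iff, ← hgen]
    apply sup_le hLM
    rw [Subgroup.zpowers_le]
    exact hdM
  rw [SimpleGraph.connected_iff_exists_forall_reachable]
  refine ⟨cj d 1, ?_⟩
  rintro ⟨w, hw⟩
  obtain ⟨g, rfl⟩ := isConj_iff.mp hw
  have : g ∈ M := by rw [hMtop]; trivial
  rw [hM, mem_reachSubgroup] at this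
  exact this

end Cfsg.Agent.S5459
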