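import Cfsg.Statements.S5521
import Cfsg.Agent.Lib.Helper26.M24Order

set_option autoImplicit false
open Cfsg

namespace Cfsg.Agent.S5521

open Cfsg.Agent.Lib.Helper26
open scoped Pointwise

def certs : List PermData := [
  ⟨[0, 1, 2, 3, 7, 5, 22, 4, 15, 11, 12, 9, 10, 21, 14, 8, 19, 17, 20, 16, 18, 13, 6, 23], [0, 1, 2, 3, 7, 5, 22, 4, 15, 11, 12, 9, 10, 21, 14, 8, 19, 17, 20, 16, 18, 13, 6, 23]⟩,
  ⟨[0, 1, 2, 3, 4, 14, 15, 10, 21, 8, 12, 19, 7, 22, 17, 18, 13, 5, 6, 20, 11, 9, 16, 23], [0, 1, 2, 3, 4, 17, 18, 12, 9, 21, 7, 20, 10, 16, 5, 6, 22, 14, 15, 11, 19, 8, 13, 23]⟩,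
  ⟨[0, 1, 2, 3, 15, 17, 6, 19, 13, 11, 8, 22, 16, 10, 5, 18, 20, 14, 4, 21, 12, 7, 9, 23], [0, 1, 2, 3, 18, 14, 6, 21, 10, 22, 13, 9, 20, 8, 17, 4, 12, 5, 15, 7, 16, 19, 11, 23]⟩,
  ⟨[0, 1, 2, 3, 12, 14, 19, 7, 20, 16, 4, 15, 10, 11, 17, 13, 18, 5, 9, 21, 22, 6, 8, 23], [0, 1, 2, 3, 10, 17, 21, 7, 22, 18, 12, 13, 4, 15, 5, 11, 9, 14, 16, 6, 8, 19, 20, 23]⟩,
  ⟨[0, 1, 2, 3, 21, 17, 10, 20, 8, 4, 13, 12, 18, 6, 5, 16, 19, 14, 11, 15, 22, 9, 7, 23], [0, 1, 2, 3, 9, 14, 13, 22, 8, 21, 6, 18, 11, 10, 17, 19, 15, 5, 12, 16, 7, 4, 20, 23]⟩,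
  ⟨[0, 1, 2, 3, 21, 14, 11, 18, 4, 9, 20, 22, 13, 19, 17, 10, 7, 5, 16, 12, 15, 8, 6, 23], [0, 1, 2, 3, 8, 17, 22, 16, 21, 9, 15, 6, 19, 12, 5, 20, 18, 14, 7, 13, 10, 4, 11, 23]⟩,
  ⟨[0, 1, 2, 3, 12, 17, 13, 4, 6, 20, 10, 21, 7, 8, 5, 9, 11, 14, 19, 22, 15, 16, 18, 23], [0, 1, 2, 3, 7, 14, 8, 12, 13, 15, 10, 16, 4, 6, 17, 20, 21, 5, 22, 18, 9, 11, 19, 23]⟩,
  ⟨[0, 1, 2, 3, 20, 14, 22, 13, 12, 6, 21, 11, 18, 15, 17, 7, 10, 5, 8, 4, 19, 16, 9, 23], [0, 1, 2, 3, 19, 17, 9, 15, 18, 22, 16, 11, 8, 7, 5, 13, 21, 14, 12, 20, 4, 10, 6, 23]⟩,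
  ⟨[0, 1, 2, 3, 7, 17, 20, 10, 11, 13, 4, 18, 12, 19, 5, 22, 6, 14, 8, 9, 16, 15, 21, 23], [0, 1, 2, 3, 10, 14, 16, 4, 18, 19, 7, 8, 12, 9, 17, 21, 20, 5, 11, 13, 6, 22, 15, 23]⟩,
  ⟨[0, 1, 2, 3, 22, 17, 8, 11, 10, 19, 6, 15, 9, 13, 5, 7, 4, 14, 20, 12, 21, 18, 16, 23], [0, 1, 2, 3, 16, 14, 10, 15, 6, 12, 8, 7, 19, 13, 17, 11, 22, 5, 21, 9, 18, 20, 4, 23]⟩,
  ⟨[0, 1, 2, 3, 6, 14, 18, 11, 16, 20, 9, 13, 22, 7, 17, 15, 19, 5, 4, 8, 10, 12, 21, 23], [0, 1, 2, 3, 18, 17, 4, 13, 19, 10, 20, 7, 21, 11, 5, 15, 8, 14, 6, 16, 9, 22, 12, 23]⟩,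
  ⟨[0, 1, 2, 3, 22, 14, 20, 9, 19, 18, 11, 21, 6, 4, 17, 8, 16, 5, 7, 15, 12, 10, 13, 23], [0, 1, 2, 3, 13, 17, 12, 18, 15, 7, 21, 10, 20, 22, 5, 19, 16, 14, 9, 8, 6, 11, 4, 23]⟩,
  ⟨[0, 1, 2, 3, 15, 14, 4, 16, 11, 7, 19, 12, 8, 20, 17, 6, 9, 5, 18, 22, 21, 13, 10, 23], [0, 1, 2, 3, 6, 17, 15, 9, 12, 16, 22, 8, 11, 21, 5, 4, 7, 14, 18, 10, 13, 20, 19, 23]⟩,
  ⟨[0, 1, 2, 3, 11, 14, 21, 6, 15, 13, 22, 20, 9, 12, 17, 16, 8, 5, 10, 19, 4, 7, 18, 23], [0, 1, 2, 3, 20, 17, 7, 21, 16, 12, 18, 4, 13, 9, 5, 8, 15, 14, 22, 19, 11, 6, 10, 23]⟩,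
  ⟨[0, 1, 2, 3, 11, 17, 16, 22, 7, 15, 9, 19, 6, 18, 5, 10, 12, 14, 21, 4, 20, 13, 8, 23], [0, 1, 2, 3, 19, 14, 12, 8, 22, 10, 15, 4, 16, 21, 17, 9, 6, 5, 13, 11, 20, 18, 7, 23]⟩,
  ⟨[0, 1, 2, 3, 9, 17, 19, 6, 4, 8, 11, 16, 22, 20, 5, 12, 10, 14, 13, 7, 18, 21, 15, 23], [0, 1, 2, 3, 8, 14, 7, 19, 9, 4, 16, 10, 15, 18, 17, 22, 11, 5, 20, 6, 13, 21, 12, 23]⟩,
  ⟨[0, 1, 2, 3, 13, 14, 9, 20, 7, 11, 18, 6, 21, 16, 17, 12, 4, 5, 19, 10, 8, 15, 22, 23], [0, 1, 2, 3, 16, 17, 11, 8, 20, 6, 19, 9, 15, 4, 5, 21, 13, 14, 10, 18, 7, 12, 22, 23]⟩]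

def moves (d : PermData) : Bool := (List.range 24).any (fun i => d.tbl.getD i 0 != i)

def certCheck : Bool :=
  (List.range 24).all (fun j => certs.any (fun d => d.fixesAll [3, 2, 1, 0, 23, j] && moves d && d.inM24))

theorem certCheck_ok : certCheck = true := by decide +kernel

theorem pt_injOn {i j : ℕ} (hi : i < 24) (hj : j < 24) (h : pt i = pt j) : i = j := by
  have := congrArg idx h
  rwa [idx_pt i hi, idx_pt j hj] at this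

theorem cert_lemma (q : GolayPt) : ∃ h ∈ fixK [3, 2, 1, 0, 23], h ≠ 1 ∧ h q = q := by
  have hc := certCheck_ok
  simp only [certCheck, List.all_eq_true, List.mem_range, List.any_eq_true, Bool.and_eq_true] at hc
  obtain ⟨d, _, ⟨hfix, hmv⟩, hin⟩ := hc (idx q) (idx_lt q)
  have hmem := PermData.toPerm_mem_fixK hin hfix
  have hok := PermData.ok_of_inM24 hin
  refine ⟨d.toPerm, ⟨hmem.1, fun j hj => hmem.2 j (by simp only [List.mem_cons] at hj ⊢; tauto)⟩, ?_, ?_⟩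
  · simp only [moves, List.any_eq_true, List.mem_range, bne_iff_ne] at hmv
    obtain ⟨i, hi, hne⟩ := hmv
    intro h1
    have h2 : d.toPerm (pt i) = pt i := by rw [h1]; rfl
    rw [PermData.toPerm_apply hok, idx_pt i hi] at h2
    have hlt := ((PermData.ok_spec hok).2.2 i hi).1
    exact hne (pt_injOn hlt hi h2)
  · have := hmem.2 (idx q) (by simp)
    rwa [pt_idx] at this

theorem partA (B : Finset GolayPt) (hB : B.card ≤ 6) : ∃ g ∈ M24, g ≠ 1 ∧ ∀ b ∈ B, g b = b := by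
  classical
  obtain ⟨S, q, hS, hBS⟩ : ∃ (S : Finset GolayPt) (q : GolayPt), S.card = 5 ∧ B ⊆ insert q S := by
    by_cases h6 : B.card = 6
    · have hne : B.Nonempty := by
        rw [← Finset.card_pos, h6]; norm_num
      obtain ⟨q, hq⟩ := hne
      refine ⟨B.erase q, q, ?_, ?_⟩
      · rw [Finset.card_erase_of_mem hq, h6]
      · rw [Finset.insert_erase hq]
    · have h5 : B.card ≤ 5 := by omega
      have hcard : 5 ≤ Fintype.card GolayPt := by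
        have : Fintype.card GolayPt = 24 := rfl
        omega
      obtain ⟨S, hBS, hS⟩ := Finset.exists_superset_card_eq h5 hcard
      exact ⟨S, none, hS, hBS.trans (Finset.subset_insert _ _)⟩
  obtain ⟨g, hg, hgS⟩ := isTransOn5 S.toList (by rw [Finset.length_toList, hS]; rfl) S.nodup_toList
  have hSg : ∀ x ∈ S, ∃ j ∈ [3, 2, 1, 0, 23], x = g (pt j) := by
    intro x hx
    have : x ∈ S.toList := Finset.mem_toList.mpr hx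
    rw [hgS, List.mem_map] at this
    obtain ⟨j, hj, hjx⟩ := this
    exact ⟨j, hj, hjx.symm⟩
  obtain ⟨h, hh, hne, hq⟩ := cert_lemma (g⁻¹ q)
  refine ⟨g * h * g⁻¹, M24.mul_mem (M24.mul_mem hg hh.1) (M24.inv_mem hg), ?_, ?_⟩
  · intro h1
    exact hne (conj_eq_one_iff.mp h1)
  · intro b hb
    have hb' := hBS hb
    rw [Finset.mem_insert] at hb'
    rcases hb' with rfl | hbS
    · simp only [Equiv.Perm.mul_apply]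
      rw [hq]
      simp
    · obtain ⟨j, hj, rfl⟩ := hSg b hbS
      simp only [Equiv.Perm.mul_apply]
      have e1 : g⁻¹ (g (pt j)) = pt j := by simp
      rw [e1, hh.2 j hj]

theorem partB : ∃ B : Finset GolayPt, B.card = 7 ∧ ∀ g ∈ M24, (∀ b ∈ B, g b = b) → g = 1 := by
  refine ⟨([5, 4, 3, 2, 1, 0, 23].map pt).toFinset, by decide, ?_⟩
  intro g hg hfix
  apply fixK7_trivial
  refine ⟨hg, fun j hj => ?_⟩
  apply hfix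
  rw [List.mem_toFinset, List.mem_map]
  exact ⟨j, hj, rfl⟩

theorem result :
    (∀ B : Finset Cfsg.GolayPt, B.card ≤ 6 → ∃ g ∈ Cfsg.M24, g ≠ 1 ∧ ∀ b ∈ B, g b = b) ∧
    (∃ B : Finset Cfsg.GolayPt, B.card = 7 ∧ ∀ g ∈ Cfsg.M24, (∀ b ∈ B, g b = b) → g = 1) := by
  exact ⟨partA, partB⟩

end Cfsg.Agent.S5521
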