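import Cfsg.Statements.S5529
import Cfsg.Agent.Lib.Helper92.M23GenIA
import Cfsg.Agent.Lib.Helper92.M23GenIB
import Cfsg.Agent.Lib.Helper92.M23GenP
import Cfsg.Agent.Lib.Helper92.M23GenPos
import Cfsg.Agent.Lib.Helper92.M23Tools

set_option autoImplicit false
set_option maxRecDepth 1000000
open scoped Pointwise
open Cfsg

namespace Cfsg.Agent.S5529

open Cfsg.Agent.Lib.Helper93.Golay
open Cfsg.Agent.S5522 (ptIdx_inj)
open Cfsg.Agent.S1602 (inv_self self_inv)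
open Cfsg.Agent.S1603 (permC_ext permC_mul_eq)
open Cfsg.Agent.S2060 (IdxFun compOK)
open Cfsg.Agent.S2062 (mem_Kf enumF P_of_papp mem_of_okL P01_ne)
open Cfsg.Agent.Lib.Helper92.M22Aut (okL covL V2 V3 V4 V2_ok V2_cov V3_ok V3_cov V4_ok V4_cov)
open Cfsg.Agent.Lib.Helper92.M23Aut (ac bc V1 trip1 V1_ok V1_cov)
open Cfsg.Agent.Lib.Helper92.M23Tools
open Cfsg.Agent.Lib.Helper92.M23Gen

/-! ### packing -/

theorem forceN_eq (c : ℕ) (k : ℕ → Bool) : forceN c k = k c := by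
  cases c <;> rfl

theorem withCode_eq (f : ℕ → ℕ) (k : ℕ → Bool) : withCode f k = k (packF f) := forceN_eq _ _

theorem papp_packL : ∀ (l : List ℕ), (∀ v ∈ l, v < 32) → ∀ (i : ℕ) (hi : i < l.length),
    papp (packL l) i = l[i] := by
  intro l
  induction l with
  | nil => intro _ i hi; simp at hi
  | cons v vs ih =>
    intro hl i hi
    have hv : v < 32 := hl v (by simp)
    cases i with
    | zero =>
      show ((v + 32 * packL vs) >>> (5 * 0)) &&& 31 = v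
      rw [Nat.mul_zero, Nat.shiftRight_zero]
      have : (31 : ℕ) = 2 ^ 5 - 1 := by norm_num
      rw [this, Nat.and_two_pow_sub_one_eq_mod]
      norm_num
      omega
    | succ j =>
      have hj : j < vs.length := by simpa using hi
      have ih' := ih (fun w hw => hl w (by simp [hw])) j hj
      show ((v + 32 * packL vs) >>> (5 * (j + 1))) &&& 31 = (v :: vs)[j + 1]
      have e : 5 * (j + 1) = 5 + 5 * j := by ring
      rw [e, Nat.shiftRight_add]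
      have e2 : (v + 32 * packL vs) >>> 5 = packL vs := by
        rw [Nat.shiftRight_eq_div_pow]
        norm_num
        omega
      rw [e2]
      exact ih'

theorem papp_packF (f : ℕ → ℕ) (hf : ∀ i < 24, f i < 32) (i : ℕ) (hi : i < 24) :
    papp (packF f) i = f i := by
  unfold packF
  rw [papp_packL _ _ i (by simpa using hi)]
  · simp
  · intro v hv
    rw [List.mem_map] at hv
    obtain ⟨k, hk, rfl⟩ := hv
    exact hf k (List.mem_range.1 hk)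

theorem idx_lt {g : Equiv.Perm GolayPt} {f : ℕ → ℕ} (h : IdxFun g f) (i : ℕ) (hi : i < 24) :
    f i < 24 := by
  have := h (P i hi)
  rw [ptIdx_P] at this
  rw [← this]
  exact (ptIdx _).isLt

theorem idx_pack {g : Equiv.Perm GolayPt} {f : ℕ → ℕ} (h : IdxFun g f) :
    IdxFun g (papp (packF f)) := by
  intro p
  rw [papp_packF f (fun i hi => lt_trans (idx_lt h i hi) (by norm_num)) _ (ptIdx p).isLt]
  exact h p

/-! ### intransitive pairs do not generate -/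

theorem intr_spec {A B : ℕ} (h : intr A B = true) :
    ∃ m : ℕ, invar A m = true ∧ invar B m = true ∧ m.testBit 1 = true ∧
      ∃ j, j < 24 ∧ j ≠ 0 ∧ m.testBit j = false := by
  unfold intr at h
  rw [forceN_eq] at h
  unfold intrM at h
  simp only [Bool.and_eq_true, List.any_eq_true, Bool.not_eq_true', List.mem_range] at h
  obtain ⟨⟨⟨h1, h2⟩, h3⟩, j, hj, hj0, hjm⟩ := h
  refine ⟨_, h1, h2, h3, j, hj, ?_, hjm⟩
  intro h0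
  rw [h0] at hj0
  exact absurd hj0 (by decide)

theorem invar_spec {g : Equiv.Perm GolayPt} {A m : ℕ} (hg : IdxFun g (papp A))
    (h : invar A m = true) (p : GolayPt) :
    m.testBit (ptIdx p) = m.testBit (ptIdx (g p)) := by
  have := List.all_eq_true.1 h (ptIdx p) (List.mem_range.2 (ptIdx p).isLt)
  rw [hg p]
  simpa using this

/-- the subgroup of elements preserving the set of indices with a set bit in `m` -/
def maskStab (m : ℕ) : Subgroup ↥(Hfix 1) where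
  carrier := {g | ∀ p : GolayPt, m.testBit (ptIdx p) = m.testBit (ptIdx (g.1 p))}
  one_mem' := fun _ => rfl
  mul_mem' := by
    intro a b ha hb p
    show m.testBit (ptIdx p) = m.testBit (ptIdx (a.1 (b.1 p)))
    rw [hb p, ha (b.1 p)]
  inv_mem' := by
    intro a ha p
    show m.testBit (ptIdx p) = m.testBit (ptIdx (a.1⁻¹ p))
    have := ha (a.1⁻¹ p)
    rw [self_inv] at this
    exact this.symm

theorem V1_move (j : ℕ) (hj : j < 24) (hj0 : j ≠ 0) :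
    ∃ S ∈ V1, isAutC S = true ∧ permC S ∈ Hfix 1 ∧ papp S 1 = j := by
  have h := List.all_eq_true.1 V1_cov j (List.mem_range.2 hj)
  have hb : Nat.testBit 1 j = false := by
    rw [Bool.eq_false_iff]
    intro hh
    exact hj0 (Nat.testBit_one_eq_true_iff_self_eq_zero.1 hh)
  rw [hb] at h
  simp only [Bool.false_or, List.any_eq_true] at h
  obtain ⟨S, hS, hSj⟩ := h
  obtain ⟨hA, hK⟩ := mem_of_okL V1_ok hS
  exact ⟨S, hS, hA, hK, Nat.eq_of_beq_eq_true hSj⟩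

theorem not_top_of_intr {x y : ↥(Hfix 1)} {A B : ℕ} (hx : IdxFun x.1 (papp A))
    (hy : IdxFun y.1 (papp B)) (h : intr A B = true) : Subgroup.closure {x, y} ≠ ⊤ := by
  obtain ⟨m, h1, h2, h3, j, hj, hj0, hjm⟩ := intr_spec h
  intro htop
  have hle : Subgroup.closure {x, y} ≤ maskStab m := by
    rw [Subgroup.closure_le]
    intro g hg
    rcases hg with rfl | rfl
    · exact fun p => invar_spec hx h1 p
    · exact fun p => invar_spec hy h2 p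
  rw [htop] at hle
  obtain ⟨S, hS, hA, hK, hSj⟩ := V1_move j hj hj0
  have hmem : (⟨permC S, hK⟩ : ↥(Hfix 1)) ∈ maskStab m := hle (Subgroup.mem_top _)
  have := hmem (P 1)
  rw [ptIdx_P] at this
  have e : ((ptIdx (permC S (P 1)) : Fin 24) : ℕ) = j := by
    rw [ptIdx_permC (isPerm_of_isAutC hA), ptIdx_P]; exact hSj
  rw [show ((⟨permC S, hK⟩ : ↥(Hfix 1)) : Equiv.Perm GolayPt) = permC S from rfl, e, h3, hjm] at this
  exact absurd this (by decide)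

/-! ### conjugation -/

theorem closure_conj_top {G : Type*} [Group G] (c x y : G) (h : Subgroup.closure {x, y} = ⊤) :
    Subgroup.closure {c * x * c⁻¹, c * y * c⁻¹} = ⊤ := by
  have e : ({c * x * c⁻¹, c * y * c⁻¹} : Set G) = (MulAut.conj c).toMonoidHom '' {x, y} := by
    rw [Set.image_pair]
    rfl
  rw [e, ← MonoidHom.map_closure, h]
  rw [← MonoidHom.range_eq_map]
  exact MonoidHom.range_eq_top.2 (MulAut.conj c).surjective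


/-! ### fixed points of elements of prime order -/

theorem card_GolayPt : Fintype.card GolayPt = 24 := by decide

theorem mem_fixF (y : Equiv.Perm GolayPt) (q : GolayPt) : q ∈ (y.support)ᶜ ↔ y q = q := by
  rw [Finset.mem_compl, Equiv.Perm.mem_support, not_not]

theorem card_fix_modEq (y : Equiv.Perm GolayPt) {p : ℕ} [hp : Fact p.Prime] (hy : y ^ p = 1) :
    (y.support)ᶜ.card ≡ 24 [MOD p] := by
  have := Equiv.Perm.card_compl_support_modEq (p := p) (n := 1) (σ := y) (by rwa [pow_one])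
  rwa [card_GolayPt] at this

instance fact3 : Fact (Nat.Prime 3) := ⟨by norm_num⟩
instance fact5 : Fact (Nat.Prime 5) := ⟨by norm_num⟩

theorem two_fixed {y : Equiv.Perm GolayPt} (hy0 : y (P 0) = P 0) (hy : y ^ 3 = 1) :
    2 ≤ ((y.support)ᶜ.erase (P 0)).card := by
  have h := card_fix_modEq y hy
  have hmem : P 0 ∈ (y.support)ᶜ := (mem_fixF y _).2 hy0
  rw [Finset.card_erase_of_mem hmem]
  have hpos : 1 ≤ (y.support)ᶜ.card := Finset.card_pos.2 ⟨_, hmem⟩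
  unfold Nat.ModEq at h
  omega

theorem three_fixed {y : Equiv.Perm GolayPt} (hy0 : y (P 0) = P 0) (hy : y ^ 5 = 1) :
    3 ≤ ((y.support)ᶜ.erase (P 0)).card := by
  have h := card_fix_modEq y hy
  have hmem : P 0 ∈ (y.support)ᶜ := (mem_fixF y _).2 hy0
  rw [Finset.card_erase_of_mem hmem]
  have hpos : 1 ≤ (y.support)ᶜ.card := Finset.card_pos.2 ⟨_, hmem⟩
  unfold Nat.ModEq at h
  omega

/-! ### moving a fixed point to a base point -/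

theorem step_conj (k : ℕ) (hk : k < 24) (L : List ℕ) (m : ℕ) (hL : okL L m = true)
    (hcov : covL L m k = true) {y : Equiv.Perm GolayPt} (hy : y ∈ Hfix m)
    {q : GolayPt} (hq : q ∉ fset m) (hyq : y q = q) :
    ∃ S ∈ L, isAutC S = true ∧ permC S ∈ Hfix m ∧ permC S (P k hk) = q ∧
      (permC S)⁻¹ * y * permC S ∈ Hfix (m ||| 1 <<< k) := by
  have hjm : m.testBit (ptIdx q) = false := by
    rw [mem_fset] at hq
    simpa using hq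
  have hc := List.all_eq_true.1 hcov (ptIdx q) (List.mem_range.2 (ptIdx q).isLt)
  rw [hjm] at hc
  simp only [Bool.false_or, List.any_eq_true] at hc
  obtain ⟨S, hS, hSj⟩ := hc
  obtain ⟨hA, hK⟩ := mem_of_okL hL hS
  have hP := isPerm_of_isAutC hA
  have hSk : permC S (P k hk) = q := by
    rw [P_of_papp hP k hk _ (ptIdx q).isLt hSj]
    exact P_ptIdx q
  refine ⟨S, hS, hA, hK, hSk, ?_⟩
  rw [Hfix_or m k hk, Subgroup.mem_inf, MulAction.mem_stabilizer_iff]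
  refine ⟨(Hfix m).mul_mem ((Hfix m).mul_mem ((Hfix m).inv_mem hK) hy) hK, ?_⟩
  show ((permC S)⁻¹ * y * permC S) (P k hk) = P k hk
  simp only [Equiv.Perm.mul_apply]
  rw [hSk, hyq, inv_app hSk]

theorem fset3_cases : ∀ p : GolayPt, p ∈ fset 3 → p = P 0 ∨ p = P 1 := by decide

theorem not_mem_fset1 {q : GolayPt} (h : q ≠ P 0) : q ∉ fset 1 := fun hq => h (fset1_cases q hq)


/-! ### reading the tables -/

theorem powId_iff {g : Equiv.Perm GolayPt} {f : ℕ → ℕ} (h : IdxFun g f) (n : ℕ) :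
    g ^ n = 1 ↔ powId n f = true := (h.pow n).eq_one_iff

theorem isId_iff {g : Equiv.Perm GolayPt} {f : ℕ → ℕ} (h : IdxFun g f) :
    g = 1 ↔ isId f = true := h.eq_one_iff

theorem eq_of_idx {g g' : Equiv.Perm GolayPt} {f : ℕ → ℕ} (h : IdxFun g f) (h' : IdxFun g' f) :
    g = g' := by
  apply Equiv.ext
  intro p
  apply ptIdx_inj
  rw [h p, h' p]

theorem conj_of_conjOK {c t x : ℕ} (hc : isPerm c = true) (ht : isPerm t = true)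
    (hx : isPerm x = true) (h : conjOK c t x = true) :
    permC c * permC t * (permC c)⁻¹ = permC x := by
  have e : permC c * permC t = permC x * permC c := by
    apply Equiv.ext
    intro p
    apply ptIdx_inj
    rw [((IdxFun.permC hc).mul (IdxFun.permC ht)) p, ((IdxFun.permC hx).mul (IdxFun.permC hc)) p]
    exact Nat.eq_of_beq_eq_true (List.all_eq_true.1 h _ (List.mem_range.2 (ptIdx p).isLt))
  rw [e]; group

theorem X3_facts : isPerm X3 = true ∧ permC X3 ∈ Hfix 7 := by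
  obtain ⟨hA, hK⟩ := mem_of_okL X3_ok (List.mem_singleton.2 rfl)
  exact ⟨isPerm_of_isAutC hA, hK⟩

theorem Y5_facts : isPerm Y5 = true ∧ permC Y5 ∈ Hfix 15 := by
  obtain ⟨hA, hK⟩ := mem_of_okL Y5_ok (List.mem_singleton.2 rfl)
  exact ⟨isPerm_of_isAutC hA, hK⟩

theorem T3_facts {p : ℕ × ℕ} (hp : p ∈ T3) :
    isPerm p.1 = true ∧ permC p.1 ∈ Hfix 7 ∧ isPerm p.2 = true ∧ permC p.2 ∈ Hfix 1 ∧
      permC p.2 * permC p.1 * (permC p.2)⁻¹ = permC X3 := by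
  have h := List.all_eq_true.1 T3_ok p hp
  simp only [Bool.and_eq_true] at h
  obtain ⟨⟨⟨⟨h1, h2⟩, h3⟩, h4⟩, h5⟩ := h
  exact ⟨isPerm_of_isAutC h1, permC_mem_Hfix h1 h2, isPerm_of_isAutC h3, permC_mem_Hfix h3 h4,
    conj_of_conjOK (isPerm_of_isAutC h3) (isPerm_of_isAutC h1) X3_facts.1 h5⟩

theorem T5_facts {p : ℕ × ℕ} (hp : p ∈ T5) :
    isPerm p.1 = true ∧ permC p.1 ∈ Hfix 15 ∧ isPerm p.2 = true ∧ permC p.2 ∈ Hfix 1 ∧
      permC p.2 * permC p.1 * (permC p.2)⁻¹ = permC Y5 := by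
  have h := List.all_eq_true.1 T5_ok p hp
  simp only [Bool.and_eq_true] at h
  obtain ⟨⟨⟨⟨h1, h2⟩, h3⟩, h4⟩, h5⟩ := h
  exact ⟨isPerm_of_isAutC h1, permC_mem_Hfix h1 h2, isPerm_of_isAutC h3, permC_mem_Hfix h3 h4,
    conj_of_conjOK (isPerm_of_isAutC h3) (isPerm_of_isAutC h1) Y5_facts.1 h5⟩

theorem app_eq_of_pow_eq_one {y : Equiv.Perm GolayPt} {f : ℕ → ℕ} (hf : IdxFun y f) {n : ℕ}
    (hy : y ^ n = 1) (i : ℕ) (hi : i < 24) : f^[n] i = i :=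
  Nat.eq_of_beq_eq_true (List.all_eq_true.1 ((powId_iff hf n).1 hy) i (List.mem_range.2 hi))

theorem chk7_spec {y : Equiv.Perm GolayPt} {f : ℕ → ℕ} (hf : IdxFun y f) (h3 : y ^ 3 = 1)
    (h1 : y ≠ 1) (hc : chk7 f = true) : ∃ p ∈ T3, p.1 = packF f := by
  unfold chk7 at hc
  rw [withCode_eq] at hc
  have hC := idx_pack hf
  have e3 := app_eq_of_pow_eq_one hf h3 3 (by norm_num)
  have e4 := app_eq_of_pow_eq_one hf h3 4 (by norm_num)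
  simp only [Function.iterate_succ, Function.iterate_zero, Function.comp_apply, id_eq] at e3 e4
  rw [e3, e4, (powId_iff hC 3).1 h3] at hc
  have hid : isId (papp (packF f)) = false := by
    rw [Bool.eq_false_iff]
    intro hh'
    exact h1 ((isId_iff hC).2 hh')
  rw [hid] at hc
  simp only [Nat.beq_refl, Bool.and_self, Bool.not_true, Bool.false_or, Bool.or_self,
    List.any_eq_true] at hc
  obtain ⟨p, hp, hpC⟩ := hc
  exact ⟨p, hp, Nat.eq_of_beq_eq_true hpC⟩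

theorem chk15_spec {y : Equiv.Perm GolayPt} {f : ℕ → ℕ} (hf : IdxFun y f) (h5 : y ^ 5 = 1)
    (h1 : y ≠ 1) (hc : chk15 f = true) : ∃ p ∈ T5, p.1 = packF f := by
  unfold chk15 at hc
  rw [withCode_eq] at hc
  have hC := idx_pack hf
  rw [(powId_iff hC 5).1 h5] at hc
  have hid : isId (papp (packF f)) = false := by
    rw [Bool.eq_false_iff]
    intro hh'
    exact h1 ((isId_iff hC).2 hh')
  rw [hid] at hc
  simp only [Bool.not_true, Bool.false_or, Bool.or_self, List.any_eq_true] at hc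
  obtain ⟨p, hp, hpC⟩ := hc
  exact ⟨p, hp, Nat.eq_of_beq_eq_true hpC⟩

/-- elements of order three of the three point stabiliser -/
theorem mem_T3 {y : Equiv.Perm GolayPt} (hy : y ∈ Hfix 7) (h3 : y ^ 3 = 1) (h1 : y ≠ 1) :
    ∃ p ∈ T3, y = permC p.1 := by
  obtain ⟨S3, hS3, S4, hS4, h, hh, hP3, hP4, hPh, hyeq⟩ := enum7 hy
  have hf : IdxFun y (fun t => papp S3 (papp S4 (papp h t))) := by
    rw [hyeq]
    exact (IdxFun.permC hP3).mul ((IdxFun.permC hP4).mul (IdxFun.permC hPh))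
  have hc := List.all_eq_true.1 (List.all_eq_true.1 (List.all_eq_true.1 all7 S3 hS3) S4 hS4) h hh
  obtain ⟨p, hp, hpC⟩ := chk7_spec hf h3 h1 hc
  refine ⟨p, hp, ?_⟩
  apply eq_of_idx (idx_pack hf)
  rw [← hpC]
  exact IdxFun.permC (T3_facts hp).1

/-- elements of order five of the four point stabiliser -/
theorem mem_T5 {y : Equiv.Perm GolayPt} (hy : y ∈ Hfix 15) (h5 : y ^ 5 = 1) (h1 : y ≠ 1) :
    ∃ p ∈ T5, y = permC p.1 := by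
  obtain ⟨S4, hS4, h, hh, hP4, hPh, hyeq⟩ := enum15 hy
  have hf : IdxFun y (fun t => papp S4 (papp h t)) := by
    rw [hyeq]
    exact (IdxFun.permC hP4).mul (IdxFun.permC hPh)
  have hc := List.all_eq_true.1 (List.all_eq_true.1 all15 S4 hS4) h hh
  obtain ⟨p, hp, hpC⟩ := chk15_spec hf h5 h1 hc
  refine ⟨p, hp, ?_⟩
  apply eq_of_idx (idx_pack hf)
  rw [← hpC]
  exact IdxFun.permC (T5_facts hp).1

/-! ### conjugating into the small stabilisers -/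

theorem pow_conj_eq_one {G : Type*} [Group G] (c y : G) {n : ℕ} (h : y ^ n = 1) :
    (c * y * c⁻¹) ^ n = 1 := by
  rw [conj_pow, h]; group

theorem conj_ne_one {G : Type*} [Group G] (c y : G) (h : y ≠ 1) : c * y * c⁻¹ ≠ 1 := by
  intro h'
  apply h
  have : y = c⁻¹ * (c * y * c⁻¹) * c := by group
  rw [this, h']; group

theorem mem_erase_fix {y : Equiv.Perm GolayPt} {q : GolayPt} :
    q ∈ ((y.support)ᶜ.erase (P 0)) ↔ q ≠ P 0 ∧ y q = q := by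
  rw [Finset.mem_erase, mem_fixF]

/-- two fixed points can be moved to the base points `1`, `2` -/
theorem move_two {y : Equiv.Perm GolayPt} (hy : y ∈ Hfix 1) {qa qb : GolayPt}
    (ha0 : qa ≠ P 0) (hya : y qa = qa) (hb0 : qb ≠ P 0) (hyb : y qb = qb) (hab : qa ≠ qb) :
    ∃ S1 ∈ V1, ∃ S2 ∈ V2, isPerm S1 = true ∧ isPerm S2 = true ∧ permC S1 ∈ Hfix 1 ∧
      permC S2 ∈ Hfix 1 ∧ permC S1 (P 1) = qa ∧ permC S1 (permC S2 (P 2)) = qb ∧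
      (permC S2)⁻¹ * ((permC S1)⁻¹ * y * permC S1) * permC S2 ∈ Hfix 7 := by
  obtain ⟨S1, hS1, hA1, hK1, hS1a, hy1⟩ := step_conj 1 (by norm_num) V1 1 V1_ok V1_cov hy
    (not_mem_fset1 ha0) hya
  have hy1' : (permC S1)⁻¹ * y * permC S1 ∈ Hfix 3 := hy1
  have hS10 : permC S1 (P 0) = P 0 := ((mem_K1 _).1 hK1).2
  have hb1 : (permC S1)⁻¹ qb ∉ fset 3 := by
    intro hmem
    rcases fset3_cases _ hmem with h | h
    · apply hb0
      have : qb = permC S1 (P 0) := by rw [← h, self_inv]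
      rw [this, hS10]
    · apply hab
      have : qb = permC S1 (P 1) := by rw [← h, self_inv]
      rw [this, hS1a]
  have hyb1 : ((permC S1)⁻¹ * y * permC S1) ((permC S1)⁻¹ qb) = (permC S1)⁻¹ qb := by
    simp only [Equiv.Perm.mul_apply]
    rw [self_inv, hyb]
  obtain ⟨S2, hS2, hA2, hK2, hS2b, hy2⟩ := step_conj 2 (by norm_num) V2 3 V2_ok V2_cov hy1'
    hb1 hyb1
  have hK2' : permC S2 ∈ Hfix 1 := by
    rw [mem_K1]
    exact ⟨((mem_Kf _).1 hK2).1, ((mem_Kf _).1 hK2).2.1⟩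
  refine ⟨S1, hS1, S2, hS2, isPerm_of_isAutC hA1, isPerm_of_isAutC hA2, hK1, hK2', hS1a, ?_, hy2⟩
  rw [hS2b, self_inv]

/-- every element of order three of the point stabiliser is conjugate to the fixed one -/
theorem conj3 {y : Equiv.Perm GolayPt} (hy : y ∈ Hfix 1) (h3 : y ^ 3 = 1) (h1 : y ≠ 1) :
    ∃ c ∈ Hfix 1, c * y * c⁻¹ = permC X3 := by
  have hy0 := ((mem_K1 y).1 hy).2
  obtain ⟨qa, hqa, qb, hqb, hab⟩ := Finset.one_lt_card.1 (two_fixed hy0 h3)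
  rw [mem_erase_fix] at hqa hqb
  obtain ⟨S1, hS1, S2, hS2, hP1, hP2, hK1, hK2, -, -, hy2⟩ :=
    move_two hy hqa.1 hqa.2 hqb.1 hqb.2 hab
  have e : (permC S2)⁻¹ * ((permC S1)⁻¹ * y * permC S1) * permC S2 =
      ((permC S2)⁻¹ * (permC S1)⁻¹) * y * ((permC S2)⁻¹ * (permC S1)⁻¹)⁻¹ := by group
  obtain ⟨p, hp, hpe⟩ := mem_T3 hy2 (by rw [e]; exact pow_conj_eq_one _ _ h3)
    (by rw [e]; exact conj_ne_one _ _ h1)
  obtain ⟨-, -, -, hcK, hconj⟩ := T3_facts hp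
  refine ⟨permC p.2 * (permC S2)⁻¹ * (permC S1)⁻¹,
    (Hfix 1).mul_mem ((Hfix 1).mul_mem hcK ((Hfix 1).inv_mem hK2)) ((Hfix 1).inv_mem hK1), ?_⟩
  rw [← hconj, ← hpe]; group

theorem fset7_not {q : GolayPt} (h0 : q ≠ P 0) (h1 : q ≠ P 1) (h2 : q ≠ P 2) : q ∉ fset 7 := by
  intro hq
  rcases fset7_cases q hq with h | h | h
  · exact h0 h
  · exact h1 h
  · exact h2 h

/-- every element of order five of the point stabiliser is conjugate to the fixed one -/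
theorem conj5 {y : Equiv.Perm GolayPt} (hy : y ∈ Hfix 1) (h5 : y ^ 5 = 1) (h1 : y ≠ 1) :
    ∃ c ∈ Hfix 1, c * y * c⁻¹ = permC Y5 := by
  have hy0 := ((mem_K1 y).1 hy).2
  obtain ⟨qa, qb, qc, hqa, hqb, hqc, hab, hac, hbc⟩ := Finset.two_lt_card_iff.1 (three_fixed hy0 h5)
  rw [mem_erase_fix] at hqa hqb hqc
  obtain ⟨S1, hS1, S2, hS2, hP1, hP2, hK1, hK2, hS1a, hS2b, hy2⟩ :=
    move_two hy hqa.1 hqa.2 hqb.1 hqb.2 hab
  set g := permC S1 * permC S2 with hg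
  have hgK : g ∈ Hfix 1 := (Hfix 1).mul_mem hK1 hK2
  have hg0 : g (P 0) = P 0 := ((mem_K1 _).1 hgK).2
  have hS21 : permC S2 (P 1) = P 1 := by
    have h7 : (permC S2)⁻¹ * ((permC S1)⁻¹ * y * permC S1) * permC S2 ∈ Hfix 7 := hy2
    -- `S2` lies in the two point stabiliser by construction; recover it from the images
    by_contra hne
    exact hne (by
      have hA : ∀ S ∈ V2, permC S (P 1) = P 1 := by
        intro S hS
        exact ((mem_Kf _).1 (mem_of_okL V2_ok hS).2).2.2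
      exact hA S2 hS2)
  have hg1 : g (P 1) = qa := by
    rw [hg, Equiv.Perm.mul_apply, hS21, hS1a]
  have hg2 : g (P 2) = qb := by
    rw [hg, Equiv.Perm.mul_apply, hS2b]
  have hy2' : g⁻¹ * y * g ∈ Hfix 7 := by
    have e : g⁻¹ * y * g = (permC S2)⁻¹ * ((permC S1)⁻¹ * y * permC S1) * permC S2 := by
      rw [hg]; group
    rw [e]; exact hy2
  have hc1 : g⁻¹ qc ∉ fset 7 := by
    apply fset7_not
    · intro h
      apply hqc.1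
      have : qc = g (P 0) := by rw [← h, self_inv]
      rw [this, hg0]
    · intro h
      apply hac
      have : qc = g (P 1) := by rw [← h, self_inv]
      rw [this, hg1]
    · intro h
      apply hbc
      have : qc = g (P 2) := by rw [← h, self_inv]
      rw [this, hg2]
  have hyc1 : (g⁻¹ * y * g) (g⁻¹ qc) = g⁻¹ qc := by
    simp only [Equiv.Perm.mul_apply]
    rw [self_inv, hqc.2]
  obtain ⟨S3, hS3, hA3, hK3, -, hy3⟩ := step_conj 3 (by norm_num) V3 7 V3_ok V3_cov hy2'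
    hc1 hyc1
  have hy3' : (permC S3)⁻¹ * (g⁻¹ * y * g) * permC S3 ∈ Hfix 15 := hy3
  have hK3' : permC S3 ∈ Hfix 1 := by
    rw [mem_K1]
    exact ⟨((mem_K7 _).1 hK3).1, ((mem_K7 _).1 hK3).2.1⟩
  have e : (permC S3)⁻¹ * (g⁻¹ * y * g) * permC S3 =
      ((permC S3)⁻¹ * g⁻¹) * y * ((permC S3)⁻¹ * g⁻¹)⁻¹ := by group
  obtain ⟨p, hp, hpe⟩ := mem_T5 hy3' (by rw [e]; exact pow_conj_eq_one _ _ h5)
    (by rw [e]; exact conj_ne_one _ _ h1)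
  obtain ⟨-, -, -, hcK, hconj⟩ := T5_facts hp
  refine ⟨permC p.2 * (permC S3)⁻¹ * g⁻¹,
    (Hfix 1).mul_mem ((Hfix 1).mul_mem hcK ((Hfix 1).inv_mem hK3')) ((Hfix 1).inv_mem hgK), ?_⟩
  rw [← hconj, ← hpe]; group


/-! ### inverse codes -/

theorem inv_of_invOK {S Si : ℕ} (h : invOK S Si = true) :
    isPerm S = true ∧ isPerm Si = true ∧ permC Si = (permC S)⁻¹ := by
  unfold invOK at h
  simp only [Bool.and_eq_true] at h
  obtain ⟨⟨h1, h2⟩, h3⟩ := h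
  refine ⟨h1, h2, ?_⟩
  rw [eq_inv_iff_mul_eq_one, ((IdxFun.permC h2).mul (IdxFun.permC h1)).eq_one_iff]
  exact h3

theorem V1z_spec {S : ℕ} (hS : S ∈ V1) : ∃ p ∈ V1z, p.1 = S ∧ invOK p.1 p.2 = true := by
  have h := V1z_ok
  rw [Bool.and_eq_true] at h
  have hm : V1z.map Prod.fst = V1 := eq_of_beq h.1
  rw [← hm, List.mem_map] at hS
  obtain ⟨p, hp, rfl⟩ := hS
  exact ⟨p, hp, rfl, List.all_eq_true.1 h.2 p hp⟩

theorem V2z_spec {S : ℕ} (hS : S ∈ V2) : ∃ p ∈ V2z, p.1 = S ∧ invOK p.1 p.2 = true := by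
  have h := V2z_ok
  rw [Bool.and_eq_true] at h
  have hm : V2z.map Prod.fst = V2 := eq_of_beq h.1
  rw [← hm, List.mem_map] at hS
  obtain ⟨p, hp, rfl⟩ := hS
  exact ⟨p, hp, rfl, List.all_eq_true.1 h.2 p hp⟩

/-! ### the canonical decomposition of an element of order three -/

theorem idx_inj : Function.Injective (fun q : GolayPt => ((ptIdx q : Fin 24) : ℕ)) := by
  intro a b h
  exact ptIdx_inj h

theorem decomp3 {y : Equiv.Perm GolayPt} (hy : y ∈ Hfix 1) (h3 : y ^ 3 = 1) (h1 : y ≠ 1) :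
    ∃ p1 ∈ V1z, ∃ p2 ∈ V2z, ∃ t ∈ T3, ∃ f : ℕ → ℕ,
      f = (fun i => papp p1.1 (papp p2.1 (papp t.1 (papp p2.2 (papp p1.2 i))))) ∧ IdxFun y f ∧
      canon f (papp p1.1 1) (papp p1.1 (papp p2.1 2)) = true := by
  have hy0 := ((mem_K1 y).1 hy).2
  set F := (y.support)ᶜ.erase (P 0) with hF
  set I := F.image (fun q : GolayPt => ((ptIdx q : Fin 24) : ℕ)) with hI
  have hIc : 2 ≤ I.card := by
    rw [hI, Finset.card_image_of_injective _ idx_inj]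
    exact two_fixed hy0 h3
  have hIne : I.Nonempty := Finset.card_pos.1 (by omega)
  set a := I.min' hIne with ha
  have haI : a ∈ I := Finset.min'_mem I hIne
  have hI'ne : (I.erase a).Nonempty := by
    apply Finset.card_pos.1
    rw [Finset.card_erase_of_mem haI]; omega
  set b := (I.erase a).min' hI'ne with hb
  have hbI' : b ∈ I.erase a := Finset.min'_mem _ hI'ne
  obtain ⟨hba, hbI⟩ := Finset.mem_erase.1 hbI'
  have hmin : ∀ i ∈ I, i ≠ a → b ≤ i := fun i hi hia =>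
    Finset.min'_le _ i (Finset.mem_erase.2 ⟨hia, hi⟩)
  obtain ⟨qa, hqaF, hqa⟩ := Finset.mem_image.1 haI
  obtain ⟨qb, hqbF, hqb⟩ := Finset.mem_image.1 hbI
  rw [hF, mem_erase_fix] at hqaF hqbF
  have hab : qa ≠ qb := by
    intro h
    apply hba
    rw [← hqa, ← hqb, h]
  obtain ⟨S1, hS1, S2, hS2, hP1, hP2, hK1, hK2, hS1a, hS2b, hy2⟩ :=
    move_two hy hqaF.1 hqaF.2 hqbF.1 hqbF.2 hab
  have e : (permC S2)⁻¹ * ((permC S1)⁻¹ * y * permC S1) * permC S2 =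
      ((permC S2)⁻¹ * (permC S1)⁻¹) * y * ((permC S2)⁻¹ * (permC S1)⁻¹)⁻¹ := by group
  obtain ⟨t, ht, hte⟩ := mem_T3 hy2 (by rw [e]; exact pow_conj_eq_one _ _ h3)
    (by rw [e]; exact conj_ne_one _ _ h1)
  obtain ⟨p1, hp1, hp1S, hinv1⟩ := V1z_spec hS1
  obtain ⟨p2, hp2, hp2S, hinv2⟩ := V2z_spec hS2
  obtain ⟨hQ1, hQ1i, hi1⟩ := inv_of_invOK hinv1
  obtain ⟨hQ2, hQ2i, hi2⟩ := inv_of_invOK hinv2
  have htP := (T3_facts ht).1
  refine ⟨p1, hp1, p2, hp2, t, ht, _, rfl, ?_, ?_⟩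
  · have hyeq : y = permC p1.1 * (permC p2.1 * (permC t.1 * (permC p2.2 * permC p1.2))) := by
      rw [hi1, hi2, hp1S, hp2S, ← hte]; group
    rw [hyeq]
    exact (IdxFun.permC hQ1).mul ((IdxFun.permC hQ2).mul ((IdxFun.permC htP).mul
      ((IdxFun.permC hQ2i).mul (IdxFun.permC hQ1i))))
  · have hyf : IdxFun y (fun i => papp p1.1 (papp p2.1 (papp t.1 (papp p2.2 (papp p1.2 i))))) := by
      have hyeq : y = permC p1.1 * (permC p2.1 * (permC t.1 * (permC p2.2 * permC p1.2))) := by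
        rw [hi1, hi2, hp1S, hp2S, ← hte]; group
      rw [hyeq]
      exact (IdxFun.permC hQ1).mul ((IdxFun.permC hQ2).mul ((IdxFun.permC htP).mul
        ((IdxFun.permC hQ2i).mul (IdxFun.permC hQ1i))))
    have ea : papp p1.1 1 = a := by
      rw [hp1S, ← hqa, ← hS1a, ptIdx_permC hP1, ptIdx_P]
    have eb : papp p1.1 (papp p2.1 2) = b := by
      rw [hp1S, hp2S, ← hqb, ← hS2b, ptIdx_permC hP1, ptIdx_permC hP2, ptIdx_P]
    rw [ea, eb]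
    unfold canon
    rw [Bool.and_eq_true]
    refine ⟨?_, ?_⟩
    · have hab' : a < b := lt_of_le_of_ne (Finset.min'_le I b hbI) (Ne.symm hba)
      show Nat.ble (a + 1) b = true
      exact Nat.ble_eq_true_of_le hab'
    rw [List.all_eq_true]
    intro i hi
    have hi24 := List.mem_range.1 hi
    simp only [Bool.or_eq_true, Bool.not_eq_true']
    by_cases h0 : i = 0
    · left; left; left; rw [h0]; rfl
    by_cases hbi : b ≤ i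
    · left; left; right; exact Nat.ble_eq_true_of_le hbi
    by_cases hia : i = a
    · left; right; rw [hia]; exact Nat.beq_refl a
    right
    rw [Bool.eq_false_iff]
    intro hfi
    have hfi' := Nat.eq_of_beq_eq_true hfi
    apply hbi
    apply hmin i _ hia
    rw [hI, Finset.mem_image]
    refine ⟨P i hi24, ?_, ptIdx_P i hi24⟩
    rw [hF, mem_erase_fix]
    constructor
    · intro hP0
      apply h0
      have := congrArg (fun q : GolayPt => ((ptIdx q : Fin 24) : ℕ)) hP0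
      simpa [ptIdx_P] using this
    · apply ptIdx_inj
      have := hyf (P i hi24)
      rw [ptIdx_P] at this
      rw [this, ptIdx_P]
      exact hfi'


/-! ### the passes -/

theorem prodOrd_of {u v : Equiv.Perm GolayPt} {A B : ℕ} (hu : IdxFun u (papp A))
    (hv : IdxFun v (papp B)) {r : ℕ} {l : List ℕ} (hr : r ∈ l) (h : (u * v) ^ r = 1) :
    prodOrd A B l = true := by
  unfold prodOrd
  rw [List.any_eq_true]
  refine ⟨r, hr, ?_⟩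
  have hp := (powId_iff (hu.mul hv) r).1 h
  rw [hp, Bool.and_true]
  have := List.all_eq_true.1 hp 1 (List.mem_range.2 (by norm_num))
  exact this

theorem chkI_spec {x : Equiv.Perm GolayPt} {f : ℕ → ℕ} (hf : IdxFun x f) (h2 : x * x = 1)
    (hc : chkI f = true) :
    intr (packF f) X3 = true ∧ (prodOrd (packF f) Y5 [5, 7] = true → intr (packF f) Y5 = true) := by
  have h := ((hf.mul hf).eq_one_iff).1 h2
  rw [List.all_eq_true] at h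
  have e2 := h 2 (List.mem_range.2 (by norm_num))
  have e3 := h 3 (List.mem_range.2 (by norm_num))
  unfold chkI at hc
  rw [e2, e3, withCode_eq] at hc
  unfold chkIC at hc
  have hC := idx_pack hf
  have hx2 : x ^ 2 = 1 := by rw [pow_two]; exact h2
  rw [(powId_iff hC 2).1 hx2] at hc
  simp only [Bool.and_self, Bool.not_true, Bool.false_or, Bool.and_eq_true, Bool.or_eq_true,
    Bool.not_eq_true'] at hc
  refine ⟨hc.1, fun hp => ?_⟩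
  rcases hc.2 with h' | h'
  · rw [hp] at h'; exact absurd h' (by decide)
  · exact h'

theorem invol_chk {x : Equiv.Perm GolayPt} (hx : x ∈ Hfix 1) (h2 : x * x = 1) :
    ∃ f : ℕ → ℕ, IdxFun x f ∧ chkI f = true := by
  rcases invol_cases hx h2 with ⟨tr, htr, S3, hS3, S4, hS4, h, hh, hf⟩ |
      ⟨S2, hS2, S3, hS3, S4, hS4, h, hh, hf⟩
  · refine ⟨_, hf, ?_⟩
    have h1 := List.all_eq_true.1 (List.all_eq_true.1 allIA tr htr) S3 hS3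
    unfold chunkIA at h1
    exact List.all_eq_true.1 (List.all_eq_true.1 h1 S4 hS4) h hh
  · refine ⟨_, hf, ?_⟩
    have h1 := List.all_eq_true.1 (List.all_eq_true.1 allIB S2 hS2) S3 hS3
    unfold chunkIB at h1
    exact List.all_eq_true.1 (List.all_eq_true.1 h1 S4 hS4) h hh

theorem val_conj (c x : ↥(Hfix 1)) : (c * x * c⁻¹).1 = c.1 * x.1 * c.1⁻¹ := rfl

/-- an involution and an element of order three do not generate -/
theorem negI3 {x y : ↥(Hfix 1)} (hx : x * x = 1) (hy3 : y ^ 3 = 1) (hy1 : y ≠ 1) :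
    Subgroup.closure {x, y} ≠ ⊤ := by
  intro htop
  obtain ⟨c, hc, hcy⟩ := conj3 y.2 (by
    have := congrArg Subtype.val hy3; simpa using this) (fun h => hy1 (Subtype.ext h))
  let cG : ↥(Hfix 1) := ⟨c, hc⟩
  have htop' := closure_conj_top cG x y htop
  have hx' : (cG * x * cG⁻¹).1 * (cG * x * cG⁻¹).1 = 1 := by
    have : (cG * x * cG⁻¹) * (cG * x * cG⁻¹) = 1 := by
      have e : (cG * x * cG⁻¹) * (cG * x * cG⁻¹) = cG * (x * x) * cG⁻¹ := by group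
      rw [e, hx]; group
    exact congrArg Subtype.val this
  obtain ⟨f, hf, hchk⟩ := invol_chk (cG * x * cG⁻¹).2 hx'
  obtain ⟨hi, -⟩ := chkI_spec hf hx' hchk
  have hyX : IdxFun (cG * y * cG⁻¹).1 (papp X3) := by
    rw [val_conj]
    show IdxFun (c * y.1 * c⁻¹) (papp X3)
    rw [hcy]
    exact IdxFun.permC X3_facts.1
  exact not_top_of_intr (idx_pack hf) hyX hi htop'

/-- an involution and an element of order five with product of order five or seven do not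
generate -/
theorem negI5 {x y : ↥(Hfix 1)} (hx : x * x = 1) (hy5 : y ^ 5 = 1) (hy1 : y ≠ 1) {r : ℕ}
    (hr : r ∈ [5, 7]) (hxy : (x * y) ^ r = 1) : Subgroup.closure {x, y} ≠ ⊤ := by
  intro htop
  obtain ⟨c, hc, hcy⟩ := conj5 y.2 (by
    have := congrArg Subtype.val hy5; simpa using this) (fun h => hy1 (Subtype.ext h))
  let cG : ↥(Hfix 1) := ⟨c, hc⟩
  have htop' := closure_conj_top cG x y htop
  have hx' : (cG * x * cG⁻¹).1 * (cG * x * cG⁻¹).1 = 1 := by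
    have : (cG * x * cG⁻¹) * (cG * x * cG⁻¹) = 1 := by
      have e : (cG * x * cG⁻¹) * (cG * x * cG⁻¹) = cG * (x * x) * cG⁻¹ := by group
      rw [e, hx]; group
    exact congrArg Subtype.val this
  obtain ⟨f, hf, hchk⟩ := invol_chk (cG * x * cG⁻¹).2 hx'
  obtain ⟨-, hi⟩ := chkI_spec hf hx' hchk
  have hyX : IdxFun (cG * y * cG⁻¹).1 (papp Y5) := by
    rw [val_conj]
    show IdxFun (c * y.1 * c⁻¹) (papp Y5)
    rw [hcy]
    exact IdxFun.permC Y5_facts.1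
  have hprod : ((cG * x * cG⁻¹).1 * (cG * y * cG⁻¹).1) ^ r = 1 := by
    have : ((cG * x * cG⁻¹) * (cG * y * cG⁻¹)) ^ r = 1 := by
      have e : (cG * x * cG⁻¹) * (cG * y * cG⁻¹) = cG * (x * y) * cG⁻¹ := by group
      rw [e]; exact pow_conj_eq_one _ _ hxy
    have := congrArg Subtype.val this
    simpa using this
  exact not_top_of_intr (idx_pack hf) hyX (hi (prodOrd_of (idx_pack hf) hyX hr hprod)) htop'

theorem chunkP_spec {p1 p2 t : ℕ × ℕ} (hp1 : p1 ∈ V1z) (hp2 : p2 ∈ V2z) (ht : t ∈ T3) :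
    chkP (papp p1.1 1) (papp p1.1 (papp p2.1 2))
      (fun i => papp p1.1 (papp p2.1 (papp t.1 (papp p2.2 (papp p1.2 i))))) = true := by
  have h := List.all_eq_true.1 (List.all_eq_true.1 allP p1 hp1) p2 hp2
  unfold chunkP at h
  rw [forceN_eq, forceN_eq] at h
  exact List.all_eq_true.1 h t ht

/-- two elements of order three with product of order three, five or seven do not generate -/
theorem neg33 {x y : ↥(Hfix 1)} (hx3 : x ^ 3 = 1) (hx1 : x ≠ 1) (hy3 : y ^ 3 = 1) (hy1 : y ≠ 1)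
    {r : ℕ} (hr : r ∈ [3, 5, 7]) (hxy : (x * y) ^ r = 1) : Subgroup.closure {x, y} ≠ ⊤ := by
  intro htop
  obtain ⟨c, hc, hcx⟩ := conj3 x.2 (by
    have := congrArg Subtype.val hx3; simpa using this) (fun h => hx1 (Subtype.ext h))
  let cG : ↥(Hfix 1) := ⟨c, hc⟩
  have htop' := closure_conj_top cG x y htop
  have hxX : IdxFun (cG * x * cG⁻¹).1 (papp X3) := by
    rw [val_conj]
    show IdxFun (c * x.1 * c⁻¹) (papp X3)
    rw [hcx]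
    exact IdxFun.permC X3_facts.1
  have hy3' : (cG * y * cG⁻¹).1 ^ 3 = 1 := by
    have := congrArg Subtype.val (pow_conj_eq_one cG y hy3)
    simpa using this
  have hy1' : (cG * y * cG⁻¹).1 ≠ 1 := fun h => conj_ne_one cG y hy1 (Subtype.ext h)
  obtain ⟨p1, hp1, p2, hp2, t, ht, f, hfe, hf, hcanon⟩ := decomp3 (cG * y * cG⁻¹).2 hy3' hy1'
  have hchk := chunkP_spec hp1 hp2 ht
  rw [← hfe] at hchk
  unfold chkP at hchk
  rw [hcanon, withCode_eq] at hchk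
  unfold chkPC at hchk
  have hprod : ((cG * x * cG⁻¹).1 * (cG * y * cG⁻¹).1) ^ r = 1 := by
    have : ((cG * x * cG⁻¹) * (cG * y * cG⁻¹)) ^ r = 1 := by
      have e : (cG * x * cG⁻¹) * (cG * y * cG⁻¹) = cG * (x * y) * cG⁻¹ := by group
      rw [e]; exact pow_conj_eq_one _ _ hxy
    have := congrArg Subtype.val this
    simpa using this
  rw [prodOrd_of hxX (idx_pack hf) hr hprod] at hchk
  simp only [Bool.not_true, Bool.false_or] at hchk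
  exact not_top_of_intr hxX (idx_pack hf) hchk htop'


/-! ### generating pairs -/

/-- the statement for one triple of primes, in the point stabiliser -/
def Gen (p q r : ℕ) : Prop :=
  ∃ x y z : ↥(Hfix 1), orderOf x = p ∧ orderOf y = q ∧ orderOf z = r ∧ x * y * z = 1 ∧
    Subgroup.closure {x, y} = ⊤

theorem gen_iff (p q r : ℕ) :
    (∃ x y z : Cfsg.Spor.M23, orderOf x = p ∧ orderOf y = q ∧ orderOf z = r ∧ x * y * z = 1 ∧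
        Subgroup.closure {x, y} = ⊤) ↔ Gen p q r := by
  have key : ∀ {A B : Type} [Group A] [Group B] (e : A ≃* B),
      (∃ x y z : A, orderOf x = p ∧ orderOf y = q ∧ orderOf z = r ∧ x * y * z = 1 ∧
        Subgroup.closure {x, y} = ⊤) →
      ∃ x y z : B, orderOf x = p ∧ orderOf y = q ∧ orderOf z = r ∧ x * y * z = 1 ∧
        Subgroup.closure {x, y} = ⊤ := by
    intro A B _ _ e
    rintro ⟨x, y, z, hx, hy, hz, hxyz, hcl⟩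
    refine ⟨e x, e y, e z, ?_, ?_, ?_, ?_, ?_⟩
    · rw [MulEquiv.orderOf_eq, hx]
    · rw [MulEquiv.orderOf_eq, hy]
    · rw [MulEquiv.orderOf_eq, hz]
    · rw [← map_mul, ← map_mul, hxyz, map_one]
    · have e2 : ({e x, e y} : Set B) = e.toMonoidHom '' {x, y} := by
        rw [Set.image_pair]; rfl
      rw [e2, ← MonoidHom.map_closure, hcl, ← MonoidHom.range_eq_map]
      exact MonoidHom.range_eq_top.2 e.surjective
  exact ⟨key isoM23.symm, key isoM23⟩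

theorem gen_of_pos {p q r X Y : ℕ} {prog : List (ℕ × ℕ × ℕ)} (hp : p.Prime) (hq : q.Prime)
    (hr : r.Prime) (h : posOK p q r X Y prog = true) : Gen p q r := by
  unfold posOK at h
  simp only [Bool.and_eq_true, Bool.not_eq_true'] at h
  obtain ⟨⟨⟨⟨⟨⟨⟨hok, hxp⟩, hx1⟩, hyq⟩, hy1⟩, hzr⟩, hz1⟩, hslp⟩ := h
  obtain ⟨hAX, hKX⟩ := mem_of_okL hok (S := X) (by simp)
  obtain ⟨hAY, hKY⟩ := mem_of_okL hok (S := Y) (by simp)
  have hPX := isPerm_of_isAutC hAX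
  have hPY := isPerm_of_isAutC hAY
  have hiX := IdxFun.permC hPX
  have hiY := IdxFun.permC hPY
  let x : ↥(Hfix 1) := ⟨permC X, hKX⟩
  let y : ↥(Hfix 1) := ⟨permC Y, hKY⟩
  have := Fact.mk hp
  have := Fact.mk hq
  have := Fact.mk hr
  have hox : orderOf x = p := by
    apply orderOf_eq_prime
    · apply Subtype.ext
      show permC X ^ p = 1
      exact (powId_iff hiX p).2 hxp
    · intro h1
      have := (isId_iff hiX).1 (congrArg Subtype.val h1)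
      rw [hx1] at this
      exact absurd this (by decide)
  have hoy : orderOf y = q := by
    apply orderOf_eq_prime
    · apply Subtype.ext
      show permC Y ^ q = 1
      exact (powId_iff hiY q).2 hyq
    · intro h1
      have := (isId_iff hiY).1 (congrArg Subtype.val h1)
      rw [hy1] at this
      exact absurd this (by decide)
  have hoz : orderOf (x * y)⁻¹ = r := by
    rw [orderOf_inv]
    apply orderOf_eq_prime
    · apply Subtype.ext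
      show (permC X * permC Y) ^ r = 1
      exact (powId_iff (hiX.mul hiY) r).2 hzr
    · intro h1
      have := (isId_iff (hiX.mul hiY)).1 (congrArg Subtype.val h1)
      rw [hz1] at this
      exact absurd this (by decide)
  refine ⟨x, y, (x * y)⁻¹, hox, hoy, hoz, by group, ?_⟩
  -- generation
  let Pr : ℕ → Prop := fun S => isPerm S = true ∧
    ∃ h : permC S ∈ Hfix 1, (⟨permC S, h⟩ : ↥(Hfix 1)) ∈ Subgroup.closure {x, y}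
  have hmul : ∀ R S T, Pr S → Pr T → isPerm R = true → compOK R S T = true → Pr R := by
    intro R S T hS hT hR hc
    obtain ⟨hSP, hSK, hSH⟩ := hS
    obtain ⟨hTP, hTK, hTH⟩ := hT
    have hprod : permC R = permC S * permC T := by
      apply permC_mul_eq hR hSP hTP
      intro k hk
      exact Nat.eq_of_beq_eq_true (List.all_eq_true.1 hc k (List.mem_range.2 hk))
    have hRK : permC R ∈ Hfix 1 := by rw [hprod]; exact (Hfix 1).mul_mem hSK hTK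
    refine ⟨hR, hRK, ?_⟩
    have e : (⟨permC R, hRK⟩ : ↥(Hfix 1)) = ⟨permC S, hSK⟩ * ⟨permC T, hTK⟩ := Subtype.ext hprod
    rw [e]
    exact (Subgroup.closure {x, y}).mul_mem hSH hTH
  have hbase : ∀ S ∈ [Y, X], Pr S := by
    intro S hS
    rw [List.mem_cons, List.mem_singleton] at hS
    rcases hS with rfl | rfl
    · exact ⟨hPY, hKY, Subgroup.subset_closure (by simp [y])⟩
    · exact ⟨hPX, hKX, Subgroup.subset_closure (by simp [x])⟩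
  have hU := Cfsg.Agent.Lib.Helper92.Slp.slpCheck_sound Pr hmul _ prog [Y, X] 2 rfl hbase hslp
  obtain ⟨-, ha', haH⟩ := hU ac (by simp)
  obtain ⟨-, hb', hbH⟩ := hU bc (by simp)
  exact gen_top _ haH hbH

theorem not_gen_23 (r : ℕ) : ¬ Gen 2 3 r := by
  rintro ⟨x, y, z, hx, hy, -, -, hcl⟩
  have hx2 : x * x = 1 := by rw [← pow_two, ← hx]; exact pow_orderOf_eq_one x
  have hy3 : y ^ 3 = 1 := by rw [← hy]; exact pow_orderOf_eq_one y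
  have hy1 : y ≠ 1 := by
    intro h; rw [h, orderOf_one] at hy; exact absurd hy (by decide)
  exact negI3 hx2 hy3 hy1 hcl

theorem not_gen_25 {r : ℕ} (hr : r ∈ [5, 7]) : ¬ Gen 2 5 r := by
  rintro ⟨x, y, z, hx, hy, hz, hxyz, hcl⟩
  have hx2 : x * x = 1 := by rw [← pow_two, ← hx]; exact pow_orderOf_eq_one x
  have hy5 : y ^ 5 = 1 := by rw [← hy]; exact pow_orderOf_eq_one y
  have hy1 : y ≠ 1 := by
    intro h; rw [h, orderOf_one] at hy; exact absurd hy (by decide)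
  have hz' : x * y = z⁻¹ := eq_inv_of_mul_eq_one_left hxyz
  have hxy : (x * y) ^ r = 1 := by
    rw [hz', inv_pow, ← hz, pow_orderOf_eq_one, inv_one]
  exact negI5 hx2 hy5 hy1 hr hxy hcl

theorem not_gen_33 {r : ℕ} (hr : r ∈ [3, 5, 7]) : ¬ Gen 3 3 r := by
  rintro ⟨x, y, z, hx, hy, hz, hxyz, hcl⟩
  have hx3 : x ^ 3 = 1 := by rw [← hx]; exact pow_orderOf_eq_one x
  have hx1 : x ≠ 1 := by
    intro h; rw [h, orderOf_one] at hx; exact absurd hx (by decide)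
  have hy3 : y ^ 3 = 1 := by rw [← hy]; exact pow_orderOf_eq_one y
  have hy1 : y ≠ 1 := by
    intro h; rw [h, orderOf_one] at hy; exact absurd hy (by decide)
  have hz' : x * y = z⁻¹ := eq_inv_of_mul_eq_one_left hxyz
  have hxy : (x * y) ^ r = 1 := by
    rw [hz', inv_pow, ← hz, pow_orderOf_eq_one, inv_one]
  exact neg33 hx3 hx1 hy3 hy1 hr hxy hcl

theorem prime_cases {p : ℕ} (hp : p.Prime) (h : p ∣ 10200960) :
    p = 2 ∨ p = 3 ∨ p = 5 ∨ p = 7 ∨ p = 11 ∨ p = 23 := by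
  have e : (10200960 : ℕ) = 2 ^ 7 * (3 ^ 2 * (5 * (7 * (11 * 23)))) := by norm_num
  rw [e] at h
  rcases (Nat.Prime.dvd_mul hp).1 h with h | h
  · left; exact (Nat.prime_dvd_prime_iff_eq hp (by norm_num)).1 (hp.dvd_of_dvd_pow h)
  rcases (Nat.Prime.dvd_mul hp).1 h with h | h
  · right; left; exact (Nat.prime_dvd_prime_iff_eq hp (by norm_num)).1 (hp.dvd_of_dvd_pow h)
  rcases (Nat.Prime.dvd_mul hp).1 h with h | h
  · right; right; left; exact (Nat.prime_dvd_prime_iff_eq hp (by norm_num)).1 h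
  rcases (Nat.Prime.dvd_mul hp).1 h with h | h
  · right; right; right; left; exact (Nat.prime_dvd_prime_iff_eq hp (by norm_num)).1 h
  rcases (Nat.Prime.dvd_mul hp).1 h with h | h
  · right; right; right; right; left; exact (Nat.prime_dvd_prime_iff_eq hp (by norm_num)).1 h
  · right; right; right; right; right; exact (Nat.prime_dvd_prime_iff_eq hp (by norm_num)).1 h

theorem pr2 : Nat.Prime 2 := by norm_num
theorem pr3 : Nat.Prime 3 := by norm_num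
theorem pr5 : Nat.Prime 5 := by norm_num
theorem pr7 : Nat.Prime 7 := by norm_num
theorem pr11 : Nat.Prime 11 := by norm_num
theorem pr23 : Nat.Prime 23 := by norm_num

theorem case_2_3_3 : Gen 2 3 3 ↔ ¬ ((2 = 2 ∧ 3 = 3) ∨ (2 = 2 ∧ 3 = 5 ∧ 3 = 5) ∨ (2 = 2 ∧ 3 = 5 ∧ 3 = 7) ∨ (2 = 3 ∧ 3 = 3 ∧ 3 ≤ 7)) := by
  exact iff_of_false (not_gen_23 3) (by decide)
theorem case_2_3_5 : Gen 2 3 5 ↔ ¬ ((2 = 2 ∧ 3 = 3) ∨ (2 = 2 ∧ 3 = 5 ∧ 5 = 5) ∨ (2 = 2 ∧ 3 = 5 ∧ 5 = 7) ∨ (2 = 3 ∧ 3 = 3 ∧ 5 ≤ 7)) := by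
  exact iff_of_false (not_gen_23 5) (by decide)
theorem case_2_3_7 : Gen 2 3 7 ↔ ¬ ((2 = 2 ∧ 3 = 3) ∨ (2 = 2 ∧ 3 = 5 ∧ 7 = 5) ∨ (2 = 2 ∧ 3 = 5 ∧ 7 = 7) ∨ (2 = 3 ∧ 3 = 3 ∧ 7 ≤ 7)) := by
  exact iff_of_false (not_gen_23 7) (by decide)
theorem case_2_3_11 : Gen 2 3 11 ↔ ¬ ((2 = 2 ∧ 3 = 3) ∨ (2 = 2 ∧ 3 = 5 ∧ 11 = 5) ∨ (2 = 2 ∧ 3 = 5 ∧ 11 = 7) ∨ (2 = 3 ∧ 3 = 3 ∧ 11 ≤ 7)) := by
  exact iff_of_false (not_gen_23 11) (by decide)
theorem case_2_3_23 : Gen 2 3 23 ↔ ¬ ((2 = 2 ∧ 3 = 3) ∨ (2 = 2 ∧ 3 = 5 ∧ 23 = 5) ∨ (2 = 2 ∧ 3 = 5 ∧ 23 = 7) ∨ (2 = 3 ∧ 3 = 3 ∧ 23 ≤ 7)) := by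
  exact iff_of_false (not_gen_23 23) (by decide)
theorem case_2_5_5 : Gen 2 5 5 ↔ ¬ ((2 = 2 ∧ 5 = 3) ∨ (2 = 2 ∧ 5 = 5 ∧ 5 = 5) ∨ (2 = 2 ∧ 5 = 5 ∧ 5 = 7) ∨ (2 = 3 ∧ 5 = 3 ∧ 5 ≤ 7)) := by
  exact iff_of_false (not_gen_25 (by simp)) (by decide)
theorem case_2_5_7 : Gen 2 5 7 ↔ ¬ ((2 = 2 ∧ 5 = 3) ∨ (2 = 2 ∧ 5 = 5 ∧ 7 = 5) ∨ (2 = 2 ∧ 5 = 5 ∧ 7 = 7) ∨ (2 = 3 ∧ 5 = 3 ∧ 7 ≤ 7)) := by
  exact iff_of_false (not_gen_25 (by simp)) (by decide)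
theorem case_2_5_11 : Gen 2 5 11 ↔ ¬ ((2 = 2 ∧ 5 = 3) ∨ (2 = 2 ∧ 5 = 5 ∧ 11 = 5) ∨ (2 = 2 ∧ 5 = 5 ∧ 11 = 7) ∨ (2 = 3 ∧ 5 = 3 ∧ 11 ≤ 7)) := by
  exact iff_of_true (gen_of_pos pr2 pr5 pr11 pos_2_5_11) (by decide)
theorem case_2_5_23 : Gen 2 5 23 ↔ ¬ ((2 = 2 ∧ 5 = 3) ∨ (2 = 2 ∧ 5 = 5 ∧ 23 = 5) ∨ (2 = 2 ∧ 5 = 5 ∧ 23 = 7) ∨ (2 = 3 ∧ 5 = 3 ∧ 23 ≤ 7)) := by
  exact iff_of_true (gen_of_pos pr2 pr5 pr23 pos_2_5_23) (by decide)
theorem case_2_7_7 : Gen 2 7 7 ↔ ¬ ((2 = 2 ∧ 7 = 3) ∨ (2 = 2 ∧ 7 = 5 ∧ 7 = 5) ∨ (2 = 2 ∧ 7 = 5 ∧ 7 = 7) ∨ (2 = 3 ∧ 7 = 3 ∧ 7 ≤ 7)) := by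
  exact iff_of_true (gen_of_pos pr2 pr7 pr7 pos_2_7_7) (by decide)
theorem case_2_7_11 : Gen 2 7 11 ↔ ¬ ((2 = 2 ∧ 7 = 3) ∨ (2 = 2 ∧ 7 = 5 ∧ 11 = 5) ∨ (2 = 2 ∧ 7 = 5 ∧ 11 = 7) ∨ (2 = 3 ∧ 7 = 3 ∧ 11 ≤ 7)) := by
  exact iff_of_true (gen_of_pos pr2 pr7 pr11 pos_2_7_11) (by decide)
theorem case_2_7_23 : Gen 2 7 23 ↔ ¬ ((2 = 2 ∧ 7 = 3) ∨ (2 = 2 ∧ 7 = 5 ∧ 23 = 5) ∨ (2 = 2 ∧ 7 = 5 ∧ 23 = 7) ∨ (2 = 3 ∧ 7 = 3 ∧ 23 ≤ 7)) := by
  exact iff_of_true (gen_of_pos pr2 pr7 pr23 pos_2_7_23) (by decide)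
theorem case_2_11_11 : Gen 2 11 11 ↔ ¬ ((2 = 2 ∧ 11 = 3) ∨ (2 = 2 ∧ 11 = 5 ∧ 11 = 5) ∨ (2 = 2 ∧ 11 = 5 ∧ 11 = 7) ∨ (2 = 3 ∧ 11 = 3 ∧ 11 ≤ 7)) := by
  exact iff_of_true (gen_of_pos pr2 pr11 pr11 pos_2_11_11) (by decide)
theorem case_2_11_23 : Gen 2 11 23 ↔ ¬ ((2 = 2 ∧ 11 = 3) ∨ (2 = 2 ∧ 11 = 5 ∧ 23 = 5) ∨ (2 = 2 ∧ 11 = 5 ∧ 23 = 7) ∨ (2 = 3 ∧ 11 = 3 ∧ 23 ≤ 7)) := by
  exact iff_of_true (gen_of_pos pr2 pr11 pr23 pos_2_11_23) (by decide)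
theorem case_2_23_23 : Gen 2 23 23 ↔ ¬ ((2 = 2 ∧ 23 = 3) ∨ (2 = 2 ∧ 23 = 5 ∧ 23 = 5) ∨ (2 = 2 ∧ 23 = 5 ∧ 23 = 7) ∨ (2 = 3 ∧ 23 = 3 ∧ 23 ≤ 7)) := by
  exact iff_of_true (gen_of_pos pr2 pr23 pr23 pos_2_23_23) (by decide)
theorem case_3_3_3 : Gen 3 3 3 ↔ ¬ ((3 = 2 ∧ 3 = 3) ∨ (3 = 2 ∧ 3 = 5 ∧ 3 = 5) ∨ (3 = 2 ∧ 3 = 5 ∧ 3 = 7) ∨ (3 = 3 ∧ 3 = 3 ∧ 3 ≤ 7)) := by
  exact iff_of_false (not_gen_33 (by simp)) (by decide)
theorem case_3_3_5 : Gen 3 3 5 ↔ ¬ ((3 = 2 ∧ 3 = 3) ∨ (3 = 2 ∧ 3 = 5 ∧ 5 = 5) ∨ (3 = 2 ∧ 3 = 5 ∧ 5 = 7) ∨ (3 = 3 ∧ 3 = 3 ∧ 5 ≤ 7)) := by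
  exact iff_of_false (not_gen_33 (by simp)) (by decide)
theorem case_3_3_7 : Gen 3 3 7 ↔ ¬ ((3 = 2 ∧ 3 = 3) ∨ (3 = 2 ∧ 3 = 5 ∧ 7 = 5) ∨ (3 = 2 ∧ 3 = 5 ∧ 7 = 7) ∨ (3 = 3 ∧ 3 = 3 ∧ 7 ≤ 7)) := by
  exact iff_of_false (not_gen_33 (by simp)) (by decide)
theorem case_3_3_11 : Gen 3 3 11 ↔ ¬ ((3 = 2 ∧ 3 = 3) ∨ (3 = 2 ∧ 3 = 5 ∧ 11 = 5) ∨ (3 = 2 ∧ 3 = 5 ∧ 11 = 7) ∨ (3 = 3 ∧ 3 = 3 ∧ 11 ≤ 7)) := by
  exact iff_of_true (gen_of_pos pr3 pr3 pr11 pos_3_3_11) (by decide)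
theorem case_3_3_23 : Gen 3 3 23 ↔ ¬ ((3 = 2 ∧ 3 = 3) ∨ (3 = 2 ∧ 3 = 5 ∧ 23 = 5) ∨ (3 = 2 ∧ 3 = 5 ∧ 23 = 7) ∨ (3 = 3 ∧ 3 = 3 ∧ 23 ≤ 7)) := by
  exact iff_of_true (gen_of_pos pr3 pr3 pr23 pos_3_3_23) (by decide)
theorem case_3_5_5 : Gen 3 5 5 ↔ ¬ ((3 = 2 ∧ 5 = 3) ∨ (3 = 2 ∧ 5 = 5 ∧ 5 = 5) ∨ (3 = 2 ∧ 5 = 5 ∧ 5 = 7) ∨ (3 = 3 ∧ 5 = 3 ∧ 5 ≤ 7)) := by
  exact iff_of_true (gen_of_pos pr3 pr5 pr5 pos_3_5_5) (by decide)
theorem case_3_5_7 : Gen 3 5 7 ↔ ¬ ((3 = 2 ∧ 5 = 3) ∨ (3 = 2 ∧ 5 = 5 ∧ 7 = 5) ∨ (3 = 2 ∧ 5 = 5 ∧ 7 = 7) ∨ (3 = 3 ∧ 5 = 3 ∧ 7 ≤ 7)) := by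
  exact iff_of_true (gen_of_pos pr3 pr5 pr7 pos_3_5_7) (by decide)
theorem case_3_5_11 : Gen 3 5 11 ↔ ¬ ((3 = 2 ∧ 5 = 3) ∨ (3 = 2 ∧ 5 = 5 ∧ 11 = 5) ∨ (3 = 2 ∧ 5 = 5 ∧ 11 = 7) ∨ (3 = 3 ∧ 5 = 3 ∧ 11 ≤ 7)) := by
  exact iff_of_true (gen_of_pos pr3 pr5 pr11 pos_3_5_11) (by decide)
theorem case_3_5_23 : Gen 3 5 23 ↔ ¬ ((3 = 2 ∧ 5 = 3) ∨ (3 = 2 ∧ 5 = 5 ∧ 23 = 5) ∨ (3 = 2 ∧ 5 = 5 ∧ 23 = 7) ∨ (3 = 3 ∧ 5 = 3 ∧ 23 ≤ 7)) := by
  exact iff_of_true (gen_of_pos pr3 pr5 pr23 pos_3_5_23) (by decide)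
theorem case_3_7_7 : Gen 3 7 7 ↔ ¬ ((3 = 2 ∧ 7 = 3) ∨ (3 = 2 ∧ 7 = 5 ∧ 7 = 5) ∨ (3 = 2 ∧ 7 = 5 ∧ 7 = 7) ∨ (3 = 3 ∧ 7 = 3 ∧ 7 ≤ 7)) := by
  exact iff_of_true (gen_of_pos pr3 pr7 pr7 pos_3_7_7) (by decide)
theorem case_3_7_11 : Gen 3 7 11 ↔ ¬ ((3 = 2 ∧ 7 = 3) ∨ (3 = 2 ∧ 7 = 5 ∧ 11 = 5) ∨ (3 = 2 ∧ 7 = 5 ∧ 11 = 7) ∨ (3 = 3 ∧ 7 = 3 ∧ 11 ≤ 7)) := by
  exact iff_of_true (gen_of_pos pr3 pr7 pr11 pos_3_7_11) (by decide)
theorem case_3_7_23 : Gen 3 7 23 ↔ ¬ ((3 = 2 ∧ 7 = 3) ∨ (3 = 2 ∧ 7 = 5 ∧ 23 = 5) ∨ (3 = 2 ∧ 7 = 5 ∧ 23 = 7) ∨ (3 = 3 ∧ 7 = 3 ∧ 23 ≤ 7)) := by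
  exact iff_of_true (gen_of_pos pr3 pr7 pr23 pos_3_7_23) (by decide)
theorem case_3_11_11 : Gen 3 11 11 ↔ ¬ ((3 = 2 ∧ 11 = 3) ∨ (3 = 2 ∧ 11 = 5 ∧ 11 = 5) ∨ (3 = 2 ∧ 11 = 5 ∧ 11 = 7) ∨ (3 = 3 ∧ 11 = 3 ∧ 11 ≤ 7)) := by
  exact iff_of_true (gen_of_pos pr3 pr11 pr11 pos_3_11_11) (by decide)
theorem case_3_11_23 : Gen 3 11 23 ↔ ¬ ((3 = 2 ∧ 11 = 3) ∨ (3 = 2 ∧ 11 = 5 ∧ 23 = 5) ∨ (3 = 2 ∧ 11 = 5 ∧ 23 = 7) ∨ (3 = 3 ∧ 11 = 3 ∧ 23 ≤ 7)) := by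
  exact iff_of_true (gen_of_pos pr3 pr11 pr23 pos_3_11_23) (by decide)
theorem case_3_23_23 : Gen 3 23 23 ↔ ¬ ((3 = 2 ∧ 23 = 3) ∨ (3 = 2 ∧ 23 = 5 ∧ 23 = 5) ∨ (3 = 2 ∧ 23 = 5 ∧ 23 = 7) ∨ (3 = 3 ∧ 23 = 3 ∧ 23 ≤ 7)) := by
  exact iff_of_true (gen_of_pos pr3 pr23 pr23 pos_3_23_23) (by decide)
theorem case_5_5_5 : Gen 5 5 5 ↔ ¬ ((5 = 2 ∧ 5 = 3) ∨ (5 = 2 ∧ 5 = 5 ∧ 5 = 5) ∨ (5 = 2 ∧ 5 = 5 ∧ 5 = 7) ∨ (5 = 3 ∧ 5 = 3 ∧ 5 ≤ 7)) := by
  exact iff_of_true (gen_of_pos pr5 pr5 pr5 pos_5_5_5) (by decide)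
theorem case_5_5_7 : Gen 5 5 7 ↔ ¬ ((5 = 2 ∧ 5 = 3) ∨ (5 = 2 ∧ 5 = 5 ∧ 7 = 5) ∨ (5 = 2 ∧ 5 = 5 ∧ 7 = 7) ∨ (5 = 3 ∧ 5 = 3 ∧ 7 ≤ 7)) := by
  exact iff_of_true (gen_of_pos pr5 pr5 pr7 pos_5_5_7) (by decide)
theorem case_5_5_11 : Gen 5 5 11 ↔ ¬ ((5 = 2 ∧ 5 = 3) ∨ (5 = 2 ∧ 5 = 5 ∧ 11 = 5) ∨ (5 = 2 ∧ 5 = 5 ∧ 11 = 7) ∨ (5 = 3 ∧ 5 = 3 ∧ 11 ≤ 7)) := by
  exact iff_of_true (gen_of_pos pr5 pr5 pr11 pos_5_5_11) (by decide)
theorem case_5_5_23 : Gen 5 5 23 ↔ ¬ ((5 = 2 ∧ 5 = 3) ∨ (5 = 2 ∧ 5 = 5 ∧ 23 = 5) ∨ (5 = 2 ∧ 5 = 5 ∧ 23 = 7) ∨ (5 = 3 ∧ 5 = 3 ∧ 23 ≤ 7)) := by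
  exact iff_of_true (gen_of_pos pr5 pr5 pr23 pos_5_5_23) (by decide)
theorem case_5_7_7 : Gen 5 7 7 ↔ ¬ ((5 = 2 ∧ 7 = 3) ∨ (5 = 2 ∧ 7 = 5 ∧ 7 = 5) ∨ (5 = 2 ∧ 7 = 5 ∧ 7 = 7) ∨ (5 = 3 ∧ 7 = 3 ∧ 7 ≤ 7)) := by
  exact iff_of_true (gen_of_pos pr5 pr7 pr7 pos_5_7_7) (by decide)
theorem case_5_7_11 : Gen 5 7 11 ↔ ¬ ((5 = 2 ∧ 7 = 3) ∨ (5 = 2 ∧ 7 = 5 ∧ 11 = 5) ∨ (5 = 2 ∧ 7 = 5 ∧ 11 = 7) ∨ (5 = 3 ∧ 7 = 3 ∧ 11 ≤ 7)) := by
  exact iff_of_true (gen_of_pos pr5 pr7 pr11 pos_5_7_11) (by decide)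
theorem case_5_7_23 : Gen 5 7 23 ↔ ¬ ((5 = 2 ∧ 7 = 3) ∨ (5 = 2 ∧ 7 = 5 ∧ 23 = 5) ∨ (5 = 2 ∧ 7 = 5 ∧ 23 = 7) ∨ (5 = 3 ∧ 7 = 3 ∧ 23 ≤ 7)) := by
  exact iff_of_true (gen_of_pos pr5 pr7 pr23 pos_5_7_23) (by decide)
theorem case_5_11_11 : Gen 5 11 11 ↔ ¬ ((5 = 2 ∧ 11 = 3) ∨ (5 = 2 ∧ 11 = 5 ∧ 11 = 5) ∨ (5 = 2 ∧ 11 = 5 ∧ 11 = 7) ∨ (5 = 3 ∧ 11 = 3 ∧ 11 ≤ 7)) := by
  exact iff_of_true (gen_of_pos pr5 pr11 pr11 pos_5_11_11) (by decide)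
theorem case_5_11_23 : Gen 5 11 23 ↔ ¬ ((5 = 2 ∧ 11 = 3) ∨ (5 = 2 ∧ 11 = 5 ∧ 23 = 5) ∨ (5 = 2 ∧ 11 = 5 ∧ 23 = 7) ∨ (5 = 3 ∧ 11 = 3 ∧ 23 ≤ 7)) := by
  exact iff_of_true (gen_of_pos pr5 pr11 pr23 pos_5_11_23) (by decide)
theorem case_5_23_23 : Gen 5 23 23 ↔ ¬ ((5 = 2 ∧ 23 = 3) ∨ (5 = 2 ∧ 23 = 5 ∧ 23 = 5) ∨ (5 = 2 ∧ 23 = 5 ∧ 23 = 7) ∨ (5 = 3 ∧ 23 = 3 ∧ 23 ≤ 7)) := by
  exact iff_of_true (gen_of_pos pr5 pr23 pr23 pos_5_23_23) (by decide)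
theorem case_7_7_7 : Gen 7 7 7 ↔ ¬ ((7 = 2 ∧ 7 = 3) ∨ (7 = 2 ∧ 7 = 5 ∧ 7 = 5) ∨ (7 = 2 ∧ 7 = 5 ∧ 7 = 7) ∨ (7 = 3 ∧ 7 = 3 ∧ 7 ≤ 7)) := by
  exact iff_of_true (gen_of_pos pr7 pr7 pr7 pos_7_7_7) (by decide)
theorem case_7_7_11 : Gen 7 7 11 ↔ ¬ ((7 = 2 ∧ 7 = 3) ∨ (7 = 2 ∧ 7 = 5 ∧ 11 = 5) ∨ (7 = 2 ∧ 7 = 5 ∧ 11 = 7) ∨ (7 = 3 ∧ 7 = 3 ∧ 11 ≤ 7)) := by
  exact iff_of_true (gen_of_pos pr7 pr7 pr11 pos_7_7_11) (by decide)
theorem case_7_7_23 : Gen 7 7 23 ↔ ¬ ((7 = 2 ∧ 7 = 3) ∨ (7 = 2 ∧ 7 = 5 ∧ 23 = 5) ∨ (7 = 2 ∧ 7 = 5 ∧ 23 = 7) ∨ (7 = 3 ∧ 7 = 3 ∧ 23 ≤ 7)) := by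
  exact iff_of_true (gen_of_pos pr7 pr7 pr23 pos_7_7_23) (by decide)
theorem case_7_11_11 : Gen 7 11 11 ↔ ¬ ((7 = 2 ∧ 11 = 3) ∨ (7 = 2 ∧ 11 = 5 ∧ 11 = 5) ∨ (7 = 2 ∧ 11 = 5 ∧ 11 = 7) ∨ (7 = 3 ∧ 11 = 3 ∧ 11 ≤ 7)) := by
  exact iff_of_true (gen_of_pos pr7 pr11 pr11 pos_7_11_11) (by decide)
theorem case_7_11_23 : Gen 7 11 23 ↔ ¬ ((7 = 2 ∧ 11 = 3) ∨ (7 = 2 ∧ 11 = 5 ∧ 23 = 5) ∨ (7 = 2 ∧ 11 = 5 ∧ 23 = 7) ∨ (7 = 3 ∧ 11 = 3 ∧ 23 ≤ 7)) := by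
  exact iff_of_true (gen_of_pos pr7 pr11 pr23 pos_7_11_23) (by decide)
theorem case_7_23_23 : Gen 7 23 23 ↔ ¬ ((7 = 2 ∧ 23 = 3) ∨ (7 = 2 ∧ 23 = 5 ∧ 23 = 5) ∨ (7 = 2 ∧ 23 = 5 ∧ 23 = 7) ∨ (7 = 3 ∧ 23 = 3 ∧ 23 ≤ 7)) := by
  exact iff_of_true (gen_of_pos pr7 pr23 pr23 pos_7_23_23) (by decide)
theorem case_11_11_11 : Gen 11 11 11 ↔ ¬ ((11 = 2 ∧ 11 = 3) ∨ (11 = 2 ∧ 11 = 5 ∧ 11 = 5) ∨ (11 = 2 ∧ 11 = 5 ∧ 11 = 7) ∨ (11 = 3 ∧ 11 = 3 ∧ 11 ≤ 7)) := by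
  exact iff_of_true (gen_of_pos pr11 pr11 pr11 pos_11_11_11) (by decide)
theorem case_11_11_23 : Gen 11 11 23 ↔ ¬ ((11 = 2 ∧ 11 = 3) ∨ (11 = 2 ∧ 11 = 5 ∧ 23 = 5) ∨ (11 = 2 ∧ 11 = 5 ∧ 23 = 7) ∨ (11 = 3 ∧ 11 = 3 ∧ 23 ≤ 7)) := by
  exact iff_of_true (gen_of_pos pr11 pr11 pr23 pos_11_11_23) (by decide)
theorem case_11_23_23 : Gen 11 23 23 ↔ ¬ ((11 = 2 ∧ 23 = 3) ∨ (11 = 2 ∧ 23 = 5 ∧ 23 = 5) ∨ (11 = 2 ∧ 23 = 5 ∧ 23 = 7) ∨ (11 = 3 ∧ 23 = 3 ∧ 23 ≤ 7)) := by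
  exact iff_of_true (gen_of_pos pr11 pr23 pr23 pos_11_23_23) (by decide)
theorem case_23_23_23 : Gen 23 23 23 ↔ ¬ ((23 = 2 ∧ 23 = 3) ∨ (23 = 2 ∧ 23 = 5 ∧ 23 = 5) ∨ (23 = 2 ∧ 23 = 5 ∧ 23 = 7) ∨ (23 = 3 ∧ 23 = 3 ∧ 23 ≤ 7)) := by
  exact iff_of_true (gen_of_pos pr23 pr23 pr23 pos_23_23_23) (by decide)

/-- Generation of the Mathieu group M₂₃ (the stabiliser of a point in the Mathieu group M₂₄ acting on 24 points) by triples of prime orders. Let p ≤ q ≤ r be primes dividing |M₂₃| = 10200960 = 2⁷·3²·5·7·11·23, not both p and q equal to 2. Then M₂₃ contains elements x, y, z of orders p, q, r with xyz = 1 and ⟨x, y⟩ = M₂₃ if and only if (p, q, r) is none of: (2, 3, r) for any r, (2, 5, 5), (2, 5, 7), (3, 3, 3), (3, 3, 5), (3, 3, 7). -/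
theorem result (p q r : ℕ) (hp : p.Prime) (hq : q.Prime)
    (hr : r.Prime) (hpq : p ≤ q) (hqr : q ≤ r) (hp2 : ¬ (p = 2 ∧ q = 2))
    (hdvd : p ∣ 10200960 ∧ q ∣ 10200960 ∧ r ∣ 10200960) :
    (∃ x y z : Cfsg.Spor.M23, orderOf x = p ∧ orderOf y = q ∧ orderOf z = r ∧ x * y * z = 1 ∧
        Subgroup.closure {x, y} = ⊤) ↔
      ¬ ((p = 2 ∧ q = 3) ∨ (p = 2 ∧ q = 5 ∧ r = 5) ∨ (p = 2 ∧ q = 5 ∧ r = 7) ∨ (p = 3 ∧ q = 3 ∧ r ≤ 7)) := by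
  rw [gen_iff]
  rcases prime_cases hp hdvd.1 with rfl | rfl | rfl | rfl | rfl | rfl <;>
  rcases prime_cases hq hdvd.2.1 with rfl | rfl | rfl | rfl | rfl | rfl <;>
  rcases prime_cases hr hdvd.2.2 with rfl | rfl | rfl | rfl | rfl | rfl <;>
  first
    | (exfalso; omega)
    | exact case_2_3_3
    | exact case_2_3_5
    | exact case_2_3_7
    | exact case_2_3_11
    | exact case_2_3_23
    | exact case_2_5_5
    | exact case_2_5_7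
    | exact case_2_5_11
    | exact case_2_5_23
    | exact case_2_7_7
    | exact case_2_7_11
    | exact case_2_7_23
    | exact case_2_11_11
    | exact case_2_11_23
    | exact case_2_23_23
    | exact case_3_3_3
    | exact case_3_3_5
    | exact case_3_3_7
    | exact case_3_3_11
    | exact case_3_3_23
    | exact case_3_5_5
    | exact case_3_5_7
    | exact case_3_5_11
    | exact case_3_5_23
    | exact case_3_7_7
    | exact case_3_7_11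
    | exact case_3_7_23
    | exact case_3_11_11
    | exact case_3_11_23
    | exact case_3_23_23
    | exact case_5_5_5
    | exact case_5_5_7
    | exact case_5_5_11
    | exact case_5_5_23
    | exact case_5_7_7
    | exact case_5_7_11
    | exact case_5_7_23
    | exact case_5_11_11
    | exact case_5_11_23
    | exact case_5_23_23
    | exact case_7_7_7
    | exact case_7_7_11
    | exact case_7_7_23
    | exact case_7_11_11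
    | exact case_7_11_23
    | exact case_7_23_23
    | exact case_11_11_11
    | exact case_11_11_23
    | exact case_11_23_23
    | exact case_23_23_23

end Cfsg.Agent.S5529
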