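import Cfsg.Statements.S5541

set_option autoImplicit false
open Cfsg

namespace Cfsg.Agent.S5541

/-- Let ρ be a representation of a group H on a finite-dimensional real vector space U whose only ρ-invariant subspaces are the zero subspace and U, and suppose U carries a non-zero ρ-invariant symmetric bilinear form. Then the following are equivalent: (1) there is a non-zero ρ-equivariant commutative bilinear product on U of which every ρ-equivariant bilinear product is a scalar multiple; (2) there is a non-zero ρ-invariant trilinear form on U that is symmetric under all permutations of its arguments and of which every ρ-invariant trilinear form is a scalar multiple. -/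
theorem result {H : Type*} [Group H] {U : Type*} [AddCommGroup U] [Module ℝ U] [FiniteDimensional ℝ U] (ρ : Representation ℝ H U) (hirr : ∀ W : Submodule ℝ U, (∀ g : H, W.map (ρ g) ≤ W) → W = ⊥ ∨ W = ⊤) (B : LinearMap.BilinForm ℝ U) (hB0 : B ≠ 0) (hBs : ∀ u v, B u v = B v u) (hBi : ∀ (g : H) (u v : U), B (ρ g u) (ρ g v) = B u v) : (∃ m : U →ₗ[ℝ] U →ₗ[ℝ] U, m ≠ 0 ∧ (∀ u v, m u v = m v u) ∧ (∀ (g : H) (u v : U), m (ρ g u) (ρ g v) = ρ g (m u v)) ∧ ∀ m' : U →ₗ[ℝ] U →ₗ[ℝ] U, (∀ (g : H) (u v : U), m' (ρ g u) (ρ g v) = ρ g (m' u v)) → ∃ c : ℝ, m' = c • m) ↔ (∃ t : U →ₗ[ℝ] U →ₗ[ℝ] U →ₗ[ℝ] ℝ, t ≠ 0 ∧ (∀ u v w, t u v w = t v u w ∧ t u v w = t u w v) ∧ (∀ (g : H) (u v w : U), t (ρ g u) (ρ g v) (ρ g w) = t u v w) ∧ ∀ t' : U →ₗ[ℝ] U →ₗ[ℝ] U →ₗ[ℝ] ℝ, (∀ (g : H) (u v w : U), t' (ρ g u) (ρ g v) (ρ g w) = t' u v w) → ∃ c : ℝ, t' = c • t) := by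
  classical
  -- nondegeneracy of B
  have hker : LinearMap.ker B = ⊥ := by
    have hinv : ∀ g : H, (LinearMap.ker B).map (ρ g) ≤ LinearMap.ker B := by
      rintro g x ⟨u, hu, rfl⟩
      rw [SetLike.mem_coe, LinearMap.mem_ker] at hu
      rw [LinearMap.mem_ker]
      ext v
      have h1 : B (ρ g u) (ρ g (ρ g⁻¹ v)) = B u (ρ g⁻¹ v) := hBi g u (ρ g⁻¹ v)
      rw [Representation.self_inv_apply, hu] at h1
      simpa using h1
    rcases hirr _ hinv with h | h
    · exact h
    · exfalso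
      apply hB0
      exact LinearMap.ker_eq_top.mp h
  have hsepL : ∀ x : U, (∀ y : U, B x y = 0) → x = 0 := by
    intro x hx
    have : x ∈ LinearMap.ker B := by
      rw [LinearMap.mem_ker]
      ext y
      simpa using hx y
    rw [hker] at this
    simpa using this
  have hnd : B.Nondegenerate := by
    refine ⟨hsepL, ?_⟩
    intro y hy
    exact hsepL y (fun x => by rw [hBs]; exact hy x)
  have hext : ∀ x y : U, (∀ w : U, B x w = B y w) → x = y := by
    intro x y h
    have := hsepL (x - y) (fun w => by rw [map_sub, LinearMap.sub_apply, h w, sub_self])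
    exact sub_eq_zero.mp this
  -- from trilinear forms to products
  have hF1 : ∀ t : U →ₗ[ℝ] U →ₗ[ℝ] U →ₗ[ℝ] ℝ, ∃ m : U →ₗ[ℝ] U →ₗ[ℝ] U, ∀ u v w, B (m u v) w = t u v w := by
    intro t
    refine ⟨t.compr₂ (B.toDual hnd).symm.toLinearMap, ?_⟩
    intro u v w
    simp
  -- equivariance <-> invariance
  have hEI : ∀ (m : U →ₗ[ℝ] U →ₗ[ℝ] U) (t : U →ₗ[ℝ] U →ₗ[ℝ] U →ₗ[ℝ] ℝ), (∀ u v w, B (m u v) w = t u v w) →
      ((∀ (g : H) (u v : U), m (ρ g u) (ρ g v) = ρ g (m u v)) ↔
        (∀ (g : H) (u v w : U), t (ρ g u) (ρ g v) (ρ g w) = t u v w)) := by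
    intro m t hmt
    constructor
    · intro hm g u v w
      rw [← hmt, hm, hBi, hmt]
    · intro ht g u v
      apply hext
      intro w'
      have h1 := ht g u v (ρ g⁻¹ w')
      rw [Representation.self_inv_apply, ← hmt, ← hmt] at h1
      rw [h1]
      have h2 := hBi g (m u v) (ρ g⁻¹ w')
      rw [Representation.self_inv_apply] at h2
      exact h2.symm
  constructor
  · rintro ⟨m, hm0, hmc, hme, hmu⟩
    -- t = B (m u v) w
    set t : U →ₗ[ℝ] U →ₗ[ℝ] U →ₗ[ℝ] ℝ := m.compr₂ B with ht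
    have hmt : ∀ u v w, B (m u v) w = t u v w := fun u v w => rfl
    have hti : ∀ (g : H) (u v w : U), t (ρ g u) (ρ g v) (ρ g w) = t u v w := (hEI m t hmt).mp hme
    have ht0 : t ≠ 0 := by
      intro h0
      apply hm0
      ext u v
      apply hext
      intro w
      rw [hmt, h0]
      simp
    have hs1 : ∀ u v w, t u v w = t v u w := by
      intro u v w
      rw [← hmt, ← hmt, hmc]
    have huniv : ∀ t' : U →ₗ[ℝ] U →ₗ[ℝ] U →ₗ[ℝ] ℝ, (∀ (g : H) (u v w : U), t' (ρ g u) (ρ g v) (ρ g w) = t' u v w) →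
        ∃ c : ℝ, t' = c • t := by
      intro t' ht'
      obtain ⟨m', hm't'⟩ := hF1 t'
      have hm'e := (hEI m' t' hm't').mpr ht'
      obtain ⟨c, hc⟩ := hmu m' hm'e
      refine ⟨c, ?_⟩
      ext u v w
      rw [← hm't', hc]
      simp only [LinearMap.smul_apply, map_smul, smul_eq_mul]
      rw [hmt]
    -- the flipped form
    set t' : U →ₗ[ℝ] U →ₗ[ℝ] U →ₗ[ℝ] ℝ :=
      (LinearMap.lflip (R₀ := ℝ) : (U →ₗ[ℝ] U →ₗ[ℝ] ℝ) ≃ₗ[ℝ] (U →ₗ[ℝ] U →ₗ[ℝ] ℝ)).toLinearMap ∘ₗ t with ht'
    have ht'a : ∀ u v w, t' u v w = t u w v := fun u v w => rfl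
    have ht'i : ∀ (g : H) (u v w : U), t' (ρ g u) (ρ g v) (ρ g w) = t' u v w := by
      intro g u v w
      rw [ht'a, ht'a, hti]
    obtain ⟨c, hc⟩ := huniv t' ht'i
    have hc' : ∀ u v w, t u w v = c * t u v w := by
      intro u v w
      rw [← ht'a, hc]
      simp
    have hs2 : ∀ u v w, t u v w = t u w v := by
      -- c^2 = 1
      obtain ⟨u0, v0, w0, h0⟩ : ∃ u v w, t u v w ≠ 0 := by
        by_contra hcon
        push Not at hcon
        apply ht0
        ext u v w
        simpa using hcon u v w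
      have hcc : c * c = 1 := by
        have h1 := hc' u0 v0 w0
        have h2 := hc' u0 w0 v0
        rw [h1] at h2
        have : t u0 v0 w0 * (c * c - 1) = 0 := by linarith
        rcases mul_eq_zero.mp this with h | h
        · exact absurd h h0
        · linarith
      have hc1 : c = 1 ∨ c = -1 := by
        have : (c - 1) * (c + 1) = 0 := by ring_nf; linarith
        rcases mul_eq_zero.mp this with h | h
        · left; linarith
        · right; linarith
      rcases hc1 with h1 | h1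
      · intro u v w
        rw [hc' u v w, h1, one_mul]
      · exfalso
        rw [h1] at hc'
        apply h0
        have e1 := hc' u0 v0 w0
        have e2 := hs1 u0 w0 v0
        have e3 := hc' w0 u0 v0
        have e4 := hs1 w0 v0 u0
        have e5 := hc' v0 w0 u0
        have e6 := hs1 v0 u0 w0
        linarith
    exact ⟨t, ht0, fun u v w => ⟨hs1 u v w, hs2 u v w⟩, hti, huniv⟩
  · rintro ⟨t, ht0, hts, hti, htu⟩
    obtain ⟨m, hmt⟩ := hF1 t
    have hme := (hEI m t hmt).mpr hti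
    refine ⟨m, ?_, ?_, hme, ?_⟩
    · intro h0
      apply ht0
      ext u v w
      rw [← hmt, h0]
      simp
    · intro u v
      apply hext
      intro w
      rw [hmt, hmt, (hts u v w).1]
    · intro m' hm'e
      set t' : U →ₗ[ℝ] U →ₗ[ℝ] U →ₗ[ℝ] ℝ := m'.compr₂ B with ht'
      have hm't' : ∀ u v w, B (m' u v) w = t' u v w := fun u v w => rfl
      have ht'i := (hEI m' t' hm't').mp hm'e
      obtain ⟨c, hc⟩ := htu t' ht'i
      refine ⟨c, ?_⟩
      ext u v
      apply hext
      intro w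
      rw [hm't', hc]
      simp only [LinearMap.smul_apply, map_smul, smul_eq_mul]
      rw [hmt]

end Cfsg.Agent.S5541
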