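import Cfsg.Statements.S5543

set_option autoImplicit false
open Cfsg

namespace Cfsg.Agent.S5543

open Cfsg.Axial in
theorem law_quarter : monsterLaw (1 / 4 : ℝ) (1 / 32) (1 / 4) (1 / 4) = {1, 0} := by
  unfold monsterLaw
  norm_num

theorem result {V : Type*} [AddCommGroup V] [Module ℝ V] [FiniteDimensional ℝ V] (mul : V →ₗ[ℝ] V →ₗ[ℝ] V) (B : LinearMap.BilinForm ℝ V) (hV : Cfsg.Axial.IsMajoranaAmbient mul B) (X : Subgroup (V ≃ₗ[ℝ] V)) (hX : ∀ x ∈ X, x * x = 1) (ax : (V ≃ₗ[ℝ] V) → V) (hax : ∀ x ∈ X, x ≠ 1 → Cfsg.Axial.IsMajoranaPair mul B x (ax x)) (h1 : ∀ x ∈ X, x ≠ 1 → B (ax x) (ax x) = 1) (h2A : ∀ x ∈ X, ∀ y ∈ X, x ≠ 1 → y ≠ 1 → x ≠ y → mul (ax x) (ax y) = (1 / 8 : ℝ) • (ax x + ax y - ax (x * y))) : Nat.card ↥X ≤ 4 := by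
  classical
  obtain ⟨hcomm, hsymm, hpos, hassoc, hnorton⟩ := hV
  -- commutativity of X
  have hXcomm : ∀ g ∈ X, ∀ h ∈ X, g * h = h * g := by
    intro g hg h hh
    have h1 := hX (g * h) (X.mul_mem hg hh)
    have h2 := hX g hg
    have h3 := hX h hh
    calc g * h = g * ((g * h) * (g * h)) * h := by rw [h1, mul_one]
      _ = (g * g) * h * g * (h * h) := by group
      _ = h * g := by rw [h2, h3, one_mul, mul_one]
  have hXinv : ∀ g ∈ X, g⁻¹ = g := fun g hg => inv_eq_of_mul_eq_one_left (hX g hg)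
  -- idempotent
  have hidem : ∀ g ∈ X, g ≠ 1 → mul (ax g) (ax g) = ax g := fun g hg hg1 => (hax g hg hg1).2.2.1.1.2.1
  -- inner product 1/8
  have hip : ∀ g ∈ X, ∀ h ∈ X, g ≠ 1 → h ≠ 1 → g ≠ h → B (ax g) (ax h) = 1 / 8 := by
    intro g hg h hh hg1 hh1 hgh
    have hghX : g * h ∈ X := X.mul_mem hg hh
    have hgh1 : g * h ≠ 1 := by
      intro hc
      apply hgh
      have := eq_inv_of_mul_eq_one_left hc
      rw [this, hXinv h hh]
    have hggh : g ≠ g * h := by
      intro hc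
      apply hh1
      have : g * 1 = g * h := by rw [mul_one]; exact hc
      exact (mul_left_cancel this).symm
    have e1 : g * (g * h) = h := by rw [← mul_assoc, hX g hg, one_mul]
    have p1 := h2A g hg h hh hg1 hh1 hgh
    have p2 := h2A g hg (g * h) hghX hg1 hgh1 hggh
    rw [e1] at p2
    have q1 : B (ax g) (mul (ax g) (ax h)) = B (ax g) (ax h) := by
      rw [hassoc, hidem g hg hg1]
    have q2 : B (ax g) (mul (ax g) (ax (g * h))) = B (ax g) (ax (g * h)) := by
      rw [hassoc, hidem g hg hg1]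
    rw [p1] at q1
    rw [p2] at q2
    simp only [map_smul, map_add, map_sub, smul_eq_mul, h1 g hg hg1] at q1 q2
    linarith
  -- eigenvector lemma
  have heig : ∀ g ∈ X, ∀ h ∈ X, g ≠ 1 → h ≠ 1 → g ≠ h →
      (ax h - ax (g * h)) ∈ Cfsg.Axial.eigen mul (ax g) (1 / 4) := by
    intro g hg h hh hg1 hh1 hgh
    have hghX : g * h ∈ X := X.mul_mem hg hh
    have hgh1 : g * h ≠ 1 := by
      intro hc
      apply hgh
      have := eq_inv_of_mul_eq_one_left hc
      rw [this, hXinv h hh]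
    have hggh : g ≠ g * h := by
      intro hc
      apply hh1
      have : g * 1 = g * h := by rw [mul_one]; exact hc
      exact (mul_left_cancel this).symm
    have e1 : g * (g * h) = h := by rw [← mul_assoc, hX g hg, one_mul]
    have p1 := h2A g hg h hh hg1 hh1 hgh
    have p2 := h2A g hg (g * h) hghX hg1 hgh1 hggh
    rw [e1] at p2
    unfold Cfsg.Axial.eigen
    rw [Module.End.mem_eigenspace_iff, map_sub, p1, p2]
    module
  by_contra hcon
  push Not at hcon
  have hex : ∀ S : Finset (V ≃ₗ[ℝ] V), S.card ≤ 4 → ∃ z ∈ X, z ∉ S := by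
    intro S hS
    by_contra hne
    push Not at hne
    have hsub : (X : Set (V ≃ₗ[ℝ] V)) ⊆ (S : Set (V ≃ₗ[ℝ] V)) := fun z hz => hne z hz
    have h := Set.ncard_le_ncard hsub (Finset.finite_toSet S)
    rw [Set.ncard_coe_finset, ← Nat.card_coe_set_eq] at h
    have h' : Nat.card ↥X ≤ S.card := h
    omega
  obtain ⟨x, hx, hx1⟩ := hex {1} (by simp)
  obtain ⟨y, hy, hy'⟩ := hex {1, x} (le_trans Finset.card_le_two (by norm_num))
  obtain ⟨z, hz, hz'⟩ := hex {1, x, y, x * y} Finset.card_le_four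
  simp only [Finset.mem_singleton, Finset.mem_insert, not_or] at hx1 hy' hz'
  obtain ⟨hy1, hyx⟩ := hy'
  obtain ⟨hz1, hzx, hzy, hzxy⟩ := hz'
  have hxx := hX x hx
  have hyy := hX y hy
  have hzz := hX z hz
  have cxy := hXcomm x hx y hy
  have cxz := hXcomm x hx z hz
  have cyz := hXcomm y hy z hz
  have hxyX : x * y ∈ X := X.mul_mem hx hy
  have hxzX : x * z ∈ X := X.mul_mem hx hz
  have hyzX : y * z ∈ X := X.mul_mem hy hz
  have hxyzX : x * (y * z) ∈ X := X.mul_mem hx hyzX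
  have hxy1 : x * y ≠ 1 := by
    intro hc
    apply hyx
    have := eq_inv_of_mul_eq_one_right hc
    rw [this, hXinv x hx]
  have hxz1 : x * z ≠ 1 := by
    intro hc
    apply hzx
    have := eq_inv_of_mul_eq_one_right hc
    rw [this, hXinv x hx]
  have hyz1 : y * z ≠ 1 := by
    intro hc
    apply hzy
    have := eq_inv_of_mul_eq_one_right hc
    rw [this, hXinv y hy]
  have hx_yz : x ≠ y * z := by
    intro hc
    apply hzxy
    calc z = y * (y * z) := by rw [← mul_assoc, hyy, one_mul]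
      _ = y * x := by rw [← hc]
      _ = x * y := cxy.symm
  have hxyz1 : x * (y * z) ≠ 1 := by
    intro hc
    apply hx_yz
    have := eq_inv_of_mul_eq_one_left hc
    rw [this, hXinv _ hyzX]
  have hy_xz : y ≠ x * z := by
    intro hc
    apply hzxy
    calc z = x * (x * z) := by rw [← mul_assoc, hxx, one_mul]
      _ = x * y := by rw [← hc]
  have hxy_z : x * y ≠ z := fun hc => hzxy hc.symm
  have hxy_xz : x * y ≠ x * z := fun hc => hzy (mul_left_cancel hc).symm
  have hyz_xyz : y * z ≠ x * (y * z) := by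
    intro hc
    apply hx1
    have : 1 * (y * z) = x * (y * z) := by rw [one_mul]; exact hc
    exact (mul_right_cancel this).symm
  have e1 : y * (x * z) = x * (y * z) := by rw [← mul_assoc, ← cxy, mul_assoc]
  have e2 : x * y * z = x * (y * z) := mul_assoc _ _ _
  have e3 : x * y * (x * z) = y * z := by
    calc x * y * (x * z) = y * x * (x * z) := by rw [cxy]
      _ = y * (x * x) * z := by group
      _ = y * z := by rw [hxx, mul_one]
  have p1 := h2A y hy z hz hy1 hz1 (fun hc => hzy hc.symm)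
  have p2 := h2A y hy (x * z) hxzX hy1 hxz1 hy_xz
  have p3 := h2A (x * y) hxyX z hz hxy1 hz1 hxy_z
  have p4 := h2A (x * y) hxyX (x * z) hxzX hxy1 hxz1 hxy_xz
  rw [e1] at p2
  rw [e2] at p3
  rw [e3] at p4
  have vy := heig x hx y hy hx1 hy1 (fun hc => hyx hc.symm)
  have vz := heig x hx z hz hx1 hz1 (fun hc => hzx hc.symm)
  have vw := heig x hx (y * z) hyzX hx1 hyz1 hx_yz
  have hprod : mul (ax y - ax (x * y)) (ax z - ax (x * z)) =
      (-(1 / 4 : ℝ)) • (ax (y * z) - ax (x * (y * z))) := by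
    simp only [map_sub, LinearMap.sub_apply, p1, p2, p3, p4]
    module
  have hfus := (hax x hx hx1).2.2.1.1.2.2.2 (1 / 4) (by unfold Cfsg.Axial.majoranaSpectrum; simp)
    (1 / 4) (by unfold Cfsg.Axial.majoranaSpectrum; simp) _ vy _ vz
  rw [law_quarter, hprod] at hfus
  have hmem : (-(1 / 4 : ℝ)) • (ax (y * z) - ax (x * (y * z))) ∈
      Cfsg.Axial.eigen mul (ax x) (1 / 4) := Submodule.smul_mem _ _ vw
  have hdisj := (Module.End.eigenspaces_iSupIndep (mul (ax x))).disjoint_biSup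
    (x := (1 / 4 : ℝ)) (y := ({1, 0} : Set ℝ)) (by norm_num)
  rw [Submodule.disjoint_def] at hdisj
  have hzero := hdisj _ hmem hfus
  have hw0 : ax (y * z) - ax (x * (y * z)) = 0 := by
    rcases smul_eq_zero.mp hzero with h | h
    · norm_num at h
    · exact h
  have heq : ax (y * z) = ax (x * (y * z)) := sub_eq_zero.mp hw0
  have hB := hip (y * z) hyzX (x * (y * z)) hxyzX hyz1 hxyz1 hyz_xyz
  rw [← heq, h1 (y * z) hyzX hyz1] at hB
  norm_num at hB

end Cfsg.Agent.S5543
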