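import Cfsg.Statements.S5545

set_option autoImplicit false
open Cfsg

namespace Cfsg.Agent.S5545

open Cfsg.Axial

section
variable {V : Type*} [AddCommGroup V] [Module ℝ V]

theorem eigen_map (mul : V →ₗ[ℝ] V →ₗ[ℝ] V) (σ : V ≃ₗ[ℝ] V)
    (hσ : ∀ u v : V, σ (mul u v) = mul (σ u) (σ v)) (a : V) (c : ℝ) :
    eigen mul (σ a) c = (eigen mul a c).map (σ : V →ₗ[ℝ] V) := by
  ext v
  unfold eigen
  rw [Module.End.mem_eigenspace_iff, Submodule.mem_map]
  constructor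
  · intro h
    refine ⟨σ.symm v, ?_, by simp⟩
    rw [Module.End.mem_eigenspace_iff]
    apply σ.injective
    rw [hσ, map_smul]
    simpa using h
  · rintro ⟨w, hw, rfl⟩
    rw [Module.End.mem_eigenspace_iff] at hw
    simp only [LinearEquiv.coe_coe]
    rw [← hσ, hw, map_smul]

theorem eigenSum_map (mul : V →ₗ[ℝ] V →ₗ[ℝ] V) (σ : V ≃ₗ[ℝ] V)
    (hσ : ∀ u v : V, σ (mul u v) = mul (σ u) (σ v)) (a : V) (T : Set ℝ) :
    eigenSum mul (σ a) T = (eigenSum mul a T).map (σ : V →ₗ[ℝ] V) := by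
  unfold eigenSum
  simp_rw [eigen_map mul σ hσ, Submodule.map_iSup]

theorem transport (mul : V →ₗ[ℝ] V →ₗ[ℝ] V) (B : LinearMap.BilinForm ℝ V) (σ μ : V ≃ₗ[ℝ] V)
    (hσ : ∀ u v : V, σ (mul u v) = mul (σ u) (σ v)) (hc : μ * σ = σ * μ) (a : V)
    (h : IsMajoranaPair mul B μ a) : IsMajoranaPair mul B μ (σ a) := by
  obtain ⟨hm, hB, ⟨⟨hne, hid, htop, hfus⟩, hprim⟩, hmiy1, hmiy2⟩ := h
  have hcomm : ∀ v, μ (σ v) = σ (μ v) := by
    intro v
    have := congrArg (fun f : V ≃ₗ[ℝ] V => f v) hc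
    simpa using this
  refine ⟨hm, hB, ⟨⟨?_, ?_, ?_, ?_⟩, ?_⟩, ?_, ?_⟩
  · intro h0
    apply hne
    apply σ.injective
    rw [h0, map_zero]
  · rw [← hσ, hid]
  · rw [eigenSum_map mul σ hσ, htop, Submodule.map_top, LinearMap.range_eq_top]
    exact σ.surjective
  · intro c hc' d hd u hu v hv
    rw [eigen_map mul σ hσ, Submodule.mem_map] at hu hv
    obtain ⟨u', hu', rfl⟩ := hu
    obtain ⟨v', hv', rfl⟩ := hv
    rw [eigenSum_map mul σ hσ, Submodule.mem_map]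
    refine ⟨mul u' v', hfus c hc' d hd u' hu' v' hv', ?_⟩
    simp only [LinearEquiv.coe_coe]
    rw [hσ]
  · rw [eigen_map mul σ hσ, hprim, Submodule.map_span, Set.image_singleton]
    rfl
  · intro v hv
    rw [eigenSum_map mul σ hσ, Submodule.mem_map] at hv
    obtain ⟨w, hw, rfl⟩ := hv
    have := hmiy1 w hw
    simp only [LinearEquiv.coe_coe] at this ⊢
    rw [hcomm, this]
  · intro v hv
    rw [eigen_map mul σ hσ, Submodule.mem_map] at hv
    obtain ⟨w, hw, rfl⟩ := hv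
    have := hmiy2 w hw
    simp only [LinearEquiv.coe_coe] at this ⊢
    rw [hcomm, this, map_neg]

theorem law_qq : monsterLaw (1 / 4 : ℝ) (1 / 32) (1 / 4) (1 / 4) = {1, 0} := by
  unfold monsterLaw
  norm_num

theorem law_0q : monsterLaw (1 / 4 : ℝ) (1 / 32) 0 (1 / 4) = {1 / 4} := by
  unfold monsterLaw
  norm_num

theorem law_00 : monsterLaw (1 / 4 : ℝ) (1 / 32) 0 0 = {0} := by
  unfold monsterLaw
  norm_num

theorem decomp (mul : V →ₗ[ℝ] V →ₗ[ℝ] V) (B : LinearMap.BilinForm ℝ V)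
    (hassoc : ∀ u v w : V, B u (mul v w) = B (mul u v) w) (μ : V ≃ₗ[ℝ] V) (a : V)
    (h : IsMajoranaPair mul B μ a) (hn : B a a = 1) (b : V) (hb : μ b = b) :
    ∃ α β : V, b = (B a b) • a + β + α ∧ β ∈ eigen mul a 0 ∧ α ∈ eigen mul a (1 / 4) := by
  obtain ⟨hm, hB, ⟨⟨hne, hid, htop, hfus⟩, hprim⟩, hmiy1, hmiy2⟩ := h
  have hbtop : b ∈ eigenSum mul a majoranaSpectrum := by rw [htop]; trivial
  unfold eigenSum majoranaSpectrum at hbtop
  rw [iSup_insert, iSup_insert, iSup_insert, iSup_singleton] at hbtop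
  obtain ⟨b1, hb1, t1, ht1, rfl⟩ := Submodule.mem_sup.mp hbtop
  obtain ⟨b0, hb0, t2, ht2, rfl⟩ := Submodule.mem_sup.mp ht1
  obtain ⟨bq, hbq, br, hbr, rfl⟩ := Submodule.mem_sup.mp ht2
  have m1 : μ b1 = b1 := by
    have := hmiy1 b1 (le_biSup (fun c => eigen mul a c) (by simp : (1 : ℝ) ∈ ({1, 0, 1 / 4} : Set ℝ)) hb1)
    simpa using this
  have m0 : μ b0 = b0 := by
    have := hmiy1 b0 (le_biSup (fun c => eigen mul a c) (by simp : (0 : ℝ) ∈ ({1, 0, 1 / 4} : Set ℝ)) hb0)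
    simpa using this
  have mq : μ bq = bq := by
    have := hmiy1 bq (le_biSup (fun c => eigen mul a c) (by simp : (1 / 4 : ℝ) ∈ ({1, 0, 1 / 4} : Set ℝ)) hbq)
    simpa using this
  have mr : μ br = -br := by
    have := hmiy2 br hbr
    simpa using this
  have hbr0 : br = 0 := by
    rw [map_add, map_add, map_add, m1, m0, mq, mr] at hb
    have h2 : -br = br := by
      have := add_left_cancel (add_left_cancel (add_left_cancel hb))
      exact this
    have h3 : (2 : ℝ) • br = 0 := by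
      rw [two_smul]
      nth_rewrite 1 [← h2]
      exact neg_add_cancel br
    exact (smul_eq_zero.mp h3).resolve_left (by norm_num)
  subst hbr0
  rw [hprim] at hb1
  obtain ⟨l, rfl⟩ := Submodule.mem_span_singleton.mp hb1
  have e0 : mul a b0 = (0 : ℝ) • b0 := Module.End.mem_eigenspace_iff.mp hb0
  have eq' : mul a bq = (1 / 4 : ℝ) • bq := Module.End.mem_eigenspace_iff.mp hbq
  have hB0 : B a b0 = 0 := by
    have := hassoc a a b0
    rw [hid, e0, zero_smul, map_zero] at this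
    exact this.symm
  have hBq : B a bq = 0 := by
    have := hassoc a a bq
    rw [hid, eq', map_smul, smul_eq_mul] at this
    linarith
  have hl : B a (l • a + (b0 + (bq + 0))) = l := by
    simp only [map_add, map_smul, hn, hB0, hBq, map_zero, smul_eq_mul]
    ring
  refine ⟨bq, b0, ?_, hb0, hbq⟩
  rw [hl]
  abel

theorem eqA (mul : V →ₗ[ℝ] V →ₗ[ℝ] V) (B : LinearMap.BilinForm ℝ V)
    (hassoc : ∀ u v w : V, B u (mul v w) = B (mul u v) w) (μ : V ≃ₗ[ℝ] V) (a : V)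
    (h : IsMajoranaPair mul B μ a) (hn : B a a = 1) (b : V) (hb : μ b = b) :
    mul a (mul a b) = (3 * B a b / 4) • a + (1 / 4 : ℝ) • mul a b := by
  obtain ⟨α, β, hdec, hβ, hα⟩ := decomp mul B hassoc μ a h hn b hb
  obtain ⟨l, hl⟩ : ∃ l, l = B a b := ⟨_, rfl⟩
  rw [← hl] at hdec ⊢
  have hid : mul a a = a := h.2.2.1.1.2.1
  have e0 : mul a β = (0 : ℝ) • β := Module.End.mem_eigenspace_iff.mp hβ
  have eq' : mul a α = (1 / 4 : ℝ) • α := Module.End.mem_eigenspace_iff.mp hα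
  have hx : mul a b = l • a + (1 / 4 : ℝ) • α := by
    conv_lhs => rw [hdec]
    simp only [map_add, map_smul, hid, e0, eq', zero_smul, add_zero]
  rw [hx]
  simp only [map_add, map_smul, hid, eq']
  module

theorem eqX (mul : V →ₗ[ℝ] V →ₗ[ℝ] V) (B : LinearMap.BilinForm ℝ V) (hcm : IsCommMul mul)
    (hassoc : ∀ u v w : V, B u (mul v w) = B (mul u v) w) (μ : V ≃ₗ[ℝ] V) (a : V)
    (h : IsMajoranaPair mul B μ a) (hn : B a a = 1) (b : V) (hb : μ b = b) (hbb : mul b b = b)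
    (hBx : mul b (mul a b) = (3 * B a b / 4) • b + (1 / 4 : ℝ) • mul a b) :
    (32 : ℝ) • mul (mul a b) (mul a b) =
      (6 * B a b) • b + (16 * (B a b) ^ 2 + 4 * B a b) • a + (8 * B a b - 2) • mul a b := by
  have hAx := eqA mul B hassoc μ a h hn b hb
  obtain ⟨α, β, hdec, hβ, hα⟩ := decomp mul B hassoc μ a h hn b hb
  obtain ⟨l, hl⟩ : ∃ l, l = B a b := ⟨_, rfl⟩
  rw [← hl] at hdec hBx hAx ⊢
  obtain ⟨hm, hBinv, ⟨⟨hne, hid, htop, hfus⟩, hprim⟩, hmiy1, hmiy2⟩ := h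
  have e0 : mul a β = (0 : ℝ) • β := Module.End.mem_eigenspace_iff.mp hβ
  have eq' : mul a α = (1 / 4 : ℝ) • α := Module.End.mem_eigenspace_iff.mp hα
  have e0' : mul β a = (0 : ℝ) • β := by rw [hcm β a]; exact e0
  have eq'' : mul α a = (1 / 4 : ℝ) • α := by rw [hcm α a]; exact eq'
  have hx : mul a b = l • a + (1 / 4 : ℝ) • α := by
    conv_lhs => rw [hdec]
    simp only [map_add, map_smul, hid, e0, eq', zero_smul, add_zero]
  have mem0 : (0 : ℝ) ∈ majoranaSpectrum := by unfold majoranaSpectrum; simp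
  have memq : (1 / 4 : ℝ) ∈ majoranaSpectrum := by unfold majoranaSpectrum; simp
  have f1 : mul β α ∈ eigen mul a (1 / 4) := by
    have := hfus 0 mem0 (1 / 4) memq β hβ α hα
    rw [law_0q] at this
    unfold eigenSum at this
    rwa [iSup_singleton] at this
  have f2 : mul β β ∈ eigen mul a 0 := by
    have := hfus 0 mem0 0 mem0 β hβ β hβ
    rw [law_00] at this
    unfold eigenSum at this
    rwa [iSup_singleton] at this
  have f3 : mul α α ∈ eigenSum mul a {1, 0} := by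
    have := hfus (1 / 4) memq (1 / 4) memq α hα α hα
    rwa [law_qq] at this
  have le1 : eigen mul a 1 ≤ eigenSum mul a {1, 0} :=
    le_biSup (fun c => eigen mul a c) (by simp : (1 : ℝ) ∈ ({1, 0} : Set ℝ))
  have le0 : eigen mul a 0 ≤ eigenSum mul a {1, 0} :=
    le_biSup (fun c => eigen mul a c) (by simp : (0 : ℝ) ∈ ({1, 0} : Set ℝ))
  have ha1 : a ∈ eigen mul a 1 := by
    unfold eigen
    rw [Module.End.mem_eigenspace_iff, hid, one_smul]
  have hL : l • a + β - (l ^ 2) • a - mul β β - mul α α ∈ eigenSum mul a {1, 0} := by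
    refine Submodule.sub_mem _ (Submodule.sub_mem _ (Submodule.sub_mem _ (Submodule.add_mem _ ?_ ?_) ?_) ?_) f3
    · exact Submodule.smul_mem _ _ (le1 ha1)
    · exact le0 hβ
    · exact Submodule.smul_mem _ _ (le1 ha1)
    · exact le0 f2
  have hR : (l / 2) • α + (2 : ℝ) • mul β α - α ∈ eigen mul a (1 / 4) := by
    refine Submodule.sub_mem _ (Submodule.add_mem _ ?_ ?_) hα
    · exact Submodule.smul_mem _ _ hα
    · exact Submodule.smul_mem _ _ f1
  have hLR : l • a + β - (l ^ 2) • a - mul β β - mul α α = (l / 2) • α + (2 : ℝ) • mul β α - α := by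
    have hbb' := hbb
    rw [hdec] at hbb'
    simp only [map_add, map_smul, LinearMap.add_apply, LinearMap.smul_apply, hid, e0, eq', e0', eq'',
      hcm α β] at hbb'
    linear_combination (norm := module) (-1 : ℝ) • hbb'
  have hdisj := (Module.End.eigenspaces_iSupIndep (mul a)).disjoint_biSup
    (x := (1 / 4 : ℝ)) (y := ({1, 0} : Set ℝ)) (by norm_num)
  rw [Submodule.disjoint_def] at hdisj
  have hR0 : (l / 2) • α + (2 : ℝ) • mul β α - α = 0 := by
    apply hdisj _ hR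
    rw [← hLR]
    exact hL
  have hα' : α = (4 : ℝ) • mul a b - (4 * l) • a := by
    rw [hx]
    module
  have hβ' : β = b + (3 * l) • a - (4 : ℝ) • mul a b := by
    rw [hx]
    nth_rewrite 1 [hdec]
    module
  rw [hα', hβ'] at hR0
  simp only [map_add, map_sub, map_smul, LinearMap.add_apply, LinearMap.sub_apply, LinearMap.smul_apply,
    hid, hcm b a, hcm (mul a b) a, hAx, hBx] at hR0
  linear_combination (norm := module) (-1 : ℝ) • hR0

end

/-- Let V be a finite-dimensional real vector space with a commutative bilinear product and a positive-definite symmetric bilinear form that associates with the product and satisfies the Norton inequality (the Majorana setting of the definitions). Let μ₀, μ₁ be commuting Majorana involutions with distinct axial vectors a₀ ≠ a₁ of squared length 1, each involution having no other axial vector. Then either a₀ and a₁ are orthogonal with a₀ ∘ a₁ = 0 (type 2B), or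 their inner product is 1/8 and, with a₂ = a₀ + a₁ − 8 a₀ ∘ a₁, the vector a₂ is an idempotent and a₀ ∘ a₂ = (1/8)(a₀ + a₂ − a₁), a₁ ∘ a₂ = (1/8)(a₁ + a₂ − a₀) (type 2A: the three idempotents span a subalgebra with aᵢ ∘ aⱼ = (1/8)(aᵢ + aⱼ − aₖ)). -/
theorem result {V : Type*} [AddCommGroup V] [Module ℝ V] [FiniteDimensional ℝ V] (mul : V →ₗ[ℝ] V →ₗ[ℝ] V) (B : LinearMap.BilinForm ℝ V) (hV : Cfsg.Axial.IsMajoranaAmbient mul B) (μ₀ μ₁ : V ≃ₗ[ℝ] V) (a₀ a₁ : V) (h₀ : Cfsg.Axial.IsMajoranaPair mul B μ₀ a₀) (h₁ : Cfsg.Axial.IsMajoranaPair mul B μ₁ a₁) (hu₀ : ∀ a : V, Cfsg.Axial.IsMajoranaPair mul B μ₀ a → a = a₀) (hu₁ : ∀ a : V, Cfsg.Axial.IsMajoranaPair mul B μ₁ a → a = a₁) (hn₀ : B a₀ a₀ = 1) (hn₁ : B a₁ a₁ = 1) (hc : μ₀ * μ₁ = μ₁ * μ₀) (hne : a₀ ≠ a₁) : (B a₀ a₁ = 0 ∧ mul a₀ a₁ = 0) ∨ (B a₀ a₁ = 1 / 8 ∧ mul (a₀ + a₁ - (8 : ℝ) • mul a₀ a₁) (a₀ + a₁ - (8 : ℝ) • mul a₀ a₁) = a₀ + a₁ - (8 : ℝ) • mul a₀ a₁ ∧ mul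 a₀ (a₀ + a₁ - (8 : ℝ) • mul a₀ a₁) = (1 / 8 : ℝ) • (a₀ + (a₀ + a₁ - (8 : ℝ) • mul a₀ a₁) - a₁) ∧ mul a₁ (a₀ + a₁ - (8 : ℝ) • mul a₀ a₁) = (1 / 8 : ℝ) • (a₁ + (a₀ + a₁ - (8 : ℝ) • mul a₀ a₁) - a₀)) := by
  obtain ⟨hcm, hsymm, hpos, hassoc, hnorton⟩ := hV
  have hfix0 : μ₁ a₀ = a₀ := hu₀ (μ₁ a₀) (transport mul B μ₁ μ₀ h₁.1 hc a₀ h₀)
  have hfix1 : μ₀ a₁ = a₁ := hu₁ (μ₀ a₁) (transport mul B μ₀ μ₁ h₀.1 hc.symm a₁ h₁)
  have hid0 : mul a₀ a₀ = a₀ := h₀.2.2.1.1.2.1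
  have hid1 : mul a₁ a₁ = a₁ := h₁.2.2.1.1.2.1
  have A1 := eqA mul B hassoc μ₀ a₀ h₀ hn₀ a₁ hfix1
  have A2 := eqA mul B hassoc μ₁ a₁ h₁ hn₁ a₀ hfix0
  have A1' : mul a₀ (mul a₁ a₀) = (3 * B a₁ a₀ / 4) • a₀ + (1 / 4 : ℝ) • mul a₁ a₀ := by
    rw [hcm a₁ a₀, hsymm a₁ a₀]; exact A1
  have A2' : mul a₁ (mul a₀ a₁) = (3 * B a₀ a₁ / 4) • a₁ + (1 / 4 : ℝ) • mul a₀ a₁ := by
    rw [hcm a₀ a₁, hsymm a₀ a₁]; exact A2
  have X1 := eqX mul B hcm hassoc μ₀ a₀ h₀ hn₀ a₁ hfix1 hid1 A2'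
  have X2 := eqX mul B hcm hassoc μ₁ a₁ h₁ hn₁ a₀ hfix0 hid0 A1'
  rw [hcm a₁ a₀, hsymm a₁ a₀] at X2
  obtain ⟨l, hl⟩ : ∃ l, l = B a₀ a₁ := ⟨_, rfl⟩
  obtain ⟨x, hx⟩ : ∃ x, x = mul a₀ a₁ := ⟨_, rfl⟩
  rw [← hl, ← hx] at X1 X2 A1 A2'
  rw [← hl, ← hx]
  have hsub : (2 * l - 16 * l ^ 2) • (a₁ - a₀) = 0 := by
    linear_combination (norm := module) X2 - X1
  have hl01 : l = 0 ∨ l = 1 / 8 := by
    rcases smul_eq_zero.mp hsub with h | h
    · have : l * (1 - 8 * l) = 0 := by linarith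
      rcases mul_eq_zero.mp this with h' | h'
      · left; exact h'
      · right; linarith
    · exact absurd (sub_eq_zero.mp h).symm hne
  rcases hl01 with h0 | h8
  · left
    refine ⟨h0, ?_⟩
    by_contra hx0
    have h1 := hpos x hx0
    have h2 := hnorton a₀ a₁
    rw [hid0, hid1, ← hx, ← hl, h0] at h2
    linarith
  · right
    refine ⟨h8, ?_, ?_, ?_⟩
    · rw [h8] at X1 A1 A2'
      simp only [map_add, map_sub, map_smul, LinearMap.add_apply, LinearMap.sub_apply, LinearMap.smul_apply,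
        hid0, hid1, hcm a₁ a₀, ← hx, hcm x a₀, hcm x a₁, A1, A2']
      linear_combination (norm := module) (2 : ℝ) • X1
    · rw [h8] at A1
      simp only [map_add, map_sub, map_smul, hid0, ← hx, A1]
      module
    · rw [h8] at A2'
      simp only [map_add, map_sub, map_smul, hid1, hcm a₁ a₀, ← hx, A2']
      module

end Cfsg.Agent.S5545
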