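import Cfsg.Statements.S5546

set_option autoImplicit false
open Cfsg

namespace Cfsg.Agent.S5546

abbrev LZ := GolayPt → ℤ
abbrev WF := GolayPt → ZMod 13

/-- the vector `8 e_i` -/
def bvec (i : GolayPt) : LZ := Pi.single i 8

theorem bvec_mem (i : GolayPt) : bvec i ∈ leechLattice := by
  apply AddSubgroup.subset_closure
  apply Cfsg.Spor.mem_leechSet_of_const_mod_four (bvec i) 0 0 (by decide)
  · intro j
    unfold bvec
    rw [Pi.single_apply]
    split_ifs <;> decide
  · unfold bvec
    rw [Finset.sum_pi_single']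
    simp only [Finset.mem_univ, if_true]
    decide

def bL (i : GolayPt) : leechLattice := ⟨bvec i, bvec_mem i⟩

theorem key1 (x : leechLattice) : (8 : ℤ) • x = ∑ i, ((x : LZ) i) • bL i := by
  apply Subtype.ext
  funext j
  rw [AddSubgroup.coe_zsmul, AddSubmonoidClass.coe_finsetSum, Finset.sum_apply]
  simp only [AddSubgroup.coe_zsmul, Pi.smul_apply, smul_eq_mul, bL, bvec, Pi.single_apply]
  rw [Finset.sum_eq_single j]
  · simp [mul_comm]
  · intro i _ hij
    simp [hij.symm]
  · intro h; exact absurd (Finset.mem_univ j) h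

def castHom : LZ →+ WF := (Int.castAddHom (ZMod 13)).compLeft GolayPt

theorem castHom_apply (x : LZ) (i : GolayPt) : castHom x i = (x i : ZMod 13) := rfl

/-- the linear map on `F₁₃²⁴` induced by `f` -/
noncomputable def Phi (f : Equiv.Perm leechLattice) : WF →ₗ[ZMod 13] WF :=
  (5 : ZMod 13) • ∑ i, (LinearMap.proj i : WF →ₗ[ZMod 13] ZMod 13).smulRight (castHom ((f (bL i) : leechLattice) : LZ))

theorem Phi_apply (f : Equiv.Perm leechLattice) (y : WF) :
    Phi f y = (5 : ZMod 13) • ∑ i, y i • castHom ((f (bL i) : leechLattice) : LZ) := by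
  unfold Phi
  simp only [LinearMap.smul_apply, LinearMap.sum_apply, LinearMap.smulRight_apply, LinearMap.proj_apply]

theorem five_eight : (5 : ZMod 13) * 8 = 1 := by decide

theorem key2 (f : Equiv.Perm leechLattice) (hf : ∀ v w : leechLattice, f (v + w) = f v + f w)
    (x : leechLattice) : Phi f (castHom (x : LZ)) = castHom ((f x : leechLattice) : LZ) := by
  have h1 := congrArg (AddMonoidHom.mk' f hf) (key1 x)
  rw [map_zsmul, map_sum] at h1
  simp only [map_zsmul, AddMonoidHom.mk'_apply] at h1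
  have h2 := congrArg (fun z : leechLattice => castHom (z : LZ)) h1
  simp only [AddSubgroup.coe_zsmul, AddSubmonoidClass.coe_finsetSum, map_zsmul, map_sum] at h2
  rw [Phi_apply]
  have h3 : ∑ i, castHom (x : LZ) i • castHom ((f (bL i) : leechLattice) : LZ)
      = ∑ i, ((x : LZ) i) • castHom ((f (bL i) : leechLattice) : LZ) := by
    apply Finset.sum_congr rfl
    intro i _
    rw [castHom_apply, Int.cast_smul_eq_zsmul]
  rw [h3, ← h2, ← Int.cast_smul_eq_zsmul (ZMod 13), smul_smul]
  have : (5 : ZMod 13) * ((8 : ℤ) : ZMod 13) = 1 := by decide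
  rw [this, one_smul]

theorem Phi_mul (f g : Equiv.Perm leechLattice) (hf : ∀ v w : leechLattice, f (v + w) = f v + f w) :
    Phi (f * g) = Phi f * Phi g := by
  apply LinearMap.ext
  intro y
  have e1 : (Phi f * Phi g) y = Phi f (Phi g y) := rfl
  rw [e1, Phi_apply g y]
  rw [(Phi f).map_smul]
  rw [map_sum (Phi f)]
  rw [Phi_apply (f * g) y]
  refine congrArg _ ?_
  apply Finset.sum_congr rfl
  intro i _
  rw [(Phi f).map_smul, key2 f hf]
  rfl

theorem Phi_one : Phi 1 = 1 := by
  apply LinearMap.ext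
  intro y
  rw [Phi_apply, Module.End.one_apply]
  funext j
  simp only [Equiv.Perm.one_apply, Pi.smul_apply, Finset.sum_apply, smul_eq_mul, castHom_apply, bL, bvec,
    Pi.single_apply]
  rw [Finset.sum_eq_single j]
  · simp only [if_true]
    have : (5 : ZMod 13) * (y j * ((8 : ℤ) : ZMod 13)) = y j * ((5 : ZMod 13) * ((8 : ℤ) : ZMod 13)) := by ring
    rw [this]
    have : (5 : ZMod 13) * ((8 : ℤ) : ZMod 13) = 1 := by decide
    rw [this, mul_one]
  · intro i _ hij
    simp [hij.symm]
  · intro h; exact absurd (Finset.mem_univ j) h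

noncomputable def uF : WF := castHom (Cfsg.Spor.leechU : LZ)

noncomputable def Wu : Submodule (ZMod 13) WF := Submodule.span (ZMod 13) {uF}

theorem co2_add (f : Cfsg.Spor.Co2) : ∀ v w : leechLattice, f.1 (v + w) = f.1 v + f.1 w := f.2.1.1

theorem co2_norm (f : Cfsg.Spor.Co2) : ∀ v : leechLattice,
    sqNorm ((f.1 v : leechLattice) : LZ) = sqNorm (v : LZ) := f.2.1.2

theorem co2_fix (f : Cfsg.Spor.Co2) : f.1 Cfsg.Spor.leechU = Cfsg.Spor.leechU := by
  have h : f.1 ∈ MulAction.stabilizer (Equiv.Perm leechLattice) Cfsg.Spor.leechU := f.2.2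
  rw [MulAction.mem_stabilizer_iff] at h
  exact h

theorem Phi_uF (f : Cfsg.Spor.Co2) : Phi f.1 uF = uF := by
  unfold uF
  rw [key2 f.1 (co2_add f), co2_fix f]

theorem Phi_Wu (f : Cfsg.Spor.Co2) : Wu ≤ Wu.comap (Phi f.1) := by
  unfold Wu
  rw [Submodule.span_le]
  intro x hx
  rw [Set.mem_singleton_iff] at hx
  subst hx
  rw [SetLike.mem_coe, Submodule.mem_comap, Phi_uF]
  exact Submodule.mem_span_singleton_self _

theorem Phi_coe_one : Phi ((1 : Cfsg.Spor.Co2) : Equiv.Perm leechLattice) = 1 := Phi_one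

theorem Phi_coe_mul (f g : Cfsg.Spor.Co2) :
    Phi ((f * g : Cfsg.Spor.Co2) : Equiv.Perm leechLattice) = Phi f.1 * Phi g.1 :=
  Phi_mul f.1 g.1 (co2_add f)

noncomputable def Psi : Cfsg.Spor.Co2 →* Module.End (ZMod 13) (WF ⧸ Wu) where
  toFun f := Wu.mapQ Wu (Phi f.1) (Phi_Wu f)
  map_one' := by
    apply LinearMap.ext
    intro q
    obtain ⟨y, rfl⟩ := Submodule.Quotient.mk_surjective _ q
    rw [Submodule.mapQ_apply, Phi_coe_one]
    rfl
  map_mul' f g := by
    apply LinearMap.ext
    intro q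
    obtain ⟨y, rfl⟩ := Submodule.Quotient.mk_surjective _ q
    rw [Module.End.mul_apply, Submodule.mapQ_apply, Submodule.mapQ_apply, Submodule.mapQ_apply, Phi_coe_mul,
      Module.End.mul_apply]

def dotF (a b : WF) : ZMod 13 := ∑ i, a i * b i

theorem polar (x y : LZ) : sqNorm (x + y) = sqNorm x + sqNorm y + 2 * dotInt x y := by
  unfold sqNorm dotInt
  rw [Finset.mul_sum, ← Finset.sum_add_distrib, ← Finset.sum_add_distrib]
  apply Finset.sum_congr rfl
  intro i _
  simp only [Pi.add_apply]
  ring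

theorem dot_pres (f : Cfsg.Spor.Co2) (x y : leechLattice) :
    dotInt ((f.1 x : leechLattice) : LZ) ((f.1 y : leechLattice) : LZ) = dotInt (x : LZ) (y : LZ) := by
  have h1 := polar ((f.1 x : leechLattice) : LZ) ((f.1 y : leechLattice) : LZ)
  have h2 := polar (x : LZ) (y : LZ)
  have h3 : ((f.1 x : leechLattice) : LZ) + ((f.1 y : leechLattice) : LZ) = ((f.1 (x + y) : leechLattice) : LZ) := by
    rw [co2_add f, AddSubgroup.coe_add]
  have h4 : (x : LZ) + (y : LZ) = ((x + y : leechLattice) : LZ) := by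
    rw [AddSubgroup.coe_add]
  rw [h3, co2_norm f, co2_norm f, co2_norm f] at h1
  rw [h4] at h2
  omega

theorem cast_dot (a b : LZ) : ((dotInt a b : ℤ) : ZMod 13) = dotF (castHom a) (castHom b) := by
  unfold dotInt dotF
  rw [Int.cast_sum]
  apply Finset.sum_congr rfl
  intro i _
  rw [Int.cast_mul, castHom_apply, castHom_apply]

theorem dotF_sub_left (a b c : WF) : dotF (a - b) c = dotF a c - dotF b c := by
  unfold dotF
  rw [← Finset.sum_sub_distrib]
  apply Finset.sum_congr rfl
  intro i _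
  simp only [Pi.sub_apply]
  ring

theorem dotF_smul_left (k : ZMod 13) (a c : WF) : dotF (k • a) c = k * dotF a c := by
  unfold dotF
  rw [Finset.mul_sum]
  apply Finset.sum_congr rfl
  intro i _
  simp only [Pi.smul_apply, smul_eq_mul]
  ring

theorem dotInt_vecU : dotInt Cfsg.Spor.vecU Cfsg.Spor.vecU = 32 := by
  unfold dotInt
  rw [Fintype.sum_option]
  have h0 : ∀ a : ZMod 23, Cfsg.Spor.vecU (some a) * Cfsg.Spor.vecU (some a) = if a = 0 then 16 else 0 := by
    intro a
    unfold Cfsg.Spor.vecU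
    by_cases ha : a = 0
    · simp [ha]
    · simp [ha]
  simp only [h0]
  rw [Finset.sum_ite_eq']
  simp [Cfsg.Spor.vecU]

theorem dotF_uF : dotF uF uF ≠ 0 := by
  unfold uF
  rw [← cast_dot]
  have : ((Cfsg.Spor.leechU : leechLattice) : LZ) = Cfsg.Spor.vecU := rfl
  rw [this, dotInt_vecU]
  decide

theorem step1 (f : Cfsg.Spor.Co2) (h : Psi f = 1) (y : WF) : Phi f.1 y - y ∈ Wu := by
  have h1 := congrArg (fun T : Module.End (ZMod 13) (WF ⧸ Wu) => T (Submodule.Quotient.mk y)) h
  have h2 : (Psi f) (Submodule.Quotient.mk y) = Submodule.Quotient.mk (Phi f.1 y) := rfl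
  simp only [h2, Module.End.one_apply] at h1
  exact (Submodule.Quotient.eq _).mp h1

theorem step2 (f : Cfsg.Spor.Co2) (h : Psi f = 1) (x : leechLattice) :
    castHom ((f.1 x : leechLattice) : LZ) = castHom (x : LZ) := by
  have h1 := step1 f h (castHom (x : LZ))
  rw [key2 f.1 (co2_add f)] at h1
  unfold Wu at h1
  obtain ⟨c, hc⟩ := Submodule.mem_span_singleton.mp h1
  have h2 : dotF (castHom ((f.1 x : leechLattice) : LZ) - castHom (x : LZ)) uF = 0 := by
    rw [dotF_sub_left]
    unfold uF
    rw [← cast_dot, ← cast_dot]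
    have := dot_pres f x Cfsg.Spor.leechU
    rw [co2_fix f] at this
    rw [this, sub_self]
  rw [← hc, dotF_smul_left] at h2
  have hc0 : c = 0 := by
    have : Fact (Nat.Prime 13) := ⟨by norm_num⟩
    rcases mul_eq_zero.mp h2 with h3 | h3
    · exact h3
    · exact absurd h3 dotF_uF
  rw [hc0, zero_smul] at hc
  exact (sub_eq_zero.mp hc.symm)

theorem sqNorm_bvec (i : GolayPt) : sqNorm (bvec i) = 64 := by
  unfold sqNorm bvec
  rw [Finset.sum_eq_single i]
  · simp
  · intro j _ hji
    simp [hji]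
  · intro h; exact absurd (Finset.mem_univ i) h

theorem step3 (f : Cfsg.Spor.Co2) (h : Psi f = 1) (i : GolayPt) : f.1 (bL i) = bL i := by
  apply Subtype.ext
  set v : LZ := ((f.1 (bL i) : leechLattice) : LZ) with hv
  have hn : sqNorm v = 64 := by
    rw [hv, co2_norm f]
    exact sqNorm_bvec i
  have hcast : ∀ j, (13 : ℤ) ∣ bvec i j - v j := by
    intro j
    have := congrFun (step2 f h (bL i)) j
    rw [castHom_apply, castHom_apply] at this
    exact (ZMod.intCast_eq_intCast_iff_dvd_sub _ _ 13).mp this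
  have hbound : ∀ j, v j ^ 2 ≤ 64 := by
    intro j
    rw [← hn]
    unfold sqNorm
    exact Finset.single_le_sum (f := fun j => v j ^ 2) (fun k _ => sq_nonneg _) (Finset.mem_univ j)
  have hb2 : ∀ j, -8 ≤ v j ∧ v j ≤ 8 := by
    intro j
    have := hbound j
    constructor <;> nlinarith
  have hne : ∀ j, j ≠ i → v j = 0 := by
    intro j hji
    have h1 := hcast j
    have h2 := hb2 j
    unfold bvec at h1
    rw [Pi.single_apply, if_neg hji] at h1
    omega
  have hi : v i = 8 := by
    have h1 := hcast i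
    have h2 := hb2 i
    unfold bvec at h1
    rw [Pi.single_apply, if_pos rfl] at h1
    have h3 : v i = 8 ∨ v i = -5 := by omega
    have h4 : sqNorm v = v i ^ 2 := by
      unfold sqNorm
      rw [Finset.sum_eq_single i]
      · intro j _ hji
        rw [hne j hji]
        ring
      · intro h; exact absurd (Finset.mem_univ i) h
    rcases h3 with h3 | h3
    · exact h3
    · rw [hn, h3] at h4
      norm_num at h4
  funext j
  show v j = bvec i j
  unfold bvec
  rw [Pi.single_apply]
  by_cases hji : j = i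
  · rw [if_pos hji, hji, hi]
  · rw [if_neg hji, hne j hji]

theorem step4 (f : Cfsg.Spor.Co2) (h : Psi f = 1) (x : leechLattice) : f.1 x = x := by
  have h1 := congrArg (AddMonoidHom.mk' f.1 (co2_add f)) (key1 x)
  rw [map_zsmul, map_sum] at h1
  simp only [map_zsmul, AddMonoidHom.mk'_apply, step3 f h] at h1
  rw [← key1 x] at h1
  apply Subtype.ext
  funext j
  have h2 := congrArg (fun z : leechLattice => (z : LZ) j) h1
  simp only [AddSubgroup.coe_zsmul, Pi.smul_apply, smul_eq_mul] at h2
  omega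

theorem Psi_injective : Function.Injective Psi := by
  rw [injective_iff_map_eq_one]
  intro f h
  apply Subtype.ext
  apply Equiv.ext
  intro x
  exact step4 f h x

theorem uF_ne_zero : uF ≠ 0 := by
  intro h0
  apply dotF_uF
  rw [h0]
  unfold dotF
  simp

theorem finrank_quot : Module.finrank (ZMod 13) (WF ⧸ Wu) = 23 := by
  have : Fact (Nat.Prime 13) := ⟨by norm_num⟩
  have h1 := Submodule.finrank_quotient_add_finrank Wu
  have h2 : Module.finrank (ZMod 13) WF = 24 := by
    rw [Module.finrank_fintype_fun_eq_card]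
    rfl
  have h3 : Module.finrank (ZMod 13) Wu = 1 := by
    unfold Wu
    exact finrank_span_singleton uF_ne_zero
  omega

instance fact13 : Fact (Nat.Prime 13) := ⟨by norm_num⟩

noncomputable def bas : Module.Basis (Fin 23) (ZMod 13) (WF ⧸ Wu) :=
  Module.finBasisOfFinrankEq (ZMod 13) (WF ⧸ Wu) finrank_quot

noncomputable def matEquiv : Module.End (ZMod 13) (WF ⧸ Wu) ≃* Matrix (Fin 23) (Fin 23) (ZMod 13) :=
  (LinearMap.toMatrixAlgEquiv bas).toMulEquiv

noncomputable def unitsEquiv : (Module.End (ZMod 13) (WF ⧸ Wu))ˣ ≃* GL (Fin 23) (ZMod 13) :=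
  Units.mapEquiv matEquiv

noncomputable def theHom : ↥Cfsg.Spor.Co2 →* GL (Fin 23) (ZMod 13) :=
  unitsEquiv.toMonoidHom.comp Psi.toHomUnits

theorem theHom_injective : Function.Injective theHom := by
  intro f g hfg
  have h1 : Psi.toHomUnits f = Psi.toHomUnits g := unitsEquiv.injective hfg
  have h2 : Psi f = Psi g := congrArg Units.val h1
  exact Psi_injective h2

theorem result : ∃ f : ↥Cfsg.Spor.Co2 →* GL (Fin 23) (ZMod 13), Function.Injective f :=
  ⟨theHom, theHom_injective⟩

end Cfsg.Agent.S5546
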