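import Cfsg.Statements.S5549
import Cfsg.Agent.Lib.Helper92.CodeAut

set_option autoImplicit false
open Cfsg

namespace Cfsg.Agent.S5549

open Cfsg.Agent.Lib Cfsg.Agent.Lib.Helper26 Cfsg.Agent.Lib.Helper8
open Cfsg.Agent.Lib.Helper92.CodeAut
open scoped Pointwise

theorem relS_symm {x : ↥golayCode ≃ₗ[ZMod 2] ↥golayCode} {a b : GolayPt} {D : Finset GolayPt}
    (h : RelS x a b D) : RelS x b a D := by
  intro c
  rw [add_comm]
  exact h c

/-- uniqueness of the target pair. -/
theorem relS_target {x : ↥golayCode ≃ₗ[ZMod 2] ↥golayCode} {a b : GolayPt}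
    {D1 D2 : Finset GolayPt} (h1c : D1.card = 2) (h2c : D2.card = 2) (h1 : RelS x a b D1)
    (h2 : RelS x a b D2) : D1 = D2 := by
  have hz : ∀ v ∈ golayCode, fS (symmDiff D1 D2) v = 0 := by
    intro v hv
    obtain ⟨w, rfl⟩ : ∃ w : ↥golayCode, ((x w : ↥golayCode) : GolayPt → ZMod 2) = v :=
      ⟨x.symm ⟨v, hv⟩, by rw [LinearEquiv.apply_symm_apply]⟩
    rw [fS_symmDiff, ← h1 w, ← h2 w]
    exact CharTwo.add_self_eq_zero _
  have hcard : (symmDiff D1 D2).card ≤ 7 := by
    have e1 := card_symmDiff_add' D1 D2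
    omega
  have := eq_empty_of_orth hcard hz
  rwa [← Finset.bot_eq_empty, symmDiff_eq_bot] at this

theorem main {x : ↥golayCode ≃ₗ[ZMod 2] ↥golayCode} (hx : Good x) :
    ∃ π : Equiv.Perm GolayPt, π ∈ M24 ∧ ∀ c : ↥golayCode,
      ((x c : ↥golayCode) : GolayPt → ZMod 2) = act π (c : GolayPt → ZMod 2) ∨
      ((x c : ↥golayCode) : GolayPt → ZMod 2) =
        act π (c : GolayPt → ZMod 2) + fun _ => (1 : ZMod 2) := by
  classical
  set inf : GolayPt := none with hinf
  set j0 : GolayPt := some 0 with hj0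
  set j1 : GolayPt := some 1 with hj1
  have h_i0 : inf ≠ j0 := by decide
  have h_i1 : inf ≠ j1 := by decide
  have h_01 : j0 ≠ j1 := by decide
  obtain ⟨A, hA, rA⟩ := hx.exists_relS h_i0
  obtain ⟨B, hB, rB⟩ := hx.exists_relS h_i1
  obtain ⟨D01, hD01, r01⟩ := hx.exists_relS h_01
  have hD01eq : D01 = symmDiff A B := relS_add hA hB hD01 (relS_symm rA) rB r01
  have hABcard : (symmDiff A B).card = 2 := hD01eq ▸ hD01
  have iAB : (A ∩ B).card = 1 := by have := card_symmDiff_add' A B; omega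
  obtain ⟨p, hp⟩ := Finset.card_eq_one.mp iAB
  have hpAB : p ∈ A ∧ p ∈ B := by
    have : p ∈ A ∩ B := by rw [hp]; exact Finset.mem_singleton_self _
    exact Finset.mem_inter.mp this
  -- every pair through `inf` is sent to a pair through `p`
  have claim : ∀ j : GolayPt, j ≠ inf → ∃ q : GolayPt, q ≠ p ∧ ∀ c : ↥golayCode,
      (c : GolayPt → ZMod 2) inf + (c : GolayPt → ZMod 2) j =
        ((x c : ↥golayCode) : GolayPt → ZMod 2) p + ((x c : ↥golayCode) : GolayPt → ZMod 2) q := by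
    intro j hj
    obtain ⟨Dj, hDj, rj⟩ := hx.exists_relS (Ne.symm hj)
    have hpDj : p ∈ Dj := by
      by_cases hj0' : j = j0
      · subst hj0'
        rw [relS_target hDj hA rj rA]; exact hpAB.1
      by_cases hj1' : j = j1
      · subst hj1'
        rw [relS_target hDj hB rj rB]; exact hpAB.2
      obtain ⟨D0j, hD0j, r0j⟩ := hx.exists_relS (Ne.symm hj0')
      obtain ⟨D1j, hD1j, r1j⟩ := hx.exists_relS (Ne.symm hj1')
      have e0 : D0j = symmDiff A Dj := relS_add hA hDj hD0j (relS_symm rA) rj r0j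
      have e1 : D1j = symmDiff B Dj := relS_add hB hDj hD1j (relS_symm rB) rj r1j
      refine common_point hA hB hDj hABcard (e0 ▸ hD0j) (e1 ▸ hD1j) ?_ hpAB.1 hpAB.2
      intro hcon
      rw [← hD01eq] at hcon
      have := relS_source (Ne.symm hj) h_01 rj (hcon ▸ r01)
      have hmem : inf ∈ ({inf, j} : Finset GolayPt) := by simp
      rw [this, Finset.mem_insert, Finset.mem_singleton] at hmem
      rcases hmem with h | h
      · exact h_i0 h
      · exact h_i1 h
    obtain ⟨u, v, huv, hDuv⟩ := Finset.card_eq_two.mp hDj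
    rw [hDuv, Finset.mem_insert, Finset.mem_singleton] at hpDj
    rcases hpDj with rfl | rfl
    · refine ⟨v, Ne.symm huv, fun c => ?_⟩
      rw [rj c, hDuv, fS_pair huv]
    · refine ⟨u, huv, fun c => ?_⟩
      rw [rj c, hDuv, fS_pair huv, add_comm]
  have claim' : ∀ j : GolayPt, ∃ q : GolayPt, (j = inf → q = p) ∧ (j ≠ inf → q ≠ p ∧
      ∀ c : ↥golayCode, (c : GolayPt → ZMod 2) inf + (c : GolayPt → ZMod 2) j =
        ((x c : ↥golayCode) : GolayPt → ZMod 2) p + ((x c : ↥golayCode) : GolayPt → ZMod 2) q) := by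
    intro j
    by_cases hj : j = inf
    · exact ⟨p, fun _ => rfl, fun h => absurd hj h⟩
    · obtain ⟨q, hq⟩ := claim j hj
      exact ⟨q, fun h => absurd h hj, fun _ => hq⟩
  choose π hπ using claim'
  have hinj : Function.Injective π := by
    intro j k hjk
    by_cases hj : j = inf
    · by_cases hk : k = inf
      · rw [hj, hk]
      · exfalso
        have := ((hπ k).2 hk).1
        rw [← hjk, (hπ j).1 hj] at this
        exact this rfl
    · by_cases hk : k = inf
      · exfalso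
        have := ((hπ j).2 hj).1
        rw [hjk, (hπ k).1 hk] at this
        exact this rfl
      · by_contra hne
        obtain ⟨c, hc, h1⟩ := small_orth {j, k} ⟨j, by simp⟩ (by
          rw [Finset.card_pair hne]; norm_num)
        rw [fS_pair hne] at h1
        have e1 := ((hπ j).2 hj).2 ⟨c, hc⟩
        have e2 := ((hπ k).2 hk).2 ⟨c, hc⟩
        rw [hjk] at e1
        simp only at e1 e2
        have e3 : c inf + c j = c inf + c k := e1.trans e2.symm
        have e4 : c j = c k := add_left_cancel e3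
        rw [e4, CharTwo.add_self_eq_zero] at h1
        exact zero_ne_one h1
  have hbij : Function.Bijective π := Finite.injective_iff_bijective.mp hinj
  let πe : Equiv.Perm GolayPt := Equiv.ofBijective π hbij
  have hπe : ∀ j, πe j = π j := fun j => rfl
  -- the formula for `x c`
  have hform : ∀ c : ↥golayCode, ∀ q : GolayPt,
      ((x c : ↥golayCode) : GolayPt → ZMod 2) q = (c : GolayPt → ZMod 2) (πe.symm q) +
        (((x c : ↥golayCode) : GolayPt → ZMod 2) p + (c : GolayPt → ZMod 2) inf) := by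
    intro c q
    obtain ⟨j, rfl⟩ : ∃ j, πe j = q := ⟨πe.symm q, by simp⟩
    rw [Equiv.symm_apply_apply, hπe]
    by_cases hj : j = inf
    · rw [(hπ j).1 hj, hj]
      have : ∀ s t : ZMod 2, s = t + (s + t) := by decide
      exact this _ _
    · have e := ((hπ j).2 hj).2 c
      have : ∀ s t u v : ZMod 2, s + t = u + v → v = t + (u + s) := by decide
      exact this _ _ _ _ e
  have hres : ∀ c : ↥golayCode,
      ((x c : ↥golayCode) : GolayPt → ZMod 2) = act πe (c : GolayPt → ZMod 2) ∨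
      ((x c : ↥golayCode) : GolayPt → ZMod 2) =
        act πe (c : GolayPt → ZMod 2) + fun _ => (1 : ZMod 2) := by
    intro c
    rcases Cfsg.Agent.S5548.zmod2_cases'
      (((x c : ↥golayCode) : GolayPt → ZMod 2) p + (c : GolayPt → ZMod 2) inf) with h | h
    · left
      funext q
      rw [hform c q, h, add_zero]
      rfl
    · right
      funext q
      rw [hform c q, h]
      rfl
  refine ⟨πe, ?_, hres⟩
  have hinv : πe⁻¹ ∈ M24 := by
    rw [Golay.mem_M24_iff_preservesCode]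
    intro w hw
    have hact : (fun q => w (πe⁻¹ q)) = act πe w := rfl
    rw [hact]
    rcases hres ⟨w, hw⟩ with h | h
    · simp only at h
      rw [← h]
      exact (x ⟨w, hw⟩).2
    · simp only at h
      have h2 : act πe w = ((x ⟨w, hw⟩ : ↥golayCode) : GolayPt → ZMod 2) + 1 := by
        rw [h, add_assoc]
        have : (fun _ => (1 : ZMod 2)) + (1 : GolayPt → ZMod 2) = 0 := by
          funext q; simp only [Pi.add_apply, Pi.one_apply, Pi.zero_apply]; decide
        rw [this, add_zero]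
      rw [h2]
      exact golayCode.add_mem (x ⟨w, hw⟩).2 Golay.one_mem_golayCode
  have := M24.inv_mem hinv
  rwa [inv_inv] at this

theorem result (X : Subgroup (↥Cfsg.golayCode ≃ₗ[ZMod 2] ↥Cfsg.golayCode)) (h1 : ∀ x ∈ X, ∀ e : ↥Cfsg.golayCode, (e : (Cfsg.GolayPt → ZMod 2)) = (fun _ => (1 : ZMod 2)) → x e = e) (hM : ∀ σ ∈ Cfsg.M24, ∃ x ∈ X, ∀ c : ↥Cfsg.golayCode, ((x c : ↥Cfsg.golayCode) : (Cfsg.GolayPt → ZMod 2)) = fun p => (c : (Cfsg.GolayPt → ZMod 2)) (σ.symm p)) (horb : ∀ x ∈ X, ∀ c : ↥Cfsg.golayCode, ∃ σ ∈ Cfsg.M24, ((x c : ↥Cfsg.golayCode) : (Cfsg.GolayPt → ZMod 2)) = (fun p => (c : (Cfsg.GolayPt → ZMod 2)) (σ.symm p)) ∨ ((x c : ↥Cfsg.golayCode) : (Cfsg.GolayPt → ZMod 2)) = (fun p => (c : (Cfsg.GolayPt → ZMod 2)) (σ.symm p)) + fun _ => (1 : ZMod 2)) (x : ↥Cfsg.golayCode ≃ₗ[ZMod 2] ↥Cfsg.golayCode) (hx : x ∈ X) : ∃ σ ∈ Cfsg.M24, ∀ c : ↥Cfsg.golayCode, ((x c : ↥Cfsg.golayCode) : (Cfsg.GolayPt → ZMod 2)) = (fun p => (c : (Cfsg.GolayPt → ZMod 2))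 (σ.symm p)) ∨ ((x c : ↥Cfsg.golayCode) : (Cfsg.GolayPt → ZMod 2)) = (fun p => (c : (Cfsg.GolayPt → ZMod 2)) (σ.symm p)) + fun _ => (1 : ZMod 2) := by
  have hgood : Good x := ⟨h1 x hx, horb x hx⟩
  obtain ⟨π, hπ, h⟩ := main hgood
  exact ⟨π, hπ, h⟩

end Cfsg.Agent.S5549
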