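import Cfsg.Statements.S5550
import Cfsg.Agent.Lib.Helper92.Cosets

set_option autoImplicit false
open Cfsg

namespace Cfsg.Agent.S5550

open Cfsg.Agent.Lib Cfsg.Agent.Lib.Helper26 Cfsg.Agent.Lib.Helper92.Cosets
open scoped Pointwise

theorem dec_all : dec 16777215 = Finset.univ := by
  ext p
  simp only [mem_dec, Finset.mem_univ, iff_true]
  revert p
  decide

theorem smul_compl (g : Equiv.Perm GolayPt) (s : Finset GolayPt) : g • sᶜ = (g • s)ᶜ := by
  ext p
  simp only [Finset.mem_compl, ← Finset.inv_smul_mem_iff]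

theorem goodSet_of_mem (U : Finset GolayPt) (hU : U ∈ Supp) : GoodSet U := by
  obtain ⟨u, hu, rfl⟩ := hU
  have hcard : (support₂ u).card = hammingNorm u := rfl
  have hUS : support₂ u ∈ Supp := ⟨u, hu, rfl⟩
  rcases Golay.hammingNorm_of_mem hu with h | h | h | h | h
  · have : support₂ u = dec 0 := by
      rw [dec_zero]
      exact Finset.card_eq_zero.mp (hcard.trans h)
    rw [this]
    exact std 0 gTr gPinv cert_zero
  · have hoct : support₂ u ∈ octads := ⟨hUS, hcard.trans h⟩
    obtain ⟨g, hg, hgo⟩ := octads_transitive _ hoct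
    rw [← hgo]
    exact transport _ (std oct0 gA1 gA2 cert_oct) g hg
  · have hdod : support₂ u ∈ dodecads := ⟨hUS, hcard.trans h⟩
    obtain ⟨g, hg, hgo⟩ := dodecads_transitive _ hdod
    rw [← hgo]
    exact transport _ (std dod0 gB1 gB2 cert_dod) g hg
  · have hc : (support₂ u)ᶜ ∈ octads := by
      refine ⟨supports_compl hUS, ?_⟩
      rw [Finset.card_compl, hcard, h]
      rfl
    obtain ⟨g, hg, hgo⟩ := octads_transitive _ hc
    have : support₂ u = g • dec (oct0 ^^^ 16777215) := by
      rw [dec_xor, dec_all, ← Finset.top_eq_univ, symmDiff_top, hnot_eq_compl, smul_compl, hgo, compl_compl]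
    rw [this]
    exact transport _ (std _ gA1 gA2 cert_coct) g hg
  · have : support₂ u = dec 16777215 := by
      rw [dec_all]
      apply Finset.eq_univ_of_card
      rw [hcard, h]
      rfl
    rw [this]
    exact std _ gTr gPinv cert_all

theorem result (u : (Cfsg.GolayPt → ZMod 2)) (hu : u ∈ Cfsg.golayCode) (w : (Cfsg.GolayPt → ZMod 2)) (hw : w ∉ Cfsg.golayCode) : ∃ σ ∈ Cfsg.M24, (fun p => u (σ.symm p)) = u ∧ (fun p => w (σ.symm p)) - w ∉ Cfsg.golayCode := by
  have hWt : support₂ w ∉ Supp := by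
    rintro ⟨w', hw', hs⟩
    apply hw
    rw [← support₂_inj hs]
    exact hw'
  obtain ⟨σ, hσ, hfix, hbad⟩ := goodSet_of_mem (support₂ u) ⟨u, hu, rfl⟩ (support₂ w) hWt
  refine ⟨σ, hσ, ?_, ?_⟩
  · apply support₂_inj
    show support₂ (u ∘ σ.symm) = support₂ u
    rw [support₂_comp_symm', hfix]
  · intro hcon
    apply hbad
    have hsub : (fun p => w (σ.symm p)) - w = (fun p => w (σ.symm p)) + w := by
      funext p
      have key : ∀ x y : ZMod 2, x - y = x + y := by decide
      exact key _ _
    rw [hsub] at hcon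
    refine ⟨_, hcon, ?_⟩
    rw [support₂_add]
    show symmDiff (support₂ (w ∘ σ.symm)) (support₂ w) = _
    rw [support₂_comp_symm']

end Cfsg.Agent.S5550
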