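import Cfsg.Statements.S5551
import Cfsg.Agent.Lib.Helper7.LeechNorm

set_option autoImplicit false
open Cfsg

namespace Cfsg.Agent.S5551

theorem sqNorm_two_smul (z : Cfsg.GolayPt → ℤ) : Cfsg.sqNorm (2 • z) = 4 * Cfsg.sqNorm z := by
  unfold Cfsg.sqNorm
  rw [Finset.mul_sum]
  apply Finset.sum_congr rfl
  intro i _
  simp only [Pi.smul_apply]
  ring

theorem parallelogram (v w : Cfsg.GolayPt → ℤ) :
    Cfsg.sqNorm (v - w) + Cfsg.sqNorm (v + w) = 2 * Cfsg.sqNorm v + 2 * Cfsg.sqNorm w := by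
  unfold Cfsg.sqNorm
  rw [Finset.mul_sum, Finset.mul_sum, ← Finset.sum_add_distrib, ← Finset.sum_add_distrib]
  apply Finset.sum_congr rfl
  intro i _
  simp only [Pi.sub_apply, Pi.add_apply]
  ring

theorem core (hmin : ∀ x : Cfsg.GolayPt → ℤ, x ∈ Cfsg.leechLattice → x ≠ 0 → 32 ≤ Cfsg.sqNorm x)
    (v w : Cfsg.GolayPt → ℤ) (hv : v ∈ Cfsg.leechLattice) (hw : w ∈ Cfsg.leechLattice) (hv0 : v ≠ 0) (hw0 : w ≠ 0) (hvn : Cfsg.sqNorm v ≤ 64) (hwn : Cfsg.sqNorm w ≤ 64) (hc : ∃ z ∈ Cfsg.leechLattice, v - w = 2 • z) : Cfsg.sqNorm v = Cfsg.sqNorm w ∧ (Cfsg.sqNorm v < 64 → w = v ∨ w = -v) := by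
  obtain ⟨z, hz, hvw⟩ := hc
  by_cases h1 : w = v
  · subst h1
    exact ⟨rfl, fun _ => Or.inl rfl⟩
  by_cases h2 : w = -v
  · subst h2
    refine ⟨?_, fun _ => Or.inr rfl⟩
    unfold Cfsg.sqNorm
    apply Finset.sum_congr rfl
    intro i _
    simp
  have hz0 : z ≠ 0 := by
    intro h0
    rw [h0, smul_zero] at hvw
    exact h1 (sub_eq_zero.mp hvw).symm
  have hzw : z + w ∈ Cfsg.leechLattice := Cfsg.leechLattice.add_mem hz hw
  have hvw' : v + w = 2 • (z + w) := by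
    have : v + w = (v - w) + 2 • w := by rw [two_smul]; abel
    rw [this, hvw, smul_add]
  have hzw0 : z + w ≠ 0 := by
    intro h0
    rw [h0, smul_zero] at hvw'
    apply h2
    exact (eq_neg_of_add_eq_zero_right hvw')
  have n1 := hmin z hz hz0
  have n2 := hmin (z + w) hzw hzw0
  have p := parallelogram v w
  rw [hvw, hvw', sqNorm_two_smul, sqNorm_two_smul] at p
  have h64 : Cfsg.sqNorm v = 64 ∧ Cfsg.sqNorm w = 64 := by omega
  refine ⟨by rw [h64.1, h64.2], fun hlt => ?_⟩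
  omega

theorem result (v w : Cfsg.GolayPt → ℤ) (hv : v ∈ Cfsg.leechLattice) (hw : w ∈ Cfsg.leechLattice) (hv0 : v ≠ 0) (hw0 : w ≠ 0) (hvn : Cfsg.sqNorm v ≤ 64) (hwn : Cfsg.sqNorm w ≤ 64) (hc : ∃ z ∈ Cfsg.leechLattice, v - w = 2 • z) : Cfsg.sqNorm v = Cfsg.sqNorm w ∧ (Cfsg.sqNorm v < 64 → w = v ∨ w = -v) :=
  core (fun x hx h0 => Cfsg.Agent.Lib.Helper7.sqNorm_ge_of_mem_leechSet
    ((Cfsg.Agent.Lib.Helper7.mem_leechLattice_iff x).1 hx) h0) v w hv hw hv0 hw0 hvn hwn hc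

end Cfsg.Agent.S5551
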