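import Cfsg.Statements.S5553
import Cfsg.Agent.Lib.Helper7.LeechBasic
import Cfsg.Agent.Lib.Golay.Octads

set_option autoImplicit false
open Cfsg

namespace Cfsg.Agent.S5553

open Cfsg.Agent.Lib.Helper7

abbrev LZ := GolayPt → ℤ

/-- even vectors, constant modulo 4 -/
def Bsub : AddSubgroup LZ where
  carrier := {x | (∀ i, (2 : ℤ) ∣ x i) ∧ ∀ i, (4 : ℤ) ∣ x i - x none}
  zero_mem' := by
    refine ⟨fun i => ?_, fun i => ?_⟩ <;> simp
  add_mem' := by
    rintro x y ⟨hx1, hx2⟩ ⟨hy1, hy2⟩
    refine ⟨fun i => ?_, fun i => ?_⟩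
    · have := hx1 i; have := hy1 i
      simp only [Pi.add_apply]; omega
    · have := hx2 i; have := hy2 i
      simp only [Pi.add_apply]; omega
  neg_mem' := by
    rintro x ⟨hx1, hx2⟩
    refine ⟨fun i => ?_, fun i => ?_⟩
    · have := hx1 i
      simp only [Pi.neg_apply]; omega
    · have := hx2 i
      simp only [Pi.neg_apply]; omega

theorem mem_Bsub (x : LZ) : x ∈ Bsub ↔ (∀ i, (2 : ℤ) ∣ x i) ∧ ∀ i, (4 : ℤ) ∣ x i - x none := Iff.rfl

def Asub : AddSubgroup LZ := leechLattice ⊓ Bsub

/-- data of a lattice vector -/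
theorem leech_data (x : LZ) (hx : x ∈ leechLattice) :
    ∃ m : ℤ, (∀ i, x i ≡ m [ZMOD 2]) ∧ (∑ i, x i ≡ 4 * m [ZMOD 8]) ∧ halfWord x m ∈ golayCode :=
  (mem_leechSet_iff x).mp ((mem_leechLattice_iff x).mp hx)

theorem two_smul_mem (v : LZ) (hv : v ∈ leechLattice) : (2 : ℤ) • v ∈ Asub := by
  refine ⟨leechLattice.zsmul_mem hv 2, ?_⟩
  obtain ⟨m, h1, _, _⟩ := leech_data v hv
  refine ⟨fun i => ?_, fun i => ?_⟩
  · simp only [Pi.smul_apply, smul_eq_mul]; omega
  · have a := h1 i
    have b := h1 none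
    unfold Int.ModEq at a b
    simp only [Pi.smul_apply, smul_eq_mul]; omega

theorem norm_dvd (v : LZ) (hv : v ∈ Asub) : (32 : ℤ) ∣ sqNorm v := by
  obtain ⟨hL, hB1, hB2⟩ := hv
  obtain ⟨m, h1, h2, _⟩ := leech_data v hL
  have hm : (2 : ℤ) ∣ m := by
    have a := h1 none
    have b := hB1 none
    unfold Int.ModEq at a
    omega
  have hsum : (8 : ℤ) ∣ ∑ i, v i := by
    unfold Int.ModEq at h2
    omega
  by_cases h0 : (4 : ℤ) ∣ v none
  · -- all coordinates divisible by 4
    have hterm : ∀ i ∈ (Finset.univ : Finset GolayPt), (32 : ℤ) ∣ v i ^ 2 - 4 * v i := by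
      intro i _
      have a := hB2 i
      obtain ⟨y, hy⟩ : (4 : ℤ) ∣ v i := by omega
      rw [hy]
      have : (2 : ℤ) ∣ y * (y - 1) := by
        rcases Int.even_or_odd y with ⟨k, hk⟩ | ⟨k, hk⟩
        · exact ⟨k * (y - 1), by rw [hk]; ring⟩
        · exact ⟨y * k, by rw [hk]; ring⟩
      obtain ⟨t, ht⟩ := this
      exact ⟨t, by linear_combination 16 * ht⟩
    have := Finset.dvd_sum hterm
    rw [Finset.sum_sub_distrib, ← Finset.mul_sum] at this
    unfold sqNorm
    omega
  · have hterm : ∀ i ∈ (Finset.univ : Finset GolayPt), (32 : ℤ) ∣ v i ^ 2 - 4 := by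
      intro i _
      have a := hB2 i
      have b := hB1 none
      obtain ⟨y, hy⟩ : (4 : ℤ) ∣ v i - 2 := by omega
      have hvi : v i = 4 * y + 2 := by omega
      rw [hvi]
      have : (2 : ℤ) ∣ y * (y + 1) := by
        rcases Int.even_or_odd y with ⟨k, hk⟩ | ⟨k, hk⟩
        · exact ⟨k * (y + 1), by rw [hk]; ring⟩
        · exact ⟨y * (k + 1), by rw [hk]; ring⟩
      obtain ⟨t, ht⟩ := this
      exact ⟨t, by linear_combination 16 * ht⟩
    have := Finset.dvd_sum hterm
    rw [Finset.sum_sub_distrib] at this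
    simp only [Finset.sum_const, Finset.card_univ, nsmul_eq_mul] at this
    have hc : (Fintype.card GolayPt : ℤ) = 24 := by
      have : Fintype.card GolayPt = 24 := rfl
      rw [this]; rfl
    rw [hc] at this
    unfold sqNorm
    omega

def thetaFun (x : LZ) : GolayPt → ZMod 2 := fun i => (((x i - x none) / 2 + x none : ℤ) : ZMod 2)

theorem thetaFun_mem (x : LZ) (hx : x ∈ leechLattice) : thetaFun x ∈ golayCode := by
  obtain ⟨m, h1, _, h3⟩ := leech_data x hx
  have key : thetaFun x = halfWord x m + ((((x none - m) / 2 + m : ℤ) : ZMod 2)) • (1 : GolayPt → ZMod 2) := by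
    funext i
    simp only [thetaFun, halfWord, Pi.add_apply, Pi.smul_apply, Pi.one_apply, smul_eq_mul, mul_one]
    rw [← Int.cast_add]
    congr 1
    have a := h1 i
    have b := h1 none
    unfold Int.ModEq at a b
    omega
  rw [key]
  exact Submodule.add_mem _ h3 (Submodule.smul_mem _ _ one_mem_golayCode)

theorem thetaFun_add (x y : LZ) (hx : x ∈ leechLattice) (hy : y ∈ leechLattice) :
    thetaFun (x + y) = thetaFun x + thetaFun y := by
  obtain ⟨m, h1, _, _⟩ := leech_data x hx
  obtain ⟨m', h1', _, _⟩ := leech_data y hy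
  funext i
  simp only [thetaFun, Pi.add_apply]
  rw [← Int.cast_add]
  congr 1
  have a := h1 i
  have b := h1 none
  have a' := h1' i
  have b' := h1' none
  unfold Int.ModEq at a b a' b'
  omega

def theta : leechLattice →+ golayCode :=
  AddMonoidHom.mk' (fun x => ⟨thetaFun x.1, thetaFun_mem x.1 x.2⟩) (by
    intro x y
    apply Subtype.ext
    exact thetaFun_add x.1 y.1 x.2 y.2)

theorem theta_val (x : leechLattice) : (theta x : GolayPt → ZMod 2) = thetaFun x.1 := rfl

theorem theta_ker : Asub.addSubgroupOf leechLattice = theta.ker := by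
  ext x
  rw [AddSubgroup.mem_addSubgroupOf, AddMonoidHom.mem_ker]
  obtain ⟨m, h1, _, _⟩ := leech_data x.1 x.2
  constructor
  · rintro ⟨_, hB1, hB2⟩
    apply Subtype.ext
    rw [theta_val]
    funext i
    simp only [thetaFun, ZeroMemClass.coe_zero, Pi.zero_apply]
    rw [ZMod.intCast_zmod_eq_zero_iff_dvd]
    have a := hB1 i
    have b := hB1 none
    have c := hB2 i
    push_cast
    omega
  · intro h
    refine ⟨x.2, ?_⟩
    have h' : ∀ i, (2 : ℤ) ∣ (x.1 i - x.1 none) / 2 + x.1 none := by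
      intro i
      have := congrFun (congrArg Subtype.val h) i
      rw [theta_val] at this
      simp only [thetaFun, ZeroMemClass.coe_zero, Pi.zero_apply] at this
      rw [ZMod.intCast_zmod_eq_zero_iff_dvd] at this
      exact_mod_cast this
    have hn := h' none
    refine ⟨fun i => ?_, fun i => ?_⟩
    · have a := h1 i
      have b := h1 none
      have c := h' i
      unfold Int.ModEq at a b
      omega
    · have a := h1 i
      have b := h1 none
      have c := h' i
      unfold Int.ModEq at a b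
      omega

theorem val_cases : ∀ a : ZMod 2, ((a.val : ℕ) : ℤ) = if a ≠ 0 then 1 else 0 := by decide

theorem val_bound (a : ZMod 2) : ((a.val : ℕ) : ℤ) = 0 ∨ ((a.val : ℕ) : ℤ) = 1 := by
  rw [val_cases]
  split_ifs <;> simp

theorem sum_val_eq (w : GolayPt → ZMod 2) : ∑ i, (((w i).val : ℕ) : ℤ) = (hammingNorm w : ℤ) := by
  simp only [val_cases]
  rw [Finset.sum_boole]
  rfl

theorem add_self_z2 : ∀ a : ZMod 2, a + a = 0 := by decide

theorem theta_surj : Function.Surjective theta := by
  rintro ⟨c, hc⟩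
  -- the shifted word c' = c + c(∞) • 1
  set c' : GolayPt → ZMod 2 := c + (c none) • (1 : GolayPt → ZMod 2) with hc'
  have hc'mem : c' ∈ golayCode := Submodule.add_mem _ hc (Submodule.smul_mem _ _ one_mem_golayCode)
  have hc'none : c' none = 0 := by
    simp only [hc', Pi.add_apply, Pi.smul_apply, Pi.one_apply, smul_eq_mul, mul_one]
    exact add_self_z2 _
  set mt : ℤ := (((c none).val : ℕ) : ℤ) with hmt
  set x : LZ := fun i => mt + 2 * (((c' i).val : ℕ) : ℤ) + (if i = none then 4 * mt else 0) with hx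
  have hmt01 : mt = 0 ∨ mt = 1 := val_bound _
  have hd01 : ∀ i, (((c' i).val : ℕ) : ℤ) = 0 ∨ (((c' i).val : ℕ) : ℤ) = 1 := fun i => val_bound _
  have hdnone : (((c' none).val : ℕ) : ℤ) = 0 := by rw [hc'none]; rfl
  have hw := Cfsg.Agent.Lib.Golay.hammingNorm_of_mem hc'mem
  have hsumd : (4 : ℤ) ∣ ∑ i, (((c' i).val : ℕ) : ℤ) := by
    rw [sum_val_eq]
    rcases hw with h | h | h | h | h <;> rw [h] <;> decide
  have hxmem : x ∈ leechLattice := by
    rw [mem_leechLattice_iff, mem_leechSet_iff]
    refine ⟨mt, fun i => ?_, ?_, ?_⟩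
    · unfold Int.ModEq
      simp only [hx]
      split_ifs <;> omega
    · unfold Int.ModEq
      have hs : ∑ i, x i = 24 * mt + 2 * ∑ i, (((c' i).val : ℕ) : ℤ) + 4 * mt := by
        simp only [hx]
        rw [Finset.sum_add_distrib, Finset.sum_add_distrib, Finset.sum_ite_eq', ← Finset.mul_sum]
        simp only [Finset.sum_const, Finset.card_univ, Finset.mem_univ, if_true, nsmul_eq_mul]
        have hcard : (Fintype.card GolayPt : ℤ) = 24 := by
          have : Fintype.card GolayPt = 24 := rfl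
          rw [this]; rfl
        rw [hcard]
      rw [hs]
      omega
    · have : halfWord x mt = c' := by
        funext i
        simp only [halfWord, hx]
        have e : (mt + 2 * (((c' i).val : ℕ) : ℤ) + (if i = none then 4 * mt else 0) - mt) / 2
            = (((c' i).val : ℕ) : ℤ) + (if i = none then 2 * mt else 0) := by
          split_ifs <;> omega
        rw [e]
        push_cast
        rw [ZMod.natCast_zmod_val]
        split_ifs
        · have : ((2 : ℤ) : ZMod 2) = 0 := by decide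
          have h2 : ((2 : ZMod 2)) = 0 := by decide
          rw [h2, zero_mul, add_zero]
        · rw [add_zero]
      rw [this]
      exact hc'mem
  refine ⟨⟨x, hxmem⟩, ?_⟩
  apply Subtype.ext
  rw [theta_val]
  funext i
  show thetaFun x i = c i
  simp only [thetaFun]
  have hxn : x none = 5 * mt := by
    simp only [hx, if_true, hdnone]
    ring
  have e : (x i - x none) / 2 + x none = (((c' i).val : ℕ) : ℤ) + 3 * mt + (if i = none then 2 * mt else 0) := by
    rw [hxn]
    simp only [hx]
    split_ifs <;> omega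
  rw [e]
  push_cast
  rw [ZMod.natCast_zmod_val, hmt]
  push_cast
  rw [ZMod.natCast_zmod_val]
  have h2 : ((2 : ZMod 2)) = 0 := by decide
  have h3 : ((3 : ZMod 2)) = 1 := by decide
  have hci : c' i = c i + c none := by
    simp only [hc', Pi.add_apply, Pi.smul_apply, Pi.one_apply, smul_eq_mul, mul_one]
  rw [hci, h3, one_mul]
  have : (if i = none then (2 : ZMod 2) * c none else 0) = 0 := by
    split_ifs
    · rw [h2, zero_mul]
    · rfl
  rw [this, add_zero, add_assoc, add_self_z2, add_zero]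

theorem result : ∃ A : AddSubgroup (Cfsg.GolayPt → ℤ), A ≤ Cfsg.leechLattice ∧ (∀ v ∈ Cfsg.leechLattice, (2 : ℤ) • v ∈ A) ∧ (A.addSubgroupOf Cfsg.leechLattice).index = 2 ^ 12 ∧ ∀ v ∈ A, (32 : ℤ) ∣ Cfsg.sqNorm v := by
  refine ⟨Asub, inf_le_left, two_smul_mem, ?_, norm_dvd⟩
  rw [theta_ker, AddSubgroup.index_ker, AddMonoidHom.range_eq_top.mpr theta_surj]
  rw [Nat.card_congr (AddSubgroup.topEquiv (G := golayCode)).toEquiv]
  rw [Cfsg.Agent.Lib.Golay.natCard_golayCode]
  norm_num

end Cfsg.Agent.S5553
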