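import Cfsg.Statements.S5555
import Cfsg.Agent.S5356
import Cfsg.Agent.Lib.Helper14.SU32

set_option autoImplicit false
set_option linter.all false
open Cfsg

namespace Cfsg.Agent.S5555

open Cfsg.Agent.Lib.Helper83.SylLift

theorem quat_unique_invol : ∀ x y : QuaternionGroup 2,
    x ^ 2 = 1 → y ^ 2 = 1 → x ≠ 1 → y ≠ 1 → x = y := by decide

/-- commuting involutions of `SU_3(2)` are equal (the Sylow 2-subgroups are quaternion) -/
theorem su_comm_invol {F : Type*} [Field F] [Fintype F] (hF : Fintype.card F = 4)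
    (s t : Cfsg.SU 3 F 2) (hs : s * s = 1) (hs1 : s ≠ 1) (ht : t * t = 1) (ht1 : t ≠ 1)
    (hc : s * t = t * s) : s = t := by
  haveI hPn := Cfsg.Agent.Lib.Helper14.SU32.P_normal hF
  obtain ⟨e⟩ := Cfsg.Agent.Lib.Helper14.SU32.quotient_equiv hF
  have hP3 := Cfsg.Agent.Lib.Helper14.SU32.pow_three_of_mem_P hF
  have hnot : ∀ u : Cfsg.SU 3 F 2, u * u = 1 → u ≠ 1 →
      u ∉ Cfsg.Agent.Lib.Helper14.SU32.P hF := by
    intro u hu hu1 huP
    have h3 := hP3 u huP
    apply hu1
    have : u = u ^ 3 * (u * u)⁻¹ := by group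
    rw [this, h3, hu]; group
  set π := QuotientGroup.mk' (Cfsg.Agent.Lib.Helper14.SU32.P hF) with hπ
  have hq : ∀ u : Cfsg.SU 3 F 2, u * u = 1 → u ≠ 1 → (e (π u)) ^ 2 = 1 ∧ e (π u) ≠ 1 := by
    intro u hu hu1
    constructor
    · rw [← map_pow, ← map_pow, pow_two, hu, map_one, map_one]
    · intro h1
      have h2 : π u = 1 := by
        have := e.injective (h1.trans (map_one e).symm)
        exact this
      exact hnot u hu hu1 ((QuotientGroup.eq_one_iff u).mp h2)
  obtain ⟨hs2, hs3⟩ := hq s hs hs1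
  obtain ⟨ht2, ht3⟩ := hq t ht ht1
  have h1 := quat_unique_invol _ _ hs2 ht2 hs3 ht3
  have h2 : π s = π t := e.injective h1
  have h3 : s⁻¹ * t ∈ Cfsg.Agent.Lib.Helper14.SU32.P hF := QuotientGroup.eq.mp h2
  have h4 := hP3 _ h3
  have hsinv : s⁻¹ = s := inv_eq_of_mul_eq_one_right hs
  have h5 : (s⁻¹ * t) * (s⁻¹ * t) = 1 := by
    rw [hsinv]
    calc s * t * (s * t) = s * (t * s) * t := by group
      _ = s * (s * t) * t := by rw [hc]
      _ = (s * s) * (t * t) := by group
      _ = 1 := by rw [hs, ht, one_mul]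
  have h6 : s⁻¹ * t = 1 := by
    have gen : ∀ x : Cfsg.SU 3 F 2, x ^ 3 = 1 → x * x = 1 → x = 1 := by
      intro x hx3 hx2
      have : x = x ^ 3 * (x * x)⁻¹ := by group
      rw [this, hx3, hx2]; group
    exact gen _ h4 h5
  calc s = s * (s⁻¹ * t) := by rw [h6, mul_one]
    _ = t := by group

/-- Let G be a finite group generated by a conjugacy class D of 3-transpositions, with trivial centre and with generalized Fitting subgroup F*(G) = O₂(G) (so the Fitting subgroup is O₂(G) too). If G/O₂(G) is isomorphic to the derived group of SU₃(2) (the group of order 54 generated by nine 3-transpositions), then O₂(G) has a complement in G. -/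
theorem result {G : Type*} [Group G] [Finite G] {D : Set G} (hD : Cfsg.IsThreeTranspositionClass D)
    (hZ : Subgroup.center G = ⊥) (hF : Cfsg.generalizedFittingSubgroup G = Cfsg.pCore 2 G)
    (hq : ∃ (F : Type) (_ : Field F) (_ : Fintype F), Fintype.card F = 4 ∧ Nonempty (G ⧸ Cfsg.pCore 2 G ≃* ↥(commutator ↥(Cfsg.SU 3 F 2)))) :
    ∃ K : Subgroup G, (Cfsg.pCore 2 G).IsComplement' K := by
  classical
  haveI : Fact (Nat.Prime 2) := ⟨Nat.prime_two⟩
  haveI : Fact (Nat.Prime 3) := ⟨by norm_num⟩
  obtain ⟨F, instF, instFt, hF4, ⟨e⟩⟩ := hq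
  have hD' := hD
  obtain ⟨hTS, ⟨d, hd, hDeq⟩, hgen⟩ := hD
  have hconj : ∀ g : G, ∀ x ∈ D, g * x * g⁻¹ ∈ D := by
    intro g x hx
    rw [hDeq, Cfsg.Agent.S5349.mem_conjugatesOf_iff'] at hx ⊢
    exact hx.trans (isConj_iff.mpr ⟨g, rfl⟩)
  have hall : ∀ a ∈ D, ∃ g : G, a = g * d * g⁻¹ := by
    intro a ha
    rw [hDeq, Cfsg.Agent.S5349.mem_conjugatesOf_iff'] at ha
    obtain ⟨g, hg⟩ := isConj_iff.mp ha
    exact ⟨g, hg.symm⟩
  have hsq : ∀ x ∈ D, x * x = 1 := by
    intro x hx
    have := hTS.1 x hx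
    have h2 : x ^ 2 = 1 := by rw [← this]; exact pow_orderOf_eq_one x
    rwa [pow_two] at h2
  set Q : Subgroup G := pCore 2 G with hQ
  haveI hQn : Q.Normal := Cfsg.Agent.Lib.Helper84.pCore_normal 2 G
  have hQ2 : IsPGroup 2 Q := Cfsg.Agent.Lib.Helper84.pCore_isPGroup 2 G
  -- at least two members
  have hD2 : ∃ a ∈ D, ∃ b ∈ D, a ≠ b := by
    by_contra hcon
    push Not at hcon
    have hc : d ∈ Subgroup.center G := by
      rw [Subgroup.mem_center_iff]
      intro g
      have h1 := hcon (g * d * g⁻¹) (hconj g d hd) d hd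
      calc g * d = (g * d * g⁻¹) * g := by group
        _ = d * g := by rw [h1]
    rw [hZ, Subgroup.mem_bot] at hc
    have := hTS.1 d hd
    rw [hc, orderOf_one] at this
    omega
  by_cases hdQ : d ∈ Q
  · -- G is a 2-group
    have htop : Q = ⊤ := by
      rw [eq_top_iff, ← hgen, Subgroup.closure_le]
      intro a ha
      obtain ⟨g, rfl⟩ := hall a ha
      exact hQn.conj_mem d hdQ g
    exact ⟨⊥, by rw [htop]; exact Subgroup.isComplement'_top_bot⟩
  · set π : G →* G ⧸ Q := QuotientGroup.mk' Q with hπ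
    have hπ1 : ∀ x : G, π x = 1 ↔ x ∈ Q := fun x => QuotientGroup.eq_one_iff x
    have hDQ : ∀ a ∈ D, a ∉ Q := by
      intro a ha haQ
      obtain ⟨g, rfl⟩ := hall a ha
      apply hdQ
      have := hQn.conj_mem _ haQ g⁻¹
      have h2 : g⁻¹ * (g * d * g⁻¹) * g⁻¹⁻¹ = d := by group
      rwa [h2] at this
    -- commuting involutions in the quotient are equal
    have hW : ∀ x y : G ⧸ Q, x * x = 1 → x ≠ 1 → y * y = 1 → y ≠ 1 → x * y = y * x → x = y := by
      intro x y hx hx1 hy hy1 hxy
      have key := su_comm_invol hF4 ((e x : commutator (Cfsg.SU 3 F 2)) : Cfsg.SU 3 F 2)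
        ((e y : commutator (Cfsg.SU 3 F 2)) : Cfsg.SU 3 F 2)
        (by rw [← Subgroup.coe_mul, ← map_mul, hx, map_one]; rfl)
        (by
          intro h
          apply hx1
          have : e x = 1 := Subtype.ext h
          exact e.injective (this.trans (map_one e).symm))
        (by rw [← Subgroup.coe_mul, ← map_mul, hy, map_one]; rfl)
        (by
          intro h
          apply hy1
          have : e y = 1 := Subtype.ext h
          exact e.injective (this.trans (map_one e).symm))
        (by rw [← Subgroup.coe_mul, ← Subgroup.coe_mul, ← map_mul, ← map_mul, hxy])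
      exact e.injective (Subtype.ext key)
    obtain ⟨hV1, hV2⟩ := Cfsg.Agent.S5349.result hD' hD2 hd
    have hV : {y : G | y ∈ D ∧ Commute d y} =
        {v : G | v ∈ D ∧ ∀ e ∈ D, Commute v e ↔ Commute d e} := by
      apply Set.Subset.antisymm
      · rintro y ⟨hy, hc⟩
        rw [hV1]
        refine ⟨hy, ?_⟩
        have h1 : π d = π y := by
          apply hW
          · rw [← map_mul, hsq d hd, map_one]
          · intro h; exact hdQ ((hπ1 d).mp h)
          · rw [← map_mul, hsq y hy, map_one]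
          · intro h; exact hDQ y hy ((hπ1 y).mp h)
          · rw [← map_mul, ← map_mul, hc.eq]
        exact QuotientGroup.eq.mp h1
      · rintro v ⟨hv, hve⟩
        exact ⟨hv, ((hve d hd).mpr (Commute.refl d)).symm⟩
    obtain ⟨P, hdP, hsup⟩ := Cfsg.Agent.S5356.result hD' hD2 hd hV
    have hdinv : d⁻¹ = d := inv_eq_of_mul_eq_one_right (hsq d hd)
    have hdd := hsq d hd
    have hNP : ∀ p ∈ (P : Subgroup G), d * p * d⁻¹ ∈ (P : Subgroup G) := by
      intro p hp
      exact (Subgroup.mem_set_normalizer_iff.mp hdP p).mp hp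
    -- the subgroup P ∪ dP
    let T : Subgroup G :=
      { carrier := {x | x ∈ (P : Subgroup G) ∨ d * x ∈ (P : Subgroup G)}
        one_mem' := Or.inl (Subgroup.one_mem _)
        mul_mem' := by
          intro x y hx hy
          rcases hx with hx | hx <;> rcases hy with hy | hy
          · left; exact Subgroup.mul_mem _ hx hy
          · right
            have : d * (x * y) = (d * x * d⁻¹) * (d * y) := by group
            rw [this]; exact Subgroup.mul_mem _ (hNP x hx) hy
          · right
            have : d * (x * y) = (d * x) * y := by group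
            rw [this]; exact Subgroup.mul_mem _ hx hy
          · left
            have : x * y = (d * (d * x) * d⁻¹) * (d * y) := by
              have h1 : d * (d * x) * d⁻¹ * (d * y) = (d * d) * x * y := by group
              rw [h1, hdd, one_mul]
            rw [this]; exact Subgroup.mul_mem _ (hNP _ hx) hy
        inv_mem' := by
          intro x hx
          rcases hx with hx | hx
          · left; exact Subgroup.inv_mem _ hx
          · right
            have : d * x⁻¹ = d * (d * x)⁻¹ * d⁻¹ * (d * d) := by group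
            rw [this, hdd, mul_one]
            exact hNP _ (Subgroup.inv_mem _ hx) }
    have hKT : Subgroup.zpowers d ⊔ (P : Subgroup G) ≤ T := by
      refine sup_le ?_ ?_
      · rw [Subgroup.zpowers_le]
        right
        show d * d ∈ (P : Subgroup G)
        rw [hdd]; exact Subgroup.one_mem _
      · intro p hp; exact Or.inl hp
    refine ⟨Subgroup.zpowers d ⊔ (P : Subgroup G), ?_⟩
    apply Subgroup.isComplement'_of_disjoint_and_mul_eq_univ
    · rw [Subgroup.disjoint_def]
      intro x hxQ hxK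
      have h3 : ∀ z : G, z ∈ (P : Subgroup G) → ∃ k : ℕ, z ^ (3 ^ k) = 1 := by
        intro z hz
        obtain ⟨k, hk⟩ := P.isPGroup' ⟨z, hz⟩
        exact ⟨k, by have := congrArg Subtype.val hk; simpa using this⟩
      have h2 : ∀ z : G, z ∈ Q → ∃ j : ℕ, z ^ (2 ^ j) = 1 := by
        intro z hz
        obtain ⟨j, hj⟩ := hQ2 ⟨z, hz⟩
        exact ⟨j, by have := congrArg Subtype.val hj; simpa using this⟩
      rcases hKT hxK with h | h
      · obtain ⟨k, hk⟩ := h3 x h
        obtain ⟨j, hj⟩ := h2 x hxQ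
        exact eq_one_of_pow2_of_pow3 hj hk
      · exfalso
        obtain ⟨k, hk⟩ := h3 _ h
        have h4 : π (d * x) = π d := by
          rw [map_mul, (hπ1 x).mpr hxQ, mul_one]
        have h5 : (π d) ^ (3 ^ k) = 1 := by rw [← h4, ← map_pow, hk, map_one]
        have h6 : (π d) ^ (2 ^ 1) = 1 := by
          rw [pow_one, pow_two, ← map_mul, hdd, map_one]
        exact hdQ ((hπ1 d).mp (eq_one_of_pow2_of_pow3 h6 h5))
    · have h1 : Q ⊔ (Subgroup.zpowers d ⊔ (P : Subgroup G)) = ⊤ := by
        rw [sup_comm]; exact hsup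
      rw [← Subgroup.normal_mul, h1]; rfl

end Cfsg.Agent.S5555
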