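import Cfsg.Statements.S5559
import Cfsg.Agent.Lib.Helper46.End2
import Cfsg.Agent.Lib.Helper46.End4

set_option autoImplicit false
open Cfsg
open Cfsg.Agent.Lib.Helper46.Mod Cfsg.Agent.Lib.Helper14.SU32

namespace Cfsg.Agent.S5559

/-- Let H be a finite group generated by a conjugacy class E of 3-transpositions with at least two members, with F*(H) = O₂(H), and such that H/O₂(H) has a normal Sylow 3-subgroup of 2-power index (that is, H = O_{2,3,2}(H)). Then H/O₂(H) is isomorphic to the symmetric group of degree 3 or to the derived group of SU₃(2) (of order 54). -/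
theorem result {H : Type*} [Group H] [Finite H] {E : Set H} (hE : Cfsg.IsThreeTranspositionClass E)
    (hE2 : ∃ a ∈ E, ∃ b ∈ E, a ≠ b) (hF : Cfsg.generalizedFittingSubgroup H = Cfsg.pCore 2 H)
    (h232 : ∃ P : Sylow 3 (H ⧸ Cfsg.pCore 2 H), (P : Subgroup (H ⧸ Cfsg.pCore 2 H)).Normal ∧
      ∃ k : ℕ, (P : Subgroup (H ⧸ Cfsg.pCore 2 H)).index = 2 ^ k) :
    Nonempty (H ⧸ Cfsg.pCore 2 H ≃* Equiv.Perm (Fin 3)) ∨
      ∃ (F : Type) (_ : Field F) (_ : Fintype F), Fintype.card F = 4 ∧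
        Nonempty (H ⧸ Cfsg.pCore 2 H ≃* ↥(commutator ↥(Cfsg.SU 3 F 2))) := by
  rcases tt68_aux hE hE2 (Cfsg.pCore 2 H) rfl hF h232 with h | ⟨⟨ψ⟩⟩
  · left; exact h
  · right
    obtain ⟨θ⟩ := su32_commutator_equiv (F := F4c) F4c.card_eq
    exact ⟨F4c, inferInstance, inferInstance, F4c.card_eq, ⟨ψ.symm.trans θ⟩⟩

end Cfsg.Agent.S5559
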