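import Cfsg.Statements.S5562

set_option autoImplicit false
open Cfsg

namespace Cfsg.Agent.S5562

theorem odd_root_unique {G : Type*} [Group G] (u h : G) (hu : Odd (orderOf u)) (huh : u * u = h) :
    u = h ^ ((orderOf h + 1) / 2) := by
  have hcop : (orderOf u).Coprime 2 := Nat.coprime_two_right.mpr hu
  have hm : orderOf h = orderOf u := by
    rw [← huh, ← pow_two]
    exact hcop.orderOf_pow
  rw [hm, ← huh, ← pow_two, ← pow_mul]
  obtain ⟨k, hk⟩ := hu
  have : 2 * ((orderOf u + 1) / 2) = orderOf u + 1 := by omega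
  rw [this, pow_succ, pow_orderOf_eq_one, one_mul]

theorem result {G : Type*} [Group G] [Finite G] (d : G) (hd : orderOf d = 2)
    (hodd : ∀ a ∈ conjugatesOf d, ∀ b ∈ conjugatesOf d, Odd (orderOf (a * b)))
    (x : G) (hx : orderOf x = 2) :
    ∀ e ∈ conjugatesOf d,
      ∃! a : G, a ∈ conjugatesOf d ∧ Commute a x ∧ Commute e (a * x) := by
  intro e he
  have hd2 : d * d = 1 := by
    have := pow_orderOf_eq_one d
    rwa [hd, pow_two] at this
  have hx2 : x * x = 1 := by
    have := pow_orderOf_eq_one x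
    rwa [hx, pow_two] at this
  have hxinv : x⁻¹ = x := inv_eq_of_mul_eq_one_left hx2
  have sq_of_mem : ∀ a ∈ conjugatesOf d, a * a = 1 := by
    intro a ha
    have ha' : IsConj d a := ha
    obtain ⟨c, hc⟩ := isConj_iff.mp ha'
    rw [← hc]
    calc c * d * c⁻¹ * (c * d * c⁻¹) = c * (d * d) * c⁻¹ := by group
      _ = 1 := by rw [hd2]; group
  have he2 : e * e = 1 := sq_of_mem e he
  have heinv : e⁻¹ = e := inv_eq_of_mul_eq_one_left he2
  -- f = x e x is a conjugate of d
  have hf : x * e * x ∈ conjugatesOf d := by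
    have he' : IsConj d e := he
    show IsConj d (x * e * x)
    refine he'.trans ?_
    rw [isConj_iff]
    exact ⟨x, by rw [hxinv]⟩
  set h := x * e * x * e with hh
  have hn : Odd (orderOf h) := hodd _ hf _ he
  -- key uniqueness lemma
  have key : ∀ a ∈ conjugatesOf d, Commute a x → Commute e (a * x) → a = h ^ ((orderOf h + 1) / 2) * e := by
    intro a ha hax haex
    have ha2 : a * a = 1 := sq_of_mem a ha
    have h1 : a * e * a = x * e * x := by
      have h2 : e * (a * x) = a * x * e := haex
      calc a * e * a = a * (e * (a * x)) * x := by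
              have : a * (e * (a * x)) * x = a * e * a * (x * x) := by group
              rw [this, hx2, mul_one]
        _ = a * (a * x * e) * x := by rw [h2]
        _ = (a * a) * x * e * x := by group
        _ = x * e * x := by rw [ha2, one_mul]
    have h3 : (a * e) * (a * e) = h := by
      calc a * e * (a * e) = (a * e * a) * e := by group
        _ = h := by rw [h1]
    have h4 := odd_root_unique (a * e) h (hodd a ha e he) h3
    calc a = (a * e) * e := by rw [mul_assoc, he2, mul_one]
      _ = _ := by rw [← h4]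
  have ehe : e * h * e⁻¹ = h⁻¹ := by
    calc e * h * e⁻¹ = e * x * e * x := by rw [hh]; group
      _ = e⁻¹ * x⁻¹ * e⁻¹ * x⁻¹ := by rw [heinv, hxinv]
      _ = h⁻¹ := by rw [hh]; group
  have xhx : x * h * x⁻¹ = h⁻¹ := by
    calc x * h * x⁻¹ = (x * x) * e * x * e * x⁻¹ := by rw [hh]; group
      _ = e * x * e * x⁻¹ := by rw [hx2, one_mul]
      _ = e⁻¹ * x⁻¹ * e⁻¹ * x⁻¹ := by rw [heinv, hxinv]
      _ = h⁻¹ := by rw [hh]; group
  obtain ⟨m, hm⟩ := hn
  set k := (orderOf h + 1) / 2 with hk
  have h2k : 2 * k = orderOf h + 1 := by omega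
  set g := h ^ k with hg
  have hgg : g * g = h := by
    rw [hg, ← pow_add, ← two_mul, h2k, pow_succ, pow_orderOf_eq_one, one_mul]
  have ege : e * g * e⁻¹ = g⁻¹ := by rw [hg, ← conj_pow, ehe, inv_pow]
  have xgx : x * g * x⁻¹ = g⁻¹ := by rw [hg, ← conj_pow, xhx, inv_pow]
  set c := g ^ k with hc
  have hcc : c * c = g := by
    rw [hc, ← pow_add, ← two_mul, pow_mul, pow_two, hgg]
  have ece : e * c * e⁻¹ = c⁻¹ := by rw [hc, ← conj_pow, ege, inv_pow]
  have hmem : g * e ∈ conjugatesOf d := by
    have he' : IsConj d e := he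
    show IsConj d (g * e)
    refine he'.trans ?_
    rw [isConj_iff]
    refine ⟨c, ?_⟩
    calc c * e * c⁻¹ = c * (e * c * e⁻¹)⁻¹ * e := by group
      _ = c * c * e := by rw [ece, inv_inv]
      _ = g * e := by rw [hcc]
  have hxe : h * e * x = x * e := by
    calc h * e * x = x * e * x * (e * e) * x := by rw [hh]; group
      _ = x * e * (x * x) := by rw [he2]; group
      _ = x * e := by rw [hx2, mul_one]
  have comm1 : Commute (g * e) x := by
    show g * e * x = x * (g * e)
    calc g * e * x = g⁻¹ * ((g * g) * e * x) := by group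
      _ = g⁻¹ * (x * e) := by rw [hgg, hxe]
      _ = (x * g * x⁻¹) * x * e := by rw [xgx]; group
      _ = x * (g * e) := by group
  have comm2 : Commute e (g * e * x) := by
    show e * (g * e * x) = g * e * x * e
    have h5 : h * e * x * e = x := by
      rw [hxe, mul_assoc, he2, mul_one]
    calc e * (g * e * x) = (e * g * e⁻¹) * (e * e) * x := by group
      _ = g⁻¹ * x := by rw [ege, he2, mul_one]
      _ = g⁻¹ * (h * e * x * e) := by rw [h5]
      _ = g⁻¹ * ((g * g) * e * x * e) := by rw [hgg]
      _ = g * e * x * e := by group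
  exact ⟨g * e, ⟨hmem, comm1, comm2⟩, fun a' ha' => key a' ha'.1 ha'.2.1 ha'.2.2⟩

end Cfsg.Agent.S5562
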