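import Cfsg.Statements.S5594
import Cfsg.Agent.Lib.Helper93.LeechAut

set_option autoImplicit false
open Cfsg

namespace Cfsg.Agent.S5594

open Cfsg.Agent.Lib.Helper93.Golay Cfsg.Agent.Lib.Helper93.Leech

/-- code of the permutation `x ↦ -1/x` -/
def cP : ℕ := 1795248432537898728475572672376535

theorem hP : isPermPair cP cP = true := by decide +kernel

theorem projInv_eq : projInv = permOfCode cP cP hP := by
  apply Equiv.ext
  decide +kernel

theorem projInv_mem : projInv ∈ M24 := by
  rw [projInv_eq]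
  exact mem_M24_of_isAut _ _ _ (by decide +kernel)

/-- the dodecad of squares -/
def cD : Finset GolayPt := support₂ (qrWord 0)

theorem cD_mem : cD ∈ CS := ⟨qrWord 0, Submodule.subset_span (Or.inl ⟨0, rfl⟩), rfl⟩

theorem key_facts : ∀ i : GolayPt, projInv.symm (projInv.symm i) = i ∧ (i ∈ cD ↔ projInv.symm i ∉ cD) := by
  decide +kernel

/-- the signed permutation whose square is negation -/
def gFun (x : GolayPt → ℤ) : GolayPt → ℤ := signedPerm projInv cD x

theorem gFun_gFun (x : GolayPt → ℤ) : gFun (gFun x) = -x := by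
  funext i
  obtain ⟨h1, h2⟩ := key_facts i
  simp only [gFun, signedPerm_apply, Pi.neg_apply, h1]
  by_cases hi : i ∈ cD
  · have : projInv.symm i ∉ cD := h2.1 hi
    simp [hi, this]
  · have : projInv.symm i ∈ cD := by
      by_contra h
      exact hi (h2.2 h)
    simp [hi, this]

theorem gFun_mem (v : leechLattice) : gFun v ∈ leechLattice :=
  (mem_leechLattice_iff _).2
    (signedPerm_mem_leechSet projInv_mem cD_mem ((mem_leechLattice_iff _).1 v.2))

theorem gFun_neg (x : GolayPt → ℤ) : gFun (-x) = -gFun x := signedPerm_neg _ _ _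

/-- the lattice automorphism -/
def gPerm : Equiv.Perm leechLattice where
  toFun v := ⟨gFun v, gFun_mem v⟩
  invFun v := ⟨-gFun v, leechLattice.neg_mem (gFun_mem v)⟩
  left_inv v := by
    apply Subtype.ext
    show -gFun (gFun v) = v
    rw [gFun_gFun, neg_neg]
  right_inv v := by
    apply Subtype.ext
    show gFun (-gFun v) = v
    rw [gFun_neg, gFun_gFun, neg_neg]

theorem gPerm_mem : gPerm ∈ Co0 := by
  refine ⟨fun v w => ?_, fun v => ?_⟩
  · apply Subtype.ext
    show gFun ((v : GolayPt → ℤ) + w) = gFun v + gFun w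
    exact signedPerm_add _ _ _ _
  · show sqNorm (gFun v) = sqNorm (v : GolayPt → ℤ)
    exact sqNorm_signedPerm _ _ _

/-- negation -/
def negPerm : Equiv.Perm leechLattice := Equiv.neg _

theorem negPerm_mem : negPerm ∈ Co0 := by
  refine ⟨fun v w => ?_, fun v => ?_⟩
  · show -(v + w) = -v + -w
    rw [neg_add]
  · show sqNorm ((-v : leechLattice) : GolayPt → ℤ) = sqNorm (v : GolayPt → ℤ)
    simp [sqNorm]

theorem gPerm_sq : gPerm * gPerm = negPerm := by
  apply Equiv.ext
  intro v
  apply Subtype.ext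
  show gFun (gFun v) = -(v : GolayPt → ℤ)
  exact gFun_gFun _

/-- a nonzero lattice vector -/
theorem four_mem : (fun _ => 4 : GolayPt → ℤ) ∈ leechLattice := by
  rw [mem_leechLattice_iff, mem_leechSet_iff']
  refine ⟨0, fun i => by norm_num, ?_, ?_⟩
  · simp [card_golayPt]
  · have : cls (fun _ => 4 : GolayPt → ℤ) (0 + 2) = ∅ := by
      ext i
      rw [mem_cls]
      simp
    rw [this]
    exact empty_mem_supports

/-- The automorphism group of the Leech lattice contains the negation map, and the subgroup of order 2 it generates has no complement: the automorphism group is a non-split extension of its quotient by that subgroup (it is not the direct product of a group of order 2 with the first Conway group). -/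
theorem result :
    ∃ n : ↥Cfsg.Co0, (∀ v : ↥Cfsg.leechLattice, ((n • v : ↥Cfsg.leechLattice) : Cfsg.GolayPt → ℤ) = -(v : Cfsg.GolayPt → ℤ)) ∧
    ∀ K : Subgroup ↥Cfsg.Co0, ¬ (Subgroup.zpowers n).IsComplement' K := by
  refine ⟨⟨negPerm, negPerm_mem⟩, fun v => rfl, fun K hK => ?_⟩
  set n : ↥Co0 := ⟨negPerm, negPerm_mem⟩ with hn
  set g : ↥Co0 := ⟨gPerm, gPerm_mem⟩ with hg
  have hgg : g * g = n := Subtype.ext gPerm_sq
  have hcentral : ∀ f : ↥Co0, f * n = n * f := by
    intro f
    apply Subtype.ext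
    apply Equiv.ext
    intro v
    show (f : Equiv.Perm leechLattice) (-v) = -((f : Equiv.Perm leechLattice) v)
    have hadd := f.2.1
    have h0 : (f : Equiv.Perm leechLattice) 0 = 0 := by
      have := hadd 0 0
      rw [add_zero] at this
      exact (add_eq_left.1 this.symm)
    have := hadd (-v) v
    rw [neg_add_cancel, h0] at this
    exact eq_neg_of_add_eq_zero_left this.symm
  have hnn : n * n = 1 := by
    apply Subtype.ext
    apply Equiv.ext
    intro v
    show -(-v) = v
    exact neg_neg v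
  have hn1 : n ≠ 1 := by
    intro h
    have h1 : (n : Equiv.Perm leechLattice) ⟨_, four_mem⟩ = ⟨_, four_mem⟩ := by
      rw [h]; rfl
    have h2 : (-(fun _ => 4 : GolayPt → ℤ)) = (fun _ => 4 : GolayPt → ℤ) := congrArg Subtype.val h1
    have h3 := congrFun h2 none
    simp at h3
  -- decompose g
  obtain ⟨⟨h, k⟩, hhk⟩ := hK.2 g
  simp only at hhk
  obtain ⟨j, hj⟩ := Subgroup.mem_zpowers_iff.1 h.2
  have hcomm : ∀ f : ↥Co0, f * (h : ↥Co0) = (h : ↥Co0) * f := by
    intro f
    rw [← hj]
    exact ((Commute.zpow_right (hcentral f) j)).eq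
  have hhh : (h : ↥Co0) * (h : ↥Co0) = 1 := by
    rw [← hj, ← zpow_add, ← two_mul, zpow_mul]
    have : n ^ (2 : ℤ) = 1 := by
      rw [zpow_two]; exact hnn
    rw [this, one_zpow]
  have hnK : n ∈ K := by
    have : n = (k : ↥Co0) * (k : ↥Co0) := by
      rw [← hgg, ← hhk]
      calc (h : ↥Co0) * k * ((h : ↥Co0) * k) = (h : ↥Co0) * (k * (h : ↥Co0)) * k := by group
        _ = (h : ↥Co0) * ((h : ↥Co0) * k) * k := by rw [hcomm]
        _ = ((h : ↥Co0) * (h : ↥Co0)) * (k * k) := by group
        _ = (k : ↥Co0) * k := by rw [hhh, one_mul]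
    rw [this]
    exact K.mul_mem k.2 k.2
  have hinj := hK.1
  have heq : ((⟨n, Subgroup.mem_zpowers n⟩ : (Subgroup.zpowers n : Set ↥Co0)),
      (⟨1, K.one_mem⟩ : (K : Set ↥Co0))) = (⟨1, (Subgroup.zpowers n).one_mem⟩, ⟨n, hnK⟩) := by
    apply hinj
    simp
  have := congrArg (fun p => (p.1 : ↥Co0)) heq
  exact hn1 this

end Cfsg.Agent.S5594
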