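import Cfsg.Statements.S5596
import Mathlib
import Cfsg.Agent.Lib.Helper4.LargeExtra5

set_option autoImplicit false
open Cfsg

namespace Cfsg.Agent.S5596

/-- Setting: `z` is an involution of the finite group `G`; for each element `x`, `Q x` is the largest normal 2-subgroup of the centralizer of `x`; `Q z` is extraspecial and contains its own centralizer in `G`. A subgroup `U` is singular when it is elementary abelian, every non-identity element of `U` is conjugate to `z`, and any two non-identity elements `u`, `v` of `U` are orthogonal (`v ∈ Q u`). Write `QU` for the intersection of the `Q u` and `LU` for the join of the `Q u` over the non-identity `u` in `U`. If `U` is singular of order `2 ^ n` with `n ≥ 2`, then `U ≤ QU ≤ LU`, `LU` normalizes `U`, and `LU` induces on `U` its full automorphism group (the general linear group of dimension `n` over the field with two elements): every automorphism of `U` is conjugation by some element of `LU`. -/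
theorem result {G : Type*} [Group G] [Finite G]
    (Q : G → Subgroup G)
    (hQ : ∀ x : G, Q x = (Cfsg.pCore 2 ↥(Subgroup.centralizer ({x} : Set G))).map (Subgroup.centralizer ({x} : Set G)).subtype)
    (z : G) (hz : orderOf z = 2) (hE : Cfsg.IsExtraspecial 2 ↥(Q z))
    (hC : Subgroup.centralizer ((Q z : Subgroup G) : Set G) ≤ Q z)
    (U : Subgroup G) (hU2 : ∀ u ∈ U, u * u = 1)
    (hS : ∀ u ∈ U, u ≠ 1 → ∃ g : G, g * z * g⁻¹ = u)
    (hO : ∀ u ∈ U, ∀ v ∈ U, u ≠ 1 → v ≠ 1 → v ∈ Q u)
    (QU LU : Subgroup G) (hQU : QU = ⨅ u ∈ ((U : Set G) \ {1}), Q u) (hLU : LU = ⨆ u ∈ ((U : Set G) \ {1}), Q u)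
    (n : ℕ) (hn : 2 ≤ n) (hcard : Nat.card ↥U = 2 ^ n) :
    U ≤ QU ∧ QU ≤ LU ∧ LU ≤ Subgroup.normalizer (U : Set G) ∧
      ∀ φ : ↥U ≃* ↥U, ∃ g ∈ LU, ∀ u : ↥U, g * (u : G) * g⁻¹ = ((φ u : ↥U) : G) := by
  have hSp : Cfsg.Agent.Lib.Helper4.LX.Spec Q := hQ
  have h0 := Cfsg.Agent.Lib.Helper4.LX.LE.of_hyp hSp hz hE hC
  have hLE : ∀ u ∈ U, u ≠ 1 → Cfsg.Agent.Lib.Helper4.LX.LE Q u := by
    intro u hu hu1
    obtain ⟨g, rfl⟩ := hS u hu hu1
    exact h0.conj hSp g
  have hmemD : ∀ u, u ∈ ((U : Set G) \ {1}) ↔ u ∈ U ∧ u ≠ 1 := by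
    intro u
    rw [Set.mem_sdiff, Set.mem_singleton_iff]; rfl
  have hUQ : ∀ u ∈ U, u ≠ 1 → U ≤ Q u := by
    intro u hu hu1 v hv
    by_cases hv1 : v = 1
    · rw [hv1]; exact (Q u).one_mem
    · exact hO u hu v hv hu1 hv1
  have hQUle : ∀ u ∈ U, u ≠ 1 → QU ≤ Q u := by
    intro u hu hu1
    rw [hQU]
    exact iInf₂_le u ((hmemD u).2 ⟨hu, hu1⟩)
  have hQLU : ∀ u ∈ U, u ≠ 1 → Q u ≤ LU := by
    intro u hu hu1
    rw [hLU]
    exact le_iSup₂ (f := fun u (_ : u ∈ ((U : Set G) \ {1})) => Q u) u ((hmemD u).2 ⟨hu, hu1⟩)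
  have hconjU : ∀ u ∈ U, u ≠ 1 → ∀ g ∈ Q u, ∀ v ∈ U, g * v * g⁻¹ ∈ U := by
    intro u hu hu1 g hg v hv
    have hvQ : v ∈ Q u := hUQ u hu hu1 hv
    have e : g * v * g⁻¹ = (g * v * g⁻¹ * v⁻¹) * v := by group
    rw [e]
    rcases (hLE u hu hu1).comm g hg v hvQ with e' | e'
    · rw [e', one_mul]; exact hv
    · rw [e']; exact U.mul_mem hu hv
  -- a nonidentity element of U
  obtain ⟨u0, hu0, hu01⟩ : ∃ u0 ∈ U, u0 ≠ 1 := by
    by_contra hcon
    push Not at hcon
    have : U = ⊥ := by
      rw [Subgroup.eq_bot_iff_forall]; exact hcon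
    rw [this, Subgroup.card_bot] at hcard
    have : 2 ^ n ≥ 2 ^ 2 := Nat.pow_le_pow_right (by norm_num) hn
    omega
  have hLUN : LU ≤ Subgroup.normalizer (U : Set G) := by
    rw [hLU]
    refine iSup₂_le fun u hu => ?_
    have huU := ((hmemD u).1 hu).1
    have hu1 := ((hmemD u).1 hu).2
    intro g hg
    rw [Subgroup.mem_normalizer_iff]
    intro v
    constructor
    · exact hconjU u huU hu1 g hg v
    · intro hv
      have := hconjU u huU hu1 g⁻¹ ((Q u).inv_mem hg) _ hv
      have e : g⁻¹ * (g * v * g⁻¹) * g⁻¹⁻¹ = v := by group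
      rwa [e] at this
  refine ⟨?_, ?_, hLUN, ?_⟩
  · rw [hQU]
    refine le_iInf₂ fun u hu => ?_
    exact hUQ u ((hmemD u).1 hu).1 ((hmemD u).1 hu).2
  · exact (hQUle u0 hu0 hu01).trans (hQLU u0 hu0 hu01)
  -- automorphisms
  have hUcomm : ∀ x ∈ U, ∀ y ∈ U, x * y = y * x := by
    intro x hx y hy
    have h3 := hU2 (x * y) (U.mul_mem hx hy)
    have h4 := hU2 x hx
    have h5 := hU2 y hy
    calc x * y = (y * y) * (x * y) * (x * x) := by rw [h4, h5]; group
      _ = y * (y * x) * (y * x) * x := by group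
      _ = y * ((y * x) * (y * x)) * x := by group
      _ = y * x := by
        have : (y * x) * (y * x) = 1 := hU2 _ (U.mul_mem hy hx)
        rw [this]; group
  have hUinv : ∀ x ∈ U, x⁻¹ = x := fun x hx => inv_eq_of_mul_eq_one_right (hU2 x hx)
  have main : ∀ ψ : ↥U ≃* ↥U, ∃ g ∈ LU, ∀ w : ↥U, g * ((ψ w : ↥U) : G) * g⁻¹ = (w : G) := by
    intro ψ
    let p : Subgroup G → Prop := fun W => W ≤ U ∧
      ∃ g ∈ LU, ∀ w : ↥U, (w : G) ∈ W → g * ((ψ w : ↥U) : G) * g⁻¹ = (w : G)
    have hp0 : p ⊥ := by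
      refine ⟨bot_le, 1, LU.one_mem, ?_⟩
      intro w hw
      rw [Subgroup.mem_bot] at hw
      have : w = 1 := Subtype.ext hw
      rw [this, map_one]; simp
    obtain ⟨W, -, hWmax⟩ := Finite.exists_le_maximal (p := p) hp0
    obtain ⟨hWU, g, hgLU, hg⟩ := hWmax.prop
    by_cases hWtop : U ≤ W
    · exact ⟨g, hgLU, fun w => hg w (hWtop w.2)⟩
    exfalso
    obtain ⟨a, haU, haW⟩ := SetLike.not_le_iff_exists.1 hWtop
    -- b = g ψ(a) g⁻¹
    set b : G := g * ((ψ ⟨a, haU⟩ : ↥U) : G) * g⁻¹ with hb
    have hbU : b ∈ U := by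
      have hgN := hLUN hgLU
      rw [Subgroup.mem_normalizer_iff] at hgN
      exact (hgN _).1 (ψ ⟨a, haU⟩).2
    have hbW : b ∉ W := by
      intro hbW
      have h1 := hg ⟨b, hbU⟩ hbW
      have h2 : ((ψ ⟨b, hbU⟩ : ↥U) : G) = ((ψ ⟨a, haU⟩ : ↥U) : G) := by
        have : g * ((ψ ⟨b, hbU⟩ : ↥U) : G) * g⁻¹ = g * ((ψ ⟨a, haU⟩ : ↥U) : G) * g⁻¹ := by
          rw [h1]
        calc ((ψ ⟨b, hbU⟩ : ↥U) : G) = g⁻¹ * (g * ((ψ ⟨b, hbU⟩ : ↥U) : G) * g⁻¹) * g := by group
          _ = g⁻¹ * (g * ((ψ ⟨a, haU⟩ : ↥U) : G) * g⁻¹) * g := by rw [this]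
          _ = ((ψ ⟨a, haU⟩ : ↥U) : G) := by group
      have h3 : (⟨b, hbU⟩ : ↥U) = ⟨a, haU⟩ := ψ.injective (Subtype.ext h2)
      have h4 : b = a := congrArg Subtype.val h3
      rw [h4] at hbW
      exact haW hbW
    -- extend
    have hext : ∃ g' ∈ LU, (∀ w : ↥U, (w : G) ∈ W → g' * ((ψ w : ↥U) : G) * g'⁻¹ = (w : G)) ∧
        g' * ((ψ ⟨a, haU⟩ : ↥U) : G) * g'⁻¹ = a := by
      by_cases hba : b = a
      · exact ⟨g, hgLU, hg, hba⟩
      · set u : G := a * b with hu
        have huU : u ∈ U := U.mul_mem haU hbU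
        have hu1 : u ≠ 1 := by
          intro e
          apply hba
          calc b = a⁻¹ * (a * b) := by group
            _ = a := by rw [← hu, e, hUinv a haU]; group
        have huu : u * u = 1 := hU2 u huU
        -- W1 = closure (W ∪ {u})
        let W1 : Subgroup G := Subgroup.closure ((W : Set G) ∪ {u})
        have hW1U : W1 ≤ U := by
          rw [Subgroup.closure_le]
          intro v hv
          rcases hv with hv | hv
          · exact hWU hv
          · rw [Set.mem_singleton_iff] at hv; rw [hv]; exact huU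
        have hW1 : ∀ v ∈ W1, v ∈ W ∨ v * u ∈ W := by
          intro v hv
          have : v ∈ U ∧ (v ∈ W ∨ v * u ∈ W) := by
            induction hv using Subgroup.closure_induction with
            | mem x hx =>
              rcases hx with hx | hx
              · exact ⟨hWU hx, Or.inl hx⟩
              · rw [Set.mem_singleton_iff] at hx
                rw [hx]
                exact ⟨huU, Or.inr (by rw [huu]; exact W.one_mem)⟩
            | one => exact ⟨U.one_mem, Or.inl W.one_mem⟩
            | mul x y _ _ ihx ihy =>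
              obtain ⟨hxU, hx⟩ := ihx
              obtain ⟨hyU, hy⟩ := ihy
              refine ⟨U.mul_mem hxU hyU, ?_⟩
              rcases hx with hx | hx <;> rcases hy with hy | hy
              · exact Or.inl (W.mul_mem hx hy)
              · right
                have : x * y * u = x * (y * u) := by group
                rw [this]; exact W.mul_mem hx hy
              · right
                have : x * y * u = (x * u) * y := by
                  calc x * y * u = x * (y * u) := by group
                    _ = x * (u * y) := by rw [hUcomm y hyU u huU]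
                    _ = (x * u) * y := by group
                rw [this]; exact W.mul_mem hx hy
              · left
                have : x * y = (x * u) * (y * u) := by
                  calc x * y = x * (u * u) * y := by rw [huu]; group
                    _ = x * u * (u * y) := by group
                    _ = x * u * (y * u) := by rw [hUcomm u huU y hyU]
                rw [this]; exact W.mul_mem hx hy
            | inv x _ ihx =>
              obtain ⟨hxU, hx⟩ := ihx
              rw [hUinv x hxU]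
              exact ⟨hxU, hx⟩
          exact this.2
        have hbW1 : b ∉ W1 := by
          intro hbW1
          rcases hW1 b hbW1 with h | h
          · exact hbW h
          · apply haW
            have : b * u = a := by
              calc b * u = b * (a * b) := by rw [hu]
                _ = b * (b * a) := by rw [hUcomm a haU b hbU]
                _ = (b * b) * a := by group
                _ = a := by rw [hU2 b hbU]; group
            rwa [this] at h
        have huW1 : u ∈ W1 := Subgroup.subset_closure (Or.inr rfl)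
        have hWW1 : W ≤ W1 := fun v hv => Subgroup.subset_closure (Or.inl hv)
        obtain ⟨g1, hg1, hg1c, hg1b⟩ := (hLE u huU hu1).exists_cent_move hSp W1
          (hW1U.trans (hUQ u huU hu1)) huW1 (hUQ u huU hu1 hbU) hbW1
        refine ⟨g1 * g, LU.mul_mem (hQLU u huU hu1 hg1) hgLU, ?_, ?_⟩
        · intro w hw
          have e : g1 * g * ((ψ w : ↥U) : G) * (g1 * g)⁻¹ =
              g1 * (g * ((ψ w : ↥U) : G) * g⁻¹) * g1⁻¹ := by group
          rw [e, hg w hw]
          have := hg1c (w : G) (hWW1 hw)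
          calc g1 * (w : G) * g1⁻¹ = ((w : G) * g1) * g1⁻¹ := by rw [this]
            _ = w := by group
        · have e : g1 * g * ((ψ ⟨a, haU⟩ : ↥U) : G) * (g1 * g)⁻¹ = g1 * b * g1⁻¹ := by
            rw [hb]; group
          rw [e]
          calc g1 * b * g1⁻¹ = (g1 * b * g1⁻¹ * b⁻¹) * b := by group
            _ = u * b := by rw [hg1b]
            _ = a * (b * b) := by rw [hu]; group
            _ = a := by rw [hU2 b hbU]; group
    obtain ⟨g', hg'LU, hg'W, hg'a⟩ := hext
    -- the subgroup W' = closure (W ∪ {a}) satisfies p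
    let W' : Subgroup G := Subgroup.closure ((W : Set G) ∪ {a})
    have hW'U : W' ≤ U := by
      rw [Subgroup.closure_le]
      intro v hv
      rcases hv with hv | hv
      · exact hWU hv
      · rw [Set.mem_singleton_iff] at hv; rw [hv]; exact haU
    have hpW' : p W' := by
      refine ⟨hW'U, g', hg'LU, ?_⟩
      intro w hw
      -- the set of fixed elements is a subgroup
      let F : Subgroup G :=
        { carrier := {v | ∃ hv : v ∈ U, g' * ((ψ ⟨v, hv⟩ : ↥U) : G) * g'⁻¹ = v}
          one_mem' := by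
            refine ⟨U.one_mem, ?_⟩
            have : (⟨1, U.one_mem⟩ : ↥U) = 1 := rfl
            rw [this, map_one]; simp
          mul_mem' := by
            rintro x y ⟨hx, ex⟩ ⟨hy, ey⟩
            refine ⟨U.mul_mem hx hy, ?_⟩
            have : (⟨x * y, U.mul_mem hx hy⟩ : ↥U) = ⟨x, hx⟩ * ⟨y, hy⟩ := rfl
            rw [this, map_mul, Subgroup.coe_mul]
            calc g' * (((ψ ⟨x, hx⟩ : ↥U) : G) * ((ψ ⟨y, hy⟩ : ↥U) : G)) * g'⁻¹
                = (g' * ((ψ ⟨x, hx⟩ : ↥U) : G) * g'⁻¹) * (g' * ((ψ ⟨y, hy⟩ : ↥U) : G) * g'⁻¹) := by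
                  group
              _ = x * y := by rw [ex, ey]
          inv_mem' := by
            rintro x ⟨hx, ex⟩
            refine ⟨U.inv_mem hx, ?_⟩
            have : (⟨x⁻¹, U.inv_mem hx⟩ : ↥U) = (⟨x, hx⟩ : ↥U)⁻¹ := rfl
            rw [this, map_inv, Subgroup.coe_inv]
            calc g' * ((ψ ⟨x, hx⟩ : ↥U) : G)⁻¹ * g'⁻¹
                = (g' * ((ψ ⟨x, hx⟩ : ↥U) : G) * g'⁻¹)⁻¹ := by group
              _ = x⁻¹ := by rw [ex] }
      have hW'F : W' ≤ F := by
        rw [Subgroup.closure_le]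
        intro v hv
        rcases hv with hv | hv
        · exact ⟨hWU hv, hg'W ⟨v, hWU hv⟩ hv⟩
        · rw [Set.mem_singleton_iff] at hv
          subst hv
          exact ⟨haU, hg'a⟩
      obtain ⟨hv, e⟩ := hW'F hw
      exact e
    have hWW' : W ≤ W' := fun v hv => Subgroup.subset_closure (Or.inl hv)
    have := hWmax.le_of_ge hpW' hWW'
    exact haW (this (Subgroup.subset_closure (Or.inr rfl)))
  intro φ
  obtain ⟨g, hgLU, hg⟩ := main φ.symm
  refine ⟨g, hgLU, fun u => ?_⟩
  have := hg (φ u)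
  rw [MulEquiv.symm_apply_apply] at this
  exact this

end Cfsg.Agent.S5596
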