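import Cfsg.Statements.S5597
import Mathlib
import Cfsg.Agent.Lib.Helper4.LargeExtra5

set_option autoImplicit false
open Cfsg

namespace Cfsg.Agent.S5597

/-- Setting: `z` is an involution of the finite group `G`; for each element `x`, `Q x` is the largest normal 2-subgroup of the centralizer of `x`; `Q z` is extraspecial and contains its own centralizer in `G`. A subgroup `U` is singular when it is elementary abelian, every non-identity element of `U` is conjugate to `z`, and any two non-identity elements `u`, `v` of `U` are orthogonal (`v ∈ Q u`). Write `QU` for the intersection of the `Q u` and `LU` for the join of the `Q u` over the non-identity `u` in `U`. If `U` is a non-trivial singular subgroup, then `LU` acts trivially on `QU / U` (every commutator of an element of `LU` with an element of `QU` lies in `U`), and for every `x` in `QU` outside `U` the centralizer of `U` in `LU` permutes the coset `x U` transitively: each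 `x u` with `u ∈ U` is a conjugate of `x` by an element of `LU` centralizing `U`. -/
theorem result {G : Type*} [Group G] [Finite G]
    (Q : G → Subgroup G)
    (hQ : ∀ x : G, Q x = (Cfsg.pCore 2 ↥(Subgroup.centralizer ({x} : Set G))).map (Subgroup.centralizer ({x} : Set G)).subtype)
    (z : G) (hz : orderOf z = 2) (hE : Cfsg.IsExtraspecial 2 ↥(Q z))
    (hC : Subgroup.centralizer ((Q z : Subgroup G) : Set G) ≤ Q z)
    (U : Subgroup G) (hU2 : ∀ u ∈ U, u * u = 1)
    (hS : ∀ u ∈ U, u ≠ 1 → ∃ g : G, g * z * g⁻¹ = u)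
    (hO : ∀ u ∈ U, ∀ v ∈ U, u ≠ 1 → v ≠ 1 → v ∈ Q u)
    (QU LU : Subgroup G) (hQU : QU = ⨅ u ∈ ((U : Set G) \ {1}), Q u) (hLU : LU = ⨆ u ∈ ((U : Set G) \ {1}), Q u)
    (hU : U ≠ ⊥) :
    (∀ g ∈ LU, ∀ x ∈ QU, g * x * g⁻¹ * x⁻¹ ∈ U) ∧
      ∀ x ∈ QU, x ∉ U → ∀ u ∈ U, ∃ g ∈ LU ⊓ Subgroup.centralizer (U : Set G), g * x * g⁻¹ = x * u := by
  have hSp : Cfsg.Agent.Lib.Helper4.LX.Spec Q := hQ
  have h0 := Cfsg.Agent.Lib.Helper4.LX.LE.of_hyp hSp hz hE hC
  have hLE : ∀ u ∈ U, u ≠ 1 → Cfsg.Agent.Lib.Helper4.LX.LE Q u := by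
    intro u hu hu1
    obtain ⟨g, rfl⟩ := hS u hu hu1
    exact h0.conj hSp g
  have hmemD : ∀ u, u ∈ ((U : Set G) \ {1}) ↔ u ∈ U ∧ u ≠ 1 := by
    intro u
    rw [Set.mem_sdiff, Set.mem_singleton_iff]; rfl
  -- U ≤ Q u
  have hUQ : ∀ u ∈ U, u ≠ 1 → U ≤ Q u := by
    intro u hu hu1 v hv
    by_cases hv1 : v = 1
    · rw [hv1]; exact (Q u).one_mem
    · exact hO u hu v hv hu1 hv1
  -- QU ≤ Q u
  have hQUle : ∀ u ∈ U, u ≠ 1 → QU ≤ Q u := by
    intro u hu hu1
    rw [hQU]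
    exact iInf₂_le u ((hmemD u).2 ⟨hu, hu1⟩)
  have hQLU : ∀ u ∈ U, u ≠ 1 → Q u ≤ LU := by
    intro u hu hu1
    rw [hLU]
    exact le_iSup₂ (f := fun u (_ : u ∈ ((U : Set G) \ {1})) => Q u) u ((hmemD u).2 ⟨hu, hu1⟩)
  -- Q u normalizes U
  have hconjU : ∀ u ∈ U, u ≠ 1 → ∀ g ∈ Q u, ∀ v ∈ U, g * v * g⁻¹ ∈ U := by
    intro u hu hu1 g hg v hv
    have hvQ : v ∈ Q u := hUQ u hu hu1 hv
    have e : g * v * g⁻¹ = (g * v * g⁻¹ * v⁻¹) * v := by group
    rw [e]
    rcases (hLE u hu hu1).comm g hg v hvQ with e' | e'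
    · rw [e', one_mul]; exact hv
    · rw [e']; exact U.mul_mem hu hv
  -- the subgroup of elements normalizing U and acting trivially on QU / U
  let K : Subgroup G :=
    { carrier := {g | (∀ v ∈ U, g * v * g⁻¹ ∈ U) ∧ (∀ v ∈ U, g⁻¹ * v * g ∈ U) ∧
        ∀ x ∈ QU, g * x * g⁻¹ * x⁻¹ ∈ U}
      one_mem' := by
        refine ⟨fun v hv => by simpa using hv, fun v hv => by simpa using hv, fun x _ => ?_⟩
        have : (1 : G) * x * 1⁻¹ * x⁻¹ = 1 := by group
        rw [this]; exact U.one_mem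
      mul_mem' := by
        rintro a b ⟨ha1, ha2, ha3⟩ ⟨hb1, hb2, hb3⟩
        refine ⟨fun v hv => ?_, fun v hv => ?_, fun x hx => ?_⟩
        · have : a * b * v * (a * b)⁻¹ = a * (b * v * b⁻¹) * a⁻¹ := by group
          rw [this]; exact ha1 _ (hb1 v hv)
        · have : (a * b)⁻¹ * v * (a * b) = b⁻¹ * (a⁻¹ * v * a) * b := by group
          rw [this]; exact hb2 _ (ha2 v hv)
        · have : a * b * x * (a * b)⁻¹ * x⁻¹ =
              (a * (b * x * b⁻¹ * x⁻¹) * a⁻¹) * (a * x * a⁻¹ * x⁻¹) := by group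
          rw [this]; exact U.mul_mem (ha1 _ (hb3 x hx)) (ha3 x hx)
      inv_mem' := by
        rintro a ⟨ha1, ha2, ha3⟩
        refine ⟨fun v hv => ?_, fun v hv => ?_, fun x hx => ?_⟩
        · simpa using ha2 v hv
        · simpa using ha1 v hv
        · have : a⁻¹ * x * a⁻¹⁻¹ * x⁻¹ = a⁻¹ * (a * x * a⁻¹ * x⁻¹)⁻¹ * a := by group
          rw [this]; exact ha2 _ (U.inv_mem (ha3 x hx)) }
  have hQK : ∀ u ∈ U, u ≠ 1 → Q u ≤ K := by
    intro u hu hu1 g hg
    refine ⟨hconjU u hu hu1 g hg, fun v hv => ?_, fun x hx => ?_⟩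
    · simpa using hconjU u hu hu1 g⁻¹ ((Q u).inv_mem hg) v hv
    · rcases (hLE u hu hu1).comm g hg x (hQUle u hu hu1 hx) with e | e
      · rw [e]; exact U.one_mem
      · rw [e]; exact hu
  have hLUK : LU ≤ K := by
    rw [hLU]
    exact iSup₂_le fun u hu => hQK u ((hmemD u).1 hu).1 ((hmemD u).1 hu).2
  refine ⟨fun g hg x hx => (hLUK hg).2.2 x hx, ?_⟩
  intro x hx hxU u hu
  by_cases hu1 : u = 1
  · refine ⟨1, Subgroup.one_mem _, ?_⟩
    rw [hu1]; group
  · have hxQ : x ∈ Q u := hQUle u hu hu1 hx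
    obtain ⟨g, hg, hgU, hgx⟩ :=
      (hLE u hu hu1).exists_cent_move hSp U (hUQ u hu hu1) hu hxQ hxU
    refine ⟨g, ⟨hQLU u hu hu1 hg, ?_⟩, ?_⟩
    · show g ∈ Subgroup.centralizer (U : Set G)
      rw [Subgroup.mem_centralizer_iff]
      intro v hv
      exact hgU v hv
    · have hxu : x * u = u * x := Cfsg.Agent.Lib.Helper4.LX.Q_comm hSp hxQ
      calc g * x * g⁻¹ = (g * x * g⁻¹ * x⁻¹) * x := by group
        _ = u * x := by rw [hgx]
        _ = x * u := hxu.symm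

end Cfsg.Agent.S5597
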