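import Cfsg.Statements.S5598
import Mathlib
import Cfsg.Agent.Lib.Helper4.LargeExtra4

set_option autoImplicit false
open Cfsg

namespace Cfsg.Agent.S5598

/-- Setting: `z` is an involution of the finite group `G`; for each element `x`, `Q x` is the largest normal 2-subgroup of the centralizer of `x`; `Q z` is extraspecial and contains its own centralizer in `G`. A subgroup `U` is singular when it is elementary abelian, every non-identity element of `U` is conjugate to `z`, and any two non-identity elements `u`, `v` of `U` are orthogonal (`v ∈ Q u`). Write `QU` for the intersection of the `Q u` and `LU` for the join of the `Q u` over the non-identity `u` in `U`. If the singular subgroup `U` is generated by a set `T` of non-identity elements, then `QU` is already the intersection of the `Q t` over `t ∈ T`. -/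
theorem result {G : Type*} [Group G] [Finite G]
    (Q : G → Subgroup G)
    (hQ : ∀ x : G, Q x = (Cfsg.pCore 2 ↥(Subgroup.centralizer ({x} : Set G))).map (Subgroup.centralizer ({x} : Set G)).subtype)
    (z : G) (hz : orderOf z = 2) (hE : Cfsg.IsExtraspecial 2 ↥(Q z))
    (hC : Subgroup.centralizer ((Q z : Subgroup G) : Set G) ≤ Q z)
    (U : Subgroup G) (hU2 : ∀ u ∈ U, u * u = 1)
    (hS : ∀ u ∈ U, u ≠ 1 → ∃ g : G, g * z * g⁻¹ = u)
    (hO : ∀ u ∈ U, ∀ v ∈ U, u ≠ 1 → v ≠ 1 → v ∈ Q u)
    (QU LU : Subgroup G) (hQU : QU = ⨅ u ∈ ((U : Set G) \ {1}), Q u) (hLU : LU = ⨆ u ∈ ((U : Set G) \ {1}), Q u)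
    (T : Set G) (hT : Subgroup.closure T = U) (hT1 : (1 : G) ∉ T) :
    QU = ⨅ t ∈ T, Q t := by
  have hSp : Cfsg.Agent.Lib.Helper4.LX.Spec Q := hQ
  have h0 := Cfsg.Agent.Lib.Helper4.LX.LE.of_hyp hSp hz hE hC
  have hLE : ∀ u ∈ U, u ≠ 1 → Cfsg.Agent.Lib.Helper4.LX.LE Q u := by
    intro u hu hu1
    obtain ⟨g, rfl⟩ := hS u hu hu1
    exact h0.conj hSp g
  have hTU : ∀ t ∈ T, t ∈ U := fun t ht => hT ▸ Subgroup.subset_closure ht
  rw [hQU]
  apply le_antisymm
  · refine le_iInf₂ fun t ht => ?_
    exact iInf₂_le t ⟨hTU t ht, fun h => hT1 (by rw [Set.mem_singleton_iff] at h; exact h ▸ ht)⟩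
  · intro y hy
    have hyT : ∀ t ∈ T, y ∈ Q t := by
      intro t ht
      have := hy
      rw [Subgroup.mem_iInf] at this
      have h2 := this t
      rw [Subgroup.mem_iInf] at h2
      exact h2 ht
    have key : ∀ u (hu : u ∈ Subgroup.closure T), u = 1 ∨ y ∈ Q u := by
      intro u hu
      induction hu using Subgroup.closure_induction with
      | mem x hx => exact Or.inr (hyT x hx)
      | one => exact Or.inl rfl
      | mul a b ha hb iha ihb =>
        have haU : a ∈ U := hT ▸ ha
        have hbU : b ∈ U := hT ▸ hb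
        by_cases ha1 : a = 1
        · rw [ha1, one_mul]; exact ihb
        by_cases hb1 : b = 1
        · rw [hb1, mul_one]; exact iha
        by_cases hab1 : a * b = 1
        · exact Or.inl hab1
        right
        have hya : y ∈ Q a := iha.resolve_left ha1
        have hyb : y ∈ Q b := ihb.resolve_left hb1
        have hne : a ≠ b := by
          intro e
          apply hab1
          rw [e]; exact hU2 b hbU
        exact (hLE a haU ha1).inter_le_mul hSp (hLE b hbU hb1) (hO b hbU a haU hb1 ha1)
          (hO a haU b hbU ha1 hb1) hne hya hyb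
      | inv a ha iha =>
        have haU : a ∈ U := hT ▸ ha
        have : a⁻¹ = a := inv_eq_of_mul_eq_one_right (hU2 a haU)
        rw [this]; exact iha
    rw [Subgroup.mem_iInf]
    intro u
    rw [Subgroup.mem_iInf]
    intro hu
    have huU : u ∈ U := hu.1
    have hu1 : u ≠ 1 := fun h => hu.2 (by rw [Set.mem_singleton_iff]; exact h)
    exact (key u (hT ▸ huU)).resolve_left hu1

end Cfsg.Agent.S5598
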