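import Cfsg.Statements.S5599
import Cfsg.Agent.Lib.Helper93.M24Structure

set_option autoImplicit false
open scoped Pointwise
open Cfsg

namespace Cfsg.Agent.S5599

open Cfsg.Agent.Lib.Helper93 Cfsg.Agent.Lib.Helper93.Golay

def aC : ℕ := 974106702957634420646877203255632992
def bC : ℕ := 969144497643374348478273366675307680
def tree22 : List (ℕ × ℕ × ℕ) :=
  [(8, 18, 0), (4, 8, 0), (2, 8, 1), (10, 4, 0), (14, 4, 1), (9, 2, 0), (15, 2, 1), (1, 10, 0),
   (7, 10, 1), (6, 14, 0), (11, 14, 1), (16, 15, 0), (3, 1, 0), (5, 1, 1), (17, 7, 0), (20, 6, 0),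
   (21, 11, 1), (12, 16, 0), (13, 16, 1), (19, 3, 0), (22, 13, 1)]
def cert22 : List (ℕ × List ℕ) := [(0, [5279]), (23, [8391797])]

/-- The fixed indices of the coded map `S` are exactly those of the mask `m`. -/
def fixExact (S m : ℕ) : Bool :=
  (List.range 24).all fun i => !(Nat.beq (papp S i) i) || m.testBit i

theorem fix_of_fixExact {S m : ℕ} (hS : isPerm S = true) (h : fixExact S m = true) (p : GolayPt)
    (hp : permC S p = p) : m.testBit (ptIdx p) = true := by
  have h1 := ptIdx_permC hS p
  rw [hp] at h1
  have h2 := List.all_eq_true.1 h (ptIdx p) (List.mem_range.2 (ptIdx p).isLt)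
  have h3 : Nat.beq (papp S (ptIdx p)) (ptIdx p) = true := by
    rw [← h1]
    exact Nat.beq_refl _
  rw [h3] at h2
  simpa using h2

theorem aC_ok : (isAutC aC && fixesMask aC 8388609 && fixExact aC 8388609) = true := by
  decide +kernel
theorem bC_ok : (isAutC bC && fixesMask bC 8650753 && fixExact bC 8650753) = true := by
  decide +kernel
theorem tree22_ok : treeRun [aC, bC] (1 <<< 18) tree22 = 8388606 := by decide +kernel
theorem cert22_ok : rigidChain 8388606 cert22 = true := by decide +kernel

theorem mem_M22_iff (x : Equiv.Perm GolayPt) :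
    x ∈ Spor.M22 ↔ x ∈ M24 ∧ x none = none ∧ x (some 0) = some 0 := by
  constructor
  · rintro ⟨⟨h1, h2⟩, h3⟩
    exact ⟨h1, h2, h3⟩
  · rintro ⟨h1, h2, h3⟩
    exact ⟨⟨h1, h2⟩, h3⟩

theorem P0 : P 0 = (some 0 : GolayPt) := by decide
theorem P23 : P 23 = (none : GolayPt) := by decide

theorem mem_M22_of_code {S m : ℕ} (h1 : isAutC S = true) (h2 : fixesMask S m = true)
    (hm0 : m.testBit 0 = true) (hm23 : m.testBit 23 = true) : permC S ∈ Spor.M22 := by
  have hH := permC_mem_Hfix h1 h2
  rw [mem_M22_iff]
  refine ⟨hH.1, ?_, ?_⟩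
  · rw [← P23]
    apply hH.2
    rw [mem_fset_P]
    exact hm23
  · rw [← P0]
    apply hH.2
    rw [mem_fset_P]
    exact hm0

/-- In the automorphism group of the length-24 code, the two-point Mathieu group (permutations of the code's group fixing the extra point and the residue 0) has index 2 in the setwise stabiliser of that pair of points, and an element of the code's group interchanging the two points normalises the two-point group and induces on it, by conjugation, an automorphism that is not inner. -/
theorem result (g : Equiv.Perm Cfsg.GolayPt) (hg : g ∈ Cfsg.M24) (h₁ : g none = some 0) (h₂ : g (some 0) = none) : Cfsg.Spor.M22.relIndex (Cfsg.M24 ⊓ MulAction.stabilizer (Equiv.Perm Cfsg.GolayPt) ({none, some 0} : Finset Cfsg.GolayPt)) = 2 ∧ (∀ x ∈ Cfsg.Spor.M22, g * x * g⁻¹ ∈ Cfsg.Spor.M22) ∧ ¬ ∃ h ∈ Cfsg.Spor.M22, ∀ x ∈ Cfsg.Spor.M22, g * x * g⁻¹ = h * x * h⁻¹ := by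
  have hginv_none : g⁻¹ none = some 0 := by
    rw [Equiv.Perm.inv_eq_iff_eq]; exact h₂.symm
  have hginv_zero : g⁻¹ (some 0) = none := by
    rw [Equiv.Perm.inv_eq_iff_eq]; exact h₁.symm
  refine ⟨?_, ?_, ?_⟩
  · -- index 2
    set K := M24 ⊓ MulAction.stabilizer (Equiv.Perm GolayPt) ({none, some 0} : Finset GolayPt)
      with hK
    have hKmem : ∀ k ∈ K, k none = none ∨ k none = some 0 := by
      intro k hk
      have hk2 := (Subgroup.mem_inf.1 hk).2
      rw [MulAction.mem_stabilizer_iff] at hk2
      have : k none ∈ k • ({none, some 0} : Finset GolayPt) :=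
        Finset.mem_smul_finset.2 ⟨none, by simp, rfl⟩
      rw [hk2] at this
      simpa using this
    have hKmem0 : ∀ k ∈ K, k (some 0) = none ∨ k (some 0) = some 0 := by
      intro k hk
      have hk2 := (Subgroup.mem_inf.1 hk).2
      rw [MulAction.mem_stabilizer_iff] at hk2
      have : k (some 0) ∈ k • ({none, some 0} : Finset GolayPt) :=
        Finset.mem_smul_finset.2 ⟨some 0, by simp, rfl⟩
      rw [hk2] at this
      simpa using this
    have hgK : g ∈ K := by
      refine Subgroup.mem_inf.2 ⟨hg, ?_⟩
      rw [MulAction.mem_stabilizer_iff]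
      ext p
      rw [Finset.mem_smul_finset]
      constructor
      · rintro ⟨q, hq, rfl⟩
        simp only [Finset.mem_insert, Finset.mem_singleton] at hq ⊢
        rcases hq with rfl | rfl
        · right; exact h₁
        · left; exact h₂
      · intro hp
        simp only [Finset.mem_insert, Finset.mem_singleton] at hp
        rcases hp with rfl | rfl
        · exact ⟨some 0, by simp, h₂⟩
        · exact ⟨none, by simp, h₁⟩
    have hcard := card_eq_ncard_mul_card_inf_stabilizer (G := Equiv.Perm GolayPt) K
      (none : GolayPt) (({none, some 0} : Finset GolayPt) : Set GolayPt)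
      (fun k hk => by
        rw [Finset.mem_coe]
        rcases hKmem k hk with h | h
        · rw [Equiv.Perm.smul_def, h]; simp
        · rw [Equiv.Perm.smul_def, h]; simp)
      (fun s hs => by
        rw [Finset.mem_coe] at hs
        simp only [Finset.mem_insert, Finset.mem_singleton] at hs
        rcases hs with rfl | rfl
        · exact ⟨1, K.one_mem, rfl⟩
        · exact ⟨g, hgK, h₁⟩)
    have hM22 : K ⊓ MulAction.stabilizer (Equiv.Perm GolayPt) (none : GolayPt) = Spor.M22 := by
      ext x
      rw [mem_M22_iff, Subgroup.mem_inf, MulAction.mem_stabilizer_iff, Equiv.Perm.smul_def]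
      constructor
      · rintro ⟨hxK, hxn⟩
        refine ⟨hxK.1, hxn, ?_⟩
        rcases hKmem0 x hxK with h | h
        · exfalso
          have := x.injective (h.trans hxn.symm)
          simp at this
        · exact h
      · rintro ⟨hx1, hx2, hx3⟩
        refine ⟨Subgroup.mem_inf.2 ⟨hx1, ?_⟩, hx2⟩
        rw [MulAction.mem_stabilizer_iff]
        ext p
        rw [Finset.mem_smul_finset]
        constructor
        · rintro ⟨q, hq, rfl⟩
          simp only [Finset.mem_insert, Finset.mem_singleton] at hq ⊢
          rcases hq with rfl | rfl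
          · left; exact hx2
          · right; exact hx3
        · intro hp
          simp only [Finset.mem_insert, Finset.mem_singleton] at hp
          rcases hp with rfl | rfl
          · exact ⟨none, by simp, hx2⟩
          · exact ⟨some 0, by simp, hx3⟩
    rw [hM22] at hcard
    have hle : Spor.M22 ≤ K := by
      rw [← hM22]; exact inf_le_left
    have hrel := Subgroup.relIndex_mul_relIndex (⊥ : Subgroup (Equiv.Perm GolayPt)) Spor.M22 K
      bot_le hle
    rw [Subgroup.relIndex_bot_left, Subgroup.relIndex_bot_left, hcard] at hrel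
    have hncard : ((({none, some 0} : Finset GolayPt) : Set GolayPt)).ncard = 2 := by
      rw [Set.ncard_coe_finset]
      decide
    rw [hncard] at hrel
    have hpos : 0 < Nat.card Spor.M22 := Nat.card_pos
    have : Nat.card Spor.M22 * Spor.M22.relIndex K = Nat.card Spor.M22 * 2 := by
      rw [hrel]; ring
    exact Nat.eq_of_mul_eq_mul_left hpos this
  · intro x hx
    rw [mem_M22_iff] at hx ⊢
    refine ⟨M24.mul_mem (M24.mul_mem hg hx.1) (M24.inv_mem hg), ?_, ?_⟩
    · rw [Equiv.Perm.mul_apply, Equiv.Perm.mul_apply, hginv_none, hx.2.2, h₂]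
    · rw [Equiv.Perm.mul_apply, Equiv.Perm.mul_apply, hginv_zero, hx.2.1, h₁]
  · rintro ⟨h, hh, hconj⟩
    have hh' := (mem_M22_iff h).1 hh
    set c := h⁻¹ * g with hc
    have hcM : c ∈ M24 := M24.mul_mem (M24.inv_mem hh'.1) hg
    have hcomm : ∀ x ∈ Spor.M22, c * x = x * c := by
      intro x hx
      have h1 := hconj x hx
      have h2 : g * x = h * x * h⁻¹ * g := by
        rw [← h1]; group
      rw [hc, mul_assoc, h2]
      group
    have hhinv0 : h⁻¹ (some 0) = some 0 := by
      rw [Equiv.Perm.inv_eq_iff_eq]; exact hh'.2.2.symm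
    have hcnone : c none = some 0 := by
      rw [hc, Equiv.Perm.mul_apply, h₁, hhinv0]
    -- the elements a and b
    have ha := aC_ok
    have hb := bC_ok
    simp only [Bool.and_eq_true] at ha hb
    obtain ⟨⟨ha1, ha2⟩, ha3⟩ := ha
    obtain ⟨⟨hb1, hb2⟩, hb3⟩ := hb
    have haM : permC aC ∈ Spor.M22 := mem_M22_of_code ha1 ha2 (by decide) (by decide)
    have hbM : permC bC ∈ Spor.M22 := mem_M22_of_code hb1 hb2 (by decide) (by decide)
    have hfixmap : ∀ x ∈ Spor.M22, ∀ p, x p = p → x (c p) = c p := by
      intro x hx p hp
      have := congrArg (fun f => f p) (hcomm x hx)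
      simp only [Equiv.Perm.mul_apply] at this
      rw [hp] at this
      exact this.symm
    -- c (some 0) = none
    have hc0 : c (some 0) = none := by
      have hx := (mem_M22_iff _).1 haM
      have h1 := hfixmap _ haM (some 0) hx.2.2
      have h2 := fix_of_fixExact (isPerm_of_isAutC ha1) ha3 _ h1
      have hcases : ∀ i : Fin 24, (8388609 : ℕ).testBit i = true → i = 0 ∨ i = 23 := by decide
      rcases hcases _ h2 with h3 | h3
      · exfalso
        have h4 : c (some 0) = some 0 := by
          rw [← ptOf_ptIdx (c (some 0)), h3]; rfl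
        have := c.injective (h4.trans hcnone.symm)
        simp at this
      · rw [← ptOf_ptIdx (c (some 0)), h3]; rfl
    -- c fixes P 18
    have hc18 : c (P 18) = P 18 := by
      have hbH := permC_mem_Hfix hb1 hb2
      have hfix18 : permC bC (P 18) = P 18 := by
        apply hbH.2
        rw [mem_fset_P]
        decide
      have h1 := hfixmap _ hbM (P 18) hfix18
      have h2 := fix_of_fixExact (isPerm_of_isAutC hb1) hb3 _ h1
      have hcases : ∀ i : Fin 24, (8650753 : ℕ).testBit i = true → i = 0 ∨ i = 18 ∨ i = 23 := by
        decide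
      rcases hcases _ h2 with h3 | h3 | h3
      · exfalso
        have h4 : c (P 18) = some 0 := by
          rw [← ptOf_ptIdx (c (P 18)), h3]; rfl
        have := c.injective (h4.trans hcnone.symm)
        revert this
        decide
      · rw [← ptOf_ptIdx (c (P 18)), h3]; rfl
      · exfalso
        have h4 : c (P 18) = none := by
          rw [← ptOf_ptIdx (c (P 18)), h3]; rfl
        have := c.injective (h4.trans hc0.symm)
        revert this
        decide
    -- c fixes every index from 1 to 22
    have htree := treeRun_spec (Subgroup.centralizer {c}) [aC, bC]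
      (by
        intro S hS
        simp only [List.mem_cons, List.mem_nil_iff, or_false] at hS
        rcases hS with rfl | rfl
        · refine ⟨isPerm_of_isAutC ha1, ?_⟩
          rw [Subgroup.mem_centralizer_iff]
          intro y hy
          rw [Set.mem_singleton_iff] at hy
          rw [hy]
          exact hcomm _ haM
        · refine ⟨isPerm_of_isAutC hb1, ?_⟩
          rw [Subgroup.mem_centralizer_iff]
          intro y hy
          rw [Set.mem_singleton_iff] at hy
          rw [hy]
          exact hcomm _ hbM)
      (P 18) tree22 (1 <<< 18)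
      (by
        intro i hi hbit
        rw [Nat.one_shiftLeft, Nat.testBit_two_pow] at hbit
        have : 18 = i := by simpa using hbit
        subst this
        exact ⟨1, Subgroup.one_mem _, rfl⟩)
    rw [tree22_ok] at htree
    have hcfix : ∀ p ∈ fset 8388606, c p = p := by
      intro p hp
      rw [mem_fset] at hp
      obtain ⟨u, hu, hup⟩ := htree (ptIdx p) (ptIdx p).isLt hp
      rw [ptOf_ptIdx] at hup
      rw [Subgroup.mem_centralizer_iff] at hu
      have hcu := hu c (Set.mem_singleton c)
      have := congrArg (fun f => f (P 18)) hcu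
      simp only [Equiv.Perm.mul_apply] at this
      rw [hup, hc18, hup] at this
      exact this
    have hc1 : c = 1 := rigid_spec cert22_ok hcM hcfix
    rw [hc1] at hcnone
    simp at hcnone

end Cfsg.Agent.S5599
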