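import Cfsg.Statements.S5600
import Cfsg.Agent.Lib.Helper93.SixSets

set_option autoImplicit false
open scoped Pointwise
open Cfsg

namespace Cfsg.Agent.S5600

open Cfsg.Agent.Lib.Helper93 Cfsg.Agent.Lib.Helper93.Golay

/-- The point of index `i` (total version). -/
def Pn (i : ℕ) : GolayPt := if h : i < 24 then P i h else none

theorem Pn_eq (i : ℕ) (h : i < 24) : Pn i = P i h := by
  unfold Pn
  rw [dif_pos h]

/-- index functions of the two standard 6-sets -/
def idxA (i : ℕ) : ℕ := if i = 5 then 7 else i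

/-- Standard position of an enumerated 6-set: it is the image of `{0,1,2,3,4,7}` (if inside an
octad) or `{0,1,2,3,4,5}` (otherwise). -/
theorem std_map (q : ℕ → GolayPt) (hq : ∀ i j, i < 6 → j < 6 → q i = q j → i = j) :
    ((∃ o ∈ octads, ∀ i, i < 6 → q i ∈ o) → ∃ u ∈ M24, ∀ i, i < 6 → u (Pn (idxA i)) = q i) ∧
    ((¬ ∃ o ∈ octads, ∀ i, i < 6 → q i ∈ o) → ∃ u ∈ M24, ∀ i, i < 6 → u (Pn i) = q i) := by
  constructor
  · rintro ⟨o, ho, hqo⟩
    obtain ⟨u, hu, h1, h2⟩ := exists_map6_in q hq o ho hqo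
    refine ⟨u, hu, fun i hi => ?_⟩
    by_cases h5 : i = 5
    · subst h5
      have : Pn (idxA 5) = P 7 := by
        show Pn 7 = P 7
        exact Pn_eq 7 (by norm_num)
      rw [this]; exact h2
    · have hi5 : i < 5 := by omega
      have : Pn (idxA i) = P i (by omega) := by
        unfold idxA
        rw [if_neg h5]
        exact Pn_eq i (by omega)
      rw [this]; exact h1 i hi5
  · intro hno
    obtain ⟨u, hu, h1⟩ := exists_map6_out q hq hno
    refine ⟨u, hu, fun i hi => ?_⟩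
    rw [Pn_eq i (by omega)]
    exact h1 i hi

/-- Conjugating the pointwise stabiliser into standard position. -/
theorem card_pointwise_conj (u : Equiv.Perm GolayPt) (hu : u ∈ M24) (m : ℕ) (E : Finset GolayPt)
    (hE : ∀ p, p ∈ E ↔ ∃ r ∈ fset m, u r = p) :
    Nat.card {g : Equiv.Perm GolayPt // g ∈ M24 ∧ ∀ p ∈ E, g p = p} = Nat.card (Hfix m) := by
  refine Nat.card_congr ⟨fun g => ⟨u⁻¹ * g.1 * u, ?_, ?_⟩, fun h => ⟨u * h.1 * u⁻¹, ?_, ?_⟩, ?_, ?_⟩
  · exact M24.mul_mem (M24.mul_mem (M24.inv_mem hu) g.2.1) hu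
  · intro r hr
    rw [Equiv.Perm.mul_apply, Equiv.Perm.mul_apply, g.2.2 (u r) ((hE _).2 ⟨r, hr, rfl⟩)]
    simp
  · exact M24.mul_mem (M24.mul_mem hu h.2.1) (M24.inv_mem hu)
  · intro p hp
    obtain ⟨r, hr, rfl⟩ := (hE p).1 hp
    rw [Equiv.Perm.mul_apply, Equiv.Perm.mul_apply]
    have e1 : u⁻¹ (u r) = r := by simp
    rw [e1, h.2.2 r hr]
  · intro g
    apply Subtype.ext
    show u * (u⁻¹ * g.1 * u) * u⁻¹ = g.1
    group
  · intro h
    apply Subtype.ext
    show u⁻¹ * (u * h.1 * u⁻¹) * u = h.1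
    group

theorem mem_fset_159 (r : GolayPt) : r ∈ fset 159 ↔ ∃ i, i < 6 ∧ Pn (idxA i) = r := by
  rw [mem_fset]
  constructor
  · intro h
    have key : ∀ j : Fin 24, (159 : ℕ).testBit j = true →
        ∃ i, i < 6 ∧ idxA i = (j : ℕ) := by decide
    obtain ⟨i, hi, hij⟩ := key _ h
    refine ⟨i, hi, ?_⟩
    rw [hij, Pn_eq _ (ptIdx r).isLt]
    exact P_ptIdx r
  · rintro ⟨i, hi, rfl⟩
    have key : ∀ i, i < 6 → idxA i < 24 ∧ (159 : ℕ).testBit (idxA i) = true := by decide
    rw [Pn_eq _ (key i hi).1, ptIdx_P]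
    exact (key i hi).2

theorem mem_fset_63 (r : GolayPt) : r ∈ fset 63 ↔ ∃ i, i < 6 ∧ Pn i = r := by
  rw [mem_fset]
  constructor
  · intro h
    have key : ∀ j : Fin 24, (63 : ℕ).testBit j = true → (j : ℕ) < 6 := by decide
    refine ⟨ptIdx r, key _ h, ?_⟩
    rw [Pn_eq _ (ptIdx r).isLt]
    exact P_ptIdx r
  · rintro ⟨i, hi, rfl⟩
    have key : ∀ i, i < 6 → (63 : ℕ).testBit i = true := by decide
    rw [Pn_eq _ (by omega), ptIdx_P]
    exact key i hi

/-- Although the group of the length-24 code is only 5-transitive on the 24 points, it induces the full symmetric group on every 6-element subset: every permutation of a 6-set E is the restriction of an element of the group mapping E to itself. The pointwise stabiliser of E has order 16 when E lies in an octad and order 3 otherwise; in the latter case the setwise stabiliser of E has order 2160. -/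
theorem result (E : Finset Cfsg.GolayPt) (hE : E.card = 6) : (∀ σ : Equiv.Perm ↥E, ∃ g ∈ Cfsg.M24, ∀ p : ↥E, g p = σ p) ∧ ((∃ o ∈ Cfsg.octads, E ⊆ o) → Nat.card {g : Equiv.Perm Cfsg.GolayPt // g ∈ Cfsg.M24 ∧ ∀ p ∈ E, g p = p} = 16) ∧ ((¬ ∃ o ∈ Cfsg.octads, E ⊆ o) → Nat.card {g : Equiv.Perm Cfsg.GolayPt // g ∈ Cfsg.M24 ∧ ∀ p ∈ E, g p = p} = 3 ∧ Nat.card ↥(MulAction.stabilizer Cfsg.M24 E) = 2160) := by
  classical
  -- an enumeration of `E`
  let e := Finset.equivFinOfCardEq hE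
  have hEne : 0 < 6 := by norm_num
  let q : ℕ → GolayPt := fun i => if h : i < 6 then (e.symm ⟨i, h⟩ : GolayPt) else
    (e.symm ⟨0, hEne⟩ : GolayPt)
  have hq_mem : ∀ i, q i ∈ E := by
    intro i
    by_cases h : i < 6
    · simp only [q, h, dite_true]; exact (e.symm ⟨i, h⟩).2
    · simp only [q, h, dite_false]; exact (e.symm ⟨0, hEne⟩).2
  have hq_inj : ∀ i j, i < 6 → j < 6 → q i = q j → i = j := by
    intro i j hi hj hij
    simp only [q, hi, hj, dite_true] at hij
    have := e.symm.injective (Subtype.ext hij)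
    exact Fin.mk.inj_iff.1 this
  have hq_surj : ∀ p ∈ E, ∃ i, i < 6 ∧ q i = p := by
    intro p hp
    refine ⟨(e ⟨p, hp⟩ : Fin 6), (e ⟨p, hp⟩).isLt, ?_⟩
    simp only [q, (e ⟨p, hp⟩).isLt, dite_true, Fin.eta, Equiv.symm_apply_apply]
  -- the two cases
  have hcaseA : ∀ q' : ℕ → GolayPt, (∀ i, q' i ∈ E) → (∃ o ∈ octads, E ⊆ o) →
      ∃ o ∈ octads, ∀ i, i < 6 → q' i ∈ o := by
    rintro q' hq' ⟨o, ho, hEo⟩
    exact ⟨o, ho, fun i _ => hEo (hq' i)⟩
  have hcaseB : ∀ q' : ℕ → GolayPt, (∀ p ∈ E, ∃ i, i < 6 ∧ q' i = p) →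
      (¬ ∃ o ∈ octads, E ⊆ o) → ¬ ∃ o ∈ octads, ∀ i, i < 6 → q' i ∈ o := by
    rintro q' hq' hno ⟨o, ho, hqo⟩
    apply hno
    refine ⟨o, ho, fun p hp => ?_⟩
    obtain ⟨i, hi, rfl⟩ := hq' p hp
    exact hqo i hi
  -- part (i)
  have part1 : ∀ σ : Equiv.Perm ↥E, ∃ g ∈ M24, ∀ p : ↥E, g p = σ p := by
    intro σ
    let q' : ℕ → GolayPt := fun i => (σ ⟨q i, hq_mem i⟩ : GolayPt)
    have hq'_mem : ∀ i, q' i ∈ E := fun i => (σ ⟨q i, hq_mem i⟩).2
    have hq'_inj : ∀ i j, i < 6 → j < 6 → q' i = q' j → i = j := by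
      intro i j hi hj hij
      have := σ.injective (Subtype.ext hij)
      exact hq_inj i j hi hj (Subtype.mk.inj this)
    have hq'_surj : ∀ p ∈ E, ∃ i, i < 6 ∧ q' i = p := by
      intro p hp
      obtain ⟨i, hi, hqi⟩ := hq_surj (σ.symm ⟨p, hp⟩ : GolayPt) (σ.symm ⟨p, hp⟩).2
      refine ⟨i, hi, ?_⟩
      simp only [q']
      have : (⟨q i, hq_mem i⟩ : ↥E) = σ.symm ⟨p, hp⟩ := Subtype.ext hqi
      rw [this]
      simp
    by_cases hoct : ∃ o ∈ octads, E ⊆ o
    · obtain ⟨u, hu, huq⟩ := (std_map q hq_inj).1 (hcaseA q hq_mem hoct)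
      obtain ⟨u', hu', huq'⟩ := (std_map q' hq'_inj).1 (hcaseA q' hq'_mem hoct)
      refine ⟨u' * u⁻¹, M24.mul_mem hu' (M24.inv_mem hu), ?_⟩
      rintro ⟨p, hp⟩
      obtain ⟨i, hi, rfl⟩ := hq_surj p hp
      rw [Equiv.Perm.mul_apply]
      have e1 : u⁻¹ (q i) = Pn (idxA i) := by rw [← huq i hi]; simp
      show u' (u⁻¹ (q i)) = _
      rw [e1, huq' i hi]
    · obtain ⟨u, hu, huq⟩ := (std_map q hq_inj).2 (hcaseB q hq_surj hoct)
      obtain ⟨u', hu', huq'⟩ := (std_map q' hq'_inj).2 (hcaseB q' hq'_surj hoct)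
      refine ⟨u' * u⁻¹, M24.mul_mem hu' (M24.inv_mem hu), ?_⟩
      rintro ⟨p, hp⟩
      obtain ⟨i, hi, rfl⟩ := hq_surj p hp
      rw [Equiv.Perm.mul_apply]
      have e1 : u⁻¹ (q i) = Pn i := by rw [← huq i hi]; simp
      show u' (u⁻¹ (q i)) = _
      rw [e1, huq' i hi]
  refine ⟨part1, ?_, ?_⟩
  · intro hoct
    obtain ⟨u, hu, huq⟩ := (std_map q hq_inj).1 (hcaseA q hq_mem hoct)
    rw [card_pointwise_conj u hu 159 E, card_Hfix_159]
    intro p
    constructor
    · intro hp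
      obtain ⟨i, hi, rfl⟩ := hq_surj p hp
      exact ⟨Pn (idxA i), (mem_fset_159 _).2 ⟨i, hi, rfl⟩, huq i hi⟩
    · rintro ⟨r, hr, rfl⟩
      obtain ⟨i, hi, rfl⟩ := (mem_fset_159 r).1 hr
      rw [huq i hi]
      exact hq_mem i
  · intro hoct
    obtain ⟨u, hu, huq⟩ := (std_map q hq_inj).2 (hcaseB q hq_surj hoct)
    have hcard3 : Nat.card {g : Equiv.Perm GolayPt // g ∈ M24 ∧ ∀ p ∈ E, g p = p} = 3 := by
      rw [card_pointwise_conj u hu 63 E, card_Hfix_63]
      intro p
      constructor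
      · intro hp
        obtain ⟨i, hi, rfl⟩ := hq_surj p hp
        exact ⟨Pn i, (mem_fset_63 _).2 ⟨i, hi, rfl⟩, huq i hi⟩
      · rintro ⟨r, hr, rfl⟩
        obtain ⟨i, hi, rfl⟩ := (mem_fset_63 r).1 hr
        rw [huq i hi]
        exact hq_mem i
    refine ⟨hcard3, ?_⟩
    -- the restriction homomorphism
    have hstab : ∀ g : ↥(MulAction.stabilizer ↥M24 E), ∀ x : GolayPt,
        ((g : ↥M24) : Equiv.Perm GolayPt) x ∈ E ↔ x ∈ E := by
      intro g x
      have hg : ((g : ↥M24) : Equiv.Perm GolayPt) • E = E := MulAction.mem_stabilizer_iff.1 g.2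
      have h1 : ((g : ↥M24) : Equiv.Perm GolayPt) • x ∈ ((g : ↥M24) : Equiv.Perm GolayPt) • E ↔
          x ∈ E := Finset.smul_mem_smul_finset_iff _
      rw [hg] at h1
      exact h1
    let φ : ↥(MulAction.stabilizer ↥M24 E) →* Equiv.Perm ↥E :=
      { toFun := fun g => Equiv.Perm.subtypePerm ((g : ↥M24) : Equiv.Perm GolayPt) (hstab g)
        map_one' := by
          apply Equiv.ext
          intro p
          rfl
        map_mul' := by
          intro a b
          apply Equiv.ext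
          intro p
          rfl }
    have hφsurj : Function.Surjective φ := by
      intro σ
      obtain ⟨g, hg, hgσ⟩ := part1 σ
      have hgE : g • E = E := by
        apply Finset.eq_of_subset_of_card_le
        · intro x hx
          rw [Finset.mem_smul_finset] at hx
          obtain ⟨y, hy, rfl⟩ := hx
          have := hgσ ⟨y, hy⟩
          show g y ∈ E
          rw [show g y = ((σ ⟨y, hy⟩ : ↥E) : GolayPt) from this]
          exact (σ ⟨y, hy⟩).2
        · rw [Finset.card_smul_finset]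
      refine ⟨⟨⟨g, hg⟩, MulAction.mem_stabilizer_iff.2 hgE⟩, ?_⟩
      apply Equiv.ext
      intro p
      apply Subtype.ext
      exact hgσ p
    have hker : Nat.card φ.ker = 3 := by
      rw [← hcard3]
      refine Nat.card_congr ⟨fun g => ⟨((g.1 : ↥M24) : Equiv.Perm GolayPt), (g.1 : ↥M24).2, ?_⟩,
        fun g => ⟨⟨⟨g.1, g.2.1⟩, ?_⟩, ?_⟩, ?_, ?_⟩
      · intro p hp
        have := g.2
        rw [MonoidHom.mem_ker] at this
        have h2 := congrArg (fun τ : Equiv.Perm ↥E => ((τ ⟨p, hp⟩ : ↥E) : GolayPt)) this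
        exact h2
      · rw [MulAction.mem_stabilizer_iff]
        apply Finset.eq_of_subset_of_card_le
        · intro x hx
          rw [Finset.mem_smul_finset] at hx
          obtain ⟨y, hy, rfl⟩ := hx
          show g.1 y ∈ E
          rw [g.2.2 y hy]
          exact hy
        · rw [Finset.card_smul_finset]
      · rw [MonoidHom.mem_ker]
        apply Equiv.ext
        intro p
        apply Subtype.ext
        show g.1 p.1 = p.1
        exact g.2.2 p.1 p.2
      · intro g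
        rfl
      · intro g
        rfl
    have h1 := Subgroup.card_mul_index φ.ker
    rw [Subgroup.index_ker, hker] at h1
    have hrange : Nat.card φ.range = 720 := by
      rw [MonoidHom.range_eq_top.2 hφsurj, Subgroup.card_top, Nat.card_perm, Nat.card_eq_fintype_card,
        Fintype.card_coe, hE]
      rfl
    rw [hrange] at h1
    omega

end Cfsg.Agent.S5600
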