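import Cfsg.Statements.S5602
import Cfsg.Agent.Lib.Helper93.Classes

set_option autoImplicit false
open scoped Pointwise
open Cfsg

namespace Cfsg.Agent.S5602

open Cfsg.Agent.Lib.Helper93 Cfsg.Agent.Lib.Helper93.Golay

def A3 : ℕ := 608167165260361641911015062699608096
def B3 : ℕ := 725895487971383339971559185675552800

theorem A3_ok : isAutC A3 = true := by decide +kernel
theorem B3_ok : isAutC B3 = true := by decide +kernel

theorem AB_inv : (List.range 24).all (fun i => Nat.beq (pappL [A3, B3] i) i) = true := by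
  decide +kernel

theorem permC_B3 : permC B3 = (permC A3)⁻¹ := by
  have hA := isPerm_of_isAutC A3_ok
  have hB := isPerm_of_isAutC B3_ok
  have h1 : prodC [A3, B3] = 1 := by
    apply eq_of_ptIdx_eq
    intro p
    rw [ptIdx_prodC [A3, B3] (by
      intro S hS
      simp only [List.mem_cons, List.mem_nil_iff, or_false] at hS
      rcases hS with rfl | rfl
      · exact hA
      · exact hB)]
    exact Nat.eq_of_beq_eq_true
      (List.all_eq_true.1 AB_inv (ptIdx p) (List.mem_range.2 (ptIdx p).isLt))
  have h2 : permC A3 * permC B3 = 1 := by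
    have : prodC [A3, B3] = permC A3 * permC B3 := by
      show (List.map permC [A3, B3]).prod = _
      simp
    rw [← this, h1]
  exact eq_inv_of_mul_eq_one_right h2

set_option maxRecDepth 1000000 in
theorem cntA : (octList.filter fun l => Nat.beq (pmask A3 l) l).length = 21 ∧
    (trioList.filter fun l => beqL (actL A3 l) l).length = 15 ∧
    (sextetList.filter fun l => beqL (actL A3 l) l).length = 16 ∧
    (dodList.filter fun l => Nat.beq (pmask A3 l) l).length = 20 := by decide +kernel

/-- The counts for the standard element and its inverse. -/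
theorem counts_std (g' : Equiv.Perm GolayPt) (h : g' = permC A3 ∨ g' = permC B3) :
    {o : Finset GolayPt | o ∈ octads ∧ g' • o = o}.ncard = 21 ∧
    {T : Finset (Finset GolayPt) | T ∈ trios ∧ g' • T = T}.ncard = 15 ∧
    {S : Finset (Finset GolayPt) | S ∈ sextets ∧ g' • S = S}.ncard = 16 ∧
    {d : Finset GolayPt | d ∈ dodecads ∧ g' • d = d}.ncard = 20 := by
  have hA := isPerm_of_isAutC A3_ok
  have key : {o : Finset GolayPt | o ∈ octads ∧ permC A3 • o = o}.ncard = 21 ∧
      {T : Finset (Finset GolayPt) | T ∈ trios ∧ permC A3 • T = T}.ncard = 15 ∧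
      {S : Finset (Finset GolayPt) | S ∈ sextets ∧ permC A3 • S = S}.ncard = 16 ∧
      {d : Finset GolayPt | d ∈ dodecads ∧ permC A3 • d = d}.ncard = 20 := by
    refine ⟨?_, ?_, ?_, ?_⟩
    · have := ncard_fixed_set octFamily hA
      rw [show (octFamily.L.filter fun l => Nat.beq (pmask A3 l) l).length = 21 from cntA.1] at this
      exact this
    · have := ncard_fixed_fam trioFamily hA
      rw [show (trioFamily.L.filter fun l => beqL (actL A3 l) l).length = 15 from cntA.2.1] at this
      exact this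
    · have := ncard_fixed_fam sextetFamily hA
      rw [show (sextetFamily.L.filter fun l => beqL (actL A3 l) l).length = 16
        from cntA.2.2.1] at this
      exact this
    · have := ncard_fixed_set dodFamily hA
      rw [show (dodFamily.L.filter fun l => Nat.beq (pmask A3 l) l).length = 20
        from cntA.2.2.2] at this
      exact this
  rcases h with rfl | rfl
  · exact key
  · rw [permC_B3, fixed_inv_eq octads, fixed_inv_eq trios, fixed_inv_eq sextets,
      fixed_inv_eq dodecads]
    exact key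

theorem mem_fset_159' (r : GolayPt) (hr : r ∈ fset 159) :
    (∃ i, ∃ hi : i < 5, r = P i (by omega)) ∨ r = P 7 := by
  rw [mem_fset] at hr
  have key : ∀ j : Fin 24, (159 : ℕ).testBit j = true → (j : ℕ) < 5 ∨ (j : ℕ) = 7 := by decide
  rcases key _ hr with h | h
  · left
    refine ⟨ptIdx r, h, (P_ptIdx r).symm⟩
  · right
    rw [← P_ptIdx r]
    simp only [h]

theorem mem_fset_63' (r : GolayPt) (hr : r ∈ fset 63) : ∃ i, ∃ hi : i < 6, r = P i (by omega) := by
  rw [mem_fset] at hr
  have key : ∀ j : Fin 24, (63 : ℕ).testBit j = true → (j : ℕ) < 6 := by decide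
  exact ⟨ptIdx r, key _ hr, (P_ptIdx r).symm⟩

/-- An element of order 3 of the group of the length-24 code having exactly 6 fixed points maps to themselves exactly 21 octads, exactly 15 trios, exactly 16 sextets and exactly 20 dodecads. -/
theorem result (g : Equiv.Perm Cfsg.GolayPt) (hg : g ∈ Cfsg.M24) (h₃ : orderOf g = 3) (h₆ : (Finset.univ.filter fun p => g p = p).card = 6) : {o : Finset Cfsg.GolayPt | o ∈ Cfsg.octads ∧ g • o = o}.ncard = 21 ∧ {T : Finset (Finset Cfsg.GolayPt) | T ∈ Cfsg.trios ∧ g • T = T}.ncard = 15 ∧ {S : Finset (Finset Cfsg.GolayPt) | S ∈ Cfsg.sextets ∧ g • S = S}.ncard = 16 ∧ {d : Finset Cfsg.GolayPt | d ∈ Cfsg.dodecads ∧ g • d = d}.ncard = 20 := by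
  obtain ⟨q, hqF, hqinj, hqsurj⟩ := exists_enum _ 6 (by norm_num) h₆
  have hqfix : ∀ i, g (q i) = q i := fun i => (Finset.mem_filter.1 (hqF i)).2
  have hg3 : g ^ 3 = 1 := by rw [← h₃]; exact pow_orderOf_eq_one g
  have hg1 : g ≠ 1 := by
    intro h
    rw [h, orderOf_one] at h₃
    norm_num at h₃
  -- reduction to an element fixing the standard points
  have hred : ∃ u ∈ M24, ∃ g' : Equiv.Perm GolayPt, g = u * g' * u⁻¹ ∧
      (g' = permC A3 ∨ g' = permC B3) := by
    by_cases hoct : ∃ o ∈ octads, ∀ i, i < 6 → q i ∈ o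
    · exfalso
      obtain ⟨o, ho, hqo⟩ := hoct
      obtain ⟨u, hu, hu5, hu7⟩ := exists_map6_in q hqinj o ho hqo
      have hmem : u⁻¹ * g * u ∈ Hfix 159 := by
        refine ⟨M24.mul_mem (M24.mul_mem (M24.inv_mem hu) hg) hu, fun r hr => ?_⟩
        rw [Equiv.Perm.mul_apply, Equiv.Perm.mul_apply]
        rcases mem_fset_159' r hr with ⟨i, hi, rfl⟩ | rfl
        · rw [hu5 i hi, hqfix, ← hu5 i hi]; simp
        · rw [hu7, hqfix, ← hu7]; simp
      have h16 : (u⁻¹ * g * u) ^ 16 = 1 := by
        have := pow_card_eq_one' (G := ↥(Hfix 159)) (x := ⟨_, hmem⟩)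
        rw [card_Hfix_159] at this
        exact congrArg Subtype.val this
      have h3' : (u⁻¹ * g * u) ^ 3 = 1 := by
        have : u⁻¹ * g * u = u⁻¹ * g * u⁻¹⁻¹ := by rw [inv_inv]
        rw [this, conj_pow, hg3]; simp
      have h1 : u⁻¹ * g * u = 1 := by
        have e : (u⁻¹ * g * u) ^ 16 = ((u⁻¹ * g * u) ^ 3) ^ 5 * (u⁻¹ * g * u) := by
          rw [← pow_mul, ← pow_succ]
        rw [h3', one_pow, one_mul] at e
        rw [← e, h16]
      apply hg1
      have : g = u * (u⁻¹ * g * u) * u⁻¹ := by group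
      rw [this, h1]; simp
    · obtain ⟨u, hu, hu6⟩ := exists_map6_out q hqinj hoct
      have hmem : u⁻¹ * g * u ∈ Hfix 63 := by
        refine ⟨M24.mul_mem (M24.mul_mem (M24.inv_mem hu) hg) hu, fun r hr => ?_⟩
        rw [Equiv.Perm.mul_apply, Equiv.Perm.mul_apply]
        obtain ⟨i, hi, rfl⟩ := mem_fset_63' r hr
        rw [hu6 i hi, hqfix, ← hu6 i hi]; simp
      refine ⟨u, hu, u⁻¹ * g * u, by group, ?_⟩
      rcases Hfix_63_cases hmem with h | h | h
      · exfalso
        apply hg1
        have : g = u * (u⁻¹ * g * u) * u⁻¹ := by group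
        rw [this, h]; simp
      · exact Or.inl h
      · exact Or.inr h
  obtain ⟨u, hu, g', hgg', hcases⟩ := hred
  obtain ⟨c1, c2, c3, c4⟩ := counts_std g' hcases
  refine ⟨?_, ?_, ?_, ?_⟩
  · rw [ncard_fixed_conj octads octFamily.inv hu hgg']; exact c1
  · rw [ncard_fixed_conj trios trioFamily.inv hu hgg']; exact c2
  · rw [ncard_fixed_conj sextets sextetFamily.inv hu hgg']; exact c3
  · rw [ncard_fixed_conj dodecads dodFamily.inv hu hgg']; exact c4

end Cfsg.Agent.S5602
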