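import Cfsg.Statements.S5601
import Cfsg.Agent.Lib.Helper93.FixCounts
import Cfsg.Agent.S5602
import Cfsg.Agent.S5603

set_option autoImplicit false
open scoped Pointwise
open Cfsg

namespace Cfsg.Agent.S5601

open Cfsg.Agent.Lib.Helper93 Cfsg.Agent.Lib.Helper93.Golay

/-- An element of order 3 with 6 fixed points is conjugate to the standard one or its inverse. -/
theorem ord3A_conj_std {g : Equiv.Perm GolayPt} (hg : g ∈ M24) (hg3 : g ^ 3 = 1) (hg1 : g ≠ 1)
    (h₆ : fixcard g = 6) : ∃ u ∈ M24, ∃ g' : Equiv.Perm GolayPt, g = u * g' * u⁻¹ ∧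
      (g' = permC S5602.A3 ∨ g' = (permC S5602.A3)⁻¹) := by
  obtain ⟨q, hqF, hqinj, hqsurj⟩ := exists_enum _ 6 (by norm_num) h₆
  have hqfix : ∀ i, g (q i) = q i := fun i => (Finset.mem_filter.1 (hqF i)).2
  by_cases hoct : ∃ o ∈ octads, ∀ i, i < 6 → q i ∈ o
  · exfalso
    obtain ⟨o, ho, hqo⟩ := hoct
    obtain ⟨u, hu, hu5, hu7⟩ := exists_map6_in q hqinj o ho hqo
    have hmem : u⁻¹ * g * u ∈ Hfix 159 := by
      refine ⟨M24.mul_mem (M24.mul_mem (M24.inv_mem hu) hg) hu, fun r hr => ?_⟩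
      rw [Equiv.Perm.mul_apply, Equiv.Perm.mul_apply]
      rcases S5602.mem_fset_159' r hr with ⟨i, hi, rfl⟩ | rfl
      · rw [hu5 i hi, hqfix, ← hu5 i hi]; simp
      · rw [hu7, hqfix, ← hu7]; simp
    have h16 : (u⁻¹ * g * u) ^ 16 = 1 := by
      have := pow_card_eq_one' (G := ↥(Hfix 159)) (x := ⟨_, hmem⟩)
      rw [card_Hfix_159] at this
      exact congrArg Subtype.val this
    have h3' : (u⁻¹ * g * u) ^ 3 = 1 := by
      have : u⁻¹ * g * u = u⁻¹ * g * u⁻¹⁻¹ := by rw [inv_inv]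
      rw [this, conj_pow, hg3]; simp
    have h1 : u⁻¹ * g * u = 1 := by
      have e : (u⁻¹ * g * u) ^ 16 = ((u⁻¹ * g * u) ^ 3) ^ 5 * (u⁻¹ * g * u) := by
        rw [← pow_mul, ← pow_succ]
      rw [h3', one_pow, one_mul] at e
      rw [← e, h16]
    apply hg1
    have : g = u * (u⁻¹ * g * u) * u⁻¹ := by group
    rw [this, h1]; simp
  · obtain ⟨u, hu, hu6⟩ := exists_map6_out q hqinj hoct
    have hmem : u⁻¹ * g * u ∈ Hfix 63 := by
      refine ⟨M24.mul_mem (M24.mul_mem (M24.inv_mem hu) hg) hu, fun r hr => ?_⟩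
      rw [Equiv.Perm.mul_apply, Equiv.Perm.mul_apply]
      obtain ⟨i, hi, rfl⟩ := S5602.mem_fset_63' r hr
      rw [hu6 i hi, hqfix, ← hu6 i hi]; simp
    refine ⟨u, hu, u⁻¹ * g * u, by group, ?_⟩
    rcases Hfix_63_cases hmem with h | h | h
    · exfalso
      apply hg1
      have : g = u * (u⁻¹ * g * u) * u⁻¹ := by group
      rw [this, h]; simp
    · exact Or.inl h
    · right; rw [h]; exact S5602.permC_B3

/-! ### Subgroups of order 3 -/

theorem card3_gen (X : Subgroup ↥M24) (h : Nat.card X = 3) :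
    ∃ x : ↥M24, x ≠ 1 ∧ x ^ 3 = 1 ∧ X = Subgroup.zpowers x := by
  have hne : X ≠ ⊥ := by
    rw [← Subgroup.one_lt_card_iff_ne_bot, h]; norm_num
  obtain ⟨x, hx1⟩ := (Subgroup.ne_bot_iff_exists_ne_one).1 hne
  have hx3 : (x : ↥M24) ^ 3 = 1 := by
    have := pow_card_eq_one' (G := ↥X) (x := x)
    rw [h] at this
    have h' := congrArg Subtype.val this
    rw [Subgroup.coe_pow] at h'
    exact h'
  have hx1' : (x : ↥M24) ≠ 1 := fun h' => hx1 (Subtype.ext h')
  refine ⟨x, hx1', hx3, ?_⟩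
  have : Fact (Nat.Prime 3) := ⟨by norm_num⟩
  have ho : orderOf (x : ↥M24) = 3 := orderOf_eq_prime hx3 hx1'
  have hle : Subgroup.zpowers (x : ↥M24) ≤ X := Subgroup.zpowers_le.2 x.2
  exact (Subgroup.eq_of_le_of_card_ge hle (by rw [Nat.card_zpowers, ho, h])).symm

theorem fixset_zpowers (x : ↥M24) :
    {p : GolayPt | ∀ y ∈ Subgroup.zpowers x, ((y : ↥M24) : Equiv.Perm GolayPt) p = p}.ncard =
      fixcard (x : Equiv.Perm GolayPt) := by
  have hset : {p : GolayPt | ∀ y ∈ Subgroup.zpowers x, ((y : ↥M24) : Equiv.Perm GolayPt) p = p} =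
      ((Finset.univ.filter fun p => (x : Equiv.Perm GolayPt) p = p : Finset GolayPt) :
        Set GolayPt) := by
    ext p
    simp only [Set.mem_ofPred_eq, Finset.coe_filter, Finset.mem_univ, true_and]
    constructor
    · intro h
      exact h x (Subgroup.mem_zpowers x)
    · intro h y hy
      obtain ⟨k, rfl⟩ := Subgroup.mem_zpowers_iff.1 hy
      rw [Subgroup.coe_zpow]
      exact Equiv.Perm.zpow_apply_eq_self_of_apply_eq_self h k
  rw [hset, Set.ncard_coe_finset]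
  rfl

theorem conj_zpowers (k x : ↥M24) :
    MulAut.conj k • Subgroup.zpowers x = Subgroup.zpowers (k * x * k⁻¹) := by
  show Subgroup.map (MulAut.conj k).toMonoidHom (Subgroup.zpowers x) = _
  rw [MonoidHom.map_zpowers]
  rfl

theorem conj_trans {Z X Y : Subgroup ↥M24} (hX : ∃ k : ↥M24, MulAut.conj k • Z = X)
    (hY : ∃ k : ↥M24, MulAut.conj k • Z = Y) : ∃ k : ↥M24, MulAut.conj k • X = Y := by
  obtain ⟨a, rfl⟩ := hX
  obtain ⟨b, rfl⟩ := hY
  refine ⟨b * a⁻¹, ?_⟩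
  rw [smul_smul, ← map_mul]
  congr 2
  group

def a3 : ↥M24 := ⟨permC S5602.A3, permC_mem_M24 S5602.A3_ok⟩
def b3 : ↥M24 := ⟨permC S5603.T0, permC_mem_M24 S5603.T0_ok⟩

theorem pow3_val {x : ↥M24} (h : x ^ 3 = 1) :
    (x : Equiv.Perm GolayPt) * (x : Equiv.Perm GolayPt) * (x : Equiv.Perm GolayPt) = 1 := by
  have := congrArg Subtype.val h
  rw [Subgroup.coe_pow, pow_succ, pow_two] at this
  exact this

theorem ne_one_val {x : ↥M24} (h : x ≠ 1) : (x : Equiv.Perm GolayPt) ≠ 1 :=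
  fun h' => h (Subtype.ext h')

theorem classA {x : ↥M24} (hx1 : x ≠ 1) (hx3 : x ^ 3 = 1)
    (h6 : fixcard (x : Equiv.Perm GolayPt) = 6) :
    ∃ k : ↥M24, MulAut.conj k • Subgroup.zpowers a3 = Subgroup.zpowers x := by
  have h3v : (x : Equiv.Perm GolayPt) ^ 3 = 1 := by
    have := congrArg Subtype.val hx3
    rw [Subgroup.coe_pow] at this
    exact this
  obtain ⟨u, hu, g', hg, hcase⟩ := ord3A_conj_std x.2 h3v (ne_one_val hx1) h6
  refine ⟨⟨u, hu⟩, ?_⟩
  rw [conj_zpowers]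
  rcases hcase with rfl | rfl
  · congr 1
    apply Subtype.ext
    rw [hg]; rfl
  · rw [← Subgroup.zpowers_inv]
    congr 1
    apply Subtype.ext
    rw [hg]
    show (u * permC S5602.A3 * u⁻¹)⁻¹ = u * (permC S5602.A3)⁻¹ * u⁻¹
    group

theorem classB {x : ↥M24} (hx3 : x ^ 3 = 1)
    (h0 : fixcard (x : Equiv.Perm GolayPt) = 0) :
    ∃ k : ↥M24, MulAut.conj k • Subgroup.zpowers b3 = Subgroup.zpowers x := by
  have hfpf : ∀ p, (x : Equiv.Perm GolayPt) p ≠ p := by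
    intro p hp
    unfold fixcard at h0
    rw [Finset.card_eq_zero] at h0
    have : p ∈ (Finset.univ.filter fun p => (x : Equiv.Perm GolayPt) p = p) :=
      Finset.mem_filter.2 ⟨Finset.mem_univ _, hp⟩
    rw [h0] at this
    exact absurd this (Finset.notMem_empty _)
  obtain ⟨w, hw, hg⟩ := S5603.fpf3_conj_std x.2 (pow3_val hx3) hfpf
  refine ⟨⟨w, hw⟩, ?_⟩
  rw [conj_zpowers]
  congr 1
  apply Subtype.ext
  rw [hg]; rfl

theorem a3_facts : a3 ≠ 1 ∧ a3 ^ 3 = 1 ∧ fixcard (a3 : Equiv.Perm GolayPt) = 6 := by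
  have hP := isPerm_of_isAutC S5602.A3_ok
  have hf : ∀ p, ((ptIdx ((a3 : Equiv.Perm GolayPt) p) : Fin 24) : ℕ) = papp S5602.A3 (ptIdx p) :=
    fun p => ptIdx_permC hP p
  have hcard : fixcard (a3 : Equiv.Perm GolayPt) = 6 := by
    unfold fixcard
    rw [card_fixed_eq hf]
    decide +kernel
  refine ⟨?_, ?_, hcard⟩
  · intro h
    rw [h] at hcard
    have : fixcard (1 : Equiv.Perm GolayPt) = 24 := by
      unfold fixcard
      simp only [Equiv.Perm.one_apply, Finset.filter_true]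
      rw [Finset.card_univ]; decide
    rw [show ((1 : ↥M24) : Equiv.Perm GolayPt) = 1 from rfl, this] at hcard
    norm_num at hcard
  · apply Subtype.ext
    rw [Subgroup.coe_pow]
    show (permC S5602.A3) ^ 3 = 1
    apply eq_of_ptIdx_eq
    intro p
    rw [pow_succ, pow_two, Equiv.Perm.mul_apply, Equiv.Perm.mul_apply, ptIdx_permC hP,
      ptIdx_permC hP, ptIdx_permC hP]
    have key : (List.range 24).all (fun i => Nat.beq (papp S5602.A3 (papp S5602.A3
        (papp S5602.A3 i))) i) = true := by decide +kernel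
    exact Nat.eq_of_beq_eq_true (List.all_eq_true.1 key _ (List.mem_range.2 (ptIdx p).isLt))

theorem b3_facts : b3 ≠ 1 ∧ b3 ^ 3 = 1 ∧ fixcard (b3 : Equiv.Perm GolayPt) = 0 := by
  have hP := isPerm_of_isAutC S5603.T0_ok
  have hf : ∀ p, ((ptIdx ((b3 : Equiv.Perm GolayPt) p) : Fin 24) : ℕ) = papp S5603.T0 (ptIdx p) :=
    fun p => ptIdx_permC hP p
  have hcard : fixcard (b3 : Equiv.Perm GolayPt) = 0 := by
    unfold fixcard
    rw [card_fixed_eq hf]
    decide +kernel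
  refine ⟨?_, ?_, hcard⟩
  · intro h
    rw [h] at hcard
    have : fixcard (1 : Equiv.Perm GolayPt) = 24 := by
      unfold fixcard
      simp only [Equiv.Perm.one_apply, Finset.filter_true]
      rw [Finset.card_univ]; decide
    rw [show ((1 : ↥M24) : Equiv.Perm GolayPt) = 1 from rfl, this] at hcard
    norm_num at hcard
  · apply Subtype.ext
    rw [Subgroup.coe_pow]
    show (permC S5603.T0) ^ 3 = 1
    apply eq_of_ptIdx_eq
    intro p
    rw [pow_succ, pow_two, Equiv.Perm.mul_apply, Equiv.Perm.mul_apply, ptIdx_permC hP,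
      ptIdx_permC hP, ptIdx_permC hP]
    have key : (List.range 24).all (fun i => Nat.beq (papp S5603.T0 (papp S5603.T0
        (papp S5603.T0 i))) i) = true := by decide +kernel
    exact Nat.eq_of_beq_eq_true (List.all_eq_true.1 key _ (List.mem_range.2 (ptIdx p).isLt))

theorem card_zpowers3 {x : ↥M24} (hx1 : x ≠ 1) (hx3 : x ^ 3 = 1) :
    Nat.card (Subgroup.zpowers x) = 3 := by
  have : Fact (Nat.Prime 3) := ⟨by norm_num⟩
  rw [Nat.card_zpowers, orderOf_eq_prime hx3 hx1]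


/-- The group of the length-24 code has exactly two conjugacy classes of subgroups of order 3: a subgroup of order 3 fixes either exactly 6 of the 24 points or none of them, both cases occur, and two subgroups of order 3 with the same number of fixed points are conjugate. -/
theorem result : (∀ X : Subgroup ↥Cfsg.M24, Nat.card X = 3 → {p : Cfsg.GolayPt | ∀ x ∈ X, ((x : ↥Cfsg.M24) : Equiv.Perm Cfsg.GolayPt) p = p}.ncard = 6 ∨ {p : Cfsg.GolayPt | ∀ x ∈ X, ((x : ↥Cfsg.M24) : Equiv.Perm Cfsg.GolayPt) p = p}.ncard = 0) ∧ (∃ X : Subgroup ↥Cfsg.M24, Nat.card X = 3 ∧ {p : Cfsg.GolayPt | ∀ x ∈ X, ((x : ↥Cfsg.M24) : Equiv.Perm Cfsg.GolayPt) p = p}.ncard = 6) ∧ (∃ X : Subgroup ↥Cfsg.M24, Nat.card X = 3 ∧ {p : Cfsg.GolayPt | ∀ x ∈ X, ((x : ↥Cfsg.M24) : Equiv.Perm Cfsg.GolayPt) p = p}.ncard = 0) ∧ ∀ X Y : Subgroup ↥Cfsg.M24, Nat.card X = 3 → Nat.card Y = 3 → {p : Cfsg.GolayPt | ∀ x ∈ X, ((x : ↥Cfsg.M24) : Equiv.Perm Cfsg.GolayPt)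 p = p}.ncard = {p : Cfsg.GolayPt | ∀ x ∈ Y, ((x : ↥Cfsg.M24) : Equiv.Perm Cfsg.GolayPt) p = p}.ncard → ∃ k : ↥Cfsg.M24, MulAut.conj k • X = Y := by
  refine ⟨?_, ?_, ?_, ?_⟩
  · intro X hX
    obtain ⟨x, hx1, hx3, rfl⟩ := card3_gen X hX
    rw [fixset_zpowers]
    exact ord3_fix_cases x.2 (pow3_val hx3) (ne_one_val hx1)
  · obtain ⟨h1, h3, hc⟩ := a3_facts
    exact ⟨Subgroup.zpowers a3, card_zpowers3 h1 h3, by rw [fixset_zpowers]; exact hc⟩
  · obtain ⟨h1, h3, hc⟩ := b3_facts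
    exact ⟨Subgroup.zpowers b3, card_zpowers3 h1 h3, by rw [fixset_zpowers]; exact hc⟩
  · intro X Y hX hY hXY
    obtain ⟨x, hx1, hx3, rfl⟩ := card3_gen X hX
    obtain ⟨y, hy1, hy3, rfl⟩ := card3_gen Y hY
    rw [fixset_zpowers, fixset_zpowers] at hXY
    rcases ord3_fix_cases x.2 (pow3_val hx3) (ne_one_val hx1) with h | h
    · exact conj_trans (classA hx1 hx3 h) (classA hy1 hy3 (by rw [← hXY]; exact h))
    · exact conj_trans (classB hx3 h) (classB hy3 (by rw [← hXY]; exact h))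

end Cfsg.Agent.S5601
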