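import Cfsg.Statements.S5604
import Cfsg.Agent.Lib.Helper93.NormTools

set_option autoImplicit false
open scoped Pointwise
open Cfsg

namespace Cfsg.Agent.S5604

open Cfsg.Agent.Lib.Helper93 Cfsg.Agent.Lib.Helper93.Golay

def T7 : ℕ := 260334318054152790314770457476368416
def cLevels : List (ℕ × List ℕ × List (ℕ × ℕ × ℕ)) :=
  [(0, [723825511238947295528116401248338946], [(2, 0, 0), (1, 2, 0)]),
  (1, [567711388738703259027581675771528256], [(2, 1, 0)]),
  (3, [845417086255294531695329737540438048], [(18, 3, 0), (19, 18, 0), (15, 19, 0), (14, 15, 0), (13, 14, 0), (5, 13, 0)])]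
def nLevels : List (ℕ × List ℕ × List (ℕ × ℕ × ℕ)) :=
  [(0, [723825511238947295528116401248338946], [(2, 0, 0), (1, 2, 0)]),
  (1, [777125148344711368218959327616238656], [(2, 1, 0)]),
  (3, [272175481932018952412367892947306528, 276835167464585443017649698840741920], [(13, 3, 0), (15, 3, 1), (18, 13, 0), (19, 13, 1), (14, 15, 0), (5, 14, 0)]),
  (4, [842795545218950365377824450664302624], [(10, 4, 0), (7, 10, 0)])]
def list21 : List ℕ := [984818244535754528103549039458486304, 679612302862558579076082004038617120, 842795545218950365377824450664302624, 260334318054152790314770457476368416, 983012951612526918446581083863681056, 195205653717015984885997448642856992, 427560925830945985721055171673753632, 272175481932018952412367892947306528, 841611203011414200911699332714367008, 318487287145191976495070678836774944, 431680116826469445638585387158276128, 967967127415320136568859072425035808, 687583091749141794102954231947823136, 276835167464585443017649698840741920, 305541959979635528342687115377084448, 845417086255294531695329737540438048,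 307223498485803375457840667336181792, 177439926691588799467609086101096480, 693630735848267890122385243372095520, 437821765152760179889912035486042144, 182075764538976293375310942550198304]
def list7 : List ℕ := [984818244535754528103549039458486304, 260334318054152790314770457476368416, 427560925830945985721055171673753632, 318487287145191976495070678836774944, 687583091749141794102954231947823136, 845417086255294531695329737540438048, 182075764538976293375310942550198304]
def trio7 : List ℕ := [843820, 6429441, 9503954]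
def ca : ℕ := 803892221033986845717777986259485760
def cb : ℕ := 716077585160412467072142696091060225


theorem T7_ok : isAutC T7 = true := by decide +kernel

theorem T7_chk : eqW (List.replicate 7 T7) [] = true ∧ eqW [T7] [] = false ∧
    papp T7 0 = 0 ∧ papp T7 1 = 1 ∧ papp T7 2 = 2 ∧
    (List.range 24).all (fun i => Nat.blt i 3 || !(Nat.beq (papp T7 i) i)) = true := by
  decide +kernel

theorem T7P : isPerm T7 = true := isPerm_of_isAutC T7_ok

theorem t0_pow7 : (permC T7) ^ 7 = 1 := by
  rw [← prodC_replicate, ← prodC_nil]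
  exact prodC_eq_of_eqW (perm_replicate T7P 7) (fun _ h => absurd h List.not_mem_nil) T7_chk.1

theorem t0_ne_one : permC T7 ≠ 1 := by
  intro h
  have := eqW_of_prodC_eq (ws := [T7]) (ws' := []) (fun X hX => by
    rw [List.mem_singleton] at hX; rw [hX]; exact T7P) (fun _ h => absurd h List.not_mem_nil)
    (by rw [prodC_singleton, prodC_nil]; exact h)
  rw [T7_chk.2.1] at this
  exact Bool.false_ne_true this

/-- The fixed points of the standard element of order 7. -/
def F3 : Finset GolayPt := {P 0, P 1, P 2}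

theorem t0_fix_iff (p : GolayPt) : permC T7 p = p ↔ p ∈ F3 := by
  obtain ⟨_, _, c0, c1, c2, c3⟩ := T7_chk
  constructor
  · intro h
    have h1 := ptIdx_permC T7P p
    rw [h] at h1
    have h2 := List.all_eq_true.1 c3 (ptIdx p) (List.mem_range.2 (ptIdx p).isLt)
    rw [← h1, Nat.beq_refl] at h2
    simp only [Bool.not_true, Bool.or_false] at h2
    have h3 : ((ptIdx p : Fin 24) : ℕ) < 3 := Nat.le_of_ble_eq_true h2
    have key : ∀ i (hi : i < 3), P i (by omega) ∈ F3 := by
      intro i hi
      unfold F3
      interval_cases i <;> simp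
    have := key _ h3
    rw [P_ptIdx p] at this
    exact this
  · intro h
    unfold F3 at h
    simp only [Finset.mem_insert, Finset.mem_singleton] at h
    rcases h with rfl | rfl | rfl
    · exact permC_ptOf T7P 0 (by norm_num) 0 (by norm_num) c0
    · exact permC_ptOf T7P 1 (by norm_num) 1 (by norm_num) c1
    · exact permC_ptOf T7P 2 (by norm_num) 2 (by norm_num) c2

/-! ### Boolean tests for normalising and centralising words -/

def normchkW (ws : List ℕ) : Bool :=
  (List.range 7).any fun k => eqW (ws ++ [T7]) (List.replicate k T7 ++ ws)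

def commchkW (ws : List ℕ) : Bool := eqW (ws ++ [T7]) (T7 :: ws)

theorem single_perm {S : ℕ} (h : isPerm S = true) : ∀ X ∈ [S], isPerm X = true := by
  intro X hX
  rw [List.mem_singleton] at hX
  rw [hX]; exact h

theorem t0_zpow_eq (z : ℤ) : ∃ k, k < 7 ∧ (permC T7) ^ z = (permC T7) ^ k := by
  have h7 : (permC T7) ^ (7 : ℤ) = 1 := by
    have := t0_pow7
    exact_mod_cast this
  refine ⟨(z % 7).toNat, ?_, ?_⟩
  · have := Int.emod_lt_of_pos z (show (0 : ℤ) < 7 by norm_num)
    have h0 := Int.emod_nonneg z (show (7 : ℤ) ≠ 0 by norm_num)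
    omega
  · rw [zpow_eq_zpow_emod z h7]
    have h0 := Int.emod_nonneg z (show (7 : ℤ) ≠ 0 by norm_num)
    rw [← zpow_natCast, Int.toNat_of_nonneg h0]

theorem normchk_of_mem {ws : List ℕ} (hws : ∀ X ∈ ws, isPerm X = true)
    (h : prodC ws ∈ normP (permC T7)) : normchkW ws = true := by
  rw [mem_normP_iff] at h
  obtain ⟨z, hz⟩ := Subgroup.mem_zpowers_iff.1 h.2
  obtain ⟨k, hk7, hk⟩ := t0_zpow_eq z
  rw [hk] at hz
  unfold normchkW
  rw [List.any_eq_true]
  refine ⟨k, List.mem_range.2 hk7, ?_⟩
  apply eqW_of_prodC_eq (perm_append hws (single_perm T7P))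
    (perm_append (perm_replicate T7P k) hws)
  rw [prodC_append, prodC_append, prodC_singleton, prodC_replicate, hz]
  group

theorem mem_of_normchk {ws : List ℕ} (hws : ∀ X ∈ ws, isPerm X = true) (hM : prodC ws ∈ M24)
    (h : normchkW ws = true) : prodC ws ∈ normP (permC T7) := by
  rw [mem_normP_iff]
  refine ⟨hM, ?_⟩
  unfold normchkW at h
  obtain ⟨k, _, hk⟩ := List.any_eq_true.1 h
  have := prodC_eq_of_eqW (perm_append hws (single_perm T7P))
    (perm_append (perm_replicate T7P k) hws) hk
  rw [prodC_append, prodC_append, prodC_singleton, prodC_replicate] at this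
  have e : prodC ws * permC T7 * (prodC ws)⁻¹ = (permC T7) ^ k := by
    rw [this]; group
  rw [e]
  exact Subgroup.npow_mem_zpowers _ k

theorem commchk_of_comm {ws : List ℕ} (hws : ∀ X ∈ ws, isPerm X = true)
    (h : prodC ws * permC T7 = permC T7 * prodC ws) : commchkW ws = true := by
  unfold commchkW
  apply eqW_of_prodC_eq (perm_append hws (single_perm T7P))
  · intro X hX
    rcases List.mem_cons.1 hX with rfl | hX
    · exact T7P
    · exact hws X hX
  · rw [prodC_append, prodC_singleton, prodC_cons, h]

theorem comm_of_commchk {ws : List ℕ} (hws : ∀ X ∈ ws, isPerm X = true)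
    (h : commchkW ws = true) : prodC ws * permC T7 = permC T7 * prodC ws := by
  unfold commchkW at h
  have := prodC_eq_of_eqW (perm_append hws (single_perm T7P)) (by
    intro X hX
    rcases List.mem_cons.1 hX with rfl | hX
    · exact T7P
    · exact hws X hX) h
  rw [prodC_append, prodC_singleton, prodC_cons] at this
  exact this

/-! ### The tables -/

/-- A quick necessary test: the normalising relation at the point of index 3. -/
def quickW (ws : List ℕ) : Bool :=
  (List.range 7).any fun k => Nat.beq (pappL (ws ++ [T7]) 3) (pappL (List.replicate k T7 ++ ws) 3)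

theorem quick_of_normchk {ws : List ℕ} (h : normchkW ws = true) : quickW ws = true := by
  unfold normchkW at h
  obtain ⟨k, hk, hke⟩ := List.any_eq_true.1 h
  unfold quickW
  rw [List.any_eq_true]
  refine ⟨k, hk, ?_⟩
  unfold eqW at hke
  exact List.all_eq_true.1 hke 3 (List.mem_range.2 (by norm_num))

def chkN (ws : List ℕ) : Bool :=
  !(quickW ws) || !(normchkW ws) || list21.any (fun X => eqW ws [X])

set_option maxRecDepth 1000000 in
theorem tabN : wList.all (fun W => cosetPairs.all (fun x => chkN [W, idCode, x.1, x.2])) = true := by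
  decide +kernel

theorem tabC : list21.all (fun X => !(commchkW [X]) || list7.any (fun Y => Nat.beq X Y)) = true := by
  decide +kernel

theorem list21_ok : list21.all isAutC = true := by decide +kernel

/-! ### Upper bounds -/

theorem zpow_fix {p : GolayPt} (hp : permC T7 p = p) (z : ℤ) : ((permC T7) ^ z) p = p :=
  Equiv.Perm.zpow_apply_eq_self_of_apply_eq_self hp z

theorem norm_maps_F {n : Equiv.Perm GolayPt} (hn : n ∈ normP (permC T7)) {p : GolayPt}
    (hp : p ∈ F3) : n p ∈ F3 := by
  have hn' := (normP (permC T7)).inv_mem hn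
  rw [mem_normP_iff] at hn'
  obtain ⟨z, hz⟩ := Subgroup.mem_zpowers_iff.1 hn'.2
  rw [inv_inv] at hz
  rw [← t0_fix_iff]
  have e : permC T7 * n = n * (permC T7) ^ z := by
    rw [hz]; group
  have := congrArg (fun f : Equiv.Perm GolayPt => f p) e
  simp only [Equiv.Perm.mul_apply] at this
  rw [this, zpow_fix ((t0_fix_iff p).2 hp)]

def N1 : Subgroup (Equiv.Perm GolayPt) :=
  normP (permC T7) ⊓ MulAction.stabilizer (Equiv.Perm GolayPt) (P 0)
def N2 : Subgroup (Equiv.Perm GolayPt) :=
  N1 ⊓ MulAction.stabilizer (Equiv.Perm GolayPt) (P 1)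

theorem P_ne : P 0 ≠ P 1 ∧ P 0 ≠ P 2 ∧ P 1 ≠ P 2 := by decide

theorem N2_fix {n : Equiv.Perm GolayPt} (hn : n ∈ N2) :
    n ∈ normP (permC T7) ∧ n (P 0) = P 0 ∧ n (P 1) = P 1 ∧ n (P 2) = P 2 := by
  have h1 := Subgroup.mem_inf.1 hn
  have h2 := Subgroup.mem_inf.1 h1.1
  have e0 : n (P 0) = P 0 := MulAction.mem_stabilizer_iff.1 h2.2
  have e1 : n (P 1) = P 1 := MulAction.mem_stabilizer_iff.1 h1.2
  refine ⟨h2.1, e0, e1, ?_⟩
  have hF := norm_maps_F h2.1 (p := P 2) (by unfold F3; simp)
  unfold F3 at hF
  simp only [Finset.mem_insert, Finset.mem_singleton] at hF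
  rcases hF with h | h | h
  · exact absurd (n.injective (h.trans e0.symm)) (Ne.symm P_ne.2.1)
  · exact absurd (n.injective (h.trans e1.symm)) (Ne.symm P_ne.2.2)
  · exact h

theorem N2_list {n : Equiv.Perm GolayPt} (hn : n ∈ N2) : ∃ X ∈ list21, permC X = n := by
  obtain ⟨hN, e0, e1, e2⟩ := N2_fix hn
  have hM := ((mem_normP_iff _ _).1 hN).1
  obtain ⟨ws, hws, rfl, hchk⟩ := m21_all_spec chkN tabN hM e0 e1 e2
  unfold chkN at hchk
  rw [normchk_of_mem hws hN, quick_of_normchk (normchk_of_mem hws hN)] at hchk
  simp only [Bool.not_true, Bool.false_or] at hchk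
  obtain ⟨X, hX, hXe⟩ := List.any_eq_true.1 hchk
  refine ⟨X, hX, ?_⟩
  have hXP := isPerm_of_isAutC (List.all_eq_true.1 list21_ok X hX)
  rw [← prodC_singleton X]
  exact (prodC_eq_of_eqW hws (single_perm hXP) hXe).symm

theorem card_N_le : Nat.card (normP (permC T7)) ≤ 126 := by
  have h0 := card_le_mul_stab (normP (permC T7)) (P 0) F3
    (fun k hk => norm_maps_F hk (by unfold F3; simp))
  have h1 := card_le_mul_stab N1 (P 1) {P 1, P 2} (by
    intro k hk
    have hk' := Subgroup.mem_inf.1 hk
    have e0 : k (P 0) = P 0 := MulAction.mem_stabilizer_iff.1 hk'.2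
    have hF := norm_maps_F hk'.1 (p := P 1) (by unfold F3; simp)
    unfold F3 at hF
    simp only [Finset.mem_insert, Finset.mem_singleton] at hF ⊢
    rcases hF with h | h | h
    · exact absurd (k.injective (h.trans e0.symm)) (Ne.symm P_ne.1)
    · exact Or.inl h
    · exact Or.inr h)
  have h2 := card_le_of_list N2 list21 (fun g hg => N2_list hg)
  have c3 : F3.card = 3 := by decide
  have c2 : ({P 1, P 2} : Finset GolayPt).card = 2 := by decide
  have c21 : list21.length = 21 := by decide
  rw [c3] at h0
  rw [c2] at h1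
  rw [c21] at h2
  change Nat.card (normP (permC T7)) ≤ 3 * Nat.card N1 at h0
  change Nat.card N1 ≤ 2 * Nat.card N2 at h1
  omega

theorem centM_le_normP : centM (permC T7) ≤ normP (permC T7) := by
  intro c hc
  rw [mem_centM] at hc
  rw [mem_normP_iff]
  refine ⟨hc.1, ?_⟩
  have : c * permC T7 * c⁻¹ = permC T7 := by rw [hc.2]; group
  rw [this]
  exact Subgroup.mem_zpowers _

def C1 : Subgroup (Equiv.Perm GolayPt) :=
  centM (permC T7) ⊓ MulAction.stabilizer (Equiv.Perm GolayPt) (P 0)
def C2 : Subgroup (Equiv.Perm GolayPt) :=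
  C1 ⊓ MulAction.stabilizer (Equiv.Perm GolayPt) (P 1)

theorem list7_ok : list7.all (fun X => list21.any (fun Y => Nat.beq X Y)) = true := by
  decide +kernel

theorem C2_list {c : Equiv.Perm GolayPt} (hc : c ∈ C2) : ∃ X ∈ list7, permC X = c := by
  have h1 := Subgroup.mem_inf.1 hc
  have h2 := Subgroup.mem_inf.1 h1.1
  have hN2 : c ∈ N2 :=
    Subgroup.mem_inf.2 ⟨Subgroup.mem_inf.2 ⟨centM_le_normP h2.1, h2.2⟩, h1.2⟩
  obtain ⟨X, hX, rfl⟩ := N2_list hN2
  have hXP := isPerm_of_isAutC (List.all_eq_true.1 list21_ok X hX)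
  have hcomm := ((mem_centM _ _).1 h2.1).2
  have hchk := commchk_of_comm (ws := [X]) (single_perm hXP) (by
    rw [prodC_singleton]; exact hcomm)
  have ht := List.all_eq_true.1 tabC X hX
  rw [hchk] at ht
  simp only [Bool.not_true, Bool.false_or] at ht
  obtain ⟨Y, hY, hXY⟩ := List.any_eq_true.1 ht
  rw [Nat.eq_of_beq_eq_true hXY]
  exact ⟨Y, hY, rfl⟩

theorem card_C_le : Nat.card (centM (permC T7)) ≤ 42 := by
  have h0 := card_le_mul_stab (centM (permC T7)) (P 0) F3
    (fun k hk => norm_maps_F (centM_le_normP hk) (by unfold F3; simp))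
  have h1 := card_le_mul_stab C1 (P 1) {P 1, P 2} (by
    intro k hk
    have hk' := Subgroup.mem_inf.1 hk
    have e0 : k (P 0) = P 0 := MulAction.mem_stabilizer_iff.1 hk'.2
    have hF := norm_maps_F (centM_le_normP hk'.1) (p := P 1) (by unfold F3; simp)
    unfold F3 at hF
    simp only [Finset.mem_insert, Finset.mem_singleton] at hF ⊢
    rcases hF with h | h | h
    · exact absurd (k.injective (h.trans e0.symm)) (Ne.symm P_ne.1)
    · exact Or.inl h
    · exact Or.inr h)
  have h2 := card_le_of_list C2 list7 (fun g hg => C2_list hg)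
  have c3 : F3.card = 3 := by decide
  have c2 : ({P 1, P 2} : Finset GolayPt).card = 2 := by decide
  have c7 : list7.length = 7 := by decide
  rw [c3] at h0
  rw [c2] at h1
  rw [c7] at h2
  change Nat.card (centM (permC T7)) ≤ 3 * Nat.card C1 at h0
  change Nat.card C1 ≤ 2 * Nat.card C2 at h1
  omega

/-! ### Lower bounds -/

theorem nLevels_ok : (chainGens nLevels).all (fun S => isAutC S && normchkW [S]) = true := by
  decide +kernel
theorem cLevels_ok : (chainGens cLevels).all (fun S => isAutC S && commchkW [S]) = true := by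
  decide +kernel
theorem levels_prod : chainProd 0 nLevels = 126 ∧ chainProd 0 cLevels = 42 := by decide +kernel

theorem card_N : Nat.card (normP (permC T7)) = 126 := by
  apply le_antisymm card_N_le
  have := chainProd_le (normP (permC T7)) nLevels 0 (by
    intro lev hlev S hS
    have hmem : S ∈ chainGens nLevels := by
      unfold chainGens
      rw [List.mem_flatMap]
      exact ⟨lev, hlev, hS⟩
    have := List.all_eq_true.1 nLevels_ok S hmem
    rw [Bool.and_eq_true] at this
    have hP := isPerm_of_isAutC this.1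
    have := mem_of_normchk (single_perm hP) (by rw [prodC_singleton]; exact permC_mem_M24 this.1)
      this.2
    rw [prodC_singleton] at this
    exact this)
  rw [fixIn_zero, levels_prod.1] at this
  exact this

theorem card_C : Nat.card (centM (permC T7)) = 42 := by
  apply le_antisymm card_C_le
  have := chainProd_le (centM (permC T7)) cLevels 0 (by
    intro lev hlev S hS
    have hmem : S ∈ chainGens cLevels := by
      unfold chainGens
      rw [List.mem_flatMap]
      exact ⟨lev, hlev, hS⟩
    have := List.all_eq_true.1 cLevels_ok S hmem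
    rw [Bool.and_eq_true] at this
    have hP := isPerm_of_isAutC this.1
    have h2 := comm_of_commchk (single_perm hP) this.2
    rw [prodC_singleton] at h2
    exact (mem_centM _ _).2 ⟨permC_mem_M24 this.1, h2⟩)
  rw [fixIn_zero, levels_prod.2] at this
  exact this

/-! ### The invariant trio and non-commuting elements -/

set_option maxRecDepth 1000000 in
theorem trio_filter : trioList.filter (fun l => beqL (actL T7 l) l) = [trio7] := by
  decide +kernel

theorem trio7_mem : trio7 ∈ trioList := by
  have : trio7 ∈ trioList.filter (fun l => beqL (actL T7 l) l) := by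
    rw [trio_filter]; exact List.mem_singleton.2 rfl
  exact (List.mem_filter.1 this).1

theorem trio_unique {T' : Finset (Finset GolayPt)} (hT' : T' ∈ trios)
    (h : permC T7 • T' = T') : T' = decFF trio7 := by
  obtain ⟨l, hl, rfl⟩ := trioFamily.complete T' hT'
  have hcan := trioList_canon l hl
  have hact : permC T7 • decFF l = decFF (actL T7 l) :=
    encFam.act_spec T7 T7P l (encFam.canon_small l hcan)
  change permC T7 • decFF l = decFF l at h
  rw [h] at hact
  have e : actL T7 l = l := (decFF_inj hcan (canonL_actL T7P hcan) hact).symm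
  have hmem : l ∈ trioList.filter (fun l => beqL (actL T7 l) l) := by
    rw [List.mem_filter]
    refine ⟨hl, ?_⟩
    show beqL (actL T7 l) l = true
    rw [e]
    exact beqL_refl l
  rw [trio_filter, List.mem_singleton] at hmem
  rw [hmem]
  rfl

theorem trio7_fixed : permC T7 • decFF trio7 = decFF trio7 := by
  have h2 : beqL (actL T7 trio7) trio7 = true := by decide +kernel
  have hcan := trioList_canon trio7 trio7_mem
  have hact : permC T7 • decFF trio7 = decFF (actL T7 trio7) :=
    encFam.act_spec T7 T7P trio7 (encFam.canon_small trio7 hcan)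
  rw [hact, beqL_eq _ _ h2]

theorem norm_fix_trio {n : Equiv.Perm GolayPt} (hn : n ∈ normP (permC T7)) :
    n • decFF trio7 = decFF trio7 := by
  have hM := ((mem_normP_iff _ _).1 hn).1
  have hn' := (normP (permC T7)).inv_mem hn
  rw [mem_normP_iff] at hn'
  obtain ⟨z, hz⟩ := Subgroup.mem_zpowers_iff.1 hn'.2
  rw [inv_inv] at hz
  have e : permC T7 * n = n * (permC T7) ^ z := by
    rw [hz]; group
  have hT : decFF trio7 ∈ trios := trioFamily.sound trio7 trio7_mem
  have hst : permC T7 ∈ MulAction.stabilizer (Equiv.Perm GolayPt) (decFF trio7) :=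
    MulAction.mem_stabilizer_iff.2 trio7_fixed
  have hz' : (permC T7) ^ z • decFF trio7 = decFF trio7 :=
    MulAction.mem_stabilizer_iff.1 (Subgroup.zpow_mem _ hst z)
  apply trio_unique (smul_mem_trios hM hT)
  rw [← mul_smul, e, mul_smul, hz']

theorem cab_ok : isAutC ca = true ∧ isAutC cb = true ∧ commchkW [ca] = true ∧
    commchkW [cb] = true ∧ eqW [ca, cb] [cb, ca] = false := by decide +kernel

theorem std_noncomm : permC ca ∈ centM (permC T7) ∧ permC cb ∈ centM (permC T7) ∧
    permC ca * permC cb ≠ permC cb * permC ca := by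
  obtain ⟨h1, h2, h3, h4, h5⟩ := cab_ok
  have hPa := isPerm_of_isAutC h1
  have hPb := isPerm_of_isAutC h2
  have ea := comm_of_commchk (single_perm hPa) h3
  have eb := comm_of_commchk (single_perm hPb) h4
  rw [prodC_singleton] at ea eb
  refine ⟨(mem_centM _ _).2 ⟨permC_mem_M24 h1, ea⟩, (mem_centM _ _).2 ⟨permC_mem_M24 h2, eb⟩, ?_⟩
  intro h
  have hl : ∀ l : List ℕ, (∀ S ∈ l, S = ca ∨ S = cb) → ∀ S ∈ l, isPerm S = true := by
    intro l hl S hS
    rcases hl S hS with rfl | rfl
    · exact hPa
    · exact hPb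
  have := eqW_of_prodC_eq (ws := [ca, cb]) (ws' := [cb, ca]) (hl _ (by simp)) (hl _ (by simp)) (by
    rw [prodC_cons, prodC_singleton, prodC_cons, prodC_singleton]; exact h)
  rw [h5] at this
  exact Bool.false_ne_true this


/-! ### Transfer to subgroups of `↥M24` -/

theorem fact_M24_7 : (244823040 : ℕ).factorization 7 = 1 := by
  have h : (244823040 : ℕ) = 7 ^ 1 * 34974720 := by norm_num
  rw [h, Nat.factorization_mul (by norm_num) (by norm_num),
    Nat.Prime.factorization_pow (by norm_num)]
  simp
  rw [Nat.factorization_eq_zero_of_not_dvd (by norm_num)]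

theorem card_M24' : Nat.card ↥M24 = 244823040 := card_M24

/-- The standard element of order 7 inside `↥M24`. -/
def s0 : ↥M24 := ⟨permC T7, permC_mem_M24 T7_ok⟩

theorem s0_order : orderOf s0 = 7 := by
  have : Fact (Nat.Prime 7) := ⟨by norm_num⟩
  apply orderOf_eq_prime
  · apply Subtype.ext
    rw [Subgroup.coe_pow]
    exact t0_pow7
  · intro h
    exact t0_ne_one (congrArg Subtype.val h)

theorem conj_zpowers' (k x : ↥M24) :
    MulAut.conj k • Subgroup.zpowers x = Subgroup.zpowers (k * x * k⁻¹) := by
  show Subgroup.map (MulAut.conj k).toMonoidHom (Subgroup.zpowers x) = _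
  rw [MonoidHom.map_zpowers]
  rfl

theorem sylow7_conj (S : Subgroup ↥M24) (hS : Nat.card S = 7) :
    ∃ g : ↥M24, S = Subgroup.zpowers (g * s0 * g⁻¹) := by
  have : Fact (Nat.Prime 7) := ⟨by norm_num⟩
  have hexp : 7 ^ (Nat.card ↥M24).factorization 7 = 7 := by
    rw [card_M24', fact_M24_7]; norm_num
  have h0 : Nat.card (Subgroup.zpowers s0) = 7 := by
    rw [Nat.card_zpowers, s0_order]
  let P : Sylow 7 ↥M24 := Sylow.ofCard S (by rw [hS, hexp])
  let P0 : Sylow 7 ↥M24 := Sylow.ofCard (Subgroup.zpowers s0) (by rw [h0, hexp])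
  obtain ⟨g, hg⟩ := MulAction.exists_smul_eq ↥M24 P0 P
  refine ⟨g, ?_⟩
  have h1 : ((g • P0 : Sylow 7 ↥M24) : Subgroup ↥M24) = (P : Subgroup ↥M24) := by rw [hg]
  rw [Sylow.coe_subgroup_smul] at h1
  have h2 : (P : Subgroup ↥M24) = S := rfl
  have h3 : (P0 : Subgroup ↥M24) = Subgroup.zpowers s0 := rfl
  rw [h2, h3, conj_zpowers'] at h1
  exact h1.symm

theorem zpowers_val_iff (s x : ↥M24) :
    x ∈ Subgroup.zpowers s ↔ (x : Equiv.Perm GolayPt) ∈ Subgroup.zpowers (s : Equiv.Perm GolayPt) := by
  rw [Subgroup.mem_zpowers_iff, Subgroup.mem_zpowers_iff]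
  constructor
  · rintro ⟨k, hk⟩
    refine ⟨k, ?_⟩
    rw [← hk, Subgroup.coe_zpow]
  · rintro ⟨k, hk⟩
    refine ⟨k, ?_⟩
    apply Subtype.ext
    rw [Subgroup.coe_zpow]
    exact hk

theorem map_normalizer (s : ↥M24) :
    (Subgroup.normalizer (Subgroup.zpowers s : Set ↥M24)).map M24.subtype =
      normP (s : Equiv.Perm GolayPt) := by
  ext x
  rw [Subgroup.mem_map, mem_normP_iff]
  constructor
  · rintro ⟨n, hn, rfl⟩
    rw [mem_normalizer_zpowers_iff, zpowers_val_iff] at hn
    exact ⟨n.2, hn⟩
  · rintro ⟨hM, hx⟩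
    refine ⟨⟨x, hM⟩, ?_, rfl⟩
    rw [mem_normalizer_zpowers_iff, zpowers_val_iff]
    exact hx

theorem map_centralizer (s : ↥M24) :
    (Subgroup.centralizer (Subgroup.zpowers s : Set ↥M24)).map M24.subtype =
      centM (s : Equiv.Perm GolayPt) := by
  ext x
  rw [Subgroup.mem_map, mem_centM]
  constructor
  · rintro ⟨n, hn, rfl⟩
    rw [mem_centralizer_zpowers_iff] at hn
    exact ⟨n.2, congrArg Subtype.val hn⟩
  · rintro ⟨hM, hx⟩
    refine ⟨⟨x, hM⟩, ?_, rfl⟩
    rw [mem_centralizer_zpowers_iff]
    exact Subtype.ext hx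

theorem card_map_subtype (H : Subgroup ↥M24) : Nat.card (H.map M24.subtype) = Nat.card H :=
  (Nat.card_congr (H.equivMapOfInjective M24.subtype M24.subtype_injective).toEquiv).symm


/-- For a subgroup S of order 7 of the group of the length-24 code (a Sylow 7-subgroup): the normaliser of S has order 126, the centraliser of S has order 42 and is non-abelian, and the whole normaliser leaves some trio invariant. (These are the orders of a Frobenius group of order 21 times a symmetric group of degree 3; the isomorphism type itself is not asserted here.) -/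
theorem result (S : Subgroup ↥Cfsg.M24) (hS : Nat.card S = 7) : Nat.card ↥(Subgroup.normalizer (S : Set ↥Cfsg.M24)) = 126 ∧ Nat.card ↥(Subgroup.centralizer (S : Set ↥Cfsg.M24)) = 42 ∧ (∃ x ∈ Subgroup.centralizer (S : Set ↥Cfsg.M24), ∃ y ∈ Subgroup.centralizer (S : Set ↥Cfsg.M24), x * y ≠ y * x) ∧ ∃ T ∈ Cfsg.trios, ∀ n ∈ Subgroup.normalizer (S : Set ↥Cfsg.M24), ((n : ↥Cfsg.M24) : Equiv.Perm Cfsg.GolayPt) • T = T := by
  obtain ⟨g, rfl⟩ := sylow7_conj S hS
  set u : Equiv.Perm GolayPt := (g : Equiv.Perm GolayPt) with hu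
  have huM : u ∈ M24 := g.2
  set s : ↥M24 := g * s0 * g⁻¹ with hs
  have hsval : (s : Equiv.Perm GolayPt) = u * permC T7 * u⁻¹ := rfl
  refine ⟨?_, ?_, ?_, ?_⟩
  · rw [← card_map_subtype, map_normalizer, hsval, card_normP_conj _ _ huM]
    exact card_N
  · rw [← card_map_subtype, map_centralizer, hsval, card_centM_conj _ _ huM]
    exact card_C
  · obtain ⟨ha, hb, hab⟩ := std_noncomm
    have hmem : ∀ c : Equiv.Perm GolayPt, c ∈ centM (permC T7) →
        u * c * u⁻¹ ∈ centM (u * permC T7 * u⁻¹) := by
      intro c hc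
      rw [mem_centM_conj _ _ _ huM]
      have : u⁻¹ * (u * c * u⁻¹) * u = c := by group
      rw [this]
      exact hc
    have ha' := hmem _ ha
    have hb' := hmem _ hb
    rw [mem_centM] at ha' hb'
    refine ⟨⟨u * permC ca * u⁻¹, ha'.1⟩, ?_, ⟨u * permC cb * u⁻¹, hb'.1⟩, ?_, ?_⟩
    · rw [mem_centralizer_zpowers_iff]
      exact Subtype.ext ha'.2
    · rw [mem_centralizer_zpowers_iff]
      exact Subtype.ext hb'.2
    · intro h
      apply hab
      have h1 : (u * permC ca * u⁻¹) * (u * permC cb * u⁻¹) =
          (u * permC cb * u⁻¹) * (u * permC ca * u⁻¹) := congrArg Subtype.val h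
      have h2 : permC ca * permC cb = u⁻¹ * ((u * permC ca * u⁻¹) * (u * permC cb * u⁻¹)) * u := by
        group
      rw [h2, h1]
      group
  · refine ⟨u • decFF trio7, smul_mem_trios huM (trioFamily.sound trio7 trio7_mem), ?_⟩
    intro n hn
    have h1 : (n : Equiv.Perm GolayPt) ∈ normP (s : Equiv.Perm GolayPt) := by
      rw [← map_normalizer]
      exact Subgroup.mem_map.2 ⟨n, hn, rfl⟩
    rw [hsval, mem_normP_conj _ _ _ huM] at h1
    have h2 := norm_fix_trio h1
    have h3 : (n : Equiv.Perm GolayPt) • u • decFF trio7 =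
        u • ((u⁻¹ * (n : Equiv.Perm GolayPt) * u) • decFF trio7) := by
      rw [← mul_smul, ← mul_smul]
      congr 1
      group
    rw [h3, h2]

end Cfsg.Agent.S5604
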