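import Cfsg.Statements.S5607
import Cfsg.Agent.Lib.Helper93.RelOrbit
import Cfsg.Agent.S5606

set_option autoImplicit false
open scoped Pointwise
open Cfsg

namespace Cfsg.Agent.S5607

open Cfsg.Agent.Lib.Helper93 Cfsg.Agent.Lib.Helper93.Golay

def T1 : ℕ := 222521510211855271950402112419037282
def V1 : ℕ := 220758432619211218739708282720933329
def Pi1code : List ℕ := [5, 10, 576, 1152, 4112, 33024, 147456, 589824, 1310720, 2105344, 4196352, 8388640]
def cLevels : List (ℕ × List ℕ × List (ℕ × ℕ × ℕ)) :=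
  [(0, [789782276804038848390956090034445861, 358679296851903876703026463957042350], [(5, 0, 0), (14, 0, 1), (16, 5, 0), (15, 5, 1), (8, 14, 0), (22, 16, 0), (9, 15, 0), (1, 15, 1), (6, 8, 0), (3, 8, 1), (20, 22, 1), (21, 9, 1), (17, 1, 0), (13, 6, 1), (23, 3, 1), (4, 20, 1), (10, 21, 1), (19, 17, 1), (7, 13, 1), (11, 19, 0), (2, 19, 1), (18, 11, 1), (12, 18, 1)]),
  (1, [631153623248359604818776956837333088], [(3, 1, 0)]),
  (4, [596693935057177821627616253167372320, 397870382358777413293249950439802912], [(10, 4, 0), (5, 4, 1), (17, 10, 1), (6, 5, 1), (11, 17, 1), (9, 6, 0), (21, 6, 1), (22, 11, 0), (20, 11, 1), (13, 9, 1), (16, 21, 1), (18, 22, 1), (8, 20, 1), (19, 13, 1), (15, 18, 1), (12, 19, 1), (7, 15, 1), (23, 12, 1), (14, 7, 1)]),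
  (5, [720981692062171673584743151055243296, 651239579074641248992907580101724192, 812852730107173232200347929486133280], [(14, 5, 0), (8, 5, 1), (16, 5, 2), (19, 14, 1), (15, 14, 2), (17, 8, 2), (23, 19, 2)])]
def piTargets : List (List ℕ) := [[3, 12, 144, 576, 5120, 65792, 131104, 557056, 1310720, 2105344, 4196352, 8404992],
  [3, 12, 144, 2560, 5120, 16416, 98304, 524544, 1056768, 2359296, 4194368, 8519680],
  [3, 12, 576, 1040, 4224, 98304, 147456, 270336, 524544, 3145728, 4196352, 8388640],
  [3, 12, 1040, 2112, 4224, 16416, 33024, 589824, 1310720, 2105344, 4194816, 8519680],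
  [3, 12, 1152, 2112, 4112, 65792, 147456, 557056, 1056768, 2359296, 4194816, 8388640],
  [3, 12, 1152, 2560, 4112, 33024, 131104, 270336, 589824, 3145728, 4194368, 8404992],
  [5, 10, 144, 2112, 5120, 33024, 131104, 589824, 1056768, 2359296, 4194816, 8404992],
  [5, 10, 144, 2560, 5120, 65792, 147456, 270336, 557056, 3145728, 4194368, 8388640],
  [5, 10, 576, 1040, 4224, 16416, 65792, 557056, 1056768, 2359296, 4196352, 8519680],
  [5, 10, 576, 1152, 4112, 33024, 147456, 589824, 1310720, 2105344, 4196352, 8388640],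
  [5, 10, 1040, 2560, 4224, 98304, 131104, 524544, 1310720, 2105344, 4194368, 8404992],
  [5, 10, 1152, 2112, 4112, 16416, 98304, 270336, 524544, 3145728, 4194816, 8519680],
  [6, 9, 144, 576, 5120, 16416, 33024, 270336, 589824, 3145728, 4196352, 8519680],
  [6, 9, 144, 2112, 5120, 98304, 147456, 524544, 1310720, 2105344, 4194816, 8388640],
  [6, 9, 576, 1152, 4112, 98304, 131104, 524544, 1056768, 2359296, 4196352, 8404992],
  [6, 9, 1040, 2112, 4224, 65792, 131104, 270336, 557056, 3145728, 4194816, 8404992],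
  [6, 9, 1040, 2560, 4224, 33024, 147456, 589824, 1056768, 2359296, 4194368, 8388640],
  [6, 9, 1152, 2560, 4112, 16416, 65792, 557056, 1310720, 2105344, 4194368, 8519680]]
def piWords : List (List ℕ) := [[1], [6, 1], [9, 1], [3], [2, 0], [0, 1], [2], [9], [10], [], [5, 2], [6], [10, 0], [4], [0, 2], [6, 0], [0], [9, 0]]
def cGens0 : List ℕ := [789782276804038848390956090034445861, 358679296851903876703026463957042350]
def cTree0 : List (ℕ × ℕ × ℕ) := [(5, 0, 0), (14, 0, 1), (16, 5, 0), (15, 5, 1), (8, 14, 0), (22, 16, 0), (9, 15, 0), (1, 15, 1), (6, 8, 0), (3, 8, 1), (20, 22, 1), (21, 9, 1), (17, 1, 0), (13, 6, 1), (23, 3, 1), (4, 20, 1), (10, 21, 1), (19, 17, 1), (7, 13, 1), (11, 19, 0), (2, 19, 1), (18, 11, 1), (12, 18, 1)]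

theorem T1_ok : isAutC T1 = true := by decide +kernel
theorem V1_ok : isAutC V1 = true := by decide +kernel
theorem V1_conj : conjChkF V1 (papp S5606.T0) (papp T1) = true := by decide +kernel

theorem t1_conj : permC T1 = permC V1 * permC S5606.T0 * (permC V1)⁻¹ :=
  conj_of_chk (isPerm_of_isAutC V1_ok) (fun p => ptIdx_permC (isPerm_of_isAutC S5606.T0_ok) p)
    (fun p => ptIdx_permC (isPerm_of_isAutC T1_ok) p) V1_conj

theorem t1_idx (p : GolayPt) : ((ptIdx (permC T1 p) : Fin 24) : ℕ) = papp T1 (ptIdx p) :=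
  ptIdx_permC (isPerm_of_isAutC T1_ok) p

/-! ### Lower bound -/

theorem cLevels_ok : (chainGens cLevels).all (fun S => isAutC S && commF (papp S) (papp T1)) = true := by
  decide +kernel

theorem cLevels_prod : chainProd 0 cLevels = 7680 := by decide +kernel

theorem cgen_mem {S : ℕ} (h : isAutC S = true) (hc : commF (papp S) (papp T1) = true) :
    permC S ∈ centM (permC T1) := by
  rw [mem_centM]
  exact ⟨permC_mem_M24 h, comm_of_commF (fun p => ptIdx_permC (isPerm_of_isAutC h) p) t1_idx hc⟩

theorem lower : 7680 ≤ Nat.card (centM (permC T1)) := by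
  have := chainProd_le (centM (permC T1)) cLevels 0 (by
    intro lev hlev S hS
    have hmem : S ∈ chainGens cLevels := by
      unfold chainGens
      rw [List.mem_flatMap]
      exact ⟨lev, hlev, hS⟩
    have := List.all_eq_true.1 cLevels_ok S hmem
    rw [Bool.and_eq_true] at this
    exact cgen_mem this.1 this.2)
  rw [fixIn_zero, cLevels_prod] at this
  exact this

/-! ### Transitivity -/

theorem cGens0_ok : cGens0.all (fun S => isAutC S && commF (papp S) (papp T1)) = true := by
  decide +kernel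

theorem cTree0_ok : treeRun cGens0 (1 <<< 0) cTree0 = 16777215 := by decide +kernel

theorem trans0 (p : GolayPt) : ∃ u ∈ centM (permC T1), u (P 0) = p := by
  have hgens : ∀ S ∈ cGens0, isPerm S = true ∧ permC S ∈ centM (permC T1) := by
    intro S hS
    have := List.all_eq_true.1 cGens0_ok S hS
    rw [Bool.and_eq_true] at this
    exact ⟨isPerm_of_isAutC this.1, cgen_mem this.1 this.2⟩
  have key := treeRun_spec (centM (permC T1)) cGens0 hgens (P 0) cTree0 (1 <<< 0) (by
    intro i hi hbit
    rw [Nat.one_shiftLeft, Nat.testBit_two_pow] at hbit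
    have : 0 = i := by simpa using hbit
    subst this
    exact ⟨1, (centM (permC T1)).one_mem, rfl⟩) (ptIdx p) (ptIdx p).isLt (by
    rw [cTree0_ok]
    have key : ∀ j : Fin 24, (16777215 : ℕ).testBit j = true := by decide
    exact key _)
  obtain ⟨u, hu, hup⟩ := key
  refine ⟨u, hu, ?_⟩
  rw [hup]
  exact ptOf_ptIdx p

theorem transitive_std (p q : GolayPt) : ∃ c ∈ centM (permC T1), c p = q := by
  obtain ⟨u, hu, hup⟩ := trans0 p
  obtain ⟨v, hv, hvq⟩ := trans0 q
  refine ⟨v * u⁻¹, (centM (permC T1)).mul_mem hv ((centM (permC T1)).inv_mem hu), ?_⟩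
  rw [Equiv.Perm.mul_apply, ← hup]
  simp [hvq]

/-! ### The invariant sextet -/

theorem S0_tetrads_fixed : S0code.all (fun m => Nat.beq (pmask T1 m) m) = true := by decide +kernel

set_option maxRecDepth 1000000 in
theorem sext_filter : sextetList.filter (fun l => l.all (fun m => Nat.beq (pmask T1 m) m)) =
    [S0code] := by decide +kernel

theorem sext_unique {S' : Finset (Finset GolayPt)} (hS' : S' ∈ sextets)
    (h : ∀ T' ∈ S', permC T1 • T' = T') : S' = decFF S0code := by
  have hT1P := isPerm_of_isAutC T1_ok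
  obtain ⟨l, hl, rfl⟩ := sextetFamily.complete S' hS'
  have hcan := sextetList_canon l hl
  have hall : l.all (fun m => Nat.beq (pmask T1 m) m) = true := by
    rw [List.all_eq_true]
    intro m hm
    have hm24 := canonL_lt hcan hm
    have hmem : fset m ∈ decFF l := (mem_decFF l _).2 ⟨m, hm, rfl⟩
    have h1 := h _ hmem
    rw [permC_smul_fset hT1P hm24] at h1
    have := fset_injOn (pmask_lt hT1P hm24) hm24 h1
    rw [this]
    exact Nat.beq_refl m
  have hmemf : l ∈ sextetList.filter (fun l => l.all (fun m => Nat.beq (pmask T1 m) m)) :=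
    List.mem_filter.2 ⟨hl, hall⟩
  rw [sext_filter, List.mem_singleton] at hmemf
  rw [hmemf]
  rfl

theorem cent_fix_S0 {c : Equiv.Perm GolayPt} (hc : c ∈ centM (permC T1)) :
    c • decFF S0code = decFF S0code := by
  have hT1P := isPerm_of_isAutC T1_ok
  rw [mem_centM] at hc
  apply sext_unique (smul_mem_sextets hc.1 (decFF_mem_sextets S0code_ok))
  intro T' hT'
  obtain ⟨T, hT, rfl⟩ := Finset.mem_smul_finset.1 hT'
  obtain ⟨m, hm, rfl⟩ := (mem_decFF _ _).1 hT
  have hm24 : m < 16777216 := S0code_small m hm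
  have hfix : permC T1 • fset m = fset m := by
    rw [permC_smul_fset hT1P hm24]
    rw [Nat.eq_of_beq_eq_true (List.all_eq_true.1 S0_tetrads_fixed m hm)]
  rw [← mul_smul, ← hc.2, mul_smul, hfix]

/-! ### The family of pairs -/

theorem pairs_mem : ∀ j : Fin 24, ((1 <<< (j : ℕ)) ||| (1 <<< papp T1 (j : ℕ))) ∈ Pi1code := by
  decide +kernel

theorem pairs_all : ∀ m ∈ Pi1code, ∃ j : Fin 24, m = (1 <<< (j : ℕ)) ||| (1 <<< papp T1 (j : ℕ)) := by
  decide +kernel

theorem papp_T1_lt : ∀ j : Fin 24, papp T1 (j : ℕ) < 24 := by decide +kernel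

theorem pair_eq (x : GolayPt) : ({x, permC T1 x} : Finset GolayPt) =
    fset ((1 <<< ((ptIdx x : Fin 24) : ℕ)) ||| (1 <<< papp T1 ((ptIdx x : Fin 24) : ℕ))) := by
  have h := fset_pair (ptIdx x) ⟨papp T1 (ptIdx x), papp_T1_lt _⟩
  rw [h, ptOf_ptIdx]
  congr 2
  apply ptEquiv.injective
  show ptIdx _ = ptIdx _
  apply Fin.ext
  rw [ptIdx_ptOf, t1_idx]

theorem pair_mem (x : GolayPt) : ({x, permC T1 x} : Finset GolayPt) ∈ decFF Pi1code := by
  rw [pair_eq, mem_decFF]
  exact ⟨_, pairs_mem (ptIdx x), rfl⟩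

theorem Pi1_canon : canonL Pi1code = true := by decide +kernel

theorem cent_fix_Pi1 {c : Equiv.Perm GolayPt} (hc : c ∈ centM (permC T1)) :
    c • decFF Pi1code = decFF Pi1code := by
  rw [mem_centM] at hc
  apply Finset.eq_of_subset_of_card_le
  · intro b hb
    obtain ⟨b', hb', rfl⟩ := Finset.mem_smul_finset.1 hb
    obtain ⟨m, hm, rfl⟩ := (mem_decFF _ _).1 hb'
    obtain ⟨j, rfl⟩ := pairs_all m hm
    have h1 := pair_eq (ptOf j)
    rw [ptIdx_ptOf] at h1
    rw [← h1, Finset.smul_finset_insert, Finset.smul_finset_singleton]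
    have h2 : c • permC T1 (ptOf j) = permC T1 (c • ptOf j) := by
      have := congrArg (fun f : Equiv.Perm GolayPt => f (ptOf j)) hc.2
      simpa [Equiv.Perm.mul_apply] using this
    rw [h2]
    exact pair_mem _
  · rw [Finset.card_smul_finset]

/-! ### Upper bound -/

theorem piTargets_canon : piTargets.all canonL = true := by decide +kernel
theorem piTargets_nodup : piTargets.Nodup := by decide +kernel
theorem piReach : encFam.reachOK (chainGens sextetStabLevels) Pi1code piTargets piWords = true := by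
  decide +kernel
theorem K_card : chainProd 0 sextetStabLevels = 138240 := by decide +kernel

theorem upper : Nat.card (centM (permC T1)) ≤ 7680 := by
  have hK := stab_S0_facts
  have hgens : ∀ S ∈ chainGens sextetStabLevels,
      isPerm S = true ∧ permC S ∈ stabM (decFF S0code) := by
    intro S hS
    refine ⟨isPerm_of_isAutC (sextetStab_gens_aut S hS), ?_⟩
    rw [hK.1]
    exact permC_mem_genSubgroup hS
  have h1 := Enc.inf_stab_card_le encFam (stabM (decFF S0code)) (chainGens sextetStabLevels) hgens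
    Pi1code (encFam.canon_small _ Pi1_canon) piTargets piTargets_nodup
    (fun b hb => List.all_eq_true.1 piTargets_canon b hb) piWords piReach
  rw [hK.2.1, K_card] at h1
  have hle : centM (permC T1) ≤
      stabM (decFF S0code) ⊓ MulAction.stabilizer (Equiv.Perm GolayPt) (encFam.dec Pi1code) := by
    intro c hc
    rw [Subgroup.mem_inf, mem_stabM]
    exact ⟨⟨hc.1, cent_fix_S0 hc⟩, MulAction.mem_stabilizer_iff.2 (cent_fix_Pi1 hc)⟩
  have h2 := Subgroup.card_le_of_le hle
  have h3 : piTargets.length = 18 := rfl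
  rw [h3] at h1
  omega

theorem std_card : Nat.card (centM (permC T1)) = 7680 := le_antisymm upper lower


/-- For a fixed-point-free involution t of the group of the length-24 code: its centraliser in that group has order 7680, is transitive on the 24 points, and is contained, together with t, in the stabiliser of some sextet. -/
theorem result (t : Equiv.Perm Cfsg.GolayPt) (ht : t ∈ Cfsg.M24) (h₂ : orderOf t = 2) (h₀ : ∀ p, t p ≠ p) : Nat.card {c : Equiv.Perm Cfsg.GolayPt // c ∈ Cfsg.M24 ∧ c * t = t * c} = 7680 ∧ (∀ p q : Cfsg.GolayPt, ∃ c ∈ Cfsg.M24, c * t = t * c ∧ c p = q) ∧ ∃ S ∈ Cfsg.sextets, t • S = S ∧ ∀ c ∈ Cfsg.M24, c * t = t * c → c • S = S := by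
  have hg2 : t * t = 1 := by
    have := pow_orderOf_eq_one t
    rw [h₂, pow_two] at this
    exact this
  obtain ⟨w, hw, hgw⟩ := S5606.fpf_conj_std ht hg2 h₀
  -- t = z * t1 * z⁻¹
  set z : Equiv.Perm GolayPt := w * (permC V1)⁻¹ with hz
  have hzM : z ∈ M24 := M24.mul_mem hw (M24.inv_mem (permC_mem_M24 V1_ok))
  have htz : t = z * permC T1 * z⁻¹ := by
    rw [hgw, t1_conj, hz]; group
  have hcent : ∀ c, c ∈ M24 → c * t = t * c → z⁻¹ * c * z ∈ centM (permC T1) := by
    intro c hc hct
    rw [← mem_centM_conj (permC T1) z c hzM, ← htz]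
    exact ⟨hc, hct⟩
  refine ⟨?_, ?_, ?_⟩
  · rw [card_centM, htz, card_centM_conj _ _ hzM]
    exact std_card
  · intro p q
    obtain ⟨c, hc, hcp⟩ := transitive_std (z⁻¹ p) (z⁻¹ q)
    have hmem : z * c * z⁻¹ ∈ centM (z * permC T1 * z⁻¹) := by
      rw [mem_centM_conj (permC T1) z _ hzM]
      have : z⁻¹ * (z * c * z⁻¹) * z = c := by group
      rw [this]; exact hc
    rw [← htz, mem_centM] at hmem
    refine ⟨z * c * z⁻¹, hmem.1, hmem.2, ?_⟩
    rw [Equiv.Perm.mul_apply, Equiv.Perm.mul_apply, hcp]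
    simp
  · have key : ∀ c, c ∈ M24 → c * t = t * c → c • (z • decFF S0code) = z • decFF S0code := by
      intro c hc hct
      have h1 := cent_fix_S0 (hcent c hc hct)
      have h2 : c • (z • decFF S0code) = z • ((z⁻¹ * c * z) • decFF S0code) := by
        rw [← mul_smul, ← mul_smul]
        congr 1
        group
      rw [h2, h1]
    exact ⟨z • decFF S0code, smul_mem_sextets hzM (decFF_mem_sextets S0code_ok),
      key t ht rfl, key⟩

end Cfsg.Agent.S5607
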