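import Cfsg.Statements.S5608
import Cfsg.Agent.Lib.Helper93.FixCounts

set_option autoImplicit false
open scoped Pointwise
open Cfsg

namespace Cfsg.Agent.S5608

open Cfsg.Agent.Lib.Helper93 Cfsg.Agent.Lib.Helper93.Golay

def chkA (f : ℕ → ℕ) : Bool :=
  !(invF f) || fixF f ||
    H5list.all (fun S' => idF (papp S') || !(ord3F (papp S')) || !(commF f (papp S')))

theorem tabA5 : cosetPairs.all (fun x => chkA (pappL [CoA, x.1, x.2])) = true := by decide +kernel

theorem fpf_of_fixcard {s : Equiv.Perm GolayPt} (h : fixcard s = 0) : ∀ p, s p ≠ p := by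
  intro p hp
  unfold fixcard at h
  rw [Finset.card_eq_zero] at h
  have : p ∈ (Finset.univ.filter fun p => s p = p) := Finset.mem_filter.2 ⟨Finset.mem_univ _, hp⟩
  rw [h] at this
  exact absurd this (Finset.notMem_empty _)

/-- A fixed-point-free involution does not commute with an element of order 3 having 6 fixed
points. -/
theorem no_3A_2B {x s : Equiv.Perm GolayPt} (hx : x ∈ M24) (hs : s ∈ M24) (h3 : x * x * x = 1)
    (hx1 : x ≠ 1) (h2 : s * s = 1) (hc : s * x = x * s) (h6 : fixcard x = 6)
    (h0 : ∀ p, s p ≠ p) : False := by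
  classical
  have hss : ∀ p, s (s p) = p := fun p => by
    have := congrArg (fun f : Equiv.Perm GolayPt => f p) h2
    simpa using this
  have hxs : ∀ p, x p = p → x (s p) = s p := fun p hp => by
    have := congrArg (fun f : Equiv.Perm GolayPt => f p) hc
    simp only [Equiv.Perm.mul_apply] at this
    rw [← this, hp]
  set F : Finset GolayPt := Finset.univ.filter fun p => x p = p with hF
  have hFc : F.card = 6 := h6
  have hmemF : ∀ p, p ∈ F ↔ x p = p := fun p => by
    rw [hF, Finset.mem_filter]; simp
  obtain ⟨a, haF⟩ : F.Nonempty := Finset.card_pos.1 (by omega)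
  have hxa := (hmemF a).1 haF
  obtain ⟨c, hcF, hcab⟩ := Finset.exists_mem_notMem_of_card_lt_card
    (s := ({a, s a} : Finset GolayPt)) (t := F)
    (lt_of_le_of_lt Finset.card_le_two (by omega))
  have hxc := (hmemF c).1 hcF
  have hca : c ≠ a := fun h => hcab (by rw [h]; simp)
  have hcb : c ≠ s a := fun h => hcab (by rw [h]; simp)
  obtain ⟨e, heF, heabcd⟩ := Finset.exists_mem_notMem_of_card_lt_card
    (s := ({a, s a, c, s c} : Finset GolayPt)) (t := F)
    (lt_of_le_of_lt Finset.card_le_four (by omega))
  have hxe := (hmemF e).1 heF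
  have hea : e ≠ a := fun h => heabcd (by rw [h]; simp)
  have heb : e ≠ s a := fun h => heabcd (by rw [h]; simp)
  have hec : e ≠ c := fun h => heabcd (by rw [h]; simp)
  have hed : e ≠ s c := fun h => heabcd (by rw [h]; simp)
  have hda : s c ≠ a := fun h => hcb (by rw [← h, hss])
  have hdb : s c ≠ s a := fun h => hca (s.injective h)
  have hq := list5_inj (a := a) (b := s a) (c := c) (d := s c) (e := e)
    (Ne.symm (h0 a)) (Ne.symm hca) (Ne.symm hda) (Ne.symm hea) (Ne.symm hcb) (Ne.symm hdb)
    (Ne.symm heb) (Ne.symm (h0 c)) (Ne.symm hec) (Ne.symm hed)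
  set q := list5 a (s a) c (s c) e with hqd
  obtain ⟨u, hu, huq⟩ := exists_M24_map q hq 5 (le_refl 5)
  -- the conjugate of x fixes the five standard points
  have hxq : ∀ i, i < 5 → x (q i) = q i := by
    intro i hi
    interval_cases i
    · exact hxa
    · exact hxs a hxa
    · exact hxc
    · exact hxs c hxc
    · exact hxe
  have hx'mem : u⁻¹ * x * u ∈ Hfix 31 := by
    apply mem_Hfix_31 (conj_mem hu hx)
    intro i hi
    rw [Equiv.Perm.mul_apply, Equiv.Perm.mul_apply, huq i hi, hxq i hi, ← huq i hi]
    simp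
  obtain ⟨S', hS', hx'⟩ := H5_complete hx'mem
  have hS'P := isPerm_of_isAutC (H5list_perm hS')
  -- the conjugate of s lies in the coset
  obtain ⟨c0, c1, c2, c3⟩ := CoA_act
  have hsq : ∀ i, i < 4 → s (q i) = q (papp CoA i) := by
    intro i hi
    interval_cases i
    · rw [c0]; rfl
    · rw [c1]; exact hss a
    · rw [c2]; rfl
    · rw [c3]; exact hss c
  have hcos := conj_coset_apply q (isPerm_of_isAutC CoA_ok) (act_lt5 CoA_act (by norm_num)
    (by norm_num) (by norm_num) (by norm_num)) huq hsq
  obtain ⟨f, hf, hchk⟩ := coset_all_spec CoA_ok chkA tabA5 (conj_mem hu hs) hcos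
  have h0' : ∀ p, (u⁻¹ * s * u) p ≠ p := by
    intro p hp
    apply h0 (u p)
    rw [Equiv.Perm.mul_apply, Equiv.Perm.mul_apply] at hp
    have := congrArg u hp
    simpa using this
  unfold chkA at hchk
  have e1 : invF f = true := involution_chk hf (conj_sq h2)
  have e2 : fixF f = false := fpf_chk hf h0'
  rw [e1, e2] at hchk
  simp only [Bool.not_true, Bool.false_or] at hchk
  have hS := List.all_eq_true.1 hchk S' hS'
  have hfx : ∀ p, ((ptIdx ((u⁻¹ * x * u) p) : Fin 24) : ℕ) = papp S' (ptIdx p) := by
    intro p; rw [hx']; exact ptIdx_permC hS'P p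
  have e3 : idF (papp S') = false := by
    rw [← Bool.not_eq_true]
    intro hid
    have h1 := eq_one_of_idF hfx hid
    apply hx1
    have : x = u * (u⁻¹ * x * u) * u⁻¹ := by group
    rw [this, h1]; group
  have e4 : ord3F (papp S') = true := order3_chk hfx (conj_cube h3)
  have e5 : commF f (papp S') = true := by
    apply comm_chk hf hfx
    have : (u⁻¹ * s * u) * (u⁻¹ * x * u) = u⁻¹ * (s * x) * u := by group
    rw [this, hc]; group
  rw [e3, e4, e5] at hS
  simp at hS

/-- An element with `x ^ 3 = 1` preserving a set of 8 points fixes one of them. -/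
theorem exists_fixed_of_8 {x s : Equiv.Perm GolayPt} (h3 : x * x * x = 1) (hc : s * x = x * s)
    (h8 : fixcard s = 8) : ∃ p, x p = p := by
  classical
  have hxs : ∀ p, s (x p) = x p ↔ s p = p := fun p => by
    have := congrArg (fun f : Equiv.Perm GolayPt => f p) hc
    simp only [Equiv.Perm.mul_apply] at this
    rw [this]
    exact ⟨fun h => x.injective h, fun h => by rw [h]⟩
  have : Fact (Nat.Prime 3) := ⟨by norm_num⟩
  have hcard : Fintype.card {p : GolayPt // s p = p} = 8 := by
    rw [Fintype.card_subtype]; exact h8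
  have hpow : (x.subtypePerm (p := fun p => s p = p) hxs) ^ 3 ^ 1 = 1 := by
    rw [pow_one, Equiv.Perm.subtypePerm_pow]
    have : x ^ 3 = 1 := by rw [pow_succ, pow_two]; exact h3
    ext p
    simp [this]
  obtain ⟨a, ha⟩ := Equiv.Perm.exists_fixed_point_of_prime (p := 3) (n := 1)
    (by rw [hcard]; norm_num) hpow
  refine ⟨a.1, ?_⟩
  have := congrArg Subtype.val ha
  simpa using this


/-- If an element of order 3 and an involution of the group of the length-24 code commute, then either the element of order 3 has exactly 6 fixed points and the involution exactly 8, or both are fixed-point-free. -/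
theorem result (x s : Equiv.Perm Cfsg.GolayPt) (hx : x ∈ Cfsg.M24) (hs : s ∈ Cfsg.M24) (h₃ : orderOf x = 3) (h₂ : orderOf s = 2) (hc : Commute x s) : ((Finset.univ.filter fun p => x p = p).card = 6 ∧ (Finset.univ.filter fun p => s p = p).card = 8) ∨ ((Finset.univ.filter fun p => x p = p).card = 0 ∧ (Finset.univ.filter fun p => s p = p).card = 0) := by
  have hx3 : x * x * x = 1 := by
    have := pow_orderOf_eq_one x
    rw [h₃, pow_succ, pow_two] at this
    exact this
  have hx1 : x ≠ 1 := by
    intro h
    rw [h, orderOf_one] at h₃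
    norm_num at h₃
  have hs2 : s * s = 1 := by
    have := pow_orderOf_eq_one s
    rw [h₂, pow_two] at this
    exact this
  have hs1 : s ≠ 1 := by
    intro h
    rw [h, orderOf_one] at h₂
    norm_num at h₂
  have hcomm : s * x = x * s := hc.eq.symm
  rcases ord3_fix_cases hx hx3 hx1 with h6 | h0 <;> rcases inv_fix_cases hs hs2 hs1 with h8 | h0'
  · exact Or.inl ⟨h6, h8⟩
  · exact (no_3A_2B hx hs hx3 hx1 hs2 hcomm h6 (fpf_of_fixcard h0')).elim
  · obtain ⟨p, hp⟩ := exists_fixed_of_8 hx3 hcomm h8
    exact (fpf_of_fixcard h0 p hp).elim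
  · exact Or.inr ⟨h0, h0'⟩

end Cfsg.Agent.S5608
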