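import Cfsg.Statements.S5609
import Cfsg.Agent.Lib.Helper93.OctadPairs

set_option autoImplicit false
open scoped Pointwise
open Cfsg

namespace Cfsg.Agent.S5609

open Cfsg.Agent.Lib.Helper93 Cfsg.Agent.Lib.Helper93.Golay

/-- some octad is disjoint from the base octad and the representative meeting it in 4 points -/
theorem chk4 : octList.any (fun x => Nat.beq (x &&& (octRep4 ||| 5279)) 0) = true := by
  decide +kernel

/-- no octad is disjoint from the base octad and the representative meeting it in 2 points -/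
theorem chk2a : octList.all (fun x => !Nat.beq (x &&& (octRep2 ||| 5279)) 0) = true := by
  decide +kernel

/-- some octad is disjoint from the base octad and meets the representative in 4 points -/
theorem chk2b : octList.any (fun x => Nat.beq (x &&& 5279) 0 &&
    Nat.beq (popcF (x &&& octRep2)) 4) = true := by
  decide +kernel

theorem lt_of_mem_octList {m : ℕ} (h : m ∈ octList) : m < 16777216 := ((mem_octList_iff m).1 h).1

theorem disjoint_of_and_or {x a b : ℕ} (h : x &&& (a ||| b) = 0) :
    x &&& a = 0 ∧ x &&& b = 0 := by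
  constructor
  · apply Nat.eq_of_testBit_eq
    intro i
    have := congrArg (fun n => n.testBit i) h
    simp only [Nat.testBit_and, Nat.testBit_or, Nat.zero_testBit] at this ⊢
    cases hx : x.testBit i <;> cases ha : a.testBit i <;> simp_all
  · apply Nat.eq_of_testBit_eq
    intro i
    have := congrArg (fun n => n.testBit i) h
    simp only [Nat.testBit_and, Nat.testBit_or, Nat.zero_testBit] at this ⊢
    cases hx : x.testBit i <;> cases hb : b.testBit i <;> simp_all

theorem and_or_of_disjoint {x a b : ℕ} (h1 : x &&& a = 0) (h2 : x &&& b = 0) :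
    x &&& (a ||| b) = 0 := by
  rw [Nat.and_or_distrib_left, h1, h2]
  rfl

theorem and_eq_zero_of_disjoint_fset {x a : ℕ} (hx : x < 16777216) (ha : a < 16777216)
    (h : Disjoint (fset x) (fset a)) : x &&& a = 0 := by
  have := and_eq_zero_of_disjoint h
  rwa [fmask_fset' hx, fmask_fset' ha] at this

theorem disjoint_smul_iff (g : Equiv.Perm GolayPt) (s t : Finset GolayPt) :
    Disjoint (g • s) (g • t) ↔ Disjoint s t := by
  rw [Finset.disjoint_iff_inter_eq_empty, Finset.disjoint_iff_inter_eq_empty,
    ← Finset.smul_finset_inter, Finset.smul_finset_eq_empty]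

/-- If two octads meet in four points, some octad is disjoint from both. -/
theorem exists_common_of_four {o o' : Finset GolayPt} (ho : o ∈ octads) (ho' : o' ∈ octads)
    (h4 : (o ∩ o').card = 4) : ∃ o'' ∈ octads, Disjoint o o'' ∧ Disjoint o'' o' := by
  obtain ⟨g, hg, hgo, hgo'⟩ := exists_pair_map4 ho ho' h4
  obtain ⟨x, hx, hxd⟩ := List.any_eq_true.1 chk4
  have hxd' := disjoint_of_and_or (Nat.eq_of_beq_eq_true hxd)
  refine ⟨g • fset x, smul_mem_octads_of_mem_M24 hg (fset_mem_octads_of_mem hx), ?_, ?_⟩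
  · rw [← hgo, disjoint_smul_iff]
    unfold O0
    exact (disjoint_fset hxd'.2).symm
  · rw [← hgo', disjoint_smul_iff]
    exact disjoint_fset hxd'.1

/-- If two octads meet in two points, no octad is disjoint from both. -/
theorem no_common_of_two {o o' : Finset GolayPt} (ho : o ∈ octads) (ho' : o' ∈ octads)
    (h2 : (o ∩ o').card = 2) (o'' : Finset GolayPt) (ho'' : o'' ∈ octads)
    (h1 : Disjoint o o'') (h3 : Disjoint o'' o') : False := by
  obtain ⟨g, hg, hgo, hgo'⟩ := exists_pair_map2 ho ho' h2
  have hy : g⁻¹ • o'' ∈ octads := smul_mem_octads_of_mem_M24 (M24.inv_mem hg) ho''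
  have hy' := (fmask_mem_octList_iff _).2 hy
  have hchk := List.all_eq_true.1 chk2a _ hy'
  have hrep2 : octRep2 < 16777216 := lt_of_mem_octList octReps_mem.2.1
  have d1 : Disjoint (g⁻¹ • o'') O0 := by
    rw [← disjoint_smul_iff g, smul_inv_smul, hgo]
    exact h1.symm
  have d2 : Disjoint (g⁻¹ • o'') (fset octRep2) := by
    rw [← disjoint_smul_iff g, smul_inv_smul, hgo']
    exact h3
  have e1 := and_eq_zero_of_disjoint d1
  have e2 := and_eq_zero_of_disjoint d2
  rw [fmask_O0] at e1
  rw [fmask_fset' hrep2] at e2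
  have := and_or_of_disjoint e2 e1
  rw [this] at hchk
  simp at hchk

/-- If two octads meet in two points, they are joined by a path of length three. -/
theorem exists_path_of_two {o o' : Finset GolayPt} (ho : o ∈ octads) (ho' : o' ∈ octads)
    (h2 : (o ∩ o').card = 2) : ∃ o₁ ∈ octads, ∃ o₂ ∈ octads,
      Disjoint o o₁ ∧ Disjoint o₁ o₂ ∧ Disjoint o₂ o' := by
  obtain ⟨g, hg, hgo, hgo'⟩ := exists_pair_map2 ho ho' h2
  obtain ⟨x, hx, hxd⟩ := List.any_eq_true.1 chk2b
  rw [Bool.and_eq_true] at hxd
  have hx24 := lt_of_mem_octList hx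
  have hrep2 : octRep2 < 16777216 := lt_of_mem_octList octReps_mem.2.1
  have hxo : g • fset x ∈ octads := smul_mem_octads_of_mem_M24 hg (fset_mem_octads_of_mem hx)
  have hcard : (g • fset x ∩ o').card = 4 := by
    rw [← hgo', ← Finset.smul_finset_inter, Finset.card_smul_finset, ← popcF_fmask, fmask_inter,
      fmask_fset' hx24, fmask_fset' hrep2]
    exact Nat.eq_of_beq_eq_true hxd.2
  obtain ⟨o₂, ho₂, hd1, hd2⟩ := exists_common_of_four hxo ho' hcard
  refine ⟨g • fset x, hxo, o₂, ho₂, ?_, hd1, hd2⟩
  rw [← hgo, disjoint_smul_iff]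
  unfold O0
  exact (disjoint_fset (Nat.eq_of_beq_eq_true hxd.1)).symm

theorem adj_iff (a b : ↥octads) :
    (blockGraph octads).Adj a b ↔ a ≠ b ∧ Disjoint (a : Finset GolayPt) (b : Finset GolayPt) := by
  unfold blockGraph
  rw [SimpleGraph.fromRel_adj]
  constructor
  · rintro ⟨h1, h2 | h2⟩
    · exact ⟨h1, h2⟩
    · exact ⟨h1, h2.symm⟩
  · rintro ⟨h1, h2⟩
    exact ⟨h1, Or.inl h2⟩

theorem ne_of_disjoint_octads {a b : ↥octads} (h : Disjoint (a : Finset GolayPt) b) : a ≠ b := by
  intro hab
  rw [hab] at h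
  have := Finset.disjoint_self_iff_empty _ |>.1 h
  have hc := b.2.2
  rw [this] at hc
  simp at hc

theorem exists_mid_of_walk_two {V : Type*} {G : SimpleGraph V} {u v : V} (p : G.Walk u v)
    (hp : p.length = 2) : ∃ w, G.Adj u w ∧ G.Adj w v := by
  cases p with
  | nil => simp at hp
  | cons h q =>
    cases q with
    | nil => simp at hp
    | cons h' r =>
      cases r with
      | nil => exact ⟨_, h, h'⟩
      | cons _ _ => simp at hp

/-- In the graph on the 759 octads of the length-24 code in which two octads are adjacent when they are disjoint, the graph is connected (of diameter 3) and two distinct octads are at distance 1, 2 or 3 exactly when they meet in 0, 4 or 2 points respectively. -/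
theorem result (o o' : Finset Cfsg.GolayPt) (ho : o ∈ Cfsg.octads) (ho' : o' ∈ Cfsg.octads) (hne : o ≠ o') : (Cfsg.blockGraph Cfsg.octads).Connected ∧ ((Cfsg.blockGraph Cfsg.octads).dist ⟨o, ho⟩ ⟨o', ho'⟩ = 1 ↔ (o ∩ o').card = 0) ∧ ((Cfsg.blockGraph Cfsg.octads).dist ⟨o, ho⟩ ⟨o', ho'⟩ = 2 ↔ (o ∩ o').card = 4) ∧ ((Cfsg.blockGraph Cfsg.octads).dist ⟨o, ho⟩ ⟨o', ho'⟩ = 3 ↔ (o ∩ o').card = 2) := by
  -- the distance in each of the three cases
  have key : ∀ (a b : ↥octads), a ≠ b →
      (((a : Finset GolayPt) ∩ b).card = 0 → (blockGraph octads).Adj a b) ∧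
      (((a : Finset GolayPt) ∩ b).card = 4 → (blockGraph octads).Reachable a b ∧
        (blockGraph octads).dist a b = 2) ∧
      (((a : Finset GolayPt) ∩ b).card = 2 → (blockGraph octads).Reachable a b ∧
        (blockGraph octads).dist a b = 3) := by
    intro a b hab
    have hne' : (a : Finset GolayPt) ≠ b := fun h => hab (Subtype.ext h)
    refine ⟨fun h0 => ?_, fun h4 => ?_, fun h2 => ?_⟩
    · rw [adj_iff]
      refine ⟨hab, ?_⟩
      rw [Finset.disjoint_iff_inter_eq_empty]
      exact Finset.card_eq_zero.1 h0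
    · obtain ⟨c, hc, hd1, hd2⟩ := exists_common_of_four a.2 b.2 h4
      have adj1 : (blockGraph octads).Adj a ⟨c, hc⟩ :=
        (adj_iff _ _).2 ⟨ne_of_disjoint_octads hd1, hd1⟩
      have adj2 : (blockGraph octads).Adj ⟨c, hc⟩ b :=
        (adj_iff _ _).2 ⟨ne_of_disjoint_octads hd2, hd2⟩
      let p : (blockGraph octads).Walk a b :=
        SimpleGraph.Walk.cons adj1 (SimpleGraph.Walk.cons adj2 SimpleGraph.Walk.nil)
      have hreach : (blockGraph octads).Reachable a b := ⟨p⟩
      refine ⟨hreach, ?_⟩
      have hle : (blockGraph octads).dist a b ≤ 2 := SimpleGraph.dist_le p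
      have hnadj : ¬ (blockGraph octads).Adj a b := by
        rw [adj_iff]
        rintro ⟨_, hd⟩
        rw [Finset.disjoint_iff_inter_eq_empty] at hd
        rw [hd] at h4
        simp at h4
      have hgt := hreach.one_lt_dist_of_ne_of_not_adj hab hnadj
      omega
    · obtain ⟨c₁, hc₁, c₂, hc₂, hd1, hd2, hd3⟩ := exists_path_of_two a.2 b.2 h2
      have adj1 : (blockGraph octads).Adj a ⟨c₁, hc₁⟩ :=
        (adj_iff _ _).2 ⟨ne_of_disjoint_octads hd1, hd1⟩
      have adj2 : (blockGraph octads).Adj ⟨c₁, hc₁⟩ ⟨c₂, hc₂⟩ :=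
        (adj_iff _ _).2 ⟨ne_of_disjoint_octads hd2, hd2⟩
      have adj3 : (blockGraph octads).Adj ⟨c₂, hc₂⟩ b :=
        (adj_iff _ _).2 ⟨ne_of_disjoint_octads hd3, hd3⟩
      let p : (blockGraph octads).Walk a b :=
        SimpleGraph.Walk.cons adj1 (SimpleGraph.Walk.cons adj2
          (SimpleGraph.Walk.cons adj3 SimpleGraph.Walk.nil))
      have hreach : (blockGraph octads).Reachable a b := ⟨p⟩
      refine ⟨hreach, ?_⟩
      have hle : (blockGraph octads).dist a b ≤ 3 := SimpleGraph.dist_le p
      have hnadj : ¬ (blockGraph octads).Adj a b := by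
        rw [adj_iff]
        rintro ⟨_, hd⟩
        rw [Finset.disjoint_iff_inter_eq_empty] at hd
        rw [hd] at h2
        simp at h2
      have hgt := hreach.one_lt_dist_of_ne_of_not_adj hab hnadj
      have hne2 : (blockGraph octads).dist a b ≠ 2 := by
        intro h2'
        obtain ⟨q, hq⟩ := hreach.exists_walk_length_eq_dist
        rw [h2'] at hq
        obtain ⟨w, hw1, hw2⟩ := exists_mid_of_walk_two q hq
        rw [adj_iff] at hw1 hw2
        exact no_common_of_two a.2 b.2 h2 w.1 w.2 hw1.2 hw2.2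
      omega
  have hreach_all : ∀ a b : ↥octads, (blockGraph octads).Reachable a b := by
    intro a b
    by_cases hab : a = b
    · rw [hab]
    · have hne' : (a : Finset GolayPt) ≠ b := fun h => hab (Subtype.ext h)
      obtain ⟨k0, k4, k2⟩ := key a b hab
      rcases octad_inter_cases a.2 b.2 hne' with h | h | h
      · exact (k0 h).reachable
      · exact (k2 h).1
      · exact (k4 h).1
  have hconn : (blockGraph octads).Connected :=
    { preconnected := hreach_all, nonempty := ⟨⟨O0, O0_mem⟩⟩ }
  have hab : (⟨o, ho⟩ : ↥octads) ≠ ⟨o', ho'⟩ := fun h => hne (Subtype.mk.inj h)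
  obtain ⟨k0, k4, k2⟩ := key ⟨o, ho⟩ ⟨o', ho'⟩ hab
  have hcases := octad_inter_cases ho ho' hne
  refine ⟨hconn, ⟨?_, ?_⟩, ⟨?_, ?_⟩, ⟨?_, ?_⟩⟩
  · intro h1
    rcases hcases with h | h | h
    · exact h
    · have := (k2 h).2
      omega
    · have := (k4 h).2
      omega
  · intro h0
    exact SimpleGraph.dist_eq_one_iff_adj.2 (k0 h0)
  · intro h2'
    rcases hcases with h | h | h
    · have := SimpleGraph.dist_eq_one_iff_adj.2 (k0 h)
      omega
    · have := (k2 h).2
      omega
    · exact h
  · intro h4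
    exact (k4 h4).2
  · intro h3
    rcases hcases with h | h | h
    · have := SimpleGraph.dist_eq_one_iff_adj.2 (k0 h)
      omega
    · exact h
    · have := (k4 h).2
      omega
  · intro h2
    exact (k2 h2).2

end Cfsg.Agent.S5609
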