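import Cfsg.Statements.S5610
import Cfsg.Agent.Lib.Helper27.D5610

set_option autoImplicit false
open scoped Pointwise
open Cfsg

namespace Cfsg.Agent.S5610

open Cfsg.Agent.Lib.Helper27 Cfsg.Agent.Lib.Helper26 Cfsg.Agent.Lib.Helper27.D5610

/-- The stabiliser of an octad in the group of the length-24 code has exactly three orbits on the 3795 trios, of sizes 15, 420 and 3360, and exactly three orbits on the 1771 sextets, of sizes 35, 840 and 896. -/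
theorem result (o : Finset Cfsg.GolayPt) (ho : o ∈ Cfsg.octads) : (∃ X₁ ∈ Cfsg.trios, ∃ X₂ ∈ Cfsg.trios, ∃ X₃ ∈ Cfsg.trios, (MulAction.orbit ↥(MulAction.stabilizer Cfsg.M24 o) X₁).ncard = 15 ∧ (MulAction.orbit ↥(MulAction.stabilizer Cfsg.M24 o) X₂).ncard = 420 ∧ (MulAction.orbit ↥(MulAction.stabilizer Cfsg.M24 o) X₃).ncard = 3360 ∧ Cfsg.trios = MulAction.orbit ↥(MulAction.stabilizer Cfsg.M24 o) X₁ ∪ MulAction.orbit ↥(MulAction.stabilizer Cfsg.M24 o) X₂ ∪ MulAction.orbit ↥(MulAction.stabilizer Cfsg.M24 o) X₃) ∧ (∃ Y₁ ∈ Cfsg.sextets, ∃ Y₂ ∈ Cfsg.sextets, ∃ Y₃ ∈ Cfsg.sextets, (MulAction.orbit ↥(MulAction.stabilizer Cfsg.M24 o) Y₁).ncard = 35 ∧ (MulAction.orbit ↥(MulAction.stabilizer Cfsg.M24 o) Y₂).ncard = 840 ∧ (MulAction.orbit ↥(MulAction.stabilizer Cfsg.M24 o) Y₃).ncard = 896 ∧ Cfsg.sextets = MulAction.orbit ↥(MulAction.stabilizer Cfsg.M24 o) Y₁ ∪ MulAction.orbit ↥(MulAction.stabilizer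 Cfsg.M24 o) Y₂ ∪ MulAction.orbit ↥(MulAction.stabilizer Cfsg.M24 o) Y₃) := by
  obtain ⟨g0, hg0, rfl⟩ := octads_transitive o ho
  have hT := baseT
  have hS := baseS
  simp only [cwT, cwS, List.map_cons, List.map_nil, List.mem_cons, List.not_mem_nil, or_false,
    forall_eq_or_imp, forall_eq, exists_eq_or_imp, exists_eq_left] at hT hS
  obtain ⟨⟨⟨-, hT1⟩, ⟨-, hT2⟩, ⟨-, hT3⟩⟩, hTU⟩ := hT
  obtain ⟨⟨⟨-, hS1⟩, ⟨-, hS2⟩, ⟨-, hS3⟩⟩, hSU⟩ := hS
  have memT : ∀ c, decQ c ∈ orbK (stabIn (dec oct0)) (decQ c) := fun c => self_mem_orbK _ _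
  refine ⟨⟨g0 • decQ cT1.rep, ?_, g0 • decQ cT2.rep, ?_, g0 • decQ cT3.rep, ?_, ?_, ?_, ?_, ?_⟩,
    ⟨g0 • decQ cS1.rep, ?_, g0 • decQ cS2.rep, ?_, g0 • decQ cS3.rep, ?_, ?_, ?_, ?_, ?_⟩⟩
  · exact smul_mem_trios hg0 ((hTU _).mpr (Or.inl (memT _)))
  · exact smul_mem_trios hg0 ((hTU _).mpr (Or.inr (Or.inl (memT _))))
  · exact smul_mem_trios hg0 ((hTU _).mpr (Or.inr (Or.inr (memT _))))
  · rw [orbit_stab_eq, orbK_stabIn_smul _ _ hg0, ncard_image_smul, hT1]; decide +kernel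
  · rw [orbit_stab_eq, orbK_stabIn_smul _ _ hg0, ncard_image_smul, hT2]; decide +kernel
  · rw [orbit_stab_eq, orbK_stabIn_smul _ _ hg0, ncard_image_smul, hT3]; decide +kernel
  · rw [orbit_stab_eq, orbit_stab_eq, orbit_stab_eq, orbK_stabIn_smul _ _ hg0,
      orbK_stabIn_smul _ _ hg0, orbK_stabIn_smul _ _ hg0, ← Set.image_union, ← Set.image_union]
    ext y
    rw [← smul_mem_trios_iff (M24.inv_mem hg0), hTU]
    simp only [Set.mem_image, Set.mem_union, or_assoc]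
    constructor
    · intro h
      exact ⟨g0⁻¹ • y, h, smul_inv_smul g0 y⟩
    · rintro ⟨z, hz, rfl⟩
      rw [inv_smul_smul]; exact hz
  · exact smul_mem_sextets hg0 ((hSU _).mpr (Or.inl (memT _)))
  · exact smul_mem_sextets hg0 ((hSU _).mpr (Or.inr (Or.inl (memT _))))
  · exact smul_mem_sextets hg0 ((hSU _).mpr (Or.inr (Or.inr (memT _))))
  · rw [orbit_stab_eq, orbK_stabIn_smul _ _ hg0, ncard_image_smul, hS1]; decide +kernel
  · rw [orbit_stab_eq, orbK_stabIn_smul _ _ hg0, ncard_image_smul, hS2]; decide +kernel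
  · rw [orbit_stab_eq, orbK_stabIn_smul _ _ hg0, ncard_image_smul, hS3]; decide +kernel
  · rw [orbit_stab_eq, orbit_stab_eq, orbit_stab_eq, orbK_stabIn_smul _ _ hg0,
      orbK_stabIn_smul _ _ hg0, orbK_stabIn_smul _ _ hg0, ← Set.image_union, ← Set.image_union]
    ext y
    rw [← smul_mem_sextets_iff (M24.inv_mem hg0), hSU]
    simp only [Set.mem_image, Set.mem_union, or_assoc]
    constructor
    · intro h
      exact ⟨g0⁻¹ • y, h, smul_inv_smul g0 y⟩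
    · rintro ⟨z, hz, rfl⟩
      rw [inv_smul_smul]; exact hz

end Cfsg.Agent.S5610
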