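import Cfsg.Statements.S5611
import Cfsg.Agent.Lib.Helper27.D5611

set_option autoImplicit false
open scoped Pointwise
open Cfsg

namespace Cfsg.Agent.S5611

open Cfsg.Agent.Lib.Helper27 Cfsg.Agent.Lib.Helper26 Cfsg.Agent.Lib.Helper27.D5611

/-- The stabiliser of a sextet in the group of the length-24 code has exactly three orbits on the 759 octads, of sizes 15, 360 and 384, and exactly four orbits on the 3795 trios, of sizes 15, 180, 720 and 2880. -/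
theorem result (S : Finset (Finset Cfsg.GolayPt)) (hS : S ∈ Cfsg.sextets) : (∃ X₁ ∈ Cfsg.octads, ∃ X₂ ∈ Cfsg.octads, ∃ X₃ ∈ Cfsg.octads, (MulAction.orbit ↥(MulAction.stabilizer Cfsg.M24 S) X₁).ncard = 15 ∧ (MulAction.orbit ↥(MulAction.stabilizer Cfsg.M24 S) X₂).ncard = 360 ∧ (MulAction.orbit ↥(MulAction.stabilizer Cfsg.M24 S) X₃).ncard = 384 ∧ Cfsg.octads = MulAction.orbit ↥(MulAction.stabilizer Cfsg.M24 S) X₁ ∪ MulAction.orbit ↥(MulAction.stabilizer Cfsg.M24 S) X₂ ∪ MulAction.orbit ↥(MulAction.stabilizer Cfsg.M24 S) X₃) ∧ (∃ Y₁ ∈ Cfsg.trios, ∃ Y₂ ∈ Cfsg.trios, ∃ Y₃ ∈ Cfsg.trios, ∃ Y₄ ∈ Cfsg.trios, (MulAction.orbit ↥(MulAction.stabilizer Cfsg.M24 S) Y₁).ncard = 15 ∧ (MulAction.orbit ↥(MulAction.stabilizer Cfsg.M24 S) Y₂).ncard = 180 ∧ (MulAction.orbit ↥(MulAction.stabilizer Cfsg.M24 S) Y₃).ncard = 720 ∧ (MulAction.orbit ↥(MulAction.stabilizer Cfsg.M24 S) Y₄).ncard = 2880 ∧ Cfsg.trios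 = MulAction.orbit ↥(MulAction.stabilizer Cfsg.M24 S) Y₁ ∪ MulAction.orbit ↥(MulAction.stabilizer Cfsg.M24 S) Y₂ ∪ MulAction.orbit ↥(MulAction.stabilizer Cfsg.M24 S) Y₃ ∪ MulAction.orbit ↥(MulAction.stabilizer Cfsg.M24 S) Y₄) := by
  obtain ⟨g0, hg0, rfl⟩ := sextets_transitive S hS
  have hO := baseO
  have hT := baseT
  simp only [cwO, List.map_cons, List.map_nil, List.mem_cons, List.not_mem_nil, or_false,
    forall_eq_or_imp, forall_eq, exists_eq_or_imp, exists_eq_left] at hO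
  simp only [cwT, List.map_cons, List.map_nil, List.mem_cons, List.not_mem_nil, or_false,
    forall_eq_or_imp, forall_eq, exists_eq_or_imp, exists_eq_left] at hT
  obtain ⟨⟨⟨-, hO1⟩, ⟨-, hO2⟩, ⟨-, hO3⟩⟩, hOU⟩ := hO
  obtain ⟨⟨⟨-, hT1⟩, ⟨-, hT2⟩, ⟨-, hT3⟩, ⟨-, hT4⟩⟩, hTU⟩ := hT
  refine ⟨⟨g0 • dec cO1.rep, ?_, g0 • dec cO2.rep, ?_, g0 • dec cO3.rep, ?_, ?_, ?_, ?_, ?_⟩,
    ⟨g0 • decQ cT1.rep, ?_, g0 • decQ cT2.rep, ?_, g0 • decQ cT3.rep, ?_, g0 • decQ cT4.rep, ?_, ?_, ?_, ?_, ?_, ?_⟩⟩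
  · exact (fun h x => (smul_mem_octads_iff h _).mpr x) hg0 ((hOU _).mpr (Or.inl (self_mem_orbK _ _)))
  · exact (fun h x => (smul_mem_octads_iff h _).mpr x) hg0 ((hOU _).mpr (Or.inr (Or.inl (self_mem_orbK _ _))))
  · exact (fun h x => (smul_mem_octads_iff h _).mpr x) hg0 ((hOU _).mpr (Or.inr (Or.inr (self_mem_orbK _ _))))
  · rw [orbit_stab_eq, orbK_stabIn_smul _ _ hg0, ncard_image_smul, hO1]; decide +kernel
  · rw [orbit_stab_eq, orbK_stabIn_smul _ _ hg0, ncard_image_smul, hO2]; decide +kernel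
  · rw [orbit_stab_eq, orbK_stabIn_smul _ _ hg0, ncard_image_smul, hO3]; decide +kernel
  · rw [orbit_stab_eq, orbit_stab_eq, orbit_stab_eq, orbK_stabIn_smul _ _ hg0, orbK_stabIn_smul _ _ hg0, orbK_stabIn_smul _ _ hg0, ← Set.image_union, ← Set.image_union]
    ext y
    rw [← smul_mem_octads_iff (M24.inv_mem hg0), hOU]
    simp only [Set.mem_image, Set.mem_union, or_assoc]
    constructor
    · intro h
      exact ⟨g0⁻¹ • y, h, smul_inv_smul g0 y⟩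
    · rintro ⟨z, hz, rfl⟩
      rw [inv_smul_smul]; exact hz
  · exact smul_mem_trios hg0 ((hTU _).mpr (Or.inl (self_mem_orbK _ _)))
  · exact smul_mem_trios hg0 ((hTU _).mpr (Or.inr (Or.inl (self_mem_orbK _ _))))
  · exact smul_mem_trios hg0 ((hTU _).mpr (Or.inr (Or.inr (Or.inl (self_mem_orbK _ _)))))
  · exact smul_mem_trios hg0 ((hTU _).mpr (Or.inr (Or.inr (Or.inr (self_mem_orbK _ _)))))
  · rw [orbit_stab_eq, orbK_stabIn_smul _ _ hg0, ncard_image_smul, hT1]; decide +kernel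
  · rw [orbit_stab_eq, orbK_stabIn_smul _ _ hg0, ncard_image_smul, hT2]; decide +kernel
  · rw [orbit_stab_eq, orbK_stabIn_smul _ _ hg0, ncard_image_smul, hT3]; decide +kernel
  · rw [orbit_stab_eq, orbK_stabIn_smul _ _ hg0, ncard_image_smul, hT4]; decide +kernel
  · rw [orbit_stab_eq, orbit_stab_eq, orbit_stab_eq, orbit_stab_eq, orbK_stabIn_smul _ _ hg0, orbK_stabIn_smul _ _ hg0, orbK_stabIn_smul _ _ hg0, orbK_stabIn_smul _ _ hg0, ← Set.image_union, ← Set.image_union, ← Set.image_union]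
    ext y
    rw [← smul_mem_trios_iff (M24.inv_mem hg0), hTU]
    simp only [Set.mem_image, Set.mem_union, or_assoc]
    constructor
    · intro h
      exact ⟨g0⁻¹ • y, h, smul_inv_smul g0 y⟩
    · rintro ⟨z, hz, rfl⟩
      rw [inv_smul_smul]; exact hz

end Cfsg.Agent.S5611
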