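import Cfsg.Statements.S5612
import Cfsg.Agent.Lib.Helper27.D5612

set_option autoImplicit false
open scoped Pointwise
open Cfsg

namespace Cfsg.Agent.S5612

open Cfsg.Agent.Lib.Helper27 Cfsg.Agent.Lib.Helper26 Cfsg.Agent.Lib.Helper27.D5612

/-- The stabiliser of a trio in the group of the length-24 code has exactly three orbits on the 759 octads, of sizes 3, 84 and 672, and exactly four orbits on the 1771 sextets, of sizes 7, 84, 336 and 1344. -/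
theorem result (T : Finset (Finset Cfsg.GolayPt)) (hT : T ∈ Cfsg.trios) : (∃ X₁ ∈ Cfsg.octads, ∃ X₂ ∈ Cfsg.octads, ∃ X₃ ∈ Cfsg.octads, (MulAction.orbit ↥(MulAction.stabilizer Cfsg.M24 T) X₁).ncard = 3 ∧ (MulAction.orbit ↥(MulAction.stabilizer Cfsg.M24 T) X₂).ncard = 84 ∧ (MulAction.orbit ↥(MulAction.stabilizer Cfsg.M24 T) X₃).ncard = 672 ∧ Cfsg.octads = MulAction.orbit ↥(MulAction.stabilizer Cfsg.M24 T) X₁ ∪ MulAction.orbit ↥(MulAction.stabilizer Cfsg.M24 T) X₂ ∪ MulAction.orbit ↥(MulAction.stabilizer Cfsg.M24 T) X₃) ∧ (∃ Y₁ ∈ Cfsg.sextets, ∃ Y₂ ∈ Cfsg.sextets, ∃ Y₃ ∈ Cfsg.sextets, ∃ Y₄ ∈ Cfsg.sextets, (MulAction.orbit ↥(MulAction.stabilizer Cfsg.M24 T) Y₁).ncard = 7 ∧ (MulAction.orbit ↥(MulAction.stabilizer Cfsg.M24 T) Y₂).ncard = 84 ∧ (MulAction.orbit ↥(MulAction.stabilizer Cfsg.M24 T) Y₃).ncard = 336 ∧ (MulAction.orbit ↥(MulAction.stabilizer Cfsg.M24 T) Y₄).ncard = 1344 ∧ Cfsg.sextets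 = MulAction.orbit ↥(MulAction.stabilizer Cfsg.M24 T) Y₁ ∪ MulAction.orbit ↥(MulAction.stabilizer Cfsg.M24 T) Y₂ ∪ MulAction.orbit ↥(MulAction.stabilizer Cfsg.M24 T) Y₃ ∪ MulAction.orbit ↥(MulAction.stabilizer Cfsg.M24 T) Y₄) := by
  obtain ⟨g0, hg0, rfl⟩ := trios_transitive T hT
  have hO := baseO
  have hS := baseS
  simp only [cwO, List.map_cons, List.map_nil, List.mem_cons, List.not_mem_nil, or_false,
    forall_eq_or_imp, forall_eq, exists_eq_or_imp, exists_eq_left] at hO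
  simp only [cwS, List.map_cons, List.map_nil, List.mem_cons, List.not_mem_nil, or_false,
    forall_eq_or_imp, forall_eq, exists_eq_or_imp, exists_eq_left] at hS
  obtain ⟨⟨⟨-, hO1⟩, ⟨-, hO2⟩, ⟨-, hO3⟩⟩, hOU⟩ := hO
  obtain ⟨⟨⟨-, hS1⟩, ⟨-, hS2⟩, ⟨-, hS3⟩, ⟨-, hS4⟩⟩, hSU⟩ := hS
  refine ⟨⟨g0 • dec cO1.rep, ?_, g0 • dec cO2.rep, ?_, g0 • dec cO3.rep, ?_, ?_, ?_, ?_, ?_⟩,
    ⟨g0 • decQ cS1.rep, ?_, g0 • decQ cS2.rep, ?_, g0 • decQ cS3.rep, ?_, g0 • decQ cS4.rep, ?_, ?_, ?_, ?_, ?_, ?_⟩⟩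
  · exact (fun h x => (smul_mem_octads_iff h _).mpr x) hg0 ((hOU _).mpr (Or.inl (self_mem_orbK _ _)))
  · exact (fun h x => (smul_mem_octads_iff h _).mpr x) hg0 ((hOU _).mpr (Or.inr (Or.inl (self_mem_orbK _ _))))
  · exact (fun h x => (smul_mem_octads_iff h _).mpr x) hg0 ((hOU _).mpr (Or.inr (Or.inr (self_mem_orbK _ _))))
  · rw [orbit_stab_eq, orbK_stabIn_smul _ _ hg0, ncard_image_smul, hO1]; decide +kernel
  · rw [orbit_stab_eq, orbK_stabIn_smul _ _ hg0, ncard_image_smul, hO2]; decide +kernel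
  · rw [orbit_stab_eq, orbK_stabIn_smul _ _ hg0, ncard_image_smul, hO3]; decide +kernel
  · rw [orbit_stab_eq, orbit_stab_eq, orbit_stab_eq, orbK_stabIn_smul _ _ hg0, orbK_stabIn_smul _ _ hg0, orbK_stabIn_smul _ _ hg0, ← Set.image_union, ← Set.image_union]
    ext y
    rw [← smul_mem_octads_iff (M24.inv_mem hg0), hOU]
    simp only [Set.mem_image, Set.mem_union, or_assoc]
    constructor
    · intro h
      exact ⟨g0⁻¹ • y, h, smul_inv_smul g0 y⟩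
    · rintro ⟨z, hz, rfl⟩
      rw [inv_smul_smul]; exact hz
  · exact smul_mem_sextets hg0 ((hSU _).mpr (Or.inl (self_mem_orbK _ _)))
  · exact smul_mem_sextets hg0 ((hSU _).mpr (Or.inr (Or.inl (self_mem_orbK _ _))))
  · exact smul_mem_sextets hg0 ((hSU _).mpr (Or.inr (Or.inr (Or.inl (self_mem_orbK _ _)))))
  · exact smul_mem_sextets hg0 ((hSU _).mpr (Or.inr (Or.inr (Or.inr (self_mem_orbK _ _)))))
  · rw [orbit_stab_eq, orbK_stabIn_smul _ _ hg0, ncard_image_smul, hS1]; decide +kernel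
  · rw [orbit_stab_eq, orbK_stabIn_smul _ _ hg0, ncard_image_smul, hS2]; decide +kernel
  · rw [orbit_stab_eq, orbK_stabIn_smul _ _ hg0, ncard_image_smul, hS3]; decide +kernel
  · rw [orbit_stab_eq, orbK_stabIn_smul _ _ hg0, ncard_image_smul, hS4]; decide +kernel
  · rw [orbit_stab_eq, orbit_stab_eq, orbit_stab_eq, orbit_stab_eq, orbK_stabIn_smul _ _ hg0, orbK_stabIn_smul _ _ hg0, orbK_stabIn_smul _ _ hg0, orbK_stabIn_smul _ _ hg0, ← Set.image_union, ← Set.image_union, ← Set.image_union]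
    ext y
    rw [← smul_mem_sextets_iff (M24.inv_mem hg0), hSU]
    simp only [Set.mem_image, Set.mem_union, or_assoc]
    constructor
    · intro h
      exact ⟨g0⁻¹ • y, h, smul_inv_smul g0 y⟩
    · rintro ⟨z, hz, rfl⟩
      rw [inv_smul_smul]; exact hz

end Cfsg.Agent.S5612
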