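import Cfsg.Statements.S5613
import Cfsg.Agent.Lib.Helper93.StabOctad

set_option autoImplicit false
open scoped Pointwise
open Cfsg

namespace Cfsg.Agent.S5613

open Cfsg.Agent.Lib.Helper93 Cfsg.Agent.Lib.Helper93.Golay

theorem fmask_O0 : fmask O0 = 5279 := fmask_fset' (by norm_num)

theorem octCls_fmask (o : Finset GolayPt) : octCls (fmask o) = (O0 ∩ o).card := by
  unfold octCls
  rw [← fmask_O0, ← fmask_inter, popcF_fmask, Finset.inter_comm]

/-- The orbit of an octad under the stabiliser of the base octad has the size of its class. -/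
theorem orbit_ncard_of_cls (rep : ℕ) (hrep : rep ∈ octList) (c : ℕ) (hc : octCls rep = c)
    (words : List (List ℕ))
    (hreach : encSet.reachOK (chainGens octStabLevels) rep
      (octList.filter fun l => Nat.beq (octCls l) c) words = true)
    (o : Finset GolayPt) (ho : o ∈ octads) (hk : (O0 ∩ o).card = c) :
    (MulAction.orbit ↥(MulAction.stabilizer ↥M24 O0) o).ncard =
      (octList.filter fun l => Nat.beq (octCls l) c).length := by
  obtain ⟨h1, h2⟩ := octFamily.orbit_stabilizer O0 (chainGens octStabLevels) octStab_gens_aut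
    stab_O0_facts.1 octCls octCls_ok rep hrep c hc words hreach
  have hmem : o ∈ MulAction.orbit ↥(MulAction.stabilizer ↥M24 O0) (encSet.dec rep) := by
    rw [h1]
    refine ⟨fmask o, ?_, fset_fmask o⟩
    rw [List.mem_filter]
    refine ⟨(fmask_mem_octList_iff o).2 ho, ?_⟩
    rw [octCls_fmask, hk]
    exact Nat.beq_refl c
  rw [MulAction.orbit_eq_iff.2 hmem]
  exact h2

theorem card_stab_O0 : Nat.card ↥(MulAction.stabilizer ↥M24 O0) = 322560 := by
  rw [card_stabilizer_eq, card_stabM_O0]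

/-- Joint stabiliser of the base octad and another octad. -/
theorem card_joint_O0 (o : Finset GolayPt) (n : ℕ)
    (hn : (MulAction.orbit ↥(MulAction.stabilizer ↥M24 O0) o).ncard = n) :
    n * Nat.card ↥(MulAction.stabilizer ↥M24 O0 ⊓ MulAction.stabilizer ↥M24 o) = 322560 := by
  have := card_eq_ncard_mul_card_inf_stabilizer (G := ↥M24) (MulAction.stabilizer ↥M24 O0) o
    (MulAction.orbit ↥(MulAction.stabilizer ↥M24 O0) o)
    (fun k hk => ⟨⟨k, hk⟩, rfl⟩)
    (fun s hs => by
      obtain ⟨k, rfl⟩ := hs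
      exact ⟨k.1, k.2, rfl⟩)
  rw [card_stab_O0, hn] at this
  exact this.symm

theorem rep_mem : octRep0 ∈ octList ∧ octRep2 ∈ octList ∧ octRep4 ∈ octList := by decide +kernel

theorem rep_cls : octCls octRep0 = 0 ∧ octCls octRep2 = 2 ∧ octCls octRep4 = 4 := by
  decide +kernel

/-- In the group of the length-24 code, the joint stabiliser of two octads has order 10752, 1152 or 720 according as the octads meet in 0, 4 or 2 points. -/
theorem result (o o' : Finset Cfsg.GolayPt) (ho : o ∈ Cfsg.octads) (ho' : o' ∈ Cfsg.octads) : ((o ∩ o').card = 0 → Nat.card ↥(MulAction.stabilizer Cfsg.M24 o ⊓ MulAction.stabilizer Cfsg.M24 o') = 10752) ∧ ((o ∩ o').card = 4 → Nat.card ↥(MulAction.stabilizer Cfsg.M24 o ⊓ MulAction.stabilizer Cfsg.M24 o') = 1152) ∧ ((o ∩ o').card = 2 → Nat.card ↥(MulAction.stabilizer Cfsg.M24 o ⊓ MulAction.stabilizer Cfsg.M24 o') = 720) := by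
  obtain ⟨g, hg, hgo⟩ := exists_smul_O0_eq ho
  obtain ⟨g', hg'⟩ : ∃ g' : ↥M24, g' = ⟨g, hg⟩ := ⟨_, rfl⟩
  obtain ⟨o'', ho''⟩ : ∃ o'' : Finset GolayPt, o'' = g'⁻¹ • o' := ⟨_, rfl⟩
  have hgo' : g' • O0 = o := by rw [hg']; exact hgo
  have hgo'' : g' • o'' = o' := by rw [ho'', smul_inv_smul]
  have ho''oct : o'' ∈ octads := by
    rw [ho'', hg']
    exact smul_mem_octads_of_mem_M24 (M24.inv_mem hg) ho'
  have hcardeq : (O0 ∩ o'').card = (o ∩ o').card := by
    rw [← hgo', ← hgo'', ← Finset.smul_finset_inter]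
    exact (Finset.card_smul_finset g' _).symm
  have key : ∀ (a : Finset GolayPt) (x : ↥M24), x • (g' • a) = g' • a ↔ (g'⁻¹ * x * g') • a = a := by
    intro a x
    rw [mul_smul, mul_smul, inv_smul_eq_iff]
  have hconj : Nat.card ↥(MulAction.stabilizer ↥M24 o ⊓ MulAction.stabilizer ↥M24 o') =
      Nat.card ↥(MulAction.stabilizer ↥M24 O0 ⊓ MulAction.stabilizer ↥M24 o'') := by
    apply card_subgroup_conj _ _ g'
    intro x
    rw [Subgroup.mem_inf, Subgroup.mem_inf, MulAction.mem_stabilizer_iff,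
      MulAction.mem_stabilizer_iff, MulAction.mem_stabilizer_iff, MulAction.mem_stabilizer_iff,
      ← key O0 x, ← key o'' x, hgo', hgo'']
  rw [hconj, ← hcardeq]
  have hcounts := octCls_counts
  refine ⟨fun h => ?_, fun h => ?_, fun h => ?_⟩
  · have h1 := orbit_ncard_of_cls octRep0 rep_mem.1 0 rep_cls.1 octClsWords0 octReach0 o'' ho''oct h
    rw [hcounts.1] at h1
    have := card_joint_O0 o'' 30 h1
    omega
  · have h1 := orbit_ncard_of_cls octRep4 rep_mem.2.2 4 rep_cls.2.2 octClsWords4 octReach4 o''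
      ho''oct h
    rw [hcounts.2.2] at h1
    have := card_joint_O0 o'' 280 h1
    omega
  · have h1 := orbit_ncard_of_cls octRep2 rep_mem.2.1 2 rep_cls.2.1 octClsWords2 octReach2 o''
      ho''oct h
    rw [hcounts.2.1] at h1
    have := card_joint_O0 o'' 448 h1
    omega

end Cfsg.Agent.S5613
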