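import Cfsg.Statements.S5614
import Cfsg.Agent.Lib.Helper93.FixCounts
import Cfsg.Agent.S5613

set_option autoImplicit false
open scoped Pointwise
open Cfsg

namespace Cfsg.Agent.S5614

open Cfsg.Agent.Lib.Helper93 Cfsg.Agent.Lib.Helper93.Golay

def sC : ℕ := 225035452338214189898861721588828544
def Rp : ℕ := 6100032

theorem sC_ok : isAutC sC = true ∧ pmask sC 5279 = 5279 ∧ pmask sC octRep2 = Rp := by
  decide +kernel

theorem ker_chk : H5list.all (fun S => !(Nat.beq (papp S 7) 7) || !(Nat.beq (pmask S Rp) Rp) ||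
    idF (papp S)) = true := by decide +kernel

theorem std_pair {o o' : Finset GolayPt} (ho : o ∈ octads) (ho' : o' ∈ octads)
    (h₂ : (o ∩ o').card = 2) : ∃ u ∈ M24, u • O0 = o ∧ u • fset Rp = o' := by
  obtain ⟨g, hg, hgo, hgo'⟩ := exists_pair_map2 ho ho' h₂
  obtain ⟨h1, h2, h3⟩ := sC_ok
  have hP := isPerm_of_isAutC h1
  have e1 : permC sC • O0 = O0 := by
    show permC sC • fset 5279 = fset 5279
    rw [permC_smul_fset hP (by norm_num), h2]
  have e2 : permC sC • fset octRep2 = fset Rp := by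
    rw [permC_smul_fset hP (by decide), h3]
  refine ⟨g * (permC sC)⁻¹, M24.mul_mem hg (M24.inv_mem (permC_mem_M24 h1)), ?_, ?_⟩
  · rw [mul_smul, inv_smul_eq_iff.2 e1.symm, hgo]
  · rw [mul_smul, inv_smul_eq_iff.2 e2.symm, hgo']

theorem ker_std {g : Equiv.Perm GolayPt} (hg : g ∈ M24) (hR : g • fset Rp = fset Rp)
    (hfix : ∀ i (hi : i < 5), g (P i (by omega)) = P i (by omega)) (h7 : g (P 7) = P 7) :
    g = 1 := by
  obtain ⟨S, hS, rfl⟩ := H5_complete (mem_Hfix_31 hg hfix)
  have hSP := isPerm_of_isAutC (H5list_perm hS)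
  have hchk := List.all_eq_true.1 ker_chk S hS
  have e1 : Nat.beq (papp S 7) 7 = true := by
    have := ptIdx_permC hSP (P 7)
    rw [h7, ptIdx_P] at this
    rw [← this]
    exact Nat.beq_refl 7
  have e2 : Nat.beq (pmask S Rp) Rp = true := by
    rw [permC_smul_fset hSP (by decide)] at hR
    have := fset_injOn (pmask_lt hSP (by decide)) (by decide) hR
    rw [this]
    exact Nat.beq_refl _
  rw [e1, e2] at hchk
  simp only [Bool.not_true, Bool.false_or] at hchk
  exact permC_eq_one hSP hchk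

theorem std_pts : ∀ i : Fin 24, (i : ℕ) < 5 ∨ (i : ℕ) = 7 →
    (5279 : ℕ).testBit i = true ∧ Rp.testBit i = false := by decide +kernel

/-- An element stabilising both octads and fixing `o \ o'` pointwise is trivial. -/
theorem ker_general {o o' : Finset GolayPt} (ho : o ∈ octads) (ho' : o' ∈ octads)
    (h₂ : (o ∩ o').card = 2) {g : Equiv.Perm GolayPt} (hg : g ∈ M24) (_hgo : g • o = o)
    (hgo' : g • o' = o') (hfix : ∀ p ∈ o \ o', g p = p) : g = 1 := by
  obtain ⟨u, hu, huo, huo'⟩ := std_pair ho ho' h₂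
  have hpt : ∀ i (hi : i < 24), (i < 5 ∨ i = 7) → (u⁻¹ * g * u) (P i hi) = P i hi := by
    intro i hi hcase
    obtain ⟨b1, b2⟩ := std_pts ⟨i, hi⟩ hcase
    have hmem : u (P i hi) ∈ o \ o' := by
      rw [Finset.mem_sdiff]
      constructor
      · rw [← huo]
        exact Finset.smul_mem_smul_finset ((mem_fset_P 5279 i hi).2 b1)
      · rw [← huo']
        intro hcon
        have : P i hi ∈ fset Rp := (Finset.smul_mem_smul_finset_iff u).1 hcon
        rw [mem_fset_P] at this
        simp only at b2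
        rw [b2] at this
        exact Bool.false_ne_true this
    rw [Equiv.Perm.mul_apply, Equiv.Perm.mul_apply, hfix _ hmem]
    simp
  have h1 : u⁻¹ * g * u = 1 := by
    apply ker_std (conj_mem hu hg)
    · rw [mul_smul, mul_smul, huo', hgo', ← huo', inv_smul_smul]
    · intro i hi
      exact hpt i (by omega) (Or.inl hi)
    · exact hpt 7 (by omega) (Or.inr rfl)
  have : g = u * (u⁻¹ * g * u) * u⁻¹ := by group
  rw [this, h1]; group


/-- In the group of the length-24 code, the joint stabiliser of two octads meeting in exactly two points is isomorphic to the symmetric group of degree 6. -/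
theorem result (o o' : Finset Cfsg.GolayPt) (ho : o ∈ Cfsg.octads) (ho' : o' ∈ Cfsg.octads) (h₂ : (o ∩ o').card = 2) : Nonempty (↥(MulAction.stabilizer Cfsg.M24 o ⊓ MulAction.stabilizer Cfsg.M24 o') ≃* Equiv.Perm (Fin 6)) := by
  classical
  set J := MulAction.stabilizer Cfsg.M24 o ⊓ MulAction.stabilizer Cfsg.M24 o' with hJ
  have hcardJ : Nat.card ↥J = 720 := (S5613.result o o' ho ho').2.2 h₂
  set D : Finset GolayPt := o \ o' with hD
  have hDcard : D.card = 6 := by
    rw [hD, Finset.card_sdiff, Finset.inter_comm, h₂, ho.2]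
  -- elements of J preserve D
  have hpres : ∀ x : ↥J, ∀ p : GolayPt,
      (((x : ↥M24) : Equiv.Perm GolayPt) p ∈ D) ↔ p ∈ D := by
    intro x p
    have hx : (x : ↥M24) ∈ MulAction.stabilizer Cfsg.M24 o ∧
        (x : ↥M24) ∈ MulAction.stabilizer Cfsg.M24 o' := Subgroup.mem_inf.1 x.2
    rw [MulAction.mem_stabilizer_iff, MulAction.mem_stabilizer_iff] at hx
    have e1 : (((x : ↥M24) : Equiv.Perm GolayPt)) • o = o := hx.1
    have e2 : (((x : ↥M24) : Equiv.Perm GolayPt)) • o' = o' := hx.2
    have k1 : ∀ s : Finset GolayPt, (((x : ↥M24) : Equiv.Perm GolayPt)) • s = s →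
        ((((x : ↥M24) : Equiv.Perm GolayPt)) p ∈ s ↔ p ∈ s) := by
      intro s hs
      conv_lhs => rw [← hs]
      exact Finset.smul_mem_smul_finset_iff _
    rw [hD, Finset.mem_sdiff, Finset.mem_sdiff, k1 o e1, k1 o' e2]
  let φ : ↥J →* Equiv.Perm {p : GolayPt // p ∈ D} :=
    { toFun := fun x => (((x : ↥M24) : Equiv.Perm GolayPt)).subtypePerm (hpres x)
      map_one' := by
        ext p
        rfl
      map_mul' := by
        intro x y
        ext p
        rfl }
  have hinj : Function.Injective φ := by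
    rw [injective_iff_map_eq_one]
    intro x hx
    have hx2 : (x : ↥M24) ∈ MulAction.stabilizer Cfsg.M24 o ∧
        (x : ↥M24) ∈ MulAction.stabilizer Cfsg.M24 o' := Subgroup.mem_inf.1 x.2
    rw [MulAction.mem_stabilizer_iff, MulAction.mem_stabilizer_iff] at hx2
    have hfix : ∀ p ∈ o \ o', ((x : ↥M24) : Equiv.Perm GolayPt) p = p := by
      intro p hp
      have := congrArg (fun f : Equiv.Perm {p : GolayPt // p ∈ D} => ((f ⟨p, hp⟩ : {p // p ∈ D}) : GolayPt)) hx
      exact this
    have h1 := ker_general ho ho' h₂ (x : ↥M24).2 hx2.1 hx2.2 hfix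
    apply Subtype.ext
    apply Subtype.ext
    exact h1
  have hcardP : Nat.card (Equiv.Perm {p : GolayPt // p ∈ D}) = 720 := by
    rw [Nat.card_eq_fintype_card, Fintype.card_perm, Fintype.card_coe, hDcard]
    rfl
  have hbij : Function.Bijective φ :=
    hinj.bijective_of_nat_card_le (by rw [hcardP, hcardJ])
  have e : {p : GolayPt // p ∈ D} ≃ Fin 6 := by
    have : Fintype.card {p : GolayPt // p ∈ D} = 6 := by rw [Fintype.card_coe, hDcard]
    exact Fintype.equivFinOfCardEq this
  exact ⟨(MulEquiv.ofBijective φ hbij).trans e.permCongrHom⟩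

end Cfsg.Agent.S5614
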