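import Cfsg.Statements.S5615
import Cfsg.Agent.Lib.Helper93.RelOrbit

set_option autoImplicit false
open scoped Pointwise
open Cfsg

namespace Cfsg.Agent.S5615

open Cfsg.Agent.Lib.Helper93 Cfsg.Agent.Lib.Helper93.Golay

def L15 : List (List ℕ) := [[5279, 1009728, 15762208],
  [5279, 1256224, 15515712],
  [5279, 1852256, 14919680],
  [5279, 2220640, 14551296],
  [5279, 3050016, 13721920],
  [5279, 3328320, 13443616],
  [5279, 4038912, 12733024],
  [5279, 4645632, 12126304],
  [5279, 4819776, 11952160],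
  [5279, 5621792, 11150144],
  [5279, 5939296, 10832640],
  [5279, 6750560, 10021376],
  [5279, 6842656, 9929280],
  [5279, 7612992, 9158944],
  [5279, 8077824, 8694112]]
def a1 : List ℕ := [5279, 1009728, 15762208]
def targets1 : List (List ℕ) := [[5279, 1009728, 15762208],
  [5279, 1256224, 15515712],
  [5279, 1852256, 14919680],
  [5279, 2220640, 14551296],
  [5279, 3050016, 13721920],
  [5279, 3328320, 13443616],
  [5279, 4038912, 12733024],
  [5279, 4645632, 12126304],
  [5279, 4819776, 11952160],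
  [5279, 5621792, 11150144],
  [5279, 5939296, 10832640],
  [5279, 6750560, 10021376],
  [5279, 6842656, 9929280],
  [5279, 7612992, 9158944],
  [5279, 8077824, 8694112]]
def words1 : List (List ℕ) := [[], [1, 0], [8, 0], [0, 1], [0], [2, 0], [4, 0], [4], [2], [11], [1], [5, 0], [1, 1], [5, 1], [6]]
def a2 : List ℕ := [5279, 1256224, 15515712]
def gens2 : List ℕ := [475630454820885846589777113534238754, 558842875431361218616017454052225063]
def targets2 : List (List ℕ) := [[5279, 1256224, 15515712],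
  [5279, 1852256, 14919680],
  [5279, 2220640, 14551296],
  [5279, 3050016, 13721920],
  [5279, 3328320, 13443616],
  [5279, 4038912, 12733024],
  [5279, 4645632, 12126304],
  [5279, 4819776, 11952160],
  [5279, 5621792, 11150144],
  [5279, 5939296, 10832640],
  [5279, 6750560, 10021376],
  [5279, 6842656, 9929280],
  [5279, 7612992, 9158944],
  [5279, 8077824, 8694112]]
def words2 : List (List ℕ) := [[], [0, 1, 0], [1], [0, 0, 0, 0], [0, 1], [1, 1, 0], [0, 0], [0, 1, 0, 1], [0, 1, 1, 0], [1, 0], [1, 0, 1], [0], [0, 0, 1, 0, 1], [0, 0, 0]]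
def a3 : List ℕ := [5279, 2220640, 14551296]
def gens3 : List ℕ := [273184705003138673348696526677220448, 797770222084537079249294489390550090]
def targets3 : List (List ℕ) := [[5279, 2220640, 14551296],
  [5279, 3050016, 13721920],
  [5279, 3328320, 13443616],
  [5279, 4038912, 12733024],
  [5279, 4645632, 12126304],
  [5279, 4819776, 11952160],
  [5279, 5621792, 11150144],
  [5279, 5939296, 10832640],
  [5279, 6750560, 10021376],
  [5279, 6842656, 9929280],
  [5279, 7612992, 9158944],
  [5279, 8077824, 8694112]]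
def words3 : List (List ℕ) := [[], [1, 0, 0], [1, 1], [0, 1], [1, 1, 1], [0, 0], [1], [0, 1, 0], [0, 1, 0, 0], [0], [0, 0, 1], [1, 0]]
def a4 : List ℕ := [5279, 4645632, 12126304]
def gens4 : List ℕ := [561475619577070887784734736036961388, 772620035361972324406277844288898116, 984559643581411435241544248397725826]
def targets4 : List (List ℕ) := [[5279, 4645632, 12126304],
  [5279, 4819776, 11952160],
  [5279, 5621792, 11150144],
  [5279, 5939296, 10832640],
  [5279, 6750560, 10021376],
  [5279, 6842656, 9929280],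
  [5279, 7612992, 9158944],
  [5279, 8077824, 8694112]]
def words4 : List (List ℕ) := [[], [0], [2, 1, 0], [2, 1], [1, 0], [1], [2], [2, 0]]
def pairTable : List (List ℕ × List ℕ × List ℕ) := [([5279, 1009728, 15762208], [5279, 1256224, 15515712], []),
  ([5279, 1009728, 15762208], [5279, 1852256, 14919680], [4, 5]),
  ([5279, 1009728, 15762208], [5279, 2220640, 14551296], [0, 1, 2]),
  ([5279, 1009728, 15762208], [5279, 3050016, 13721920], [7, 5, 2]),
  ([5279, 1009728, 15762208], [5279, 3328320, 13443616], [3, 4, 0]),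
  ([5279, 1009728, 15762208], [5279, 4038912, 12733024], [1, 0, 0]),
  ([5279, 1009728, 15762208], [5279, 4645632, 12126304], [1, 4]),
  ([5279, 1009728, 15762208], [5279, 4819776, 11952160], [11, 1]),
  ([5279, 1009728, 15762208], [5279, 5621792, 11150144], [4, 7, 0]),
  ([5279, 1009728, 15762208], [5279, 5939296, 10832640], [4, 1]),
  ([5279, 1009728, 15762208], [5279, 6750560, 10021376], [11, 3]),
  ([5279, 1009728, 15762208], [5279, 6842656, 9929280], [1, 5, 2]),
  ([5279, 1009728, 15762208], [5279, 7612992, 9158944], [1, 3, 4]),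
  ([5279, 1009728, 15762208], [5279, 8077824, 8694112], [4, 3]),
  ([5279, 1256224, 15515712], [5279, 1009728, 15762208], [6, 2, 3]),
  ([5279, 1256224, 15515712], [5279, 1852256, 14919680], [8, 6]),
  ([5279, 1256224, 15515712], [5279, 2220640, 14551296], [11, 4, 2]),
  ([5279, 1256224, 15515712], [5279, 3050016, 13721920], [6, 0]),
  ([5279, 1256224, 15515712], [5279, 3328320, 13443616], [11, 1, 1]),
  ([5279, 1256224, 15515712], [5279, 4038912, 12733024], [1, 0]),
  ([5279, 1256224, 15515712], [5279, 4645632, 12126304], [0, 6, 0]),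
  ([5279, 1256224, 15515712], [5279, 4819776, 11952160], [1, 3, 0]),
  ([5279, 1256224, 15515712], [5279, 5621792, 11150144], [0, 1, 0]),
  ([5279, 1256224, 15515712], [5279, 5939296, 10832640], [2, 6, 3]),
  ([5279, 1256224, 15515712], [5279, 6750560, 10021376], [3, 5, 1]),
  ([5279, 1256224, 15515712], [5279, 6842656, 9929280], [6, 3, 0]),
  ([5279, 1256224, 15515712], [5279, 7612992, 9158944], [2, 5, 0]),
  ([5279, 1256224, 15515712], [5279, 8077824, 8694112], [7, 5, 0]),
  ([5279, 1852256, 14919680], [5279, 1009728, 15762208], [6, 11]),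
  ([5279, 1852256, 14919680], [5279, 1256224, 15515712], [0, 0, 0]),
  ([5279, 1852256, 14919680], [5279, 2220640, 14551296], [5, 4]),
  ([5279, 1852256, 14919680], [5279, 3050016, 13721920], [3, 3, 6]),
  ([5279, 1852256, 14919680], [5279, 3328320, 13443616], [5, 0, 0]),
  ([5279, 1852256, 14919680], [5279, 4038912, 12733024], [4, 0, 2]),
  ([5279, 1852256, 14919680], [5279, 4645632, 12126304], [4, 2, 0]),
  ([5279, 1852256, 14919680], [5279, 4819776, 11952160], [7, 2, 2]),
  ([5279, 1852256, 14919680], [5279, 5621792, 11150144], [11, 2, 0]),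
  ([5279, 1852256, 14919680], [5279, 5939296, 10832640], [3, 2]),
  ([5279, 1852256, 14919680], [5279, 6750560, 10021376], [2, 5, 1]),
  ([5279, 1852256, 14919680], [5279, 6842656, 9929280], [8, 0]),
  ([5279, 1852256, 14919680], [5279, 7612992, 9158944], [0, 4]),
  ([5279, 1852256, 14919680], [5279, 8077824, 8694112], [0, 3, 4]),
  ([5279, 2220640, 14551296], [5279, 1009728, 15762208], [3, 1, 0]),
  ([5279, 2220640, 14551296], [5279, 1256224, 15515712], [1, 6]),
  ([5279, 2220640, 14551296], [5279, 1852256, 14919680], [11, 3, 4]),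
  ([5279, 2220640, 14551296], [5279, 3050016, 13721920], [8, 5, 0]),
  ([5279, 2220640, 14551296], [5279, 3328320, 13443616], [6, 4, 2]),
  ([5279, 2220640, 14551296], [5279, 4038912, 12733024], [5, 8, 4]),
  ([5279, 2220640, 14551296], [5279, 4645632, 12126304], [11, 4]),
  ([5279, 2220640, 14551296], [5279, 4819776, 11952160], [2, 2]),
  ([5279, 2220640, 14551296], [5279, 5621792, 11150144], [0, 1]),
  ([5279, 2220640, 14551296], [5279, 5939296, 10832640], [0, 8]),
  ([5279, 2220640, 14551296], [5279, 6750560, 10021376], [8, 6, 5]),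
  ([5279, 2220640, 14551296], [5279, 6842656, 9929280], [0, 3]),
  ([5279, 2220640, 14551296], [5279, 7612992, 9158944], [0, 7, 0]),
  ([5279, 2220640, 14551296], [5279, 8077824, 8694112], [0, 5]),
  ([5279, 3050016, 13721920], [5279, 1009728, 15762208], [3, 2, 1]),
  ([5279, 3050016, 13721920], [5279, 1256224, 15515712], [0]),
  ([5279, 3050016, 13721920], [5279, 1852256, 14919680], [7, 3]),
  ([5279, 3050016, 13721920], [5279, 2220640, 14551296], [3, 0]),
  ([5279, 3050016, 13721920], [5279, 3328320, 13443616], [0, 11, 1]),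
  ([5279, 3050016, 13721920], [5279, 4038912, 12733024], [2, 1]),
  ([5279, 3050016, 13721920], [5279, 4645632, 12126304], [1, 4, 0]),
  ([5279, 3050016, 13721920], [5279, 4819776, 11952160], [5, 11]),
  ([5279, 3050016, 13721920], [5279, 5621792, 11150144], [4, 4]),
  ([5279, 3050016, 13721920], [5279, 5939296, 10832640], [2, 8]),
  ([5279, 3050016, 13721920], [5279, 6750560, 10021376], [4, 0, 0]),
  ([5279, 3050016, 13721920], [5279, 6842656, 9929280], [1, 8, 2]),
  ([5279, 3050016, 13721920], [5279, 7612992, 9158944], [2, 5]),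
  ([5279, 3050016, 13721920], [5279, 8077824, 8694112], [2, 3]),
  ([5279, 3328320, 13443616], [5279, 1009728, 15762208], [2, 0]),
  ([5279, 3328320, 13443616], [5279, 1256224, 15515712], [1, 8, 5]),
  ([5279, 3328320, 13443616], [5279, 1852256, 14919680], [0, 7, 2]),
  ([5279, 3328320, 13443616], [5279, 2220640, 14551296], [1, 11]),
  ([5279, 3328320, 13443616], [5279, 3050016, 13721920], [0, 2]),
  ([5279, 3328320, 13443616], [5279, 4038912, 12733024], [2, 2, 1]),
  ([5279, 3328320, 13443616], [5279, 4645632, 12126304], [2, 7, 3]),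
  ([5279, 3328320, 13443616], [5279, 4819776, 11952160], [11, 2, 1]),
  ([5279, 3328320, 13443616], [5279, 5621792, 11150144], [5, 1, 0]),
  ([5279, 3328320, 13443616], [5279, 5939296, 10832640], [6, 4]),
  ([5279, 3328320, 13443616], [5279, 6750560, 10021376], [11, 3, 0]),
  ([5279, 3328320, 13443616], [5279, 6842656, 9929280], [1, 1, 2]),
  ([5279, 3328320, 13443616], [5279, 7612992, 9158944], [3, 8, 4]),
  ([5279, 3328320, 13443616], [5279, 8077824, 8694112], [11, 0]),
  ([5279, 4038912, 12733024], [5279, 1009728, 15762208], [3, 1]),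
  ([5279, 4038912, 12733024], [5279, 1256224, 15515712], [2, 4, 0]),
  ([5279, 4038912, 12733024], [5279, 1852256, 14919680], [2, 3, 3]),
  ([5279, 4038912, 12733024], [5279, 2220640, 14551296], [0, 3, 2]),
  ([5279, 4038912, 12733024], [5279, 3050016, 13721920], [1, 1, 0]),
  ([5279, 4038912, 12733024], [5279, 3328320, 13443616], [3, 7, 0]),
  ([5279, 4038912, 12733024], [5279, 4645632, 12126304], [7, 3, 1]),
  ([5279, 4038912, 12733024], [5279, 4819776, 11952160], [2, 3, 1]),
  ([5279, 4038912, 12733024], [5279, 5621792, 11150144], [3, 5]),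
  ([5279, 4038912, 12733024], [5279, 5939296, 10832640], [8, 2]),
  ([5279, 4038912, 12733024], [5279, 6750560, 10021376], [4, 0]),
  ([5279, 4038912, 12733024], [5279, 6842656, 9929280], [3, 8]),
  ([5279, 4038912, 12733024], [5279, 7612992, 9158944], [3, 3]),
  ([5279, 4038912, 12733024], [5279, 8077824, 8694112], [4, 3, 0]),
  ([5279, 4645632, 12126304], [5279, 1009728, 15762208], [6, 11, 0]),
  ([5279, 4645632, 12126304], [5279, 1256224, 15515712], [0, 0]),
  ([5279, 4645632, 12126304], [5279, 1852256, 14919680], [11, 5, 0]),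
  ([5279, 4645632, 12126304], [5279, 2220640, 14551296], [3, 0, 0]),
  ([5279, 4645632, 12126304], [5279, 3050016, 13721920], [7, 4, 1]),
  ([5279, 4645632, 12126304], [5279, 3328320, 13443616], [3, 4]),
  ([5279, 4645632, 12126304], [5279, 4038912, 12733024], [8, 2, 2]),
  ([5279, 4645632, 12126304], [5279, 4819776, 11952160], [11, 6, 1]),
  ([5279, 4645632, 12126304], [5279, 5621792, 11150144], [0, 2, 1]),
  ([5279, 4645632, 12126304], [5279, 5939296, 10832640], [5, 2]),
  ([5279, 4645632, 12126304], [5279, 6750560, 10021376], [4]),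
  ([5279, 4645632, 12126304], [5279, 6842656, 9929280], [0, 3, 0]),
  ([5279, 4645632, 12126304], [5279, 7612992, 9158944], [1, 5, 0]),
  ([5279, 4645632, 12126304], [5279, 8077824, 8694112], [6, 2, 0]),
  ([5279, 4819776, 11952160], [5279, 1009728, 15762208], [2]),
  ([5279, 4819776, 11952160], [5279, 1256224, 15515712], [2, 11, 3]),
  ([5279, 4819776, 11952160], [5279, 1852256, 14919680], [1, 0, 3]),
  ([5279, 4819776, 11952160], [5279, 2220640, 14551296], [2, 11, 1]),
  ([5279, 4819776, 11952160], [5279, 3050016, 13721920], [3, 6]),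
  ([5279, 4819776, 11952160], [5279, 3328320, 13443616], [1, 0, 1]),
  ([5279, 4819776, 11952160], [5279, 4038912, 12733024], [11, 3, 3]),
  ([5279, 4819776, 11952160], [5279, 4645632, 12126304], [7, 2]),
  ([5279, 4819776, 11952160], [5279, 5621792, 11150144], [11, 3, 1]),
  ([5279, 4819776, 11952160], [5279, 5939296, 10832640], [11, 3, 5]),
  ([5279, 4819776, 11952160], [5279, 6750560, 10021376], [5, 6]),
  ([5279, 4819776, 11952160], [5279, 6842656, 9929280], [2, 1, 4]),
  ([5279, 4819776, 11952160], [5279, 7612992, 9158944], [4, 11]),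
  ([5279, 4819776, 11952160], [5279, 8077824, 8694112], [6, 2]),
  ([5279, 5621792, 11150144], [5279, 1009728, 15762208], [11, 4, 1]),
  ([5279, 5621792, 11150144], [5279, 1256224, 15515712], [5, 3, 3]),
  ([5279, 5621792, 11150144], [5279, 1852256, 14919680], [4, 5, 0]),
  ([5279, 5621792, 11150144], [5279, 2220640, 14551296], [5, 4, 0]),
  ([5279, 5621792, 11150144], [5279, 3050016, 13721920], [8, 5]),
  ([5279, 5621792, 11150144], [5279, 3328320, 13443616], [2, 6]),
  ([5279, 5621792, 11150144], [5279, 4038912, 12733024], [3, 6, 4]),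
  ([5279, 5621792, 11150144], [5279, 4645632, 12126304], [8, 3]),
  ([5279, 5621792, 11150144], [5279, 4819776, 11952160], [3, 11, 0]),
  ([5279, 5621792, 11150144], [5279, 5939296, 10832640], [1, 2]),
  ([5279, 5621792, 11150144], [5279, 6750560, 10021376], [6, 3, 2]),
  ([5279, 5621792, 11150144], [5279, 6842656, 9929280], [11, 4, 3]),
  ([5279, 5621792, 11150144], [5279, 7612992, 9158944], [8, 1]),
  ([5279, 5621792, 11150144], [5279, 8077824, 8694112], [11]),
  ([5279, 5939296, 10832640], [5279, 1009728, 15762208], [11, 1, 2]),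
  ([5279, 5939296, 10832640], [5279, 1256224, 15515712], [8, 4, 3]),
  ([5279, 5939296, 10832640], [5279, 1852256, 14919680], [7, 3, 0]),
  ([5279, 5939296, 10832640], [5279, 2220640, 14551296], [3]),
  ([5279, 5939296, 10832640], [5279, 3050016, 13721920], [7, 2, 8]),
  ([5279, 5939296, 10832640], [5279, 3328320, 13443616], [5]),
  ([5279, 5939296, 10832640], [5279, 4038912, 12733024], [1]),
  ([5279, 5939296, 10832640], [5279, 4645632, 12126304], [6, 5, 0]),
  ([5279, 5939296, 10832640], [5279, 4819776, 11952160], [3, 4, 3]),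
  ([5279, 5939296, 10832640], [5279, 5621792, 11150144], [4, 4, 0]),
  ([5279, 5939296, 10832640], [5279, 6750560, 10021376], [7, 0]),
  ([5279, 5939296, 10832640], [5279, 6842656, 9929280], [8]),
  ([5279, 5939296, 10832640], [5279, 7612992, 9158944], [5, 4, 1]),
  ([5279, 5939296, 10832640], [5279, 8077824, 8694112], [3, 4, 5]),
  ([5279, 6750560, 10021376], [5279, 1009728, 15762208], [0, 5, 1]),
  ([5279, 6750560, 10021376], [5279, 1256224, 15515712], [3, 8, 1]),
  ([5279, 6750560, 10021376], [5279, 1852256, 14919680], [1, 8, 0]),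
  ([5279, 6750560, 10021376], [5279, 2220640, 14551296], [8, 4]),
  ([5279, 6750560, 10021376], [5279, 3050016, 13721920], [2, 1, 2]),
  ([5279, 6750560, 10021376], [5279, 3328320, 13443616], [5, 0]),
  ([5279, 6750560, 10021376], [5279, 4038912, 12733024], [6, 1]),
  ([5279, 6750560, 10021376], [5279, 4645632, 12126304], [6, 5]),
  ([5279, 6750560, 10021376], [5279, 4819776, 11952160], [3, 11]),
  ([5279, 6750560, 10021376], [5279, 5621792, 11150144], [2, 11]),
  ([5279, 6750560, 10021376], [5279, 5939296, 10832640], [4, 1, 0]),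
  ([5279, 6750560, 10021376], [5279, 6842656, 9929280], [6, 3]),
  ([5279, 6750560, 10021376], [5279, 7612992, 9158944], [11, 2, 2]),
  ([5279, 6750560, 10021376], [5279, 8077824, 8694112], [1, 0, 4]),
  ([5279, 6842656, 9929280], [5279, 1009728, 15762208], [2, 0, 0]),
  ([5279, 6842656, 9929280], [5279, 1256224, 15515712], [2, 4]),
  ([5279, 6842656, 9929280], [5279, 1852256, 14919680], [1, 8]),
  ([5279, 6842656, 9929280], [5279, 2220640, 14551296], [6, 0, 3]),
  ([5279, 6842656, 9929280], [5279, 3050016, 13721920], [1, 1]),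
  ([5279, 6842656, 9929280], [5279, 3328320, 13443616], [11, 6]),
  ([5279, 6842656, 9929280], [5279, 4038912, 12733024], [5, 5, 4]),
  ([5279, 6842656, 9929280], [5279, 4645632, 12126304], [4, 2]),
  ([5279, 6842656, 9929280], [5279, 4819776, 11952160], [1, 3]),
  ([5279, 6842656, 9929280], [5279, 5621792, 11150144], [4, 5, 6]),
  ([5279, 6842656, 9929280], [5279, 5939296, 10832640], [0, 0, 3]),
  ([5279, 6842656, 9929280], [5279, 6750560, 10021376], [6, 0, 8]),
  ([5279, 6842656, 9929280], [5279, 7612992, 9158944], [1, 5]),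
  ([5279, 6842656, 9929280], [5279, 8077824, 8694112], [5, 8, 0]),
  ([5279, 7612992, 9158944], [5279, 1009728, 15762208], [5, 5]),
  ([5279, 7612992, 9158944], [5279, 1256224, 15515712], [1, 0, 2]),
  ([5279, 7612992, 9158944], [5279, 1852256, 14919680], [6, 5, 1]),
  ([5279, 7612992, 9158944], [5279, 2220640, 14551296], [8, 4, 0]),
  ([5279, 7612992, 9158944], [5279, 3050016, 13721920], [2, 6, 4]),
  ([5279, 7612992, 9158944], [5279, 3328320, 13443616], [2, 0, 2]),
  ([5279, 7612992, 9158944], [5279, 4038912, 12733024], [5, 3]),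
  ([5279, 7612992, 9158944], [5279, 4645632, 12126304], [3, 11, 4]),
  ([5279, 7612992, 9158944], [5279, 4819776, 11952160], [2, 2, 0]),
  ([5279, 7612992, 9158944], [5279, 5621792, 11150144], [5, 1]),
  ([5279, 7612992, 9158944], [5279, 5939296, 10832640], [1, 2, 0]),
  ([5279, 7612992, 9158944], [5279, 6750560, 10021376], [3, 0, 1]),
  ([5279, 7612992, 9158944], [5279, 6842656, 9929280], [7, 5, 1]),
  ([5279, 7612992, 9158944], [5279, 8077824, 8694112], [5, 8]),
  ([5279, 8077824, 8694112], [5279, 1009728, 15762208], [6, 4, 3]),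
  ([5279, 8077824, 8694112], [5279, 1256224, 15515712], [4, 0, 3]),
  ([5279, 8077824, 8694112], [5279, 1852256, 14919680], [8, 1, 1]),
  ([5279, 8077824, 8694112], [5279, 2220640, 14551296], [2, 2, 2]),
  ([5279, 8077824, 8694112], [5279, 3050016, 13721920], [6]),
  ([5279, 8077824, 8694112], [5279, 3328320, 13443616], [11, 6, 0]),
  ([5279, 8077824, 8694112], [5279, 4038912, 12733024], [3, 3, 2]),
  ([5279, 8077824, 8694112], [5279, 4645632, 12126304], [7, 2, 0]),
  ([5279, 8077824, 8694112], [5279, 4819776, 11952160], [11, 1, 0]),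
  ([5279, 8077824, 8694112], [5279, 5621792, 11150144], [2, 0, 5]),
  ([5279, 8077824, 8694112], [5279, 5939296, 10832640], [7, 0, 2]),
  ([5279, 8077824, 8694112], [5279, 6750560, 10021376], [2, 0, 1]),
  ([5279, 8077824, 8694112], [5279, 6842656, 9929280], [3, 8, 0]),
  ([5279, 8077824, 8694112], [5279, 7612992, 9158944], [3, 5, 4])]
def nLevels : List (ℕ × List ℕ × List (ℕ × ℕ × ℕ)) :=
  [(5, [720981692062171673584743151055243296, 220213109803259289183002082616117280, 841384528646309054241536335100872736, 651239579074641248992907580101724192], [(14, 5, 0), (23, 5, 1), (21, 5, 2), (8, 5, 3), (17, 14, 1), (13, 14, 2), (19, 14, 3), (20, 23, 2), (15, 23, 3), (22, 21, 3), (18, 17, 2), (16, 17, 3), (11, 13, 3), (9, 20, 3), (6, 18, 3)])]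

/-- The generators of the stabiliser of the base octad. -/
def G8 : List ℕ := chainGens octStabLevels

/-! ### The trios through the base octad -/

set_option maxRecDepth 1000000 in
theorem L15_eq : trioList.filter (fun l => l.any (Nat.beq 5279)) = L15 := by decide +kernel

theorem O0_mem_decFF_iff {l : List ℕ} (hl : canonL l = true) :
    O0 ∈ decFF l ↔ l.any (Nat.beq 5279) = true := by
  rw [mem_decFF, List.any_eq_true]
  constructor
  · rintro ⟨m, hm, hfm⟩
    refine ⟨m, hm, ?_⟩
    have : m = 5279 := fset_injOn (canonL_lt hl hm) (by norm_num) hfm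
    rw [this]
    exact Nat.beq_refl _
  · rintro ⟨m, hm, hb⟩
    refine ⟨m, hm, ?_⟩
    rw [← Nat.eq_of_beq_eq_true hb]
    rfl

theorem mem_L15_iff (l : List ℕ) : l ∈ L15 ↔ l ∈ trioList ∧ l.any (Nat.beq 5279) = true := by
  rw [← L15_eq, List.mem_filter]

theorem std_complete {T : Finset (Finset GolayPt)} (hT : T ∈ trios) (hO : O0 ∈ T) :
    ∃ l ∈ L15, decFF l = T := by
  obtain ⟨l, hl, rfl⟩ := trioFamily.complete T hT
  refine ⟨l, (mem_L15_iff l).2 ⟨hl, (O0_mem_decFF_iff (trioList_canon l hl)).1 hO⟩, rfl⟩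

theorem std_sound {l : List ℕ} (hl : l ∈ L15) :
    decFF l ∈ trios ∧ O0 ∈ decFF l ∧ canonL l = true := by
  rw [mem_L15_iff] at hl
  have hc := trioList_canon l hl.1
  exact ⟨trioFamily.sound l hl.1, (O0_mem_decFF_iff hc).2 hl.2, hc⟩

theorem std_count : {T : Finset (Finset GolayPt) | T ∈ trios ∧ O0 ∈ T}.ncard = 15 := by
  have h := encFam.ncard_orbit_eq trioList trioList_canon trioList_nodup
    (fun l => l.any (Nat.beq 5279)) {T : Finset (Finset GolayPt) | T ∈ trios ∧ O0 ∈ T} (by
      intro y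
      constructor
      · rintro ⟨hy, hq⟩
        obtain ⟨l, hl, rfl⟩ := trioFamily.complete y hy
        exact ⟨l, List.mem_filter.2 ⟨hl, (O0_mem_decFF_iff (trioList_canon l hl)).1 hq⟩, rfl⟩
      · rintro ⟨l, hl, rfl⟩
        rw [List.mem_filter] at hl
        exact ⟨trioFamily.sound l hl.1, (O0_mem_decFF_iff (trioList_canon l hl.1)).2 hl.2⟩)
  rw [h, L15_eq]
  rfl

/-! ### Membership of coded permutations in stabilisers -/

theorem mem_stabM_O0 {S : ℕ} (h : isAutC S = true) (h' : Nat.beq (pmask S 5279) 5279 = true) :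
    permC S ∈ stabM O0 := by
  rw [mem_stabM]
  refine ⟨permC_mem_M24 h, ?_⟩
  show permC S • fset 5279 = fset 5279
  rw [permC_smul_fset (isPerm_of_isAutC h) (by norm_num), Nat.eq_of_beq_eq_true h']

theorem mem_stab_decFF {S : ℕ} (hS : isPerm S = true) {a : List ℕ} (ha : canonL a = true)
    (h : beqL (actL S a) a = true) :
    permC S ∈ MulAction.stabilizer (Equiv.Perm GolayPt) (decFF a) := by
  rw [MulAction.mem_stabilizer_iff]
  have : permC S • decFF a = decFF (actL S a) := encFam.act_spec S hS a (encFam.canon_small a ha)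
  rw [this, beqL_eq _ _ h]

theorem G8_mem : ∀ S ∈ G8, isPerm S = true ∧ permC S ∈ stabM O0 := by
  intro S hS
  have := List.all_eq_true.1 octStab_gens_ok S hS
  rw [Bool.and_eq_true] at this
  exact ⟨isPerm_of_isAutC this.1, mem_stabM_O0 this.1 this.2⟩

/-! ### Double transitivity -/

theorem pair_chk : L15.all (fun l1 => L15.all (fun l2 => beqL l1 l2 ||
    pairTable.any (fun e => beqL e.1 l1 && beqL e.2.1 l2 && wordOK G8 e.2.2 &&
      beqL (encFam.word G8 e.2.2 a1) l1 && beqL (encFam.word G8 e.2.2 a2) l2))) = true := by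
  decide +kernel

theorem a_canon : canonL a1 = true ∧ canonL a2 = true ∧ canonL a3 = true ∧ canonL a4 = true := by
  decide +kernel

theorem pair_reach {l1 l2 : List ℕ} (h1 : l1 ∈ L15) (h2 : l2 ∈ L15) (hne : l1 ≠ l2) :
    ∃ g ∈ stabM O0, g • decFF a1 = decFF l1 ∧ g • decFF a2 = decFF l2 := by
  have h := List.all_eq_true.1 (List.all_eq_true.1 pair_chk l1 h1) l2 h2
  rw [Bool.or_eq_true] at h
  rcases h with h | h
  · exact absurd (beqL_eq _ _ h) hne
  · rw [List.any_eq_true] at h
    obtain ⟨⟨e1, e2, w⟩, _, he⟩ := h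
    simp only [Bool.and_eq_true] at he
    obtain ⟨⟨⟨⟨_, _⟩, hw⟩, hw1⟩, hw2⟩ := he
    refine ⟨wordPerm G8 w, wordPerm_mem (stabM O0) G8 (fun S hS => (G8_mem S hS).2) w hw, ?_, ?_⟩
    · have := (encFam.word_spec G8 (fun S hS => (G8_mem S hS).1) w hw a1
        (encFam.canon_small a1 a_canon.1)).2
      rw [beqL_eq _ _ hw1] at this
      exact this
    · have := (encFam.word_spec G8 (fun S hS => (G8_mem S hS).1) w hw a2
        (encFam.canon_small a2 a_canon.2.1)).2
      rw [beqL_eq _ _ hw2] at this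
      exact this

theorem std_two_trans (T₁ T₂ T₁' T₂' : Finset (Finset GolayPt)) (h1 : T₁ ∈ trios)
    (h2 : T₂ ∈ trios) (h1' : T₁' ∈ trios) (h2' : T₂' ∈ trios) (ho1 : O0 ∈ T₁) (ho2 : O0 ∈ T₂)
    (ho1' : O0 ∈ T₁') (ho2' : O0 ∈ T₂') (hne : T₁ ≠ T₂) (hne' : T₁' ≠ T₂') :
    ∃ g ∈ M24, g • O0 = O0 ∧ g • T₁ = T₁' ∧ g • T₂ = T₂' := by
  obtain ⟨l1, hl1, rfl⟩ := std_complete h1 ho1
  obtain ⟨l2, hl2, rfl⟩ := std_complete h2 ho2
  obtain ⟨l1', hl1', rfl⟩ := std_complete h1' ho1'
  obtain ⟨l2', hl2', rfl⟩ := std_complete h2' ho2'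
  obtain ⟨g, hg, hg1, hg2⟩ := pair_reach hl1 hl2 (fun h => hne (by rw [h]))
  obtain ⟨g', hg', hg1', hg2'⟩ := pair_reach hl1' hl2' (fun h => hne' (by rw [h]))
  have hmem := (stabM O0).mul_mem hg' ((stabM O0).inv_mem hg)
  rw [mem_stabM] at hmem
  refine ⟨g' * g⁻¹, hmem.1, hmem.2, ?_, ?_⟩
  · rw [mul_smul, ← hg1, inv_smul_smul, hg1']
  · rw [mul_smul, ← hg2, inv_smul_smul, hg2']

/-! ### The kernel -/

theorem N_fix_chk : H5list.all (fun S => !(fixesMask S 5279) ||
    L15.all (fun l => beqL (actL S l) l)) = true := by decide +kernel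

theorem bits31 : ∀ x : Fin 24, (31 : ℕ).testBit x = true → (5279 : ℕ).testBit x = true := by decide

theorem N_fixes {g : Equiv.Perm GolayPt} (hg : g ∈ fixIn M24 5279) {T : Finset (Finset GolayPt)}
    (hT : T ∈ trios) (hO : O0 ∈ T) : g • T = T := by
  rw [mem_fixIn] at hg
  have h31 : g ∈ Hfix 31 := by
    refine ⟨hg.1, fun p hp => hg.2 p ?_⟩
    rw [mem_fset] at hp ⊢
    exact bits31 _ hp
  obtain ⟨S, hS, rfl⟩ := H5_complete h31
  have hSP := isPerm_of_isAutC (H5list_perm hS)
  have hfm : fixesMask S 5279 = true := by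
    unfold fixesMask
    rw [List.all_eq_true]
    intro i hi
    have hi' := List.mem_range.1 hi
    rw [Bool.or_eq_true]
    by_cases hb : (5279 : ℕ).testBit i = true
    · right
      have := hg.2 (ptOf ⟨i, hi'⟩) ((mem_fset _ _).2 (by rw [ptIdx_ptOf]; exact hb))
      have h2 := ptIdx_permC hSP (ptOf ⟨i, hi'⟩)
      rw [this, ptIdx_ptOf] at h2
      simp only at h2
      rw [← h2]
      exact Nat.beq_refl i
    · left
      simp only [Bool.not_eq_true] at hb
      rw [hb]; rfl
  have hchk := List.all_eq_true.1 N_fix_chk S hS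
  rw [hfm] at hchk
  simp only [Bool.not_true, Bool.false_or] at hchk
  obtain ⟨l, hl, rfl⟩ := std_complete hT hO
  have hl' := List.all_eq_true.1 hchk l hl
  have hc := (std_sound hl).2.2
  exact MulAction.mem_stabilizer_iff.1 (mem_stab_decFF hSP hc hl')

theorem nLevels_ok : (chainGens nLevels).all isAutC = true := by decide +kernel
theorem nLevels_prod : chainProd 5279 nLevels = 16 := by decide +kernel

theorem N_card : 16 ≤ Nat.card (fixIn M24 5279) := by
  have := chainProd_le M24 nLevels 5279 (by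
    intro lev hlev S hS
    apply permC_mem_M24
    apply List.all_eq_true.1 nLevels_ok S
    unfold chainGens
    rw [List.mem_flatMap]
    exact ⟨lev, hlev, hS⟩)
  rw [nLevels_prod] at this
  exact this

/-- The chain of stabilisers of four trios inside the stabiliser of the base octad. -/
def H1 : Subgroup (Equiv.Perm GolayPt) :=
  stabM O0 ⊓ MulAction.stabilizer (Equiv.Perm GolayPt) (encFam.dec a1)
def H2 : Subgroup (Equiv.Perm GolayPt) :=
  H1 ⊓ MulAction.stabilizer (Equiv.Perm GolayPt) (encFam.dec a2)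
def H3 : Subgroup (Equiv.Perm GolayPt) :=
  H2 ⊓ MulAction.stabilizer (Equiv.Perm GolayPt) (encFam.dec a3)
def H4 : Subgroup (Equiv.Perm GolayPt) :=
  H3 ⊓ MulAction.stabilizer (Equiv.Perm GolayPt) (encFam.dec a4)

theorem gens2_ok : gens2.all (fun S => isAutC S && Nat.beq (pmask S 5279) 5279 &&
    beqL (actL S a1) a1) = true := by decide +kernel
theorem gens3_ok : gens3.all (fun S => isAutC S && Nat.beq (pmask S 5279) 5279 &&
    beqL (actL S a1) a1 && beqL (actL S a2) a2) = true := by decide +kernel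
theorem gens4_ok : gens4.all (fun S => isAutC S && Nat.beq (pmask S 5279) 5279 &&
    beqL (actL S a1) a1 && beqL (actL S a2) a2 && beqL (actL S a3) a3) = true := by decide +kernel

theorem targets_ok : targets1.all canonL = true ∧ targets2.all canonL = true ∧
    targets3.all canonL = true ∧ targets4.all canonL = true := by decide +kernel
theorem targets_nodup : targets1.Nodup ∧ targets2.Nodup ∧ targets3.Nodup ∧ targets4.Nodup := by
  decide +kernel
theorem reach1 : encFam.reachOK G8 a1 targets1 words1 = true := by decide +kernel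
theorem reach2 : encFam.reachOK gens2 a2 targets2 words2 = true := by decide +kernel
theorem reach3 : encFam.reachOK gens3 a3 targets3 words3 = true := by decide +kernel
theorem reach4 : encFam.reachOK gens4 a4 targets4 words4 = true := by decide +kernel

theorem chain1 : 15 * Nat.card H1 ≤ 322560 := by
  have := Enc.inf_stab_card_le encFam (stabM O0) G8 G8_mem a1 (encFam.canon_small a1 a_canon.1)
    targets1 targets_nodup.1 (fun b hb => List.all_eq_true.1 targets_ok.1 b hb) words1 reach1
  rw [card_stabM_O0] at this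
  exact this

theorem chain2 : 14 * Nat.card H2 ≤ Nat.card H1 := by
  refine Enc.inf_stab_card_le encFam H1 gens2 ?_ a2 (encFam.canon_small a2 a_canon.2.1)
    targets2 targets_nodup.2.1 (fun b hb => List.all_eq_true.1 targets_ok.2.1 b hb) words2 reach2
  intro S hS
  have := List.all_eq_true.1 gens2_ok S hS
  simp only [Bool.and_eq_true] at this
  obtain ⟨⟨h1, h2⟩, h3⟩ := this
  have hP := isPerm_of_isAutC h1
  exact ⟨hP, Subgroup.mem_inf.2 ⟨mem_stabM_O0 h1 h2, mem_stab_decFF hP a_canon.1 h3⟩⟩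

theorem chain3 : 12 * Nat.card H3 ≤ Nat.card H2 := by
  refine Enc.inf_stab_card_le encFam H2 gens3 ?_ a3 (encFam.canon_small a3 a_canon.2.2.1)
    targets3 targets_nodup.2.2.1 (fun b hb => List.all_eq_true.1 targets_ok.2.2.1 b hb) words3
    reach3
  intro S hS
  have := List.all_eq_true.1 gens3_ok S hS
  simp only [Bool.and_eq_true] at this
  obtain ⟨⟨⟨h1, h2⟩, h3⟩, h4⟩ := this
  have hP := isPerm_of_isAutC h1
  exact ⟨hP, Subgroup.mem_inf.2 ⟨Subgroup.mem_inf.2 ⟨mem_stabM_O0 h1 h2,
    mem_stab_decFF hP a_canon.1 h3⟩, mem_stab_decFF hP a_canon.2.1 h4⟩⟩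

theorem chain4 : 8 * Nat.card H4 ≤ Nat.card H3 := by
  refine Enc.inf_stab_card_le encFam H3 gens4 ?_ a4 (encFam.canon_small a4 a_canon.2.2.2)
    targets4 targets_nodup.2.2.2 (fun b hb => List.all_eq_true.1 targets_ok.2.2.2 b hb) words4
    reach4
  intro S hS
  have := List.all_eq_true.1 gens4_ok S hS
  simp only [Bool.and_eq_true] at this
  obtain ⟨⟨⟨⟨h1, h2⟩, h3⟩, h4⟩, h5⟩ := this
  have hP := isPerm_of_isAutC h1
  exact ⟨hP, Subgroup.mem_inf.2 ⟨Subgroup.mem_inf.2 ⟨Subgroup.mem_inf.2 ⟨mem_stabM_O0 h1 h2,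
    mem_stab_decFF hP a_canon.1 h3⟩, mem_stab_decFF hP a_canon.2.1 h4⟩,
    mem_stab_decFF hP a_canon.2.2.1 h5⟩⟩

theorem H4_card : Nat.card H4 ≤ 16 := by
  have h1 := chain1
  have h2 := chain2
  have h3 := chain3
  have h4 := chain4
  omega

theorem a_mem : a1 ∈ L15 ∧ a2 ∈ L15 ∧ a3 ∈ L15 ∧ a4 ∈ L15 := by decide +kernel

theorem mem_H4 {g : Equiv.Perm GolayPt} (hg : g ∈ M24) (hgo : g • O0 = O0)
    (h : ∀ T ∈ trios, O0 ∈ T → g • T = T) : g ∈ H4 := by
  have key : ∀ a ∈ L15, g ∈ MulAction.stabilizer (Equiv.Perm GolayPt) (encFam.dec a) := by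
    intro a ha
    rw [MulAction.mem_stabilizer_iff]
    exact h _ (std_sound ha).1 (std_sound ha).2.1
  exact Subgroup.mem_inf.2 ⟨Subgroup.mem_inf.2 ⟨Subgroup.mem_inf.2 ⟨Subgroup.mem_inf.2
    ⟨(mem_stabM O0 g).2 ⟨hg, hgo⟩, key a1 a_mem.1⟩, key a2 a_mem.2.1⟩, key a3 a_mem.2.2.1⟩,
    key a4 a_mem.2.2.2⟩

theorem N_smul_O0 {g : Equiv.Perm GolayPt} (hg : ∀ p ∈ O0, g p = p) : g • O0 = O0 := by
  apply Finset.eq_of_subset_of_card_le
  · intro p hp
    obtain ⟨r, hr, rfl⟩ := Finset.mem_smul_finset.1 hp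
    show g r ∈ O0
    rw [hg r hr]
    exact hr
  · rw [Finset.card_smul_finset]

theorem N_le_H4 : fixIn M24 5279 ≤ H4 := by
  intro g hg
  have hg' := (mem_fixIn M24 5279 g).1 hg
  exact mem_H4 hg'.1 (N_smul_O0 hg'.2) (fun T hT hO => N_fixes hg hT hO)

theorem N_eq_H4 : fixIn M24 5279 = H4 :=
  Subgroup.eq_of_le_of_card_ge N_le_H4 (le_trans H4_card N_card)

theorem std_kernel {g : Equiv.Perm GolayPt} (hg : g ∈ M24) (hgo : g • O0 = O0) :
    (∀ T ∈ trios, O0 ∈ T → g • T = T) ↔ ∀ p ∈ O0, g p = p := by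
  constructor
  · intro h
    have := mem_H4 hg hgo h
    rw [← N_eq_H4, mem_fixIn] at this
    exact this.2
  · intro h T hT hO
    exact N_fixes ((mem_fixIn M24 5279 g).2 ⟨hg, h⟩) hT hO


/-- An octad of the length-24 code lies in exactly 15 trios; the stabiliser of the octad in the code's group acts doubly transitively on these 15 trios, and the kernel of this action is the pointwise stabiliser of the octad. -/
theorem result (o : Finset Cfsg.GolayPt) (ho : o ∈ Cfsg.octads) : {T : Finset (Finset Cfsg.GolayPt) | T ∈ Cfsg.trios ∧ o ∈ T}.ncard = 15 ∧ (∀ T₁ T₂ T₁' T₂' : Finset (Finset Cfsg.GolayPt), T₁ ∈ Cfsg.trios → T₂ ∈ Cfsg.trios → T₁' ∈ Cfsg.trios → T₂' ∈ Cfsg.trios → o ∈ T₁ → o ∈ T₂ → o ∈ T₁' → o ∈ T₂' → T₁ ≠ T₂ → T₁' ≠ T₂' → ∃ g ∈ Cfsg.M24, g • o = o ∧ g • T₁ = T₁' ∧ g • T₂ = T₂') ∧ ∀ g ∈ Cfsg.M24, g • o = o → ((∀ T ∈ Cfsg.trios, o ∈ T → g • T = T) ↔ ∀ p ∈ o, g p = p) := by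
  obtain ⟨u, hu, huo⟩ := exists_smul_O0_eq ho
  have huinv := M24.inv_mem hu
  have htr : ∀ T : Finset (Finset GolayPt), T ∈ trios → o ∈ T →
      u⁻¹ • T ∈ trios ∧ O0 ∈ u⁻¹ • T := by
    intro T hT hoT
    refine ⟨smul_mem_trios huinv hT, ?_⟩
    have : O0 = u⁻¹ • o := by rw [← huo, inv_smul_smul]
    rw [this]
    exact Finset.smul_mem_smul_finset hoT
  have htr' : ∀ T : Finset (Finset GolayPt), T ∈ trios → O0 ∈ T →
      u • T ∈ trios ∧ o ∈ u • T := by
    intro T hT hoT
    refine ⟨smul_mem_trios hu hT, ?_⟩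
    rw [← huo]
    exact Finset.smul_mem_smul_finset hoT
  refine ⟨?_, ?_, ?_⟩
  · have himg : {T : Finset (Finset GolayPt) | T ∈ trios ∧ o ∈ T} =
        (fun T => u • T) '' {T : Finset (Finset GolayPt) | T ∈ trios ∧ O0 ∈ T} := by
      ext T
      constructor
      · rintro ⟨hT, hoT⟩
        exact ⟨u⁻¹ • T, htr T hT hoT, smul_inv_smul u T⟩
      · rintro ⟨T', ⟨hT', hoT'⟩, rfl⟩
        exact htr' T' hT' hoT'
    rw [himg, Set.ncard_image_of_injective _ (MulAction.injective u)]
    exact std_count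
  · intro T₁ T₂ T₁' T₂' h1 h2 h1' h2' ho1 ho2 ho1' ho2' hne hne'
    obtain ⟨g, hg, hgo, hg1, hg2⟩ := std_two_trans (u⁻¹ • T₁) (u⁻¹ • T₂) (u⁻¹ • T₁') (u⁻¹ • T₂')
      (htr T₁ h1 ho1).1 (htr T₂ h2 ho2).1 (htr T₁' h1' ho1').1 (htr T₂' h2' ho2').1
      (htr T₁ h1 ho1).2 (htr T₂ h2 ho2).2 (htr T₁' h1' ho1').2 (htr T₂' h2' ho2').2
      (fun h => hne (MulAction.injective u⁻¹ h)) (fun h => hne' (MulAction.injective u⁻¹ h))
    refine ⟨u * g * u⁻¹, M24.mul_mem (M24.mul_mem hu hg) huinv, ?_, ?_, ?_⟩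
    · rw [mul_smul, mul_smul, ← huo, inv_smul_smul, hgo]
    · rw [mul_smul, mul_smul, hg1, smul_inv_smul]
    · rw [mul_smul, mul_smul, hg2, smul_inv_smul]
  · intro g hg hgo
    have hg' : u⁻¹ * g * u ∈ M24 := M24.mul_mem (M24.mul_mem huinv hg) hu
    have hgo' : (u⁻¹ * g * u) • O0 = O0 := by
      rw [mul_smul, mul_smul, huo, hgo, ← huo, inv_smul_smul]
    have hk := std_kernel hg' hgo'
    constructor
    · intro h p hp
      have h1 : ∀ T ∈ trios, O0 ∈ T → (u⁻¹ * g * u) • T = T := by
        intro T hT hoT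
        rw [mul_smul, mul_smul, h _ (htr' T hT hoT).1 (htr' T hT hoT).2, inv_smul_smul]
      have h2 := hk.1 h1
      have hp' : u⁻¹ p ∈ O0 := by
        have : O0 = u⁻¹ • o := by rw [← huo, inv_smul_smul]
        rw [this]
        exact Finset.smul_mem_smul_finset hp
      have h3 := h2 _ hp'
      rw [Equiv.Perm.mul_apply, Equiv.Perm.mul_apply] at h3
      have h4 := congrArg u h3
      simpa using h4
    · intro h T hT hoT
      have h1 : ∀ p ∈ O0, (u⁻¹ * g * u) p = p := by
        intro p hp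
        have hp' : u p ∈ o := by
          rw [← huo]
          exact Finset.smul_mem_smul_finset hp
        rw [Equiv.Perm.mul_apply, Equiv.Perm.mul_apply, h _ hp']
        simp
      have h2 := hk.2 h1 _ (htr T hT hoT).1 (htr T hT hoT).2
      rw [mul_smul, mul_smul, smul_inv_smul] at h2
      have h3 := congrArg (fun X => u • X) h2
      simpa using h3

end Cfsg.Agent.S5615
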