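import Cfsg.Statements.S5616
import Cfsg.Agent.Lib.Helper27.D5616
import Cfsg.Agent.Lib.Helper27.Quartets

set_option autoImplicit false
open scoped Pointwise
open Cfsg

namespace Cfsg.Agent.S5616

open Cfsg.Agent.Lib.Helper27 Cfsg.Agent.Lib.Helper26 Cfsg.Agent.Lib.Helper27.D5616

/-- Let Y be a set of 3 of the 24 points. The sextets of the length-24 code whose tetrads meeting Y number 1, 2 or 3 are respectively 21, 630 and 1120 in number, and two sextets with the same number of tetrads meeting Y are conjugate under the setwise stabiliser of Y in the code's group. -/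
theorem result (Y : Finset Cfsg.GolayPt) (hY : Y.card = 3) : {S : Finset (Finset Cfsg.GolayPt) | S ∈ Cfsg.sextets ∧ (S.filter fun t => (t ∩ Y).Nonempty).card = 1}.ncard = 21 ∧ {S : Finset (Finset Cfsg.GolayPt) | S ∈ Cfsg.sextets ∧ (S.filter fun t => (t ∩ Y).Nonempty).card = 2}.ncard = 630 ∧ {S : Finset (Finset Cfsg.GolayPt) | S ∈ Cfsg.sextets ∧ (S.filter fun t => (t ∩ Y).Nonempty).card = 3}.ncard = 1120 ∧ ∀ S S' : Finset (Finset Cfsg.GolayPt), S ∈ Cfsg.sextets → S' ∈ Cfsg.sextets → (S.filter fun t => (t ∩ Y).Nonempty).card = (S'.filter fun t => (t ∩ Y).Nonempty).card → ∃ g ∈ Cfsg.M24, g • Y = Y ∧ g • S = S' := by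
  obtain ⟨g0, hg0, rfl⟩ := exists_smul_eq_of_card isTransOn3 Y hY
  rw [← y0_eq]
  have key : ∀ S : Finset (Finset GolayPt),
      ((g0 • S).filter fun t => (t ∩ g0 • dec y0).Nonempty).card = invSC fCnt (dec y0) S := by
    intro S
    rw [cnt_eq, invSC_smul]
  have tr : ∀ k : ℕ, {S : Finset (Finset GolayPt) | S ∈ sextets ∧
      (S.filter fun t => (t ∩ g0 • dec y0).Nonempty).card = k}.ncard =
      {S : Finset (Finset GolayPt) | S ∈ sextets ∧ invSC fCnt (dec y0) S = k}.ncard := by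
    intro k
    exact ncard_smul_transport' g0 (fun S => S ∈ sextets ∧ invSC fCnt (dec y0) S = k)
      (fun S => S ∈ sextets ∧ (S.filter fun t => (t ∩ g0 • dec y0).Nonempty).card = k)
      (fun S => by rw [smul_mem_sextets_iff hg0, key])
  refine ⟨?_, ?_, ?_, ?_⟩
  · rw [tr 1, set1, ncards.1]
  · rw [tr 2, set2, ncards.2.1]
  · rw [tr 3, set3, ncards.2.2]
  · intro S S' hS hS' h
    have e1 : S = g0 • (g0⁻¹ • S) := (smul_inv_smul g0 S).symm
    have e2 : S' = g0 • (g0⁻¹ • S') := (smul_inv_smul g0 S').symm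
    rw [e1, e2, key, key] at h
    obtain ⟨k, hk, hkS⟩ := base_conj ((smul_mem_sextets_iff (M24.inv_mem hg0) S).mpr hS)
      ((smul_mem_sextets_iff (M24.inv_mem hg0) S').mpr hS') h
    obtain ⟨hkM, hky⟩ := mem_stabIn.mp hk
    refine ⟨g0 * k * g0⁻¹, M24.mul_mem (M24.mul_mem hg0 hkM) (M24.inv_mem hg0), ?_, ?_⟩
    · rw [mul_smul, mul_smul, inv_smul_smul, hky]
    · rw [mul_smul, mul_smul, hkS, smul_inv_smul]

end Cfsg.Agent.S5616
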