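import Cfsg.Statements.S5617
import Cfsg.Agent.Lib.Helper27.D5617

set_option autoImplicit false
open scoped Pointwise
open Cfsg

namespace Cfsg.Agent.S5617

open Cfsg.Agent.Lib.Helper27 Cfsg.Agent.Lib.Helper26 Cfsg.Agent.Lib.Helper27.D5617

/-- The setwise stabiliser, in the group of the length-24 code, of a complementary pair of dodecads has exactly three orbits on the 1771 sextets, of sizes 396, 495 and 880. -/
theorem result (d : Finset Cfsg.GolayPt) (hd : d ∈ Cfsg.dodecads) : ∃ X₁ ∈ Cfsg.sextets, ∃ X₂ ∈ Cfsg.sextets, ∃ X₃ ∈ Cfsg.sextets, (MulAction.orbit ↥(MulAction.stabilizer Cfsg.M24 ({d, Finset.univ \ d} : Finset (Finset Cfsg.GolayPt))) X₁).ncard = 396 ∧ (MulAction.orbit ↥(MulAction.stabilizer Cfsg.M24 ({d, Finset.univ \ d} : Finset (Finset Cfsg.GolayPt))) X₂).ncard = 495 ∧ (MulAction.orbit ↥(MulAction.stabilizer Cfsg.M24 ({d, Finset.univ \ d} : Finset (Finset Cfsg.GolayPt))) X₃).ncard = 880 ∧ Cfsg.sextets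 = MulAction.orbit ↥(MulAction.stabilizer Cfsg.M24 ({d, Finset.univ \ d} : Finset (Finset Cfsg.GolayPt))) X₁ ∪ MulAction.orbit ↥(MulAction.stabilizer Cfsg.M24 ({d, Finset.univ \ d} : Finset (Finset Cfsg.GolayPt))) X₂ ∪ MulAction.orbit ↥(MulAction.stabilizer Cfsg.M24 ({d, Finset.univ \ d} : Finset (Finset Cfsg.GolayPt))) X₃ := by
  obtain ⟨g0, hg0, rfl⟩ := dodecads_transitive d hd
  rw [← smul_pair, pair_eq]
  have hS := baseS
  simp only [cwS, List.map_cons, List.map_nil, List.mem_cons, List.not_mem_nil, or_false,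
    forall_eq_or_imp, forall_eq, exists_eq_or_imp, exists_eq_left] at hS
  obtain ⟨⟨⟨-, hS1⟩, ⟨-, hS2⟩, ⟨-, hS3⟩⟩, hSU⟩ := hS
  refine ⟨g0 • decQ cS1.rep, ?_, g0 • decQ cS2.rep, ?_, g0 • decQ cS3.rep, ?_, ?_, ?_, ?_, ?_⟩
  · exact smul_mem_sextets hg0 ((hSU _).mpr (Or.inl (self_mem_orbK _ _)))
  · exact smul_mem_sextets hg0 ((hSU _).mpr (Or.inr (Or.inl (self_mem_orbK _ _))))
  · exact smul_mem_sextets hg0 ((hSU _).mpr (Or.inr (Or.inr (self_mem_orbK _ _))))
  · rw [orbit_stab_eq, orbK_stabIn_smul _ _ hg0, ncard_image_smul, hS1]; decide +kernel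
  · rw [orbit_stab_eq, orbK_stabIn_smul _ _ hg0, ncard_image_smul, hS2]; decide +kernel
  · rw [orbit_stab_eq, orbK_stabIn_smul _ _ hg0, ncard_image_smul, hS3]; decide +kernel
  · rw [orbit_stab_eq, orbit_stab_eq, orbit_stab_eq, orbK_stabIn_smul _ _ hg0, orbK_stabIn_smul _ _ hg0, orbK_stabIn_smul _ _ hg0, ← Set.image_union, ← Set.image_union]
    ext y
    rw [← smul_mem_sextets_iff (M24.inv_mem hg0), hSU]
    simp only [Set.mem_image, Set.mem_union, or_assoc]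
    constructor
    · intro h
      exact ⟨g0⁻¹ • y, h, smul_inv_smul g0 y⟩
    · rintro ⟨z, hz, rfl⟩
      rw [inv_smul_smul]; exact hz

end Cfsg.Agent.S5617
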