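import Cfsg.Statements.S5618
import Cfsg.Agent.S5614

set_option autoImplicit false
open scoped Pointwise
open Cfsg

namespace Cfsg.Agent.S5618

open Cfsg.Agent.Lib.Helper93 Cfsg.Agent.Lib.Helper93.Golay

theorem card_symmDiff_add' {α : Type*} [DecidableEq α] (s t : Finset α) :
    (symmDiff s t).card + 2 * (s ∩ t).card = s.card + t.card := by
  have h1 : (symmDiff s t).card = (s \ t).card + (t \ s).card := by
    rw [symmDiff_def, Finset.sup_eq_union, Finset.card_union_of_disjoint]
    exact disjoint_sdiff_sdiff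
  have h2 : (s \ t).card + (s ∩ t).card = s.card := Finset.card_sdiff_add_card_inter s t
  have h3 : (t \ s).card + (t ∩ s).card = t.card := Finset.card_sdiff_add_card_inter t s
  rw [Finset.inter_comm t s] at h3
  omega

/-- A dodecad with a hexad on it corresponds to a pair of octads meeting in two points. -/
theorem key (d C : Finset GolayPt) (hd : d ∈ dodecads) (hC : C ∈ hexadsOn d) :
    ∃ o o' : Finset GolayPt, o ∈ octads ∧ o' ∈ octads ∧ (o ∩ o').card = 2 ∧ o \ o' = C ∧
      o' \ o = d \ C ∧ ∀ g : Equiv.Perm GolayPt, g ∈ M24 →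
        ((g • d = d ∧ g • C = C) ↔ (g • o = o ∧ g • o' = o')) := by
  obtain ⟨hC6, o, ho, hod⟩ := hC
  have hdo : d ∩ o = C := by rw [Finset.inter_comm]; exact hod
  have hcard := card_symmDiff_add' d o
  rw [hdo, hC6, hd.2, ho.2] at hcard
  have ho' : symmDiff d o ∈ octads := ⟨symmDiff_mem_supports hd.1 ho.1, by omega⟩
  have e1 : o ∩ symmDiff d o = o \ d := by
    ext p
    simp only [Finset.mem_inter, Finset.mem_symmDiff, Finset.mem_sdiff]
    tauto
  have e2 : o \ symmDiff d o = C := by
    rw [← hod]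
    ext p
    simp only [Finset.mem_inter, Finset.mem_symmDiff, Finset.mem_sdiff]
    tauto
  have e3 : symmDiff d o \ o = d \ C := by
    rw [← hod]
    ext p
    simp only [Finset.mem_inter, Finset.mem_symmDiff, Finset.mem_sdiff]
    tauto
  have e4 : (o ∩ symmDiff d o).card = 2 := by
    rw [e1, Finset.card_sdiff, hdo, hC6, ho.2]
  have e5 : symmDiff (symmDiff d o) o = d := symmDiff_symmDiff_cancel_right o d
  refine ⟨o, symmDiff d o, ho, ho', e4, e2, e3, ?_⟩
  intro g hg
  constructor
  · rintro ⟨hgd, hgC⟩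
    have hgo : g • o = o := by
      symm
      apply octad_eq_of_card_inter ho (smul_mem_octads_of_mem_M24 hg ho)
      have hsub : C ⊆ o ∩ g • o := by
        intro p hp
        rw [Finset.mem_inter]
        constructor
        · rw [← hod] at hp
          exact (Finset.mem_inter.1 hp).1
        · rw [← hgC] at hp
          obtain ⟨r, hr, rfl⟩ := Finset.mem_smul_finset.1 hp
          rw [← hod] at hr
          exact Finset.smul_mem_smul_finset (Finset.mem_inter.1 hr).1
      have := Finset.card_le_card hsub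
      omega
    exact ⟨hgo, by rw [Finset.smul_finset_symmDiff, hgd, hgo]⟩
  · rintro ⟨hgo, hgo'⟩
    have hgd : g • d = d := by
      conv_lhs => rw [← e5]
      rw [Finset.smul_finset_symmDiff, hgo', hgo, e5]
    exact ⟨hgd, by rw [← hod, Finset.smul_finset_inter, hgo, hgd]⟩


/-- For a dodecad d of the length-24 code and a hexad C on it (a 6-point intersection of d with an octad): the joint stabiliser of d and C in the code's group is isomorphic to the symmetric group of degree 6, and it acts faithfully both on the six points of C and on the six points of d outside C. -/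
theorem result (d : Finset Cfsg.GolayPt) (hd : d ∈ Cfsg.dodecads) (C : Finset Cfsg.GolayPt) (hC : C ∈ Cfsg.hexadsOn d) : Nonempty (↥(MulAction.stabilizer Cfsg.M24 d ⊓ MulAction.stabilizer Cfsg.M24 C) ≃* Equiv.Perm (Fin 6)) ∧ (∀ g ∈ MulAction.stabilizer Cfsg.M24 d ⊓ MulAction.stabilizer Cfsg.M24 C, (∀ p ∈ C, ((g : ↥Cfsg.M24) : Equiv.Perm Cfsg.GolayPt) p = p) → g = 1) ∧ ∀ g ∈ MulAction.stabilizer Cfsg.M24 d ⊓ MulAction.stabilizer Cfsg.M24 C, (∀ p ∈ d \ C, ((g : ↥Cfsg.M24) : Equiv.Perm Cfsg.GolayPt) p = p) → g = 1 := by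
  obtain ⟨o, o', ho, ho', h2, e2, e3, hiff⟩ := key d C hd hC
  have hJ : MulAction.stabilizer Cfsg.M24 d ⊓ MulAction.stabilizer Cfsg.M24 C =
      MulAction.stabilizer Cfsg.M24 o ⊓ MulAction.stabilizer Cfsg.M24 o' := by
    ext g
    rw [Subgroup.mem_inf, Subgroup.mem_inf, MulAction.mem_stabilizer_iff,
      MulAction.mem_stabilizer_iff, MulAction.mem_stabilizer_iff, MulAction.mem_stabilizer_iff]
    exact hiff (g : Equiv.Perm GolayPt) g.2
  have hmem : ∀ g : ↥M24, g ∈ MulAction.stabilizer Cfsg.M24 d ⊓ MulAction.stabilizer Cfsg.M24 C →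
      ((g : Equiv.Perm GolayPt) • o = o ∧ (g : Equiv.Perm GolayPt) • o' = o') := by
    intro g hg
    rw [hJ, Subgroup.mem_inf, MulAction.mem_stabilizer_iff, MulAction.mem_stabilizer_iff] at hg
    exact hg
  refine ⟨?_, ?_, ?_⟩
  · rw [hJ]
    exact S5614.result o o' ho ho' h2
  · intro g hg hfix
    obtain ⟨hgo, hgo'⟩ := hmem g hg
    apply Subtype.ext
    exact S5614.ker_general ho ho' h2 g.2 hgo hgo' (by rw [e2]; exact hfix)
  · intro g hg hfix
    obtain ⟨hgo, hgo'⟩ := hmem g hg
    apply Subtype.ext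
    exact S5614.ker_general ho' ho (by rw [Finset.inter_comm]; exact h2) g.2 hgo' hgo
      (by rw [e3]; exact hfix)

end Cfsg.Agent.S5618
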