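import Cfsg.Statements.S5619
import Cfsg.Agent.Lib.Helper93.M12
import Cfsg.Agent.Lib.Helper93.Sylow72

set_option autoImplicit false
open scoped Pointwise
open Cfsg

namespace Cfsg.Agent.S5619

open Cfsg.Agent.Lib.Helper93 Cfsg.Agent.Lib.Helper93.Golay

/-! ### Relations between coded permutations -/

theorem prodC_cons (S : ℕ) (ws : List ℕ) : prodC (S :: ws) = permC S * prodC ws := by
  show ((S :: ws).map permC).prod = permC S * (ws.map permC).prod
  simp

theorem prodC_replicate (S : ℕ) : ∀ k : ℕ, prodC (List.replicate k S) = (permC S) ^ k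
  | 0 => rfl
  | k + 1 => by
    rw [List.replicate_succ, prodC_cons, prodC_replicate S k, pow_succ']

theorem replicate_perm {S : ℕ} (hS : isPerm S = true) (k : ℕ) :
    ∀ X ∈ List.replicate k S, isPerm X = true := by
  intro X hX
  rw [List.eq_of_mem_replicate hX]
  exact hS

theorem idF_of_eq_one {g : Equiv.Perm GolayPt} {f : ℕ → ℕ}
    (hf : ∀ p, ((ptIdx (g p) : Fin 24) : ℕ) = f (ptIdx p)) (h : g = 1) : idF f = true := by
  unfold idF
  rw [List.all_eq_true]
  intro i hi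
  have hi' := List.mem_range.1 hi
  have := hf (ptOf ⟨i, hi'⟩)
  rw [h, Equiv.Perm.one_apply, ptIdx_ptOf] at this
  simp only at this
  rw [← this]
  exact Nat.beq_refl i

theorem pow_eq_one_iff {S : ℕ} (hS : isPerm S = true) (k : ℕ) :
    (permC S) ^ k = 1 ↔ idF (pappL (List.replicate k S)) = true := by
  rw [← prodC_replicate]
  constructor
  · exact idF_of_eq_one (fun p => ptIdx_prodC _ (replicate_perm hS k) p)
  · exact eq_one_of_idF (fun p => ptIdx_prodC _ (replicate_perm hS k) p)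

theorem prodC_eq_of_chk (ws ws' : List ℕ) (h : ∀ S ∈ ws, isPerm S = true)
    (h' : ∀ S ∈ ws', isPerm S = true)
    (hc : (List.range 24).all (fun i => Nat.beq (pappL ws i) (pappL ws' i)) = true) :
    prodC ws = prodC ws' := by
  apply eq_of_ptIdx_eq
  intro p
  rw [ptIdx_prodC ws h, ptIdx_prodC ws' h']
  exact Nat.eq_of_beq_eq_true (List.all_eq_true.1 hc _ (List.mem_range.2 (ptIdx p).isLt))

/-! ### Facts about the standard group of order 72 -/

theorem chk93 : list72.all (fun S => !(idF (pappL (List.replicate 9 S))) ||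
    idF (pappL (List.replicate 3 S))) = true := by decide +kernel

theorem K3_val {k : ↥K3} : ∃ S ∈ list72, permC S = (k : Equiv.Perm GolayPt) := K3_complete k.2

theorem K3_pow (k : ↥K3) (n : ℕ) : k ^ n = 1 ↔ (k : Equiv.Perm GolayPt) ^ n = 1 := by
  constructor
  · intro h
    have := congrArg Subtype.val h
    rw [Subgroup.coe_pow] at this
    exact this
  · intro h
    apply Subtype.ext
    rw [Subgroup.coe_pow]
    exact h

theorem F1 (k : ↥K3) (h9 : k ^ 9 = 1) : k ^ 3 = 1 := by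
  obtain ⟨S, hS, hk⟩ := K3_val (k := k)
  have hP := isPerm_of_isAutC (list72_aut hS)
  rw [K3_pow, ← hk, pow_eq_one_iff hP] at h9 ⊢
  have := List.all_eq_true.1 chk93 S hS
  rw [h9] at this
  simpa using this

def list9 : List ℕ := list72.filter fun S => idF (pappL (List.replicate 3 S))

theorem list9_length : list9.length = 9 := by decide +kernel

theorem F2 : {k : ↥K3 | k ^ 3 = 1}.ncard ≤ 9 := by
  rw [← Set.ncard_image_of_injective _ Subtype.val_injective]
  have hsub : Subtype.val '' {k : ↥K3 | k ^ 3 = 1} ⊆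
      ({g | ∃ S ∈ list9, permC S = g} : Set (Equiv.Perm GolayPt)) := by
    rintro g ⟨k, hk, rfl⟩
    obtain ⟨S, hS, hkS⟩ := K3_val (k := k)
    have hP := isPerm_of_isAutC (list72_aut hS)
    refine ⟨S, ?_, hkS⟩
    unfold list9
    rw [List.mem_filter]
    refine ⟨hS, ?_⟩
    rw [← pow_eq_one_iff hP, hkS, ← K3_pow]
    exact hk
  refine le_trans (Set.ncard_le_ncard hsub (Set.toFinite _)) ?_
  rw [← list9_length]
  exact ncard_image_list_le permC list9

theorem q_mem : qx ∈ list72 ∧ qy ∈ list72 := by decide +kernel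

def x0 : ↥K3 := ⟨permC qx, list72_mem q_mem.1⟩
def y0 : ↥K3 := ⟨permC qy, list72_mem q_mem.2⟩

theorem q_chk : idF (pappL (List.replicate 4 qx)) = true ∧
    idF (pappL (List.replicate 2 qx)) = false ∧
    (List.range 24).all (fun i => Nat.beq (pappL [qy, qy] i) (pappL [qx, qx] i)) = true ∧
    (List.range 24).all (fun i => Nat.beq (pappL [qx, qy] i) (pappL [qy, qx, qx, qx] i)) = true := by
  decide +kernel

theorem F3 : x0 ^ 4 = 1 ∧ x0 ^ 2 ≠ 1 ∧ y0 ^ 2 = x0 ^ 2 ∧ x0 * y0 = y0 * x0 ^ 3 := by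
  have hPx := isPerm_of_isAutC (list72_aut q_mem.1)
  have hPy := isPerm_of_isAutC (list72_aut q_mem.2)
  obtain ⟨c1, c2, c3, c4⟩ := q_chk
  have hl : ∀ l : List ℕ, (∀ S ∈ l, S = qx ∨ S = qy) → ∀ S ∈ l, isPerm S = true := by
    intro l hl S hS
    rcases hl S hS with rfl | rfl
    · exact hPx
    · exact hPy
  refine ⟨?_, ?_, ?_, ?_⟩
  · rw [K3_pow]
    exact (pow_eq_one_iff hPx 4).2 c1
  · rw [Ne, K3_pow]
    intro h
    have := (pow_eq_one_iff hPx 2).1 h
    rw [c2] at this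
    exact Bool.false_ne_true this
  · apply Subtype.ext
    rw [Subgroup.coe_pow, Subgroup.coe_pow]
    show (permC qy) ^ 2 = (permC qx) ^ 2
    have := prodC_eq_of_chk [qy, qy] [qx, qx] (hl _ (by simp)) (hl _ (by simp)) c3
    rw [prodC_cons, prodC_cons, prodC_cons, prodC_cons] at this
    rw [pow_two, pow_two]
    simpa [prodC] using this
  · apply Subtype.ext
    rw [Subgroup.coe_mul, Subgroup.coe_mul, Subgroup.coe_pow]
    show permC qx * permC qy = permC qy * (permC qx) ^ 3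
    have := prodC_eq_of_chk [qx, qy] [qy, qx, qx, qx] (hl _ (by simp)) (hl _ (by simp)) c4
    rw [prodC_cons, prodC_cons, prodC_cons, prodC_cons, prodC_cons, prodC_cons] at this
    rw [pow_succ, pow_two]
    simpa [prodC, mul_assoc] using this


/-- In the group of the length-24 code, the subgroup fixing a dodecad setwise and three of its points individually (a group of order 72) has a normal Sylow 3-subgroup that is elementary abelian of order 9, and its Sylow 2-subgroups are quaternion of order 8. -/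
theorem result (d : Finset Cfsg.GolayPt) (hd : d ∈ Cfsg.dodecads) (p q r : Cfsg.GolayPt) (hp : p ∈ d) (hq : q ∈ d) (hr : r ∈ d) (hpq : p ≠ q) (hpr : p ≠ r) (hqr : q ≠ r) : (∀ Q : Sylow 3 ↥(MulAction.stabilizer Cfsg.M24 d ⊓ MulAction.stabilizer Cfsg.M24 p ⊓ MulAction.stabilizer Cfsg.M24 q ⊓ MulAction.stabilizer Cfsg.M24 r), (Q : Subgroup ↥(MulAction.stabilizer Cfsg.M24 d ⊓ MulAction.stabilizer Cfsg.M24 p ⊓ MulAction.stabilizer Cfsg.M24 q ⊓ MulAction.stabilizer Cfsg.M24 r)).Normal ∧ Nat.card ↥Q = 9 ∧ ∀ x ∈ (Q : Subgroup ↥(MulAction.stabilizer Cfsg.M24 d ⊓ MulAction.stabilizer Cfsg.M24 p ⊓ MulAction.stabilizer Cfsg.M24 q ⊓ MulAction.stabilizer Cfsg.M24 r)), x ^ 3 = 1) ∧ ∀ P : Sylow 2 ↥(MulAction.stabilizer Cfsg.M24 d ⊓ MulAction.stabilizer Cfsg.M24 p ⊓ MulAction.stabilizer Cfsg.M24 q ⊓ MulAction.stabilizer Cfsg.M24 r), Nonempty (↥P ≃* QuaternionGroup 2) := by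
  obtain ⟨u, hu, hud, hup, huq, hur⟩ := exists_map3 hd hp hq hr hpq hpr hqr
  -- membership in the stabiliser
  have hmemG : ∀ g : ↥M24, g ∈ (MulAction.stabilizer Cfsg.M24 d ⊓ MulAction.stabilizer Cfsg.M24 p ⊓
      MulAction.stabilizer Cfsg.M24 q ⊓ MulAction.stabilizer Cfsg.M24 r) ↔
      ((g : Equiv.Perm GolayPt) • d = d ∧ (g : Equiv.Perm GolayPt) p = p ∧
        (g : Equiv.Perm GolayPt) q = q ∧ (g : Equiv.Perm GolayPt) r = r) := by
    intro g
    rw [Subgroup.mem_inf, Subgroup.mem_inf, Subgroup.mem_inf, MulAction.mem_stabilizer_iff,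
      MulAction.mem_stabilizer_iff, MulAction.mem_stabilizer_iff, MulAction.mem_stabilizer_iff]
    constructor
    · rintro ⟨⟨⟨h1, h2⟩, h3⟩, h4⟩
      exact ⟨h1, h2, h3, h4⟩
    · rintro ⟨h1, h2, h3, h4⟩
      exact ⟨⟨⟨h1, h2⟩, h3⟩, h4⟩
  have hfwd : ∀ k : Equiv.Perm GolayPt, k ∈ K3 → (u * k * u⁻¹ ∈ M24 ∧
      ((u * k * u⁻¹) • d = d ∧ (u * k * u⁻¹) p = p ∧ (u * k * u⁻¹) q = q ∧
        (u * k * u⁻¹) r = r)) := by
    intro k hk
    rw [mem_K3_iff] at hk
    obtain ⟨k1, k2, k3, k4, k5⟩ := hk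
    refine ⟨M24.mul_mem (M24.mul_mem hu k1) (M24.inv_mem hu), ?_, ?_, ?_, ?_⟩
    · rw [mul_smul, mul_smul, ← hud, inv_smul_smul, k2]
    · rw [Equiv.Perm.mul_apply, Equiv.Perm.mul_apply, ← hup]; simp [k3]
    · rw [Equiv.Perm.mul_apply, Equiv.Perm.mul_apply, ← huq]; simp [k4]
    · rw [Equiv.Perm.mul_apply, Equiv.Perm.mul_apply, ← hur]; simp [k5]
  have hbwd : ∀ g : Equiv.Perm GolayPt, g ∈ M24 → g • d = d → g p = p → g q = q → g r = r →
      u⁻¹ * g * u ∈ K3 := by
    intro g hg h1 h2 h3 h4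
    rw [mem_K3_iff]
    refine ⟨M24.mul_mem (M24.mul_mem (M24.inv_mem hu) hg) hu, ?_, ?_, ?_, ?_⟩
    · rw [mul_smul, mul_smul, hud, h1, ← hud, inv_smul_smul]
    · rw [Equiv.Perm.mul_apply, Equiv.Perm.mul_apply, hup, h2, ← hup]; simp
    · rw [Equiv.Perm.mul_apply, Equiv.Perm.mul_apply, huq, h3, ← huq]; simp
    · rw [Equiv.Perm.mul_apply, Equiv.Perm.mul_apply, hur, h4, ← hur]; simp
  let φ : ↥K3 →* ↥(MulAction.stabilizer Cfsg.M24 d ⊓ MulAction.stabilizer Cfsg.M24 p ⊓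
      MulAction.stabilizer Cfsg.M24 q ⊓ MulAction.stabilizer Cfsg.M24 r) :=
    { toFun := fun k => ⟨⟨u * k.1 * u⁻¹, (hfwd k.1 k.2).1⟩,
        (hmemG ⟨u * k.1 * u⁻¹, (hfwd k.1 k.2).1⟩).2 (hfwd k.1 k.2).2⟩
      map_one' := by
        apply Subtype.ext
        apply Subtype.ext
        show u * 1 * u⁻¹ = 1
        group
      map_mul' := by
        intro a b
        apply Subtype.ext
        apply Subtype.ext
        show u * (a.1 * b.1) * u⁻¹ = (u * a.1 * u⁻¹) * (u * b.1 * u⁻¹)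
        group }
  have hbij : Function.Bijective φ := by
    constructor
    · intro a b hab
      have h2 : u * a.1 * u⁻¹ = u * b.1 * u⁻¹ := Subtype.ext_iff.1 (Subtype.ext_iff.1 hab)
      apply Subtype.ext
      have h3 : a.1 = u⁻¹ * (u * a.1 * u⁻¹) * u := by group
      rw [h3, h2]; group
    · intro g
      obtain ⟨g1, g2, g3, g4⟩ := (hmemG g.1).1 g.2
      refine ⟨⟨u⁻¹ * (g.1 : Equiv.Perm GolayPt) * u, hbwd _ g.1.2 g1 g2 g3 g4⟩, ?_⟩
      apply Subtype.ext
      apply Subtype.ext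
      show u * (u⁻¹ * (g.1 : Equiv.Perm GolayPt) * u) * u⁻¹ = g.1
      group
  obtain ⟨f1, f2, f3, f4⟩ := F3
  exact sylow_facts_72_of_equiv (MulEquiv.ofBijective φ hbij) card_K3 F1 F2 x0 y0 f1 f2 f3 f4

end Cfsg.Agent.S5619
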