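import Cfsg.Statements.S5620
import Cfsg.Agent.Lib.Helper93.Families

set_option autoImplicit false
open scoped Pointwise
open Cfsg

namespace Cfsg.Agent.S5620

open Cfsg.Agent.Lib.Helper93 Cfsg.Agent.Lib.Helper93.Golay

/-- an element of the code's group mapping the dodecad of squares to its complement and the
residue 0 to the extra point -/
def gC : ℕ := 177187268198822329181280064739429623
/-- an element of the dodecad stabiliser fixing the extra point and no point of the dodecad -/
def xC : ℕ := 983556445564600284892512837088392592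

theorem squareDodecad_eq : Spor.squareDodecad = fset 340831 := by
  unfold Spor.squareDodecad
  rw [qrWord_eq, support₂_wordOf]
  rfl

theorem gC_ok : (isAutC gC && Nat.beq (pmask gC 340831) (16777215 ^^^ 340831) &&
    Nat.beq (papp gC 0) 23) = true := by decide +kernel

/-- The fixed indices of the coded map `S` lie in the mask `m`. -/
def fixIn' (S m : ℕ) : Bool :=
  (List.range 24).all fun i => !(Nat.beq (papp S i) i) || m.testBit i

theorem xC_ok : (isAutC xC && Nat.beq (pmask xC 340831) 340831 && Nat.beq (papp xC 23) 23 &&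
    fixIn' xC 8388640) = true := by decide +kernel

theorem fix_of_fixIn' {S m : ℕ} (hS : isPerm S = true) (h : fixIn' S m = true) (p : GolayPt)
    (hp : permC S p = p) : m.testBit (ptIdx p) = true := by
  have h1 := ptIdx_permC hS p
  rw [hp] at h1
  have h2 := List.all_eq_true.1 h (ptIdx p) (List.mem_range.2 (ptIdx p).isLt)
  have h3 : Nat.beq (papp S (ptIdx p)) (ptIdx p) = true := by
    rw [← h1]
    exact Nat.beq_refl _
  rw [h3] at h2
  simpa using h2

theorem mem_M12_iff (x : Equiv.Perm GolayPt) :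
    x ∈ Spor.M12 ↔ x ∈ M24 ∧ x • Spor.squareDodecad = Spor.squareDodecad := by
  unfold Spor.M12
  rw [Subgroup.mem_inf]
  exact Iff.rfl

theorem mem_M11_iff (x : Equiv.Perm GolayPt) :
    x ∈ Spor.M11 ↔ x ∈ Spor.M12 ∧ x (some 0) = some 0 := by
  unfold Spor.M11
  rw [Subgroup.mem_inf]
  exact Iff.rfl

theorem mem_M12_none_iff (x : Equiv.Perm GolayPt) :
    x ∈ Spor.M12 ⊓ MulAction.stabilizer (Equiv.Perm GolayPt) (none : GolayPt) ↔
      x ∈ Spor.M12 ∧ x none = none := by
  rw [Subgroup.mem_inf]
  exact Iff.rfl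

theorem smul_compl (x : Equiv.Perm GolayPt) (s : Finset GolayPt) : x • sᶜ = (x • s)ᶜ := by
  ext p
  rw [Finset.mem_compl, Finset.mem_smul_finset, Finset.mem_smul_finset]
  constructor
  · rintro ⟨q, hq, rfl⟩ ⟨r, hr, hrq⟩
    rw [Finset.mem_compl] at hq
    exact hq (x.injective hrq ▸ hr)
  · intro h
    refine ⟨x⁻¹ p, ?_, by simp⟩
    rw [Finset.mem_compl]
    intro hmem
    exact h ⟨x⁻¹ p, hmem, by simp⟩

theorem conj_mem_iff (g x : Equiv.Perm GolayPt) (H : Subgroup (Equiv.Perm GolayPt)) :
    x ∈ MulAut.conj g • H ↔ g⁻¹ * x * g ∈ H := by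
  rw [Subgroup.mem_pointwise_smul_iff_inv_smul_mem, ← map_inv, MulAut.smul_def, MulAut.conj_apply,
    inv_inv]

/-- Inside the stabiliser of the dodecad of squares (a Mathieu group of degree 12), the stabiliser of the residue 0 (a point of the dodecad) and the stabiliser of the extra point (a point outside the dodecad) are isomorphic but not conjugate; conjugation by a suitable element of the code's group that maps the dodecad of squares onto its complement carries the first onto the second. -/
theorem result : Nonempty (↥(Cfsg.Spor.M12 ⊓ MulAction.stabilizer (Equiv.Perm Cfsg.GolayPt) (none : Cfsg.GolayPt)) ≃* ↥Cfsg.Spor.M11) ∧ (¬ ∃ k ∈ Cfsg.Spor.M12, MulAut.conj k • Cfsg.Spor.M11 = Cfsg.Spor.M12 ⊓ MulAction.stabilizer (Equiv.Perm Cfsg.GolayPt) (none : Cfsg.GolayPt)) ∧ ∃ g ∈ Cfsg.M24, g • Cfsg.Spor.squareDodecad = Finset.univ \ Cfsg.Spor.squareDodecad ∧ MulAut.conj g • Cfsg.Spor.M11 = Cfsg.Spor.M12 ⊓ MulAction.stabilizer (Equiv.Perm Cfsg.GolayPt) (none : Cfsg.GolayPt) := by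
  have hg := gC_ok
  simp only [Bool.and_eq_true] at hg
  obtain ⟨⟨hg1, hg2⟩, hg3⟩ := hg
  have hgP := isPerm_of_isAutC hg1
  have hgM : permC gC ∈ M24 := permC_mem_M24 hg1
  have hD24 : (340831 : ℕ) < 16777216 := by norm_num
  have hgD : permC gC • Spor.squareDodecad = Spor.squareDodecadᶜ := by
    rw [squareDodecad_eq, permC_smul_fset hgP hD24, Nat.eq_of_beq_eq_true hg2]
    apply fmask_injective
    rw [fmask_compl, fmask_fset' hD24, fmask_fset' (by decide)]
  have hg0 : permC gC (some 0) = none := by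
    have := permC_ptOf hgP 0 (by norm_num) 23 (by norm_num) (Nat.eq_of_beq_eq_true hg3)
    exact this
  have hconj : MulAut.conj (permC gC) • Spor.M11 =
      Spor.M12 ⊓ MulAction.stabilizer (Equiv.Perm GolayPt) (none : GolayPt) := by
    ext x
    rw [conj_mem_iff, mem_M11_iff, mem_M12_iff, mem_M12_none_iff, mem_M12_iff]
    constructor
    · rintro ⟨⟨h1, h2⟩, h3⟩
      have hxM : x ∈ M24 := by
        have := M24.mul_mem (M24.mul_mem hgM h1) (M24.inv_mem hgM)
        have e : permC gC * ((permC gC)⁻¹ * x * permC gC) * (permC gC)⁻¹ = x := by group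
        rwa [e] at this
      refine ⟨⟨hxM, ?_⟩, ?_⟩
      · -- x preserves the complement of D, hence D
        have h4 : x • (permC gC • Spor.squareDodecad) = permC gC • Spor.squareDodecad := by
          rw [mul_smul, mul_smul, inv_smul_eq_iff] at h2
          exact h2
        rw [hgD, smul_compl] at h4
        exact compl_injective h4
      · have h4 : ((permC gC)⁻¹ * x * permC gC) (some 0) = some 0 := h3
        rw [Equiv.Perm.mul_apply, Equiv.Perm.mul_apply, hg0, Equiv.Perm.inv_eq_iff_eq, hg0] at h4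
        exact h4
    · rintro ⟨⟨h1, h2⟩, h3⟩
      refine ⟨⟨M24.mul_mem (M24.mul_mem (M24.inv_mem hgM) h1) hgM, ?_⟩, ?_⟩
      · rw [mul_smul, mul_smul, inv_smul_eq_iff, hgD, smul_compl, h2]
      · show ((permC gC)⁻¹ * x * permC gC) (some 0) = some 0
        rw [Equiv.Perm.mul_apply, Equiv.Perm.mul_apply, hg0, h3, Equiv.Perm.inv_eq_iff_eq, hg0]
  refine ⟨?_, ?_, ?_⟩
  · exact ⟨((Subgroup.equivSMul (MulAut.conj (permC gC)) Spor.M11).trans
      (MulEquiv.subgroupCongr hconj)).symm⟩
  · rintro ⟨k, hk, hkc⟩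
    have hx := xC_ok
    simp only [Bool.and_eq_true] at hx
    obtain ⟨⟨⟨hx1, hx2⟩, hx3⟩, hx4⟩ := hx
    have hxP := isPerm_of_isAutC hx1
    have hxM12 : permC xC ∈ Spor.M12 := by
      rw [mem_M12_iff]
      refine ⟨permC_mem_M24 hx1, ?_⟩
      rw [squareDodecad_eq, permC_smul_fset hxP hD24, Nat.eq_of_beq_eq_true hx2]
    have hxnone : permC xC none = none :=
      permC_ptOf hxP 23 (by norm_num) 23 (by norm_num) (Nat.eq_of_beq_eq_true hx3)
    have hmem : permC xC ∈ MulAut.conj k • Spor.M11 := by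
      rw [hkc, mem_M12_none_iff]
      exact ⟨hxM12, hxnone⟩
    rw [conj_mem_iff, mem_M11_iff] at hmem
    have h3 : (k⁻¹ * permC xC * k) (some 0) = some 0 := hmem.2
    rw [Equiv.Perm.mul_apply, Equiv.Perm.mul_apply, Equiv.Perm.inv_eq_iff_eq] at h3
    -- x fixes q = k (some 0), a point of D
    have hfix := fix_of_fixIn' hxP hx4 _ h3
    have hqD : k (some 0) ∈ Spor.squareDodecad := by
      have hk2 := ((mem_M12_iff k).1 hk).2
      rw [← hk2, Finset.mem_smul_finset]
      refine ⟨some 0, ?_, rfl⟩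
      rw [squareDodecad_eq, mem_fset]
      decide
    rw [squareDodecad_eq, mem_fset] at hqD
    have : ∀ i : Fin 24, (8388640 : ℕ).testBit i = true → (340831 : ℕ).testBit i = true → False := by
      decide
    exact this _ hfix hqD
  · refine ⟨permC gC, hgM, ?_, hconj⟩
    rw [hgD]
    ext p
    simp

end Cfsg.Agent.S5620
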