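import Cfsg.Statements.S5625
import Cfsg.Agent.Lib.Helper93.Steiner

set_option autoImplicit false
open Cfsg

namespace Cfsg.Agent.S5625

/-- In any Steiner system S(5, 8, 24) and for any set Y of three points, the blocks meeting Y in exactly 3, 2, 1 and 0 points number 21, 168, 360 and 210 respectively (so there are 759 blocks in all). -/
theorem result (α : Type*) [Fintype α] [DecidableEq α] (hα : Fintype.card α = 24) (B : Set (Finset α)) (hB : Cfsg.IsSteinerSystem 5 8 B) (Y : Finset α) (hY : Y.card = 3) : {b : Finset α | b ∈ B ∧ (b ∩ Y).card = 3}.ncard = 21 ∧ {b : Finset α | b ∈ B ∧ (b ∩ Y).card = 2}.ncard = 168 ∧ {b : Finset α | b ∈ B ∧ (b ∩ Y).card = 1}.ncard = 360 ∧ {b : Finset α | b ∈ B ∧ (b ∩ Y).card = 0}.ncard = 210 := by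
  classical
  let Bf : Finset (Finset α) := Finset.univ.filter fun b => b ∈ B
  have hset : ∀ k : ℕ, {b : Finset α | b ∈ B ∧ (b ∩ Y).card = k} =
      ((Bf.filter fun b => (b ∩ Y).card = k : Finset (Finset α)) : Set (Finset α)) := by
    intro k; ext b; simp [Bf]
  simp only [hset, Set.ncard_coe_finset]
  -- the number of blocks through a subset X of Y
  have hlam : ∀ X : Finset α, X ⊆ Y → (Bf.filter (X ⊆ ·)).card * (8 - X.card).choose (5 - X.card) =
      (24 - X.card).choose (5 - X.card) := by
    intro X hX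
    have hX3 : X.card ≤ 3 := hY ▸ Finset.card_le_card hX
    have h := Cfsg.Agent.Lib.Helper93.steiner_card_containing 5 8 B hB X (by omega)
    rw [hα] at h
    have hs : {b | b ∈ B ∧ X ⊆ b} = ((Bf.filter (X ⊆ ·) : Finset (Finset α)) : Set (Finset α)) := by
      ext b; simp [Bf]
    rw [hs, Set.ncard_coe_finset] at h
    exact h
  have hlamj : ∀ j : ℕ, ∀ X ∈ Y.powersetCard j, (Bf.filter (X ⊆ ·)).card * (8 - j).choose (5 - j) =
      (24 - j).choose (5 - j) := by
    intro j X hX
    rw [Finset.mem_powersetCard] at hX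
    have := hlam X hX.1
    rw [hX.2] at this
    exact this
  have hmaps : ∀ b ∈ Bf, (b ∩ Y).card ∈ Finset.range 4 := by
    intro b _
    rw [Finset.mem_range]
    have : (b ∩ Y).card ≤ Y.card := Finset.card_le_card Finset.inter_subset_right
    omega
  have hsum : ∀ j : ℕ, ∑ k ∈ Finset.range 4, (Bf.filter fun b => (b ∩ Y).card = k).card * k.choose j =
      ∑ X ∈ Y.powersetCard j, (Bf.filter (X ⊆ ·)).card := by
    intro j
    rw [← Cfsg.Agent.Lib.Helper93.sum_choose_inter_eq,
      ← Finset.sum_fiberwise_of_maps_to hmaps (fun b => ((b ∩ Y).card).choose j)]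
    refine Finset.sum_congr rfl fun k _ => ?_
    rw [Finset.card_eq_sum_ones, Finset.sum_mul]
    refine Finset.sum_congr rfl fun b hb => ?_
    rw [(Finset.mem_filter.1 hb).2, one_mul]
  have h0 := hsum 0
  have h1 := hsum 1
  have h2 := hsum 2
  have h3 := hsum 3
  have e0 : ∑ X ∈ Y.powersetCard 0, (Bf.filter (X ⊆ ·)).card = 759 := by
    have : ∀ X ∈ Y.powersetCard 0, (Bf.filter (X ⊆ ·)).card = 759 := by
      intro X hX
      have := hlamj 0 X hX
      norm_num [Nat.choose] at this
      omega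
    rw [Finset.sum_congr rfl this, Finset.sum_const, Finset.card_powersetCard, hY]
    norm_num [Nat.choose]
  have e1 : ∑ X ∈ Y.powersetCard 1, (Bf.filter (X ⊆ ·)).card = 759 := by
    have : ∀ X ∈ Y.powersetCard 1, (Bf.filter (X ⊆ ·)).card = 253 := by
      intro X hX
      have := hlamj 1 X hX
      norm_num [Nat.choose] at this
      omega
    rw [Finset.sum_congr rfl this, Finset.sum_const, Finset.card_powersetCard, hY]
    norm_num [Nat.choose]
  have e2 : ∑ X ∈ Y.powersetCard 2, (Bf.filter (X ⊆ ·)).card = 231 := by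
    have : ∀ X ∈ Y.powersetCard 2, (Bf.filter (X ⊆ ·)).card = 77 := by
      intro X hX
      have := hlamj 2 X hX
      norm_num [Nat.choose] at this
      omega
    rw [Finset.sum_congr rfl this, Finset.sum_const, Finset.card_powersetCard, hY]
    norm_num [Nat.choose]
  have e3 : ∑ X ∈ Y.powersetCard 3, (Bf.filter (X ⊆ ·)).card = 21 := by
    have : ∀ X ∈ Y.powersetCard 3, (Bf.filter (X ⊆ ·)).card = 21 := by
      intro X hX
      have := hlamj 3 X hX
      norm_num [Nat.choose] at this
      omega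
    rw [Finset.sum_congr rfl this, Finset.sum_const, Finset.card_powersetCard, hY]
    norm_num [Nat.choose]
  rw [e0] at h0
  rw [e1] at h1
  rw [e2] at h2
  rw [e3] at h3
  simp only [Finset.sum_range_succ, Finset.sum_range_zero] at h0 h1 h2 h3
  generalize (Bf.filter fun b => (b ∩ Y).card = 0).card = n0 at h0 h1 h2 h3 ⊢
  generalize (Bf.filter fun b => (b ∩ Y).card = 1).card = n1 at h0 h1 h2 h3 ⊢
  generalize (Bf.filter fun b => (b ∩ Y).card = 2).card = n2 at h0 h1 h2 h3 ⊢
  generalize (Bf.filter fun b => (b ∩ Y).card = 3).card = n3 at h0 h1 h2 h3 ⊢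
  norm_num [Nat.choose] at h0 h1 h2 h3
  refine ⟨?_, ?_, ?_, ?_⟩ <;> omega

end Cfsg.Agent.S5625
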