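import Cfsg.Statements.S5632
import Cfsg.Agent.Lib.Helper93.Transvection

set_option autoImplicit false
open Cfsg

namespace Cfsg.Agent.S5632

open Cfsg.Agent.Lib.Helper93 Matrix

/-- For a finite field F and subspaces 0 < W < U of F^n with dim W + dim U = n, the elements of SL_n(F) stabilising both W and U form a subgroup that is not maximal in SL_n(F): some subgroup lies strictly between it and SL_n(F). -/
theorem result {F : Type*} [Field F] [Fintype F] (n : ℕ) (W U : Submodule F (Fin n → F)) (hW0 : W ≠ ⊥) (hWU : W < U) (hdim : Module.finrank F W + Module.finrank F U = n) : ∃ K : Subgroup (Matrix.GeneralLinearGroup (Fin n) F), Cfsg.Geo.subspaceStabilizer W ⊓ Cfsg.Geo.subspaceStabilizer U ⊓ Cfsg.Geo.specialLinear (Fin n) F < K ∧ K < Cfsg.Geo.specialLinear (Fin n) F := by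
  have hW1 : W ≠ ⊤ := by
    rintro rfl
    exact absurd hWU (not_lt_of_ge le_top)
  have hU1 : U ≠ ⊤ := by
    rintro rfl
    have h1 : Module.finrank F (⊤ : Submodule F (Fin n → F)) = n := by
      rw [finrank_top]; simp
    have h2 : 0 < Module.finrank F W := by
      rw [Module.finrank_pos_iff]
      obtain ⟨w, hwW, hw0⟩ := Submodule.exists_mem_ne_zero_of_ne_bot hW0
      exact ⟨⟨⟨w, hwW⟩, 0, fun h => hw0 (congrArg Subtype.val h)⟩⟩
    omega
  obtain ⟨u, huU, huW⟩ := SetLike.exists_of_lt hWU
  obtain ⟨v, hv⟩ : ∃ v : Fin n → F, v ∉ U := by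
    by_contra h
    exact hU1 (eq_top_iff.2 fun x _ => not_not.1 fun hx => h ⟨x, hx⟩)
  have huA : u ∉ W ⊔ Submodule.span F {v} := by
    intro h
    obtain ⟨w, hw, y, hy, rfl⟩ := Submodule.mem_sup.1 h
    obtain ⟨c, rfl⟩ := Submodule.mem_span_singleton.1 hy
    by_cases hc : c = 0
    · subst hc
      rw [zero_smul, add_zero] at huW
      exact huW hw
    · apply hv
      have : v = c⁻¹ • ((w + c • v) - w) := by
        rw [add_sub_cancel_left, smul_smul, inv_mul_cancel₀ hc, one_smul]
      rw [this]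
      exact U.smul_mem _ (U.sub_mem huU (hWU.le hw))
  obtain ⟨g, hgS, hgA, hgu⟩ := exists_transvection (W ⊔ Submodule.span F {v}) u v
    (Submodule.mem_sup_right (Submodule.mem_span_singleton_self v)) huA
  obtain ⟨g', hg'S, hg'W⟩ := exists_specialLinear_not_stab W hW0 hW1
  refine ⟨Cfsg.Geo.subspaceStabilizer W ⊓ Cfsg.Geo.specialLinear (Fin n) F, ?_, ?_⟩
  · refine lt_of_le_of_ne ?_ ?_
    · intro x hx
      exact ⟨hx.1.1, hx.2⟩
    · intro heq
      have hgK : g ∈ Cfsg.Geo.subspaceStabilizer W ⊓ Cfsg.Geo.specialLinear (Fin n) F :=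
        ⟨mem_subspaceStabilizer_of_fix W g (fun a ha => hgA a (Submodule.mem_sup_left ha)), hgS⟩
      rw [← heq] at hgK
      refine not_mem_subspaceStabilizer U g u huU ?_ hgK.1.2
      rw [hgu]
      intro h
      apply hv
      have : v = (u + v) - u := by abel
      rw [this]
      exact U.sub_mem h huU
  · refine lt_of_le_of_ne inf_le_right ?_
    intro heq
    have : g' ∈ Cfsg.Geo.subspaceStabilizer W ⊓ Cfsg.Geo.specialLinear (Fin n) F := by
      rw [heq]; exact hg'S
    exact hg'W this.1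

end Cfsg.Agent.S5632
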