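import Cfsg.Statements.S5648

set_option autoImplicit false
open Cfsg

namespace Cfsg.Agent.S5648

open scoped Matrix

set_option linter.unusedSectionVars false
set_option linter.unnecessarySimpa false

variable {F : Type*} [Field F] {m : ℕ}

/-- the bilinear map underlying `sympForm` -/
noncomputable def B (m : ℕ) (F : Type*) [Field F] :
    (Fin m ⊕ Fin m → F) →ₗ[F] (Fin m ⊕ Fin m → F) →ₗ[F] F :=
  Matrix.toLinearMap₂' F (Matrix.J (Fin m) F)

lemma B_apply (u v : Fin m ⊕ Fin m → F) : B m F u v = sympForm m F u v := by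
  unfold B sympForm
  rw [Matrix.toLinearMap₂'_apply']


lemma symp_eq (u v : Fin m ⊕ Fin m → F) : sympForm m F u v =
    ∑ x, (u (Sum.inr x) * v (Sum.inl x) - u (Sum.inl x) * v (Sum.inr x)) := by
  unfold sympForm
  simp only [Matrix.J, dotProduct, Matrix.mulVec, Fintype.sum_sum_type, Matrix.fromBlocks_apply₁₁,
    Matrix.fromBlocks_apply₁₂, Matrix.fromBlocks_apply₂₁, Matrix.fromBlocks_apply₂₂]
  simp [Matrix.one_apply, Finset.sum_ite_eq, Finset.sum_sub_distrib]
  ring

lemma symp_self (v : Fin m ⊕ Fin m → F) : sympForm m F v v = 0 := by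
  rw [symp_eq]
  apply Finset.sum_eq_zero
  intro x _
  ring

lemma symp_skew (u v : Fin m ⊕ Fin m → F) : sympForm m F u v = - sympForm m F v u := by
  rw [symp_eq, symp_eq, ← Finset.sum_neg_distrib]
  apply Finset.sum_congr rfl
  intro x _
  ring

lemma transv_mulVec (v x : Fin m ⊕ Fin m → F) (c : F) :
    sympTransvection m v c *ᵥ x = x + (c * sympForm m F x v) • v := by
  unfold sympTransvection sympForm
  rw [Matrix.add_mulVec, Matrix.one_mulVec, Matrix.smul_mulVec, Matrix.vecMulVec_mulVec,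
    dotProduct_comm x]
  simp [mul_smul]

lemma transv_mul (v : Fin m ⊕ Fin m → F) (c d : F) :
    sympTransvection m v c * sympTransvection m v d = sympTransvection m v (c + d) := by
  unfold sympTransvection
  have h : Matrix.vecMulVec v (Matrix.J (Fin m) F *ᵥ v) * Matrix.vecMulVec v (Matrix.J (Fin m) F *ᵥ v) = 0 := by
    rw [Matrix.vecMulVec_mul_vecMulVec, dotProduct_comm]
    have := symp_self (F := F) v
    unfold sympForm at this
    rw [this]
    simp
  rw [mul_add, add_mul, add_mul, one_mul, mul_one, one_mul, Matrix.smul_mul, Matrix.mul_smul, h]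
  simp [add_smul]
  abel

lemma transv_zero (v : Fin m ⊕ Fin m → F) : sympTransvection m v (0 : F) = 1 := by
  unfold sympTransvection
  simp

/-- the transvection as an invertible matrix -/
noncomputable def tGL (v : Fin m ⊕ Fin m → F) (c : F) : Matrix.GeneralLinearGroup (Fin m ⊕ Fin m) F :=
  ⟨sympTransvection m v c, sympTransvection m v (-c),
    by rw [transv_mul, add_neg_cancel, transv_zero],
    by rw [transv_mul, neg_add_cancel, transv_zero]⟩

lemma tGL_mulVec (v x : Fin m ⊕ Fin m → F) (c : F) :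
    (tGL v c : Matrix _ _ F) *ᵥ x = x + (c * sympForm m F x v) • v := transv_mulVec v x c

lemma symp_add_left (u u' v : Fin m ⊕ Fin m → F) :
    sympForm m F (u + u') v = sympForm m F u v + sympForm m F u' v := by
  simp only [symp_eq, ← Finset.sum_add_distrib, Pi.add_apply]
  apply Finset.sum_congr rfl; intro x _; ring

lemma symp_add_right (u v v' : Fin m ⊕ Fin m → F) :
    sympForm m F u (v + v') = sympForm m F u v + sympForm m F u v' := by
  simp only [symp_eq, ← Finset.sum_add_distrib, Pi.add_apply]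
  apply Finset.sum_congr rfl; intro x _; ring

lemma symp_smul_left (c : F) (u v : Fin m ⊕ Fin m → F) :
    sympForm m F (c • u) v = c * sympForm m F u v := by
  simp only [symp_eq, Finset.mul_sum, Pi.smul_apply, smul_eq_mul]
  apply Finset.sum_congr rfl; intro x _; ring

lemma symp_smul_right (c : F) (u v : Fin m ⊕ Fin m → F) :
    sympForm m F u (c • v) = c * sympForm m F u v := by
  simp only [symp_eq, Finset.mul_sum, Pi.smul_apply, smul_eq_mul]
  apply Finset.sum_congr rfl; intro x _; ring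

lemma mem_spGL (g : Matrix.GeneralLinearGroup (Fin m ⊕ Fin m) F) : g ∈ spGL m F ↔
    ∀ u v, sympForm m F ((g : Matrix _ _ F) *ᵥ u) ((g : Matrix _ _ F) *ᵥ v) = sympForm m F u v :=
  Iff.rfl

lemma tGL_mem_spGL (v : Fin m ⊕ Fin m → F) (c : F) : tGL v c ∈ spGL m F := by
  rw [mem_spGL]
  intro x y
  rw [tGL_mulVec, tGL_mulVec]
  simp only [symp_add_left, symp_add_right, symp_smul_left, symp_smul_right, symp_self]
  rw [symp_skew v y]
  ring
variable [Fintype F]

lemma elt01 (hq : Fintype.card F = 2) (a : F) : a = 0 ∨ a = 1 := by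
  classical
  by_contra hcon
  push_neg at hcon
  have h3 : ({0, 1, a} : Finset F).card = 3 := by
    rw [Finset.card_insert_of_notMem, Finset.card_insert_of_notMem, Finset.card_singleton]
    · simpa using hcon.2.symm
    · simp only [Finset.mem_insert, Finset.mem_singleton, not_or]
      exact ⟨zero_ne_one, hcon.1.symm⟩
  have := Finset.card_le_univ ({0, 1, a} : Finset F)
  omega

lemma two_eq_zero' (hq : Fintype.card F = 2) : (2 : F) = 0 := by
  rcases elt01 hq (2 : F) with h | h
  · exact h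
  · exfalso
    have : (1 : F) + 1 = 1 := by rw [one_add_one_eq_two]; exact h
    have : (1 : F) = 0 := by simpa using this
    exact one_ne_zero this

lemma add_self_zero {V : Type*} [AddCommGroup V] [Module F V] (hq : Fintype.card F = 2) (v : V) : v + v = 0 := by
  rw [← two_smul F v, two_eq_zero' hq, zero_smul]

lemma symp_zero_left (v : Fin m ⊕ Fin m → F) : sympForm m F 0 v = 0 := by
  have := symp_smul_left (0 : F) v v
  simpa using this

lemma symp_zero_right (v : Fin m ⊕ Fin m → F) : sympForm m F v 0 = 0 := by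
  have := symp_smul_right (0 : F) v v
  simpa using this

/-- indicator of being nonzero -/
noncomputable def chi (v : Fin m ⊕ Fin m → F) : F := by
  classical
  exact if v = 0 then 0 else 1

lemma chi_zero : chi (0 : Fin m ⊕ Fin m → F) = 0 := by simp [chi]
lemma chi_ne {v : Fin m ⊕ Fin m → F} (hv : v ≠ 0) : chi v = 1 := by simp [chi, hv]

lemma form_one (hq : Fintype.card F = 2) (W : Submodule F (Fin m ⊕ Fin m → F))
    (hdim : Module.finrank F W = 2) (hnd : Geo.IsNondegenerateOn (sympForm m F) W)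
    {u w : Fin m ⊕ Fin m → F} (hu : u ∈ W) (hw : w ∈ W) (hu0 : u ≠ 0) (hw0 : w ≠ 0) (huw : u ≠ w) :
    sympForm m F u w = 1 := by
  rcases elt01 hq (sympForm m F u w) with h0 | h1
  · exfalso
    have hli : LinearIndependent F ![u, w] := by
      rw [LinearIndependent.pair_iff]
      intro a b hab
      rcases elt01 hq a with rfl | rfl <;> rcases elt01 hq b with rfl | rfl
      · exact ⟨rfl, rfl⟩
      · simp at hab; exact absurd hab hw0
      · simp at hab; exact absurd hab hu0
      · exfalso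
        simp only [one_smul] at hab
        have h2 := add_self_zero hq w
        have : u = w := by
          have : u + w = w + w := by rw [hab, h2]
          exact add_right_cancel this
        exact huw this
    have hspan : Submodule.span F (Set.range ![u, w]) = W := by
      apply Submodule.eq_of_le_of_finrank_eq
      · rw [Submodule.span_le]
        rintro x ⟨i, rfl⟩
        fin_cases i
        · exact hu
        · exact hw
      · rw [finrank_span_eq_card hli, hdim]; simp
    obtain ⟨⟨x, hxW, hx⟩, _⟩ := hnd w hw hw0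
    rw [← hspan] at hxW
    have hr : Set.range ![u, w] = {u, w} := by
      ext z; simp [eq_comm, or_comm]
    rw [hr, Submodule.mem_span_pair] at hxW
    obtain ⟨a, b, rfl⟩ := hxW
    apply hx
    rw [symp_add_left, symp_smul_left, symp_smul_left, h0, symp_self]
    simp
  · exact h1

lemma local_id (hq : Fintype.card F = 2) (W : Submodule F (Fin m ⊕ Fin m → F))
    (hdim : Module.finrank F W = 2) (hnd : Geo.IsNondegenerateOn (sympForm m F) W)
    {u w : Fin m ⊕ Fin m → F} (hu : u ∈ W) (hw : w ∈ W) :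
    chi (u + w) = chi u + chi w + sympForm m F u w := by
  by_cases hu0 : u = 0
  · subst hu0; simp [chi_zero, symp_zero_left]
  by_cases hw0 : w = 0
  · subst hw0; simp [chi_zero, symp_zero_right]
  by_cases huw : u = w
  · subst huw
    rw [add_self_zero hq, chi_zero, chi_ne hu0, symp_self, add_zero, one_add_one_eq_two, two_eq_zero' hq]
  · have hne : u + w ≠ 0 := by
      intro h
      apply huw
      have : u + w = w + w := by rw [h, add_self_zero hq]
      exact add_right_cancel this
    rw [chi_ne hne, chi_ne hu0, chi_ne hw0, form_one hq W hdim hnd hu hw hu0 hw0 huw,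
      one_add_one_eq_two, two_eq_zero' hq, zero_add]

set_option linter.style.haveILetI false
set_option linter.unusedSectionVars false

section decomp
variable {t : ℕ}

/-- component maps of an internal direct sum -/
noncomputable def compL (D : Fin t → Submodule F (Fin m ⊕ Fin m → F)) (h : DirectSum.IsInternal D) (i : Fin t) :
    (Fin m ⊕ Fin m → F) →ₗ[F] (Fin m ⊕ Fin m → F) :=
  letI := h.chooseDecomposition
  (D i).subtype ∘ₗ (DirectSum.component F (Fin t) (fun i => D i) i) ∘ₗ
    (DirectSum.decomposeLinearEquiv D).toLinearMap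

variable (D : Fin t → Submodule F (Fin m ⊕ Fin m → F)) (h : DirectSum.IsInternal D)

lemma compL_eq (i : Fin t) (v : Fin m ⊕ Fin m → F) :
    compL D h i v = ((@DirectSum.decompose _ _ _ _ _ _ _ D h.chooseDecomposition v) i : Fin m ⊕ Fin m → F) := rfl

lemma compL_mem (i : Fin t) (v : Fin m ⊕ Fin m → F) : compL D h i v ∈ D i := by
  rw [compL_eq]; exact Subtype.property _

lemma compL_same {i : Fin t} {v : Fin m ⊕ Fin m → F} (hv : v ∈ D i) : compL D h i v = v := by
  letI := h.chooseDecomposition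
  rw [compL_eq]
  exact DirectSum.decompose_of_mem_same D hv

lemma compL_ne {i j : Fin t} {v : Fin m ⊕ Fin m → F} (hv : v ∈ D i) (hij : i ≠ j) : compL D h j v = 0 := by
  letI := h.chooseDecomposition
  rw [compL_eq]
  exact DirectSum.decompose_of_mem_ne D hv hij

lemma compL_sum (w : Fin t → (Fin m ⊕ Fin m → F)) (hw : ∀ i, w i ∈ D i) (j : Fin t) :
    compL D h j (∑ i, w i) = w j := by
  rw [map_sum]
  rw [Finset.sum_eq_single j]
  · exact compL_same D h (hw j)
  · intro i _ hij
    exact compL_ne D h (hw i) hij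
  · intro hj; exact absurd (Finset.mem_univ j) hj

lemma sum_compL (v : Fin m ⊕ Fin m → F) : ∑ i, compL D h i v = v := by
  letI := h.chooseDecomposition
  classical
  have := DirectSum.sum_support_decompose D v
  conv_rhs => rw [← this]
  symm
  apply Finset.sum_subset (Finset.subset_univ _)
  intro i _ hi
  simp only [DFinsupp.mem_support_toFun, ne_eq, not_not] at hi
  simp [hi]

/-- the quadratic form -/
noncomputable def Q (v : Fin m ⊕ Fin m → F) : F := ∑ i, chi (compL D h i v)

lemma symp_decomp (horth : ∀ i j, i ≠ j → Geo.AreOrthogonalFor (sympForm m F) (D i) (D j))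
    (x y : Fin m ⊕ Fin m → F) :
    sympForm m F x y = ∑ i, sympForm m F (compL D h i x) (compL D h i y) := by
  have hx := sum_compL D h x
  have hy := sum_compL D h y
  have h1 : sympForm m F x y = ∑ i, B m F (compL D h i x) y := by
    rw [← B_apply, ← LinearMap.sum_apply, ← map_sum, hx]
  rw [h1]
  apply Finset.sum_congr rfl
  intro i _
  have h2 : B m F (compL D h i x) y = ∑ j, B m F (compL D h i x) (compL D h j y) := by
    rw [← map_sum, hy]
  rw [h2, Finset.sum_eq_single i]
  · rw [B_apply]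
  · intro j _ hji
    rw [B_apply]
    exact horth i j (Ne.symm hji) _ (compL_mem D h i x) _ (compL_mem D h j y)
  · intro hi; exact absurd (Finset.mem_univ i) hi

lemma Q_add (hq : Fintype.card F = 2) (hD : Geo.IsNondegenerateMDecomposition (sympForm m F) 2 D)
    (x y : Fin m ⊕ Fin m → F) :
    Q D h (x + y) = Q D h x + Q D h y + sympForm m F x y := by
  rw [symp_decomp D h hD.orthogonal x y]
  unfold Q
  rw [← Finset.sum_add_distrib, ← Finset.sum_add_distrib]
  apply Finset.sum_congr rfl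
  intro i _
  rw [map_add]
  exact local_id hq (D i) (hD.decomp.finrank_eq i) (hD.nondegenerate i) (compL_mem D h i x) (compL_mem D h i y)

end decomp

section main
variable {t : ℕ} (D : Fin t → Submodule F (Fin m ⊕ Fin m → F)) (h : DirectSum.IsInternal D)

lemma Q_of_mem {i : Fin t} {a : Fin m ⊕ Fin m → F} (ha : a ∈ D i) : Q D h a = chi a := by
  unfold Q
  rw [Finset.sum_eq_single i]
  · rw [compL_same D h ha]
  · intro j _ hji
    rw [compL_ne D h ha (Ne.symm hji), chi_zero]
  · intro hi; exact absurd (Finset.mem_univ i) hi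

lemma mem_isom (g : Matrix.GeneralLinearGroup (Fin m ⊕ Fin m) F) (q : (Fin m ⊕ Fin m → F) → F) :
    g ∈ isometryGroup F q ↔ ∀ u, q ((g : Matrix (Fin m ⊕ Fin m) (Fin m ⊕ Fin m) F) *ᵥ u) = q u := by
  constructor
  · intro hg u; exact hg u u
  · intro hg u _; exact hg u

lemma mem_decStab (g : Matrix.GeneralLinearGroup (Fin m ⊕ Fin m) F) :
    g ∈ Geo.decompositionStabilizer D ↔
      ∃ σ : Equiv.Perm (Fin t), ∀ i, (D i).map (Matrix.toLin' (g : Matrix (Fin m ⊕ Fin m) (Fin m ⊕ Fin m) F)) = D (σ i) := Iff.rfl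

lemma mulVec_ne_zero (g : Matrix.GeneralLinearGroup (Fin m ⊕ Fin m) F) {v : Fin m ⊕ Fin m → F}
    (hv : v ≠ 0) : (g : Matrix (Fin m ⊕ Fin m) (Fin m ⊕ Fin m) F) *ᵥ v ≠ 0 := by
  intro h0
  apply hv
  have : ((g⁻¹ : Matrix.GeneralLinearGroup (Fin m ⊕ Fin m) F) : Matrix (Fin m ⊕ Fin m) (Fin m ⊕ Fin m) F) *ᵥ ((g : Matrix (Fin m ⊕ Fin m) (Fin m ⊕ Fin m) F) *ᵥ v) = 0 := by
    rw [h0, Matrix.mulVec_zero]
  rwa [Matrix.mulVec_mulVec, ← Units.val_mul, inv_mul_cancel, Units.val_one, Matrix.one_mulVec] at this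

lemma chi_mulVec (g : Matrix.GeneralLinearGroup (Fin m ⊕ Fin m) F) (v : Fin m ⊕ Fin m → F) :
    chi ((g : Matrix (Fin m ⊕ Fin m) (Fin m ⊕ Fin m) F) *ᵥ v) = chi v := by
  by_cases hv : v = 0
  · subst hv; rw [Matrix.mulVec_zero]
  · rw [chi_ne hv, chi_ne (mulVec_ne_zero g hv)]

lemma Q_stab (g : Matrix.GeneralLinearGroup (Fin m ⊕ Fin m) F) (hg : g ∈ Geo.decompositionStabilizer D)
    (v : Fin m ⊕ Fin m → F) : Q D h ((g : Matrix (Fin m ⊕ Fin m) (Fin m ⊕ Fin m) F) *ᵥ v) = Q D h v := by
  obtain ⟨σ, hσ⟩ := (mem_decStab D g).1 hg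
  have hmem : ∀ j, (g : Matrix (Fin m ⊕ Fin m) (Fin m ⊕ Fin m) F) *ᵥ (compL D h (σ.symm j) v) ∈ D j := by
    intro j
    have := hσ (σ.symm j)
    rw [Equiv.apply_symm_apply] at this
    rw [← this, ← Matrix.toLin'_apply]
    exact Submodule.mem_map_of_mem (compL_mem D h _ v)
  have hsum : (g : Matrix (Fin m ⊕ Fin m) (Fin m ⊕ Fin m) F) *ᵥ v = ∑ j, (g : Matrix (Fin m ⊕ Fin m) (Fin m ⊕ Fin m) F) *ᵥ (compL D h (σ.symm j) v) := by
    rw [Equiv.sum_comp σ.symm (fun i => (g : Matrix (Fin m ⊕ Fin m) (Fin m ⊕ Fin m) F) *ᵥ (compL D h i v))]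
    conv_lhs => rw [← sum_compL D h v]
    simp only [← Matrix.toLin'_apply, map_sum]
  unfold Q
  rw [← Equiv.sum_comp σ.symm (fun i => chi (compL D h i v))]
  apply Finset.sum_congr rfl
  intro j _
  rw [hsum, compL_sum D h _ hmem j, chi_mulVec]

lemma Q_transv (hq : Fintype.card F = 2) (hD : Geo.IsNondegenerateMDecomposition (sympForm m F) 2 D)
    (v : Fin m ⊕ Fin m → F) (hQv : Q D h v = 1) (x : Fin m ⊕ Fin m → F) :
    Q D h ((tGL v 1 : Matrix (Fin m ⊕ Fin m) (Fin m ⊕ Fin m) F) *ᵥ x) = Q D h x := by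
  rw [tGL_mulVec, one_mul]
  rcases elt01 hq (sympForm m F x v) with h0 | h1
  · rw [h0, zero_smul, add_zero]
  · rw [h1, one_smul, Q_add D h hq hD, hQv, h1, add_assoc, one_add_one_eq_two, two_eq_zero' hq, add_zero]

lemma exists_ne_zero (hD : Geo.IsNondegenerateMDecomposition (sympForm m F) 2 D) (i : Fin t) :
    ∃ a ∈ D i, a ≠ 0 := by
  have hfr := hD.decomp.finrank_eq i
  have hne : D i ≠ ⊥ := by
    intro hbot
    rw [hbot, finrank_bot] at hfr
    omega
  exact Submodule.exists_mem_ne_zero_of_ne_bot hne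

lemma card_index (h' : DirectSum.IsInternal D)
    (hD : Geo.IsNondegenerateMDecomposition (sympForm m F) 2 D) : 2 * t = 2 * m := by
  have e := LinearEquiv.ofBijective (DirectSum.coeLinearMap D) h'
  have h1 := e.finrank_eq
  rw [Module.finrank_directSum] at h1
  simp only [hD.decomp.finrank_eq, Finset.sum_const, Finset.card_univ, Fintype.card_fin, smul_eq_mul] at h1
  rw [Module.finrank_fintype_fun_eq_card] at h1
  simp at h1
  omega

end main

theorem result {F : Type*} [Field F] [Fintype F] (m : ℕ) (hm : 7 ≤ m) (hq : Fintype.card F = 2) {t : ℕ} (D : Fin t → Submodule F (Fin m ⊕ Fin m → F)) (hD : Cfsg.Geo.IsNondegenerateMDecomposition (Cfsg.sympForm m F) 2 D) : ∃ K : Subgroup (Matrix.GeneralLinearGroup (Fin m ⊕ Fin m) F), Cfsg.Geo.decompositionStabilizer D ⊓ Cfsg.spGL m F < K ∧ K < Cfsg.spGL m F := by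
  have h : DirectSum.IsInternal D :=
    DirectSum.isInternal_submodule_of_iSupIndep_of_iSup_eq_top hD.decomp.indep hD.decomp.iSup_eq_top
  have htm := card_index D h hD
  have ht3 : 3 ≤ t := by omega
  set i0 : Fin t := ⟨0, by omega⟩ with hi0
  set i1 : Fin t := ⟨1, by omega⟩ with hi1
  set i2 : Fin t := ⟨2, by omega⟩ with hi2
  have h01 : i0 ≠ i1 := by simp [hi0, hi1, Fin.ext_iff]
  have h02 : i0 ≠ i2 := by simp [hi0, hi2, Fin.ext_iff]
  have h12 : i1 ≠ i2 := by simp [hi1, hi2, Fin.ext_iff]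
  obtain ⟨a0, ha0, ha0n⟩ := exists_ne_zero D hD i0
  obtain ⟨a1, ha1, ha1n⟩ := exists_ne_zero D hD i1
  obtain ⟨a2, ha2, ha2n⟩ := exists_ne_zero D hD i2
  obtain ⟨⟨x0, hx0, hx0f⟩, _⟩ := hD.nondegenerate i0 a0 ha0 ha0n
  have hx0a0 : sympForm m F x0 a0 = 1 := by
    rcases elt01 hq (sympForm m F x0 a0) with h' | h'
    · exact absurd h' hx0f
    · exact h'
  have hx0n : x0 ≠ 0 := by
    intro h0; rw [h0, symp_zero_left] at hx0a0; exact zero_ne_one hx0a0
  have hx0a1 : sympForm m F x0 a1 = 0 := hD.orthogonal i0 i1 h01 x0 hx0 a1 ha1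
  have hx0a2 : sympForm m F x0 a2 = 0 := hD.orthogonal i0 i2 h02 x0 hx0 a2 ha2
  have ha0a1 : sympForm m F a0 a1 = 0 := hD.orthogonal i0 i1 h01 a0 ha0 a1 ha1
  have ha0a2 : sympForm m F a0 a2 = 0 := hD.orthogonal i0 i2 h02 a0 ha0 a2 ha2
  have ha1a2 : sympForm m F a1 a2 = 0 := hD.orthogonal i1 i2 h12 a1 ha1 a2 ha2
  have hQa0 : Q D h a0 = 1 := by rw [Q_of_mem D h ha0, chi_ne ha0n]
  have hQa1 : Q D h a1 = 1 := by rw [Q_of_mem D h ha1, chi_ne ha1n]
  have hQa2 : Q D h a2 = 1 := by rw [Q_of_mem D h ha2, chi_ne ha2n]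
  have hQx0 : Q D h x0 = 1 := by rw [Q_of_mem D h hx0, chi_ne hx0n]
  have h2 : (1 : F) + 1 = 0 := by rw [one_add_one_eq_two, two_eq_zero' hq]
  have hQ01 : Q D h (a0 + a1) = 0 := by
    rw [Q_add D h hq hD, hQa0, hQa1, ha0a1, add_zero, h2]
  have hQ012 : Q D h (a0 + a1 + a2) = 1 := by
    rw [Q_add D h hq hD, hQ01, hQa2, symp_add_left, ha0a2, ha1a2]; simp
  refine ⟨isometryGroup F (Q D h) ⊓ spGL m F, ?_, ?_⟩
  · rw [SetLike.lt_iff_le_and_exists]
    refine ⟨?_, tGL (a0 + a1 + a2) 1, ?_, ?_⟩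
    · intro g hg
      rw [Subgroup.mem_inf] at hg ⊢
      refine ⟨?_, hg.2⟩
      rw [mem_isom]
      intro u
      exact Q_stab D h g hg.1 u
    · rw [Subgroup.mem_inf]
      refine ⟨?_, tGL_mem_spGL _ _⟩
      rw [mem_isom]
      intro u
      exact Q_transv D h hq hD _ hQ012 u
    · intro hmem
      rw [Subgroup.mem_inf] at hmem
      obtain ⟨σ, hσ⟩ := (mem_decStab D _).1 hmem.1
      have hy : (tGL (a0 + a1 + a2) (1 : F) : Matrix (Fin m ⊕ Fin m) (Fin m ⊕ Fin m) F) *ᵥ x0 ∈ D (σ i0) := by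
        rw [← hσ i0, ← Matrix.toLin'_apply]
        exact Submodule.mem_map_of_mem hx0
      rw [tGL_mulVec, one_mul, symp_add_right, symp_add_right, hx0a0, hx0a1, hx0a2, add_zero, add_zero,
        one_smul] at hy
      have hc1 : compL D h i1 (x0 + (a0 + a1 + a2)) = a1 := by
        simp only [map_add]
        rw [compL_ne D h hx0 h01, compL_ne D h ha0 h01, compL_same D h ha1, compL_ne D h ha2 (Ne.symm h12)]
        simp
      have hc2 : compL D h i2 (x0 + (a0 + a1 + a2)) = a2 := by
        simp only [map_add]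
        rw [compL_ne D h hx0 h02, compL_ne D h ha0 h02, compL_ne D h ha1 h12, compL_same D h ha2]
        simp
      have e1 : σ i0 = i1 := by
        by_contra hne
        rw [compL_ne D h hy hne] at hc1
        exact ha1n hc1.symm
      have e2 : σ i0 = i2 := by
        by_contra hne
        rw [compL_ne D h hy hne] at hc2
        exact ha2n hc2.symm
      exact h12 (e1.symm.trans e2)
  · rw [SetLike.lt_iff_le_and_exists]
    refine ⟨inf_le_right, tGL (a0 + a1) 1, tGL_mem_spGL _ _, ?_⟩
    intro hmem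
    rw [Subgroup.mem_inf] at hmem
    have := (mem_isom _ _).1 hmem.1 x0
    rw [tGL_mulVec, one_mul, symp_add_right, hx0a0, hx0a1, add_zero, one_smul, Q_add D h hq hD, hQx0, hQ01,
      symp_add_right, hx0a0, hx0a1] at this
    simp [h2] at this

end Cfsg.Agent.S5648
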