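import Cfsg.Statements.S5643
import Cfsg.Agent.Lib.Helper94.UMax

set_option autoImplicit false
open Cfsg

namespace Cfsg.Agent.S5643

/-- For a finite field F and n ≥ 13, let σ be a field automorphism of F of order two and f a non-degenerate unitary form on F^n with respect to σ. Then the elements of SL_n(F) that are similarities of f form a maximal subgroup of SL_n(F). -/
theorem result {F : Type*} [Field F] [Fintype F] (n : ℕ) (hn : 13 ≤ n) (σ : F ≃+* F) (f : (Fin n → F) → (Fin n → F) → F) (hf : Cfsg.Geo.IsUnitaryForm σ f) : Cfsg.Geo.IsMaximalIn (Cfsg.Geo.specialLinear (Fin n) F) (Cfsg.Geo.similarityGroup f ⊓ Cfsg.Geo.specialLinear (Fin n) F) := by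
  open Cfsg.Agent.Lib.Helper94 in
  haveI : Nontrivial (Fin n) := Fin.nontrivial_iff_two_le.2 (by omega)
  have hcard : 6 < Fintype.card (Fin n) := by rw [Fintype.card_fin]; omega
  refine ⟨?_, ?_⟩
  · refine lt_of_le_of_ne inf_le_right ?_
    intro heq
    obtain ⟨g, hg1, hg2⟩ := exists_SL_not_sim hf hcard
    rw [← heq] at hg1
    exact hg2 hg1.1
  · intro K hMK hKS
    by_cases hK : K ≤ Cfsg.Geo.similarityGroup f ⊓ Cfsg.Geo.specialLinear (Fin n) F
    · left
      exact le_antisymm hK hMK
    · right
      obtain ⟨h, hhK, hnot⟩ := SetLike.not_le_iff_exists.1 hK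
      have hns : h ∉ Cfsg.Geo.similarityGroup f := fun hs => hnot ⟨hs, hKS hhK⟩
      have hct := contains_trans_of_notMem hf K hMK hcard h hhK hns
      exact le_antisymm hKS (SL_le_of_containsTransvections K hct)

end Cfsg.Agent.S5643
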