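import Cfsg.Statements.S5644
import Cfsg.Agent.Lib.Helper94.OMax2b

set_option autoImplicit false
open Cfsg

namespace Cfsg.Agent.S5644

/-- For a finite field F of odd order and n ≥ 13, let Q be a non-degenerate quadratic form on F^n (its polar form is non-degenerate). Then the elements of SL_n(F) that are similarities of Q (Q(gv) = c Q(v) for a non-zero scalar c depending on g) form a maximal subgroup of SL_n(F). -/
theorem result {F : Type*} [Field F] [Fintype F] (n : ℕ) (hn : 13 ≤ n) (hodd : Odd (Fintype.card F)) (Q : (Fin n → F) → F) (hQ : Cfsg.Geo.IsNondegenerateQuadraticForm Q) : Cfsg.Geo.IsMaximalIn (Cfsg.Geo.specialLinear (Fin n) F) (Cfsg.Geo.quadSimilarityGroup Q ⊓ Cfsg.Geo.specialLinear (Fin n) F) := by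
  open Cfsg.Agent.Lib.Helper94 in
  haveI : Nontrivial (Fin n) := Fin.nontrivial_iff_two_le.2 (by omega)
  have hcard : 12 < Fintype.card (Fin n) := by rw [Fintype.card_fin]; omega
  have h2 : (2 : F) ≠ 0 := by
    intro h0
    have hchar : ringChar F = 2 := CharP.ringChar_of_prime_eq_zero Nat.prime_two (by exact_mod_cast h0)
    have := FiniteField.even_card_of_char_two hchar
    rcases hodd with ⟨k, hk⟩
    omega
  refine ⟨?_, ?_⟩
  · refine lt_of_le_of_ne inf_le_right ?_
    intro heq
    obtain ⟨g, hg1, hg2⟩ := exists_SL_not_qsim hQ h2 (by omega : 8 < Fintype.card (Fin n))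
    rw [← heq] at hg1
    exact hg2 hg1.1
  · intro K hMK hKS
    by_cases hK : K ≤ Cfsg.Geo.quadSimilarityGroup Q ⊓ Cfsg.Geo.specialLinear (Fin n) F
    · left
      exact le_antisymm hK hMK
    · right
      obtain ⟨h, hhK, hnot⟩ := SetLike.not_le_iff_exists.1 hK
      have hns : h ∉ Cfsg.Geo.quadSimilarityGroup Q := fun hs => hnot ⟨hs, hKS hhK⟩
      have hct := ocontains_trans_of_notMem hQ h2 K hMK hcard h hhK hns
      exact le_antisymm hKS (SL_le_of_containsTransvections K hct)

end Cfsg.Agent.S5644
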