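import Cfsg.Statements.S5652
import Cfsg.Agent.Lib.Helper94.OQMax2

set_option autoImplicit false
open Cfsg

namespace Cfsg.Agent.S5652

/-- For a finite field F of characteristic two and m ≥ 7, let Q be a non-degenerate quadratic form on F^(2m) whose polar form is the standard alternating form. Then the elements of Sp_2m(F) that are similarities of Q (they are exactly the isometries of Q) form a maximal subgroup of Sp_2m(F). -/
theorem result {F : Type*} [Field F] [Fintype F] (m : ℕ) (hm : 7 ≤ m) (heven : ¬ Odd (Fintype.card F)) (Q : (Fin m ⊕ Fin m → F) → F) (hQ : Cfsg.Geo.IsNondegenerateQuadraticForm Q) (hpol : ∀ u v, QuadraticMap.polar Q u v = Cfsg.sympForm m F u v) : Cfsg.Geo.IsMaximalIn (Cfsg.spGL m F) (Cfsg.Geo.quadSimilarityGroup Q ⊓ Cfsg.spGL m F) := by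
  open Cfsg.Agent.Lib.Helper94 in
  classical
  have h2 : (2 : F) = 0 := by
    have h1 : ringChar F = 2 := by
      by_contra hne
      exact heven (Nat.odd_iff.2 (FiniteField.odd_card_of_char_ne_two hne))
    haveI : CharP F 2 := ringChar.of_eq h1
    exact CharTwo.two_eq_zero
  refine ⟨?_, ?_⟩
  · refine lt_of_le_of_ne inf_le_right ?_
    intro heq
    obtain ⟨u, hu0, hQu⟩ := exists_singular_ne_zero hQ hpol h2 (by omega)
    obtain ⟨⟨x, hx⟩, _⟩ := hQ.nondegenerate u hu0
    have h1 : Cfsg.Agent.Lib.Helper99.stv m u 1 ∈ Cfsg.spGL m F := Cfsg.Agent.Lib.Helper99.stv_mem_spGL m u 1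
    rw [← heq] at h1
    have h3 := M_le_isom hQ hpol u hu0 h1
    rw [mem_isom] at h3
    have h4 := h3 x
    rw [Q_stv hQ hpol h2, hQu] at h4
    have h5 : pol Q x u ^ 2 = 0 := by linear_combination h4
    exact hx ((pow_eq_zero_iff (two_ne_zero)).1 h5)
  · intro H hMH hHS
    by_cases hHM : H ≤ Cfsg.Geo.quadSimilarityGroup Q ⊓ Cfsg.spGL m F
    · left
      exact le_antisymm hHM hMH
    · right
      exact oq_maximal_aux hQ hpol h2 (by omega) H hMH hHS hHM

end Cfsg.Agent.S5652
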