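import Cfsg.Statements.S5664
import Cfsg.Agent.Lib.Helper13.SPF

set_option autoImplicit false
open Cfsg

namespace Cfsg.Agent.S5664

/-- For a finite field F and m ≥ 7, let K be a subfield of the algebra of 2m × 2m matrices over F containing the scalars, of prime degree r over F, whose elements k are self-adjoint for the standard alternating form f on F^(2m) (f(k u, v) = f(u, k v)) and satisfy f(k v, v) = 0 for all v. Then the elements of Sp_2m(F) normalising K form a maximal subgroup of Sp_2m(F). -/
theorem result {F : Type*} [Field F] [Fintype F] (m : ℕ) (hm : 7 ≤ m) (r : ℕ) (hr : r.Prime) (K : Subalgebra F (Matrix (Fin m ⊕ Fin m) (Fin m ⊕ Fin m) F)) (hK : Cfsg.Geo.IsFieldSubalgebra r K) (hsa : Cfsg.Geo.IsSelfAdjointFor (Cfsg.sympForm m F) K) (halt : ∀ k ∈ K, ∀ v : (Fin m ⊕ Fin m → F), Cfsg.sympForm m F (Matrix.mulVec k v) v = 0) : Cfsg.Geo.IsMaximalIn (Cfsg.spGL m F) (Cfsg.Geo.subalgebraNormalizer K ⊓ Cfsg.spGL m F) := by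
  classical
  have hfin : Module.finrank F K = r := hK.finrank_eq
  haveI : Module.Finite F K := Module.finite_of_finrank_pos (by rw [hfin]; exact hr.pos)
  haveI : Nontrivial K := Module.nontrivial_of_finrank_pos (R := F) (by rw [hfin]; exact hr.pos)
  have hfield : IsField K :=
    { exists_pair_ne := ⟨0, 1, zero_ne_one⟩
      mul_comm := fun x y => Subtype.ext (hK.comm x.1 x.2 y.1 y.2)
      mul_inv_cancel := by
        intro a ha
        have ha' : a.1 ≠ 0 := fun h => ha (Subtype.ext h)
        obtain ⟨y, hyK, hy⟩ := hK.inv a.1 a.2 ha'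
        exact ⟨⟨y, hyK⟩, Subtype.ext hy⟩ }
  letI : Field K := hfield.toField
  haveI : Finite K := Module.finite_of_finite F
  have key := Cfsg.Agent.Lib.Helper13.SP.sp_main_embedded (F := F) m (K' := K) K.val
    Subtype.val_injective hm (by rw [hfin]; exact hr)
    (fun k u v => hsa k.1 k.2 u v) (fun k v => halt k.1 k.2 v)
  rw [Subalgebra.range_val] at key
  exact key

end Cfsg.Agent.S5664
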