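import Cfsg.Statements.S5667
import Cfsg.Agent.Lib.Helper94.Tensor
import Cfsg.Agent.S5648

set_option autoImplicit false
open Cfsg

namespace Cfsg.Agent.S5667

open scoped Matrix Kronecker
open Cfsg.Agent.Lib.Helper94

set_option linter.unusedSectionVars false
set_option linter.unnecessarySimpa false
set_option linter.unusedVariables false

/-- Over the field with 3 elements and for m ≥ 7, suppose the standard alternating form on F^(2m) is similar, through P and e, to the tensor product of a non-degenerate symplectic form f₁ on F^(n₁) and a non-degenerate symmetric bilinear form f₂ on F^3. Then the elements of Sp_2m(3) in the stabiliser of this tensor decomposition form a subgroup that is not maximal: some subgroup lies strictly between it and Sp_2m(3). -/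
theorem result {F : Type*} [Field F] [Fintype F] (m : ℕ) (hm : 7 ≤ m) (hq : Fintype.card F = 3) (n₁ : ℕ) (e : (Fin m ⊕ Fin m) ≃ Fin n₁ × Fin 3) (P : Matrix.GeneralLinearGroup (Fin m ⊕ Fin m) F) (f₁ : (Fin n₁ → F) → (Fin n₁ → F) → F) (f₂ : (Fin 3 → F) → (Fin 3 → F) → F) (hf₁ : Cfsg.Geo.IsSymplecticForm f₁) (hf₂ : Cfsg.Geo.IsSymmetricForm f₂) (hT : Cfsg.Geo.IsTensorFormStructure id (Cfsg.sympForm m F) f₁ f₂ e P) : ∃ K : Subgroup (Matrix.GeneralLinearGroup (Fin m ⊕ Fin m) F), Cfsg.Geo.tensorProductSubgroup n₁ 3 e P ⊓ Cfsg.spGL m F < K ∧ K < Cfsg.spGL m F := by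
  classical
  have h3 := f3_three hq
  have h2 : (2 : F) ≠ 0 := by
    intro h
    have : (1 : F) = 0 := by linear_combination h3 - h
    exact one_ne_zero this
  obtain ⟨c, hc, hform⟩ := tensor_form_pt id (fun _ _ => rfl) (sympForm m F) f₁ f₂ e P
    (isSesq_of_bilinear hf₁.bilinear) (isSesq_of_bilinear hf₂.bilinear) hT
  have b₁ := hf₁.bilinear
  have b₂ := hf₂.bilinear
  -- the frame of the three-dimensional factor
  have hQ₂ := nondeg_diag f₂ hf₂ h2
  have hnd : Geo.IsNondegenerateOn (QuadraticMap.polar (fun v => f₂ v v)) ⊤ := by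
    intro w _ hw
    obtain ⟨⟨x, hx⟩, ⟨y, hy⟩⟩ := hQ₂.nondegenerate w hw
    exact ⟨⟨x, Submodule.mem_top, hx⟩, ⟨y, Submodule.mem_top, hy⟩⟩
  obtain ⟨δ, hδ, a, ha⟩ := exists_frame3 hQ₂ hq ⊤ (by simp) hnd
  have hval : ∀ j, f₂ (a j) (a j) = δ := ha.val
  have horth : ∀ j j', j ≠ j' → f₂ (a j) (a j') = 0 := by
    intro j j' hjj
    have := ha.orth j j' hjj
    rw [pol_diag f₂ hf₂] at this
    exact (mul_eq_zero.mp this).resolve_left h2
  have hstruct : ∀ v, f₂ v v = δ → ∃ j, v = a j ∨ v = - a j := fun v hv => ha.struct v Submodule.mem_top hv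
  -- two vectors of the symplectic factor
  have i₀ : Fin n₁ := (e (Sum.inl ⟨0, by omega⟩)).1
  obtain ⟨⟨u, hu⟩, _⟩ := hf₁.nondegenerate (Pi.single i₀ 1)
    (by intro h; have := congrFun h i₀; simp at this)
  obtain ⟨u₀, hu₀⟩ : ∃ u₀ : Fin n₁ → F, u₀ = Pi.single i₀ 1 := ⟨_, rfl⟩
  rw [← hu₀] at hu
  have hu₀0 : u₀ ≠ 0 := by
    intro h; rw [h] at hu; apply hu
    have := b₁.smul_right 0 u 0
    simpa using this
  set T := tens e P with hTdef
  have T_add : ∀ x y, T (x + y) = T x + T y := tens_add e P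
  have T_smul : ∀ (k : F) x, T (k • x) = k • T x := tens_smul e P
  have T_inj : Function.Injective T := tens_injective e P
  have h01 : (0 : Fin 3) ≠ 1 := by decide
  -- the set
  let S : Set (Fin m ⊕ Fin m → F) := {v | ∃ (u' : Fin n₁ → F) (j : Fin 3), v = T (pt u' (a j))}
  have hSmem : ∀ u' j, T (pt u' (a j)) ∈ S := fun u' j => ⟨u', j, rfl⟩
  -- κ
  obtain ⟨κ, hκdef⟩ : ∃ κ : F, κ = 1 * (c * (f₁ u u₀ * δ)) := ⟨_, rfl⟩
  have hκ : κ ≠ 0 := by
    rw [hκdef, one_mul]; exact mul_ne_zero hc (mul_ne_zero hu hδ)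
  -- contractions
  have C_add : ∀ s x y, ctr (n₁ := n₁) f₂ s (x + y) = ctr f₂ s x + ctr f₂ s y :=
    fun s x y => ctr_add f₂ b₂.add_left s x y
  have C_smul : ∀ s (k : F) x, ctr (n₁ := n₁) f₂ s (k • x) = k • ctr f₂ s x :=
    fun s k x => ctr_smul f₂ b₂.smul_left s k x
  have C_pt : ∀ s (u' : Fin n₁ → F) w, ctr f₂ s (pt u' w) = f₂ w s • u' :=
    fun s u' w => ctr_pt f₂ b₂.smul_left s u' w
  have f1zero : ∀ x, f₁ 0 x = 0 := by
    intro x
    have := b₁.smul_left 0 0 x
    simpa using this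
  refine ⟨stabilizing (glToMat _ F) S ⊓ spGL m F, ?_, ?_⟩
  · -- H < K
    rw [SetLike.lt_iff_le_and_exists]
    refine ⟨?_, ?_⟩
    · intro g hg
      obtain ⟨hgT, hgS⟩ := Subgroup.mem_inf.mp hg
      refine Subgroup.mem_inf.mpr ⟨?_, hgS⟩
      obtain ⟨A, B, hAB⟩ := mem_tensorProductSubgroup_pt e P g hgT
      obtain ⟨μ₁, μ₂, hμ₁, hμ₂, hA, hB⟩ := tensor_similarity (sympForm m F) f₁ f₂ e P c hc hform
        ⟨u, u₀, hu⟩ ⟨a 0, a 0, by rw [hval]; exact hδ⟩ (g : Matrix (Fin m ⊕ Fin m) (Fin m ⊕ Fin m) F)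
        ((S5648.mem_spGL g).mp hgS)
        (A : Matrix (Fin n₁) (Fin n₁) F) (B : Matrix (Fin 3) (Fin 3) F) hAB
      have hdet := similarity_det f₂ b₂ hf₂.nondegenerate (B : Matrix (Fin 3) (Fin 3) F) μ₂ hB
      have hμ1 : μ₂ = 1 := by
        have hdB : (B : Matrix (Fin 3) (Fin 3) F).det ≠ 0 := by
          have := (Matrix.isUnit_iff_isUnit_det _).mp (Units.isUnit B)
          exact this.ne_zero
        simp only [Fintype.card_fin] at hdet
        have e1 : (B : Matrix (Fin 3) (Fin 3) F).det ^ 2 = 1 := by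
          rcases f3_cases hq (B : Matrix (Fin 3) (Fin 3) F).det with h | h | h
          · exact absurd h hdB
          · rw [h]; ring
          · rw [h]; ring
        have e2 : μ₂ ^ 3 = μ₂ := by
          rcases f3_cases hq μ₂ with h | h | h
          · exact absurd h hμ₂
          · rw [h]; ring
          · rw [h]; ring
        rw [← e2, ← hdet, e1]
      apply stab_of_forward
      rintro v ⟨u', j, rfl⟩
      rw [hAB]
      have hBa : f₂ ((B : Matrix (Fin 3) (Fin 3) F) *ᵥ a j) ((B : Matrix (Fin 3) (Fin 3) F) *ᵥ a j) = δ := by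
        rw [hB, hμ1, one_mul, hval]
      obtain ⟨j', hj' | hj'⟩ := hstruct _ hBa
      · rw [hj']; exact hSmem _ _
      · rw [hj', pt_neg_right, ← pt_neg_left]; exact hSmem _ _
    · -- the witness g₀
      refine ⟨S5648.tGL (T (pt u₀ (a 0))) 1, ?_, ?_⟩
      · refine Subgroup.mem_inf.mpr ⟨?_, S5648.tGL_mem_spGL _ _⟩
        apply stab_of_forward
        rintro v ⟨u', j, rfl⟩
        rw [S5648.tGL_mulVec, hform]
        by_cases hj : j = 0
        · subst hj
          rw [← T_smul, ← T_add, ← pt_smul_left, ← pt_add_left]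
          exact hSmem _ _
        · rw [horth j 0 hj, mul_zero, mul_zero, mul_zero, zero_smul, add_zero]
          exact hSmem _ _
      · intro hg
        obtain ⟨hgT, -⟩ := Subgroup.mem_inf.mp hg
        obtain ⟨A, B, hAB⟩ := mem_tensorProductSubgroup_pt e P _ hgT
        have h1 := hAB u (a 0 + a 1)
        rw [S5648.tGL_mulVec, hform, b₂.add_left, hval, horth 1 0 (Ne.symm h01), add_zero, ← hκdef,
          ← T_smul, ← T_add] at h1
        have h2' := T_inj h1
        obtain ⟨w', hw'⟩ : ∃ w', w' = (B : Matrix (Fin 3) (Fin 3) F) *ᵥ (a 0 + a 1) := ⟨_, rfl⟩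
        obtain ⟨Au, hAu⟩ : ∃ Au, Au = (A : Matrix (Fin n₁) (Fin n₁) F) *ᵥ u := ⟨_, rfl⟩
        rw [← hw', ← hAu] at h2'
        have c0 := congrArg (ctr f₂ (a 0)) h2'
        have c1 := congrArg (ctr f₂ (a 1)) h2'
        rw [C_add, C_smul, C_pt, C_pt, C_pt, b₂.add_left, hval, horth 1 0 (Ne.symm h01), add_zero] at c0
        rw [C_add, C_smul, C_pt, C_pt, C_pt, b₂.add_left, hval, horth 0 1 h01, zero_add, zero_smul,
          smul_zero, add_zero] at c1
        have e1 : f₁ (δ • u + κ • δ • u₀) (δ • u) = 0 := by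
          rw [c0, c1, b₁.smul_left, b₁.smul_right, hf₁.alternating]; ring
        rw [b₁.add_left, b₁.smul_left, b₁.smul_left, b₁.smul_left, b₁.smul_right, b₁.smul_right,
          hf₁.alternating, hf₁.skew u₀ u] at e1
        have e2 : κ * δ * δ * f₁ u u₀ = 0 := by linear_combination -e1
        exact mul_ne_zero (mul_ne_zero (mul_ne_zero hκ hδ) hδ) hu e2
  · -- K < Sp
    rw [SetLike.lt_iff_le_and_exists]
    refine ⟨inf_le_right, S5648.tGL (T (pt u₀ (a 0 + a 1))) 1, S5648.tGL_mem_spGL _ _, ?_⟩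
    intro hg
    obtain ⟨hgS, -⟩ := Subgroup.mem_inf.mp hg
    rw [mem_stabz] at hgS
    obtain ⟨u', j, h1⟩ := (hgS _).mp (hSmem u 0)
    rw [S5648.tGL_mulVec, hform, b₂.add_right, hval, horth 0 1 h01, add_zero, ← hκdef,
      ← T_smul, ← T_add] at h1
    have h2' := T_inj h1
    have c0 := congrArg (ctr f₂ (a 0)) h2'
    have c1 := congrArg (ctr f₂ (a 1)) h2'
    rw [C_add, C_smul, C_pt, C_pt, C_pt, b₂.add_left, hval, horth 1 0 (Ne.symm h01), add_zero] at c0
    rw [C_add, C_smul, C_pt, C_pt, C_pt, b₂.add_left, hval, horth 0 1 h01, zero_add, zero_smul,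
      zero_add] at c1
    by_cases hj : j = 0
    · subst hj
      rw [horth 0 1 h01, zero_smul] at c1
      have : u₀ = 0 := by
        have h := c1
        rw [smul_smul] at h
        exact (smul_eq_zero.mp h).resolve_left (mul_ne_zero hκ hδ)
      exact hu₀0 this
    · rw [horth j 0 hj, zero_smul] at c0
      have e1 : f₁ (δ • u + κ • δ • u₀) u₀ = 0 := by rw [c0, f1zero]
      rw [b₁.add_left, b₁.smul_left, b₁.smul_left, b₁.smul_left, hf₁.alternating] at e1
      have e2 : δ * f₁ u u₀ = 0 := by linear_combination e1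
      exact mul_ne_zero hδ hu e2

end Cfsg.Agent.S5667
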