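import Cfsg.Statements.S5671
import Cfsg.Agent.Lib.Helper94.Unitary4

set_option autoImplicit false
open Cfsg

namespace Cfsg.Agent.S5671

open scoped Matrix Kronecker
open Cfsg.Agent.Lib.Helper94

set_option linter.unusedSectionVars false
set_option linter.unnecessarySimpa false
set_option linter.unusedVariables false

section ctr
variable {F : Type*} [Field F] {n₁ n₂ : ℕ}

lemma ctrL_add' (f₁ : (Fin n₁ → F) → (Fin n₁ → F) → F) (hadd : ∀ x y v, f₁ (x + y) v = f₁ x v + f₁ y v)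
    (s : Fin n₁ → F) (x y : Fin n₁ × Fin n₂ → F) :
    ctrL f₁ s (x + y) = ctrL f₁ s x + ctrL f₁ s y := by
  funext i
  simp only [ctrL, Pi.add_apply]
  rw [← hadd]; rfl

lemma ctrL_smul' (f₁ : (Fin n₁ → F) → (Fin n₁ → F) → F) (hsmul : ∀ (c : F) x v, f₁ (c • x) v = c * f₁ x v)
    (s : Fin n₁ → F) (c : F) (x : Fin n₁ × Fin n₂ → F) :
    ctrL f₁ s (c • x) = c • ctrL f₁ s x := by
  funext i
  simp only [ctrL, Pi.smul_apply, smul_eq_mul]
  rw [← hsmul]; rfl

lemma ctrL_pt' (f₁ : (Fin n₁ → F) → (Fin n₁ → F) → F) (hsmul : ∀ (c : F) x v, f₁ (c • x) v = c * f₁ x v)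
    (s : Fin n₁ → F) (u : Fin n₁ → F) (w : Fin n₂ → F) :
    ctrL f₁ s (pt u w) = f₁ u s • w := by
  funext i
  simp only [ctrL, Pi.smul_apply, smul_eq_mul, pt]
  rw [mul_comm, ← hsmul]
  congr 1
  funext k
  simp [mul_comm]

end ctr

/-- Let F be the field with 4 elements (q = 2) and n = 2 n₂ ≥ 13. Suppose the standard unitary form Σ u_i v_i² on F^n is similar, through P and e, to the tensor product of non-degenerate unitary forms f₁ on F^2 and f₂ on F^(n₂). Then the elements of SU_n(2) in the stabiliser of this tensor decomposition form a subgroup that is not maximal: some subgroup lies strictly between it and SU_n(2). -/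
theorem result {F : Type*} [Field F] [Fintype F] (n : ℕ) (hF : Fintype.card F = 4) (hn : 13 ≤ n) (n₂ : ℕ) (e : Fin n ≃ Fin 2 × Fin n₂) (P : Matrix.GeneralLinearGroup (Fin n) F) (f₁ : (Fin 2 → F) → (Fin 2 → F) → F) (f₂ : (Fin n₂ → F) → (Fin n₂ → F) → F) (hf₁ : Cfsg.Geo.IsUnitaryFormPow 2 f₁) (hf₂ : Cfsg.Geo.IsUnitaryFormPow 2 f₂) (hT : Cfsg.Geo.IsTensorFormStructure (fun x : F => x ^ 2) (Cfsg.hermForm n F 2) f₁ f₂ e P) : ∃ K : Subgroup (Matrix.GeneralLinearGroup (Fin n) F), Cfsg.Geo.tensorProductSubgroup 2 n₂ e P ⊓ (Cfsg.GU n F 2 ⊓ Cfsg.Geo.specialLinear (Fin n) F) < K ∧ K < (Cfsg.GU n F 2 ⊓ Cfsg.Geo.specialLinear (Fin n) F) := by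
  classical
  have h2 := S5656.f4_two hF
  have h4 := S5656.f4_pow4 hF
  have hw := S5656.f4_exists hF
  have hn₂ : 2 ≤ n₂ := by
    have hcard := Fintype.card_congr e
    simp only [Fintype.card_fin, Fintype.card_prod] at hcard
    omega
  obtain ⟨c, hc, hform'⟩ := tensor_form_pt (fun x : F => x ^ 2) (fun a b => mul_pow a b 2) (hermForm n F 2)
    f₁ f₂ e P (uf_isSesq h2 hf₁) (uf_isSesq h2 hf₂) hT
  obtain ⟨a, hval, horth, hstruct⟩ := uf_frame h2 h4 hf₁ (by simp) hw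
  obtain ⟨s₀, hs₀, hs₀0⟩ := uf_exists_isotropic h2 hf₂ hw (by simpa using hn₂)
  obtain ⟨⟨s₁, hs₁⟩, ⟨y, hy⟩⟩ := hf₂.nondegenerate s₀ hs₀
  obtain ⟨T, hTdef⟩ : ∃ T, T = tens e P := ⟨_, rfl⟩
  rw [← hTdef] at hform'
  have hform : ∀ u s u' s', S5656.H (T (pt u s)) (T (pt u' s')) = c * (f₁ u u' * f₂ s s') := hform'
  have T_add : ∀ x y, T (x + y) = T x + T y := by rw [hTdef]; exact tens_add e P
  have T_smul : ∀ (k : F) x, T (k • x) = k • T x := by rw [hTdef]; exact tens_smul e P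
  have T_inj : Function.Injective T := by rw [hTdef]; exact tens_injective e P
  have h01 : (0 : Fin 2) ≠ 1 := by decide
  let S : Set (Fin n → F) := {v | ∃ (j : Fin 2) (s : Fin n₂ → F), v = T (pt (a j) s)}
  have hSmem : ∀ j s, T (pt (a j) s) ∈ S := fun j s => ⟨j, s, rfl⟩
  have C_add : ∀ r x y, ctrL (n₂ := n₂) f₁ r (x + y) = ctrL f₁ r x + ctrL f₁ r y :=
    fun r x y => ctrL_add' f₁ hf₁.add_left r x y
  have C_smul : ∀ r (k : F) x, ctrL (n₂ := n₂) f₁ r (k • x) = k • ctrL f₁ r x :=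
    fun r k x => ctrL_smul' f₁ hf₁.smul_left r k x
  have C_pt : ∀ r u (s : Fin n₂ → F), ctrL f₁ r (pt u s) = f₁ u r • s :=
    fun r u s => ctrL_pt' f₁ hf₁.smul_left r u s
  obtain ⟨κ, hκdef⟩ : ∃ κ : F, κ = c * (1 * f₂ s₁ s₀) := ⟨_, rfl⟩
  have hκ : κ ≠ 0 := by
    rw [hκdef, one_mul]; exact mul_ne_zero hc hs₁
  refine ⟨stabilizing (glToMat (Fin n) F) S ⊓ (GU n F 2 ⊓ Geo.specialLinear (Fin n) F), ?_, ?_⟩
  · rw [SetLike.lt_iff_le_and_exists]
    refine ⟨?_, ?_⟩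
    · intro g hg
      obtain ⟨hgT, hgS⟩ := Subgroup.mem_inf.mp hg
      refine Subgroup.mem_inf.mpr ⟨?_, hgS⟩
      obtain ⟨hgU, -⟩ := Subgroup.mem_inf.mp hgS
      obtain ⟨A, B, hAB⟩ := mem_tensorProductSubgroup_pt e P g hgT
      rw [← hTdef] at hAB
      obtain ⟨μ₁, μ₂, hμ₁, hμ₂, hA, hB⟩ := tensor_similarity (hermForm n F 2) f₁ f₂ e P c hc
        (by rw [← hTdef]; exact hform)
        ⟨a 0, a 0, by rw [hval]; exact one_ne_zero⟩ ⟨s₁, s₀, hs₁⟩
        (g : Matrix (Fin n) (Fin n) F) ((S5656.mem_GU g).mp hgU)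
        (A : Matrix (Fin 2) (Fin 2) F) (B : Matrix (Fin n₂) (Fin n₂) F) (by rw [← hTdef]; exact hAB)
      apply stab_of_forward
      rintro v ⟨j, s, rfl⟩
      rw [hAB]
      have hAa : f₁ ((A : Matrix (Fin 2) (Fin 2) F) *ᵥ a j) ((A : Matrix (Fin 2) (Fin 2) F) *ᵥ a j) ≠ 0 := by
        rw [hA, hval, mul_one]; exact hμ₁
      obtain ⟨j', k, hj'⟩ := hstruct _ hAa
      rw [hj', pt_smul_left, ← pt_smul_right]
      exact hSmem _ _
    · have hv₀ : S5656.H (T (pt (a 0) s₀)) (T (pt (a 0) s₀)) = 0 := by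
        rw [hform, hs₀0, mul_zero, mul_zero]
      refine ⟨S5656.tGL h2 _ hv₀, ?_, ?_⟩
      · refine Subgroup.mem_inf.mpr ⟨?_, Subgroup.mem_inf.mpr
          ⟨S5656.tGL_mem_GU h2 h4 _ hv₀, S5656.tGL_mem_SL h2 _ hv₀⟩⟩
        apply stab_of_forward
        rintro v ⟨j, s, rfl⟩
        rw [S5656.tGL_mulVec, hform]
        by_cases hj : j = 0
        · subst hj
          rw [← T_smul, ← T_add, ← pt_smul_right, ← pt_add_right]
          exact hSmem _ _
        · rw [horth j 0 hj, zero_mul, mul_zero, zero_smul, add_zero]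
          exact hSmem _ _
      · intro hg
        obtain ⟨hgT, -⟩ := Subgroup.mem_inf.mp hg
        obtain ⟨A, B, hAB⟩ := mem_tensorProductSubgroup_pt e P _ hgT
        rw [← hTdef] at hAB
        have h1 := hAB (a 1) s₁
        rw [S5656.tGL_mulVec, hform, horth 1 0 (Ne.symm h01), zero_mul, mul_zero, zero_smul, add_zero] at h1
        have h1' := T_inj h1
        have h2' := hAB (a 0) s₁
        rw [S5656.tGL_mulVec, hform, hval, ← hκdef, ← T_smul, ← T_add] at h2'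
        have h2'' := T_inj h2'
        obtain ⟨Bs, hBs⟩ : ∃ Bs, Bs = (B : Matrix (Fin n₂) (Fin n₂) F) *ᵥ s₁ := ⟨_, rfl⟩
        rw [← hBs] at h1' h2''
        have c1 := congrArg (ctrL f₁ (a 1)) h1'
        have c0 := congrArg (ctrL f₁ (a 0)) h2''
        rw [C_pt, C_pt, hval, one_smul] at c1
        rw [C_add, C_smul, C_pt, C_pt, C_pt, hval, one_smul, one_smul] at c0
        obtain ⟨α₁, hα₁⟩ : ∃ α₁, α₁ = f₁ ((A : Matrix (Fin 2) (Fin 2) F) *ᵥ a 1) (a 1) := ⟨_, rfl⟩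
        obtain ⟨α₀, hα₀⟩ : ∃ α₀, α₀ = f₁ ((A : Matrix (Fin 2) (Fin 2) F) *ᵥ a 0) (a 0) := ⟨_, rfl⟩
        rw [← hα₁] at c1
        rw [← hα₀] at c0
        have key : α₀ • s₁ = α₁ • (s₁ + κ • s₀) := by
          rw [c0, c1, smul_smul, smul_smul, mul_comm]
        have k1 := congrArg (fun z => f₂ z s₀) key
        have k2 := congrArg (fun z => f₂ z y) key
        simp only [hf₂.smul_left, hf₂.add_left, hs₀0] at k1 k2
        have e1 : α₀ = α₁ := by
          have : (α₀ - α₁) * f₂ s₁ s₀ = 0 := by linear_combination k1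
          exact sub_eq_zero.mp ((mul_eq_zero.mp this).resolve_right hs₁)
        rw [e1] at k2
        have e2 : α₁ = 0 := by
          have : α₁ * (κ * f₂ s₀ y) = 0 := by linear_combination -k2
          exact (mul_eq_zero.mp this).resolve_right (mul_ne_zero hκ hy)
        rw [e2, zero_smul] at c1
        rw [c1, uf4_zero_left hf₂] at hs₁
        exact hs₁ rfl
  · rw [SetLike.lt_iff_le_and_exists]
    have hv₁ : S5656.H (T (pt (a 0 + a 1) s₀)) (T (pt (a 0 + a 1) s₀)) = 0 := by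
      rw [hform, hs₀0, mul_zero, mul_zero]
    refine ⟨inf_le_right, S5656.tGL h2 _ hv₁, Subgroup.mem_inf.mpr
      ⟨S5656.tGL_mem_GU h2 h4 _ hv₁, S5656.tGL_mem_SL h2 _ hv₁⟩, ?_⟩
    intro hg
    obtain ⟨hgS, -⟩ := Subgroup.mem_inf.mp hg
    rw [mem_stabz] at hgS
    obtain ⟨j, s', h1⟩ := (hgS _).mp (hSmem 0 s₁)
    rw [S5656.tGL_mulVec, hform, uf4_add_right h2 hf₁, hval, horth 0 1 h01, add_zero, ← hκdef,
      ← T_smul, ← T_add] at h1
    have h1' := T_inj h1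
    have c0 := congrArg (ctrL f₁ (a 0)) h1'
    have c1 := congrArg (ctrL f₁ (a 1)) h1'
    rw [C_add, C_smul, C_pt, C_pt, C_pt, hf₁.add_left, hval, horth 1 0 (Ne.symm h01), add_zero, one_smul,
      one_smul] at c0
    rw [C_add, C_smul, C_pt, C_pt, C_pt, hf₁.add_left, hval, horth 0 1 h01, zero_add, zero_smul, zero_add,
      one_smul] at c1
    by_cases hj : j = 0
    · subst hj
      rw [horth 0 1 h01, zero_smul] at c1
      exact hs₀ ((smul_eq_zero.mp c1).resolve_left hκ)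
    · rw [horth j 0 hj, zero_smul] at c0
      have k := congrArg (fun z => f₂ z s₀) c0
      simp only [hf₂.add_left, hf₂.smul_left, hs₀0, uf4_zero_left hf₂, mul_zero, add_zero] at k
      exact hs₁ k

end Cfsg.Agent.S5671
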