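import Cfsg.Statements.S5674
import Cfsg.Agent.Lib.Helper37.ParabolicBridge
import Cfsg.Agent.Lib.Helper37.SimDiag
import Cfsg.Agent.Lib.Helper94.QuadOdd

set_option autoImplicit false
open Cfsg

namespace Cfsg.Agent.S5674

/-- Let F be a finite field of odd order, m ≥ 6, Q the standard quadratic form x₀² + Σ x_i y_i on F^(2m+1) and Ω the commutator subgroup of its isometry group inside GL_(2m+1)(F). The elements of Ω stabilising a non-zero subspace on which Q vanishes form a maximal subgroup of Ω. -/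
theorem result {F : Type*} [Field F] [Fintype F] (hodd : Odd (Fintype.card F)) (m : ℕ) (hm : 6 ≤ m) (W : Submodule F (Unit ⊕ (Fin m ⊕ Fin m) → F)) (hW0 : W ≠ ⊥) (hW : Cfsg.Geo.IsTotallySingularQuad (Cfsg.quadFormOdd m F) W) : Cfsg.Geo.IsMaximalIn (Cfsg.Geo.omegaGL (Cfsg.quadFormOdd m F)) (Cfsg.Geo.subspaceStabilizer W ⊓ Cfsg.Geo.omegaGL (Cfsg.quadFormOdd m F)) := by
  classical
  have h2 : (2 : F) ≠ 0 := Cfsg.Agent.Lib.Helper37.two_ne_zero_of_odd_card hodd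
  have hQ : Cfsg.Geo.IsNondegenerateQuadraticForm (Cfsg.quadFormOdd m F) :=
    Cfsg.Agent.Lib.Helper94.nondeg_quadFormOdd h2
  have hQ' := Cfsg.Agent.Lib.Helper37.toQF_nondeg _ hQ
  have hfr : Module.finrank F (Unit ⊕ (Fin m ⊕ Fin m) → F) = 2 * m + 1 := by
    simp; ring
  have hn5 : 5 ≤ Module.finrank F (Unit ⊕ (Fin m ⊕ Fin m) → F) := by rw [hfr]; omega
  have hn2 : (2 : F) = 0 → 7 ≤ Module.finrank F (Unit ⊕ (Fin m ⊕ Fin m) → F) := by
    intro _; rw [hfr]; omega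
  show Cfsg.Geo.IsMaximalIn
    (Cfsg.Geo.omegaGL ⇑(Cfsg.Agent.Lib.Helper37.toQF (Cfsg.quadFormOdd m F) hQ))
    (Cfsg.Geo.subspaceStabilizer W ⊓
      Cfsg.Geo.omegaGL ⇑(Cfsg.Agent.Lib.Helper37.toQF (Cfsg.quadFormOdd m F) hQ))
  apply Cfsg.Agent.Lib.Helper37.isMaximalIn_stab_of
  · exact Cfsg.Agent.Lib.Helper37.exists_not_mem_stabSub _ hQ' hn5 hn2 W hW hW0
  · intro M hM g hgM hg
    refine Cfsg.Agent.Lib.Helper37.parabolic_max _ hQ' hn5 hn2 W hW ?_ M hM g hgM hg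
    intro U hWU hU0 hUdim
    have h1 := Cfsg.Agent.Lib.Helper37.two_mul_finrank_le_of_ts _ hQ' U hU0
    rw [hfr] at h1 ⊢
    omega

end Cfsg.Agent.S5674
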