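import Cfsg.Statements.S5675
import Cfsg.Agent.Lib.Helper99.NPair6
import Cfsg.Agent.Lib.Helper37.SimDiag
import Cfsg.Agent.Lib.Helper94.QuadOdd

set_option autoImplicit false
open Cfsg

namespace Cfsg.Agent.S5675

/-- Let F be a finite field of odd order q, m ≥ 6, Q the standard quadratic form on F^(2m+1) and Ω the commutator subgroup of its isometry group. Let W be a non-zero subspace of even dimension on which the polar form of Q is non-degenerate; exclude the case q = 3, dim W = 2 with Q vanishing on some line of W (a plus-type plane). Then the elements of Ω stabilising W (equivalently, stabilising its orthogonal complement, of odd dimension) form a maximal subgroup of Ω. -/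
theorem result {F : Type*} [Field F] [Fintype F] (hodd : Odd (Fintype.card F)) (m : ℕ) (hm : 6 ≤ m) (W : Submodule F (Unit ⊕ (Fin m ⊕ Fin m) → F)) (hW0 : W ≠ ⊥) (hev : Even (Module.finrank F W)) (hW : Cfsg.Geo.IsNondegenerateOn (QuadraticMap.polar (Cfsg.quadFormOdd m F)) W) (hex : ¬ (Fintype.card F = 3 ∧ Module.finrank F W = 2 ∧ Cfsg.Geo.IsPlusTypeOn (Cfsg.quadFormOdd m F) W)) : Cfsg.Geo.IsMaximalIn (Cfsg.Geo.omegaGL (Cfsg.quadFormOdd m F)) (Cfsg.Geo.subspaceStabilizer W ⊓ Cfsg.Geo.omegaGL (Cfsg.quadFormOdd m F)) := by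
  classical
  have h2 : (2 : F) ≠ 0 := Cfsg.Agent.Lib.Helper37.two_ne_zero_of_odd_card hodd
  have hQ : Cfsg.Geo.IsNondegenerateQuadraticForm (Cfsg.quadFormOdd m F) :=
    Cfsg.Agent.Lib.Helper94.nondeg_quadFormOdd h2
  have hQ' := Cfsg.Agent.Lib.Helper37.toQF_nondeg _ hQ
  have hfr : Module.finrank F (Unit ⊕ (Fin m ⊕ Fin m) → F) = 2 * m + 1 := by
    simp; ring
  show Cfsg.Geo.IsMaximalIn
    (Cfsg.Geo.omegaGL ⇑(Cfsg.Agent.Lib.Helper37.toQF (Cfsg.quadFormOdd m F) hQ))
    (Cfsg.Geo.subspaceStabilizer W ⊓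
      Cfsg.Geo.omegaGL ⇑(Cfsg.Agent.Lib.Helper37.toQF (Cfsg.quadFormOdd m F) hQ))
  obtain ⟨j, hj⟩ := hev
  apply Cfsg.Agent.Lib.Helper99.nondeg_stabilizer_bridge _ hQ' (by rw [hfr]; omega) W hW0
  · intro htop
    have : Module.finrank F W = 2 * m + 1 := by rw [htop, finrank_top, hfr]
    omega
  · rw [hfr]; omega
  · exact hW
  · rintro ⟨hq, U, hU2, -, hUplus, hU | ⟨-, hU⟩⟩
    · apply hex
      subst hU
      refine ⟨?_, hU2, hUplus⟩
      have h1 : 1 < Fintype.card F := Fintype.one_lt_card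
      obtain ⟨r, hr⟩ := hodd
      omega
    · rw [hfr] at hU
      omega

end Cfsg.Agent.S5675
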