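import Cfsg.Statements.S5686
import Cfsg.Agent.Lib.Helper94.TSMoves

set_option autoImplicit false
open Cfsg

namespace Cfsg.Agent.S5686

/-- Let F be a finite field with q elements, n ≥ 13 even, Q a non-degenerate quadratic form on F^n of plus type (some subspace of dimension n/2 is totally singular), and Ω the commutator subgroup of the isometry group of Q, viewed inside GL_n(F). The elements of Ω stabilising a subspace of dimension n/2 − 1 on which Q vanishes form a subgroup that is not maximal: some subgroup lies strictly between it and Ω. -/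
theorem result {F : Type*} [Field F] [Fintype F] {n : ℕ} (hn : 13 ≤ n) (heven : Even n) (Q : (Fin n → F) → F) (hQ : Cfsg.Geo.IsNondegenerateQuadraticForm Q) (hplus : Cfsg.Geo.IsPlusTypeOn Q ⊤) (W : Submodule F (Fin n → F)) (hW : Cfsg.Geo.IsTotallySingularQuad Q W) (hdim : 2 * (Module.finrank F W + 1) = n) : ∃ K : Subgroup (Matrix.GeneralLinearGroup (Fin n) F), Cfsg.Geo.subspaceStabilizer W ⊓ Cfsg.Geo.omegaGL Q < K ∧ K < Cfsg.Geo.omegaGL Q := by
  open Cfsg.Agent.Lib.Helper94 in
  classical
  set k := Module.finrank F W + 1 with hkdef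
  have hcard : Fintype.card (Fin n) = 2 * k := by rw [Fintype.card_fin, ← hdim]
  have hk7 : 7 ≤ k := by omega
  obtain ⟨U, _, hUts, hUdim⟩ := hplus
  rw [finrank_top, Module.finrank_fintype_fun_eq_card, Fintype.card_fin] at hUdim
  have hU : IsMTS Q k U := ⟨hUts, by omega⟩
  have hWo : W ≤ orth hQ W := ts_le_orth hQ hW
  -- the maximal totally singular subspace containing `W`
  set M1 := (U ⊓ orth hQ W) ⊔ W with hM1def
  have hWM1 : W ≤ M1 := le_sup_right
  have hM1ts : Geo.IsTotallySingularQuad Q M1 := by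
    intro v hv
    obtain ⟨a, ha, w, hw, rfl⟩ := Submodule.mem_sup.1 hv
    rw [Submodule.mem_inf, mem_orth] at ha
    rw [Q_add Q, hUts a ha.1, hW w hw, pol_comm, ha.2 w hw]
    ring
  have hM1dim : Module.finrank F M1 = k := by
    have h1 := Submodule.finrank_sup_add_finrank_inf_eq (U ⊓ orth hQ W) W
    have h2 : (U ⊓ orth hQ W) ⊓ W = U ⊓ W := by rw [inf_assoc, inf_eq_right.2 hWo]
    have h3 := finrank_inf_orth hQ U W
    rw [mts_orth hQ hcard hU, hU.dim, inf_comm W U] at h3
    rw [h2] at h1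
    rw [hM1def]
    omega
  have hM1 : IsMTS Q k M1 := ⟨hM1ts, hM1dim⟩
  obtain ⟨v, hv, hvW⟩ := exists_indep W 2 (by omega)
  obtain ⟨e3, he3M, he3W⟩ := exists_mem_not_mem W M1 (by rw [hM1dim]; omega)
  have hu : LinearIndependent F (Fin.cons e3 v : Fin 3 → (Fin n → F)) := by
    rw [linearIndependent_fin_cons]
    refine ⟨hv, ?_⟩
    intro hmem
    apply he3W
    have hle : Submodule.span F (Set.range v) ≤ W := by
      rw [Submodule.span_le]
      rintro _ ⟨j, rfl⟩
      exact hvW j
    exact hle hmem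
  have huM : ∀ i, (Fin.cons e3 v : Fin 3 → (Fin n → F)) i ∈ M1 := by
    intro i
    refine Fin.cases ?_ (fun j => ?_) i
    · rw [Fin.cons_zero]; exact he3M
    · rw [Fin.cons_succ]; exact hWM1 (hvW j)
  have hu0 : (Fin.cons e3 v : Fin 3 → (Fin n → F)) 0 = e3 := Fin.cons_zero _ _
  have hu1 : (Fin.cons e3 v : Fin 3 → (Fin n → F)) 1 = v 0 := Fin.cons_succ _ _ 0
  refine ⟨Geo.subspaceStabilizer M1 ⊓ Geo.omegaGL Q, ?_, ?_⟩
  · have hle : Geo.subspaceStabilizer W ⊓ Geo.omegaGL Q ≤ Geo.subspaceStabilizer M1 ⊓ Geo.omegaGL Q := by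
      intro g hg
      rw [Subgroup.mem_inf] at hg ⊢
      refine ⟨?_, hg.2⟩
      have hgW := (mem_subStab_iff_gmap W g).1 hg.1
      rw [mem_subStab_iff_gmap]
      have hpar := parity_omega hQ hcard hM1 hg.2
      have h1 : W ≤ M1 ⊓ gmap g M1 := by
        apply le_inf hWM1
        calc W = gmap g W := hgW.symm
          _ ≤ gmap g M1 := gmap_mono g hWM1
      have h2 := Submodule.finrank_mono h1
      have h3 : Module.finrank F ↥(M1 ⊓ gmap g M1) ≤ Module.finrank F M1 := Submodule.finrank_mono inf_le_left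
      have h4 : Module.finrank F ↥(M1 ⊓ gmap g M1) = k := by
        rw [Nat.even_iff] at hpar
        omega
      have e1 : M1 ⊓ gmap g M1 = M1 := by
        apply Submodule.eq_of_le_of_finrank_le inf_le_left
        rw [h4, hM1dim]
      have e2 : M1 ⊓ gmap g M1 = gmap g M1 := by
        apply Submodule.eq_of_le_of_finrank_le inf_le_right
        rw [h4, finrank_gmap, hM1dim]
      rw [← e2]; exact e1
    refine lt_of_le_of_ne hle ?_
    intro heq
    obtain ⟨g, hg, hge, hgM⟩ := exists_sl hQ M1 hM1ts _ hu huM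
    have hgK : g ∈ Geo.subspaceStabilizer M1 ⊓ Geo.omegaGL Q := by
      rw [Subgroup.mem_inf]
      exact ⟨(mem_subStab_iff_gmap M1 g).2 hgM, hg⟩
    rw [← heq, Subgroup.mem_inf] at hgK
    have hgW := (mem_subStab_iff_gmap W g).1 hgK.1
    rw [hu0, hu1] at hge
    have hmem : Matrix.mulVec (g : Matrix (Fin n) (Fin n) F) (v 0) ∈ W := by
      rw [← hgW]; exact mulVec_mem_gmap g (hvW 0)
    rw [hge] at hmem
    apply he3W
    have := W.sub_mem hmem (hvW 0)
    rwa [add_sub_cancel_left] at this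
  · refine lt_of_le_of_ne inf_le_right ?_
    intro heq
    obtain ⟨g, hg, x, hx, hgx⟩ := exists_move hQ M1 hM1ts _ hu huM
    rw [← heq, Subgroup.mem_inf] at hg
    have := (mem_subStab_iff_gmap M1 g).1 hg.1
    apply hgx
    rw [← this]
    exact mulVec_mem_gmap g hx

end Cfsg.Agent.S5686
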