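import Cfsg.Statements.S5687
import Cfsg.Agent.Lib.Helper37.ParabolicBridge

set_option autoImplicit false
open Cfsg

namespace Cfsg.Agent.S5687

/-- Let F be a finite field with q elements, n ≥ 13 even, Q a non-degenerate quadratic form on F^n of minus type (no subspace of dimension n/2 is totally singular), and Ω the commutator subgroup of the isometry group of Q, viewed inside GL_n(F). The elements of Ω stabilising a non-zero subspace on which Q vanishes form a maximal subgroup of Ω. -/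
theorem result {F : Type*} [Field F] [Fintype F] {n : ℕ} (hn : 13 ≤ n) (heven : Even n) (Q : (Fin n → F) → F) (hQ : Cfsg.Geo.IsNondegenerateQuadraticForm Q) (hminus : ¬ Cfsg.Geo.IsPlusTypeOn Q ⊤) (W : Submodule F (Fin n → F)) (hW0 : W ≠ ⊥) (hW : Cfsg.Geo.IsTotallySingularQuad Q W) : Cfsg.Geo.IsMaximalIn (Cfsg.Geo.omegaGL Q) (Cfsg.Geo.subspaceStabilizer W ⊓ Cfsg.Geo.omegaGL Q) := by
  classical
  have hQ' := Cfsg.Agent.Lib.Helper37.toQF_nondeg Q hQ
  have hfr : Module.finrank F (Fin n → F) = n := by simp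
  have hn5 : 5 ≤ Module.finrank F (Fin n → F) := by rw [hfr]; omega
  have hn2 : (2 : F) = 0 → 7 ≤ Module.finrank F (Fin n → F) := by intro _; rw [hfr]; omega
  show Cfsg.Geo.IsMaximalIn (Cfsg.Geo.omegaGL ⇑(Cfsg.Agent.Lib.Helper37.toQF Q hQ))
    (Cfsg.Geo.subspaceStabilizer W ⊓ Cfsg.Geo.omegaGL ⇑(Cfsg.Agent.Lib.Helper37.toQF Q hQ))
  apply Cfsg.Agent.Lib.Helper37.isMaximalIn_stab_of
  · exact Cfsg.Agent.Lib.Helper37.exists_not_mem_stabSub _ hQ' hn5 hn2 W hW hW0
  · intro M hM g hgM hg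
    refine Cfsg.Agent.Lib.Helper37.parabolic_max _ hQ' hn5 hn2 W hW ?_ M hM g hgM hg
    intro U hWU hU0 hUdim
    have h1 := Cfsg.Agent.Lib.Helper37.two_mul_finrank_le_of_ts _ hQ' U hU0
    rw [hfr] at h1 ⊢
    refine lt_of_le_of_ne h1 ?_
    intro h2
    apply hminus
    refine ⟨U, le_top, hU0, ?_⟩
    rw [finrank_top, hfr]
    exact h2

end Cfsg.Agent.S5687
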