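import Cfsg.Statements.S5693
import Cfsg.Agent.Lib.Helper94.Decomp4Plus2b
import Cfsg.Agent.Lib.Helper94.DecompPlusOdd

set_option autoImplicit false
open Cfsg

namespace Cfsg.Agent.S5693

/-- Let F be a finite field with q elements, n ≥ 13 even, Q a non-degenerate quadratic form on F^n of plus type (some subspace of dimension n/2 is totally singular), and Ω the commutator subgroup of the isometry group of Q, viewed inside GL_n(F). Let D be a decomposition of F^n into t ≥ 2 pairwise orthogonal, pairwise Q-isometric subspaces of equal dimension k on which the polar form is non-degenerate (with, for even k, all members of plus type or t even; for odd k, q odd and square discriminant), in one of the cases: k = 2 with q = 3; k = 2 with plus-type members and q ∈ {2, 4, 5}; k = 3 with q = 3; k = 4 with plus-type members and q = 2. Then the elements of Ω permuting the members of D form a subgroup that is not maximal: some subgroup lies strictly between it and Ω. -/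
theorem result {F : Type*} [Field F] [Fintype F] {n : ℕ} (hn : 13 ≤ n) (heven : Even n) (Q : (Fin n → F) → F) (hQ : Cfsg.Geo.IsNondegenerateQuadraticForm Q) (hplus : Cfsg.Geo.IsPlusTypeOn Q ⊤) {t : ℕ} (k : ℕ) (D : Fin t → Submodule F (Fin n → F)) (hD : Cfsg.Geo.IsOrthogonalMDecomposition Q k D) (hke : Even k → ((∀ i, Cfsg.Geo.IsPlusTypeOn Q (D i)) ∨ Even t)) (hko : Odd k → (Odd (Fintype.card F) ∧ Cfsg.Geo.HasSquareDiscriminant Q)) (hcase : ((k = 2 ∧ (Fintype.card F = 3 ∨ ((∀ i, Cfsg.Geo.IsPlusTypeOn Q (D i)) ∧ (Fintype.card F = 2 ∨ Fintype.card F = 4 ∨ Fintype.card F = 5)))) ∨ (k = 3 ∧ Fintype.card F = 3) ∨ (k = 4 ∧ Fintype.card F = 2 ∧ ∀ i, Cfsg.Geo.IsPlusTypeOn Q (D i)))) : ∃ K : Subgroup (Matrix.GeneralLinearGroup (Fin n) F), Cfsg.Geo.decompositionStabilizer D ⊓ Cfsg.Geo.omegaGL Q < K ∧ K < Cfsg.Geo.omegaGL Q := by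
  open Cfsg.Agent.Lib.Helper94 in
  have hcard : n = t * k := by
    have := card_eq_mul hD.decomp.decomp
    simpa using this
  rcases hcase with ⟨rfl, hc⟩ | ⟨rfl, hq⟩ | ⟨rfl, hq, hpl⟩
  · have ht : 7 ≤ t := by omega
    rcases hc with hq | ⟨hpl, hq | hq | hq⟩
    · -- q = 3
      have h3 := f3_three hq
      have h2 : (2 : F) ≠ 0 := by
        intro h; apply one_ne_zero (α := F); linear_combination h3 - h
      have hsq : ∀ α : F, α ≠ 0 → α ^ 2 = 1 ∨ α ^ 2 = -1 := by
        intro α hα
        left
        rcases f3_cases hq α with h | h | h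
        · exact absurd h hα
        · rw [h]; ring
        · rw [h]; ring
      by_cases hp0 : Cfsg.Geo.IsPlusTypeOn Q (D ⟨0, by omega⟩)
      · have hpl : ∀ i, Cfsg.Geo.IsPlusTypeOn Q (D i) := fun i => plus_transport (hD.isometric _ i) hp0
        exact decomp2_plus_odd hQ h2 hsq D hD hpl (by omega)
      · have hmin : ∀ i, ¬ Cfsg.Geo.IsPlusTypeOn Q (D i) := fun i hpi =>
          hp0 (plus_transport (hD.isometric i _) hpi)
        exact decomp2_not_max hQ hq D hD hmin
    · exact decomp2_plus_two hQ hq D hD hpl (by omega)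
    · exact decomp2_plus_four hQ hq D hD hpl (by omega)
    · -- q = 5
      have h5 : (5 : F) = 0 := by
        have := card_nsmul_eq_zero (G := F) (x := 1)
        rw [hq] at this
        simpa using this
      have h2 : (2 : F) ≠ 0 := by
        intro h; apply one_ne_zero (α := F); linear_combination h5 - 2 * h
      have hsq : ∀ α : F, α ≠ 0 → α ^ 2 = 1 ∨ α ^ 2 = -1 := by
        intro α hα
        have h4 : α ^ 4 = 1 := by
          have := FiniteField.pow_card_sub_one_eq_one α hα
          rwa [hq] at this
        have : (α ^ 2 - 1) * (α ^ 2 + 1) = 0 := by linear_combination h4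
        rcases mul_eq_zero.mp this with h | h
        · left; linear_combination h
        · right; linear_combination h
      exact decomp2_plus_odd hQ h2 hsq D hD hpl (by omega)
  · exact decomp3_not_max hQ hq D hD
  · exact decomp4_plus_two hQ hq D hD hpl (by omega)

end Cfsg.Agent.S5693
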