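import Cfsg.Statements.S5698
import Cfsg.Agent.Lib.Helper94.TSMoves

set_option autoImplicit false
open Cfsg

namespace Cfsg.Agent.S5698

/-- Let F be a finite field with q elements, n ≥ 13 even, Q a non-degenerate quadratic form on F^n of plus type (some subspace of dimension n/2 is totally singular), and Ω the commutator subgroup of the isometry group of Q, viewed inside GL_n(F). Suppose n/2 is odd and let D be a decomposition of F^n into two complementary subspaces of dimension n/2 on each of which Q vanishes. Then the elements of Ω preserving or interchanging the two subspaces form a subgroup that is not maximal: some subgroup lies strictly between it and Ω. -/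
theorem result {F : Type*} [Field F] [Fintype F] {n : ℕ} (hn : 13 ≤ n) (heven : Even n) (Q : (Fin n → F) → F) (hQ : Cfsg.Geo.IsNondegenerateQuadraticForm Q) (hplus : Cfsg.Geo.IsPlusTypeOn Q ⊤) (k : ℕ) (hk : 2 * k = n) (hko : Odd k) (D : Fin 2 → Submodule F (Fin n → F)) (hD : Cfsg.Geo.IsMDecomposition k D) (hts : ∀ i, Cfsg.Geo.IsTotallySingularQuad Q (D i)) : ∃ K : Subgroup (Matrix.GeneralLinearGroup (Fin n) F), Cfsg.Geo.decompositionStabilizer D ⊓ Cfsg.Geo.omegaGL Q < K ∧ K < Cfsg.Geo.omegaGL Q := by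
  open Cfsg.Agent.Lib.Helper94 in
  classical
  have hcard : Fintype.card (Fin n) = 2 * k := by rw [Fintype.card_fin, hk]
  have hk3 : 3 ≤ k := by omega
  have hM0 : IsMTS Q k (D 0) := ⟨hts 0, hD.finrank_eq 0⟩
  have hM1 : IsMTS Q k (D 1) := ⟨hts 1, hD.finrank_eq 1⟩
  have hdisj : D 0 ⊓ D 1 = ⊥ := (hD.indep.pairwiseDisjoint (by decide : (0 : Fin 2) ≠ 1)).eq_bot
  have h01 : ∀ i : Fin 2, i = 0 ∨ i = 1 := by decide
  have hD01 : D 0 ≠ D 1 := by
    intro heq
    have h1 : D 0 ⊓ D 1 = D 0 := by rw [← heq, inf_idem]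
    rw [hdisj] at h1
    have h2 := hD.finrank_eq 0
    rw [← h1, finrank_bot] at h2
    omega
  obtain ⟨u, hu, huM⟩ := exists_indep (D 0) 3 (by rw [hD.finrank_eq 0]; exact hk3)
  refine ⟨Geo.subspaceStabilizer (D 0) ⊓ Geo.omegaGL Q, ?_, ?_⟩
  · -- the decomposition stabiliser lies in the stabiliser of `D 0`
    have hle : Geo.decompositionStabilizer D ⊓ Geo.omegaGL Q ≤ Geo.subspaceStabilizer (D 0) ⊓ Geo.omegaGL Q := by
      intro g hg
      rw [Subgroup.mem_inf] at hg ⊢
      refine ⟨?_, hg.2⟩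
      obtain ⟨σ, hσ⟩ := (mem_decStab' D g).1 hg.1
      rw [mem_subStab_iff_gmap]
      have h0 : gmap g (D 0) = D (σ 0) := hσ 0
      rcases h01 (σ 0) with h | h
      · rw [h0, h]
      · exfalso
        have hpar := parity_omega hQ hcard hM0 hg.2
        rw [h0, h, hdisj, finrank_bot, zero_add] at hpar
        exact (Nat.not_even_iff_odd.2 hko) hpar
    refine lt_of_le_of_ne hle ?_
    intro heq
    obtain ⟨g, hg, hgfix, hgy⟩ := exists_sc hQ (D 0) (hts 0) u hu huM
    have hgK : g ∈ Geo.subspaceStabilizer (D 0) ⊓ Geo.omegaGL Q := by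
      rw [Subgroup.mem_inf]
      refine ⟨?_, hg⟩
      rw [mem_subStab_iff_gmap]
      apply gmap_eq_of_forall_mem
      intro y hy
      rw [hgfix y hy]; exact hy
    rw [← heq, Subgroup.mem_inf] at hgK
    obtain ⟨σ, hσ⟩ := (mem_decStab' D g).1 hgK.1
    have h0 : gmap g (D 0) = D (σ 0) := hσ 0
    have h1 : gmap g (D 1) = D (σ 1) := hσ 1
    have hg0 : gmap g (D 0) = D 0 := by
      apply gmap_eq_of_forall_mem
      intro y hy
      rw [hgfix y hy]; exact hy
    have hσ0 : σ 0 = 0 := by
      rcases h01 (σ 0) with h | h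
      · exact h
      · exfalso
        rw [hg0, h] at h0
        exact hD01 h0
    have hσ1 : σ 1 = 1 := by
      rcases h01 (σ 1) with h | h
      · exfalso
        have := σ.injective (h.trans hσ0.symm)
        exact absurd this (by decide)
      · exact h
    rw [hσ1] at h1
    -- a vector of `D 1` which is moved out of `D 1`
    have hnot : u 0 ∉ Submodule.span F (u '' {j | j ≠ 0}) ⊔ orth hQ (D 1) := by
      rw [mts_orth hQ hcard hM1]
      intro hmem
      obtain ⟨x, hx, d, hd, hxd⟩ := Submodule.mem_sup.1 hmem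
      have hXM : Submodule.span F (u '' {j | j ≠ 0}) ≤ D 0 := by
        rw [Submodule.span_le]
        rintro _ ⟨j, _, rfl⟩
        exact huM j
      have hd0 : d ∈ D 0 ⊓ D 1 := by
        refine ⟨?_, hd⟩
        have : d = u 0 - x := by rw [← hxd]; abel
        rw [this]
        exact (D 0).sub_mem (huM 0) (hXM hx)
      rw [hdisj, Submodule.mem_bot] at hd0
      rw [hd0, add_zero] at hxd
      have hnotmem : u 0 ∉ Submodule.span F (u '' {j | j ≠ 0}) := hu.notMem_span_image (by simp)
      rw [← hxd] at hnotmem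
      exact hnotmem hx
    obtain ⟨y, hyD, hyX, hye⟩ := exists_dual_vec hQ (D 1) _ (u 0) hnot
    have hy1 : pol Q y (u 1) = 0 := hyX _ (Submodule.subset_span ⟨1, by decide, rfl⟩)
    have hy2 : pol Q y (u 2) = 0 := hyX _ (Submodule.subset_span ⟨2, by decide, rfl⟩)
    have hgy' := hgy y hy1 hy2
    rw [hye, one_smul] at hgy'
    have hmem : Matrix.mulVec (g : Matrix (Fin n) (Fin n) F) y ∈ D 1 := by
      rw [← h1]; exact mulVec_mem_gmap g hyD
    rw [hgy'] at hmem
    have hu1 : u 1 ∈ D 0 ⊓ D 1 := by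
      refine ⟨huM 1, ?_⟩
      have := (D 1).sub_mem hyD hmem
      rwa [sub_sub_cancel] at this
    rw [hdisj, Submodule.mem_bot] at hu1
    exact hu.ne_zero 1 hu1
  · refine lt_of_le_of_ne inf_le_right ?_
    intro heq
    obtain ⟨g, hg, x, hx, hgx⟩ := exists_move hQ (D 0) (hts 0) u hu huM
    rw [← heq, Subgroup.mem_inf] at hg
    have := (mem_subStab_iff_gmap (D 0) g).1 hg.1
    apply hgx
    rw [← this]
    exact mulVec_mem_gmap g hx

end Cfsg.Agent.S5698
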