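import Cfsg.Statements.S5713
import Cfsg.Agent.Lib.Helper59.MinDegree
import Cfsg.Agent.Lib.Helper59.CommThreeCycle

set_option autoImplicit false
open Cfsg

namespace Cfsg.Agent.S5713

open Cfsg.Agent.Lib.Helper59.MD

/-- A classification-free minimal-degree bound. Let G be a finite group acting faithfully and primitively on a finite set Ω with n elements, and suppose that the image of G in the symmetric group on Ω does not contain the alternating group on Ω. Then every non-identity element of G moves at least (√n − 1)/2 points of Ω, that is, it fixes at most n − (√n − 1)/2 points. -/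
theorem result {G Ω : Type*} [Group G] [Finite G] [MulAction G Ω] [FaithfulSMul G Ω] [Fintype Ω] [DecidableEq Ω]
    (hprim : MulAction.IsPreprimitive G Ω)
    (hA : ¬ alternatingGroup Ω ≤ (MulAction.toPermHom G Ω).range)
    (g : G) (hg : g ≠ 1) :
    (Real.sqrt (Fintype.card Ω) - 1) / 2 ≤ (Fintype.card Ω : ℝ) - Nat.card (MulAction.fixedBy Ω g) := by
  have : Fintype G := Fintype.ofFinite G
  -- the range is primitive
  have hprimR : MulAction.IsPreprimitive (MulAction.toPermHom G Ω).range Ω := by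
    let φ : G → (MulAction.toPermHom G Ω).range := fun g => ⟨MulAction.toPermHom G Ω g, ⟨g, rfl⟩⟩
    let f : Ω →ₑ[φ] Ω :=
      { toFun := id
        map_smul' := fun _ _ => rfl }
    have hφ : Function.Surjective φ := by
      rintro ⟨_, g, rfl⟩; exact ⟨g, rfl⟩
    exact (MulAction.isPreprimitive_congr hφ (f := f) Function.bijective_id).mp hprim
  -- a moved point
  obtain ⟨x₀, hx₀⟩ : ∃ x₀ : Ω, g • x₀ ≠ x₀ := by
    by_contra hcon
    push Not at hcon
    apply hg
    apply FaithfulSMul.eq_of_smul_eq_smul (α := Ω)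
    intro a
    rw [hcon a, one_smul]
  -- supports of conjugates never meet in exactly one point
  have hint : ∀ h k : G,
      Nat.card {ω : Ω // (h * g * h⁻¹) • ω ≠ ω ∧ (k * g * k⁻¹) • ω ≠ ω} ≠ 1 := by
    intro h k hcard
    rw [Nat.card_eq_one_iff_unique] at hcard
    obtain ⟨hsub, ⟨⟨c, hc1, hc2⟩⟩⟩ := hcard
    set σ : Equiv.Perm Ω := MulAction.toPermHom G Ω (h * g * h⁻¹) with hσ
    set τ : Equiv.Perm Ω := MulAction.toPermHom G Ω (k * g * k⁻¹) with hτ
    have h3 : (σ * τ * σ⁻¹ * τ⁻¹).IsThreeCycle := by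
      apply comm_isThreeCycle σ τ c hc1 hc2
      intro ω h1 h2
      have := hsub.elim (⟨ω, h1, h2⟩ : {ω : Ω // (h * g * h⁻¹) • ω ≠ ω ∧ (k * g * k⁻¹) • ω ≠ ω})
        ⟨c, hc1, hc2⟩
      exact congrArg Subtype.val this
    have hmem : σ * τ * σ⁻¹ * τ⁻¹ ∈ (MulAction.toPermHom G Ω).range := by
      have hσm : σ ∈ (MulAction.toPermHom G Ω).range := ⟨_, rfl⟩
      have hτm : τ ∈ (MulAction.toPermHom G Ω).range := ⟨_, rfl⟩
      exact Subgroup.mul_mem _ (Subgroup.mul_mem _ (Subgroup.mul_mem _ hσm hτm)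
        (Subgroup.inv_mem _ hσm)) (Subgroup.inv_mem _ hτm)
    exact hA (Equiv.Perm.alternatingGroup_le_of_isPreprimitive_of_isThreeCycle_mem hprimR h3 hmem)
  have hmain := main_bound_nat (G := G) (Ω := Ω) g x₀ hx₀ hint
  have hfix := card_fixed_add_card_moved (G := G) (Ω := Ω) g
  -- translate to the statement
  obtain ⟨m, hm⟩ : ∃ m : ℕ, m = Nat.card {ω : Ω // g • ω ≠ ω} := ⟨_, rfl⟩
  rw [← hm] at hmain hfix
  have hsqrt : Real.sqrt (Fintype.card Ω) ≤ 2 * (m : ℝ) + 1 := by
    have h1 : ((Fintype.card Ω : ℕ) : ℝ) ≤ (2 * (m : ℝ) + 1) ^ 2 := by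
      exact_mod_cast hmain
    calc Real.sqrt (Fintype.card Ω) ≤ Real.sqrt ((2 * (m : ℝ) + 1) ^ 2) := Real.sqrt_le_sqrt h1
      _ = 2 * (m : ℝ) + 1 := Real.sqrt_sq (by positivity)
  have hcast : (Fintype.card Ω : ℝ) - Nat.card (MulAction.fixedBy Ω g) = (m : ℝ) := by
    have : ((Nat.card (MulAction.fixedBy Ω g) + m : ℕ) : ℝ) = (Fintype.card Ω : ℝ) := by
      exact_mod_cast hfix
    push_cast at this
    linarith
  rw [hcast]
  linarith

end Cfsg.Agent.S5713
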