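import Cfsg.Statements.S5726

set_option autoImplicit false
open Cfsg

namespace Cfsg.Agent.S5726

open MulAction

lemma stabilizer_sub {G Ω : Type*} [Group G] [MulAction G Ω] (P : Subgroup G) (ω : Ω) :
    stabilizer P ω = (stabilizer G ω).subgroupOf P := by
  ext g
  rw [Subgroup.mem_subgroupOf, mem_stabilizer_iff, mem_stabilizer_iff]
  rfl

/-- In a transitive action, the orbits of a Sylow `p`-subgroup have size divisible by the
`p`-part of the degree. -/
lemma sylow_orbit_dvd {G Ω : Type*} [Group G] [Finite G] [MulAction G Ω] [Finite Ω]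
    [IsPretransitive G Ω] {p : ℕ} [Fact p.Prime] (P : Sylow p G) (ω : Ω) (k : ℕ)
    (hk : p ^ k ∣ Nat.card Ω) : p ^ k ∣ (orbit (P : Subgroup G) ω).ncard := by
  set H := stabilizer G ω with hH
  have hHi : H.index = Nat.card Ω := index_stabilizer_of_transitive G ω
  have h1 : (H ⊓ (P : Subgroup G)).relIndex P * (P : Subgroup G).index = (H ⊓ (P : Subgroup G)).index :=
    Subgroup.relIndex_mul_index inf_le_right
  have h2 : (H ⊓ (P : Subgroup G)).relIndex H * H.index = (H ⊓ (P : Subgroup G)).index :=
    Subgroup.relIndex_mul_index inf_le_left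
  have h3 : p ^ k ∣ (H ⊓ (P : Subgroup G)).relIndex P * (P : Subgroup G).index := by
    rw [h1, ← h2, hHi]
    exact Dvd.dvd.mul_left hk _
  have hcop : (p ^ k).Coprime (P : Subgroup G).index := by
    apply Nat.Coprime.pow_left
    exact (Nat.Prime.coprime_iff_not_dvd (Fact.out)).mpr P.not_dvd_index
  have h4 := hcop.dvd_of_dvd_mul_right h3
  rw [Subgroup.inf_relIndex_right] at h4
  rw [← index_stabilizer, stabilizer_sub]
  exact h4

theorem result {G Ω : Type*} [Group G] [Finite G] [MulAction G Ω] [FaithfulSMul G Ω] [Fintype Ω] (htr : MulAction.IsPretransitive G Ω)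
    (p k : ℕ) (hp : p.Prime) (hk : 1 ≤ k) (hΩ : Fintype.card Ω = p ^ k) :
    ∃ g : G, orderOf g = p ∧ ∀ ω : Ω, g • ω ≠ ω := by
  have : Fact p.Prime := ⟨hp⟩
  obtain ⟨P⟩ : Nonempty (Sylow p G) := inferInstance
  have hcard : Nat.card Ω = p ^ k := by rw [Nat.card_eq_fintype_card, hΩ]
  have horb : ∀ ω : Ω, orbit (P : Subgroup G) ω = Set.univ := by
    intro ω
    have h1 := sylow_orbit_dvd P ω k (by rw [hcard])
    have h2 : (orbit (P : Subgroup G) ω).ncard ≤ p ^ k := by
      rw [← hcard]; exact Set.ncard_le_card _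
    have h3 : 0 < (orbit (P : Subgroup G) ω).ncard := by
      rw [Set.ncard_pos]
      exact ⟨ω, mem_orbit_self ω⟩
    have h4 : (orbit (P : Subgroup G) ω).ncard = p ^ k := le_antisymm h2 (Nat.le_of_dvd h3 h1)
    apply Set.eq_univ_of_forall
    by_contra hne
    push Not at hne
    obtain ⟨x, hx⟩ := hne
    have hlt : (orbit (P : Subgroup G) ω).ncard < (Set.univ : Set Ω).ncard := by
      apply Set.ncard_lt_ncard
      · exact ⟨Set.subset_univ _, fun h => hx (h (Set.mem_univ x))⟩
      · exact Set.finite_univ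
    rw [Set.ncard_univ, hcard, h4] at hlt
    exact lt_irrefl _ hlt
  -- P is nontrivial
  have hΩ2 : 1 < Fintype.card Ω := by
    rw [hΩ]; exact Nat.one_lt_pow (by omega) hp.one_lt
  obtain ⟨ω0, ω1, hne⟩ := Fintype.exists_pair_of_one_lt_card hΩ2
  have : Nontrivial (P : Subgroup G) := by
    have : ω1 ∈ orbit (P : Subgroup G) ω0 := by rw [horb]; trivial
    obtain ⟨g, hg⟩ := this
    refine ⟨g, 1, fun h => ?_⟩
    have hg' : g • ω0 = ω1 := hg
    rw [h, one_smul] at hg'
    exact hne hg'
  have := (P.isPGroup').center_nontrivial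
  have hZp : IsPGroup p (Subgroup.center (P : Subgroup G)) := (P.isPGroup').to_subgroup _
  obtain ⟨n, hn⟩ := hZp.exists_card_eq
  have hn0 : n ≠ 0 := by
    rintro rfl
    rw [pow_zero] at hn
    have : Subsingleton (Subgroup.center (P : Subgroup G)) := (Nat.card_eq_one_iff_unique.mp hn).1
    exact not_subsingleton _ this
  have hdvd : p ∣ Nat.card (Subgroup.center (P : Subgroup G)) := by
    rw [hn]; exact dvd_pow_self p hn0
  obtain ⟨z, hz⟩ := exists_prime_orderOf_dvd_card' p hdvd
  refine ⟨((z : (P : Subgroup G)) : G), ?_, ?_⟩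
  · rw [Subgroup.orderOf_coe, Subgroup.orderOf_coe, hz]
  · intro ω hfix
    -- z fixes every point
    have hall : ∀ x : Ω, ((z : (P : Subgroup G)) : G) • x = x := by
      intro x
      have : x ∈ orbit (P : Subgroup G) ω := by rw [horb]; trivial
      obtain ⟨g, rfl⟩ := this
      have hcomm : (z : (P : Subgroup G)) * g = g * z := by
        have := z.2
        rw [Subgroup.mem_center_iff] at this
        exact (this g).symm
      show ((z : (P : Subgroup G)) : G) • ((g : G) • ω) = (g : G) • ω
      rw [smul_smul, ← Subgroup.coe_mul, hcomm, Subgroup.coe_mul, ← smul_smul, hfix]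
    have h1 : ((z : (P : Subgroup G)) : G) = 1 := by
      apply FaithfulSMul.eq_of_smul_eq_smul (α := Ω)
      intro x
      rw [hall x, one_smul]
    have : orderOf z = 1 := by
      rw [orderOf_eq_one_iff]
      ext
      exact h1
    rw [hz] at this
    exact hp.one_lt.ne' this

end Cfsg.Agent.S5726
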