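import Cfsg.Statements.S5727
import Cfsg.Agent.S5726

set_option autoImplicit false
open Cfsg

namespace Cfsg.Agent.S5727

open MulAction

/-- A finite `p`-group acting faithfully on a set of size `m * p` with `m < p`, all of whose orbits
have size `p`, contains a fixed-point-free element of order `p`. -/
lemma pgroup_derangement {P Ω : Type*} [Group P] [Finite P] [MulAction P Ω] [FaithfulSMul P Ω]
    [Fintype Ω] (p m : ℕ) (hp : p.Prime) (hm : 1 ≤ m) (hmp : m < p) (hΩ : Fintype.card Ω = m * p)
    (hP : IsPGroup p P) (horb : ∀ ω : Ω, (orbit P ω).ncard = p) :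
    ∃ g : P, orderOf g = p ∧ ∀ ω : Ω, g • ω ≠ ω := by
  classical
  have : Fact p.Prime := ⟨hp⟩
  have := Fintype.ofFinite P
  have hidx : ∀ ω : Ω, (stabilizer P ω).index = p := fun ω => by
    rw [index_stabilizer, horb]
  obtain ⟨a, ha⟩ := hP.exists_card_eq
  have hΩpos : 0 < Fintype.card Ω := by
    rw [hΩ]; exact Nat.mul_pos (by omega) hp.pos
  obtain ⟨ω0⟩ : Nonempty Ω := Fintype.card_pos_iff.mp hΩpos
  have ha0 : a ≠ 0 := by
    rintro rfl
    have h1 := (stabilizer P ω0).index_dvd_card
    rw [hidx, ha, pow_zero] at h1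
    exact hp.one_lt.ne' (Nat.dvd_one.mp h1)
  have hminFac : (Nat.card P).minFac = p := by
    rw [ha]; exact hp.pow_minFac ha0
  have hnormal : ∀ ω : Ω, (stabilizer P ω).Normal := fun ω =>
    Subgroup.normal_of_index_eq_minFac_card (by rw [hidx, hminFac])
  -- c = order of each stabilizer
  have hstab : ∀ ω : Ω, Nat.card (stabilizer P ω) * p = Nat.card P := fun ω => by
    rw [← hidx ω]; exact Subgroup.card_mul_index _
  -- an element fixing a point fixes its whole orbit
  have hfixorb : ∀ (g : P) (ω : Ω), g • ω = ω → ∀ h : P, g • (h • ω) = h • ω := by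
    intro g ω hg h
    have hmem : g ∈ stabilizer P ω := hg
    have := (hnormal ω).conj_mem g hmem h⁻¹
    rw [mem_stabilizer_iff] at this
    have h2 : g • (h • ω) = h • ((h⁻¹ * g * h⁻¹⁻¹) • ω) := by
      simp [smul_smul, mul_assoc]
    rw [h2, this]
  -- double counting
  let f : P → ℕ := fun g => (Finset.univ.filter (fun ω : Ω => g • ω = ω)).card
  have hdouble : ∑ g : P, f g = ∑ ω : Ω, (Finset.univ.filter (fun g : P => g • ω = ω)).card := by
    simp only [f, Finset.card_filter]
    exact Finset.sum_comm
  have hstabcard : ∀ ω : Ω, (Finset.univ.filter (fun g : P => g • ω = ω)).card = Nat.card (stabilizer P ω) := by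
    intro ω
    rw [Nat.card_eq_fintype_card, Fintype.card_subtype]
    rfl
  by_contra hcon
  push Not at hcon
  -- every element has a fixed point or does not have order p
  have hfixed : ∀ g : P, ∃ ω : Ω, g • ω = ω := by
    intro g
    by_contra hg
    push Not at hg
    have hgp : g ^ p = 1 := by
      apply FaithfulSMul.eq_of_smul_eq_smul (α := Ω)
      intro ω
      have := hnormal ω
      have h3 := Subgroup.pow_index_mem (stabilizer P ω) g
      rw [hidx] at h3
      rw [one_smul]
      exact h3
    have hg1 : g ≠ 1 := by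
      rintro rfl
      exact hg ω0 (one_smul _ _)
    have hord : orderOf g = p := by
      have h4 : orderOf g ∣ p := orderOf_dvd_of_pow_eq_one hgp
      rcases (Nat.dvd_prime hp).mp h4 with h5 | h5
      · exact absurd (orderOf_eq_one_iff.mp h5) hg1
      · exact h5
    obtain ⟨ω, hω⟩ := hcon g hord
    exact hg ω hω
  have hfge : ∀ g : P, p ≤ f g := by
    intro g
    obtain ⟨ω, hω⟩ := hfixed g
    have hsub : orbit P ω ⊆ ((Finset.univ.filter (fun x : Ω => g • x = x) : Finset Ω) : Set Ω) := by
      rintro _ ⟨h, rfl⟩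
      simp only [Finset.coe_filter, Finset.mem_univ, true_and, Set.mem_ofPred_eq]
      exact hfixorb g ω hω h
    have := Set.ncard_le_ncard hsub (Finset.finite_toSet _)
    rw [horb, Set.ncard_coe_finset] at this
    exact this
  have hf1 : f 1 = m * p := by
    simp only [f, one_smul, Finset.filter_true_of_mem, implies_true, Finset.card_univ, hΩ]
  -- sum lower bound
  have hsum_lower : m * p + (Fintype.card P - 1) * p ≤ ∑ g : P, f g := by
    have h1 : ∑ g : P, f g = f 1 + ∑ g ∈ Finset.univ.erase (1 : P), f g := by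
      rw [Finset.add_sum_erase _ _ (Finset.mem_univ _)]
    rw [h1, hf1]
    apply Nat.add_le_add_left
    calc (Fintype.card P - 1) * p = ∑ g ∈ Finset.univ.erase (1 : P), p := by
          rw [Finset.sum_const, Finset.card_erase_of_mem (Finset.mem_univ _), Finset.card_univ,
            smul_eq_mul]
      _ ≤ ∑ g ∈ Finset.univ.erase (1 : P), f g := Finset.sum_le_sum (fun g _ => hfge g)
  -- sum exact value
  set c := Nat.card (stabilizer P ω0) with hc
  have hcp : c * p = Nat.card P := hstab ω0
  have hcall : ∀ ω : Ω, Nat.card (stabilizer P ω) = c := by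
    intro ω
    have := hstab ω
    rw [← hcp] at this
    exact Nat.eq_of_mul_eq_mul_right hp.pos this
  have hsum_eq : ∑ g : P, f g = m * p * c := by
    rw [hdouble]
    simp only [hstabcard, hcall, Finset.sum_const, Finset.card_univ, hΩ, smul_eq_mul]
  rw [hsum_eq, ← Nat.card_eq_fintype_card, ← hcp] at hsum_lower
  have hcpos : 0 < c := by
    rcases Nat.eq_zero_or_pos c with h | h
    · rw [h, zero_mul] at hcp
      exact absurd hcp.symm (Nat.card_pos.ne')
    · exact h
  have hppos := hp.pos
  -- m*p + (c*p - 1)*p ≤ m*p*c with m < p : contradiction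
  have h5 : 1 ≤ c * p := Nat.mul_pos hcpos hppos
  obtain ⟨d, hd⟩ : ∃ d, c * p = d + 1 := ⟨c * p - 1, by omega⟩
  rw [hd, Nat.add_sub_cancel] at hsum_lower
  have h6 : m + d ≤ m * c := by
    have : (m + d) * p ≤ (m * c) * p := by
      calc (m + d) * p = m * p + d * p := by ring
        _ ≤ m * p * c := hsum_lower
        _ = (m * c) * p := by ring
    exact Nat.le_of_mul_le_mul_right this hppos
  have h7 : m * c + c ≤ c * p := by
    calc m * c + c = (m + 1) * c := by ring
      _ ≤ p * c := Nat.mul_le_mul_right _ hmp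
      _ = c * p := by ring
  omega

theorem result {G Ω : Type*} [Group G] [Finite G] [MulAction G Ω] [FaithfulSMul G Ω] [Fintype Ω] (htr : MulAction.IsPretransitive G Ω)
    (p m : ℕ) (hp : p.Prime) (hm : 1 ≤ m) (hmp : m ≤ p) (hΩ : Fintype.card Ω = m * p) :
    ∃ g : G, orderOf g = p ∧ ∀ ω : Ω, g • ω ≠ ω := by
  rcases Nat.eq_or_lt_of_le hmp with h | hlt
  · subst h
    exact Cfsg.Agent.S5726.result htr m 2 hp (by norm_num) (by rw [hΩ]; ring)
  · have : Fact p.Prime := ⟨hp⟩
    obtain ⟨P⟩ : Nonempty (Sylow p G) := inferInstance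
    have hcard : Nat.card Ω = m * p := by rw [Nat.card_eq_fintype_card, hΩ]
    have horb : ∀ ω : Ω, (orbit (P : Subgroup G) ω).ncard = p := by
      intro ω
      have h1 := Cfsg.Agent.S5726.sylow_orbit_dvd P ω 1 (by rw [hcard, pow_one]; exact Dvd.intro_left m rfl)
      rw [pow_one] at h1
      have h2 : (orbit (P : Subgroup G) ω).ncard ≤ m * p := by
        rw [← hcard]; exact Set.ncard_le_card _
      have h3 : (orbit (P : Subgroup G) ω).ncard ∣ Nat.card (P : Subgroup G) := by
        rw [← index_stabilizer]; exact Subgroup.index_dvd_card _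
      obtain ⟨a, ha⟩ := (P.isPGroup').exists_card_eq
      rw [ha] at h3
      obtain ⟨j, -, hj⟩ := (Nat.dvd_prime_pow hp).mp h3
      rw [hj] at h1 h2 ⊢
      have hj1 : j ≠ 0 := by
        rintro rfl
        rw [pow_zero] at h1
        exact hp.one_lt.ne' (Nat.dvd_one.mp h1)
      have hj2 : j < 2 := by
        by_contra hge
        push Not at hge
        have : p ^ 2 ≤ p ^ j := Nat.pow_le_pow_right hp.pos hge
        have : m * p < p * p := Nat.mul_lt_mul_of_pos_right hlt hp.pos
        nlinarith
      have : j = 1 := by omega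
      rw [this, pow_one]
    obtain ⟨g, hg1, hg2⟩ := pgroup_derangement (P := (P : Subgroup G)) p m hp hm hlt hΩ P.isPGroup' horb
    exact ⟨(g : G), by rw [Subgroup.orderOf_coe, hg1], fun ω => hg2 ω⟩

end Cfsg.Agent.S5727
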