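import Cfsg.Statements.S5728

set_option autoImplicit false
open Cfsg

namespace Cfsg.Agent.S5728

lemma mem_prime_field {p : ℕ} [Fact p.Prime] {K : Type*} [Field K] [CharP K p] [Algebra (ZMod p) K]
    (a : K) (ha : a ^ p = a) : ∃ a' : ZMod p, algebraMap (ZMod p) K a' = a := by
  have h1 : a ∈ (⊥ : Subfield K) := (Subfield.mem_bot_iff_pow_eq_self K p).mpr ha
  rw [← ZMod.fieldRange_castHom_eq_bot p] at h1
  obtain ⟨a', ha'⟩ := h1
  refine ⟨a', ?_⟩
  rw [← ha']
  congr 1
  exact Subsingleton.elim _ _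

theorem result (p s : ℕ) [Fact p.Prime] (hs : p = 2 ^ s - 1)
    (g : Equiv.Perm (GaloisField p 2)) (hg : g ∈ Cfsg.affineGroup (GaloisField p 2)) (hord : (orderOf g).Prime) :
    ∃ x ∈ Cfsg.affineGroup (GaloisField p 2), ∃ a b : ZMod p, a ≠ 0 ∧
      ∀ y : GaloisField p 2, (x * g * x⁻¹) y = algebraMap (ZMod p) (GaloisField p 2) a * y + algebraMap (ZMod p) (GaloisField p 2) b := by
  classical
  have hp : p.Prime := Fact.out
  have := Fintype.ofFinite (GaloisField p 2)
  have hcardK : Fintype.card (GaloisField p 2) = p ^ 2 := by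
    rw [← Nat.card_eq_fintype_card]; exact GaloisField.card p 2 (by norm_num)
  -- p + 1 = 2 ^ s and p is odd
  have hp2 : 2 ≤ p := hp.two_le
  have hs1 : p + 1 = 2 ^ s := by omega
  have hspos : s ≠ 0 := by
    rintro rfl
    simp at hs1
    omega
  have hpodd : 2 ∣ p - 1 := by
    have : 2 ∣ 2 ^ s := dvd_pow_self 2 hspos
    omega
  obtain ⟨a, b, hab⟩ := hg
  have hg1 : g ≠ 1 := by
    intro h
    rw [h, orderOf_one] at hord
    exact Nat.not_prime_one hord
  by_cases ha1 : (a : GaloisField p 2) = 1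
  · -- translation
    have hb : b ≠ 0 := by
      intro hb
      apply hg1
      ext y
      rw [hab, ha1, hb]; simp
    refine ⟨Equiv.mulLeft₀ b⁻¹ (inv_ne_zero hb), ⟨Units.mk0 b⁻¹ (inv_ne_zero hb), 0, fun y => by simp⟩,
      1, 1, one_ne_zero, fun y => ?_⟩
    have hz : (Equiv.mulLeft₀ b⁻¹ (inv_ne_zero hb))⁻¹ y = b * y := by
      rw [Equiv.Perm.inv_def, Equiv.symm_apply_eq]
      simp [hb]
    simp only [Equiv.Perm.coe_mul, Function.comp_apply, hz, hab, ha1, map_one, one_mul]
    simp only [Equiv.mulLeft₀_apply]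
    field_simp
  · -- a ≠ 1 : conjugate to y ↦ a y
    set x₀ : GaloisField p 2 := b / (1 - (a : GaloisField p 2)) with hx₀
    have h1a : (1 - (a : GaloisField p 2)) ≠ 0 := by
      intro h
      apply ha1
      rw [sub_eq_zero] at h
      exact h.symm
    set x : Equiv.Perm (GaloisField p 2) := Equiv.addRight (-x₀) with hx
    have hxmem : x ∈ Cfsg.affineGroup (GaloisField p 2) := ⟨1, -x₀, fun y => by simp [hx]⟩
    have hxinv : ∀ y, x⁻¹ y = y + x₀ := by
      intro y
      rw [Equiv.Perm.inv_def, Equiv.symm_apply_eq]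
      simp [hx]
    have hconj : ∀ y, (x * g * x⁻¹) y = (a : GaloisField p 2) * y := by
      intro y
      simp only [Equiv.Perm.coe_mul, Function.comp_apply, hxinv, hab]
      simp only [hx, Equiv.coe_addRight]
      rw [hx₀]
      field_simp
      ring
    -- a ^ r = 1
    set r := orderOf g with hr
    have hpow : ∀ k : ℕ, ∀ y, ((x * g * x⁻¹) ^ k) y = (a : GaloisField p 2) ^ k * y := by
      intro k
      induction k with
      | zero => intro y; simp
      | succ k ih =>
        intro y
        rw [pow_succ, Equiv.Perm.coe_mul, Function.comp_apply, hconj, ih]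
        ring
    have har : (a : GaloisField p 2) ^ r = 1 := by
      have h1 := hpow r 1
      rw [conj_pow, hr, pow_orderOf_eq_one] at h1
      simpa using h1.symm
    have ha0 : (a : GaloisField p 2) ≠ 0 := a.ne_zero
    have hacard : (a : GaloisField p 2) ^ (p ^ 2 - 1) = 1 := by
      rw [← hcardK]; exact FiniteField.pow_card_sub_one_eq_one _ ha0
    have hgcd : (a : GaloisField p 2) ^ (Nat.gcd r (p ^ 2 - 1)) = 1 :=
      pow_gcd_eq_one.mpr ⟨har, hacard⟩
    have hrdvd : r ∣ p ^ 2 - 1 := by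
      rcases (Nat.dvd_prime hord).mp (Nat.gcd_dvd_left r (p ^ 2 - 1)) with h | h
      · rw [h, pow_one] at hgcd
        exact absurd hgcd ha1
      · rw [← h]; exact Nat.gcd_dvd_right _ _
    have hfactor : p ^ 2 - 1 = (p - 1) * 2 ^ s := by
      rw [← hs1]
      obtain ⟨q, rfl⟩ : ∃ q, p = q + 1 := ⟨p - 1, by omega⟩
      simp only [Nat.add_sub_cancel]
      have : (q + 1) ^ 2 = q * (q + 1 + 1) + 1 := by ring
      rw [this, Nat.add_sub_cancel]
    have hrp1 : r ∣ p - 1 := by
      rw [hfactor] at hrdvd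
      rcases (Nat.Prime.dvd_mul hord).mp hrdvd with h | h
      · exact h
      · have h2 := (Nat.Prime.dvd_of_dvd_pow hord h)
        have : r = 2 := ((Nat.prime_dvd_prime_iff_eq hord Nat.prime_two).mp h2)
        rw [this]; exact hpodd
    have hap1 : (a : GaloisField p 2) ^ (p - 1) = 1 := by
      obtain ⟨c, hc⟩ := hrp1
      rw [hc, pow_mul, har, one_pow]
    have hap : (a : GaloisField p 2) ^ p = a := by
      have h3 := pow_succ (a : GaloisField p 2) (p - 1)
      rw [Nat.sub_add_cancel hp.one_le, hap1, one_mul] at h3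
      exact h3
    obtain ⟨a', ha'⟩ := mem_prime_field (p := p) (a : GaloisField p 2) hap
    refine ⟨x, hxmem, a', 0, ?_, fun y => ?_⟩
    · rintro rfl
      rw [map_zero] at ha'
      exact ha0 ha'.symm
    · rw [hconj, ha', map_zero, add_zero]

end Cfsg.Agent.S5728
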