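import Cfsg.Statements.S5729

set_option autoImplicit false
open Cfsg

namespace Cfsg.Agent.S5729

open MulAction

section aux

variable {G Ω : Type*} [Group G] [MulAction G Ω]

/-- Fixed points on pairs are pairs of fixed points. -/
def fixedProdEquiv (g : G) : fixedBy (Ω × Ω) g ≃ fixedBy Ω g × fixedBy Ω g where
  toFun x := (⟨x.1.1, congrArg Prod.fst x.2⟩, ⟨x.1.2, congrArg Prod.snd x.2⟩)
  invFun y := ⟨(y.1.1, y.2.1), Prod.ext y.1.2 y.2.2⟩
  left_inv _ := rfl
  right_inv _ := rfl

lemma arith_id (c n : ℕ) (h : c ≤ n) :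
    c ^ 2 + n + (c - 1) * (n - c) = (n + 1) * c + (if c = 0 then n else 0) := by
  rcases Nat.eq_zero_or_pos c with rfl | hc
  · simp
  · obtain ⟨d, rfl⟩ : ∃ d, c = d + 1 := ⟨c - 1, by omega⟩
    obtain ⟨e, rfl⟩ : ∃ e, n = d + 1 + e := ⟨n - (d + 1), by omega⟩
    have h1 : d + 1 - 1 = d := by omega
    have h2 : d + 1 + e - (d + 1) = e := by omega
    rw [h1, h2, if_neg (by omega)]
    ring

end aux

theorem result {G Ω : Type*} [Group G] [Finite G] [MulAction G Ω] [FaithfulSMul G Ω] [Fintype Ω] (htr : MulAction.IsPretransitive G Ω) (hn : 3 ≤ Fintype.card Ω) :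
    ((MulAction.IsPretransitive G Ω ∧ (∃ g : G, g ≠ 1 ∧ ∃ ω : Ω, g • ω = ω) ∧ ∀ g : G, g ≠ 1 → Nat.card (MulAction.fixedBy Ω g) ≤ 1) ∧ Nat.card G = Fintype.card Ω * (Fintype.card Ω - 1) ∧ Fintype.card Ω * Nat.card {g : G // ∀ ω : Ω, g • ω ≠ ω} = Nat.card G) ∨
    Nat.card G < Fintype.card Ω * Nat.card {g : G // ∀ ω : Ω, g • ω ≠ ω} := by
  classical
  have := Fintype.ofFinite G
  set n := Fintype.card Ω with hndef
  let χ : G → ℕ := fun g => Fintype.card (fixedBy Ω g)
  have hχle : ∀ g, χ g ≤ n := fun g => Fintype.card_subtype_le _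
  -- first moment
  have hS1 : ∑ g, χ g = Fintype.card G := by
    have h := MulAction.sum_card_fixedBy_eq_card_orbits_mul_card_group G Ω
    have h1 : Fintype.card (Quotient (orbitRel G Ω)) = 1 := by
      rw [Fintype.card_eq_one_iff_nonempty_unique]
      have hsub : Subsingleton (orbitRel.Quotient G Ω) :=
        (MulAction.pretransitive_iff_subsingleton_quotient G Ω).mp htr
      have hne : Nonempty Ω := Fintype.card_pos_iff.mp (by omega)
      obtain ⟨ω⟩ := hne
      exact ⟨{ default := Quotient.mk'' ω, uniq := fun a => hsub.elim _ _ }⟩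
    rw [h1, one_mul] at h
    exact h
  -- second moment
  have hS2 : 2 * Fintype.card G ≤ ∑ g, χ g ^ 2 := by
    have h := MulAction.sum_card_fixedBy_eq_card_orbits_mul_card_group G (Ω × Ω)
    have h1 : ∀ g : G, Fintype.card (fixedBy (Ω × Ω) g) = χ g ^ 2 := by
      intro g
      rw [Fintype.card_congr (fixedProdEquiv g), Fintype.card_prod, sq]
    simp only [h1] at h
    rw [h]
    apply Nat.mul_le_mul_right
    -- at least two orbits on pairs
    let F : Quotient (orbitRel G (Ω × Ω)) → Bool :=
      Quotient.lift (fun x : Ω × Ω => decide (x.1 = x.2)) (by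
        rintro a b ⟨g, rfl⟩
        simp [smul_left_cancel_iff])
    have hsurj : Function.Surjective F := by
      obtain ⟨a, b, hab⟩ := Fintype.exists_pair_of_one_lt_card (α := Ω) (by omega)
      intro c
      cases c
      · exact ⟨Quotient.mk'' (a, b), by simp [F, hab]⟩
      · exact ⟨Quotient.mk'' (a, a), by simp [F]⟩
    calc 2 = Fintype.card Bool := rfl
      _ ≤ _ := Fintype.card_le_of_surjective F hsurj
  -- derangements
  set D := (Finset.univ.filter (fun g : G => χ g = 0)).card with hD
  have hχ0 : ∀ g : G, χ g = 0 ↔ ∀ ω : Ω, g • ω ≠ ω := by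
    intro g
    simp only [χ, Fintype.card_eq_zero_iff, isEmpty_subtype, mem_fixedBy]
  have hDcard : Nat.card {g : G // ∀ ω : Ω, g • ω ≠ ω} = D := by
    rw [Nat.card_eq_fintype_card, Fintype.card_subtype, hD]
    congr 1
    ext g
    simp only [Finset.mem_filter, Finset.mem_univ, true_and]
    exact (hχ0 g).symm
  rw [hDcard, Nat.card_eq_fintype_card]
  -- main identity
  let t : G → ℕ := fun g => (χ g - 1) * (n - χ g)
  have hsum : ∑ g, χ g ^ 2 + n * Fintype.card G + ∑ g, t g = (n + 1) * Fintype.card G + n * D := by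
    have h1 : ∀ g, χ g ^ 2 + n + t g = (n + 1) * χ g + (if χ g = 0 then n else 0) :=
      fun g => arith_id (χ g) n (hχle g)
    have h2 : ∑ g : G, (χ g ^ 2 + n + t g) = ∑ g : G, ((n + 1) * χ g + (if χ g = 0 then n else 0)) :=
      Finset.sum_congr rfl (fun g _ => h1 g)
    rw [Finset.sum_add_distrib, Finset.sum_add_distrib, Finset.sum_add_distrib, ← Finset.mul_sum,
      hS1, Finset.sum_const, Finset.card_univ, smul_eq_mul, ← Finset.sum_filter, Finset.sum_const,
      smul_eq_mul, ← hD] at h2
    linarith
  by_cases hlt : Fintype.card G < n * D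
  · right; exact hlt
  · left
    push Not at hlt
    have hT : ∑ g, t g = 0 := by
      have : ∑ g, t g ≤ 0 := by nlinarith
      omega
    have hnD : n * D = Fintype.card G := by nlinarith
    have ht0 : ∀ g, t g = 0 := by
      intro g
      exact (Finset.sum_eq_zero_iff.mp hT) g (Finset.mem_univ g)
    have hχn : ∀ g : G, g ≠ 1 → χ g < n := by
      intro g hg
      have : ∃ ω : Ω, g • ω ≠ ω := by
        by_contra hcon
        push Not at hcon
        apply hg
        apply FaithfulSMul.eq_of_smul_eq_smul (α := Ω)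
        intro ω
        rw [hcon ω, one_smul]
      obtain ⟨ω, hω⟩ := this
      exact Fintype.card_subtype_lt (p := fun x => x ∈ fixedBy Ω g) (x := ω) hω
    have hχ1 : ∀ g : G, g ≠ 1 → χ g ≤ 1 := by
      intro g hg
      have h1 := ht0 g
      have h2 := hχn g hg
      simp only [t] at h1
      rcases Nat.mul_eq_zero.mp h1 with h3 | h3
      · omega
      · omega
    have hχone : χ 1 = n := by
      simp only [χ]
      rw [hndef]
      exact Fintype.card_congr (Equiv.subtypeUnivEquiv (α := Ω) (p := fun x => x ∈ fixedBy Ω (1 : G))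
        (fun x => by simp))
    -- count
    have hcount : Fintype.card G + D = n + Fintype.card G - 1 := by
      have h1 : ∀ g : G, χ g + (if χ g = 0 then 1 else 0) = 1 + (if g = 1 then n - 1 else 0) := by
        intro g
        by_cases hg : g = 1
        · subst hg
          rw [hχone, if_pos rfl, if_neg (by omega)]
          omega
        · have := hχ1 g hg
          rw [if_neg hg]
          by_cases h0 : χ g = 0
          · rw [if_pos h0, h0]
          · rw [if_neg h0]; omega
      have h2 : ∑ g : G, (χ g + (if χ g = 0 then 1 else 0)) = ∑ g : G, (1 + (if g = 1 then n - 1 else 0)) :=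
        Finset.sum_congr rfl (fun g _ => h1 g)
      rw [Finset.sum_add_distrib, Finset.sum_add_distrib, hS1, ← Finset.sum_filter, Finset.sum_const,
        smul_eq_mul, mul_one, ← hD, Finset.sum_const, Finset.card_univ, smul_eq_mul, mul_one,
        Finset.sum_ite_eq' Finset.univ (1 : G) (fun _ => n - 1), if_pos (Finset.mem_univ _)] at h2
      omega
    have hGpos : 0 < Fintype.card G := Fintype.card_pos
    have hDval : D = n - 1 := by omega
    have hGval : Fintype.card G = n * (n - 1) := by rw [← hnD, hDval]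
    refine ⟨⟨htr, ?_, ?_⟩, hGval, hnD⟩
    · by_contra hcon
      push Not at hcon
      have hsub : Finset.univ.erase (1 : G) ⊆ Finset.univ.filter (fun g : G => χ g = 0) := by
        intro g hg
        rw [Finset.mem_erase] at hg
        simp only [Finset.mem_filter, Finset.mem_univ, true_and]
        exact (hχ0 g).mpr (hcon g hg.1)
      have := Finset.card_le_card hsub
      rw [Finset.card_erase_of_mem (Finset.mem_univ _), Finset.card_univ, ← hD, hGval, hDval] at this
      have h3 : 3 * (n - 1) ≤ n * (n - 1) := Nat.mul_le_mul_right _ hn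
      omega
    · intro g hg
      rw [Nat.card_eq_fintype_card]
      exact hχ1 g hg

end Cfsg.Agent.S5729
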