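import Cfsg.Statements.S5738

set_option autoImplicit false
open Cfsg

namespace Cfsg.Agent.S5738

open Module

section aux

variable {F K : Type*} [Field F] [Field K] [Algebra F K]

lemma singer_apply (a : Kˣ) (x : K) :
    ((Units.map ((Algebra.lmul F K : K →ₐ[F] Module.End F K) : K →* Module.End F K) a :
      (Module.End F K)ˣ) : Module.End F K) x = a * x := by
  simp

lemma unit_inv_apply (g : (Module.End F K)ˣ) (x : K) :
    (g : Module.End F K) (((g⁻¹ : (Module.End F K)ˣ) : Module.End F K) x) = x := by
  rw [← Module.End.mul_apply, Units.mul_inv]; rfl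

/-- An algebra automorphism as a unit of the endomorphism ring. -/
noncomputable def toUnit (σ : K ≃ₐ[F] K) : (Module.End F K)ˣ :=
  LinearMap.GeneralLinearGroup.ofLinearEquiv σ.toLinearEquiv

lemma toUnit_apply (σ : K ≃ₐ[F] K) (x : K) :
    ((toUnit σ : (Module.End F K)ˣ) : Module.End F K) x = σ x := rfl

/-- The map `(σ, b) ↦ (x ↦ b * σ x)`. -/
noncomputable def phi (p : (K ≃ₐ[F] K) × Kˣ) : (Module.End F K)ˣ :=
  Units.map ((Algebra.lmul F K : K →ₐ[F] Module.End F K) : K →* Module.End F K) p.2 * toUnit p.1

lemma phi_apply (p : (K ≃ₐ[F] K) × Kˣ) (x : K) :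
    ((phi p : (Module.End F K)ˣ) : Module.End F K) x = p.2 * p.1 x := by
  simp only [phi, Units.val_mul, Module.End.mul_apply, singer_apply, toUnit_apply]

lemma phi_injective : Function.Injective (phi (F := F) (K := K)) := by
  rintro ⟨σ, b⟩ ⟨σ', b'⟩ h
  have h1 : ∀ x : K, (b : K) * σ x = b' * σ' x := by
    intro x
    have := congrArg (fun w : (Module.End F K)ˣ => (w : Module.End F K) x) h
    simpa only [phi_apply] using this
  have hb : (b : K) = b' := by
    have := h1 1
    simpa using this
  have hbb : b = b' := Units.ext hb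
  subst hbb
  have hσ : σ = σ' := by
    ext x
    have := h1 x
    exact mul_left_cancel₀ b.ne_zero this
  rw [hσ]

end aux

theorem result {F K : Type*} [Field F] [Fintype F] [Field K] [Fintype K] [Algebra F K] (n : ℕ) (hn : 2 ≤ n) (hdim : Module.finrank F K = n) :
    Nat.card (Subgroup.normalizer (((Units.map ((Algebra.lmul F K : K →ₐ[F] Module.End F K) : K →* Module.End F K)).range : Subgroup (Module.End F K)ˣ) : Set (Module.End F K)ˣ)) = n * (Fintype.card K - 1) := by
  classical
  set ι : Kˣ →* (Module.End F K)ˣ :=
    Units.map ((Algebra.lmul F K : K →ₐ[F] Module.End F K) : K →* Module.End F K) with hι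
  have hfinEnd : Finite (Module.End F K) := Finite.of_injective _ DFunLike.coe_injective
  have hfinU : Finite (Module.End F K)ˣ := inferInstance
  have hfd : FiniteDimensional F K := Module.Finite.of_finite
  have hrange : ((Subgroup.normalizer (ι.range : Set (Module.End F K)ˣ) : Subgroup (Module.End F K)ˣ) :
      Set (Module.End F K)ˣ) = Set.range (phi (F := F) (K := K)) := by
    ext w
    constructor
    · intro hw
      have hw' : w ∈ Subgroup.normalizer (ι.range : Set (Module.End F K)ˣ) := hw
      rw [Subgroup.mem_normalizer_iff] at hw'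
      -- the multiplier
      have hmul : ∀ a : Kˣ, ∃ c : Kˣ, ∀ x : K, (c : K) * (w : Module.End F K) x = (w : Module.End F K) (a * x) := by
        intro a
        obtain ⟨c, hc⟩ := (hw' (ι a)).mp ⟨a, rfl⟩
        refine ⟨c, fun x => ?_⟩
        rw [eq_mul_inv_iff_mul_eq] at hc
        have := congrArg (fun u : (Module.End F K)ˣ => (u : Module.End F K) x) hc
        simpa only [Units.val_mul, Module.End.mul_apply, hι, singer_apply] using this
      set b : K := (w : Module.End F K) 1 with hb
      have hb0 : b ≠ 0 := by
        intro h0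
        have h1 : ((w⁻¹ : (Module.End F K)ˣ) : Module.End F K) ((w : Module.End F K) 1) = 1 := by
          rw [← Module.End.mul_apply, Units.inv_mul]; rfl
        rw [← hb, h0, map_zero] at h1
        exact zero_ne_one h1
      have hmul' : ∀ a x : K, (w : Module.End F K) (a * x) * b = (w : Module.End F K) a * (w : Module.End F K) x := by
        intro a x
        by_cases ha : a = 0
        · subst ha; simp
        · obtain ⟨c, hc⟩ := hmul (Units.mk0 a ha)
          have h1 := hc 1
          have h2 := hc x
          simp only [Units.val_mk0, mul_one] at h1 h2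
          rw [← h2, ← h1, ← hb]
          ring
      -- the linear equivalence x ↦ b⁻¹ * w x
      let S : (Module.End F K)ˣ := ι (Units.mk0 b⁻¹ (inv_ne_zero hb0)) * w
      have hS : ∀ x : K, (S : Module.End F K) x = b⁻¹ * (w : Module.End F K) x := by
        intro x
        simp only [S, Units.val_mul, Module.End.mul_apply, hι, singer_apply, Units.val_mk0]
      let e : K ≃ₗ[F] K := LinearMap.GeneralLinearGroup.toLinearEquiv S
      have he : ∀ x : K, e x = b⁻¹ * (w : Module.End F K) x := fun x => hS x
      let σ : K ≃ₐ[F] K := AlgEquiv.ofLinearEquiv e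
        (by rw [he, ← hb]; exact inv_mul_cancel₀ hb0)
        (by
          intro x y
          rw [he, he, he]
          have := hmul' x y
          field_simp
          rw [mul_comm, this])
      refine ⟨(σ, Units.mk0 b hb0), ?_⟩
      ext x
      rw [phi_apply]
      show b * e x = _
      rw [he, ← mul_assoc, mul_inv_cancel₀ hb0, one_mul]
    · rintro ⟨⟨σ, b⟩, rfl⟩
      show phi (σ, b) ∈ Subgroup.normalizer (ι.range : Set (Module.End F K)ˣ)
      rw [Subgroup.mem_normalizer_iff_map_conj_eq]
      apply Subgroup.eq_of_le_of_card_ge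
      · rintro u ⟨v, ⟨a, rfl⟩, rfl⟩
        refine ⟨Units.mk0 (σ a) (by simp), ?_⟩
        show _ = phi (σ, b) * ι a * (phi (σ, b))⁻¹
        rw [eq_mul_inv_iff_mul_eq]
        ext x
        simp only [Units.val_mul, Module.End.mul_apply, hι, singer_apply, phi_apply, Units.val_mk0,
          map_mul]
        ring
      · rw [Subgroup.card_map_of_injective (MulAut.conj (phi (σ, b))).injective]
  calc Nat.card (Subgroup.normalizer (ι.range : Set (Module.End F K)ˣ))
      = Nat.card (Set.range (phi (F := F) (K := K))) := Nat.card_congr (Equiv.setCongr hrange)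
    _ = Nat.card ((K ≃ₐ[F] K) × Kˣ) := Nat.card_range_of_injective phi_injective
    _ = Nat.card (K ≃ₐ[F] K) * Nat.card Kˣ := Nat.card_prod _ _
    _ = n * (Fintype.card K - 1) := by
      rw [IsGalois.card_aut_eq_finrank, hdim, Nat.card_units, Nat.card_eq_fintype_card]

end Cfsg.Agent.S5738
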