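import Cfsg.Statements.S5739

set_option autoImplicit false
open Cfsg

namespace Cfsg.Agent.S5739

open Module

section aux

variable {F K : Type*} [Field F] [Field K] [Algebra F K]

/-- The elements `a` of `K` whose multiplication is carried by `g` to another multiplication. -/
def twistAlg (g : (Module.End F K)ˣ) : Subalgebra F K where
  carrier := {a | ∃ c : K, ∀ x : K, a * (g : Module.End F K) x = (g : Module.End F K) (c * x)}
  mul_mem' := by
    rintro a a' ⟨c, hc⟩ ⟨c', hc'⟩
    exact ⟨c * c', fun x => by rw [mul_assoc, hc', hc, mul_assoc]⟩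
  one_mem' := ⟨1, fun x => by simp⟩
  add_mem' := by
    rintro a a' ⟨c, hc⟩ ⟨c', hc'⟩
    exact ⟨c + c', fun x => by rw [add_mul, hc, hc', add_mul, map_add]⟩
  zero_mem' := ⟨0, fun x => by simp⟩
  algebraMap_mem' := fun r => ⟨algebraMap F K r, fun x => by
    rw [← Algebra.smul_def, ← Algebra.smul_def, map_smul]⟩

lemma mem_twistAlg (g : (Module.End F K)ˣ) (a : K) :
    a ∈ twistAlg g ↔ ∃ c : K, ∀ x : K, a * (g : Module.End F K) x = (g : Module.End F K) (c * x) :=
  Iff.rfl

lemma singer_apply (a : Kˣ) (x : K) :
    ((Units.map ((Algebra.lmul F K : K →ₐ[F] Module.End F K) : K →* Module.End F K) a :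
      (Module.End F K)ˣ) : Module.End F K) x = a * x := by
  simp

lemma unit_inv_apply (g : (Module.End F K)ˣ) (x : K) :
    (g : Module.End F K) (((g⁻¹ : (Module.End F K)ˣ) : Module.End F K) x) = x := by
  rw [← Module.End.mul_apply, Units.mul_inv]; rfl

end aux

theorem result {F K : Type*} [Field F] [Fintype F] [Field K] [Fintype K] [Algebra F K] (n : ℕ) (hn : 2 ≤ n) (hdim : Module.finrank F K = n)
    (g : (Module.End F K)ˣ) (hg : ((Units.map ((Algebra.lmul F K : K →ₐ[F] Module.End F K) : K →* Module.End F K)).range).map (MulAut.conj g).toMonoidHom ≠ (Units.map ((Algebra.lmul F K : K →ₐ[F] Module.End F K) : K →* Module.End F K)).range) :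
    ∃ r : ℕ, 1 ≤ r ∧ r ∣ n ∧ r < n ∧ Nat.card ↥(((Units.map ((Algebra.lmul F K : K →ₐ[F] Module.End F K) : K →* Module.End F K)).range).map (MulAut.conj g).toMonoidHom ⊓ (Units.map ((Algebra.lmul F K : K →ₐ[F] Module.End F K) : K →* Module.End F K)).range) ∣ Fintype.card F ^ r - 1 := by
  classical
  set ι : Kˣ →* (Module.End F K)ˣ :=
    Units.map ((Algebra.lmul F K : K →ₐ[F] Module.End F K) : K →* Module.End F K) with hι
  have hfinEnd : Finite (Module.End F K) := Finite.of_injective _ DFunLike.coe_injective
  have hfinU : Finite (Module.End F K)ˣ := inferInstance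
  have hfd : FiniteDimensional F K := Module.Finite.of_finite
  let L : IntermediateField F K :=
    Subalgebra.toIntermediateField' (twistAlg g) (Subalgebra.isField_of_algebraic _)
  have hLmem : ∀ a : K, a ∈ L ↔ ∃ c : K, ∀ x : K, a * (g : Module.End F K) x = (g : Module.End F K) (c * x) :=
    fun a => Iff.rfl
  have htower : finrank F L * finrank L K = n := by
    rw [← hdim]; exact Module.finrank_mul_finrank F L K
  have hrpos : 1 ≤ finrank F L := Module.finrank_pos
  have hrdvd : finrank F L ∣ n := Dvd.intro _ htower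
  refine ⟨finrank F L, hrpos, hrdvd, ?_, ?_⟩
  · -- proper
    by_contra hge
    push Not at hge
    have hle : finrank F L ≤ n := Nat.le_of_dvd (by omega) hrdvd
    have heq : finrank F L = finrank F K := by omega
    have htop : (L.toSubalgebra.toSubmodule : Submodule F K) = ⊤ :=
      Submodule.eq_top_of_finrank_eq heq
    have hall : ∀ a : K, a ∈ L := by
      intro a
      have : a ∈ (L.toSubalgebra.toSubmodule : Submodule F K) := by rw [htop]; trivial
      exact this
    apply hg
    symm
    apply Subgroup.eq_of_le_of_card_ge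
    · rintro u ⟨a, rfl⟩
      obtain ⟨c, hc⟩ := (hLmem a).mp (hall a)
      have hc0 : c ≠ 0 := by
        rintro rfl
        have h1 := hc (((g⁻¹ : (Module.End F K)ˣ) : Module.End F K) 1)
        rw [unit_inv_apply, zero_mul, map_zero, mul_one] at h1
        exact a.ne_zero h1
      refine ⟨ι (Units.mk0 c hc0), ⟨_, rfl⟩, ?_⟩
      show g * ι (Units.mk0 c hc0) * g⁻¹ = ι a
      rw [mul_inv_eq_iff_eq_mul]
      ext x
      simp only [Units.val_mul, Module.End.mul_apply, hι, singer_apply, Units.val_mk0]
      exact (hc x).symm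
    · rw [Subgroup.card_map_of_injective (MulAut.conj g).injective]
  · -- cardinality
    let ψ : Lˣ →* (Module.End F K)ˣ := ι.comp (Units.map ((L.val : L →ₐ[F] K) : L →* K))
    have hψinj : Function.Injective ψ := by
      intro y y' h
      have h1 : ((ψ y : (Module.End F K)ˣ) : Module.End F K) 1 = ((ψ y' : (Module.End F K)ˣ) : Module.End F K) 1 := by
        rw [h]
      simp [ψ, hι] at h1
      ext
      exact congrArg Subtype.val h1
    have hle : (ι.range.map (MulAut.conj g).toMonoidHom ⊓ ι.range) ≤ ψ.range := by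
      rintro u ⟨⟨v, ⟨c, rfl⟩, hv⟩, ⟨a, rfl⟩⟩
      have hv' : g * ι c * g⁻¹ = ι a := hv
      rw [mul_inv_eq_iff_eq_mul] at hv'
      have haL : (a : K) ∈ L := by
        rw [hLmem]
        refine ⟨c, fun x => ?_⟩
        have h2 := congrArg (fun w : (Module.End F K)ˣ => (w : Module.End F K) x) hv'
        simp only [Units.val_mul, Module.End.mul_apply, hι, singer_apply] at h2
        exact h2.symm
      have hne : (⟨(a : K), haL⟩ : L) ≠ 0 := by
        intro h
        exact a.ne_zero (congrArg Subtype.val h)
      refine ⟨Units.mk0 ⟨(a : K), haL⟩ hne, ?_⟩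
      ext x
      simp [ψ, hι]
    have h1 := Subgroup.card_dvd_of_le hle
    have h2 : Nat.card ψ.range = Nat.card Lˣ :=
      Nat.card_congr (MonoidHom.ofInjective hψinj).toEquiv.symm
    have h3 : Nat.card L = Fintype.card F ^ finrank F L := by
      rw [Module.natCard_eq_pow_finrank (K := F) (V := L), Nat.card_eq_fintype_card]
    rw [h2, Nat.card_units, h3] at h1
    exact h1

end Cfsg.Agent.S5739
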