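import Cfsg.Statements.S5747

set_option autoImplicit false
open Cfsg

namespace Cfsg.Agent.S5747

section aux

variable (G : Type*) {Ω : Type*} [Group G] [MulAction G Ω]

/-- the sequence is a base -/
def IsB (t : ℕ) (f : Fin t → Ω) : Prop :=
  ∀ g : G, (∀ i : Fin t, g • f i = f i) → g = 1

/-- the sequence is irredundant -/
def IsI (t : ℕ) (f : Fin t → Ω) : Prop :=
  ∀ i : Fin t, ∃ g : G, (∀ j : Fin t, j < i → g • f j = f j) ∧ g • f i ≠ f i

def IB (t : ℕ) (f : Fin t → Ω) : Prop := IsB G t f ∧ IsI G t f

def Reord : Prop :=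
  ∀ (t : ℕ) (f : Fin t → Ω) (σ : Equiv.Perm (Fin t)), IB G t f → IB G t (f ∘ σ)

def Same : Prop :=
  ∀ (t t' : ℕ) (f : Fin t → Ω) (f' : Fin t' → Ω), IB G t f → IB G t' f' → t = t'

variable {G}

lemma IsI.injective {t : ℕ} {f : Fin t → Ω} (hf : IsI G t f) : Function.Injective f := by
  intro i i' h
  by_contra hne
  rcases lt_or_gt_of_ne hne with hlt | hlt
  · obtain ⟨g, hg1, hg2⟩ := hf i'
    apply hg2
    rw [← h]
    exact hg1 i hlt
  · obtain ⟨g, hg1, hg2⟩ := hf i
    apply hg2
    rw [h]
    exact hg1 i' hlt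

/-- Same length implies reorderable. -/
lemma same_imp_reord (hs : Same G (Ω := Ω)) : Reord G (Ω := Ω) := by
  classical
  intro t f σ hf
  have hbase : IsB G t (f ∘ σ) := by
    intro g hg
    apply hf.1 g
    intro i
    have := hg (σ.symm i)
    simpa using this
  refine ⟨hbase, ?_⟩
  by_contra hirr
  set h := f ∘ σ with hh
  let I : Finset (Fin t) := Finset.univ.filter
    (fun i => ∃ g : G, (∀ j : Fin t, j < i → g • h j = h j) ∧ g • h i ≠ h i)
  have hIlt : I.card < t := by
    have hne : I ≠ Finset.univ := by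
      intro heq
      apply hirr
      intro i
      have : i ∈ I := by rw [heq]; exact Finset.mem_univ i
      exact (Finset.mem_filter.mp this).2
    have := Finset.card_lt_card (Finset.ssubset_univ_iff.mpr hne)
    simpa using this
  let emb := I.orderEmbOfFin rfl
  have hIB : IB G I.card (h ∘ emb) := by
    constructor
    · intro g hg
      apply hbase g
      have key : ∀ k : ℕ, ∀ hk : k < t, g • h ⟨k, hk⟩ = h ⟨k, hk⟩ := by
        intro k
        induction k using Nat.strong_induction_on with
        | _ k ih =>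
          intro hk
          by_cases hmem : (⟨k, hk⟩ : Fin t) ∈ I
          · have hr : (⟨k, hk⟩ : Fin t) ∈ Set.range emb := by
              rw [Finset.range_orderEmbOfFin]; exact hmem
            obtain ⟨i', hi'⟩ := hr
            rw [← hi']; exact hg i'
          · by_contra hmove
            apply hmem
            rw [Finset.mem_filter]
            exact ⟨Finset.mem_univ _, g, fun j hj => ih j.val hj j.isLt, hmove⟩
      intro i
      exact key i.val i.isLt
    · intro i'
      have hmem := I.orderEmbOfFin_mem rfl i'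
      obtain ⟨g, hg1, hg2⟩ := (Finset.mem_filter.mp hmem).2
      refine ⟨g, fun j' hj' => ?_, hg2⟩
      exact hg1 (emb j') (emb.strictMono hj')
  have := hs _ _ _ _ hIB hf
  omega

/-- Appending a point to an irredundant sequence. -/
lemma ib_snoc {t : ℕ} {f : Fin t → Ω} (hf : IsI G t f) (x : Ω)
    (hx : ∃ g : G, (∀ i, g • f i = f i) ∧ g • x ≠ x)
    (hb : ∀ g : G, (∀ i, g • f i = f i) → g • x = x → g = 1) :
    IB G (t + 1) (Fin.snoc f x : Fin (t + 1) → Ω) := by
  constructor
  · intro g hg
    apply hb g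
    · intro i
      have := hg i.castSucc
      simpa using this
    · have := hg (Fin.last t)
      simpa using this
  · intro i
    induction i using Fin.lastCases with
    | last =>
      obtain ⟨g, hg1, hg2⟩ := hx
      refine ⟨g, fun j hj => ?_, by simpa using hg2⟩
      induction j using Fin.lastCases with
      | last => exact absurd hj (lt_irrefl _)
      | cast j' => simpa using hg1 j'
    | cast i' =>
      obtain ⟨g, hg1, hg2⟩ := hf i'
      refine ⟨g, fun j hj => ?_, by simpa using hg2⟩
      induction j using Fin.lastCases with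
      | last => exact absurd hj (not_lt.mpr (Fin.castSucc_lt_last i').le)
      | cast j' =>
        have := hg1 j' (Fin.castSucc_lt_castSucc_iff.mp hj)
        simpa using this

/-- The exchange property under reorderability. -/
lemma exchange (hre : Reord G (Ω := Ω)) {n m : ℕ} (f : Fin (n + 1) → Ω) (hf : IB G (n + 1) f)
    (B : Fin m → Ω) (hB : IB G m B) :
    ∃ j : Fin m, IB G (n + 1) (Function.update f (Fin.last n) (B j)) := by
  classical
  obtain ⟨g0, hg01, hg02⟩ := hf.2 (Fin.last n)
  have hg0B : ∃ j, g0 • B j ≠ B j := by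
    by_contra hcon
    push Not at hcon
    have := hB.1 g0 hcon
    rw [this, one_smul] at hg02
    exact hg02 rfl
  obtain ⟨j, hj⟩ := hg0B
  refine ⟨j, ?_⟩
  set f' := Function.update f (Fin.last n) (B j) with hf'
  have hf'ne : ∀ i, i ≠ Fin.last n → f' i = f i := fun i hi => Function.update_of_ne hi _ _
  have hf'last : f' (Fin.last n) = B j := Function.update_self _ _ _
  have hirr : IsI G (n + 1) f' := by
    intro i
    by_cases hi : i = Fin.last n
    · subst hi
      refine ⟨g0, fun k hk => ?_, by rw [hf'last]; exact hj⟩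
      rw [hf'ne k hk.ne]
      exact hg01 k hk
    · obtain ⟨g, hg1, hg2⟩ := hf.2 i
      refine ⟨g, fun k hk => ?_, by rw [hf'ne i hi]; exact hg2⟩
      have hk' : k ≠ Fin.last n := by
        intro h
        rw [h] at hk
        exact absurd hk (not_lt.mpr (Fin.le_last i))
      rw [hf'ne k hk']
      exact hg1 k hk
  refine ⟨?_, hirr⟩
  by_contra hnb
  simp only [IsB] at hnb
  push Not at hnb
  obtain ⟨h, hh1, hh2⟩ := hnb
  have hmove : h • f (Fin.last n) ≠ f (Fin.last n) := by
    intro hfix
    apply hh2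
    apply hf.1 h
    intro i
    by_cases hi : i = Fin.last n
    · rw [hi]; exact hfix
    · rw [← hf'ne i hi]; exact hh1 i
  have hIB2 : IB G (n + 1 + 1) (Fin.snoc f' (f (Fin.last n)) : Fin (n + 1 + 1) → Ω) := by
    apply ib_snoc hirr
    · exact ⟨h, hh1, hmove⟩
    · intro g hg1 hg2
      apply hf.1 g
      intro i
      by_cases hi : i = Fin.last n
      · rw [hi]; exact hg2
      · rw [← hf'ne i hi]; exact hg1 i
  have hswap := hre _ _ (Equiv.swap (Fin.castSucc (Fin.last n)) (Fin.last (n + 1))) hIB2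
  obtain ⟨g, hg1, hg2⟩ := hswap.2 (Fin.last (n + 1))
  simp only [Function.comp_apply, Equiv.swap_apply_right, Fin.snoc_castSucc, hf'last] at hg2
  apply hg2
  have hg : g = 1 := by
    apply hf.1 g
    intro i
    by_cases hi : i = Fin.last n
    · have := hg1 (Fin.castSucc (Fin.last n)) (Fin.castSucc_lt_last _)
      simp only [Function.comp_apply, Equiv.swap_apply_left, Fin.snoc_last] at this
      rw [hi]; exact this
    · have := hg1 (Fin.castSucc i) (Fin.castSucc_lt_last _)
      have hne1 : Fin.castSucc i ≠ Fin.castSucc (Fin.last n) := fun h => hi (Fin.castSucc_inj.mp h)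
      have hne2 : Fin.castSucc i ≠ Fin.last (n + 1) := Fin.castSucc_ne_last i
      simp only [Function.comp_apply, Equiv.swap_apply_of_ne_of_ne hne1 hne2, Fin.snoc_castSucc] at this
      rw [← hf'ne i hi]; exact this
  rw [hg, one_smul]

lemma le_of_range_subset {n m : ℕ} (f : Fin n → Ω) (hf : IB G n f) (B : Fin m → Ω)
    (hsub : Set.range f ⊆ Set.range B) : n ≤ m := by
  classical
  have hch : ∀ i : Fin n, ∃ j : Fin m, B j = f i := fun i => hsub ⟨i, rfl⟩
  choose jf hjf using hch
  have hinj : Function.Injective jf := by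
    intro a b hab
    apply hf.2.injective
    rw [← hjf a, ← hjf b, hab]
  simpa using Fintype.card_le_of_injective jf hinj

lemma main_count (hre : Reord G (Ω := Ω)) {m : ℕ} (B : Fin m → Ω) (hB : IB G m B) :
    ∀ (c n : ℕ) (f : Fin n → Ω), IB G n f → (Set.range f \ Set.range B).ncard ≤ c → n ≤ m := by
  classical
  intro c
  induction c with
  | zero =>
    intro n f hf hc
    apply le_of_range_subset f hf B
    have hfin : (Set.range f \ Set.range B).Finite := (Set.finite_range f).sdiff
    have := (Set.ncard_eq_zero hfin).mp (Nat.le_zero.mp hc)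
    exact Set.sdiff_eq_empty.mp this
  | succ c ih =>
    intro n f hf hc
    by_cases hsub : Set.range f ⊆ Set.range B
    · exact le_of_range_subset f hf B hsub
    · rw [Set.not_subset] at hsub
      obtain ⟨x, ⟨i0, rfl⟩, hx⟩ := hsub
      obtain ⟨n', rfl⟩ : ∃ n', n = n' + 1 := ⟨n - 1, by have := i0.pos; omega⟩
      set σ : Equiv.Perm (Fin (n' + 1)) := Equiv.swap i0 (Fin.last n') with hσ
      have hf1 : IB G (n' + 1) (f ∘ σ) := hre _ f σ hf
      have hf1last : (f ∘ σ) (Fin.last n') = f i0 := by simp [hσ]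
      obtain ⟨j, hj⟩ := exchange hre (f ∘ σ) hf1 B hB
      apply ih _ _ hj
      have hrange : Set.range (f ∘ σ) = Set.range f := σ.surjective.range_comp f
      have hss : Set.range (Function.update (f ∘ σ) (Fin.last n') (B j)) \ Set.range B ⊂
          Set.range f \ Set.range B := by
        rw [Set.ssubset_iff_of_subset]
        · refine ⟨f i0, ⟨⟨i0, rfl⟩, hx⟩, ?_⟩
          rintro ⟨⟨i, hi⟩, -⟩
          by_cases hil : i = Fin.last n'
          · rw [hil, Function.update_self] at hi
            exact hx ⟨j, hi⟩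
          · rw [Function.update_of_ne hil, ← hf1last] at hi
            exact hil (hf1.2.injective hi)
        · rintro y ⟨⟨i, rfl⟩, hy⟩
          by_cases hil : i = Fin.last n'
          · rw [hil, Function.update_self] at hy
            exact absurd ⟨j, rfl⟩ hy
          · rw [Function.update_of_ne hil] at hy ⊢
            exact ⟨by rw [← hrange]; exact ⟨i, rfl⟩, hy⟩
      have hfin : (Set.range f \ Set.range B).Finite := (Set.finite_range f).sdiff
      have := Set.ncard_lt_ncard hss hfin
      omega

lemma reord_imp_same (hre : Reord G (Ω := Ω)) : Same G (Ω := Ω) := by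
  intro t t' f f' hf hf'
  apply le_antisymm
  · exact main_count hre f' hf' _ t f hf le_rfl
  · exact main_count hre f hf _ t' f' hf' le_rfl

end aux

theorem result {G Ω : Type*} [Group G] [Finite G] [MulAction G Ω] [Fintype Ω] :
    (∀ (t t' : ℕ) (f : Fin t → Ω) (f' : Fin t' → Ω), ((∀ g : G, (∀ i : Fin t, g • f i = f i) → g = 1) ∧ ∀ i : Fin t, ∃ g : G, (∀ j : Fin t, j < i → g • f j = f j) ∧ g • f i ≠ f i) → ((∀ g : G, (∀ i : Fin t', g • f' i = f' i) → g = 1) ∧ ∀ i : Fin t', ∃ g : G, (∀ j : Fin t', j < i → g • f' j = f' j) ∧ g • f' i ≠ f' i) → t = t') ↔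
    (∀ (t : ℕ) (f : Fin t → Ω) (σ : Equiv.Perm (Fin t)), ((∀ g : G, (∀ i : Fin t, g • f i = f i) → g = 1) ∧ ∀ i : Fin t, ∃ g : G, (∀ j : Fin t, j < i → g • f j = f j) ∧ g • f i ≠ f i) → ((∀ g : G, (∀ i : Fin t, g • (f ∘ σ) i = (f ∘ σ) i) → g = 1) ∧ ∀ i : Fin t, ∃ g : G, (∀ j : Fin t, j < i → g • (f ∘ σ) j = (f ∘ σ) j) ∧ g • (f ∘ σ) i ≠ (f ∘ σ) i)) :=
  ⟨fun h => same_imp_reord (G := G) (Ω := Ω) h, fun h => reord_imp_same (G := G) (Ω := Ω) h⟩

end Cfsg.Agent.S5747
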