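import Cfsg.Statements.S5754

set_option autoImplicit false
open Cfsg

namespace Cfsg.Agent.S5754

section aux

variable {F V : Type*} [Field F] [AddCommGroup V] [Module F V]

lemma q_sub (Q : QuadraticForm F V) (x y : V) :
    Q (x - y) = Q x + Q y - QuadraticMap.polar Q x y := by
  have h := QuadraticMap.polar_neg_right (Q := Q) x y
  rw [QuadraticMap.polar] at h
  rw [sub_eq_add_neg]
  have h2 : Q (-y) = Q y := QuadraticMap.map_neg Q y
  rw [h2] at h
  linear_combination h

lemma refl_dual (Q : QuadraticForm F V) (d : V) (hd : Q d ≠ 0) :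
    ((Q d)⁻¹ • (QuadraticMap.polarBilin Q d : Module.Dual F V)) d = 2 := by
  simp only [LinearMap.smul_apply, QuadraticMap.polarBilin_apply_apply, QuadraticMap.polar_self,
    smul_eq_mul]
  rw [two_smul, mul_add, inv_mul_cancel₀ hd, one_add_one_eq_two]

noncomputable def reflIso (Q : QuadraticForm F V) (d : V) (hd : Q d ≠ 0) : Q.IsometryEquiv Q :=
  { Module.reflection (refl_dual Q d hd) with
    map_app' := by
      intro y
      show Q (Module.reflection (refl_dual Q d hd) y) = Q y
      rw [Module.reflection_apply]
      simp only [LinearMap.smul_apply, QuadraticMap.polarBilin_apply_apply, smul_eq_mul]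
      rw [q_sub, QuadraticMap.map_smul, QuadraticMap.polar_smul_right]
      simp only [smul_eq_mul]
      have hsymm : QuadraticMap.polar Q d y = QuadraticMap.polar Q y d := QuadraticMap.polar_comm _ _ _
      rw [hsymm]
      field_simp
      ring }

lemma reflIso_apply (Q : QuadraticForm F V) (d : V) (hd : Q d ≠ 0) (y : V) :
    reflIso Q d hd y = y - ((Q d)⁻¹ * QuadraticMap.polar Q d y) • d := by
  show Module.reflection (refl_dual Q d hd) y = _
  rw [Module.reflection_apply]
  simp only [LinearMap.smul_apply, QuadraticMap.polarBilin_apply_apply, smul_eq_mul]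

lemma polar_eq (Q : QuadraticForm F V) (x y : V) :
    QuadraticMap.polar Q x y = Q x + Q y - Q (x - y) := by
  rw [q_sub]; ring

lemma iso_polar (Q : QuadraticForm F V) (φ : Q.IsometryEquiv Q) (x y : V) :
    QuadraticMap.polar Q (φ x) (φ y) = QuadraticMap.polar Q x y := by
  simp only [QuadraticMap.polar, ← map_add, QuadraticMap.IsometryEquiv.map_app]

theorem key (Q : QuadraticForm F V) (hQ : Q.Anisotropic) (n : ℕ) (v w : Fin n → V)
    (hd : ∀ i j, Q (v i - v j) = Q (w i - w j)) (hq : ∀ i, Q (v i) = Q (w i)) :
    ∀ k ≤ n, ∃ φ : Q.IsometryEquiv Q, ∀ i : Fin n, i.val < k → φ (v i) = w i := by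
  have hpol : ∀ i j, QuadraticMap.polar Q (v i) (v j) = QuadraticMap.polar Q (w i) (w j) := by
    intro i j
    rw [polar_eq, polar_eq, hd, hq, hq]
  intro k
  induction k with
  | zero =>
    intro _
    exact ⟨QuadraticMap.IsometryEquiv.refl Q, fun i hi => absurd hi (Nat.not_lt_zero _)⟩
  | succ k ih =>
    intro hk
    obtain ⟨φ, hφ⟩ := ih (by omega)
    set idx : Fin n := ⟨k, by omega⟩ with hidx
    set a := φ (v idx) with ha
    set b := w idx with hb
    by_cases hab : b - a = 0
    · refine ⟨φ, fun i hi => ?_⟩
      rcases Nat.lt_succ_iff_lt_or_eq.mp hi with h | h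
      · exact hφ i h
      · have : i = idx := Fin.ext h
        rw [this, ← ha, ← hb]
        exact (sub_eq_zero.mp hab).symm
    · have hQd : Q (b - a) ≠ 0 := fun h => hab (hQ _ h)
      have hQa : Q a = Q b := by
        rw [ha, hb, QuadraticMap.IsometryEquiv.map_app, hq]
      refine ⟨φ.trans (reflIso Q (b - a) hQd), fun i hi => ?_⟩
      show reflIso Q (b - a) hQd (φ (v i)) = w i
      rw [reflIso_apply]
      rcases Nat.lt_succ_iff_lt_or_eq.mp hi with h | h
      · rw [hφ i h]
        have h0 : QuadraticMap.polar Q (b - a) (w i) = 0 := by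
          rw [QuadraticMap.polar_comm, QuadraticMap.polar_sub_right, hb, ha, ← hφ i h, iso_polar,
            hφ i h, hpol, sub_self]
        rw [h0]; simp
      · have : i = idx := Fin.ext h
        rw [this, ← ha]
        have h1 : QuadraticMap.polar Q (b - a) a = - Q (b - a) := by
          rw [QuadraticMap.polar_comm, QuadraticMap.polar_sub_right, QuadraticMap.polar_self, q_sub,
            QuadraticMap.polar_comm _ b a, hQa]
          rw [two_smul]
          ring
        rw [h1]
        have : (Q (b - a))⁻¹ * -Q (b - a) = -1 := by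
          field_simp
        rw [this]
        simp [hb]

end aux

/-- Let V be a finite-dimensional vector space over a finite field F carrying an anisotropic quadratic form Q (Q(v) = 0 only for v = 0). Then the group of all maps v ↦ φ(v) + c, with φ an isometry of Q and c ∈ V, acts on V as a binary permutation group: given n ≥ 2 and two n-tuples u, u' of vectors such that every pair of corresponding entries of u is carried to that of u' by such a map, one such map carries u to u'. -/
theorem result {F V : Type*} [Field F] [Finite F] [AddCommGroup V] [Module F V] [Module.Finite F V]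
    (Q : QuadraticForm F V) (hQ : Q.Anisotropic) (n : ℕ) (hn : 2 ≤ n) (u u' : Fin n → V)
    (h2 : ∀ i j : Fin n, i ≠ j → ∃ (φ : Q.IsometryEquiv Q) (c : V), φ (u i) + c = u' i ∧ φ (u j) + c = u' j) :
    ∃ (φ : Q.IsometryEquiv Q) (c : V), ∀ i, φ (u i) + c = u' i := by
  have hdist : ∀ i j : Fin n, Q (u i - u j) = Q (u' i - u' j) := by
    intro i j
    by_cases hij : i = j
    · subst hij; simp
    · obtain ⟨φ, c, h1, h2'⟩ := h2 i j hij
      rw [← h1, ← h2', add_sub_add_right_eq_sub, ← map_sub, QuadraticMap.IsometryEquiv.map_app]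
  set i0 : Fin n := ⟨0, by omega⟩ with hi0
  obtain ⟨φ, hφ⟩ := key Q hQ n (fun i => u i - u i0) (fun i => u' i - u' i0)
    (by intro i j; simp only [sub_sub_sub_cancel_right]; exact hdist i j)
    (by intro i; exact hdist i i0) n le_rfl
  refine ⟨φ, u' i0 - φ (u i0), fun i => ?_⟩
  have := hφ i i.isLt
  simp only [map_sub] at this
  rw [← sub_eq_zero]
  rw [← sub_eq_zero] at this
  rw [← this]
  abel

end Cfsg.Agent.S5754
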