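import Cfsg.Statements.S5763

set_option autoImplicit false
open Cfsg

namespace Cfsg.Agent.S5763

def mf : Fin 8 → Fin 8 := ![1,0,3,2,5,4,7,6]
def pr : Fin 8 → Fin 4 := ![0,0,1,1,2,2,3,3]
def tr : Fin 4 → Fin 4 → Fin 4 := ![![0,1,2,3],![1,0,3,2],![2,3,0,1],![3,2,1,0]]

def InP (g : Fin 8 → Fin 8) : Prop :=
  (∀ i, g (mf i) = mf (g i)) ∧ ∃ c : Fin 4, ∀ i, pr (g i) = tr c (pr i)

instance decInP (g : Fin 8 → Fin 8) : Decidable (InP g) := by unfold InP; infer_instance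

def ELf (f : Fin 8 → Fin 8) : Prop :=
  (∃ i, f i = mf i) ∨ InP f ∨ (InP (fun i => f (mf (f (mf i)))) ∧ ∃ i, f (mf (f (mf i))) ≠ i)

instance decELf (g : Fin 8 → Fin 8) : Decidable (ELf g) := by unfold ELf; infer_instance

def L7 (b0 b1 b2 b3 b4 b5 b6 : Fin 8) : Prop :=
  ∀ b7 : Fin 8, b7 ≠ 7 → (b7 ≠ b0 ∧ (b0 = 7 ↔ b7 = 0)) → (b7 ≠ b1 ∧ (b1 = 7 ↔ b7 = 1)) → (b7 ≠ b2 ∧ (b2 = 7 ↔ b7 = 2)) → (b7 ≠ b3 ∧ (b3 = 7 ↔ b7 = 3)) → (b7 ≠ b4 ∧ (b4 = 7 ↔ b7 = 4)) → (b7 ≠ b5 ∧ (b5 = 7 ↔ b7 = 5)) → (b7 ≠ b6 ∧ (b6 = 7 ↔ b7 = 6)) → ELf ![b0,b1,b2,b3,b4,b5,b6,b7]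

instance decL7 (b0 b1 b2 b3 b4 b5 b6 : Fin 8) : Decidable (L7 b0 b1 b2 b3 b4 b5 b6) := by unfold L7; infer_instance

def L6 (b0 b1 b2 b3 b4 b5 : Fin 8) : Prop :=
  ∀ b6 : Fin 8, b6 ≠ 6 → (b6 ≠ b0 ∧ (b0 = 6 ↔ b6 = 0)) → (b6 ≠ b1 ∧ (b1 = 6 ↔ b6 = 1)) → (b6 ≠ b2 ∧ (b2 = 6 ↔ b6 = 2)) → (b6 ≠ b3 ∧ (b3 = 6 ↔ b6 = 3)) → (b6 ≠ b4 ∧ (b4 = 6 ↔ b6 = 4)) → (b6 ≠ b5 ∧ (b5 = 6 ↔ b6 = 5)) → L7 b0 b1 b2 b3 b4 b5 b6

instance decL6 (b0 b1 b2 b3 b4 b5 : Fin 8) : Decidable (L6 b0 b1 b2 b3 b4 b5) := by unfold L6; infer_instance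

def L5 (b0 b1 b2 b3 b4 : Fin 8) : Prop :=
  ∀ b5 : Fin 8, b5 ≠ 5 → (b5 ≠ b0 ∧ (b0 = 5 ↔ b5 = 0)) → (b5 ≠ b1 ∧ (b1 = 5 ↔ b5 = 1)) → (b5 ≠ b2 ∧ (b2 = 5 ↔ b5 = 2)) → (b5 ≠ b3 ∧ (b3 = 5 ↔ b5 = 3)) → (b5 ≠ b4 ∧ (b4 = 5 ↔ b5 = 4)) → L6 b0 b1 b2 b3 b4 b5

instance decL5 (b0 b1 b2 b3 b4 : Fin 8) : Decidable (L5 b0 b1 b2 b3 b4) := by unfold L5; infer_instance

def L4 (b0 b1 b2 b3 : Fin 8) : Prop :=
  ∀ b4 : Fin 8, b4 ≠ 4 → (b4 ≠ b0 ∧ (b0 = 4 ↔ b4 = 0)) → (b4 ≠ b1 ∧ (b1 = 4 ↔ b4 = 1)) → (b4 ≠ b2 ∧ (b2 = 4 ↔ b4 = 2)) → (b4 ≠ b3 ∧ (b3 = 4 ↔ b4 = 3)) → L5 b0 b1 b2 b3 b4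

instance decL4 (b0 b1 b2 b3 : Fin 8) : Decidable (L4 b0 b1 b2 b3) := by unfold L4; infer_instance

def L3 (b0 b1 b2 : Fin 8) : Prop :=
  ∀ b3 : Fin 8, b3 ≠ 3 → (b3 ≠ b0 ∧ (b0 = 3 ↔ b3 = 0)) → (b3 ≠ b1 ∧ (b1 = 3 ↔ b3 = 1)) → (b3 ≠ b2 ∧ (b2 = 3 ↔ b3 = 2)) → L4 b0 b1 b2 b3

instance decL3 (b0 b1 b2 : Fin 8) : Decidable (L3 b0 b1 b2) := by unfold L3; infer_instance

def L2 (b0 b1 : Fin 8) : Prop :=
  ∀ b2 : Fin 8, b2 ≠ 2 → (b2 ≠ b0 ∧ (b0 = 2 ↔ b2 = 0)) → (b2 ≠ b1 ∧ (b1 = 2 ↔ b2 = 1)) → L3 b0 b1 b2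

instance decL2 (b0 b1 : Fin 8) : Decidable (L2 b0 b1) := by unfold L2; infer_instance

def L1 (b0 : Fin 8) : Prop :=
  ∀ b1 : Fin 8, b1 ≠ 1 → (b1 ≠ b0 ∧ (b0 = 1 ↔ b1 = 0)) → L2 b0 b1

instance decL1 (b0 : Fin 8) : Decidable (L1 b0) := by unfold L1; infer_instance

def L0  : Prop :=
  ∀ b0 : Fin 8, b0 ≠ 0 → L1 b0

instance decL0 : Decidable (L0 ) := by unfold L0; infer_instance

set_option maxRecDepth 100000 in
theorem enum_lemma : L0 := by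
  decide +kernel

theorem mf_mf : ∀ i, mf (mf i) = i := by decide
theorem mf_ne : ∀ i, mf i ≠ i := by decide
theorem tr_tr : ∀ c k, tr c (tr c k) = k := by decide
theorem tr_assoc : ∀ c d k, tr c (tr d k) = tr (tr c d) k := by decide
theorem tr_zero : ∀ k, tr 0 k = k := by decide
theorem pr_eq : ∀ a b, pr a = pr b → a = b ∨ a = mf b := by decide

def P1 : Subgroup (Equiv.Perm (Fin 8)) where
  carrier := {σ | InP ⇑σ}
  mul_mem' := by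
    intro a b ha hb
    obtain ⟨ha1, c, hc⟩ := ha
    obtain ⟨hb1, d, hd⟩ := hb
    refine ⟨fun i => ?_, tr c d, fun i => ?_⟩
    · simp only [Equiv.Perm.mul_apply, hb1, ha1]
    · simp only [Equiv.Perm.mul_apply, hc, hd, tr_assoc]
  one_mem' := ⟨fun i => rfl, 0, fun i => (tr_zero _).symm⟩
  inv_mem' := by
    intro a ha
    obtain ⟨ha1, c, hc⟩ := ha
    refine ⟨fun i => ?_, c, fun i => ?_⟩
    · apply a.injective
      rw [ha1]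
      simp
    · have := hc (a⁻¹ i)
      rw [show a (a⁻¹ i) = i by simp] at this
      rw [this, tr_tr]

theorem mem_P1 (σ : Equiv.Perm (Fin 8)) : σ ∈ P1 ↔ InP ⇑σ := Iff.rfl

theorem pow4 (σ : Equiv.Perm (Fin 8)) (h : σ ∈ P1) : σ ^ 4 = 1 := by
  obtain ⟨h1, c, hc⟩ := h
  have h2 : ∀ i, σ (σ i) = i ∨ σ (σ i) = mf i := fun i => pr_eq _ _ (by rw [hc, hc, tr_tr])
  ext i
  have : (σ ^ 4) i = σ (σ (σ (σ i))) := by
    simp [pow_succ, Equiv.Perm.mul_apply]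
  rw [this, Equiv.Perm.one_apply]
  rcases h2 i with h | h
  · rw [h, h]
  · rw [h, h1, h1, h, mf_mf]

theorem P1_isPGroup : IsPGroup 2 ↥P1 := by
  intro g
  refine ⟨2, ?_⟩
  apply Subtype.ext
  simpa using pow4 g.1 g.2

def m : Equiv.Perm (Fin 8) := ⟨mf, mf, mf_mf, mf_mf⟩

theorem m_apply (i : Fin 8) : m i = mf i := rfl

theorem cons (n : Equiv.Perm (Fin 8)) (h2 : ∀ i, n (n i) = i) (i j : Fin 8) (hij : i ≠ j) :
    n j ≠ n i ∧ (n i = j ↔ n j = i) :=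
  ⟨fun h => hij (n.injective h).symm, ⟨fun h => by rw [← h, h2], fun h => by rw [← h, h2]⟩⟩

theorem EL (n : Equiv.Perm (Fin 8)) (h2 : ∀ i, n (n i) = i) (hf : ∀ i, n i ≠ i) :
    (∃ i, n i = mf i) ∨ n ∈ P1 ∨ ((n * m) ^ 2 ∈ P1 ∧ (n * m) ^ 2 ≠ 1) := by
  have c := cons n h2
  have key := enum_lemma (n 0) (hf 0)
    (n 1) (hf 1) (c 0 1 (by decide))
    (n 2) (hf 2) (c 0 2 (by decide)) (c 1 2 (by decide))
    (n 3) (hf 3) (c 0 3 (by decide)) (c 1 3 (by decide)) (c 2 3 (by decide))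
    (n 4) (hf 4) (c 0 4 (by decide)) (c 1 4 (by decide)) (c 2 4 (by decide)) (c 3 4 (by decide))
    (n 5) (hf 5) (c 0 5 (by decide)) (c 1 5 (by decide)) (c 2 5 (by decide)) (c 3 5 (by decide)) (c 4 5 (by decide))
    (n 6) (hf 6) (c 0 6 (by decide)) (c 1 6 (by decide)) (c 2 6 (by decide)) (c 3 6 (by decide)) (c 4 6 (by decide)) (c 5 6 (by decide))
    (n 7) (hf 7) (c 0 7 (by decide)) (c 1 7 (by decide)) (c 2 7 (by decide)) (c 3 7 (by decide)) (c 4 7 (by decide)) (c 5 7 (by decide)) (c 6 7 (by decide))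
  have hfun : (![n 0, n 1, n 2, n 3, n 4, n 5, n 6, n 7] : Fin 8 → Fin 8) = ⇑n := by
    funext i; fin_cases i <;> rfl
  rw [hfun] at key
  rcases key with h | h | ⟨h, i, hi⟩
  · exact Or.inl h
  · exact Or.inr (Or.inl h)
  · refine Or.inr (Or.inr ⟨?_, ?_⟩)
    · have : ⇑((n * m) ^ 2) = fun i => n (mf (n (mf i))) := by
        funext i
        simp [pow_succ, Equiv.Perm.mul_apply, m_apply]
      rw [mem_P1, this]
      exact h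
    · intro h1
      apply hi
      have := congrArg (fun σ : Equiv.Perm (Fin 8) => σ i) h1
      simpa [pow_succ, Equiv.Perm.mul_apply, m_apply] using this

theorem swap_mem : ∀ i : Fin 8, InP ⇑(Equiv.swap i (mf i)) := by decide

theorem m_mem : m ∈ P1 := by
  rw [mem_P1]
  decide

theorem m_sq (i : Fin 8) : m (m i) = i := mf_mf i

theorem m_ne_one : m ≠ 1 := by
  intro h
  have := congrArg (fun σ : Equiv.Perm (Fin 8) => σ 0) h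
  revert this
  decide

theorem swap_mem' (i : Fin 8) : Equiv.swap i (mf i) ∈ P1 := swap_mem i

theorem swap_ne_one (i : Fin 8) : Equiv.swap i (mf i) ≠ 1 := by
  rw [Ne, Equiv.swap_eq_one_iff]
  exact fun h => mf_ne i h.symm

theorem conj_invol (y : Equiv.Perm (Fin 8)) (i : Fin 8) :
    (y * m * y⁻¹) ((y * m * y⁻¹) i) = i := by
  simp [Equiv.Perm.mul_apply, m_sq]

theorem conj_fpf (y : Equiv.Perm (Fin 8)) (i : Fin 8) : (y * m * y⁻¹) i ≠ i := by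
  intro h
  simp only [Equiv.Perm.mul_apply] at h
  have h' := congrArg (fun j => y⁻¹ j) h
  simp only [Equiv.Perm.coe_inv, Equiv.symm_apply_apply] at h'
  exact mf_ne _ h'

theorem key (y : Equiv.Perm (Fin 8)) : ∃ h ∈ P1, h ≠ 1 ∧ y * h * y⁻¹ ∈ P1 := by
  have En := EL (y⁻¹ * m * y⁻¹⁻¹) (conj_invol y⁻¹) (conj_fpf y⁻¹)
  have Em := EL (y * m * y⁻¹) (conj_invol y) (conj_fpf y)
  rw [inv_inv] at En
  rcases En with ⟨i, hi⟩ | hn | ⟨hc, hne⟩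
  · refine ⟨Equiv.swap i (mf i), swap_mem' i, swap_ne_one i, ?_⟩
    rw [← Equiv.swap_apply_apply]
    have : y (mf i) = mf (y i) := by
      rw [← hi]
      simp [Equiv.Perm.mul_apply, m_apply]
    rw [this]
    exact swap_mem' _
  · refine ⟨y⁻¹ * m * y, hn, ?_, ?_⟩
    · intro h
      apply m_ne_one
      have : m = y * (y⁻¹ * m * y) * y⁻¹ := by group
      rw [this, h]
      group
    · have : y * (y⁻¹ * m * y) * y⁻¹ = m := by group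
      rw [this]
      exact m_mem
  · rcases Em with ⟨j, hj⟩ | hm | ⟨hc', hne'⟩
    · refine ⟨Equiv.swap (y⁻¹ j) (mf (y⁻¹ j)), swap_mem' _, swap_ne_one _, ?_⟩
      rw [← Equiv.swap_apply_apply]
      have : y (mf (y⁻¹ j)) = mf j := by
        rw [← hj]
        simp [Equiv.Perm.mul_apply, m_apply]
      rw [this]
      simp only [Equiv.Perm.coe_inv, Equiv.apply_symm_apply]
      exact swap_mem' _
    · exact ⟨m, m_mem, m_ne_one, hm⟩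
    · refine ⟨(y⁻¹ * m * y * m) ^ 2, hc, hne, ?_⟩
      have hmm : m * m = 1 := by
        ext i
        simp [Equiv.Perm.mul_apply, m_sq]
      have hminv : m⁻¹ = m := inv_eq_of_mul_eq_one_right hmm
      have : y * (y⁻¹ * m * y * m) ^ 2 * y⁻¹ = ((y * m * y⁻¹ * m) ^ 2)⁻¹ := by
        rw [← inv_pow]
        simp only [mul_inv_rev, inv_inv, hminv, pow_two]
        group
      rw [this]
      exact P1.inv_mem hc'

theorem result_aux (H : Sylow 2 (Equiv.Perm (Fin 8))) (x : Equiv.Perm (Fin 8)) :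
    (H : Subgroup (Equiv.Perm (Fin 8))) ⊓ (H : Subgroup (Equiv.Perm (Fin 8))).map (MulAut.conj x).toMonoidHom ≠ ⊥ := by
  obtain ⟨S, hS⟩ := IsPGroup.exists_le_sylow P1_isPGroup
  obtain ⟨g, hg⟩ := MulAction.exists_smul_eq (Equiv.Perm (Fin 8)) S H
  have hconj : ∀ a ∈ P1, g * a * g⁻¹ ∈ (H : Subgroup (Equiv.Perm (Fin 8))) := by
    intro a ha
    rw [← hg, Sylow.coe_subgroup_smul]
    have : g * a * g⁻¹ = MulAut.conj g • a := rfl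
    rw [this]
    exact Subgroup.smul_mem_pointwise_smul _ _ _ (hS ha)
  obtain ⟨h, hP, hne, hy⟩ := key (g⁻¹ * x * g)
  intro hbot
  have hmem : x * (g * h * g⁻¹) * x⁻¹ ∈
      (H : Subgroup (Equiv.Perm (Fin 8))) ⊓ (H : Subgroup (Equiv.Perm (Fin 8))).map (MulAut.conj x).toMonoidHom := by
    refine ⟨?_, ?_⟩
    · have := hconj _ hy
      have e : g * (g⁻¹ * x * g * h * (g⁻¹ * x * g)⁻¹) * g⁻¹ = x * (g * h * g⁻¹) * x⁻¹ := by group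
      rw [e] at this
      exact this
    · exact ⟨g * h * g⁻¹, hconj h hP, rfl⟩
  rw [hbot, Subgroup.mem_bot] at hmem
  apply hne
  have : h = g⁻¹ * (x⁻¹ * (x * (g * h * g⁻¹) * x⁻¹) * x) * g := by group
  rw [this, hmem]
  group

/-- In the symmetric group on 8 letters any two Sylow 2-subgroups have non-trivial intersection: for a Sylow 2-subgroup H and every element x, H ∩ xHx⁻¹ ≠ 1. -/
theorem result (H : Sylow 2 (Equiv.Perm (Fin 8))) (x : Equiv.Perm (Fin 8)) :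
    (H : Subgroup (Equiv.Perm (Fin 8))) ⊓ (H : Subgroup (Equiv.Perm (Fin 8))).map (MulAut.conj x).toMonoidHom ≠ ⊥ := by
  exact result_aux H x

end Cfsg.Agent.S5763
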