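import Cfsg.Statements.S5876
-- import your own Cfsg.Agent.* helpers here

set_option autoImplicit false
open Cfsg

namespace Cfsg.Agent.S5876

open scoped MatrixGroups

section PartA

variable {G : Type*} [Group G]

/-- the commutator of two elements, written out -/
def cm (x y : G) : G := x * y * x⁻¹ * y⁻¹

theorem cm_eq_one_iff (x y : G) : cm x y = 1 ↔ x * y = y * x :=
  commutatorElement_eq_one_iff_mul_comm

/-- group-theoretic core: in a finite solvable group, from any non-identity element one reaches a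
non-identity element of an abelian normal subgroup by at most two commutations. -/
theorem exists_abelian_normal [Finite G] [Group.IsSolvable G] (g : G) (hg : g ≠ 1) :
    ∃ A : Subgroup G, A.Normal ∧ (∀ a ∈ A, ∀ b ∈ A, a * b = b * a) ∧
      ∃ y z : G, ∃ a ∈ A, a ≠ 1 ∧ (a = g ∨ a = cm g y ∨ a = cm (cm g y) z) := by
  classical
  by_cases hgc : g ∈ Subgroup.center G
  · refine ⟨Subgroup.center G, inferInstance, ?_, 1, 1, g, hgc, hg, Or.inl rfl⟩
    intro a ha b _
    exact (Subgroup.mem_center_iff.mp ha b).symm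
  -- the family of normal subgroups not centralised by g
  let P : Subgroup G → Prop := fun M => M.Normal ∧ ¬ M ≤ Subgroup.centralizer {g}
  have hPtop : P ⊤ := by
    refine ⟨inferInstance, fun h => hgc ?_⟩
    rw [Subgroup.mem_center_iff]
    intro x
    have := h (Subgroup.mem_top x)
    rw [Subgroup.mem_centralizer_iff] at this
    exact (this g rfl).symm
  obtain ⟨M, hMP, hMmin⟩ := exists_minimal_of_wellFoundedLT P ⟨⊤, hPtop⟩
  obtain ⟨hMn, hMg⟩ := hMP
  have := hMn
  -- K: largest normal subgroup inside M ∩ C(g)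
  set K : Subgroup G := (M ⊓ Subgroup.centralizer {g}).normalCore with hK
  have hKM : K ≤ M := (Subgroup.normalCore_le _).trans inf_le_left
  have hKg : K ≤ Subgroup.centralizer {g} := (Subgroup.normalCore_le _).trans inf_le_right
  have hKmax : ∀ N : Subgroup G, N.Normal → N ≤ M → N ≠ M → N ≤ K := by
    intro N hN hNM hne
    have := hN
    have hNg : N ≤ Subgroup.centralizer {g} := by
      by_contra hcon
      exact hne (le_antisymm hNM (hMmin ⟨hN, hcon⟩ hNM))
    exact Subgroup.normal_le_normalCore.mpr (le_inf hNM hNg)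
  have hMbot : M ≠ ⊥ := by
    rintro rfl
    exact hMg bot_le
  have hcommK : ⁅M, M⁆ ≤ K :=
    hKmax _ inferInstance (Subgroup.commutator_le_left M M)
      (Group.IsSolvable.commutator_lt_of_ne_bot hMbot).ne
  -- pick y in M not commuting with g
  obtain ⟨y, hyM, hyg⟩ := SetLike.not_le_iff_exists.mp hMg
  have hgy : cm g y ≠ 1 := by
    rw [Ne, cm_eq_one_iff]
    intro h
    apply hyg
    rw [Subgroup.mem_centralizer_iff]
    rintro x rfl
    exact h
  set h := cm g y with hh
  have hhM : h ∈ M := by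
    rw [hh, cm]
    exact M.mul_mem (hMn.conj_mem y hyM g) (M.inv_mem hyM)
  -- g commutes with every element of K
  have hgK : ∀ k ∈ K, g * k = k * g := by
    intro k hk
    have := hKg hk
    rw [Subgroup.mem_centralizer_iff] at this
    exact this g rfl
  have hKn : K.Normal := Subgroup.normalCore_normal _
  have hhK : h ∈ Subgroup.centralizer (K : Set G) := by
    rw [Subgroup.mem_centralizer_iff]
    intro k hk
    -- k * h = h * k
    have h1 : y⁻¹ * k * y ∈ K := by
      have := hKn.conj_mem k hk y⁻¹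
      simpa using this
    have h2 : g * (y⁻¹ * k * y) = (y⁻¹ * k * y) * g := hgK _ h1
    have h3 : g * k = k * g := hgK k hk
    have h2' : g⁻¹ * (y⁻¹ * k * y) = (y⁻¹ * k * y) * g⁻¹ := by
      rw [eq_mul_inv_iff_mul_eq, mul_assoc, inv_mul_eq_iff_eq_mul]
      exact h2.symm
    rw [hh, cm]
    -- k * (g y g⁻¹ y⁻¹) = (g y g⁻¹ y⁻¹) * k
    calc k * (g * y * g⁻¹ * y⁻¹) = g * (k * y * g⁻¹ * y⁻¹) := by
          simp only [← mul_assoc]; rw [h3]
      _ = g * (y * ((y⁻¹ * k * y) * g⁻¹) * y⁻¹) := by simp [mul_assoc]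
      _ = g * (y * (g⁻¹ * (y⁻¹ * k * y)) * y⁻¹) := by rw [h2']
      _ = g * y * g⁻¹ * y⁻¹ * k := by simp [mul_assoc]
  set L : Subgroup G := M ⊓ Subgroup.centralizer (K : Set G) with hL
  have hLn : L.Normal := inferInstance
  by_cases hLM : L = M
  · -- M centralises K
    have hMK : M ≤ Subgroup.centralizer (K : Set G) := by
      rw [← hLM]; exact inf_le_right
    set A : Subgroup G := M ⊓ Subgroup.centralizer (M : Set G) with hA
    have hAn : A.Normal := inferInstance
    have hAc : ∀ a ∈ A, ∀ b ∈ A, a * b = b * a := by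
      intro a ha b hb
      have := (Subgroup.mem_centralizer_iff.mp hb.2) a ha.1
      exact this
    have hKA : K ≤ A := by
      refine le_inf hKM ?_
      intro k hk
      rw [Subgroup.mem_centralizer_iff]
      intro m hm
      have := (Subgroup.mem_centralizer_iff.mp (hMK hm)) k hk
      exact this.symm
    by_cases hhc : h ∈ Subgroup.centralizer (M : Set G)
    · exact ⟨A, hAn, hAc, y, 1, h, ⟨hhM, hhc⟩, hgy, Or.inr (Or.inl rfl)⟩
    · rw [Subgroup.mem_centralizer_iff] at hhc
      push Not at hhc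
      obtain ⟨z, hzM, hz⟩ := hhc
      refine ⟨A, hAn, hAc, y, z, cm h z,
        hKA (hcommK (Subgroup.commutator_mem_commutator hhM hzM)), ?_, Or.inr (Or.inr rfl)⟩
      rw [Ne, cm_eq_one_iff]
      exact fun e => hz e.symm
  · have hLK : L ≤ K := hKmax L hLn inf_le_left hLM
    set A : Subgroup G := K ⊓ Subgroup.centralizer (K : Set G) with hA
    have hAn : A.Normal := inferInstance
    have hAc : ∀ a ∈ A, ∀ b ∈ A, a * b = b * a := by
      intro a ha b hb
      exact (Subgroup.mem_centralizer_iff.mp hb.2) a ha.1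
    exact ⟨A, hAn, hAc, y, 1, h, ⟨hLK ⟨hhM, hhK⟩, hhK⟩, hgy, Or.inr (Or.inl rfl)⟩

end PartA


section PartB

variable {F : Type*} [Field F] {n : ℕ}

/-- the fixed space of an invertible matrix -/
def fixS (x : GL (Fin n) F) : Submodule F (Fin n → F) :=
  Module.End.eigenspace (Matrix.toLin' (x : Matrix (Fin n) (Fin n) F)) 1

theorem mem_fixS (x : GL (Fin n) F) (v : Fin n → F) :
    v ∈ fixS x ↔ (x : Matrix (Fin n) (Fin n) F).mulVec v = v := by
  rw [fixS, Module.End.mem_eigenspace_iff, one_smul, Matrix.toLin'_apply]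

/-- translate of a subspace by an invertible matrix -/
def act (x : GL (Fin n) F) (W : Submodule F (Fin n → F)) : Submodule F (Fin n → F) :=
  W.map (Matrix.toLin' (x : Matrix (Fin n) (Fin n) F))

theorem mulVec_inv_mulVec (x : GL (Fin n) F) (v : Fin n → F) :
    (x : Matrix (Fin n) (Fin n) F).mulVec
      (((x⁻¹ : GL (Fin n) F) : Matrix (Fin n) (Fin n) F).mulVec v) = v := by
  rw [Matrix.mulVec_mulVec, ← Units.val_mul, mul_inv_cancel, Units.val_one, Matrix.one_mulVec]

theorem inv_mulVec_mulVec (x : GL (Fin n) F) (v : Fin n → F) :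
    ((x⁻¹ : GL (Fin n) F) : Matrix (Fin n) (Fin n) F).mulVec
      ((x : Matrix (Fin n) (Fin n) F).mulVec v) = v := by
  rw [Matrix.mulVec_mulVec, ← Units.val_mul, inv_mul_cancel, Units.val_one, Matrix.one_mulVec]

theorem mem_act (x : GL (Fin n) F) (W : Submodule F (Fin n → F)) (v : Fin n → F) :
    v ∈ act x W ↔ ((x⁻¹ : GL (Fin n) F) : Matrix (Fin n) (Fin n) F).mulVec v ∈ W := by
  rw [act, Submodule.mem_map]
  constructor
  · rintro ⟨w, hw, rfl⟩
    rw [Matrix.toLin'_apply, inv_mulVec_mulVec]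
    exact hw
  · intro h
    exact ⟨_, h, by rw [Matrix.toLin'_apply, mulVec_inv_mulVec]⟩

theorem act_one (W : Submodule F (Fin n → F)) : act (1 : GL (Fin n) F) W = W := by
  ext v
  rw [mem_act]
  simp

theorem act_mul (x y : GL (Fin n) F) (W : Submodule F (Fin n → F)) :
    act (x * y) W = act x (act y W) := by
  ext v
  rw [mem_act, mem_act, mem_act, mul_inv_rev, Units.val_mul, Matrix.mulVec_mulVec]

theorem act_mono (x : GL (Fin n) F) {W W' : Submodule F (Fin n → F)} (h : W ≤ W') :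
    act x W ≤ act x W' := Submodule.map_mono h

theorem toLin'_injective (x : GL (Fin n) F) :
    Function.Injective (Matrix.toLin' (x : Matrix (Fin n) (Fin n) F)) := by
  intro v w h
  rw [Matrix.toLin'_apply, Matrix.toLin'_apply] at h
  have := congrArg (((x⁻¹ : GL (Fin n) F) : Matrix (Fin n) (Fin n) F).mulVec) h
  rwa [inv_mulVec_mulVec, inv_mulVec_mulVec] at this

theorem finrank_act (x : GL (Fin n) F) (W : Submodule F (Fin n → F)) :
    Module.finrank F (act x W) = Module.finrank F W :=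
  (LinearEquiv.finrank_eq (Submodule.equivMapOfInjective _ (toLin'_injective x) W)).symm

theorem fixS_conj (x y : GL (Fin n) F) : fixS (x * y * x⁻¹) = act x (fixS y) := by
  ext v
  rw [mem_act, mem_fixS, mem_fixS, Units.val_mul, Units.val_mul, ← Matrix.mulVec_mulVec,
    ← Matrix.mulVec_mulVec]
  constructor
  · intro h
    have := congrArg (((x⁻¹ : GL (Fin n) F) : Matrix (Fin n) (Fin n) F).mulVec) h
    rwa [inv_mulVec_mulVec] at this
  · intro h
    rw [h, mulVec_inv_mulVec]

theorem fixS_inv (x : GL (Fin n) F) : fixS x⁻¹ = fixS x := by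
  ext v
  rw [mem_fixS, mem_fixS]
  constructor
  · intro h
    have := congrArg ((x : Matrix (Fin n) (Fin n) F).mulVec) h
    rw [mulVec_inv_mulVec] at this
    exact this.symm
  · intro h
    have := congrArg (((x⁻¹ : GL (Fin n) F) : Matrix (Fin n) (Fin n) F).mulVec) h
    rw [inv_mulVec_mulVec] at this
    exact this.symm

theorem fixS_inf_le_mul (x y : GL (Fin n) F) : fixS x ⊓ fixS y ≤ fixS (x * y) := by
  intro v hv
  obtain ⟨hx, hy⟩ := hv
  rw [SetLike.mem_coe, mem_fixS] at hx hy
  rw [mem_fixS, Units.val_mul, ← Matrix.mulVec_mulVec, hy, hx]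

theorem fixS_eq_top_iff (x : GL (Fin n) F) : fixS x = ⊤ ↔ x = 1 := by
  constructor
  · intro h
    apply Units.ext
    rw [Units.val_one]
    apply Matrix.toLin'.injective
    refine LinearMap.ext fun v => ?_
    have : v ∈ fixS x := by rw [h]; exact Submodule.mem_top
    rw [mem_fixS] at this
    simp [this]
  · rintro rfl
    rw [eq_top_iff]
    intro v _
    rw [mem_fixS]
    simp

/-- commutation at most doubles the codimension of the fixed space -/
theorem two_mul_finrank_fixS_le (x y : GL (Fin n) F) :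
    2 * Module.finrank F (fixS x) ≤ Module.finrank F (fixS (x * y * x⁻¹ * y⁻¹)) + n := by
  have h1 : fixS x ⊓ fixS (y * x⁻¹ * y⁻¹) ≤ fixS (x * y * x⁻¹ * y⁻¹) := by
    have := fixS_inf_le_mul x (y * x⁻¹ * y⁻¹)
    simpa only [mul_assoc] using this
  have h2 : Module.finrank F (fixS (y * x⁻¹ * y⁻¹)) = Module.finrank F (fixS x) := by
    rw [fixS_conj, finrank_act, fixS_inv]
  have h3 := Submodule.finrank_sup_add_finrank_inf_eq (fixS x) (fixS (y * x⁻¹ * y⁻¹))
  have h4 : Module.finrank F ↥(fixS x ⊔ fixS (y * x⁻¹ * y⁻¹)) ≤ n := by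
    have := Submodule.finrank_le (fixS x ⊔ fixS (y * x⁻¹ * y⁻¹))
    simpa using this
  have h5 := Submodule.finrank_mono h1
  omega

end PartB


section PartC

variable {F : Type*} [Field F] {n : ℕ}

/-- joint fixed space of a set of invertible matrices -/
def jfix (S : Set (GL (Fin n) F)) : Submodule F (Fin n → F) := ⨅ b ∈ S, fixS b

theorem mem_jfix (S : Set (GL (Fin n) F)) (v : Fin n → F) :
    v ∈ jfix S ↔ ∀ b ∈ S, (b : Matrix (Fin n) (Fin n) F).mulVec v = v := by
  simp only [jfix, Submodule.mem_iInf, mem_fixS]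

/-- the family of joint fixed spaces of subsets of `A` -/
def Fam (A : Subgroup (GL (Fin n) F)) : Set (Submodule F (Fin n → F)) :=
  {U | ∃ S : Set (GL (Fin n) F), S ⊆ (A : Set (GL (Fin n) F)) ∧ U = jfix S}

theorem fixS_mem_Fam (A : Subgroup (GL (Fin n) F)) {b : GL (Fin n) F} (hb : b ∈ A) :
    fixS b ∈ Fam A := by
  refine ⟨{b}, by simpa using hb, ?_⟩
  ext v
  simp [mem_jfix, mem_fixS]

theorem inf_mem_Fam (A : Subgroup (GL (Fin n) F)) {U U' : Submodule F (Fin n → F)}
    (hU : U ∈ Fam A) (hU' : U' ∈ Fam A) : U ⊓ U' ∈ Fam A := by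
  obtain ⟨S, hS, rfl⟩ := hU
  obtain ⟨S', hS', rfl⟩ := hU'
  refine ⟨S ∪ S', Set.union_subset hS hS', ?_⟩
  ext v
  simp only [Submodule.mem_inf, mem_jfix, Set.mem_union]
  constructor
  · rintro ⟨h1, h2⟩ b (hb | hb)
    · exact h1 b hb
    · exact h2 b hb
  · intro h
    exact ⟨fun b hb => h b (Or.inl hb), fun b hb => h b (Or.inr hb)⟩

theorem mulVec_mem_of_mem_Fam (A : Subgroup (GL (Fin n) F))
    (hAc : ∀ a ∈ A, ∀ b ∈ A, a * b = b * a) {U : Submodule F (Fin n → F)} (hU : U ∈ Fam A)
    {b : GL (Fin n) F} (hb : b ∈ A) {v : Fin n → F} (hv : v ∈ U) :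
    (b : Matrix (Fin n) (Fin n) F).mulVec v ∈ U := by
  obtain ⟨S, hS, rfl⟩ := hU
  rw [mem_jfix] at hv ⊢
  intro c hc
  rw [Matrix.mulVec_mulVec, ← Units.val_mul, hAc c (hS hc) b hb, Units.val_mul,
    ← Matrix.mulVec_mulVec, hv c hc]

theorem act_mem_Fam (A : Subgroup (GL (Fin n) F)) (g : GL (Fin n) F)
    (hg : ∀ a ∈ A, g * a * g⁻¹ ∈ A) {U : Submodule F (Fin n → F)} (hU : U ∈ Fam A) :
    act g U ∈ Fam A := by
  obtain ⟨S, hS, rfl⟩ := hU
  refine ⟨(fun b => g * b * g⁻¹) '' S, ?_, ?_⟩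
  · rintro _ ⟨b, hb, rfl⟩
    exact hg b (hS hb)
  · ext v
    rw [mem_act, mem_jfix, mem_jfix]
    constructor
    · rintro h _ ⟨b, hb, rfl⟩
      have := h b hb
      rw [Units.val_mul, Units.val_mul, ← Matrix.mulVec_mulVec, ← Matrix.mulVec_mulVec, this,
        mulVec_inv_mulVec]
    · intro h b hb
      have := h (g * b * g⁻¹) ⟨b, hb, rfl⟩
      rw [Units.val_mul, Units.val_mul, ← Matrix.mulVec_mulVec, ← Matrix.mulVec_mulVec] at this
      have := congrArg (((g⁻¹ : GL (Fin n) F) : Matrix (Fin n) (Fin n) F).mulVec) this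
      rwa [inv_mulVec_mulVec] at this

/-- a component: a minimal non-zero member of the family -/
def IsComp (A : Subgroup (GL (Fin n) F)) (U : Submodule F (Fin n → F)) : Prop :=
  U ∈ Fam A ∧ U ≠ ⊥ ∧ ∀ U' ∈ Fam A, U' ≠ ⊥ → U' ≤ U → U' = U

theorem act_inv_act (g : GL (Fin n) F) (W : Submodule F (Fin n → F)) :
    act g⁻¹ (act g W) = W := by
  rw [← act_mul, inv_mul_cancel, act_one]

theorem act_act_inv (g : GL (Fin n) F) (W : Submodule F (Fin n → F)) :
    act g (act g⁻¹ W) = W := by
  rw [← act_mul, mul_inv_cancel, act_one]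

theorem act_bot (g : GL (Fin n) F) : act g (⊥ : Submodule F (Fin n → F)) = ⊥ := by
  rw [act, Submodule.map_bot]

theorem act_eq_bot_iff (g : GL (Fin n) F) (W : Submodule F (Fin n → F)) :
    act g W = ⊥ ↔ W = ⊥ := by
  constructor
  · intro h
    rw [← act_inv_act g W, h, act_bot]
  · rintro rfl
    exact act_bot g

theorem IsComp.act (A : Subgroup (GL (Fin n) F)) (g : GL (Fin n) F)
    (hg : ∀ a ∈ A, g * a * g⁻¹ ∈ A) (hg' : ∀ a ∈ A, g⁻¹ * a * g⁻¹⁻¹ ∈ A)
    {U : Submodule F (Fin n → F)} (hU : IsComp A U) : IsComp A (act g U) := by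
  obtain ⟨hF, hne, hmin⟩ := hU
  refine ⟨act_mem_Fam A g hg hF, fun h => hne ((act_eq_bot_iff g U).mp h), ?_⟩
  intro U' hU' hne' hle
  have h1 : Cfsg.Agent.S5876.act g⁻¹ U' ≤ U := by
    have := act_mono g⁻¹ hle
    rwa [act_inv_act] at this
  have h2 := hmin _ (act_mem_Fam A g⁻¹ hg' hU') (fun h => hne' ((act_eq_bot_iff _ _).mp h)) h1
  rw [← h2, act_act_inv]

theorem IsComp.separate (A : Subgroup (GL (Fin n) F)) {M₁ M₂ : Submodule F (Fin n → F)}
    (h₁ : IsComp A M₁) (h₂ : IsComp A M₂) (hne : M₁ ≠ M₂) :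
    ∃ b ∈ A, M₁ ≤ fixS b ∧ M₂ ⊓ fixS b = ⊥ := by
  obtain ⟨S, hS, hM₁⟩ := h₁.1
  by_cases hall : ∀ b ∈ S, M₂ ≤ fixS b
  · exfalso
    have hle : M₂ ≤ M₁ := by
      rw [hM₁]
      exact le_iInf₂ hall
    exact hne (h₁.2.2 M₂ h₂.1 h₂.2.1 hle).symm
  · push Not at hall
    obtain ⟨b, hbS, hb⟩ := hall
    refine ⟨b, hS hbS, ?_, ?_⟩
    · rw [hM₁]
      exact iInf₂_le b hbS
    · by_contra hcon
      have := h₂.2.2 _ (inf_mem_Fam A h₂.1 (fixS_mem_Fam A (hS hbS))) hcon inf_le_left
      exact hb (this ▸ inf_le_right)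

/-- independence of distinct components, in vector form -/
theorem comps_indep_aux (A : Subgroup (GL (Fin n) F))
    (hAc : ∀ a ∈ A, ∀ b ∈ A, a * b = b * a) {ι : Type*} (D : ι → Submodule F (Fin n → F))
    (hD : ∀ i, IsComp A (D i)) (hinj : Function.Injective D) :
    ∀ (k : ℕ) (T : Finset ι) (u : ι → (Fin n → F)), T.card = k → (∀ i ∈ T, u i ∈ D i) →
      ∑ i ∈ T, u i = 0 → ∀ i ∈ T, u i = 0 := by
  classical
  intro k
  induction k with
  | zero =>
    intro T u hT _ _ i hi
    rw [Finset.card_eq_zero] at hT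
    simp [hT] at hi
  | succ k ih =>
    intro T u hT hu hsum
    by_cases hk : k = 0
    · -- a single term
      subst hk
      rw [Finset.card_eq_one] at hT
      obtain ⟨j, rfl⟩ := hT
      intro i hi
      rw [Finset.mem_singleton] at hi
      subst hi
      simpa using hsum
    · -- at least two terms
      have h2 : 1 < T.card := by omega
      obtain ⟨i₁, hi₁, i₂, hi₂, hne⟩ := Finset.one_lt_card.mp h2
      obtain ⟨b, hbA, hb₁, hb₂⟩ := IsComp.separate A (hD i₁) (hD i₂) (fun h => hne (hinj h))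
      -- apply b - 1
      set u' : ι → (Fin n → F) := fun i => (b : Matrix (Fin n) (Fin n) F).mulVec (u i) - u i
        with hu'
      have hu'mem : ∀ i ∈ T, u' i ∈ D i := fun i hi =>
        (D i).sub_mem (mulVec_mem_of_mem_Fam A hAc (hD i).1 hbA (hu i hi)) (hu i hi)
      have hu'1 : u' i₁ = 0 := by
        have := hb₁ (hu i₁ hi₁)
        rw [mem_fixS] at this
        simp [hu', this]
      have hsum' : ∑ i ∈ T, u' i = 0 := by
        simp only [hu', Finset.sum_sub_distrib]
        rw [← Matrix.mulVec_sum, hsum]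
        simp
      have hsum'' : ∑ i ∈ T.erase i₁, u' i = 0 := by
        rw [← Finset.add_sum_erase T u' hi₁, hu'1, zero_add] at hsum'
        exact hsum'
      have hcard : (T.erase i₁).card = k := by
        rw [Finset.card_erase_of_mem hi₁, hT]; rfl
      have hz := ih (T.erase i₁) u' hcard
        (fun i hi => hu'mem i (Finset.mem_of_mem_erase hi)) hsum''
      have hu2 : u i₂ = 0 := by
        have h0 : u' i₂ = 0 := hz i₂ (Finset.mem_erase.mpr ⟨fun h => hne h.symm, hi₂⟩)
        have hfix : u i₂ ∈ fixS b := by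
          rw [mem_fixS]
          exact sub_eq_zero.mp h0
        have : u i₂ ∈ D i₂ ⊓ fixS b := ⟨hu i₂ hi₂, hfix⟩
        rw [hb₂] at this
        exact (Submodule.mem_bot F).mp this
      have hsum2 : ∑ i ∈ T.erase i₂, u i = 0 := by
        rw [← Finset.add_sum_erase T u hi₂, hu2, zero_add] at hsum
        exact hsum
      have hcard2 : (T.erase i₂).card = k := by
        rw [Finset.card_erase_of_mem hi₂, hT]; rfl
      have hz2 := ih (T.erase i₂) u hcard2
        (fun i hi => hu i (Finset.mem_of_mem_erase hi)) hsum2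
      intro i hi
      by_cases hii : i = i₂
      · rw [hii]; exact hu2
      · exact hz2 i (Finset.mem_erase.mpr ⟨hii, hi⟩)

theorem comps_indep (A : Subgroup (GL (Fin n) F))
    (hAc : ∀ a ∈ A, ∀ b ∈ A, a * b = b * a) {ι : Type*} (D : ι → Submodule F (Fin n → F))
    (hD : ∀ i, IsComp A (D i)) (hinj : Function.Injective D) : iSupIndep D := by
  rw [iSupIndep_iff_finsetSum_eq_zero_imp_eq_zero]
  intro s v hv hsum
  exact comps_indep_aux A hAc D hD hinj s.card s v rfl hv hsum

theorem exists_comp_le (A : Subgroup (GL (Fin n) F)) {U₀ : Submodule F (Fin n → F)}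
    (hU₀ : U₀ ∈ Fam A) (hne : U₀ ≠ ⊥) : ∃ M, IsComp A M ∧ M ≤ U₀ := by
  let P : Submodule F (Fin n → F) → Prop := fun U => U ∈ Fam A ∧ U ≠ ⊥ ∧ U ≤ U₀
  obtain ⟨M, hMP, hMmin⟩ := exists_minimal_of_wellFoundedLT P ⟨U₀, hU₀, hne, le_rfl⟩
  refine ⟨M, ⟨hMP.1, hMP.2.1, ?_⟩, hMP.2.2⟩
  intro U' hU' hne' hle
  exact le_antisymm hle (hMmin ⟨hU', hne', hle.trans hMP.2.2⟩ hle)

end PartC


section PartC2

variable {F : Type*} [Field F] [Fintype F] {n : ℕ}

theorem abelian_normal_fixS (G A : Subgroup (GL (Fin n) F))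
    (hirr : Cfsg.Geo.ActsIrreducibly (Cfsg.Geo.matrixSet G))
    (hprim : ∀ (m t : ℕ) (D : Fin t → Submodule F (Fin n → F)), 2 ≤ t →
      Cfsg.Geo.IsMDecomposition m D → ¬ G ≤ Cfsg.Geo.decompositionStabilizer D)
    (hAc : ∀ a ∈ A, ∀ b ∈ A, a * b = b * a)
    (hAn : ∀ g ∈ G, ∀ a ∈ A, g * a * g⁻¹ ∈ A)
    (a : GL (Fin n) F) (ha : a ∈ A) (hfix : fixS a ≠ ⊥) : a = 1 := by
  classical
  obtain ⟨M₀, hM₀, hM₀a⟩ := exists_comp_le A (fixS_mem_Fam A ha) hfix
  -- the orbit of M₀
  let O : Set (Submodule F (Fin n → F)) := {U | ∃ g ∈ G, U = act g M₀}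
  have hOfin : Finite (Submodule F (Fin n → F)) :=
    Finite.of_injective (fun W : Submodule F (Fin n → F) => (W : Set (Fin n → F)))
      SetLike.coe_injective
  have : Finite O := inferInstance
  letI : Fintype O := Fintype.ofFinite O
  have hOcomp : ∀ U : O, IsComp A U.1 := by
    rintro ⟨U, g, hg, rfl⟩
    refine IsComp.act A g (hAn g hg) ?_ hM₀
    exact hAn g⁻¹ (G.inv_mem hg)
  have hOact : ∀ g ∈ G, ∀ U : O, act g U.1 ∈ O := by
    rintro g hg ⟨U, x, hx, rfl⟩
    exact ⟨g * x, G.mul_mem hg hx, (act_mul g x M₀).symm⟩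
  -- the permutation of the orbit induced by g
  let φ : ∀ g ∈ G, O ≃ O := fun g hg =>
    { toFun := fun U => ⟨act g U.1, hOact g hg U⟩
      invFun := fun U => ⟨act g⁻¹ U.1, hOact g⁻¹ (G.inv_mem hg) U⟩
      left_inv := fun U => Subtype.ext (act_inv_act g U.1)
      right_inv := fun U => Subtype.ext (act_act_inv g U.1) }
  set t := Fintype.card O with ht
  let e : O ≃ Fin t := Fintype.equivFin O
  let D : Fin t → Submodule F (Fin n → F) := fun i => (e.symm i).1
  have hDcomp : ∀ i, IsComp A (D i) := fun i => hOcomp _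
  have hDinj : Function.Injective D := by
    intro i j hij
    exact e.symm.injective (Subtype.ext hij)
  have hDact : ∀ g (hg : g ∈ G) (i : Fin t),
      (D i).map (Matrix.toLin' (g : Matrix (Fin n) (Fin n) F)) = D (e (φ g hg (e.symm i))) := by
    intro g hg i
    simp only [D, Equiv.symm_apply_apply]
    rfl
  let i₀ : Fin t := e ⟨M₀, 1, G.one_mem, (act_one M₀).symm⟩
  have hi₀ : D i₀ = M₀ := by simp [D, i₀]
  -- the components of the orbit span everything
  have hsup : iSup D = ⊤ := by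
    have hinv : ∀ s ∈ Cfsg.Geo.matrixSet G, (iSup D).map (Matrix.toLin' s) ≤ iSup D := by
      rintro _ ⟨g, hg, rfl⟩
      rw [Submodule.map_iSup]
      refine iSup_le fun i => ?_
      rw [hDact g hg i]
      exact le_iSup D _
    rcases hirr (iSup D) hinv with h | h
    · exfalso
      apply hM₀.2.1
      rw [← hi₀, eq_bot_iff, ← h]
      exact le_iSup D i₀
    · exact h
  have hrank : ∀ i, Module.finrank F (D i) = Module.finrank F M₀ := by
    intro i
    obtain ⟨g, hg, hU⟩ := (e.symm i).2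
    show Module.finrank F ((e.symm i).1) = _
    rw [hU, finrank_act]
  have hpos : 0 < Module.finrank F M₀ := by
    rw [Nat.pos_iff_ne_zero, Ne, Submodule.finrank_eq_zero]
    exact hM₀.2.1
  by_cases h2 : 2 ≤ t
  · exfalso
    refine hprim (Module.finrank F M₀) t D h2
      ⟨h2, hpos, hrank, comps_indep A hAc D hDcomp hDinj, hsup⟩ ?_
    intro g hg
    refine ⟨(e.symm.trans (φ g hg)).trans e, fun i => ?_⟩
    rw [hDact g hg i]
    rfl
  · -- a single component, which is everything
    have htop : M₀ = ⊤ := by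
      rw [← hi₀, eq_top_iff, ← hsup]
      refine iSup_le fun i => ?_
      have : i = i₀ := by
        have h1 : t ≤ 1 := by omega
        apply Fin.ext
        have := i.2
        have := i₀.2
        omega
      rw [this]
    rw [← fixS_eq_top_iff, eq_top_iff, ← htop]
    exact hM₀a

end PartC2




/-- Fixed-point spaces in primitive soluble linear groups. Let F be a finite field and G a soluble subgroup of GL_n(F) that acts irreducibly on F^n and primitively (G preserves no decomposition of F^n into two or more independent subspaces of equal dimension). Then every non-identity element g of G has fixed-point space {v : g v = v} of dimension at most 3n/4. -/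
theorem result {F : Type*} [Field F] [Fintype F] {n : ℕ} (G : Subgroup (Matrix.GeneralLinearGroup (Fin n) F)) (hsol : IsSolvable G) (hirr : Cfsg.Geo.ActsIrreducibly (Cfsg.Geo.matrixSet G)) (hprim : ∀ (m t : ℕ) (D : Fin t → Submodule F (Fin n → F)), 2 ≤ t → Cfsg.Geo.IsMDecomposition m D → ¬ G ≤ Cfsg.Geo.decompositionStabilizer D) (g : Matrix.GeneralLinearGroup (Fin n) F) (hg : g ∈ G) (hg1 : g ≠ 1) :
    4 * Module.finrank F (Module.End.eigenspace (Matrix.toLin' (g : Matrix (Fin n) (Fin n) F)) 1) ≤ 3 * n := by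
  classical
  by_contra hcon
  rw [not_le] at hcon
  change 3 * n < 4 * Module.finrank F (fixS g) at hcon
  have hsol' : Group.IsSolvable G := hsol
  have hfinG : Finite G := inferInstance
  have hg1' : (⟨g, hg⟩ : G) ≠ 1 := by
    intro h
    exact hg1 (congrArg Subtype.val h)
  obtain ⟨A', hA'n, hA'c, y, z, a', ha'A, ha'1, hcases⟩ :=
    exists_abelian_normal (G := G) ⟨g, hg⟩ hg1'
  set A : Subgroup (GL (Fin n) F) := A'.map G.subtype with hA
  have hAc : ∀ a ∈ A, ∀ b ∈ A, a * b = b * a := by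
    rintro _ ⟨a, ha, rfl⟩ _ ⟨b, hb, rfl⟩
    have := hA'c a ha b hb
    rw [← map_mul, ← map_mul, this]
  have hAn : ∀ x ∈ G, ∀ a ∈ A, x * a * x⁻¹ ∈ A := by
    rintro x hx _ ⟨a, ha, rfl⟩
    have h1 := hA'n.conj_mem a ha ⟨x, hx⟩
    have h2 := Subgroup.mem_map_of_mem G.subtype h1
    simpa only [map_mul, map_inv, Subgroup.subtype_apply] using h2
  have haA : (a' : GL (Fin n) F) ∈ A := ⟨a', ha'A, rfl⟩
  have ha1 : (a' : GL (Fin n) F) ≠ 1 := by
    intro h
    exact ha'1 (Subtype.ext h)
  have hle : Module.finrank F (fixS g) ≤ n := by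
    have := Submodule.finrank_le (fixS g)
    simpa using this
  have hpos : 0 < Module.finrank F (fixS (a' : GL (Fin n) F)) := by
    rcases hcases with h | h | h
    · rw [h]
      show 0 < Module.finrank F (fixS g)
      omega
    · rw [h]
      have := two_mul_finrank_fixS_le g (y : GL (Fin n) F)
      show 0 < Module.finrank F (fixS (g * (y : GL (Fin n) F) * g⁻¹ * (y : GL (Fin n) F)⁻¹))
      omega
    · rw [h]
      have h1 := two_mul_finrank_fixS_le g (y : GL (Fin n) F)
      have h2 := two_mul_finrank_fixS_le (g * (y : GL (Fin n) F) * g⁻¹ * (y : GL (Fin n) F)⁻¹)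
        (z : GL (Fin n) F)
      show 0 < Module.finrank F (fixS ((g * (y : GL (Fin n) F) * g⁻¹ * (y : GL (Fin n) F)⁻¹) *
        (z : GL (Fin n) F) * (g * (y : GL (Fin n) F) * g⁻¹ * (y : GL (Fin n) F)⁻¹)⁻¹ *
        (z : GL (Fin n) F)⁻¹))
      omega
  have hne : fixS (a' : GL (Fin n) F) ≠ ⊥ := by
    intro h
    rw [h, finrank_bot] at hpos
    exact lt_irrefl _ hpos
  exact ha1 (abelian_normal_fixS G A hirr hprim hAc hAn _ haA hne)


end Cfsg.Agent.S5876
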