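import Cfsg.Statements.S5877
import Cfsg.Agent.Lib.Helper81.EsAsm

set_option autoImplicit false
open Cfsg

namespace Cfsg.Agent.S5877

open Cfsg.Agent.Lib.Helper81.Es

/-- Eigenspaces of elements normalising an absolutely irreducible extraspecial group. Let F be a finite field, r a prime, and R ≤ GL_n(F) an absolutely irreducible extraspecial r-group (an r-group whose centre equals its derived subgroup and has order r) of exponent r or 4. Let g ∈ GL_n(F) normalise the product of R with the scalar matrices, have prime order ϖ and not be scalar, and let W be the eigenspace of g for any c ∈ F (W may be the zero subspace). Then dim W ≤ 3n/4 if ϖ = 2, dim W ≤ 2n/3 if ϖ = 3, and dim W ≤ n/2 if ϖ > 3; moreover if ϖ = 3 and 3 does not divide n then dim W ≤ n/2. -/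
theorem result {F : Type*} [Field F] [Fintype F] {n r ϖ : ℕ} (R : Subgroup (Matrix.GeneralLinearGroup (Fin n) F)) (hr : r.Prime) (hR : IsPGroup r R) (hZ : Nat.card (Subgroup.center R) = r) (hext : commutator R = Subgroup.center R) (hexp : Monoid.exponent R = r ∨ Monoid.exponent R = 4) (hirr : Cfsg.Geo.ActsAbsolutelyIrreducibly (Cfsg.Geo.matrixSet R)) (g : Matrix.GeneralLinearGroup (Fin n) F) (hg : g ∈ Cfsg.Geo.subgroupNormalizer (R ⊔ Cfsg.Geo.scalars (Fin n) F)) (hϖ : ϖ.Prime) (hord : orderOf g = ϖ) (hns : g ∉ Cfsg.Geo.scalars (Fin n) F) (c : F) :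
    (ϖ = 2 → 4 * Module.finrank F (Module.End.eigenspace (Matrix.toLin' (g : Matrix (Fin n) (Fin n) F)) c) ≤ 3 * n) ∧
    (ϖ = 3 → 3 * Module.finrank F (Module.End.eigenspace (Matrix.toLin' (g : Matrix (Fin n) (Fin n) F)) c) ≤ 2 * n) ∧
    (3 < ϖ → 2 * Module.finrank F (Module.End.eigenspace (Matrix.toLin' (g : Matrix (Fin n) (Fin n) F)) c) ≤ n) ∧
    (ϖ = 3 → ¬ 3 ∣ n → 2 * Module.finrank F (Module.End.eigenspace (Matrix.toLin' (g : Matrix (Fin n) (Fin n) F)) c) ≤ n) := by
  have hS : Setup r R := setup_of R hr hZ hext hirr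
  change (ϖ = 2 → 4 * Module.finrank F (eig g c) ≤ 3 * n) ∧
    (ϖ = 3 → 3 * Module.finrank F (eig g c) ≤ 2 * n) ∧
    (3 < ϖ → 2 * Module.finrank F (eig g c) ≤ n) ∧
    (ϖ = 3 → ¬ 3 ∣ n → 2 * Module.finrank F (eig g c) ≤ n)
  set D := Module.finrank F (eig g c) with hD
  have hns' : ¬ IsSc g := fun h => hns ((isSc_iff_mem_scalars g).mp h)
  have hgN : ∀ h, h ∈ NN R ↔ g * h * g⁻¹ ∈ NN R := by
    intro h
    have := (Subgroup.mem_normalizer_iff (H := (R ⊔ Cfsg.Geo.scalars (Fin n) F)) (g := g)).mp hg h
    exact this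
  have hgϖ : g ^ ϖ = 1 := by rw [← hord]; exact pow_orderOf_eq_one g
  have hr2 : 2 ≤ r := hr.two_le
  by_cases ht : ActsTriv R g
  · have h := triv_le hS g ht hns' c
    rw [← hD] at h
    refine ⟨fun _ => by omega, fun _ => by omega, fun _ => h, fun _ _ => h⟩
  · have ht' := ht
    unfold ActsTriv at ht'
    push Not at ht'
    obtain ⟨x, hxR, hx⟩ := ht'
    have hc1 := c1 hS g hgN x hxR hx c
    rw [← hD] at hc1
    have hR1 : ϖ ≠ 2 → ϖ ≠ r → 2 * D ≤ n := fun h2 hne => r1 hS g hgN hϖ h2 hne hgϖ ht c
    refine ⟨fun _ => ?_, fun h3 => ?_, fun h3 => ?_, fun h3 hn => ?_⟩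
    · -- 4 D ≤ 3 n from 2 r D ≤ (r+1) n, r ≥ 2
      have h1 : 4 * D * r ≤ 3 * n * r := by nlinarith
      exact Nat.le_of_mul_le_mul_right h1 (by omega)
    · by_cases hr3 : r = 2
      · have := hR1 (by omega) (by omega)
        omega
      · have hr3' : 3 ≤ r := by omega
        have h1 : 3 * D * r ≤ 2 * n * r := by nlinarith
        exact Nat.le_of_mul_le_mul_right h1 (by omega)
    · by_cases hne : ϖ = r
      · subst hne
        have hexp' : ∀ x ∈ R, x ^ ϖ = 1 := by
          intro x hx
          rcases hexp with he | he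
          · have := Monoid.pow_exponent_eq_one (⟨x, hx⟩ : R)
            rw [he] at this
            exact congrArg Subtype.val this
          · have h4 := Monoid.pow_exponent_eq_one (⟨x, hx⟩ : R)
            rw [he] at h4
            obtain ⟨k, hk⟩ := hR ⟨x, hx⟩
            have h4' : x ^ 4 = 1 := congrArg Subtype.val h4
            have hk' : x ^ (ϖ ^ k) = 1 := congrArg Subtype.val hk
            have hco : Nat.Coprime (ϖ ^ k) 4 := by
              apply Nat.Coprime.pow_left
              have : Nat.Coprime ϖ 2 := (Nat.coprime_primes hϖ Nat.prime_two).mpr (by omega)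
              exact Nat.Coprime.pow_right 2 this
            have hx1 : x = 1 := by
              have := pow_gcd_eq_one.mpr ⟨hk', h4'⟩
              rwa [hco, pow_one] at this
            rw [hx1, one_pow]
        exact r2 hS hR hexp' (by
          have := hϖ.two_le
          by_contra hh
          have : ϖ = 4 := by omega
          rw [this] at hϖ
          exact absurd hϖ (by decide)) g hgN hgϖ ht c
      · exact hR1 (by omega) hne
    · have hdvd : r ∣ n := r_dvd_n hS
      have hne : ϖ ≠ r := by
        rintro rfl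
        exact hn (h3 ▸ hdvd)
      exact hR1 (by omega) hne

end Cfsg.Agent.S5877
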