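import Cfsg.Statements.S5885
import Cfsg.Agent.Lib.Helper98.Basic

set_option autoImplicit false
open Cfsg

namespace Cfsg.Agent.S5885

open MulAction
open scoped Pointwise
open Cfsg.Agent.Lib.Helper98

/-- the 3-cycle x → y → z → x -/
def cyc3 {Ω : Type*} [DecidableEq Ω] (x y z : Ω) : Equiv.Perm Ω := Equiv.swap x y * Equiv.swap y z

section cyc
variable {Ω : Type*} [DecidableEq Ω] {x y z w : Ω}

theorem cyc3_sign [Fintype Ω] (hxy : x ≠ y) (hyz : y ≠ z) :
    Equiv.Perm.sign (cyc3 x y z) = 1 := by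
  simp [cyc3, Equiv.Perm.sign_swap hxy, Equiv.Perm.sign_swap hyz]

theorem cyc3_fst (hxy : x ≠ y) (hxz : x ≠ z) : cyc3 x y z x = y := by
  simp [cyc3, Equiv.swap_apply_of_ne_of_ne hxy hxz]

theorem cyc3_snd (hxz : x ≠ z) (hyz : y ≠ z) : cyc3 x y z y = z := by
  simp [cyc3, Equiv.swap_apply_of_ne_of_ne hxz.symm hyz.symm]

theorem cyc3_thd : cyc3 x y z z = x := by simp [cyc3]

theorem cyc3_of_ne (hwx : w ≠ x) (hwy : w ≠ y) (hwz : w ≠ z) : cyc3 x y z w = w := by
  simp [cyc3, Equiv.swap_apply_of_ne_of_ne hwy hwz, Equiv.swap_apply_of_ne_of_ne hwx hwy]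
end cyc

theorem partA {G Ω : Type*} [Group G] [MulAction G Ω] [Fintype Ω] [DecidableEq Ω]
    (hodd : Odd (Fintype.card Ω))
    (hlift : ∀ σ : Equiv.Perm Ω, Equiv.Perm.sign σ = 1 → ∃ g : G, ∀ x, g • x = σ x)
    (a : Ω) (H K : Subgroup G) (hH : H = K ⊓ stabilizer G a)
    (hmax : ∀ L : Subgroup G, H ≤ L → L ≤ stabilizer G a → L = H ∨ L = stabilizer G a)
    [IsPretransitive K Ω] : IsPreprimitive K Ω := by
  apply IsPreprimitive.of_isTrivialBlock_base a
  intro B haB hB
  by_contra htriv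
  unfold IsTrivialBlock at htriv
  push Not at htriv
  obtain ⟨hns, hnu⟩ := htriv
  obtain ⟨b, hbB, hba⟩ : ∃ b ∈ B, b ≠ a := hns.exists_ne a
  obtain ⟨c, hcB⟩ : ∃ c, c ∉ B := by
    by_contra h
    push Not at h
    exact hnu (Set.eq_univ_of_forall h)
  obtain ⟨k₁, hk₁⟩ := exists_smul_eq K a c
  have hblk : ∀ (k : K) (x : Ω), x ∈ B → k • x ∈ B → ∀ y ∈ B, k • y ∈ B := by
    intro k x hx hkx y hy
    have := hB.smul_eq_of_mem hx hkx
    rw [← this]
    exact Set.smul_mem_smul_set hy
  obtain ⟨d, hdB, hdB'⟩ : ∃ d, d ∉ B ∧ k₁⁻¹ • d ∉ B := by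
    by_contra h
    push Not at h
    have hcov : B ∪ k₁ • B = Set.univ := by
      apply Set.eq_univ_of_forall
      intro x
      by_cases hx : x ∈ B
      · exact Or.inl hx
      · right
        rw [Set.mem_smul_set_iff_inv_smul_mem]
        exact h x hx
    have hdvd := hB.ncard_dvd_card ⟨a, haB⟩
    obtain ⟨t, ht⟩ := hdvd
    have hle : Nat.card Ω ≤ B.ncard + B.ncard := by
      calc Nat.card Ω = (Set.univ : Set Ω).ncard := (Set.ncard_univ Ω).symm
        _ = (B ∪ k₁ • B).ncard := by rw [hcov]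
        _ ≤ B.ncard + (k₁ • B).ncard := Set.ncard_union_le _ _
        _ = B.ncard + B.ncard := by rw [Set.ncard_smul_set]
    have hpos : 0 < B.ncard := (Set.ncard_pos (Set.toFinite B)).mpr ⟨a, haB⟩
    have hne : B.ncard ≠ Nat.card Ω := by
      intro h
      exact hnu ((Set.eq_univ_iff_ncard B).mpr h)
    rw [Nat.card_eq_fintype_card] at ht hle hne
    obtain ⟨r, hr⟩ := hodd
    have ht2 : t = 2 := by
      have h1 : t ≤ 2 := by
        by_contra h3
        push Not at h3
        have : B.ncard * 3 ≤ B.ncard * t := Nat.mul_le_mul_left _ h3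
        omega
      interval_cases t
      · omega
      · omega
      · rfl
    subst ht2
    omega
  obtain ⟨k₂, hk₂⟩ := exists_smul_eq K a d
  have hX : k₂⁻¹ • c ∉ B := by
    intro hc
    have h1 : (k₁⁻¹ * k₂) • (k₂⁻¹ • c) ∈ B := by
      rw [mul_smul, smul_inv_smul, ← hk₁, inv_smul_smul]
      exact haB
    have h2 := hblk (k₁⁻¹ * k₂) _ hc h1 a haB
    rw [mul_smul, hk₂] at h2
    exact hdB' h2
  have hca : c ≠ a := fun h => hcB (h ▸ haB)
  have hda : d ≠ a := fun h => hdB (h ▸ haB)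
  have hcb : c ≠ b := fun h => hcB (h ▸ hbB)
  have hdb : d ≠ b := fun h => hdB (h ▸ hbB)
  have hcd : c ≠ d := by
    intro h
    apply hdB'
    rw [← h, ← hk₁, inv_smul_smul]
    exact haB
  have heB : k₂ • b ∉ B := by
    intro h
    have := hblk k₂ b hbB h a haB
    rw [hk₂] at this
    exact hdB this
  have hed : k₂ • b ≠ d := by
    intro h
    rw [← hk₂] at h
    exact hba (smul_left_cancel _ h)
  have hec : k₂ • b ≠ c := by
    intro h
    apply hX
    rw [← h, inv_smul_smul]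
    exact hbB
  have hea : k₂ • b ≠ a := fun h => heB (by rw [h]; exact haB)
  have heb : k₂ • b ≠ b := fun h => heB (by rw [h]; exact hbB)
  have hHL' : H ≤ stabilizer G a ⊓ stabilizer G B := by
    intro h hh
    rw [hH] at hh
    refine Subgroup.mem_inf.mpr ⟨hh.2, ?_⟩
    rw [mem_stabilizer_iff]
    have h3 : (⟨h, hh.1⟩ : K) • a ∈ B := by
      change h • a ∈ B
      rw [mem_stabilizer_iff.mp hh.2]
      exact haB
    exact hB.smul_eq_of_mem (g := (⟨h, hh.1⟩ : K)) haB h3
  have hL'M : stabilizer G a ⊓ stabilizer G B ≤ stabilizer G a := inf_le_left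
  obtain ⟨g₁, hg₁⟩ := hlift (cyc3 b c d) (cyc3_sign hcb.symm hcd)
  have hg₁M : g₁ ∈ stabilizer G a := by
    rw [mem_stabilizer_iff, hg₁, cyc3_of_ne hba.symm hca.symm hda.symm]
  have hg₁L : g₁ ∉ stabilizer G a ⊓ stabilizer G B := by
    intro h
    have h2 : g₁ • B = B := mem_stabilizer_iff.mp h.2
    have : g₁ • b ∈ g₁ • B := Set.smul_mem_smul_set hbB
    rw [h2, hg₁, cyc3_fst hcb.symm hdb.symm] at this
    exact hcB this
  have hL'H : stabilizer G a ⊓ stabilizer G B = H := by
    rcases hmax _ hHL' hL'M with h | h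
    · exact h
    · exfalso
      exact hg₁L (by rw [h]; exact hg₁M)
  obtain ⟨g₂, hg₂⟩ := hlift (cyc3 c d (k₂ • b)) (cyc3_sign hcd hed.symm)
  have hg₂fix : ∀ x ∈ B, g₂ • x = x := by
    intro x hx
    rw [hg₂, cyc3_of_ne]
    · rintro rfl; exact hcB hx
    · rintro rfl; exact hdB hx
    · rintro rfl; exact heB hx
  have hg₂L : g₂ ∈ stabilizer G a ⊓ stabilizer G B := by
    refine Subgroup.mem_inf.mpr ⟨?_, ?_⟩
    · rw [mem_stabilizer_iff]
      exact hg₂fix a haB
    · rw [mem_stabilizer_iff]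
      ext x
      constructor
      · rintro ⟨y, hy, rfl⟩
        change g₂ • y ∈ B
        rw [hg₂fix y hy]
        exact hy
      · intro hx
        exact ⟨x, hx, hg₂fix x hx⟩
  have hg₂K : g₂ ∈ K := by
    have : g₂ ∈ H := hL'H ▸ hg₂L
    rw [hH] at this
    exact this.1
  have hκa : (k₂⁻¹ * ⟨g₂, hg₂K⟩ * k₂) • a = b := by
    rw [mul_smul, mul_smul, hk₂]
    change k₂⁻¹ • (g₂ • d) = b
    rw [hg₂, cyc3_snd hec.symm hed.symm, inv_smul_smul]
  have hκb : (k₂⁻¹ * ⟨g₂, hg₂K⟩ * k₂) • b = k₂⁻¹ • c := by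
    rw [mul_smul, mul_smul]
    change k₂⁻¹ • (g₂ • (k₂ • b)) = k₂⁻¹ • c
    rw [hg₂, cyc3_thd]
  have := hblk (k₂⁻¹ * ⟨g₂, hg₂K⟩ * k₂) a haB (hκa ▸ hbB) b hbB
  rw [hκb] at this
  exact hX this


theorem partB {G Ω : Type*} [Group G] [MulAction G Ω] [Fintype Ω] [DecidableEq Ω]
    (hodd : Odd (Fintype.card Ω))
    (hlift : ∀ σ : Equiv.Perm Ω, Equiv.Perm.sign σ = 1 → ∃ g : G, ∀ x, g • x = σ x)
    [IsPretransitive G Ω]
    (a : Ω) (H K : Subgroup G) (hK : IsCoatom K) (hH : H = K ⊓ stabilizer G a)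
    (hKM : ¬ K ≤ stabilizer G a)
    (hnt : ¬ IsPretransitive K Ω) : IsCoatom (H.subgroupOf K) := by
  set Δ : Set Ω := {x | ∃ k ∈ K, k • a = x} with hΔ
  have haΔ : a ∈ Δ := ⟨1, K.one_mem, one_smul _ _⟩
  obtain ⟨z, hz⟩ : ∃ z, z ∉ Δ := by
    by_contra h
    push Not at h
    apply hnt
    rw [isPretransitive_iff_base a]
    intro x
    obtain ⟨k, hk, hkx⟩ := h x
    exact ⟨⟨k, hk⟩, hkx⟩
  have hKS : ∀ g : G, (∀ x ∈ Δ, g • x ∈ Δ) → g ∈ K := by
    have hS : K ≤ stabilizer G Δ := by
      intro k hk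
      rw [mem_stabilizer_set_iff_smul_set_subset (Set.toFinite Δ)]
      rintro _ ⟨x, ⟨k', hk', rfl⟩, rfl⟩
      exact ⟨k * k', K.mul_mem hk hk', mul_smul _ _ _⟩
    have hSne : stabilizer G Δ ≠ ⊤ := by
      intro htop
      obtain ⟨g, hg⟩ := exists_smul_eq G a z
      have : g ∈ stabilizer G Δ := htop ▸ Subgroup.mem_top g
      rw [mem_stabilizer_iff] at this
      apply hz
      rw [← this, ← hg]
      exact Set.smul_mem_smul_set haΔ
    have hSK : stabilizer G Δ = K := by
      by_contra hne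
      exact hSne (hK.2 _ (lt_of_le_of_ne hS (Ne.symm hne)))
    intro g hg
    rw [← hSK, mem_stabilizer_set_iff_smul_set_subset (Set.toFinite Δ)]
    rintro _ ⟨x, hx, rfl⟩
    exact hg x hx
  have hHK : H ≤ K := hH ▸ inf_le_left
  apply isCoatom_subgroupOf_of H K hHK
  · intro hle
    apply hKM
    intro k hk
    have := hle hk
    rw [hH] at this
    exact this.2
  intro L hHL hLK hLH
  obtain ⟨l, hlL, hlH⟩ : ∃ l ∈ L, l ∉ H := by
    by_contra h
    push Not at h
    exact hLH (le_antisymm h hHL)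
  have hlK : l ∈ K := hLK hlL
  have hla : l • a ≠ a := by
    intro h
    apply hlH
    rw [hH]
    exact Subgroup.mem_inf.mpr ⟨hlK, h⟩
  intro g hgK
  by_cases hga : g • a = a
  · apply hHL
    rw [hH]
    exact Subgroup.mem_inf.mpr ⟨hgK, hga⟩
  by_cases hgb : g • a = l • a
  · have : l⁻¹ * g ∈ H := by
      rw [hH]
      refine Subgroup.mem_inf.mpr ⟨K.mul_mem (K.inv_mem hlK) hgK, ?_⟩
      rw [mem_stabilizer_iff, mul_smul, hgb, inv_smul_smul]
    have := L.mul_mem hlL (hHL this)
    simpa using this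
  obtain ⟨h, hhH, hh⟩ : ∃ h ∈ H, h • (l • a) = g • a := by
    have hbΔ : l • a ∈ Δ := ⟨l, hlK, rfl⟩
    have hcΔ : g • a ∈ Δ := ⟨g, hgK, rfl⟩
    by_cases hx : ∃ x ∈ Δ, x ≠ a ∧ x ≠ l • a ∧ x ≠ g • a
    · obtain ⟨x, hxΔ, hxa, hxb, hxc⟩ := hx
      obtain ⟨g₀, hg₀⟩ := hlift (cyc3 (l • a) (g • a) x) (cyc3_sign (Ne.symm hgb) hxc.symm)
      refine ⟨g₀, ?_, ?_⟩
      · rw [hH]
        refine Subgroup.mem_inf.mpr ⟨hKS g₀ ?_, ?_⟩
        · intro y hy
          rw [hg₀]
          by_cases hyb : y = l • a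
          · rw [hyb, cyc3_fst (Ne.symm hgb) hxb.symm]
            exact hcΔ
          by_cases hyc : y = g • a
          · rw [hyc, cyc3_snd hxb.symm hxc.symm]
            exact hxΔ
          by_cases hyx : y = x
          · rw [hyx, cyc3_thd]
            exact hbΔ
          rw [cyc3_of_ne hyb hyc hyx]
          exact hy
        · rw [mem_stabilizer_iff, hg₀, cyc3_of_ne (Ne.symm hla) (Ne.symm hga) hxa.symm]
      · rw [hg₀, cyc3_fst (Ne.symm hgb) hxb.symm]
    · push Not at hx
      have hza : z ≠ a := fun h => hz (h ▸ haΔ)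
      have hzb : z ≠ l • a := fun h => hz (h ▸ hbΔ)
      have hzc : z ≠ g • a := fun h => hz (h ▸ hcΔ)
      obtain ⟨y, hyΔ, hyz⟩ : ∃ y, y ∉ Δ ∧ y ≠ z := by
        by_contra hcon
        push Not at hcon
        have huniv : (Finset.univ : Finset Ω) = {a, l • a, g • a, z} := by
          ext w
          simp only [Finset.mem_univ, Finset.mem_insert, Finset.mem_singleton, true_iff]
          by_cases hw : w ∈ Δ
          · by_contra hcon2
            push Not at hcon2
            exact hcon2.2.2.1 (hx w hw hcon2.1 hcon2.2.1)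
          · right; right; right
            exact hcon w hw
        have hcard : Fintype.card Ω = 4 := by
          rw [← Finset.card_univ, huniv]
          rw [Finset.card_insert_of_notMem, Finset.card_insert_of_notMem,
            Finset.card_insert_of_notMem, Finset.card_singleton]
          · simpa using Ne.symm hzc
          · simp only [Finset.mem_insert, Finset.mem_singleton, not_or]
            exact ⟨Ne.symm hgb, Ne.symm hzb⟩
          · simp only [Finset.mem_insert, Finset.mem_singleton, not_or]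
            exact ⟨Ne.symm hla, Ne.symm hga, Ne.symm hza⟩
        rw [hcard] at hodd
        exact absurd hodd (by decide)
      have hya : y ≠ a := fun h => hyΔ (h ▸ haΔ)
      have hyb : y ≠ l • a := fun h => hyΔ (h ▸ hbΔ)
      have hyc : y ≠ g • a := fun h => hyΔ (h ▸ hcΔ)
      have hsign : Equiv.Perm.sign (Equiv.swap (l • a) (g • a) * Equiv.swap z y) = 1 := by
        simp [Equiv.Perm.sign_swap (Ne.symm hgb), Equiv.Perm.sign_swap (Ne.symm hyz)]
      obtain ⟨g₀, hg₀⟩ := hlift _ hsign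
      have h1 : g₀ • a = a := by
        rw [hg₀, Equiv.Perm.mul_apply, Equiv.swap_apply_of_ne_of_ne hza.symm hya.symm,
          Equiv.swap_apply_of_ne_of_ne (Ne.symm hla) (Ne.symm hga)]
      have h2 : g₀ • (l • a) = g • a := by
        rw [hg₀, Equiv.Perm.mul_apply, Equiv.swap_apply_of_ne_of_ne hzb.symm hyb.symm,
          Equiv.swap_apply_left]
      have h3 : g₀ • (g • a) = l • a := by
        rw [hg₀, Equiv.Perm.mul_apply, Equiv.swap_apply_of_ne_of_ne hzc.symm hyc.symm,
          Equiv.swap_apply_right]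
      refine ⟨g₀, ?_, h2⟩
      rw [hH]
      refine Subgroup.mem_inf.mpr ⟨hKS g₀ ?_, h1⟩
      intro w hw
      by_cases hwa : w = a
      · rw [hwa, h1]; exact haΔ
      by_cases hwb : w = l • a
      · rw [hwb, h2]; exact hcΔ
      by_cases hwc : w = g • a
      · rw [hwc, h3]; exact hbΔ
      exact absurd (hx w hw hwa hwb) hwc
  have hkey : (h * l)⁻¹ * g ∈ H := by
    rw [hH]
    have hhK : h ∈ K := hHK hhH
    refine Subgroup.mem_inf.mpr ⟨K.mul_mem (K.inv_mem (K.mul_mem hhK hlK)) hgK, ?_⟩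
    rw [mem_stabilizer_iff, mul_smul, ← hh, ← mul_smul h l a, inv_smul_smul]
  have := L.mul_mem (L.mul_mem (hHL hhH) hlL) (hHL hkey)
  have heq : h * l * ((h * l)⁻¹ * g) = g := by group
  rwa [heq] at this



theorem core {G Ω : Type*} [Group G] [MulAction G Ω] [Fintype Ω] [DecidableEq Ω] [Nontrivial Ω]
    (hodd : Odd (Fintype.card Ω))
    (hlift : ∀ σ : Equiv.Perm Ω, Equiv.Perm.sign σ = 1 → ∃ g : G, ∀ x, g • x = σ x)
    [IsPretransitive G Ω]
    (a : Ω) (H K : Subgroup G) (hK : IsCoatom K) (hH : H = K ⊓ stabilizer G a)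
    (hmax : ∀ L : Subgroup G, H ≤ L → L ≤ stabilizer G a → L = H ∨ L = stabilizer G a)
    (hKM : ¬ K ≤ stabilizer G a) : IsCoatom (H.subgroupOf K) := by
  by_cases htr : IsPretransitive K Ω
  · have hprim : IsPreprimitive K Ω := partA hodd hlift a H K hH hmax
    have hco := IsPreprimitive.isCoatom_stabilizer_of_isPreprimitive K a
    have hst : stabilizer K a = H.subgroupOf K := by
      ext k
      rw [mem_stabilizer_iff, Subgroup.mem_subgroupOf, hH, Subgroup.mem_inf, mem_stabilizer_iff]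
      constructor
      · intro h
        exact ⟨k.2, h⟩
      · intro h
        exact h.2
    rw [← hst]
    exact hco
  · exact partB hodd hlift a H K hK hH hKM htr

theorem lift_even {G : Type*} [Group G] (n : ℕ)
    (hA : ∀ P : Subgroup (Equiv.Perm (Fin n)), MulAction.IsPreprimitive P (Fin n) →
      alternatingGroup (Fin n) ≤ P)
    (M : Subgroup G) (hM : IsCoatom M) [Fintype (G ⧸ M)] [DecidableEq (G ⧸ M)]
    [Nontrivial (G ⧸ M)] (hn : Fintype.card (G ⧸ M) = n) :
    ∀ σ : Equiv.Perm (G ⧸ M), Equiv.Perm.sign σ = 1 → ∃ g : G, ∀ x : G ⧸ M, g • x = σ x := by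
  intro σ hσ
  let e : (G ⧸ M) ≃ Fin n := Fintype.equivFinOfCardEq hn
  let f : G →* Equiv.Perm (Fin n) :=
    e.permCongrHom.toMonoidHom.comp (MulAction.toPermHom G (G ⧸ M))
  have hprimG : IsPreprimitive G (G ⧸ M) := by
    rw [← isCoatom_stabilizer_iff_preprimitive G ((1 : G) : G ⧸ M), MulAction.stabilizer_quotient]
    exact hM
  let f' : (G ⧸ M) →ₑ[(f.rangeRestrict : G → f.range)] Fin n :=
    { toFun := e
      map_smul' := by
        intro g x
        change e (g • x) = (f g) (e x)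
        simp [f, Equiv.permCongrHom, Equiv.permCongr_apply] }
  have hprimP : IsPreprimitive f.range (Fin n) :=
    IsPreprimitive.of_surjective (f := f') e.surjective
  have hle := hA f.range hprimP
  have hmem : e.permCongrHom σ ∈ alternatingGroup (Fin n) := by
    rw [Equiv.Perm.mem_alternatingGroup]
    change Equiv.Perm.sign (e.permCongr σ) = 1
    rw [Equiv.Perm.sign_permCongr]
    exact hσ
  obtain ⟨g, hg⟩ := hle hmem
  refine ⟨g, fun x => ?_⟩
  have h2 : e.permCongrHom (MulAction.toPermHom G (G ⧸ M) g) = e.permCongrHom σ := hg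
  have h3 := e.permCongrHom.injective h2
  rw [← h3]
  rfl


/-- Let n be an odd positive integer such that every primitive permutation group of degree n contains the alternating group (so the symmetric and alternating groups are the only primitive groups of degree n). Let G be a finite group, M a maximal subgroup of G of index n, and H a maximal subgroup of M. Then H is a second maximal subgroup of G: H is maximal in every maximal subgroup K of G containing H. -/
theorem result {G : Type*} [Group G]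
    [Finite G] (n : ℕ) (hodd : Odd n)
    (hA : ∀ P : Subgroup (Equiv.Perm (Fin n)), MulAction.IsPreprimitive P (Fin n) → alternatingGroup (Fin n) ≤ P)
    (M : Subgroup G) (hM : IsCoatom M) (hn : M.index = n) (H : Subgroup G) (hHM : H ≤ M)
    (hmax : IsCoatom (H.subgroupOf M)) (K : Subgroup G) (hK : IsCoatom K) (hHK : H ≤ K) :
    IsCoatom (H.subgroupOf K) := by
  classical
  by_cases hKM : K = M
  · subst hKM
    exact hmax
  have hKM' : ¬ K ≤ M := by
    intro h
    rcases eq_or_lt_of_le h with h | h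
    · exact hKM h
    · exact hM.1 (hK.2 _ h)
  let _ : Fintype (G ⧸ M) := Fintype.ofFinite _
  have hstab : stabilizer G ((1 : G) : G ⧸ M) = M := MulAction.stabilizer_quotient M
  have hcard : Fintype.card (G ⧸ M) = n := by
    rw [← Nat.card_eq_fintype_card]
    exact hn
  have hnt : Nontrivial (G ⧸ M) := by
    rw [← Finite.one_lt_card_iff_nontrivial, ← Subgroup.index_eq_card, hn]
    have h1 : n ≠ 1 := by
      rw [← hn]
      intro h
      exact hM.1 (Subgroup.index_eq_one.mp h)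
    obtain ⟨r, hr⟩ := hodd
    omega
  have hH : H = K ⊓ stabilizer G ((1 : G) : G ⧸ M) := by
    rw [hstab]
    rcases eq_or_eq_of_isCoatom_subgroupOf H M hHM hmax (K ⊓ M) (le_inf hHK hHM) inf_le_right
      with h | h
    · exact h.symm
    · exfalso
      have hMK : M ≤ K := h ▸ inf_le_left
      rcases eq_or_lt_of_le hMK with h' | h'
      · exact hKM h'.symm
      · exact hK.1 (hM.2 _ h')
  have hlift := lift_even n hA M hM hcard
  have hodd' : Odd (Fintype.card (G ⧸ M)) := hcard ▸ hodd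
  exact core hodd' hlift ((1 : G) : G ⧸ M) H K hK hH (fun L h1 h2 => by
    rw [hstab] at h2 ⊢
    exact eq_or_eq_of_isCoatom_subgroupOf H M hHM hmax L h1 h2) (by rw [hstab]; exact hKM')

end Cfsg.Agent.S5885
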