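import Cfsg.Statements.S5886
import Cfsg.Agent.Lib.Helper13.CFR

set_option autoImplicit false
open Cfsg

namespace Cfsg.Agent.S5886

/-- Let F be a finite field, n a positive integer and r a prime that divides n with r < n. Let K be a subalgebra of the algebra of n × n matrices over F which is a field of degree r over F (commutative, every non-zero element invertible, of dimension r over F; it contains the scalars). Then the normaliser N of K in GL_n(F) — the invertible F-linear maps that are semilinear over the field K, a group of type ΓL_{n/r}(F_{q^r}) for |F| = q — is a maximal subgroup of GL_n(F), and N ∩ SL_n(F) is a maximal subgroup of SL_n(F). No lower bound on n is assumed. -/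
theorem result {F : Type*} [Field F]
    [Fintype F] (n r : ℕ) (hr : r.Prime) (hrn : r ∣ n) (hlt : r < n) (K : Subalgebra F (Matrix (Fin n) (Fin n) F))
    (hK : Cfsg.Geo.IsFieldSubalgebra r K) :
    IsCoatom (Cfsg.Geo.subalgebraNormalizer K) ∧
      Cfsg.Geo.IsMaximalIn (Cfsg.Geo.specialLinear (Fin n) F)
        (Cfsg.Geo.subalgebraNormalizer K ⊓ Cfsg.Geo.specialLinear (Fin n) F) := by
  classical
  have hfin : Module.finrank F K = r := hK.finrank_eq
  haveI : Module.Finite F K := Module.finite_of_finrank_pos (by rw [hfin]; exact hr.pos)
  haveI : Nontrivial K := Module.nontrivial_of_finrank_pos (R := F) (by rw [hfin]; exact hr.pos)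
  have hfield : IsField K :=
    { exists_pair_ne := ⟨0, 1, zero_ne_one⟩
      mul_comm := fun x y => Subtype.ext (hK.comm x.1 x.2 y.1 y.2)
      mul_inv_cancel := by
        intro a ha
        have ha' : a.1 ≠ 0 := fun h => ha (Subtype.ext h)
        obtain ⟨y, hyK, hy⟩ := hK.inv a.1 a.2 ha'
        exact ⟨⟨y, hyK⟩, Subtype.ext hy⟩ }
  letI : Field K := hfield.toField
  haveI : Finite K := Module.finite_of_finite F
  have key := Cfsg.Agent.Lib.Helper13.CF.main_embedded (F := F) (n := n) (K' := K) K.val
    Subtype.val_injective (by rw [hfin]; exact hr) (by rw [hfin]; exact hlt)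
  rw [Subalgebra.range_val] at key
  exact key

end Cfsg.Agent.S5886
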