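import Cfsg.Statements.S5904
-- import your own Cfsg.Agent.* helpers here

set_option autoImplicit false
open scoped Pointwise
open Cfsg

namespace Cfsg.Agent.S5904


/-- The subgroup of permutations preserving the partition `{O, Oᶜ}`. -/
def pairStab {Ω : Type*} (O : Set Ω) : Subgroup (Equiv.Perm Ω) where
  carrier := {g | g • O = O ∨ g • O = Oᶜ}
  one_mem' := Or.inl (one_smul _ _)
  mul_mem' := by
    rintro a b ha hb
    simp only [Set.mem_ofPred_eq] at ha hb ⊢
    rw [mul_smul]
    rcases hb with hb | hb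
    · rw [hb]; exact ha
    · rw [hb, Set.smul_set_compl]
      rcases ha with ha | ha
      · right; rw [ha]
      · left; rw [ha, compl_compl]
  inv_mem' := by
    rintro a ha
    simp only [Set.mem_ofPred_eq] at ha ⊢
    rcases ha with ha | ha
    · left
      rw [inv_smul_eq_iff, ha]
    · right
      rw [inv_smul_eq_iff, Set.smul_set_compl, ha, compl_compl]

/-- Let Ω be a finite set with more than two elements and O ⊆ Ω a subset with exactly as many elements as its complement. Then the setwise stabilizer of O in the symmetric group on Ω is not a maximal subgroup (it is properly contained in the stabilizer of the partition {O, Ω ∖ O}, which is proper). -/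
theorem result {Ω : Type*} [Fintype Ω] [DecidableEq Ω] (hΩ : 2 < Fintype.card Ω)
    (O : Set Ω) (hO : Nat.card O = Nat.card ↥Oᶜ) :
    ¬ IsCoatom (MulAction.stabilizer (Equiv.Perm Ω) O) := by
  classical
  intro hc
  have hfin : O.Finite := Set.toFinite O
  have hsum : O.ncard + Oᶜ.ncard = Fintype.card Ω := by
    rw [Set.ncard_add_ncard_compl, Nat.card_eq_fintype_card]
  rw [Nat.card_coe_set_eq, Nat.card_coe_set_eq] at hO
  have h2 : 1 < O.ncard := by omega
  have h2' : 1 < Oᶜ.ncard := by omega
  obtain ⟨x, hx, x', hx', hxx'⟩ := (Set.one_lt_ncard hfin).mp h2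
  obtain ⟨y, hy, -⟩ := (Set.one_lt_ncard (Set.toFinite Oᶜ)).mp h2'
  have hle : MulAction.stabilizer (Equiv.Perm Ω) O ≤ pairStab O := by
    intro g hg
    exact Or.inl (MulAction.mem_stabilizer_iff.mp hg)
  -- an element swapping O and its complement
  have hswap : ∃ g : Equiv.Perm Ω, g • O = Oᶜ := by
    have hcard : Fintype.card O = Fintype.card ↥Oᶜ := by
      rw [← Nat.card_eq_fintype_card, ← Nat.card_eq_fintype_card, Nat.card_coe_set_eq,
        Nat.card_coe_set_eq]; exact hO
    obtain ⟨e⟩ := Fintype.card_eq.mp hcard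
    let g : Equiv.Perm Ω := (Equiv.Set.sumCompl O).symm.trans
      ((Equiv.sumComm _ _).trans ((Equiv.sumCongr e.symm e).trans (Equiv.Set.sumCompl O)))
    have hg1 : ∀ z (hz : z ∈ O), g z = e ⟨z, hz⟩ := by
      intro z hz
      simp [g, Equiv.Set.sumCompl_symm_apply_of_mem hz]
    refine ⟨g, ?_⟩
    ext w
    constructor
    · rintro ⟨z, hz, rfl⟩
      change g z ∈ Oᶜ
      rw [hg1 z hz]
      exact (e ⟨z, hz⟩).2
    · intro hw
      refine ⟨e.symm ⟨w, hw⟩, (e.symm ⟨w, hw⟩).2, ?_⟩
      change g (e.symm ⟨w, hw⟩ : Ω) = w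
      rw [hg1 _ (e.symm ⟨w, hw⟩).2]
      simp
  obtain ⟨g, hg⟩ := hswap
  have hne : MulAction.stabilizer (Equiv.Perm Ω) O ≠ pairStab O := by
    intro heq
    have hgK : g ∈ pairStab O := Or.inr hg
    rw [← heq, MulAction.mem_stabilizer_iff, hg] at hgK
    have : x ∈ Oᶜ := by rw [hgK]; exact hx
    exact this hx
  have htop : pairStab O = ⊤ := hc.2 _ (lt_of_le_of_ne hle hne)
  have hs : Equiv.swap x y ∈ pairStab O := htop ▸ Subgroup.mem_top _
  have hy' : y ∉ O := hy
  have hymem : y ∈ Equiv.swap x y • O := ⟨x, hx, by simp [Equiv.Perm.smul_def]⟩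
  have hx'mem : x' ∈ Equiv.swap x y • O := by
    refine ⟨x', hx', ?_⟩
    have h1 : x' ≠ x := fun h => hxx' h.symm
    have h2 : x' ≠ y := fun h => hy' (h ▸ hx')
    simp [Equiv.Perm.smul_def, Equiv.swap_apply_of_ne_of_ne h1 h2]
  rcases hs with hs | hs
  · rw [hs] at hymem; exact hy' hymem
  · rw [hs] at hx'mem; exact hx'mem hx'

end Cfsg.Agent.S5904
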