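import Cfsg.Statements.S5894
import Cfsg.Agent.Lib.Helper98.PermStab
import Cfsg.Agent.S5904

set_option autoImplicit false
open Cfsg

namespace Cfsg.Agent.S5894

open MulAction Equiv
open scoped Pointwise
open Cfsg.Agent.Lib.Helper98

/-- For every m ≥ 2 the symmetric group on 2m letters has a maximal subgroup M of index 2m together with a maximal subgroup H of M that is not second maximal: some maximal subgroup K of the symmetric group contains H without H being maximal in K. (One may take M the stabiliser of a letter, H ≅ S_m × S_{m−1} inside it, and K ≅ S_m ≀ S₂ the stabiliser of a partition into two m-sets, with H < S_m × S_m < K.) So the prime-index hypothesis in the second-maximality criterion cannot be relaxed to any even index ≥ 4. -/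
theorem result (m : ℕ) (hm : 2 ≤ m) :
    ∃ M H K : Subgroup (Equiv.Perm (Fin (2 * m))), IsCoatom M ∧ M.index = 2 * m ∧ H ≤ M ∧ IsCoatom (H.subgroupOf M) ∧
      IsCoatom K ∧ H ≤ K ∧ ¬ IsCoatom (H.subgroupOf K) := by
  classical
  have h0 : 0 < 2 * m := by omega
  have h1 : 1 < 2 * m := by omega
  set a₀ : Fin (2 * m) := ⟨0, h0⟩ with ha₀
  set a₁ : Fin (2 * m) := ⟨1, h1⟩ with ha₁
  set A : Set (Fin (2 * m)) := {i | i.val < m} with hA
  have ha₀A : a₀ ∈ A := by
    change (0 : ℕ) < m
    omega
  have ha₁A : a₁ ∈ A := by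
    change (1 : ℕ) < m
    omega
  have ha₁₀ : a₁ ≠ a₀ := by
    intro h
    have := congrArg Fin.val h
    simp [ha₀, ha₁] at this
  have hlast : (⟨m, by omega⟩ : Fin (2 * m)) ∉ A := by
    change ¬ (m < m)
    omega
  have hAcard : A.ncard = m := by
    rw [← Nat.card_coe_set_eq]
    have e : A ≃ Fin m :=
      { toFun := fun x => ⟨x.1.1, x.2⟩
        invFun := fun i => ⟨⟨i.1, by omega⟩, i.2⟩
        left_inv := fun x => by rfl
        right_inv := fun i => by rfl }
    rw [Nat.card_congr e, Nat.card_eq_fintype_card, Fintype.card_fin]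
  have hAccard : Aᶜ.ncard = m := by
    have := Set.ncard_add_ncard_compl A
    rw [hAcard, Nat.card_eq_fintype_card, Fintype.card_fin] at this
    omega
  have hnc : ¬ IsCoatom (stabilizer (Perm (Fin (2 * m))) A) := by
    apply Cfsg.Agent.S5904.result
    · rw [Fintype.card_fin]
      omega
    · rw [Nat.card_coe_set_eq, Nat.card_coe_set_eq, hAcard, hAccard]
  have hSne : stabilizer (Perm (Fin (2 * m))) A ≠ ⊤ :=
    Equiv.Perm.stabilizer_ne_top_of_nonempty_of_nonempty_compl ⟨a₀, ha₀A⟩ ⟨_, hlast⟩
  obtain ⟨L', hSL', hL'top⟩ : ∃ L', stabilizer (Perm (Fin (2 * m))) A < L' ∧ L' ≠ ⊤ := by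
    by_contra h
    push Not at h
    exact hnc ⟨hSne, h⟩
  obtain ⟨K, hK, hL'K⟩ := (eq_top_or_exists_le_coatom L').resolve_left hL'top
  have hnt : Nontrivial (Fin (2 * m)) := Fin.nontrivial_iff_two_le.mpr (by omega)
  refine ⟨stabilizer (Perm (Fin (2 * m))) a₀,
    stabilizer (Perm (Fin (2 * m))) a₀ ⊓ stabilizer (Perm (Fin (2 * m))) A, K, ?_, ?_, inf_le_left,
    ?_, hK, ?_, ?_⟩
  · exact IsPreprimitive.isCoatom_stabilizer_of_isPreprimitive (Perm (Fin (2 * m))) a₀
  · rw [MulAction.index_stabilizer_of_transitive, Nat.card_eq_fintype_card, Fintype.card_fin]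
  · apply isCoatom_pointStab_inf_setStab a₀ A ha₀A ⟨a₁, ha₁A, ha₁₀⟩ ⟨_, hlast⟩
    rw [Fintype.card_fin, hAcard]
    omega
  · exact inf_le_right.trans (hSL'.le.trans hL'K)
  · intro hco
    have hSK : stabilizer (Perm (Fin (2 * m))) A ≤ K := hSL'.le.trans hL'K
    have hlt : (stabilizer (Perm (Fin (2 * m))) a₀ ⊓ stabilizer (Perm (Fin (2 * m))) A).subgroupOf K
        < (stabilizer (Perm (Fin (2 * m))) A).subgroupOf K := by
      apply lt_of_le_of_ne (Subgroup.subgroupOf_mono K inf_le_right)
      intro heq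
      have hmem : swap a₀ a₁ ∈ stabilizer (Perm (Fin (2 * m))) A := by
        rw [mem_stabilizer_set' (Set.toFinite A)]
        intro b hb
        rw [Perm.smul_def]
        by_cases hb0 : b = a₀
        · rw [hb0, swap_apply_left]
          exact ha₁A
        by_cases hb1 : b = a₁
        · rw [hb1, swap_apply_right]
          exact ha₀A
        rw [swap_apply_of_ne_of_ne hb0 hb1]
        exact hb
      have h2 : (⟨swap a₀ a₁, hSK hmem⟩ : K) ∈
          (stabilizer (Perm (Fin (2 * m))) A).subgroupOf K := hmem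
      rw [← heq] at h2
      have h3 := (Subgroup.mem_inf.mp (Subgroup.mem_subgroupOf.mp h2)).1
      rw [mem_stabilizer_iff, Perm.smul_def] at h3
      simp only [swap_apply_left] at h3
      exact ha₁₀ h3
    have htop := hco.2 _ hlt
    have hKS : K ≤ stabilizer (Perm (Fin (2 * m))) A := Subgroup.subgroupOf_eq_top.mp htop
    exact absurd (lt_of_lt_of_le hSL' (hL'K.trans hKS)) (lt_irrefl _)

end Cfsg.Agent.S5894
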