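import Cfsg.Statements.S5895
import Cfsg.Agent.Lib.Helper98.Basic
import Cfsg.Agent.S5914

set_option autoImplicit false
open Cfsg

namespace Cfsg.Agent.S5895


open MulAction
open scoped Pointwise LinearAlgebra.Projectivization
open Cfsg.Agent.Lib.Helper98

/-- The natural action of the affine group on the points. -/
instance affAct (k V : Type*) [Ring k] [AddCommGroup V] [Module k V] :
    MulAction (V ≃ᵃ[k] V) V where
  smul g v := g v
  one_smul _ := rfl
  mul_smul _ _ _ := rfl

theorem affAct_def {k V : Type*} [Ring k] [AddCommGroup V] [Module k V] (g : V ≃ᵃ[k] V) (v : V) :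
    g • v = g v := rfl

theorem aff_apply {k V : Type*} [Ring k] [AddCommGroup V] [Module k V] (g : V ≃ᵃ[k] V) (v : V) :
    g v = g.linear v + g 0 := by
  have := g.map_vadd 0 v
  simpa using this

/-- Linear automorphisms as affine automorphisms, as a group homomorphism. -/
def linToAff (k V : Type*) [Ring k] [AddCommGroup V] [Module k V] :
    (V ≃ₗ[k] V) →* (V ≃ᵃ[k] V) :=
  MonoidHom.mk' (fun A => A.toAffineEquiv) (fun A B => by
    ext v
    rfl)

theorem linToAff_apply {k V : Type*} [Ring k] [AddCommGroup V] [Module k V] (A : V ≃ₗ[k] V)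
    (v : V) : linToAff k V A v = A v := rfl

theorem linToAff_linear {k V : Type*} [Ring k] [AddCommGroup V] [Module k V] (A : V ≃ₗ[k] V) :
    (linToAff k V A).linear = A := rfl

theorem eq_linToAff {k V : Type*} [Ring k] [AddCommGroup V] [Module k V] (g : V ≃ᵃ[k] V)
    (hg : g 0 = 0) : g = linToAff k V g.linear := by
  ext v
  rw [aff_apply g v, hg, add_zero, linToAff_apply]

theorem main (p d : ℕ) [hp : Fact p.Prime] (hd : 2 ≤ d) :
    ∃ (M H K : Subgroup ((Fin d → ZMod p) ≃ᵃ[ZMod p] (Fin d → ZMod p))), IsCoatom M ∧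
      M.index = p ^ d ∧ H ≤ M ∧
      IsCoatom (H.subgroupOf M) ∧ IsCoatom K ∧ H ≤ K ∧ ¬ IsCoatom (H.subgroupOf K) := by
  classical
  set i0 : Fin d := ⟨0, by omega⟩ with hi0
  set i1 : Fin d := ⟨1, by omega⟩ with hi1
  have hi01 : i0 ≠ i1 := by
    intro h
    have := congrArg Fin.val h
    simp [hi0, hi1] at this
  set e₀ : Fin d → ZMod p := Pi.single i0 1 with he₀
  set e₁ : Fin d → ZMod p := Pi.single i1 1 with he₁
  have he₀0 : e₀ ≠ 0 := by
    intro h
    have := congrFun h i0
    simp [he₀] at this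
  have he₁0 : e₁ ≠ 0 := by
    intro h
    have := congrFun h i1
    simp [he₁] at this
  have he₁span : ∀ c : ZMod p, c • e₀ ≠ e₁ := by
    intro c h
    have := congrFun h i1
    simp [he₀, he₁, Pi.single_eq_of_ne hi01.symm] at this
  -- the point of the projective space
  set ℓ : ℙ (ZMod p) (Fin d → ZMod p) := Projectivization.mk (ZMod p) e₀ he₀0 with hℓ
  have hnt : Nontrivial (ℙ (ZMod p) (Fin d → ZMod p)) := by
    refine ⟨ℓ, Projectivization.mk (ZMod p) e₁ he₁0, ?_⟩
    intro h
    rw [hℓ, Projectivization.mk_eq_mk_iff] at h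
    obtain ⟨a, ha⟩ := h
    have := congrFun ha i0
    simp [he₀, he₁, Pi.single_eq_of_ne hi01] at this
  have hprim : IsPreprimitive ((Fin d → ZMod p) ≃ₗ[ZMod p] (Fin d → ZMod p))
      (ℙ (ZMod p) (Fin d → ZMod p)) :=
    isPreprimitive_of_is_two_pretransitive
      (Projectivization.linearEquiv_is_two_pretransitive (ZMod p) (Fin d → ZMod p))
  have hPW : IsCoatom (stabilizer ((Fin d → ZMod p) ≃ₗ[ZMod p] (Fin d → ZMod p)) ℓ) :=
    IsPreprimitive.isCoatom_stabilizer_of_isPreprimitive _ ℓ
  -- membership in the parabolic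
  have hPWmem : ∀ A : (Fin d → ZMod p) ≃ₗ[ZMod p] (Fin d → ZMod p),
      A ∈ stabilizer ((Fin d → ZMod p) ≃ₗ[ZMod p] (Fin d → ZMod p)) ℓ ↔
        ∃ a : (ZMod p)ˣ, a • e₀ = A e₀ := by
    intro A
    rw [mem_stabilizer_iff, hℓ, Projectivization.smul_mk, Projectivization.mk_eq_mk_iff]
    rfl
  have hsurj : Function.Surjective (AffineEquiv.linearHom :
      ((Fin d → ZMod p) ≃ᵃ[ZMod p] (Fin d → ZMod p)) →* _) := fun A => ⟨linToAff _ _ A, rfl⟩
  refine ⟨stabilizer _ (0 : Fin d → ZMod p),
    stabilizer _ (0 : Fin d → ZMod p) ⊓ (stabilizer _ ℓ).comap AffineEquiv.linearHom,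
    (stabilizer _ ℓ).comap AffineEquiv.linearHom, ?_, ?_, inf_le_left, ?_,
    Subgroup.isCoatom_comap_of_surjective hsurj hPW, inf_le_right, ?_⟩
  · -- M is maximal
    constructor
    · intro htop
      have : AffineEquiv.constVAdd (ZMod p) (Fin d → ZMod p) e₀ ∈
          stabilizer ((Fin d → ZMod p) ≃ᵃ[ZMod p] (Fin d → ZMod p)) (0 : Fin d → ZMod p) :=
        htop ▸ Subgroup.mem_top _
      rw [mem_stabilizer_iff, affAct_def] at this
      simp at this
      exact he₀0 this
    · intro X hX
      obtain ⟨g, hgX, hgM⟩ : ∃ g ∈ X, g ∉ stabilizer _ (0 : Fin d → ZMod p) := by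
        by_contra h
        push Not at h
        exact hX.ne (le_antisymm hX.le h)
      rw [mem_stabilizer_iff, affAct_def] at hgM
      rw [eq_top_iff]
      intro h _
      by_cases hh : h 0 = 0
      · exact hX.le (by rw [mem_stabilizer_iff, affAct_def]; exact hh)
      · obtain ⟨A, hA⟩ := Cfsg.Agent.S5914.exists_linearEquiv_apply_eq (K := ZMod p) _ _ hgM hh
        have h1 : (linToAff _ _ A * g)⁻¹ * h ∈ stabilizer _ (0 : Fin d → ZMod p) := by
          rw [mem_stabilizer_iff, mul_smul, inv_smul_eq_iff, mul_smul, affAct_def, affAct_def,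
            affAct_def, linToAff_apply, hA]
        have h2 : linToAff _ _ A ∈ X := hX.le (by
          rw [mem_stabilizer_iff, affAct_def, linToAff_apply, map_zero])
        have h3 := X.mul_mem (X.mul_mem h2 hgX) (hX.le h1)
        have h4 : linToAff _ _ A * g * ((linToAff _ _ A * g)⁻¹ * h) = h := by group
        rwa [h4] at h3
  · -- index
    have : IsPretransitive ((Fin d → ZMod p) ≃ᵃ[ZMod p] (Fin d → ZMod p)) (Fin d → ZMod p) := by
      refine ⟨fun v w => ⟨AffineEquiv.constVAdd (ZMod p) (Fin d → ZMod p) (w - v), ?_⟩⟩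
      rw [affAct_def]
      simp
    rw [MulAction.index_stabilizer_of_transitive, Nat.card_fun, Nat.card_zmod, Nat.card_fin]
  · -- H maximal in M
    apply isCoatom_subgroupOf_of _ _ inf_le_left
    · intro hle
      obtain ⟨A, hA⟩ : ∃ A, A ∉ stabilizer ((Fin d → ZMod p) ≃ₗ[ZMod p] (Fin d → ZMod p)) ℓ := by
        by_contra h
        push Not at h
        exact hPW.1 ((Subgroup.eq_top_iff' _).mpr h)
      have h1 : linToAff _ _ A ∈ stabilizer _ (0 : Fin d → ZMod p) := by
        rw [mem_stabilizer_iff, affAct_def, linToAff_apply, map_zero]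
      exact hA (Subgroup.mem_inf.mp (hle h1)).2
    · intro L hHL hLM hLH
      have hle : stabilizer _ ℓ ≤ L.comap (linToAff (ZMod p) (Fin d → ZMod p)) := by
        intro A hA
        apply hHL
        refine Subgroup.mem_inf.mpr ⟨?_, hA⟩
        rw [mem_stabilizer_iff, affAct_def, linToAff_apply, map_zero]
      have hne : stabilizer _ ℓ ≠ L.comap (linToAff (ZMod p) (Fin d → ZMod p)) := by
        intro heq
        apply hLH
        apply le_antisymm _ hHL
        intro g hg
        have hg0 : g 0 = 0 := hLM hg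
        refine Subgroup.mem_inf.mpr ⟨hLM hg, ?_⟩
        change g.linear ∈ stabilizer _ ℓ
        rw [heq]
        change linToAff _ _ g.linear ∈ L
        rw [← eq_linToAff g hg0]
        exact hg
      have htop := hPW.2 _ (lt_of_le_of_ne hle hne)
      intro g hg
      have hg0 : g 0 = 0 := hg
      rw [eq_linToAff g hg0]
      have : g.linear ∈ L.comap (linToAff (ZMod p) (Fin d → ZMod p)) := htop ▸ Subgroup.mem_top _
      exact this
  · -- H is not maximal in K
    intro hco
    set W : Set (Fin d → ZMod p) := {v | ∃ c : ZMod p, c • e₀ = v} with hW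
    have hWfin : W.Finite := Set.toFinite W
    set Kg := (stabilizer ((Fin d → ZMod p) ≃ₗ[ZMod p] (Fin d → ZMod p)) ℓ).comap
      (AffineEquiv.linearHom : ((Fin d → ZMod p) ≃ᵃ[ZMod p] (Fin d → ZMod p)) →* _) with hKg
    set T : Subgroup ((Fin d → ZMod p) ≃ᵃ[ZMod p] (Fin d → ZMod p)) :=
      Kg ⊓ stabilizer _ W with hT
    have hτK : ∀ v : Fin d → ZMod p, AffineEquiv.constVAdd (ZMod p) (Fin d → ZMod p) v ∈ Kg := by
      intro v
      change (AffineEquiv.constVAdd (ZMod p) (Fin d → ZMod p) v).linear ∈ stabilizer _ ℓ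
      rw [AffineEquiv.linear_constVAdd]
      exact Subgroup.one_mem _
    have hHT : stabilizer _ (0 : Fin d → ZMod p) ⊓ Kg ≤ T := by
      intro g hg
      obtain ⟨hg0, hgK⟩ := Subgroup.mem_inf.mp hg
      refine Subgroup.mem_inf.mpr ⟨hgK, ?_⟩
      rw [mem_stabilizer_set' hWfin]
      rintro w ⟨c, rfl⟩
      have hg0' : g 0 = 0 := hg0
      obtain ⟨a, ha⟩ := (hPWmem g.linear).mp hgK
      refine ⟨c * a, ?_⟩
      rw [affAct_def, aff_apply g, hg0', add_zero, map_smul, ← ha, Units.smul_def, smul_smul]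
    have hτ0T : AffineEquiv.constVAdd (ZMod p) (Fin d → ZMod p) e₀ ∈ T := by
      refine Subgroup.mem_inf.mpr ⟨hτK _, ?_⟩
      rw [mem_stabilizer_set' hWfin]
      rintro w ⟨c, rfl⟩
      refine ⟨1 + c, ?_⟩
      rw [affAct_def, AffineEquiv.constVAdd_apply, add_smul, one_smul, vadd_eq_add]
    have hτ1T : AffineEquiv.constVAdd (ZMod p) (Fin d → ZMod p) e₁ ∉ T := by
      intro h
      have h2 := (Subgroup.mem_inf.mp h).2
      rw [mem_stabilizer_set' hWfin] at h2
      obtain ⟨c, hc⟩ := h2 (b := 0) ⟨0, zero_smul _ _⟩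
      rw [affAct_def, AffineEquiv.constVAdd_apply, vadd_eq_add, add_zero] at hc
      exact he₁span c hc
    have hlt : (stabilizer _ (0 : Fin d → ZMod p) ⊓ Kg).subgroupOf Kg < T.subgroupOf Kg := by
      apply lt_of_le_of_ne (Subgroup.subgroupOf_mono Kg hHT)
      intro heq
      have h2 : (⟨_, hτK e₀⟩ : Kg) ∈ T.subgroupOf Kg := hτ0T
      rw [← heq] at h2
      have h3 := (Subgroup.mem_inf.mp (Subgroup.mem_subgroupOf.mp h2)).1
      rw [mem_stabilizer_iff, affAct_def] at h3
      simp at h3
      exact he₀0 h3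
    have htop := hco.2 _ hlt
    have hKT : Kg ≤ T := Subgroup.subgroupOf_eq_top.mp htop
    exact hτ1T (hKT (hτK e₁))

/-- For every prime p and every d ≥ 2 there is a finite group G with a maximal subgroup M of index p^d and a maximal subgroup H of M that is not second maximal in G: some maximal subgroup K of G contains H without H being maximal in K. (One may take G the affine group V ⋊ GL(V) of V = 𝔽_p^d, M = GL(V), H the stabiliser in M of a line W of V, and K = V ⋊ H, with H < W ⋊ H < K.) So the prime-index hypothesis in the second-maximality criterion cannot be relaxed to prime-power index. -/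
theorem result (p d : ℕ) (hp : p.Prime)
    (hd : 2 ≤ d) :
    ∃ (G : Type) (_ : Group G) (_ : Finite G) (M H K : Subgroup G), IsCoatom M ∧ M.index = p ^ d ∧ H ≤ M ∧
      IsCoatom (H.subgroupOf M) ∧ IsCoatom K ∧ H ≤ K ∧ ¬ IsCoatom (H.subgroupOf K) := by
  have : Fact p.Prime := ⟨hp⟩
  obtain ⟨M, H, K, h⟩ := main p d hd
  have hfin : Finite ((Fin d → ZMod p) ≃ᵃ[ZMod p] (Fin d → ZMod p)) :=
    Finite.of_injective _ AffineEquiv.coeFn_injective
  exact ⟨_, inferInstance, hfin, M, H, K, h⟩

end Cfsg.Agent.S5895
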