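import Cfsg.Statements.S5896
import Cfsg.Agent.Lib.Helper70.PermFour

set_option autoImplicit false
open Cfsg

namespace Cfsg.Agent.S5896

open scoped commutatorElement
open SemidirectProduct

/-- The alternating group of degree five. -/
abbrev A5 : Type := alternatingGroup (Fin 5)

/-- The permutational wreath product of `S` by the alternating group of degree five. -/
abbrev Wr (S : Type) [Group S] : Type :=
  (Fin 5 → S) ⋊[(mulAutArrow : A5 →* MulAut (Fin 5 → S))] A5

section
variable {S : Type} [Group S]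

theorem arrow_apply (a : A5) (f : Fin 5 → S) (x : Fin 5) :
    (mulAutArrow : A5 →* MulAut (Fin 5 → S)) a f x = f (a⁻¹ • x) := rfl

theorem arrow_mulSingle (a : A5) (i : Fin 5) (t : S) :
    (mulAutArrow : A5 →* MulAut (Fin 5 → S)) a (Pi.mulSingle i t) = Pi.mulSingle (a • i) t := by
  funext x
  rw [arrow_apply, Pi.mulSingle_apply, Pi.mulSingle_apply]
  simp only [inv_smul_eq_iff]

/-- The element with `s` at `i` and `s⁻¹` at `l`. -/
def E (i l : Fin 5) (s : S) : Wr S := inl (Pi.mulSingle i s * Pi.mulSingle l s⁻¹)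

theorem comm_E (i j l : Fin 5) (a : A5) (hl : a • l = l) (hi : a • i = j) (s : S) :
    ⁅E i l s, (inr a : Wr S)⁆ = E i j s := by
  have h1 : (inr a : Wr S) * (E i l s)⁻¹ * (inr a)⁻¹ =
      inl ((mulAutArrow : A5 →* MulAut (Fin 5 → S)) a (Pi.mulSingle i s * Pi.mulSingle l s⁻¹)⁻¹) := by
    rw [inl_aut, E, map_inv, map_inv]
  rw [commutatorElement_def, mul_assoc, mul_assoc, ← mul_assoc (inr a), h1, E, ← map_mul, E]
  congr 1
  rw [map_inv, map_mul, arrow_mulSingle, arrow_mulSingle, hl, hi, mul_inv_rev, ← Pi.mulSingle_inv,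
    ← Pi.mulSingle_inv, inv_inv, mul_assoc, ← mul_assoc (Pi.mulSingle l s⁻¹ : Fin 5 → S), ← Pi.mulSingle_mul,
    inv_mul_cancel, Pi.mulSingle_one, one_mul]


theorem exists_two (i j : Fin 5) : ∃ l m : Fin 5, l ≠ i ∧ l ≠ j ∧ m ≠ i ∧ m ≠ j ∧ l ≠ m := by
  revert i j
  decide

theorem exists_cycle (i j : Fin 5) (hij : i ≠ j) :
    ∃ (l : Fin 5) (a : A5), l ≠ i ∧ a • l = l ∧ a • i = j := by
  obtain ⟨l, m, hli, hlj, hmi, hmj, hlm⟩ := exists_two i j
  refine ⟨l, ⟨Equiv.swap i j * Equiv.swap j m, ?_⟩, hli, ?_, ?_⟩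
  · rw [Equiv.Perm.mem_alternatingGroup, map_mul, Equiv.Perm.sign_swap hij,
      Equiv.Perm.sign_swap (Ne.symm hmj)]
    rfl
  · rw [Subgroup.smul_def]
    simp only [Equiv.Perm.smul_def, Equiv.Perm.mul_apply]
    rw [Equiv.swap_apply_of_ne_of_ne hlj hlm, Equiv.swap_apply_of_ne_of_ne hli hlj]
  · rw [Subgroup.smul_def]
    simp only [Equiv.Perm.smul_def, Equiv.Perm.mul_apply]
    rw [Equiv.swap_apply_of_ne_of_ne hij (Ne.symm hmi), Equiv.swap_apply_left]

/-- The generating set of the perfect group. -/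
def gens (S : Type) [Group S] : Set (Wr S) :=
  Set.range (inr : A5 →* Wr S) ∪ {x | ∃ i j : Fin 5, i ≠ j ∧ ∃ s : S, x = E i j s}

/-- The perfect group, as a subgroup of the wreath product. -/
def K (S : Type) [Group S] : Subgroup (Wr S) := Subgroup.closure (gens S)

theorem inr_mem_K (a : A5) : (inr a : Wr S) ∈ K S := Subgroup.subset_closure (Or.inl ⟨a, rfl⟩)

theorem E_mem_K {i j : Fin 5} (h : i ≠ j) (s : S) : E i j s ∈ K S :=
  Subgroup.subset_closure (Or.inr ⟨i, j, h, s, rfl⟩)

theorem A5_perfect : ⁅(⊤ : Subgroup A5), (⊤ : Subgroup A5)⁆ = ⊤ := by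
  rw [← commutator_def]
  exact commutator_alternatingGroup_eq_top (by simp)

theorem K_le_comm : K S ≤ ⁅K S, K S⁆ := by
  refine (Subgroup.closure_le _).mpr ?_
  rintro x (⟨a, rfl⟩ | ⟨i, j, hij, s, rfl⟩)
  · have h2 : (⁅(⊤ : Subgroup A5), (⊤ : Subgroup A5)⁆).map (inr : A5 →* Wr S) ≤ ⁅K S, K S⁆ := by
      rw [Subgroup.map_commutator]
      apply Subgroup.commutator_mono <;> (rintro _ ⟨a, -, rfl⟩; exact inr_mem_K a)
    exact h2 ⟨a, by rw [A5_perfect]; trivial, rfl⟩
  · obtain ⟨l, a, hl, hal, hai⟩ := exists_cycle i j hij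
    rw [SetLike.mem_coe, ← comm_E i j l a hal hai s]
    exact Subgroup.commutator_mem_commutator (E_mem_K hl.symm s) (inr_mem_K a)

theorem K_perfect : commutator (K S) = ⊤ := by
  have h : (commutator (K S)).map (K S).subtype = (⊤ : Subgroup (K S)).map (K S).subtype := by
    rw [commutator_def, Subgroup.map_commutator, ← MonoidHom.range_eq_map, Subgroup.range_subtype]
    exact le_antisymm (Subgroup.commutator_le_self _) K_le_comm
  exact Subgroup.map_injective (K S).subtype_injective h


end

/-- The point stabiliser in the alternating group. -/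
def T : Subgroup A5 := MulAction.stabilizer A5 (0 : Fin 5)

theorem T_coatom : IsCoatom T := by
  have : MulAction.IsPreprimitive A5 (Fin 5) :=
    alternatingGroup.isPreprimitive_of_three_le_card (Fin 5) (by simp)
  exact MulAction.IsPreprimitive.isCoatom_stabilizer_of_isPreprimitive A5 (0 : Fin 5)

theorem T_fix (g : ↥T) : g.1.1 0 = 0 := g.2

/-- Restriction to the complement of the fixed point. -/
def resT : ↥T →* Equiv.Perm {x : Fin 5 // x ≠ 0} where
  toFun g := Equiv.Perm.subtypePerm (g.1.1) (fun x => by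
    have h0 : g.1.1 0 = 0 := T_fix g
    rw [not_iff_not]
    constructor
    · intro h
      apply g.1.1.injective
      rw [h, h0]
    · intro h
      rw [h, h0])
  map_one' := by
    ext x
    simp
  map_mul' a b := by
    ext x
    rfl

theorem resT_injective : Function.Injective resT := by
  rw [injective_iff_map_eq_one]
  intro g hg
  apply Subtype.ext
  apply Subtype.ext
  ext x
  by_cases hx : x = 0
  · rw [hx, T_fix g]
    rfl
  · have := congrArg (fun p : Equiv.Perm {x : Fin 5 // x ≠ 0} => ((p ⟨x, hx⟩ : {x : Fin 5 // x ≠ 0}) : Fin 5)) hg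
    simpa [resT] using congrArg Fin.val this

instance T_solvable : Group.IsSolvable ↥T := by
  have := Cfsg.Agent.Lib.Helper70.perm_solvable_of_card_four {x : Fin 5 // x ≠ 0}
    (by rw [Nat.card_eq_fintype_card]; rfl)
  exact Group.isSolvable_of_isSolvable_injective resT_injective
theorem pi_solvable (ι : Type) (S : Type) [Group S] [hS : Group.IsSolvable S] :
    Group.IsSolvable (ι → S) := by
  obtain ⟨n, hn⟩ := hS
  refine ⟨⟨n, ?_⟩⟩
  have key : ∀ k, derivedSeries (ι → S) k ≤ Subgroup.pi Set.univ (fun _ => derivedSeries S k) := by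
    intro k
    induction k with
    | zero =>
      simp only [derivedSeries_zero]
      rw [Subgroup.pi_top]
    | succ k ih =>
      rw [derivedSeries_succ, derivedSeries_succ]
      exact (Subgroup.commutator_mono ih ih).trans (Subgroup.commutator_pi_pi_le _ _)
  rw [eq_bot_iff]
  refine (key n).trans ?_
  rw [hn]
  exact (Subgroup.pi_bot).le

section
variable {S : Type} [Group S]

/-- The preimage of the point stabiliser in the wreath product. -/
def HW (S : Type) [Group S] : Subgroup (Wr S) := T.comap rightHom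

theorem HW_solvable [Group.IsSolvable S] : Group.IsSolvable ↥(HW S) := by
  have := pi_solvable (Fin 5) S
  let f : (Fin 5 → S) →* ↥(HW S) := (inl : (Fin 5 → S) →* Wr S).codRestrict (HW S) (fun n => by
    change rightHom (inl n) ∈ T
    rw [rightHom_inl]
    exact one_mem _)
  let g : ↥(HW S) →* ↥T := (rightHom.comp (HW S).subtype).codRestrict T (fun x => x.2)
  refine Group.isSolvable_of_ker_le_range f g ?_
  intro x hx
  have h1 : (x : Wr S) ∈ (rightHom : Wr S →* A5).ker := by
    rw [MonoidHom.mem_ker] at hx ⊢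
    exact congrArg (fun t : ↥T => (t : A5)) hx
  rw [← range_inl_eq_ker_rightHom] at h1
  obtain ⟨n, hn⟩ := h1
  exact ⟨n, Subtype.ext hn⟩

/-- The projection of the perfect group onto the alternating group. -/
def piK (S : Type) [Group S] : ↥(K S) →* A5 := rightHom.comp (K S).subtype

theorem piK_surjective : Function.Surjective (piK S) :=
  fun a => ⟨⟨(inr a : Wr S), inr_mem_K a⟩, by
    change rightHom (inr a : Wr S) = a
    exact rightHom_inr a⟩

/-- The maximal subgroup. -/
def H (S : Type) [Group S] : Subgroup ↥(K S) := T.comap (piK S)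

theorem H_coatom : IsCoatom (H S) := Subgroup.isCoatom_comap_of_surjective (piK_surjective (S := S)) T_coatom

/-- The embedding of the maximal subgroup in the wreath product. -/
def emb (S : Type) [Group S] : ↥(H S) →* Wr S := (K S).subtype.comp (H S).subtype

theorem H_solvable [Group.IsSolvable S] : Group.IsSolvable ↥(H S) := by
  have := HW_solvable (S := S)
  let j : ↥(H S) →* ↥(HW S) := (emb S).codRestrict (HW S) (fun x => x.2)
  refine Group.isSolvable_of_isSolvable_injective (f := j) ?_
  intro x y hxy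
  apply Subtype.ext
  apply Subtype.ext
  exact congrArg (fun t : ↥(HW S) => (t : Wr S)) hxy

/-- Iterated commutator subgroups of a subgroup. -/
def dser {G : Type*} [Group G] (X : Subgroup G) : ℕ → Subgroup G
  | 0 => X
  | n + 1 => ⁅dser X n, dser X n⁆

theorem map_derivedSeries_eq_dser {A G : Type*} [Group A] [Group G] (f : A →* G) (n : ℕ) :
    (derivedSeries A n).map f = dser f.range n := by
  induction n with
  | zero =>
    rw [derivedSeries_zero, ← MonoidHom.range_eq_map]
    rfl
  | succ n ih =>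
    rw [derivedSeries_succ, Subgroup.map_commutator, ih]
    rfl

/-- The projection of the base part of a subgroup onto a coordinate. -/
def pr (X : Subgroup (Wr S)) : Subgroup S :=
  (X.comap (inl : (Fin 5 → S) →* Wr S)).map (Pi.evalMonoidHom (fun _ : Fin 5 => S) 1)

theorem comm_pr_le (X Y : Subgroup (Wr S)) : ⁅pr X, pr Y⁆ ≤ pr ⁅X, Y⁆ := by
  unfold pr
  rw [← Subgroup.map_commutator]
  apply Subgroup.map_mono
  rw [Subgroup.commutator_le]
  intro g₁ h₁ g₂ h₂
  rw [Subgroup.mem_comap, map_commutatorElement]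
  exact Subgroup.commutator_mem_commutator h₁ h₂

theorem derivedSeries_le_pr (X : Subgroup (Wr S)) (hX : pr ⁅X, X⁆ = ⊤) (n : ℕ) :
    derivedSeries S n ≤ pr (dser X (n + 1)) := by
  induction n with
  | zero =>
    rw [derivedSeries_zero]
    exact hX.ge
  | succ n ih =>
    rw [derivedSeries_succ]
    exact (Subgroup.commutator_mono ih ih).trans (comm_pr_le _ _)

theorem exists_elt : ∃ a : A5, a ∈ T ∧ a • (3 : Fin 5) = 3 ∧ a • (1 : Fin 5) = 2 := by
  refine ⟨⟨Equiv.swap 1 2 * Equiv.swap 2 4, by
    rw [Equiv.Perm.mem_alternatingGroup, map_mul, Equiv.Perm.sign_swap (by decide),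
      Equiv.Perm.sign_swap (by decide)]
    rfl⟩, ?_, ?_, ?_⟩
  · change _ = _
    decide
  · decide
  · decide

theorem pr_comm_range_top : pr ⁅(emb S).range, (emb S).range⁆ = ⊤ := by
  rw [eq_top_iff]
  intro s _
  obtain ⟨a, haT, h3, h1⟩ := exists_elt
  refine ⟨Pi.mulSingle 1 s * Pi.mulSingle 2 s⁻¹, ?_, ?_⟩
  · change E 1 2 s ∈ ⁅(emb S).range, (emb S).range⁆
    rw [← comm_E 1 2 3 a h3 h1 s]
    apply Subgroup.commutator_mem_commutator
    · refine ⟨⟨⟨E 1 3 s, E_mem_K (by decide) s⟩, ?_⟩, rfl⟩
      change rightHom (E 1 3 s) ∈ T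
      rw [E, rightHom_inl]
      exact one_mem _
    · refine ⟨⟨⟨inr a, inr_mem_K a⟩, ?_⟩, rfl⟩
      change rightHom (inr a : Wr S) ∈ T
      rw [rightHom_inr]
      exact haT
  · simp

theorem step (S : Type) [Group S] [Finite S] [Group.IsSolvable S] (d : ℕ)
    (hd : derivedSeries S d ≠ ⊥) :
    ∃ (G : Type) (_ : Group G) (_ : Finite G) (H : Subgroup G), commutator G = ⊤ ∧ IsCoatom H ∧
      Group.IsSolvable H ∧ derivedSeries H (d + 1) ≠ ⊥ := by
  have : Finite (Wr S) := Finite.of_equiv _ equivProd.symm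
  refine ⟨↥(K S), inferInstance, inferInstance, H S, K_perfect, H_coatom, H_solvable, ?_⟩
  intro h
  have h1 := map_derivedSeries_eq_dser (emb S) (d + 1)
  rw [h, Subgroup.map_bot] at h1
  have h2 := derivedSeries_le_pr _ (pr_comm_range_top (S := S)) d
  rw [← h1] at h2
  apply hd
  rw [eq_bot_iff]
  intro s hs
  obtain ⟨f, hf, rfl⟩ := h2 hs
  have hf1 : f = 1 := inl_injective (by simpa using hf)
  rw [hf1]
  exact one_mem _

end

theorem exists_solvable (d : ℕ) :
    ∃ (S : Type) (_ : Group S) (_ : Finite S) (_ : Group.IsSolvable S), derivedSeries S d ≠ ⊥ := by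
  induction d with
  | zero =>
    refine ⟨Multiplicative (ZMod 2), inferInstance, inferInstance, inferInstance, ?_⟩
    rw [derivedSeries_zero]
    exact top_ne_bot
  | succ d ih =>
    obtain ⟨S, _, _, _, hS⟩ := ih
    obtain ⟨G, _, _, H, -, -, hsol, hH⟩ := step S d hS
    exact ⟨↥H, inferInstance, inferInstance, hsol, hH⟩

/-- Finite perfect groups have solvable maximal subgroups of unbounded derived length: for every d there is a finite perfect group G (equal to its commutator subgroup) with a solvable maximal subgroup H whose derived length exceeds d, i.e. the d-th term of the derived series of H is non-trivial. (Take the derived subgroup of a wreath product S ≀ A₅ with S solvable of large derived length, and H the preimage of a maximal subgroup of A₅.) -/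
theorem result (d : ℕ) :
    ∃ (G : Type) (_ : Group G) (_ : Finite G) (H : Subgroup G), commutator G = ⊤ ∧ IsCoatom H ∧ Group.IsSolvable H ∧
      derivedSeries H d ≠ ⊥ := by
  obtain ⟨S, _, _, _, hS⟩ := exists_solvable d
  obtain ⟨G, i1, i2, H, h1, h2, h3, h4⟩ := step S d hS
  refine ⟨G, i1, i2, H, h1, h2, h3, ?_⟩
  intro h
  apply h4
  rw [derivedSeries_succ, h]
  exact Subgroup.commutator_bot_left _

end Cfsg.Agent.S5896
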