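import Cfsg.Statements.S5902
import Cfsg.Agent.S5901

set_option autoImplicit false
open Cfsg

namespace Cfsg.Agent.S5902


theorem interval_of_complemented {G : Type*} [Group G] (X : Subgroup G)
    (hK : ComplementedLattice (Subgroup X)) :
    ∀ Y : Subgroup G, (⊥ : Subgroup G) ≤ Y → Y ≤ X →
      ∃ C : Subgroup G, (⊥ : Subgroup G) ≤ C ∧ C ≤ X ∧ Y ⊔ C = X ∧ Y ⊓ C = ⊥ := by
  intro Y _ hYX
  obtain ⟨C', hC'⟩ := hK.exists_isCompl (Y.subgroupOf X)
  refine ⟨C'.map X.subtype, bot_le, Subgroup.map_subtype_le C', ?_, ?_⟩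
  · have h1 : (Y.subgroupOf X ⊔ C').map X.subtype = (⊤ : Subgroup X).map X.subtype := by
      rw [codisjoint_iff.mp hC'.codisjoint]
    rw [Subgroup.map_sup, Subgroup.map_subgroupOf_eq_of_le hYX] at h1
    rw [h1, ← MonoidHom.range_eq_map, Subgroup.range_subtype]
  · have h1 : (Y.subgroupOf X ⊓ C').map X.subtype = (⊥ : Subgroup X).map X.subtype := by
      rw [disjoint_iff.mp hC'.disjoint]
    rw [Subgroup.map_inf _ _ _ X.subtype_injective, Subgroup.map_subgroupOf_eq_of_le hYX,
      Subgroup.map_bot] at h1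
    exact h1

theorem exists_compl_of_not_le_core {G : Type*} [Group G] [Finite G] (X M : Subgroup G)
    (hK : ComplementedLattice (Subgroup X))
    (hM : IsCoatom M) (hXM : X ≤ M) (huniq : ∀ M' : Subgroup G, IsCoatom M' → X ≤ M' → M' = M)
    (H : Subgroup G) (hH : ¬ H ≤ M.normalCore) : ∃ C : Subgroup G, H ⊔ C = ⊤ ∧ H ⊓ C = ⊥ := by
  have hX : X ≠ ⊤ := fun h => hM.1 (top_le_iff.mp (h ▸ hXM))
  obtain ⟨h, hhH, hh⟩ := SetLike.not_le_iff_exists.mp hH
  have hh' : ¬ ∀ b : G, b * h * b⁻¹ ∈ M := hh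
  push Not at hh'
  obtain ⟨b, hb⟩ := hh'
  let φ : Subgroup G ≃o Subgroup G := (MulAut.conj b).mapSubgroup
  have hφH : ¬ φ H ≤ M := by
    intro hle
    apply hb
    apply hle
    change b * h * b⁻¹ ∈ H.map (MulAut.conj b).toMonoidHom
    exact ⟨h, hhH, by simp [MulAut.conj_apply]⟩
  obtain ⟨C', h1, h2⟩ := Cfsg.Agent.S5901.result ⊥ X M bot_le hX (interval_of_complemented X hK)
    hM hXM huniq (φ H) hφH (by simp)
  refine ⟨φ.symm C', ?_, ?_⟩
  · apply φ.injective
    rw [map_sup, OrderIso.apply_symm_apply, h1, map_top]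
  · apply φ.injective
    rw [map_inf, OrderIso.apply_symm_apply, h2, map_bot]

/-- Let G be a finite group, X a subgroup whose own subgroup lattice is complemented, and suppose X lies in exactly one maximal subgroup M of G. Then every subgroup H of G not contained in the normal core of M has a complement in the subgroup lattice of G (some C with H ⊔ C = G and H ⊓ C = 1); in particular the subgroup lattice of G modulo the normal core of M is complemented. -/
theorem result {G : Type*} [Group G] [Finite G] (X M : Subgroup G)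
    (hK : ComplementedLattice (Subgroup X))
    (hM : IsCoatom M) (hXM : X ≤ M) (huniq : ∀ M' : Subgroup G, IsCoatom M' → X ≤ M' → M' = M) :
    (∀ H : Subgroup G, ¬ H ≤ M.normalCore → ∃ C : Subgroup G, H ⊔ C = ⊤ ∧ H ⊓ C = ⊥) ∧
    ComplementedLattice (Subgroup (G ⧸ M.normalCore)) := by
  have key := exists_compl_of_not_le_core X M hK hM hXM huniq
  refine ⟨key, ⟨fun Hb => ?_⟩⟩
  by_cases hle : Hb.comap (QuotientGroup.mk' M.normalCore) ≤ M.normalCore
  · refine ⟨⊤, ?_⟩
    have : Hb = ⊥ := by
      rw [eq_bot_iff]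
      intro x hx
      obtain ⟨g, rfl⟩ := QuotientGroup.mk'_surjective M.normalCore x
      have hg : g ∈ M.normalCore := hle (by simpa using hx)
      rw [Subgroup.mem_bot]
      exact (QuotientGroup.eq_one_iff g).mpr hg
    rw [this]
    exact isCompl_bot_top
  · obtain ⟨C, h1, h2⟩ := key _ hle
    refine ⟨C.map (QuotientGroup.mk' M.normalCore), ?_⟩
    rw [isCompl_iff, disjoint_iff, codisjoint_iff]
    constructor
    · rw [eq_bot_iff]
      rintro x ⟨hx1, ⟨c, hc, rfl⟩⟩
      have : c ∈ Hb.comap (QuotientGroup.mk' M.normalCore) ⊓ C := ⟨hx1, hc⟩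
      rw [h2, Subgroup.mem_bot] at this
      rw [this]
      simp
    · have h3 : (Hb.comap (QuotientGroup.mk' M.normalCore) ⊔ C).map (QuotientGroup.mk' M.normalCore)
          = (⊤ : Subgroup G).map (QuotientGroup.mk' M.normalCore) := by rw [h1]
      rw [Subgroup.map_sup, Subgroup.map_comap_eq_self_of_surjective
        (QuotientGroup.mk'_surjective M.normalCore), Subgroup.map_top_of_surjective _
        (QuotientGroup.mk'_surjective M.normalCore)] at h3
      exact h3

end Cfsg.Agent.S5902
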