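import Cfsg.Statements.S5903
import Cfsg.Agent.S5901

set_option autoImplicit false
open Cfsg

namespace Cfsg.Agent.S5903


theorem interval_of_quotient {G : Type*} [Group G] (X N : Subgroup G) (hNX : N ≤ X)
    [(N.subgroupOf X).Normal] (hK : ComplementedLattice (Subgroup (X ⧸ N.subgroupOf X))) :
    ∀ Y : Subgroup G, N ≤ Y → Y ≤ X →
      ∃ C : Subgroup G, N ≤ C ∧ C ≤ X ∧ Y ⊔ C = X ∧ Y ⊓ C = N := by
  intro Y hNY hYX
  have hπs : Function.Surjective (QuotientGroup.mk' (N.subgroupOf X)) :=
    QuotientGroup.mk'_surjective _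
  have hker : (QuotientGroup.mk' (N.subgroupOf X)).ker = N.subgroupOf X := QuotientGroup.ker_mk' _
  obtain ⟨Cb, hCb⟩ := hK.exists_isCompl ((Y.subgroupOf X).map (QuotientGroup.mk' (N.subgroupOf X)))
  have hY' : ((Y.subgroupOf X).map (QuotientGroup.mk' (N.subgroupOf X))).comap
      (QuotientGroup.mk' (N.subgroupOf X)) = Y.subgroupOf X := by
    rw [Subgroup.comap_map_eq, hker, sup_eq_left]
    exact Subgroup.subgroupOf_mono X hNY
  refine ⟨(Cb.comap (QuotientGroup.mk' (N.subgroupOf X))).map X.subtype, ?_,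
    Subgroup.map_subtype_le _, ?_, ?_⟩
  · have h0 : N.subgroupOf X ≤ Cb.comap (QuotientGroup.mk' (N.subgroupOf X)) := by
      have := MonoidHom.ker_le_comap (QuotientGroup.mk' (N.subgroupOf X)) Cb
      rwa [hker] at this
    calc N = (N.subgroupOf X).map X.subtype := (Subgroup.map_subgroupOf_eq_of_le hNX).symm
      _ ≤ _ := Subgroup.map_mono h0
  · have h1 : (Y.subgroupOf X ⊔ Cb.comap (QuotientGroup.mk' (N.subgroupOf X))) = ⊤ := by
      rw [← hY', Subgroup.comap_sup_eq _ _ _ hπs, codisjoint_iff.mp hCb.codisjoint,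
        Subgroup.comap_top]
    have h2 := congrArg (Subgroup.map X.subtype) h1
    rw [Subgroup.map_sup, Subgroup.map_subgroupOf_eq_of_le hYX, ← MonoidHom.range_eq_map,
      Subgroup.range_subtype] at h2
    exact h2
  · have h1 : (Y.subgroupOf X ⊓ Cb.comap (QuotientGroup.mk' (N.subgroupOf X)))
        = N.subgroupOf X := by
      rw [← hY', ← Subgroup.comap_inf, disjoint_iff.mp hCb.disjoint, MonoidHom.comap_bot, hker]
    have h2 := congrArg (Subgroup.map X.subtype) h1
    rw [Subgroup.map_inf _ _ _ X.subtype_injective, Subgroup.map_subgroupOf_eq_of_le hYX,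
      Subgroup.map_subgroupOf_eq_of_le hNX] at h2
    exact h2

/-- Key group-theoretic step: some conjugate of `H` avoids `M` and meets `N` trivially. -/
theorem exists_conj {G : Type*} [Group G] [IsSimpleGroup G] (M N : Subgroup G)
    (hM : M ≠ ⊤) (hN : (Nat.card N).Prime) (hcen : ∀ n ∈ N, ∀ m ∈ M, m * n = n * m)
    (H : Subgroup G) (hH0 : H ≠ ⊥) (hH1 : H ≠ ⊤) :
    ∃ b : G, ¬ ((MulAut.conj b).mapSubgroup H ≤ M) ∧ (MulAut.conj b).mapSubgroup H ⊓ N = ⊥ := by
  by_contra hcon
  push Not at hcon
  have hNbot : N ≠ ⊥ := by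
    intro h
    rw [h] at hN
    simp at hN
    exact Nat.not_prime_one hN
  -- dichotomy
  have hdich : ∀ c : G, (∀ n ∈ N, c * n * c⁻¹ ∈ H) ∨
      (∀ n ∈ N, ∀ h ∈ H, h * (c * n * c⁻¹) = (c * n * c⁻¹) * h) := by
    intro c
    by_cases hle : (MulAut.conj c⁻¹).mapSubgroup H ≤ M
    · right
      intro n hn h hh
      have hm : c⁻¹ * h * c ∈ M := by
        apply hle
        change c⁻¹ * h * c ∈ H.map (MulAut.conj c⁻¹).toMonoidHom
        exact ⟨h, hh, by simp [MulAut.conj_apply]⟩
      have := hcen n hn _ hm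
      have h3 : h * (c * n * c⁻¹) = c * ((c⁻¹ * h * c) * n) * c⁻¹ := by group
      rw [h3, this]
      group
    · left
      have hne := hcon c⁻¹ hle
      have : Fact (Nat.card N).Prime := ⟨hN⟩
      have hsub : N ≤ (MulAut.conj c⁻¹).mapSubgroup H := by
        rcases (((MulAut.conj c⁻¹).mapSubgroup H).subgroupOf N).eq_bot_or_eq_top_of_prime_card
          with h | h
        · exfalso
          rw [Subgroup.subgroupOf_eq_bot, disjoint_iff] at h
          exact hne h
        · exact Subgroup.subgroupOf_eq_top.mp h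
      intro n hn
      obtain ⟨h, hh, hhn⟩ := hsub hn
      have : n = c⁻¹ * h * c := by
        rw [← hhn]; simp [MulAut.conj_apply]
      rw [this]
      have : c * (c⁻¹ * h * c) * c⁻¹ = h := by group
      rw [this]; exact hh
  -- the subgroup R
  set R : Subgroup G := Subgroup.closure
    {x | ∃ c : G, (∀ n ∈ N, c * n * c⁻¹ ∈ H) ∧ ∃ n ∈ N, x = c * n * c⁻¹} with hR
  have hRH : R ≤ H := by
    rw [hR, Subgroup.closure_le]
    rintro x ⟨c, hc, n, hn, rfl⟩
    exact hc n hn
  have hnorm : ∀ c : G, ∀ n ∈ N, c * n * c⁻¹ ∈ Subgroup.normalizer (R : Set G) := by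
    intro c n hn
    rcases hdich c with h | h
    · apply Subgroup.le_normalizer
      exact Subgroup.subset_closure ⟨c, h, n, hn, rfl⟩
    · rw [Subgroup.mem_normalizer_iff]
      intro x
      constructor
      · intro hx
        have := h n hn x (hRH hx)
        have h4 : c * n * c⁻¹ * x * (c * n * c⁻¹)⁻¹ = x := by
          rw [← this]; group
        rw [h4]; exact hx
      · intro hx
        have hcomm := h n hn _ (hRH hx)
        generalize c * n * c⁻¹ = g at hx hcomm ⊢
        have h4 : x = g * x * g⁻¹ := by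
          have h5 : g * x = g * (g * x * g⁻¹) := by rw [← hcomm]; group
          exact mul_left_cancel h5
        rw [h4]; exact hx
  have hnc : Subgroup.normalClosure (N : Set G) = ⊤ := by
    rcases (Subgroup.normalClosure_normal (s := (N : Set G))).eq_bot_or_eq_top with h | h
    · exfalso
      apply hNbot
      rw [eq_bot_iff, ← h]
      exact Subgroup.le_normalClosure
    · exact h
  have hnormtop : Subgroup.normalizer (R : Set G) = ⊤ := by
    rw [eq_top_iff, ← hnc, Subgroup.normalClosure, Subgroup.closure_le]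
    intro a ha
    rw [Group.mem_conjugatesOfSet_iff] at ha
    obtain ⟨n, hn, hconj⟩ := ha
    rw [isConj_iff] at hconj
    obtain ⟨c, rfl⟩ := hconj
    exact hnorm c n hn
  have hRnormal : R.Normal := Subgroup.normalizer_eq_top_iff.mp hnormtop
  have hRbot : R = ⊥ := by
    rcases hRnormal.eq_bot_or_eq_top with h | h
    · exact h
    · exfalso; apply hH1; rw [eq_top_iff, ← h]; exact hRH
  -- no conjugate of N is inside H
  have hno : ∀ c : G, ¬ (∀ n ∈ N, c * n * c⁻¹ ∈ H) := by
    intro c hc
    apply hNbot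
    rw [eq_bot_iff]
    intro n hn
    have : c * n * c⁻¹ ∈ R := Subgroup.subset_closure ⟨c, hc, n, hn, rfl⟩
    rw [hRbot, Subgroup.mem_bot] at this
    rw [Subgroup.mem_bot]
    have h6 : n = c⁻¹ * (c * n * c⁻¹) * c := by group
    rw [h6, this]; group
  -- hence every conjugate of H lies in M
  have hall : ∀ b : G, (MulAut.conj b).mapSubgroup H ≤ M := by
    intro b
    by_contra hle
    have hne := hcon b hle
    have : Fact (Nat.card N).Prime := ⟨hN⟩
    have hsub : N ≤ (MulAut.conj b).mapSubgroup H := by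
      rcases (((MulAut.conj b).mapSubgroup H).subgroupOf N).eq_bot_or_eq_top_of_prime_card
        with h | h
      · exfalso
        rw [Subgroup.subgroupOf_eq_bot, disjoint_iff] at h
        exact hne h
      · exact Subgroup.subgroupOf_eq_top.mp h
    apply hno b⁻¹
    intro n hn
    obtain ⟨h, hh, hhn⟩ := hsub hn
    have : n = b * h * b⁻¹ := by
      rw [← hhn]; simp [MulAut.conj_apply]
    rw [this]
    have : b⁻¹ * (b * h * b⁻¹) * b⁻¹⁻¹ = h := by group
    rw [this]; exact hh
  have hcore : H ≤ M.normalCore := by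
    intro h hh b
    apply hall b
    change b * h * b⁻¹ ∈ H.map (MulAut.conj b).toMonoidHom
    exact ⟨h, hh, by simp [MulAut.conj_apply]⟩
  have hcorebot : M.normalCore = ⊥ := by
    rcases (Subgroup.normalCore_normal M).eq_bot_or_eq_top with h | h
    · exact h
    · exfalso; apply hM; rw [eq_top_iff, ← h]; exact M.normalCore_le
  apply hH0
  rw [eq_bot_iff, ← hcorebot]
  exact hcore

/-- Let G be a finite simple group, X a subgroup lying in exactly one maximal subgroup M of G, and N a subgroup of prime order with N ≤ X that is central in M. If the subgroup lattice of X/N is complemented, then the subgroup lattice of G is complemented. -/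
theorem result {G : Type*} [Group G] [Finite G] [IsSimpleGroup G] (X M N : Subgroup G)
    (hM : IsCoatom M) (hXM : X ≤ M) (huniq : ∀ M' : Subgroup G, IsCoatom M' → X ≤ M' → M' = M)
    (hNX : N ≤ X) (hN : (Nat.card N).Prime) (hcen : ∀ n ∈ N, ∀ m ∈ M, m * n = n * m)
    [(N.subgroupOf X).Normal] (hK : ComplementedLattice (Subgroup (X ⧸ N.subgroupOf X))) :
    ComplementedLattice (Subgroup G) := by
  refine ⟨fun H => ?_⟩
  by_cases hH0 : H = ⊥
  · exact ⟨⊤, hH0 ▸ isCompl_bot_top⟩
  by_cases hH1 : H = ⊤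
  · exact ⟨⊥, hH1 ▸ isCompl_top_bot⟩
  obtain ⟨b, hb1, hb2⟩ := exists_conj M N hM.1 hN hcen H hH0 hH1
  have hX : X ≠ ⊤ := fun h => hM.1 (top_le_iff.mp (h ▸ hXM))
  obtain ⟨C', h1, h2⟩ := Cfsg.Agent.S5901.result N X M hNX hX (interval_of_quotient X N hNX hK)
    hM hXM huniq ((MulAut.conj b).mapSubgroup H) hb1 hb2
  refine ⟨(MulAut.conj b).mapSubgroup.symm C', ?_⟩
  rw [isCompl_iff, disjoint_iff, codisjoint_iff]
  constructor
  · apply (MulAut.conj b).mapSubgroup.injective
    rw [map_inf, OrderIso.apply_symm_apply, h2, map_bot]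
  · apply (MulAut.conj b).mapSubgroup.injective
    rw [map_sup, OrderIso.apply_symm_apply, h1, map_top]

end Cfsg.Agent.S5903
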