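import Cfsg.Statements.S5905
import Cfsg.Agent.Lib.Helper98.Wreath

set_option autoImplicit false
open Cfsg

namespace Cfsg.Agent.S5905

open MulAction Equiv
open scoped Pointwise
open Cfsg.Agent.Lib.Helper98

/-- Let Ω be a finite set and f : Ω → Fin b a map onto b ≥ 2 labels whose fibres all have the same size a ≥ 2 (a partition of Ω into b blocks of size a, so |Ω| = ab). Then the stabilizer of this partition in the symmetric group on Ω — the permutations g such that x and y lie in the same block exactly when g x and g y do, a group isomorphic to the imprimitive wreath product S_a ≀ S_b — is a maximal subgroup of the symmetric group. -/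
theorem result {Ω : Type*} [Fintype Ω] [DecidableEq Ω] (a b : ℕ) (ha : 2 ≤ a) (hb : 2 ≤ b)
    (f : Ω → Fin b) (hf : ∀ i : Fin b, Nat.card {x : Ω // f x = i} = a) :
    IsCoatom (Subgroup.closure {g : Equiv.Perm Ω | ∀ x y : Ω, f x = f y ↔ f (g x) = f (g y)}) := by
  rw [closure_partStab]
  have hfib2 : ∀ i : Fin b, ∃ x y : Ω, f x = i ∧ f y = i ∧ x ≠ y := by
    intro i
    have h1 : 1 < Nat.card {x : Ω // f x = i} := by rw [hf i]; omega
    rw [Finite.one_lt_card_iff_nontrivial] at h1
    obtain ⟨x, y, hxy⟩ := h1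
    exact ⟨x.1, y.1, x.2, y.2, fun h => hxy (Subtype.ext h)⟩
  have hfibcard : ∀ i : Fin b, ({t | f t = i} : Set Ω).ncard = a := by
    intro i
    rw [← Nat.card_coe_set_eq]
    exact hf i
  constructor
  · intro htop
    obtain ⟨x, x', hx, hx', hxx'⟩ := hfib2 ⟨0, by omega⟩
    obtain ⟨y, -, hy, -, -⟩ := hfib2 ⟨1, by omega⟩
    have h01 : (⟨0, by omega⟩ : Fin b) ≠ ⟨1, by omega⟩ := by
      intro h
      have := congrArg Fin.val h
      simp at this
    have hmem : swap x' y ∈ partStab f := htop ▸ Subgroup.mem_top _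
    have h := (hmem x x').mp (hx.trans hx'.symm)
    have hxy : x ≠ y := fun h' => h01 (by rw [← hx, ← hy, h'])
    rw [swap_apply_of_ne_of_ne hxx' hxy, swap_apply_left, hx, hy] at h
    exact h01 h
  · intro X hX
    obtain ⟨x, x', hx, hx', hxx'⟩ := hfib2 ⟨0, by omega⟩
    have hswapX : swap x x' ∈ X := hX.le (swap_mem_partStab f (hx.trans hx'.symm))
    apply Equiv.Perm.subgroup_eq_top_of_isPreprimitive_of_isSwap_mem ?_ (swap x x')
      ⟨x, x', hxx', rfl⟩ hswapX
    have htrans : IsPretransitive X Ω := ⟨fun u v => by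
      obtain ⟨w, hw, hwuv⟩ := partStab_transitive f a hf u v
      exact ⟨⟨w, hX.le hw⟩, hwuv⟩⟩
    obtain ⟨g, hgX, hgW⟩ : ∃ g ∈ X, g ∉ partStab f := by
      by_contra h
      push Not at h
      exact hX.ne (le_antisymm hX.le h)
    obtain ⟨g, hgX, u, v, huv, hguv⟩ : ∃ g ∈ X, ∃ u v, f u = f v ∧ f (g u) ≠ f (g v) := by
      rw [mem_partStab] at hgW
      have hgW' : ∃ u v, ¬ (f u = f v ↔ f (g u) = f (g v)) := by
        by_contra h
        apply hgW
        intro u v
        by_contra h'
        exact h ⟨u, v, h'⟩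
      obtain ⟨u, v, h⟩ := hgW'
      by_cases h1 : f u = f v
      · exact ⟨g, hgX, u, v, h1, fun h2 => h ⟨fun _ => h2, fun _ => h1⟩⟩
      · have h2 : f (g u) = f (g v) := by
          by_contra h2
          exact h ⟨fun h' => absurd h' h1, fun h' => absurd h' h2⟩
        refine ⟨g⁻¹, X.inv_mem hgX, g u, g v, h2, ?_⟩
        simpa using h1
    apply IsPreprimitive.of_isTrivialBlock_base u
    intro B huB hB
    by_contra htriv
    unfold IsTrivialBlock at htriv
    push Not at htriv
    obtain ⟨hns, hnu⟩ := htriv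
    -- invariance of B under elements of the partition stabilizer fixing u
    have H0 : ∀ w ∈ partStab f, w u = u → ∀ z ∈ B, w z ∈ B := by
      intro w hw hwu z hz
      have h1 : (⟨w, hX.le hw⟩ : X) • u ∈ B := by
        change w u ∈ B
        rw [hwu]
        exact huB
      have h2 := hB.smul_eq_of_mem huB h1
      rw [← h2]
      exact ⟨z, hz, rfl⟩
    have H1 : ∀ z ∈ B, ∀ t, f t = f z → t ≠ u → z ≠ u → t ∈ B := by
      intro z hz t htz htu hzu
      by_cases hzt : z = t
      · exact hzt ▸ hz
      have := H0 (swap z t) (swap_mem_partStab f htz.symm)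
        (swap_apply_of_ne_of_ne (Ne.symm hzu) (Ne.symm htu)) z hz
      rwa [swap_apply_left] at this
    by_cases hcase : ∃ z ∈ B, f z ≠ f u
    · -- B contains everything outside the fibre of u
      obtain ⟨z, hzB, hzu⟩ := hcase
      have hall : ∀ t, f t ≠ f u → t ∈ B := by
        intro t htu
        have htu' : t ≠ u := fun h => htu (h ▸ rfl)
        by_cases htz : f t = f z
        · exact H1 z hzB t htz htu' (fun h => hzu (h ▸ rfl))
        · obtain ⟨τ, hτ, hτ1, hτ2⟩ := exists_fibreSwap f (f z) (f t) (Ne.symm htz)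
            ((hf _).trans (hf _).symm)
          have hτu : τ u = u := hτ2 u (Ne.symm hzu) (Ne.symm htu)
          have hτz := H0 τ hτ hτu z hzB
          have hfτz : f (τ z) = f t := by rw [hτ1, swap_apply_left]
          exact H1 (τ z) hτz t hfτz.symm htu' (fun h => htu (by rw [← hfτz, h]))
      apply hnu
      apply hB.eq_univ_of_card_lt
      have hsub : Bᶜ ⊆ {t | f t = f u} \ {u} := by
        intro t ht
        refine ⟨?_, fun h => ht (h ▸ huB)⟩
        by_contra h
        exact ht (hall t h)
      have h1 : Bᶜ.ncard < a := by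
        calc Bᶜ.ncard ≤ ({t | f t = f u} \ {u}).ncard := Set.ncard_le_ncard hsub
          _ = a - 1 := by
            rw [Set.ncard_sdiff_singleton_of_mem (show u ∈ {t | f t = f u} from rfl), hfibcard]
          _ < a := by omega
      have h2 : a ≤ B.ncard := by
        rw [← hfibcard (f z)]
        apply Set.ncard_le_ncard _ (Set.toFinite B)
        intro t ht
        exact hall t (by rw [ht]; exact hzu)
      have h3 := Set.ncard_add_ncard_compl B
      omega
    · push Not at hcase
      obtain ⟨y, hyB, hyu⟩ := hns.exists_ne u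
      have hBeq : B = {t | f t = f u} := by
        ext t
        constructor
        · intro ht
          exact hcase t ht
        · intro ht
          by_cases htu : t = u
          · exact htu ▸ huB
          · exact H1 y hyB t (ht.trans (hcase y hyB).symm) htu hyu
      obtain ⟨w', hw', hw'u⟩ := partStab_transitive f a hf u (g u)
      have h1 : ((⟨g, hgX⟩ : X) • B ∩ (⟨w', hX.le hw'⟩ : X) • B).Nonempty :=
        ⟨g u, ⟨u, huB, rfl⟩, ⟨u, huB, hw'u⟩⟩
      have h2 := hB.smul_eq_smul_of_nonempty h1
      have h3 : g v ∈ (⟨w', hX.le hw'⟩ : X) • B := by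
        rw [← h2]
        exact ⟨v, by rw [hBeq]; exact huv.symm, rfl⟩
      obtain ⟨t, ht, htv⟩ := h3
      rw [hBeq] at ht
      have h4 : f (w' t) = f (w' u) := ((hw' t u).mp ht)
      apply hguv
      rw [← hw'u, ← h4]
      exact congrArg f htv

end Cfsg.Agent.S5905
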