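import Cfsg.Statements.S5908
import Cfsg.Agent.S0827

set_option autoImplicit false
open Cfsg

namespace Cfsg.Agent.S5908

theorem quat_cases : ∀ g : QuaternionGroup 2,
    g = 1 ∨ g = QuaternionGroup.a 2 ∨ g * g = QuaternionGroup.a 2 := by decide
theorem a2_central : ∀ g : QuaternionGroup 2,
    g * QuaternionGroup.a 2 = QuaternionGroup.a 2 * g := by decide
theorem a2_ne_one : (QuaternionGroup.a 2 : QuaternionGroup 2) ≠ 1 := by decide
theorem a1_not_central : (QuaternionGroup.a 1 : QuaternionGroup 2) * QuaternionGroup.xa 0 ≠
    QuaternionGroup.xa 0 * QuaternionGroup.a 1 := by decide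

/-- A group with a quotient isomorphic to the quaternion group of order 8 does not have a
complemented subgroup lattice: the preimage of the centre of `Q₈` has no complement. -/
theorem not_complemented_of_surj {G : Type*} [Group G] (f : G →* QuaternionGroup 2)
    (hf : Function.Surjective f) : ¬ ComplementedLattice (Subgroup G) := by
  intro hc
  set H : Subgroup G := (Subgroup.center (QuaternionGroup 2)).comap f with hH
  obtain ⟨X, hX⟩ := hc.exists_isCompl H
  have hbot : ∀ x, x ∈ H → x ∈ X → x = 1 := by
    intro x h1 h2
    have : x ∈ H ⊓ X := ⟨h1, h2⟩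
    rw [hX.inf_eq_bot] at this
    exact Subgroup.mem_bot.1 this
  have hmemH : ∀ x, f x = QuaternionGroup.a 2 → x ∈ H := by
    intro x hx
    rw [hH, Subgroup.mem_comap, hx, Subgroup.mem_center_iff]
    exact a2_central
  by_cases hcase : ∀ x ∈ X, f x = 1
  · have hXH : X ≤ H := by
      intro x hx
      rw [hH, Subgroup.mem_comap, hcase x hx]
      exact Subgroup.one_mem _
    have htop : H = ⊤ := by
      have := hX.sup_eq_top
      rwa [sup_eq_left.2 hXH] at this
    obtain ⟨g, hg⟩ := hf (QuaternionGroup.a 1)
    have : g ∈ H := by rw [htop]; exact Subgroup.mem_top g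
    rw [hH, Subgroup.mem_comap, hg, Subgroup.mem_center_iff] at this
    exact a1_not_central (this (QuaternionGroup.xa 0)).symm
  · push Not at hcase
    obtain ⟨x, hxX, hx1⟩ := hcase
    rcases quat_cases (f x) with h | h | h
    · exact hx1 h
    · have := hbot x (hmemH x h) hxX
      rw [this, map_one] at h
      exact a2_ne_one h.symm
    · have hxx : f (x * x) = QuaternionGroup.a 2 := by rw [map_mul, h]
      have := hbot (x * x) (hmemH _ hxx) (X.mul_mem hxX hxX)
      rw [this, map_one] at hxx
      exact a2_ne_one hxx.symm

/-- The subgroup lattice of PSU₃(2) (the solvable group of order 72, realised over the field with 4 elements) is not complemented: some subgroup H has no subgroup X with H ⊔ X = ⊤ and H ⊓ X = ⊥. -/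
theorem result {F : Type*} [Field F] [Fintype F] (hF : Fintype.card F = 4) :
    ¬ ComplementedLattice (Subgroup (Cfsg.PSU 3 F 2)) := by
  obtain ⟨N, hN, -, -, ⟨e⟩⟩ := Cfsg.Agent.S0827.result hF
  exact not_complemented_of_surj (e.toMonoidHom.comp (QuotientGroup.mk' N))
    (e.surjective.comp (QuotientGroup.mk'_surjective N))

end Cfsg.Agent.S5908
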