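import Cfsg.Statements.S5909
import Cfsg.Agent.Lib.Helper98.Wreath

set_option autoImplicit false
open Cfsg

namespace Cfsg.Agent.S5909

open MulAction Equiv
open scoped Pointwise
open Cfsg.Agent.Lib.Helper98

section general
variable {Ω : Type*} [Fintype Ω] [DecidableEq Ω] {b : ℕ}

theorem exists_ne_two (hb : 3 ≤ b) (i j : Fin b) : ∃ k : Fin b, k ≠ i ∧ k ≠ j := by
  by_contra h
  push Not at h
  have h1 : (Finset.univ : Finset (Fin b)) ⊆ {i, j} := by
    intro k _
    by_cases hk : k = i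
    · simp [hk]
    · simp [h k hk]
  have h2 := Finset.card_le_card h1
  have h3 : ({i, j} : Finset (Fin b)).card ≤ 2 := Finset.card_le_two
  simp at h2
  omega

theorem exists_pair (f : Ω → Fin b) (a : ℕ) (ha : 2 ≤ a)
    (hf : ∀ i : Fin b, Nat.card {x : Ω // f x = i} = a) (i : Fin b) :
    ∃ x y : Ω, f x = i ∧ f y = i ∧ x ≠ y := by
  have h1 : 1 < Nat.card {x : Ω // f x = i} := by rw [hf i]; omega
  rw [Finite.one_lt_card_iff_nontrivial] at h1
  obtain ⟨x, y, hxy⟩ := h1
  exact ⟨x.1, y.1, x.2, y.2, fun h => hxy (Subtype.ext h)⟩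

theorem fibre_ncard (f : Ω → Fin b) (a : ℕ)
    (hf : ∀ i : Fin b, Nat.card {x : Ω // f x = i} = a) (i : Fin b) :
    ({t | f t = i} : Set Ω).ncard = a := by
  rw [← Nat.card_coe_set_eq]
  exact hf i

theorem exists_pair_ne (f : Ω → Fin b) (a : ℕ) (ha : 3 ≤ a)
    (hf : ∀ i : Fin b, Nat.card {x : Ω // f x = i} = a) (i : Fin b) (u : Ω) :
    ∃ x y : Ω, f x = i ∧ f y = i ∧ x ≠ y ∧ x ≠ u ∧ y ≠ u := by
  have h1 : 1 < (({t | f t = i} : Set Ω) \ {u}).ncard := by
    have h3 := Set.pred_ncard_le_ncard_sdiff_singleton ({t | f t = i} : Set Ω) u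
    rw [fibre_ncard f a hf i] at h3
    omega
  rw [Set.one_lt_ncard_iff] at h1
  obtain ⟨x, y, hx, hy, hxy⟩ := h1
  exact ⟨x, y, hx.1, hy.1, hxy, hx.2, hy.2⟩
theorem exists_pair_avoiding (f : Ω → Fin b) (a : ℕ) (ha : 2 ≤ a) (hb : 2 ≤ b)
    (hab : 3 ≤ a ∨ 3 ≤ b) (hf : ∀ i : Fin b, Nat.card {x : Ω // f x = i} = a) (u z : Ω) :
    ∃ t t' : Ω, t ≠ t' ∧ f t = f t' ∧ t ≠ u ∧ t' ≠ u ∧ t ≠ z ∧ t' ≠ z := by
  by_cases huz : f u = f z
  · obtain ⟨i, hi⟩ : ∃ i : Fin b, i ≠ f u := by
      by_cases h0 : (⟨0, by omega⟩ : Fin b) = f u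
      · refine ⟨⟨1, by omega⟩, ?_⟩
        rw [← h0]
        intro h
        have := congrArg Fin.val h
        simp at this
      · exact ⟨_, h0⟩
    obtain ⟨t, t', ht, ht', htt'⟩ := exists_pair f a ha hf i
    refine ⟨t, t', htt', ht.trans ht'.symm, ?_, ?_, ?_, ?_⟩
    · intro h; exact hi (by rw [← ht, h])
    · intro h; exact hi (by rw [← ht', h])
    · intro h; exact hi (by rw [← ht, h, huz])
    · intro h; exact hi (by rw [← ht', h, huz])
  · rcases hab with h3 | h3
    · obtain ⟨t, t', ht, ht', htt', htu, ht'u⟩ := exists_pair_ne f a h3 hf (f u) u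
      refine ⟨t, t', htt', ht.trans ht'.symm, htu, ht'u, ?_, ?_⟩
      · intro h; exact huz (by rw [← ht, h])
      · intro h; exact huz (by rw [← ht', h])
    · obtain ⟨i, hi1, hi2⟩ := exists_ne_two h3 (f u) (f z)
      obtain ⟨t, t', ht, ht', htt'⟩ := exists_pair f a ha hf i
      refine ⟨t, t', htt', ht.trans ht'.symm, ?_, ?_, ?_, ?_⟩
      · intro h; exact hi1 (by rw [← ht, h])
      · intro h; exact hi1 (by rw [← ht', h])
      · intro h; exact hi2 (by rw [← ht, h])
      · intro h; exact hi2 (by rw [← ht', h])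

theorem exists_even (f : Ω → Fin b) (a : ℕ) (ha : 2 ≤ a) (hb : 2 ≤ b)
    (hab : 3 ≤ a ∨ 3 ≤ b) (hf : ∀ i : Fin b, Nat.card {x : Ω // f x = i} = a)
    (w : Perm Ω) (hw : w ∈ partStab f) (u z : Ω) :
    ∃ w' ∈ partStab f ⊓ alternatingGroup Ω, w' u = w u ∧ w' z = w z := by
  rcases Int.units_eq_one_or (Perm.sign w) with h | h
  · exact ⟨w, Subgroup.mem_inf.mpr ⟨hw, Perm.mem_alternatingGroup.mpr h⟩, rfl, rfl⟩
  · obtain ⟨t, t', htt', hft, htu, ht'u, htz, ht'z⟩ := exists_pair_avoiding f a ha hb hab hf u z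
    refine ⟨w * swap t t', Subgroup.mem_inf.mpr ⟨(partStab f).mul_mem hw (swap_mem_partStab f hft),
      ?_⟩, ?_, ?_⟩
    · rw [Perm.mem_alternatingGroup, map_mul, h, Perm.sign_swap htt']
      rfl
    · rw [Perm.mul_apply, swap_apply_of_ne_of_ne (Ne.symm htu) (Ne.symm ht'u)]
    · rw [Perm.mul_apply, swap_apply_of_ne_of_ne (Ne.symm htz) (Ne.symm ht'z)]

theorem preprimitive_of_lt (f : Ω → Fin b) (a : ℕ) (ha : 2 ≤ a) (hb : 2 ≤ b)
    (hab : 3 ≤ a ∨ 3 ≤ b) (hf : ∀ i : Fin b, Nat.card {x : Ω // f x = i} = a)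
    (X : Subgroup (Perm Ω)) (hX : partStab f ⊓ alternatingGroup Ω ≤ X)
    (g : Perm Ω) (hgX : g ∈ X) (hgW : g ∉ partStab f) : IsPreprimitive X Ω := by
  have hfibcard := fibre_ncard f a hf
  have htrans : IsPretransitive X Ω := ⟨fun u v => by
    obtain ⟨w, hw, hwuv⟩ := partStab_transitive f a hf u v
    obtain ⟨w', hw', hw'u, -⟩ := exists_even f a ha hb hab hf w hw u u
    exact ⟨⟨w', hX hw'⟩, hw'u.trans hwuv⟩⟩
  obtain ⟨g, hgX, u, v, huv, hguv⟩ : ∃ g ∈ X, ∃ u v, f u = f v ∧ f (g u) ≠ f (g v) := by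
    rw [mem_partStab] at hgW
    have hgW' : ∃ u v, ¬ (f u = f v ↔ f (g u) = f (g v)) := by
      by_contra h
      apply hgW
      intro u v
      by_contra h'
      exact h ⟨u, v, h'⟩
    obtain ⟨u, v, h⟩ := hgW'
    by_cases h1 : f u = f v
    · exact ⟨g, hgX, u, v, h1, fun h2 => h ⟨fun _ => h2, fun _ => h1⟩⟩
    · have h2 : f (g u) = f (g v) := by
        by_contra h2
        exact h ⟨fun h' => absurd h' h1, fun h' => absurd h' h2⟩
      refine ⟨g⁻¹, X.inv_mem hgX, g u, g v, h2, ?_⟩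
      simpa using h1
  apply IsPreprimitive.of_isTrivialBlock_base u
  intro B huB hB
  by_contra htriv
  unfold IsTrivialBlock at htriv
  push Not at htriv
  obtain ⟨hns, hnu⟩ := htriv
  have H0 : ∀ w ∈ partStab f, w u = u → ∀ z ∈ B, w z ∈ B := by
    intro w hw hwu z hz
    obtain ⟨w', hw', hw'u, hw'z⟩ := exists_even f a ha hb hab hf w hw u z
    have h1 : (⟨w', hX hw'⟩ : X) • u ∈ B := by
      change w' u ∈ B
      rw [hw'u, hwu]
      exact huB
    have h2 := hB.smul_eq_of_mem huB h1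
    rw [← h2, ← hw'z]
    exact ⟨z, hz, rfl⟩
  have H1 : ∀ z ∈ B, ∀ t, f t = f z → t ≠ u → z ≠ u → t ∈ B := by
    intro z hz t htz htu hzu
    by_cases hzt : z = t
    · exact hzt ▸ hz
    have := H0 (swap z t) (swap_mem_partStab f htz.symm)
      (swap_apply_of_ne_of_ne (Ne.symm hzu) (Ne.symm htu)) z hz
    rwa [swap_apply_left] at this
  by_cases hcase : ∃ z ∈ B, f z ≠ f u
  · obtain ⟨z, hzB, hzu⟩ := hcase
    have hall : ∀ t, f t ≠ f u → t ∈ B := by
      intro t htu
      have htu' : t ≠ u := fun h => htu (h ▸ rfl)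
      by_cases htz : f t = f z
      · exact H1 z hzB t htz htu' (fun h => hzu (h ▸ rfl))
      · obtain ⟨τ, hτ, hτ1, hτ2⟩ := exists_fibreSwap f (f z) (f t) (Ne.symm htz)
          ((hf _).trans (hf _).symm)
        have hτu : τ u = u := hτ2 u (Ne.symm hzu) (Ne.symm htu)
        have hτz := H0 τ hτ hτu z hzB
        have hfτz : f (τ z) = f t := by rw [hτ1, swap_apply_left]
        exact H1 (τ z) hτz t hfτz.symm htu' (fun h => htu (by rw [← hfτz, h]))
    apply hnu
    apply hB.eq_univ_of_card_lt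
    have hsub : Bᶜ ⊆ {t | f t = f u} \ {u} := by
      intro t ht
      refine ⟨?_, fun h => ht (h ▸ huB)⟩
      by_contra h
      exact ht (hall t h)
    have h1 : Bᶜ.ncard < a := by
      calc Bᶜ.ncard ≤ ({t | f t = f u} \ {u}).ncard := Set.ncard_le_ncard hsub
        _ = a - 1 := by
          rw [Set.ncard_sdiff_singleton_of_mem (show u ∈ {t | f t = f u} from rfl), hfibcard]
        _ < a := by omega
    have h2 : a ≤ B.ncard := by
      rw [← hfibcard (f z)]
      apply Set.ncard_le_ncard _ (Set.toFinite B)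
      intro t ht
      exact hall t (by rw [ht]; exact hzu)
    have h3 := Set.ncard_add_ncard_compl B
    omega
  · push Not at hcase
    obtain ⟨y, hyB, hyu⟩ := hns.exists_ne u
    have hBeq : B = {t | f t = f u} := by
      ext t
      constructor
      · intro ht
        exact hcase t ht
      · intro ht
        by_cases htu : t = u
        · exact htu ▸ huB
        · exact H1 y hyB t (ht.trans (hcase y hyB).symm) htu hyu
    obtain ⟨w₀, hw₀, hw₀u⟩ := partStab_transitive f a hf u (g u)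
    obtain ⟨w', hw'', hw'u', -⟩ := exists_even f a ha hb hab hf w₀ hw₀ u u
    have hw' : w' ∈ partStab f := (Subgroup.mem_inf.mp hw'').1
    have hw'u : w' u = g u := hw'u'.trans hw₀u
    have h1 : ((⟨g, hgX⟩ : X) • B ∩ (⟨w', hX hw''⟩ : X) • B).Nonempty :=
      ⟨g u, ⟨u, huB, rfl⟩, ⟨u, huB, hw'u⟩⟩
    have h2 := hB.smul_eq_smul_of_nonempty h1
    have h3 : g v ∈ (⟨w', hX hw''⟩ : X) • B := by
      rw [← h2]
      exact ⟨v, by rw [hBeq]; exact huv.symm, rfl⟩
    obtain ⟨t, ht, htv⟩ := h3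
    rw [hBeq] at ht
    have h4 : f (w' t) = f (w' u) := ((hw' t u).mp ht)
    apply hguv
    rw [← hw'u, ← h4]
    exact congrArg f htv

theorem exists_threeCycle_of_three_le (f : Ω → Fin b) (a : ℕ) (ha : 3 ≤ a) (hb : 2 ≤ b)
    (hf : ∀ i : Fin b, Nat.card {x : Ω // f x = i} = a) :
    ∃ c ∈ partStab f ⊓ alternatingGroup Ω, c.IsThreeCycle := by
  obtain ⟨x, -, hx, -, -⟩ := exists_pair f a (by omega) hf ⟨0, by omega⟩
  obtain ⟨y, z, hy, hz, hyz, hyx, hzx⟩ := exists_pair_ne f a ha hf ⟨0, by omega⟩ x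
  refine ⟨swap x y * swap x z, Subgroup.mem_inf.mpr ⟨(partStab f).mul_mem
    (swap_mem_partStab f (hx.trans hy.symm)) (swap_mem_partStab f (hx.trans hz.symm)), ?_⟩,
    Perm.isThreeCycle_swap_mul_swap_same (Ne.symm hyx) (Ne.symm hzx) hyz⟩
  rw [Perm.mem_alternatingGroup, map_mul, Perm.sign_swap (Ne.symm hyx), Perm.sign_swap (Ne.symm hzx)]
  rfl

end general

section swaps
variable {Ω : Type*} [Fintype Ω] [DecidableEq Ω]

theorem conj_swap_disjoint {p q r t : Ω} (hrp : r ≠ p) (hrq : r ≠ q) (htp : t ≠ p) (htq : t ≠ q) :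
    swap p q * swap r t * swap p q = swap r t := by
  have h := swap_apply_apply (swap p q) r t
  rw [swap_apply_of_ne_of_ne hrp hrq, swap_apply_of_ne_of_ne htp htq, swap_inv] at h
  exact h.symm

theorem threeCycle_B (X : Subgroup (Perm Ω)) {p q p' q' t : Ω}
    (hpq : p ≠ q) (hpp' : p ≠ p') (hpq' : p ≠ q') (hpt : p ≠ t) (hqp' : q ≠ p') (hqq' : q ≠ q')
    (hqt : q ≠ t) (hp'q' : p' ≠ q') (hp't : p' ≠ t) (hq't : q' ≠ t)
    (hs : swap p q * swap p' t ∈ X) (hh : swap p q * swap p' q' ∈ X) :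
    ∃ c ∈ X, c.IsThreeCycle := by
  set s := swap p q * swap p' t with hs_def
  set h := swap p q * swap p' q' with hh_def
  have hhp : h p = q := by
    rw [hh_def, Perm.mul_apply, swap_apply_of_ne_of_ne hpp' hpq', swap_apply_left]
  have hhq : h q = p := by
    rw [hh_def, Perm.mul_apply, swap_apply_of_ne_of_ne hqp' hqq', swap_apply_right]
  have hhp' : h p' = q' := by
    rw [hh_def, Perm.mul_apply, swap_apply_left, swap_apply_of_ne_of_ne hpq'.symm hqq'.symm]
  have hht : h t = t := by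
    rw [hh_def, Perm.mul_apply, swap_apply_of_ne_of_ne hp't.symm hq't.symm,
      swap_apply_of_ne_of_ne hpt.symm hqt.symm]
  have e1 : h * swap p q * h⁻¹ = swap q p := by rw [← swap_apply_apply, hhp, hhq]
  have e2 : h * swap p' t * h⁻¹ = swap q' t := by rw [← swap_apply_apply, hhp', hht]
  have hconj : h * s * h⁻¹ = swap q p * swap q' t := by
    rw [← e1, ← e2, hs_def]
    group
  have hc : s * (h * s * h⁻¹) = swap t p' * swap t q' := by
    rw [hconj, hs_def, swap_comm q p, swap_comm p' t, swap_comm q' t]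
    calc swap p q * swap t p' * (swap p q * swap t q')
        = (swap p q * swap t p' * swap p q) * swap t q' := by group
      _ = swap t p' * swap t q' := by
        rw [conj_swap_disjoint hpt.symm hqt.symm hpp'.symm hqp'.symm]
  refine ⟨s * (h * s * h⁻¹), X.mul_mem hs (X.mul_mem (X.mul_mem hh hs) (X.inv_mem hh)), ?_⟩
  rw [hc]
  exact Perm.isThreeCycle_swap_mul_swap_same hp't.symm hq't.symm hp'q'

theorem threeCycle_A1 (X : Subgroup (Perm Ω)) {p q p' r t : Ω}
    (hpq : p ≠ q) (hpp' : p ≠ p') (hqp' : q ≠ p') (hrp : r ≠ p) (hrp' : r ≠ p')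
    (htp : t ≠ p) (htp' : t ≠ p')
    (hs : swap p q * swap r t ∈ X) (hk : swap p p' * swap r t ∈ X) :
    ∃ c ∈ X, c.IsThreeCycle := by
  refine ⟨(swap p q * swap r t) * (swap p p' * swap r t), X.mul_mem hs hk, ?_⟩
  have : (swap p q * swap r t) * (swap p p' * swap r t) = swap p q * swap p p' := by
    calc (swap p q * swap r t) * (swap p p' * swap r t)
        = swap p q * (swap r t * swap p p' * swap r t) := by group
      _ = swap p q * swap p p' := by
        rw [conj_swap_disjoint hrp.symm htp.symm hrp'.symm htp'.symm]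
  rw [this]
  exact Perm.isThreeCycle_swap_mul_swap_same hpq hpp' hqp'

theorem threeCycle_A2 (X : Subgroup (Perm Ω)) {p q p' r t z z' : Ω}
    (hpq : p ≠ q) (hpp' : p ≠ p') (hqp' : q ≠ p') (hrp : r ≠ p) (hrp' : r ≠ p')
    (htp : t ≠ p) (htp' : t ≠ p')
    (hzp : z ≠ p) (hzq : z ≠ q) (hzr : z ≠ r) (hzt : z ≠ t)
    (hz'p : z' ≠ p) (hz'q : z' ≠ q) (hz'r : z' ≠ r) (hz't : z' ≠ t)
    (hs : swap p q * swap r t ∈ X) (hk : swap p p' * swap z z' ∈ X) :
    ∃ c ∈ X, c.IsThreeCycle := by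
  set s := swap p q * swap r t with hs_def
  set k := swap p p' * swap z z' with hk_def
  have hsp : s p = q := by
    rw [hs_def, Perm.mul_apply, swap_apply_of_ne_of_ne hrp.symm htp.symm, swap_apply_left]
  have hsp' : s p' = p' := by
    rw [hs_def, Perm.mul_apply, swap_apply_of_ne_of_ne hrp'.symm htp'.symm,
      swap_apply_of_ne_of_ne hpp'.symm hqp'.symm]
  have hsz : s z = z := by
    rw [hs_def, Perm.mul_apply, swap_apply_of_ne_of_ne hzr hzt, swap_apply_of_ne_of_ne hzp hzq]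
  have hsz' : s z' = z' := by
    rw [hs_def, Perm.mul_apply, swap_apply_of_ne_of_ne hz'r hz't,
      swap_apply_of_ne_of_ne hz'p hz'q]
  have e1 : s * swap p p' * s⁻¹ = swap q p' := by rw [← swap_apply_apply, hsp, hsp']
  have e2 : s * swap z z' * s⁻¹ = swap z z' := by rw [← swap_apply_apply, hsz, hsz']
  have hconj : s * k * s⁻¹ = swap q p' * swap z z' := by
    rw [← e1, ← e2, hk_def]
    group
  have hc : s * k * s⁻¹ * k⁻¹ = swap p' q * swap p' p := by
    rw [hconj, hk_def, mul_inv_rev, swap_inv, swap_inv, swap_comm q p', swap_comm p p']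
    calc swap p' q * swap z z' * (swap z z' * swap p' p)
        = swap p' q * (swap z z' * swap z z') * swap p' p := by group
      _ = swap p' q * swap p' p := by rw [swap_mul_self, mul_one]
  refine ⟨s * k * s⁻¹ * k⁻¹, X.mul_mem (X.mul_mem (X.mul_mem hs hk) (X.inv_mem hs)) (X.inv_mem hk), ?_⟩
  rw [hc]
  exact Perm.isThreeCycle_swap_mul_swap_same hqp'.symm hpp'.symm hpq.symm

end swaps

section two
variable {Ω : Type*} [Fintype Ω] [DecidableEq Ω] {b : ℕ}

theorem exists_partner (f : Ω → Fin b) (hf : ∀ i : Fin b, Nat.card {x : Ω // f x = i} = 2) (p : Ω) :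
    ∃ p' : Ω, f p' = f p ∧ p' ≠ p ∧ ∀ q, f q = f p → q = p ∨ q = p' := by
  have h := fibre_ncard f 2 hf (f p)
  rw [Set.ncard_eq_two] at h
  obtain ⟨x, y, hxy, hs⟩ := h
  have hmem : ∀ q, f q = f p ↔ q = x ∨ q = y := by
    intro q
    have : q ∈ ({t | f t = f p} : Set Ω) ↔ q ∈ ({x, y} : Set Ω) := by rw [hs]
    simpa using this
  rcases (hmem p).mp rfl with rfl | rfl
  · exact ⟨y, (hmem y).mpr (Or.inr rfl), hxy.symm, fun q hq => (hmem q).mp hq⟩
  · exact ⟨x, (hmem x).mpr (Or.inl rfl), hxy, fun q hq => ((hmem q).mp hq).symm⟩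

theorem pairSwaps_mem (f : Ω → Fin b) {x x' y y' : Ω} (hx : f x = f x') (hy : f y = f y')
    (hxx' : x ≠ x') (hyy' : y ≠ y') :
    swap x x' * swap y y' ∈ partStab f ⊓ alternatingGroup Ω := by
  refine Subgroup.mem_inf.mpr ⟨(partStab f).mul_mem (swap_mem_partStab f hx)
    (swap_mem_partStab f hy), ?_⟩
  rw [Perm.mem_alternatingGroup, map_mul, Perm.sign_swap hxx', Perm.sign_swap hyy']
  rfl

theorem fibreSwap_mem (f : Ω → Fin b) {p q p' q' : Ω} (hpq : f p ≠ f q)
    (hp' : f p' = f p) (hpp' : p' ≠ p) (hpall : ∀ x, f x = f p → x = p ∨ x = p')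
    (hq' : f q' = f q) (hqq' : q' ≠ q) (hqall : ∀ x, f x = f q → x = q ∨ x = q') :
    swap p q * swap p' q' ∈ partStab f ⊓ alternatingGroup Ω := by
  have hpq1 : p ≠ q := fun h => hpq (by rw [h])
  have hp'q' : p' ≠ q' := fun h => hpq (by rw [← hp', ← hq', h])
  have hpq' : p ≠ q' := fun h => hpq (by rw [← hq', h])
  have hqp' : q ≠ p' := fun h => hpq (by rw [← hp', h])
  refine Subgroup.mem_inf.mpr ⟨?_, ?_⟩
  · apply mem_partStab_of_perm f _ (swap (f p) (f q))
    intro x
    rw [Perm.mul_apply]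
    by_cases hxp : x = p
    · rw [hxp, swap_apply_of_ne_of_ne hpp'.symm hpq', swap_apply_left, swap_apply_left]
    by_cases hxq : x = q
    · rw [hxq, swap_apply_of_ne_of_ne hqp' hqq'.symm, swap_apply_right, swap_apply_right]
    by_cases hxp' : x = p'
    · rw [hxp', swap_apply_left, swap_apply_of_ne_of_ne hpq'.symm hqq', hq', hp', swap_apply_left]
    by_cases hxq' : x = q'
    · rw [hxq', swap_apply_right, swap_apply_of_ne_of_ne hpp' hqp'.symm, hq', hp',
        swap_apply_right]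
    · rw [swap_apply_of_ne_of_ne hxp' hxq', swap_apply_of_ne_of_ne hxp hxq]
      have h1 : f x ≠ f p := fun h => by
        rcases hpall x h with h | h
        · exact hxp h
        · exact hxp' h
      have h2 : f x ≠ f q := fun h => by
        rcases hqall x h with h | h
        · exact hxq h
        · exact hxq' h
      rw [swap_apply_of_ne_of_ne h1 h2]
  · rw [Perm.mem_alternatingGroup, map_mul, Perm.sign_swap hpq1, Perm.sign_swap hp'q']
    rfl

theorem exists_ne_four (hb4 : b ≠ 4) (i j k l : Fin b) (hij : i ≠ j) (hik : i ≠ k) (hil : i ≠ l)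
    (hjk : j ≠ k) (hjl : j ≠ l) (hkl : k ≠ l) :
    ∃ e : Fin b, e ≠ i ∧ e ≠ j ∧ e ≠ k ∧ e ≠ l := by
  by_contra h
  push Not at h
  have h1 : (Finset.univ : Finset (Fin b)) = {i, j, k, l} := by
    ext e
    simp only [Finset.mem_univ, Finset.mem_insert, Finset.mem_singleton, true_iff]
    by_contra hne
    push Not at hne
    exact hne.2.2.2 (h e hne.1 hne.2.1 hne.2.2.1)
  have h2 : ({i, j, k, l} : Finset (Fin b)).card = 4 := by
    rw [Finset.card_insert_of_notMem, Finset.card_insert_of_notMem, Finset.card_insert_of_notMem,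
      Finset.card_singleton]
    · simpa using hkl
    · simp [hjk, hjl]
    · simp [hij, hik, hil]
  have h3 := congrArg Finset.card h1
  rw [h2, Finset.card_univ, Fintype.card_fin] at h3
  exact hb4 h3

theorem exists_threeCycle_two (f : Ω → Fin b)
    (hf : ∀ i : Fin b, Nat.card {x : Ω // f x = i} = 2) (hb3 : 3 ≤ b) (hb4 : b ≠ 4)
    (X : Subgroup (Perm Ω)) (hX : partStab f ⊓ alternatingGroup Ω ≤ X)
    (g : Perm Ω) (hgX : g ∈ X) (hgW : g ∉ partStab f) :
    ∃ c ∈ X, c.IsThreeCycle := by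
  obtain ⟨g, hgX, u, v, huv, hguv⟩ : ∃ g ∈ X, ∃ u v, f u = f v ∧ f (g u) ≠ f (g v) := by
    rw [mem_partStab] at hgW
    have hgW' : ∃ u v, ¬ (f u = f v ↔ f (g u) = f (g v)) := by
      by_contra h
      apply hgW
      intro u v
      by_contra h'
      exact h ⟨u, v, h'⟩
    obtain ⟨u, v, h⟩ := hgW'
    by_cases h1 : f u = f v
    · exact ⟨g, hgX, u, v, h1, fun h2 => h ⟨fun _ => h2, fun _ => h1⟩⟩
    · have h2 : f (g u) = f (g v) := by
        by_contra h2
        exact h ⟨fun h' => absurd h' h1, fun h' => absurd h' h2⟩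
      refine ⟨g⁻¹, X.inv_mem hgX, g u, g v, h2, ?_⟩
      simpa using h1
  have huv' : u ≠ v := fun h => hguv (by rw [h])
  choose π hπ1 hπ2 hπ3 using exists_partner f hf
  obtain ⟨p, hp⟩ : ∃ p, g u = p := ⟨_, rfl⟩
  obtain ⟨q, hq⟩ : ∃ q, g v = q := ⟨_, rfl⟩
  rw [hp, hq] at hguv
  have key : ∃ y, f y ≠ f u ∧
      ¬ ((g y = π p ∨ g y = π q) ∧ (g (π y) = π p ∨ g (π y) = π q)) := by
    obtain ⟨j₁, hj₁, -⟩ := exists_ne_two hb3 (f u) (f u)
    obtain ⟨j₂, hj₂u, hj₂j⟩ := exists_ne_two hb3 (f u) j₁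
    obtain ⟨y₁, -, hy₁, -, -⟩ := exists_pair f 2 le_rfl hf j₁
    obtain ⟨y₂, -, hy₂, -, -⟩ := exists_pair f 2 le_rfl hf j₂
    by_cases hbad : (g y₁ = π p ∨ g y₁ = π q) ∧ (g (π y₁) = π p ∨ g (π y₁) = π q)
    · refine ⟨y₂, by rw [hy₂]; exact hj₂u, ?_⟩
      rintro ⟨h1, -⟩
      have hne : g y₁ ≠ g (π y₁) := fun h => (hπ2 y₁) (g.injective h).symm
      have hset : g y₂ = g y₁ ∨ g y₂ = g (π y₁) := by
        rcases hbad with ⟨ha | ha, hb' | hb'⟩ <;> rcases h1 with hx | hx
        · exact Or.inl (hx.trans ha.symm)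
        · exact absurd (ha.trans hb'.symm) hne
        · exact Or.inl (hx.trans ha.symm)
        · exact Or.inr (hx.trans hb'.symm)
        · exact Or.inr (hx.trans hb'.symm)
        · exact Or.inl (hx.trans ha.symm)
        · exact absurd (ha.trans hb'.symm) hne
        · exact Or.inl (hx.trans ha.symm)
      rcases hset with h | h
      · have h' := g.injective h
        exact hj₂j (by rw [← hy₂, h', hy₁])
      · have h' := g.injective h
        exact hj₂j (by rw [← hy₂, h', hπ1, hy₁])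
    · exact ⟨y₁, by rw [hy₁]; exact hj₁, hbad⟩
  obtain ⟨y, hyu, hgood⟩ := key
  obtain ⟨r, hr⟩ : ∃ r, g y = r := ⟨_, rfl⟩
  obtain ⟨t, ht⟩ : ∃ t, g (π y) = t := ⟨_, rfl⟩
  rw [hr, ht] at hgood
  have hT : swap u v * swap y (π y) ∈ partStab f ⊓ alternatingGroup Ω :=
    pairSwaps_mem f huv (hπ1 y).symm huv' (hπ2 y).symm
  have hs : swap p q * swap r t ∈ X := by
    have h1 : swap p q * swap r t = g * (swap u v * swap y (π y)) * g⁻¹ := by
      rw [← hp, ← hq, ← hr, ← ht, swap_apply_apply, swap_apply_apply]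
      group
    rw [h1]
    exact X.mul_mem (X.mul_mem hgX (hX hT)) (X.inv_mem hgX)
  -- distinctness
  have hpq : p ≠ q := fun h => hguv (by rw [h])
  have hpp' : p ≠ π p := (hπ2 p).symm
  have hqq' : q ≠ π q := (hπ2 q).symm
  have hpq' : p ≠ π q := fun h => hguv (by rw [h, hπ1])
  have hqp' : q ≠ π p := fun h => hguv (by rw [h, hπ1])
  have hp'q' : π p ≠ π q := fun h => hguv (by rw [← hπ1 p, ← hπ1 q, h])
  have hyu' : y ≠ u := fun h => hyu (by rw [h])
  have hyv' : y ≠ v := fun h => hyu (by rw [h, huv])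
  have hπyu : π y ≠ u := fun h => hyu (by rw [← hπ1 y, h])
  have hπyv : π y ≠ v := fun h => hyu (by rw [← hπ1 y, h, huv])
  have hrt : r ≠ t := by
    rw [← hr, ← ht]
    exact fun h => (hπ2 y) (g.injective h).symm
  have hrp : r ≠ p := by
    rw [← hr, ← hp]
    exact fun h => hyu' (g.injective h)
  have hrq : r ≠ q := by
    rw [← hr, ← hq]
    exact fun h => hyv' (g.injective h)
  have htp : t ≠ p := by
    rw [← ht, ← hp]
    exact fun h => hπyu (g.injective h)
  have htq : t ≠ q := by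
    rw [← ht, ← hq]
    exact fun h => hπyv (g.injective h)
  have hfs1 : swap p q * swap (π p) (π q) ∈ X :=
    hX (fibreSwap_mem f hguv (hπ1 p) (hπ2 p) (hπ3 p) (hπ1 q) (hπ2 q) (hπ3 q))
  have hfs2 : swap q p * swap (π q) (π p) ∈ X := by
    rw [swap_comm q p, swap_comm (π q) (π p)]
    exact hfs1
  by_cases hr1 : r = π p
  · have ht1 : t ≠ π p := fun h => hrt (hr1.trans h.symm)
    have ht2 : t ≠ π q := fun h => hgood ⟨Or.inl hr1, Or.inr h⟩
    rw [hr1] at hs
    exact threeCycle_B X hpq hpp' hpq' htp.symm hqp' hqq' htq.symm hp'q' ht1.symm ht2.symm hs hfs1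
  by_cases hr2 : r = π q
  · have ht2 : t ≠ π q := fun h => hrt (hr2.trans h.symm)
    have ht1 : t ≠ π p := fun h => hgood ⟨Or.inr hr2, Or.inl h⟩
    rw [hr2, swap_comm p q] at hs
    exact threeCycle_B X hpq.symm hqq' hqp' htq.symm hpq' hpp' htp.symm hp'q'.symm ht2.symm
      ht1.symm hs hfs2
  by_cases ht1 : t = π p
  · rw [ht1, swap_comm r (π p)] at hs
    exact threeCycle_B X hpq hpp' hpq' hrp.symm hqp' hqq' hrq.symm hp'q' (Ne.symm hr1)
      (Ne.symm hr2) hs hfs1
  by_cases ht2 : t = π q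
  · rw [ht2, swap_comm r (π q), swap_comm p q] at hs
    exact threeCycle_B X hpq.symm hqq' hqp' hrq.symm hpq' hpp' hrp.symm hp'q'.symm (Ne.symm hr2)
      (Ne.symm hr1) hs hfs2
  by_cases hfrt : f r = f t
  · exact threeCycle_A1 X hpq hpp' hqp' hrp hr1 htp ht1 hs
      (hX (pairSwaps_mem f (hπ1 p).symm hfrt hpp' hrt))
  · have hfrp : f r ≠ f p := fun h => (hπ3 p r h).elim hrp hr1
    have hfrq : f r ≠ f q := fun h => (hπ3 q r h).elim hrq hr2
    have hftp : f t ≠ f p := fun h => (hπ3 p t h).elim htp ht1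
    have hftq : f t ≠ f q := fun h => (hπ3 q t h).elim htq ht2
    obtain ⟨e, he1, he2, he3, he4⟩ := exists_ne_four hb4 (f p) (f q) (f r) (f t) hguv hfrp.symm
      hftp.symm hfrq.symm hftq.symm hfrt
    obtain ⟨z, z', hz, hz', hzz'⟩ := exists_pair f 2 le_rfl hf e
    have hne : ∀ w x : Ω, f w = e → e ≠ f x → w ≠ x := fun w x hw hx h => hx (by rw [← hw, h])
    exact threeCycle_A2 X hpq hpp' hqp' hrp hr1 htp ht1
      (hne z p hz he1) (hne z q hz he2) (hne z r hz he3) (hne z t hz he4)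
      (hne z' p hz' he1) (hne z' q hz' he2) (hne z' r hz' he3) (hne z' t hz' he4) hs
      (hX (pairSwaps_mem f (hπ1 p).symm (hz.trans hz'.symm) hpp' hzz'))

end two

section four

/-- The partition of `Fin 2 × Fin 2` by the first coordinate is preserved. -/
def part4 (g : Perm (Fin 2 × Fin 2)) : Prop :=
  ∀ p q : Fin 2 × Fin 2, p.1 = q.1 ↔ (g p).1 = (g q).1

instance : DecidablePred part4 := fun g => by
  unfold part4
  infer_instance

set_option maxRecDepth 100000 in
theorem key4 : ∀ g k : Perm (Fin 2 × Fin 2), Perm.sign g = 1 → ¬ part4 g → Perm.sign k = 1 →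
    part4 k ∨ part4 (k * g⁻¹) ∨ part4 (k * g⁻¹ * g⁻¹) := by
  decide

variable {Ω : Type*} [Fintype Ω] [DecidableEq Ω]

theorem exists_equiv4 (f : Ω → Fin 2) (hf : ∀ i : Fin 2, Nat.card {x : Ω // f x = i} = 2) :
    ∃ e : Ω ≃ Fin 2 × Fin 2, ∀ x, (e x).1 = f x := by
  have hc : ∀ i : Fin 2, Nonempty ({x : Ω // f x = i} ≃ Fin 2) := fun i => by
    have : Nat.card {x : Ω // f x = i} = Nat.card (Fin 2) := by
      rw [hf i]
      simp
    exact Finite.card_eq.mp this
  exact ⟨(Equiv.sigmaFiberEquiv f).symm.trans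
    ((Equiv.sigmaCongrRight (fun i => (hc i).some)).trans (Equiv.sigmaEquivProd (Fin 2) (Fin 2))),
    fun x => rfl⟩

theorem four_case (f : Ω → Fin 2) (hf : ∀ i : Fin 2, Nat.card {x : Ω // f x = i} = 2)
    (X : Subgroup (Perm Ω)) (hX : partStab f ⊓ alternatingGroup Ω ≤ X)
    (g : Perm Ω) (hgX : g ∈ X) (hgA : g ∈ alternatingGroup Ω) (hgW : g ∉ partStab f) :
    alternatingGroup Ω ≤ X := by
  obtain ⟨e, he⟩ := exists_equiv4 f hf
  have key : ∀ g : Perm Ω, g ∈ partStab f ↔ part4 (e.permCongr g) := by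
    intro g
    rw [mem_partStab]
    constructor
    · intro h p q
      have hp1 : p.1 = f (e.symm p) := by rw [← he, Equiv.apply_symm_apply]
      have hq1 : q.1 = f (e.symm q) := by rw [← he, Equiv.apply_symm_apply]
      rw [Equiv.permCongr_apply, Equiv.permCongr_apply, he, he, hp1, hq1]
      exact h (e.symm p) (e.symm q)
    · intro h x y
      have h1 := h (e x) (e y)
      rw [Equiv.permCongr_apply, Equiv.permCongr_apply, Equiv.symm_apply_apply,
        Equiv.symm_apply_apply, he, he, he, he] at h1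
      exact h1
  have hmul : ∀ x y : Perm Ω, e.permCongr (x * y) = e.permCongr x * e.permCongr y :=
    fun x y => map_mul (e.permCongrHom) x y
  have hinv : ∀ x : Perm Ω, e.permCongr x⁻¹ = (e.permCongr x)⁻¹ :=
    fun x => map_inv (e.permCongrHom) x
  intro k hk
  have hsg : Perm.sign (e.permCongr g) = 1 := by
    rw [Perm.sign_permCongr]
    exact Perm.mem_alternatingGroup.mp hgA
  have hsk : Perm.sign (e.permCongr k) = 1 := by
    rw [Perm.sign_permCongr]
    exact Perm.mem_alternatingGroup.mp hk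
  have hginv : g⁻¹ ∈ alternatingGroup Ω := (alternatingGroup Ω).inv_mem hgA
  rcases key4 (e.permCongr g) (e.permCongr k) hsg (fun h => hgW ((key g).mpr h)) hsk with h | h | h
  · exact hX (Subgroup.mem_inf.mpr ⟨(key k).mpr h, hk⟩)
  · rw [← hinv, ← hmul] at h
    have h1 : k * g⁻¹ ∈ X := hX (Subgroup.mem_inf.mpr ⟨(key _).mpr h,
      (alternatingGroup Ω).mul_mem hk hginv⟩)
    have h2 := X.mul_mem h1 hgX
    rwa [inv_mul_cancel_right] at h2
  · rw [← hinv, ← hmul, ← hmul] at h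
    have h1 : k * g⁻¹ * g⁻¹ ∈ X := hX (Subgroup.mem_inf.mpr ⟨(key _).mpr h,
      (alternatingGroup Ω).mul_mem ((alternatingGroup Ω).mul_mem hk hginv) hginv⟩)
    have h2 := X.mul_mem (X.mul_mem h1 hgX) hgX
    rwa [inv_mul_cancel_right, inv_mul_cancel_right] at h2

end four

/-- Let Ω be a finite set whose size is not 8, and f : Ω → Fin b a labelling with b ≥ 2 whose fibres all have the same size a ≥ 2 (a partition into b blocks of size a). Then the even permutations preserving the partition — the intersection of the imprimitive wreath product S_a ≀ S_b with the alternating group — form a maximal subgroup of the alternating group on Ω. -/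
theorem result {Ω : Type*} [Fintype Ω] [DecidableEq Ω] (h8 : Fintype.card Ω ≠ 8) (a b : ℕ) (ha : 2 ≤ a) (hb : 2 ≤ b)
    (f : Ω → Fin b) (hf : ∀ i : Fin b, Nat.card {x : Ω // f x = i} = a) :
    IsCoatom ((Subgroup.closure {g : Equiv.Perm Ω | ∀ x y : Ω, f x = f y ↔ f (g x) = f (g y)} ⊓ alternatingGroup Ω).subgroupOf (alternatingGroup Ω)) := by
  rw [closure_partStab]
  have hcard : Fintype.card Ω = b * a := by
    rw [← Fintype.card_congr (Equiv.sigmaFiberEquiv f), Fintype.card_sigma]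
    simp only [← Nat.card_eq_fintype_card, hf, Finset.sum_const, Finset.card_univ,
      smul_eq_mul, Nat.card_fin]
  apply isCoatom_subgroupOf_of _ _ inf_le_right
  · intro hle
    obtain ⟨x, x', hx, hx', hxx'⟩ := exists_pair f a ha hf ⟨0, by omega⟩
    obtain ⟨y, y', hy, hy', hyy'⟩ := exists_pair f a ha hf ⟨1, by omega⟩
    have h01 : (⟨0, by omega⟩ : Fin b) ≠ ⟨1, by omega⟩ := by
      intro h
      have := congrArg Fin.val h
      simp at this
    have hx'y : x' ≠ y := fun h => h01 (by rw [← hx', ← hy, h])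
    have hx'y' : x' ≠ y' := fun h => h01 (by rw [← hx', ← hy', h])
    have hxy : x ≠ y := fun h => h01 (by rw [← hx, ← hy, h])
    have hxy' : x ≠ y' := fun h => h01 (by rw [← hx, ← hy', h])
    have hc : swap x' y * swap x' y' ∈ alternatingGroup Ω := by
      rw [Perm.mem_alternatingGroup, map_mul, Perm.sign_swap hx'y, Perm.sign_swap hx'y']
      rfl
    have hmem := (Subgroup.mem_inf.mp (hle hc)).1
    have h := (hmem x x').mp (hx.trans hx'.symm)
    rw [Perm.mul_apply, Perm.mul_apply, swap_apply_of_ne_of_ne hxx' hxy',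
      swap_apply_of_ne_of_ne hxx' hxy, swap_apply_left,
      swap_apply_of_ne_of_ne hx'y'.symm hyy'.symm, hx, hy'] at h
    exact h01 h
  · intro L hHL hLA hne
    obtain ⟨g, hgL, hgW⟩ : ∃ g ∈ L, g ∉ partStab f := by
      by_contra h
      push Not at h
      exact hne (le_antisymm (fun x hx => Subgroup.mem_inf.mpr ⟨h x hx, hLA hx⟩) hHL)
    by_cases hab : 3 ≤ a ∨ 3 ≤ b
    · have hprim := preprimitive_of_lt f a ha hb hab hf L hHL g hgL hgW
      obtain ⟨c, hcL, hc3⟩ : ∃ c ∈ L, c.IsThreeCycle := by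
        rcases Nat.lt_or_ge a 3 with ha3 | ha3
        · have ha2 : a = 2 := by omega
          subst ha2
          have hb3 : 3 ≤ b := by omega
          have hb4 : b ≠ 4 := by
            intro h
            apply h8
            rw [hcard, h]
          exact exists_threeCycle_two f hf hb3 hb4 L hHL g hgL hgW
        · obtain ⟨c, hc, hc3⟩ := exists_threeCycle_of_three_le f a ha3 hb hf
          exact ⟨c, hHL hc, hc3⟩
      exact Equiv.Perm.alternatingGroup_le_of_isPreprimitive_of_isThreeCycle_mem hprim hc3 hcL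
    · have hab2 : a = 2 ∧ b = 2 := by omega
      obtain ⟨rfl, rfl⟩ := hab2
      exact four_case f hf L hHL g hgL (hLA hgL) hgW

end Cfsg.Agent.S5909
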