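import Cfsg.Statements.S5910
import Cfsg.Agent.Lib.Helper98.Wreath

set_option autoImplicit false
open Cfsg

namespace Cfsg.Agent.S5910

open Equiv Cfsg.Agent.Lib.Helper98

/-- The index set of the blocks, as a vector space over the field with two elements. -/
abbrev B : Type := Fin 2 × Fin 2

/-- The affine space of dimension three over the field with two elements. -/
abbrev V : Type := B × Fin 2

set_option maxRecDepth 100000 in
theorem inj_affine : ∀ σ : B → B, Function.Injective σ →
    ∀ a b c : B, σ (a + b + c) = σ a + σ b + σ c := by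
  decide

theorem fin2_ne : ∀ x y : Fin 2, x ≠ y → y = x + 1 := by decide

theorem sign_addLeft : ∀ e : Fin 2, Perm.sign (Equiv.addLeft e) = if e = 0 then 1 else -1 := by
  decide

set_option maxRecDepth 100000 in
theorem eps_affine : ∀ ε : B → Fin 2, (∏ i : B, (if ε i = 0 then (1 : ℤˣ) else -1)) = 1 →
    ∀ a b c : B, ε (a + b + c) = ε a + ε b + ε c := by
  decide
/-- The group of affine permutations. -/
def Aff : Subgroup (Perm V) where
  carrier := {g | ∀ a b c : V, g (a + b + c) = g a + g b + g c}
  one_mem' := fun a b c => rfl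
  mul_mem' := by
    intro g h hg hh a b c
    simp only [Perm.mul_apply]
    rw [hh, hg]
  inv_mem' := by
    intro g hg a b c
    apply g.injective
    rw [hg]
    simp

theorem mem_Aff (g : Perm V) : g ∈ Aff ↔ ∀ a b c : V, g (a + b + c) = g a + g b + g c := Iff.rfl

theorem mem_Aff_of_even (g : Perm V) (hp : ∀ p q : V, p.1 = q.1 ↔ (g p).1 = (g q).1)
    (hs : Perm.sign g = 1) : g ∈ Aff := by
  set σ : B → B := fun i => (g (i, 0)).1 with hσ
  set ε : B → Fin 2 := fun i => (g (i, 0)).2 with hε
  have h1 : ∀ p : V, (g p).1 = σ p.1 := fun p => ((hp p (p.1, 0)).mp rfl)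
  have hσinj : Function.Injective σ := by
    intro i j hij
    exact (hp (i, 0) (j, 0)).mpr hij
  have h2 : ∀ i : B, ∀ j : Fin 2, (g (i, j)).2 = ε i + j := by
    intro i j
    by_cases hj : j = 0
    · subst hj
      simp [hε]
    · have hj1 : j = 0 + 1 := fin2_ne 0 j (Ne.symm hj)
      have hne : (g (i, 0)).2 ≠ (g (i, j)).2 := by
        intro heq
        have h3 : g (i, 0) = g (i, j) := Prod.ext (by rw [h1, h1]) heq
        have h4 := g.injective h3
        exact hj (Prod.ext_iff.mp h4).2.symm
      rw [fin2_ne _ _ hne, hj1]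
      simp [hε]
  have hg : ∀ p : V, g p = (σ p.1, ε p.1 + p.2) := fun p => Prod.ext (h1 p) (h2 p.1 p.2)
  let σ' : Perm B := Equiv.ofBijective σ ⟨hσinj, Finite.surjective_of_injective hσinj⟩
  have hfac : g = (Equiv.prodCongrLeft (fun _ : Fin 2 => σ')) *
      (Equiv.prodCongrRight (fun i : B => Equiv.addLeft (ε i))) := by
    refine Equiv.ext fun p => ?_
    rw [hg]
    rfl
  have hprod : ∏ i : B, (if ε i = 0 then (1 : ℤˣ) else -1) = 1 := by
    rw [hfac, map_mul, Perm.sign_prodCongrLeft, Perm.sign_prodCongrRight] at hs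
    simp only [Finset.prod_const, Finset.card_univ, Fintype.card_fin, sign_addLeft] at hs
    rw [sq, Int.units_mul_self, one_mul] at hs
    exact hs
  have hεaff := eps_affine ε hprod
  have hσaff := inj_affine σ hσinj
  intro a b c
  rw [hg, hg a, hg b, hg c]
  refine Prod.ext ?_ ?_
  · simp only [Prod.fst_add, hσaff]
  · simp only [Prod.fst_add, Prod.snd_add, hεaff]
    abel
/-- A three-cycle which is not affine. -/
def c₀ : Perm V := swap ((0, 0), 0) ((1, 0), 0) * swap ((1, 0), 0) ((0, 1), 0)

theorem sign_c₀ : Perm.sign c₀ = 1 := by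
  rw [c₀, map_mul, Perm.sign_swap (by decide), Perm.sign_swap (by decide)]
  rfl

theorem c₀_not_mem : c₀ ∉ Aff := by
  intro h
  have := h ((0, 0), 0) ((1, 0), 0) ((0, 0), 1)
  revert this
  decide

/-- An even affine permutation which does not preserve the partition. -/
def m₀ : Perm V := swap ((1, 0), 0) ((0, 0), 1) * swap ((1, 1), 0) ((0, 1), 1)

theorem sign_m₀ : Perm.sign m₀ = 1 := by
  rw [m₀, map_mul, Perm.sign_swap (by decide), Perm.sign_swap (by decide)]
  rfl

set_option maxRecDepth 100000 in
theorem m₀_mem : m₀ ∈ Aff := by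
  rw [mem_Aff]
  decide

theorem m₀_not_part : ¬ ∀ p q : V, p.1 = q.1 ↔ (m₀ p).1 = (m₀ q).1 := by
  intro h
  have := (h ((1, 0), 0) ((1, 0), 1)).mp rfl
  revert this
  decide

section
variable {Ω : Type*} [Fintype Ω]

theorem exists_equiv (f : Ω → Fin 4) (hf : ∀ i : Fin 4, Nat.card {x : Ω // f x = i} = 2) :
    ∃ e : Ω ≃ V, ∀ x, (e x).1 = finProdFinEquiv.symm (f x) := by
  have hc : ∀ i : Fin 4, Nonempty ({x : Ω // f x = i} ≃ Fin 2) := fun i => by
    have : Nat.card {x : Ω // f x = i} = Nat.card (Fin 2) := by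
      rw [hf i]
      simp
    exact Finite.card_eq.mp this
  let e' : Ω ≃ Fin 4 × Fin 2 := (Equiv.sigmaFiberEquiv f).symm.trans
    ((Equiv.sigmaCongrRight (fun i => (hc i).some)).trans (Equiv.sigmaEquivProd (Fin 4) (Fin 2)))
  exact ⟨e'.trans (Equiv.prodCongr ((finProdFinEquiv (m := 2) (n := 2)).symm : Fin 4 ≃ B)
    (Equiv.refl (Fin 2))), fun x => rfl⟩

end

/-- Let Ω be a set with 8 elements and f : Ω → Fin 4 a labelling whose four fibres all have size 2 (a partition of the 8 points into 4 pairs). Then the group of even permutations preserving this partition, (S₂ ≀ S₄) ∩ A₈, is not a maximal subgroup of the alternating group A₈ (it lies in a subgroup isomorphic to the affine group AGL₃(2)). -/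
theorem result {Ω : Type*} [Fintype Ω] [DecidableEq Ω] (h8 : Fintype.card Ω = 8)
    (f : Ω → Fin 4) (hf : ∀ i : Fin 4, Nat.card {x : Ω // f x = i} = 2) :
    ¬ IsCoatom ((Subgroup.closure {g : Equiv.Perm Ω | ∀ x y : Ω, f x = f y ↔ f (g x) = f (g y)} ⊓ alternatingGroup Ω).subgroupOf (alternatingGroup Ω)) := by
  obtain ⟨e, he⟩ := exists_equiv f hf
  rw [closure_partStab]
  have hβ : Function.Injective (finProdFinEquiv (m := 2) (n := 2)).symm :=
    (finProdFinEquiv (m := 2) (n := 2)).symm.injective
  have key : ∀ g : Perm Ω, g ∈ partStab f ↔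
      ∀ p q : V, p.1 = q.1 ↔ ((e.permCongr g) p).1 = ((e.permCongr g) q).1 := by
    intro g
    rw [mem_partStab]
    constructor
    · intro h p q
      have hp1 : p.1 = finProdFinEquiv.symm (f (e.symm p)) := by
        rw [← he, Equiv.apply_symm_apply]
      have hq1 : q.1 = finProdFinEquiv.symm (f (e.symm q)) := by
        rw [← he, Equiv.apply_symm_apply]
      rw [Equiv.permCongr_apply, Equiv.permCongr_apply, he, he, hp1, hq1, hβ.eq_iff, hβ.eq_iff]
      exact h (e.symm p) (e.symm q)
    · intro h x y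
      have h1 := h (e x) (e y)
      rw [Equiv.permCongr_apply, Equiv.permCongr_apply, Equiv.symm_apply_apply,
        Equiv.symm_apply_apply, he, he, he, he, hβ.eq_iff, hβ.eq_iff] at h1
      exact h1
  have hsign : ∀ g : Perm Ω, Perm.sign (e.permCongr g) = Perm.sign g := fun g =>
    Perm.sign_permCongr e g
  let M : Subgroup (Perm Ω) := Aff.comap (e.permCongrHom : Perm Ω →* Perm V)
  have hM : ∀ g : Perm Ω, g ∈ M ↔ e.permCongr g ∈ Aff := fun g => Iff.rfl
  intro hco
  have hle : (partStab f ⊓ alternatingGroup Ω).subgroupOf (alternatingGroup Ω) ≤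
      M.subgroupOf (alternatingGroup Ω) := by
    intro g hg
    rw [Subgroup.mem_subgroupOf] at hg ⊢
    obtain ⟨hg1, hg2⟩ := Subgroup.mem_inf.mp hg
    rw [hM]
    apply mem_Aff_of_even
    · exact (key _).mp hg1
    · rw [hsign]
      exact Perm.mem_alternatingGroup.mp hg2
  -- the element of `M` outside the partition stabiliser
  have hm_alt : e.symm.permCongr m₀ ∈ alternatingGroup Ω := by
    rw [Perm.mem_alternatingGroup, Perm.sign_permCongr]
    exact sign_m₀
  have hback : ∀ g₀ : Perm V, e.permCongr (e.symm.permCongr g₀) = g₀ := by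
    intro g₀
    refine Equiv.ext fun p => ?_
    simp [Equiv.permCongr_apply]
  have hlt : (partStab f ⊓ alternatingGroup Ω).subgroupOf (alternatingGroup Ω) <
      M.subgroupOf (alternatingGroup Ω) := by
    refine lt_of_le_of_ne hle ?_
    intro heq
    have h1 : (⟨e.symm.permCongr m₀, hm_alt⟩ : alternatingGroup Ω) ∈
        M.subgroupOf (alternatingGroup Ω) := by
      rw [Subgroup.mem_subgroupOf, hM, hback]
      exact m₀_mem
    rw [← heq, Subgroup.mem_subgroupOf] at h1
    have h2 := (key _).mp (Subgroup.mem_inf.mp h1).1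
    rw [hback] at h2
    exact m₀_not_part h2
  have htop := hco.2 _ hlt
  have hc_alt : e.symm.permCongr c₀ ∈ alternatingGroup Ω := by
    rw [Perm.mem_alternatingGroup, Perm.sign_permCongr]
    exact sign_c₀
  have h3 : (⟨e.symm.permCongr c₀, hc_alt⟩ : alternatingGroup Ω) ∈
      M.subgroupOf (alternatingGroup Ω) := by
    rw [htop]
    trivial
  rw [Subgroup.mem_subgroupOf, hM, hback] at h3
  exact c₀_not_mem h3

end Cfsg.Agent.S5910
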