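import Cfsg.Statements.S5912
import Cfsg.Agent.Lib.Helper99.SymIndexD

set_option autoImplicit false
open Cfsg

namespace Cfsg.Agent.S5912

/-- The symmetric group on a 6-element set Ω has exactly two conjugacy classes of subgroups of index 6: there are two non-conjugate subgroups of index 6 (a point stabilizer and a transitive subgroup isomorphic to S₅), and every subgroup of index 6 is conjugate to one of them. -/
theorem result {Ω : Type*} [Fintype Ω] [DecidableEq Ω] (h6 : Fintype.card Ω = 6) :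
    ∃ H₁ H₂ : Subgroup (Equiv.Perm Ω), H₁.index = 6 ∧ H₂.index = 6 ∧
      (¬ ∃ g : Equiv.Perm Ω, Subgroup.map (MulAut.conj g).toMonoidHom H₁ = H₂) ∧
      ∀ H : Subgroup (Equiv.Perm Ω), H.index = 6 →
        ∃ g : Equiv.Perm Ω, Subgroup.map (MulAut.conj g).toMonoidHom H₁ = H ∨ Subgroup.map (MulAut.conj g).toMonoidHom H₂ = H := by
  classical
  obtain ⟨X, instF, instD, φ₀, hX, hsw, hall⟩ := Cfsg.Agent.Lib.Helper99.exotic_data h6
  obtain ⟨a₀⟩ : Nonempty Ω := Fintype.card_pos_iff.mp (by omega)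
  obtain ⟨b₀⟩ : Nonempty X := Fintype.card_pos_iff.mp (by omega)
  have hconj : ∀ (g : Equiv.Perm Ω) (a : Ω),
      Subgroup.map (MulAut.conj g).toMonoidHom (MulAction.stabilizer (Equiv.Perm Ω) a) =
        MulAction.stabilizer (Equiv.Perm Ω) (g a) := by
    intro g a
    exact (MulAction.stabilizer_smul_eq_stabilizer_map_conj g a).symm
  refine ⟨MulAction.stabilizer (Equiv.Perm Ω) a₀, Cfsg.Agent.Lib.Helper99.pullStab φ₀ b₀, ?_, ?_, ?_, ?_⟩
  · rw [MulAction.index_stabilizer_of_transitive, Nat.card_eq_fintype_card, h6]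
  · rw [Cfsg.Agent.Lib.Helper99.index_pullStab, hX]
  · rintro ⟨g, hg⟩
    rw [hconj] at hg
    exact Cfsg.Agent.Lib.Helper99.pullStab_ne_stabilizer φ₀ hX (by omega) hsw b₀ (g a₀) hg.symm
  · intro H hH
    rcases hall H hH with ⟨a, rfl⟩ | ⟨b, rfl⟩
    · refine ⟨Equiv.swap a₀ a, Or.inl ?_⟩
      rw [hconj, Equiv.swap_apply_left]
    · refine ⟨φ₀.symm (Equiv.swap b₀ b), Or.inr ?_⟩
      rw [Cfsg.Agent.Lib.Helper99.map_conj_pullStab, MulEquiv.apply_symm_apply,
        Equiv.swap_apply_left]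

end Cfsg.Agent.S5912
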