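import Mathlib
import Cfsg.Statements.S5942
import Cfsg.Agent.Lib.Helper41.DkSubfield
import Cfsg.Agent.S0805

set_option autoImplicit false
open Cfsg

namespace Cfsg.Agent.S5942

open Matrix Cfsg.Agent.Lib.Helper2.SL2 Cfsg.Agent.Lib.Helper14.Dk Cfsg.Agent.Lib.Helper41.DkOver
open Cfsg.Agent.Lib.Helper41.DkSubfield
open Cfsg.Agent.S5943 (slMap slMap_apply slMap_injective slMap_ux slMap_uy card_range_slMap)

theorem N1 (r : ℕ) (hr : r % 2 = 1) : ¬ 48 ∣ 3 ^ r * ((3 ^ r) ^ 2 - 1) := by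
  obtain ⟨j, rfl⟩ : ∃ j, r = 2 * j + 1 := ⟨r / 2, by omega⟩
  intro h
  have h16 : 16 ∣ 3 ^ (2 * j + 1) * ((3 ^ (2 * j + 1)) ^ 2 - 1) := (by norm_num : 16 ∣ 48).trans h
  have hcop : Nat.Coprime 16 (3 ^ (2 * j + 1)) := by
    apply Nat.Coprime.pow_right
    norm_num
  have h2 := hcop.dvd_of_dvd_mul_left h16
  have e : (3 ^ (2 * j + 1)) ^ 2 = 9 * 81 ^ j := by
    rw [← pow_mul, show (2 * j + 1) * 2 = 2 + 4 * j by ring, pow_add, pow_mul]
    norm_num
  have h81 : 81 ^ j % 16 = 1 := by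
    rw [Nat.pow_mod]; norm_num
  rw [e] at h2
  have : 1 ≤ 81 ^ j := Nat.one_le_pow _ _ (by norm_num)
  omega

theorem N2 (r : ℕ) (hr : r % 2 = 1) : ¬ 120 ∣ 3 ^ r * ((3 ^ r) ^ 2 - 1) := by
  obtain ⟨j, rfl⟩ : ∃ j, r = 2 * j + 1 := ⟨r / 2, by omega⟩
  intro h
  have h5 : 5 ∣ 3 ^ (2 * j + 1) * ((3 ^ (2 * j + 1)) ^ 2 - 1) := (by norm_num : 5 ∣ 120).trans h
  have hcop : Nat.Coprime 5 (3 ^ (2 * j + 1)) := by
    apply Nat.Coprime.pow_right
    norm_num
  have h2 := hcop.dvd_of_dvd_mul_left h5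
  have e : (3 ^ (2 * j + 1)) ^ 2 = 9 * 81 ^ j := by
    rw [← pow_mul, show (2 * j + 1) * 2 = 2 + 4 * j by ring, pow_add, pow_mul]
    norm_num
  have h81 : 81 ^ j % 5 = 1 := by
    rw [Nat.pow_mod]; norm_num
  rw [e] at h2
  have : 1 ≤ 81 ^ j := Nat.one_le_pow _ _ (by norm_num)
  omega

theorem small_q (q N : ℕ) (hq : 3 ≤ q) (hqodd : q % 2 = 1) (hN : N = 24 ∨ N = 48 ∨ N = 120)
    (h : q * (q ^ 2 - 1) ∣ N) : q = 3 ∨ (q = 5 ∧ N = 120) := by
  have hle : q ≤ 5 := by
    by_contra hcon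
    have h6 : 6 ≤ q := by omega
    have h36 : 36 ≤ q ^ 2 := by nlinarith
    have : 6 * 35 ≤ q * (q ^ 2 - 1) := Nat.mul_le_mul h6 (by omega)
    have hN' : 0 < N := by rcases hN with rfl | rfl | rfl <;> norm_num
    have := Nat.le_of_dvd hN' h
    rcases hN with rfl | rfl | rfl <;> omega
  interval_cases q
  · left; rfl
  · omega
  · right
    refine ⟨rfl, ?_⟩
    rcases hN with rfl | rfl | rfl
    · norm_num at h
    · norm_num at h
    · rfl

/-- transfer of maximality to a quotient -/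
theorem isCoatom_map_mk' {G : Type*} [Group G] (N : Subgroup G) [N.Normal] (H₀ : Subgroup G)
    (hN : N ≤ H₀) (hne : H₀ ≠ ⊤) (hmax : ∀ Y, H₀ < Y → Y = ⊤) :
    IsCoatom (H₀.map (QuotientGroup.mk' N)) := by
  have hsurj : Function.Surjective (QuotientGroup.mk' N) := QuotientGroup.mk'_surjective N
  have hcm : (H₀.map (QuotientGroup.mk' N)).comap (QuotientGroup.mk' N) = H₀ := by
    rw [Subgroup.comap_map_eq, QuotientGroup.ker_mk']
    exact sup_eq_left.mpr hN
  constructor
  · intro h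
    rw [h, Subgroup.comap_top] at hcm
    exact hne hcm.symm
  · intro M hlt
    have hle : H₀ ≤ M.comap (QuotientGroup.mk' N) := by
      rw [← hcm]
      exact Subgroup.comap_mono hlt.le
    have hneq : H₀ ≠ M.comap (QuotientGroup.mk' N) := by
      intro h
      apply hlt.ne
      rw [h, Subgroup.map_comap_eq_self_of_surjective hsurj]
    have htop := hmax _ (lt_of_le_of_ne hle hneq)
    rw [← Subgroup.map_comap_eq_self_of_surjective hsurj M, htop, ← MonoidHom.range_eq_map,
      MonoidHom.range_eq_top]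
    exact hsurj

section
variable {F K : Type*} [Field F] [Field K] [Fintype F] [Fintype K]

local notation "SL2" => Matrix.SpecialLinearGroup (Fin 2) F

theorem pow_sq_sub (p b : ℕ) : (p ^ b) ^ 2 - 1 = p ^ (2 * b) - 1 := by
  rw [← pow_mul, mul_comm]

theorem range_max (p : ℕ) [Fact p.Prime] [CharP F p] (hp2 : p ≠ 2) (ι : K →+* F) (a r : ℕ)
    (ha : 1 ≤ a) (hK : Fintype.card K = p ^ a) (hF : Fintype.card F = p ^ (a * r)) (hr : r.Prime)
    (hr2 : r ≠ 2) :
    (slMap ι).range ≠ ⊤ ∧ ∀ Y : Subgroup SL2, (slMap ι).range < Y → Y = ⊤ := by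
  classical
  have hpp : p.Prime := Fact.out
  have hp3 : 3 ≤ p := by
    have := hpp.two_le
    omega
  have hrodd : r % 2 = 1 := by
    rcases hr.eq_two_or_odd with h | h
    · exact absurd h hr2
    · exact h
  have hr3 : 3 ≤ r := by
    have := hr.two_le
    omega
  have hcH := card_range_slMap ι
  rw [hK] at hcH
  have hcG : Nat.card SL2 = p ^ (a * r) * ((p ^ (a * r)) ^ 2 - 1) := by
    rw [Cfsg.Agent.Lib.Helper38.card_SL2, hF]
  have hq3 : 3 ≤ p ^ a := by
    calc 3 ≤ p := hp3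
      _ = p ^ 1 := (pow_one p).symm
      _ ≤ p ^ a := Nat.pow_le_pow_right (by omega) ha
  have hqodd : p ^ a % 2 = 1 := by
    have : Odd (p ^ a) := Odd.pow (hpp.odd_of_ne_two hp2)
    exact Nat.odd_iff.mp this
  have hQ : p ^ (a * r) = (p ^ a) ^ r := pow_mul p a r
  have hlt : p ^ a < p ^ (a * r) := Nat.pow_lt_pow_right hpp.one_lt (by nlinarith)
  have hmono : ∀ u v : ℕ, 1 ≤ u → u < v → u * (u ^ 2 - 1) < v * (v ^ 2 - 1) := by
    intro u v hu huv
    have h1 : u ^ 2 < v ^ 2 := Nat.pow_lt_pow_left huv (by norm_num)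
    have h2 : 1 ≤ u ^ 2 := Nat.one_le_pow _ _ hu
    have h3 : u ^ 2 - 1 < v ^ 2 - 1 := by omega
    calc u * (u ^ 2 - 1) ≤ u * (v ^ 2 - 1) := Nat.mul_le_mul_left _ h3.le
      _ < v * (v ^ 2 - 1) := Nat.mul_lt_mul_of_pos_right huv (by omega)
  have hcardlt := hmono (p ^ a) (p ^ (a * r)) (by omega) hlt
  constructor
  · intro htop
    rw [htop, Subgroup.card_top, hcG] at hcH
    omega
  · intro Y hY
    have hle : (slMap ι).range ≤ Y := hY.le
    have hdvd : Nat.card (slMap ι).range ∣ Nat.card Y := Subgroup.card_dvd_of_le hle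
    have hne : Nat.card Y ≠ Nat.card (slMap ι).range := by
      intro h
      have := Subgroup.eq_of_le_of_card_ge hle h.le
      exact hY.ne this
    have hYG : Nat.card Y ∣ Nat.card SL2 := Subgroup.card_subgroup_dvd_card Y
    rw [hcH] at hdvd hne
    rw [hcG] at hYG
    have hsmall : ∀ N : ℕ, N = 24 ∨ N = 48 ∨ N = 120 → Nat.card Y = N → False := by
      intro N hN hYN
      rw [hYN] at hdvd hne hYG
      rcases small_q (p ^ a) N hq3 hqodd hN hdvd with h3 | ⟨h5, hN5⟩
      · rw [hQ, h3] at hYG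
        rw [h3] at hne
        rcases hN with rfl | rfl | rfl
        · exact hne (by norm_num)
        · exact N1 r hrodd hYG
        · exact N2 r hrodd hYG
      · rw [h5, hN5] at hne
        exact hne (by norm_num)
    rcases over_subfield p hp2 ι a (a * r) ha hK hF Y hle with h | h
    · rcases h with h | h | h
      · exact (hsmall 24 (Or.inl rfl) h).elim
      · exact (hsmall 48 (Or.inr (Or.inl rfl)) h).elim
      · exact (hsmall 120 (Or.inr (Or.inr rfl)) h).elim
    · obtain ⟨b, m, ⟨c, rfl⟩, hbm, hb1, hcard⟩ := h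
      have hcm : c * m = r := by
        have : a * (c * m) = a * r := by rw [← hbm]; ring
        exact Nat.eq_of_mul_eq_mul_left (by omega) this
      have hc : c = 1 ∨ c = r := (Nat.dvd_prime hr).mp ⟨m, hcm.symm⟩
      rcases hc with rfl | rfl
      · -- same field
        exfalso
        rw [mul_one, ← pow_sq_sub] at hcard
        rcases hcard with h | h
        · rw [h, hQ] at hYG
          have hQodd : ((p ^ a) ^ r) % 2 = 1 := by
            rw [Nat.pow_mod, hqodd]; simp
          have hQsq : ((p ^ a) ^ r) ^ 2 % 2 = 1 := by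
            rw [Nat.pow_mod, hQodd]
          have hQ1 : 1 ≤ ((p ^ a) ^ r) ^ 2 := Nat.one_le_pow _ _ (Nat.pos_of_ne_zero (by
            intro h0; rw [h0] at hQodd; omega))
          obtain ⟨N, hN⟩ : ∃ N, (p ^ a) ^ r * (((p ^ a) ^ r) ^ 2 - 1) = N * 2 := by
            have : 2 ∣ ((p ^ a) ^ r) ^ 2 - 1 := by omega
            obtain ⟨t, ht⟩ := this
            exact ⟨(p ^ a) ^ r * t, by rw [ht]; ring⟩
          rw [hN, mul_comm N 2] at hYG
          have hdN : p ^ a * ((p ^ a) ^ 2 - 1) ∣ N := (Nat.mul_dvd_mul_iff_left (by norm_num)).mp hYG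
          exact Cfsg.Agent.S0805.arith (p ^ a) r N hqodd hrodd hdN hN.symm (by omega)
        · exact hne h
      · -- the whole group
        rw [← pow_sq_sub] at hcard
        rcases hcard with h | h
        · exfalso
          rw [h] at hYG
          have hpos : 0 < p ^ (a * c) * ((p ^ (a * c)) ^ 2 - 1) := by omega
          have := Nat.le_of_dvd hpos hYG
          omega
        · apply Subgroup.eq_top_of_card_eq
          rw [h, hcG]

end

/-- Let K and F be finite fields of odd characteristic with #F = (#K)^r for an odd prime r. Then PSL_2(F) has a maximal subgroup isomorphic to PSL_2(K). -/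
theorem result {F K : Type*} [Field F] [Fintype F] [Field K] [Fintype K] (q r : ℕ) (hK : Fintype.card K = q) (hF : Fintype.card F = q ^ r) (hq : Odd q) (hr : r.Prime) (hr2 : r ≠ 2) : ∃ H : Subgroup (Matrix.ProjectiveSpecialLinearGroup (Fin 2) F), IsCoatom H ∧ Nonempty (H ≃* Matrix.ProjectiveSpecialLinearGroup (Fin 2) K) := by
  classical
  obtain ⟨p, hpK⟩ := CharP.exists K
  haveI : Fact p.Prime := ⟨CharP.char_is_prime K p⟩
  haveI := hpK
  obtain ⟨n, hn⟩ := FiniteField.card K p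
  have hqa : q = p ^ (n : ℕ) := by rw [← hK]; exact hn.2
  have hp2 : p ≠ 2 := by
    rintro rfl
    rw [hqa] at hq
    have : Even (2 ^ (n : ℕ)) := (Nat.even_pow' n.pos.ne').mpr even_two
    exact (Nat.not_even_iff_odd.mpr hq) this
  obtain ⟨ι⟩ := Cfsg.Agent.S0805.exists_ringHom (F := F) (K := K) r hr.pos (by rw [hK, hF])
  haveI : CharP F p := charP_of_injective_ringHom ι.injective p
  have hF' : Fintype.card F = p ^ ((n : ℕ) * r) := by rw [hF, hqa, pow_mul]
  obtain ⟨hne, hmax⟩ := range_max p hp2 ι (n : ℕ) r n.pos (hK.trans hqa) hF' hr hr2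
  let ψ : SpecialLinearGroup (Fin 2) K →* Matrix.ProjectiveSpecialLinearGroup (Fin 2) F :=
    (QuotientGroup.mk' (Subgroup.center (SpecialLinearGroup (Fin 2) F))).comp (slMap ι)
  have hker : ψ.ker = Subgroup.center (SpecialLinearGroup (Fin 2) K) := by
    ext A
    rw [MonoidHom.mem_ker]
    simp only [ψ, MonoidHom.comp_apply, QuotientGroup.mk'_apply, QuotientGroup.eq_one_iff]
    rw [Cfsg.Agent.S0805.sl2_mem_center_iff, Cfsg.Agent.S0805.sl2_mem_center_iff]
    have e : ∀ i j, (slMap ι A).1 i j = ι (A.1 i j) := fun i j => rfl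
    rw [e, e, e, e]
    constructor
    · rintro ⟨h1, h2, h3⟩
      exact ⟨ι.injective (by rw [h1, map_zero]), ι.injective (by rw [h2, map_zero]), ι.injective h3⟩
    · rintro ⟨h1, h2, h3⟩
      rw [h1, h2, h3]; simp
  have hrange : ψ.range = (slMap ι).range.map
      (QuotientGroup.mk' (Subgroup.center (SpecialLinearGroup (Fin 2) F))) := by
    rw [MonoidHom.range_eq_map, MonoidHom.range_eq_map, Subgroup.map_map]
  refine ⟨ψ.range, ?_, ⟨?_⟩⟩
  · rw [hrange]
    exact isCoatom_map_mk' _ _ (center_le_range ι) hne hmax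
  · exact ((QuotientGroup.quotientMulEquivOfEq hker.symm).trans
      (QuotientGroup.quotientKerEquivRange ψ)).symm

end Cfsg.Agent.S5942
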