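import Mathlib
import Cfsg.Statements.S5941
import Cfsg.Agent.Lib.Helper41.DkSubfield
import Cfsg.Agent.Lib.Helper5.GLCard
import Cfsg.Agent.S0805
import Cfsg.Agent.S5942

set_option autoImplicit false
open Cfsg

namespace Cfsg.Agent.S5941

open Matrix Cfsg.Agent.Lib.Helper2.SL2 Cfsg.Agent.Lib.Helper14.Dk Cfsg.Agent.Lib.Helper41.DkOver
open Cfsg.Agent.Lib.Helper41.DkSubfield
open Cfsg.Agent.S5943 (slMap slMap_apply slMap_injective slMap_ux slMap_uy card_range_slMap)
open Cfsg.Agent.S0805 (phi phi_apply phi_ker scaled scaled_val mk_eq_of_smul ne_zero_of_sq)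

/-- maximality transfers along a surjective homomorphism -/
theorem isCoatom_of_comap {G G' : Type*} [Group G] [Group G'] (f : G →* G')
    (hf : Function.Surjective f) (H : Subgroup G') (hne : H.comap f ≠ ⊤)
    (hmax : ∀ Y, H.comap f < Y → Y = ⊤) : IsCoatom H := by
  constructor
  · intro h
    rw [h, Subgroup.comap_top] at hne
    exact hne rfl
  · intro M hlt
    have hle : H.comap f ≤ M.comap f := Subgroup.comap_mono hlt.le
    have hneq : H.comap f ≠ M.comap f := by
      intro h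
      exact hlt.ne (Subgroup.comap_injective hf h)
    have htop := hmax _ (lt_of_le_of_ne hle hneq)
    apply Subgroup.comap_injective hf
    rw [htop, Subgroup.comap_top]

theorem card_comap_mk' {G : Type*} [Group G] [Finite G] (N : Subgroup G) [N.Normal]
    (H : Subgroup (G ⧸ N)) :
    Nat.card (H.comap (QuotientGroup.mk' N)) = Nat.card N * Nat.card H := by
  have hsurj : Function.Surjective (QuotientGroup.mk' N) := QuotientGroup.mk'_surjective N
  have h1 : (H.comap (QuotientGroup.mk' N)).index = H.index :=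
    Subgroup.index_comap_of_surjective H hsurj
  have h2 := (H.comap (QuotientGroup.mk' N)).card_mul_index
  have h3 := H.card_mul_index
  have h4 := Subgroup.card_eq_card_quotient_mul_card_subgroup N
  rw [h1] at h2
  have hidx : 0 < H.index := Nat.pos_of_ne_zero (Subgroup.index_ne_zero_of_finite)
  have : Nat.card (H.comap (QuotientGroup.mk' N)) * H.index =
      (Nat.card N * Nat.card H) * H.index := by
    rw [h2, h4, ← h3]; ring
  exact Nat.eq_of_mul_eq_mul_right hidx this

theorem small_q2 (q N : ℕ) (hq : 3 ≤ q) (hqodd : q % 2 = 1) (hN : N = 24 ∨ N = 48 ∨ N = 120)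
    (h : 2 * (q * (q ^ 2 - 1)) ∣ N) : N = 2 * (q * (q ^ 2 - 1)) := by
  rcases Cfsg.Agent.S5942.small_q q N hq hqodd hN ((dvd_mul_left _ _).trans h) with h3 | ⟨h5, hN5⟩
  · subst h3
    rcases hN with rfl | rfl | rfl
    · norm_num at h
    · norm_num
    · norm_num at h
  · subst h5 hN5
    norm_num at h

section
variable {F K : Type*} [Field F] [Field K] [Fintype F] [Fintype K]

local notation "SL2" => Matrix.SpecialLinearGroup (Fin 2) F
local notation "PSL2" => Matrix.ProjectiveSpecialLinearGroup (Fin 2) F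

omit [Fintype F] [Fintype K] in
theorem range_le_comap (ι : K →+* F) (hsq : ∀ a : K, ∃ s : F, s * s = ι a) :
    (slMap ι).range ≤ (phi ι hsq).range.comap (QuotientGroup.mk' (Subgroup.center SL2)) := by
  rintro _ ⟨g, rfl⟩
  rw [Subgroup.mem_comap]
  refine ⟨SpecialLinearGroup.toGL g, ?_⟩
  rw [phi_apply, QuotientGroup.mk'_apply]
  symm
  apply mk_eq_of_smul _ _ (Classical.choose (hsq (SpecialLinearGroup.toGL g).1.det))⁻¹
  rw [scaled_val]
  rfl

theorem comap_max (p : ℕ) [Fact p.Prime] [CharP F p] (hp2 : p ≠ 2) (ι : K →+* F) (a : ℕ)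
    (ha : 1 ≤ a) (hK : Fintype.card K = p ^ a) (hF : Fintype.card F = p ^ (a * 2))
    (hsq : ∀ a : K, ∃ s : F, s * s = ι a) :
    (phi ι hsq).range.comap (QuotientGroup.mk' (Subgroup.center SL2)) ≠ ⊤ ∧
    ∀ Y : Subgroup SL2, (phi ι hsq).range.comap (QuotientGroup.mk' (Subgroup.center SL2)) < Y →
      Y = ⊤ := by
  classical
  have hpp : p.Prime := Fact.out
  have hp3 : 3 ≤ p := by
    have := hpp.two_le
    omega
  have hodd : Odd (Fintype.card F) := odd_card_of_char p hp2
  set Y₀ := (phi ι hsq).range.comap (QuotientGroup.mk' (Subgroup.center SL2)) with hY₀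
  have hcH : Nat.card (phi ι hsq).range = p ^ a * ((p ^ a) ^ 2 - 1) := by
    have e : (phi ι hsq).range ≃* Matrix.ProjGenLinGroup (Fin 2) K :=
      ((QuotientGroup.quotientMulEquivOfEq (phi_ker ι hsq).symm).trans
        (QuotientGroup.quotientKerEquivRange (phi ι hsq))).symm
    rw [Nat.card_congr e.toEquiv, Cfsg.Agent.Lib.Helper5.card_PGL_eq_card_SL,
      Cfsg.Agent.Lib.Helper38.card_SL2, hK]
  have hcY₀ : Nat.card Y₀ = 2 * (p ^ a * ((p ^ a) ^ 2 - 1)) := by
    rw [hY₀, card_comap_mk', Cfsg.Agent.S0805.card_center_sl2 hodd, hcH]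
  have hcG : Nat.card SL2 = p ^ (a * 2) * ((p ^ (a * 2)) ^ 2 - 1) := by
    rw [Cfsg.Agent.Lib.Helper38.card_SL2, hF]
  have hq3 : 3 ≤ p ^ a := by
    calc 3 ≤ p := hp3
      _ = p ^ 1 := (pow_one p).symm
      _ ≤ p ^ a := Nat.pow_le_pow_right (by omega) ha
  have hqodd : p ^ a % 2 = 1 := by
    have : Odd (p ^ a) := Odd.pow (hpp.odd_of_ne_two hp2)
    exact Nat.odd_iff.mp this
  have hQ : p ^ (a * 2) = (p ^ a) ^ 2 := pow_mul p a 2
  have hle0 : (slMap ι).range ≤ Y₀ := range_le_comap ι hsq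
  -- |Y₀| < |G|
  have hcardlt : 2 * (p ^ a * ((p ^ a) ^ 2 - 1)) < p ^ (a * 2) * ((p ^ (a * 2)) ^ 2 - 1) := by
    rw [hQ]
    set q := p ^ a with hq
    have h1 : 9 ≤ q ^ 2 := by nlinarith
    have h2 : q ^ 2 - 1 < (q ^ 2) ^ 2 - 1 := by
      have : q ^ 2 < (q ^ 2) ^ 2 := by nlinarith
      omega
    have h3 : 2 * q ≤ q ^ 2 := by nlinarith
    calc 2 * (q * (q ^ 2 - 1)) = (2 * q) * (q ^ 2 - 1) := by ring
      _ ≤ q ^ 2 * (q ^ 2 - 1) := Nat.mul_le_mul_right _ h3
      _ < q ^ 2 * ((q ^ 2) ^ 2 - 1) := Nat.mul_lt_mul_of_pos_left h2 (by omega)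
  constructor
  · intro htop
    rw [htop, Subgroup.card_top, hcG] at hcY₀
    omega
  · intro Y hY
    have hle : Y₀ ≤ Y := hY.le
    have hdvd : Nat.card Y₀ ∣ Nat.card Y := Subgroup.card_dvd_of_le hle
    have hne : Nat.card Y ≠ Nat.card Y₀ := by
      intro h
      have := Subgroup.eq_of_le_of_card_ge hle h.le
      exact hY.ne this
    have hYG : Nat.card Y ∣ Nat.card SL2 := Subgroup.card_subgroup_dvd_card Y
    rw [hcY₀] at hdvd hne
    rw [hcG] at hYG
    have hsmall : ∀ N : ℕ, N = 24 ∨ N = 48 ∨ N = 120 → Nat.card Y = N → False := by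
      intro N hN hYN
      rw [hYN] at hdvd hne
      exact hne (small_q2 (p ^ a) N hq3 hqodd hN hdvd)
    rcases over_subfield p hp2 ι a (a * 2) ha hK hF Y (hle0.trans hle) with h | h
    · rcases h with h | h | h
      · exact (hsmall 24 (Or.inl rfl) h).elim
      · exact (hsmall 48 (Or.inr (Or.inl rfl)) h).elim
      · exact (hsmall 120 (Or.inr (Or.inr rfl)) h).elim
    · obtain ⟨b, m, ⟨c, rfl⟩, hbm, hb1, hcard⟩ := h
      have hcm : c * m = 2 := by
        have : a * (c * m) = a * 2 := by rw [← hbm]; ring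
        exact Nat.eq_of_mul_eq_mul_left (by omega) this
      have hc : c = 1 ∨ c = 2 := (Nat.dvd_prime Nat.prime_two).mp ⟨m, hcm.symm⟩
      rcases hc with rfl | rfl
      · exfalso
        rw [mul_one, ← Cfsg.Agent.S5942.pow_sq_sub] at hcard
        rcases hcard with h | h
        · exact hne h
        · rw [h] at hdvd
          have hpos : 0 < p ^ a * ((p ^ a) ^ 2 - 1) := by
            have : 9 ≤ (p ^ a) ^ 2 := by nlinarith
            exact Nat.mul_pos (by omega) (by omega)
          have := Nat.le_of_dvd hpos hdvd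
          omega
      · rw [← Cfsg.Agent.S5942.pow_sq_sub] at hcard
        rcases hcard with h | h
        · exfalso
          rw [h] at hYG
          have hpos : 0 < p ^ (a * 2) * ((p ^ (a * 2)) ^ 2 - 1) := by omega
          have := Nat.le_of_dvd hpos hYG
          omega
        · apply Subgroup.eq_top_of_card_eq
          rw [h, hcG]

end

/-- Let K and F be finite fields of odd characteristic with #F = (#K)². Then PSL_2(F) has a maximal subgroup isomorphic to PGL_2(K). -/
theorem result {F K : Type*} [Field F] [Fintype F] [Field K] [Fintype K] (q : ℕ) (hK : Fintype.card K = q) (hF : Fintype.card F = q ^ 2) (hq : Odd q) : ∃ H : Subgroup (Matrix.ProjectiveSpecialLinearGroup (Fin 2) F), IsCoatom H ∧ Nonempty (H ≃* Matrix.ProjGenLinGroup (Fin 2) K) := by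
  classical
  obtain ⟨p, hpK⟩ := CharP.exists K
  haveI : Fact p.Prime := ⟨CharP.char_is_prime K p⟩
  haveI := hpK
  obtain ⟨n, hn⟩ := FiniteField.card K p
  have hqa : q = p ^ (n : ℕ) := by rw [← hK]; exact hn.2
  have hp2 : p ≠ 2 := by
    rintro rfl
    rw [hqa] at hq
    have : Even (2 ^ (n : ℕ)) := (Nat.even_pow' n.pos.ne').mpr even_two
    exact (Nat.not_even_iff_odd.mpr hq) this
  obtain ⟨ι⟩ := Cfsg.Agent.S0805.exists_ringHom (F := F) (K := K) 2 (by norm_num) (by rw [hK, hF])
  haveI : CharP F p := charP_of_injective_ringHom ι.injective p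
  have hF' : Fintype.card F = p ^ ((n : ℕ) * 2) := by rw [hF, hqa, pow_mul]
  have hFodd : Odd (Fintype.card F) := by rw [hF]; exact hq.pow
  have hsq : ∀ a : K, ∃ s : F, s * s = ι a := fun a =>
    Cfsg.Agent.S0805.exists_sqrt 2 even_two (by rw [hK, hF]) hFodd ι a
  obtain ⟨hne, hmax⟩ := comap_max p hp2 ι (n : ℕ) n.pos (hK.trans hqa) hF' hsq
  refine ⟨(phi ι hsq).range, ?_, ⟨?_⟩⟩
  · exact isCoatom_of_comap _ (QuotientGroup.mk'_surjective _) _ hne hmax
  · exact ((QuotientGroup.quotientMulEquivOfEq (phi_ker ι hsq).symm).trans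
      (QuotientGroup.quotientKerEquivRange (phi ι hsq))).symm

end Cfsg.Agent.S5941
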