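import Cfsg.Statements.S5946

set_option autoImplicit false
open Cfsg

namespace Cfsg.Agent.S5946

/-- Let F ⊆ K be finite fields with [K : F] = n ≥ 2 and regard K as an n-dimensional F-vector space. The Singer group M ≤ GL_F(K) of multiplications by the non-zero elements of K is self-centralizing: every F-linear automorphism of K commuting with all of M lies in M. -/
theorem result {F K : Type*} [Field F] [Fintype F] [Field K] [Fintype K] [Algebra F K] (n : ℕ) (hn : 2 ≤ n) (hdim : Module.finrank F K = n) :
    Subgroup.centralizer (((Units.map ((Algebra.lmul F K : K →ₐ[F] Module.End F K) : K →* Module.End F K)).range : Subgroup (Module.End F K)ˣ) : Set (Module.End F K)ˣ) = (Units.map ((Algebra.lmul F K : K →ₐ[F] Module.End F K) : K →* Module.End F K)).range := by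
  apply le_antisymm
  · intro g hg
    rw [Subgroup.mem_centralizer_iff] at hg
    -- g commutes with every multiplication by a unit
    have hcomm : ∀ a : K, a ≠ 0 → ∀ v : K, (g : Module.End F K) (a * v) = a * (g : Module.End F K) v := by
      intro a ha v
      have h := hg (Units.map ((Algebra.lmul F K : K →ₐ[F] Module.End F K) : K →* Module.End F K) (Units.mk0 a ha))
        ⟨Units.mk0 a ha, rfl⟩
      have h2 := congrArg (fun u : (Module.End F K)ˣ => (u : Module.End F K) v) h
      simp only [Units.val_mul, Module.End.mul_apply] at h2
      simpa using h2.symm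
    have hg1 : (g : Module.End F K) 1 ≠ 0 := by
      intro h0
      have : (g⁻¹ : (Module.End F K)ˣ).val ((g : Module.End F K) 1) = 1 := by
        rw [← Module.End.mul_apply, ← Units.val_mul, inv_mul_cancel]
        simp
      rw [h0, map_zero] at this
      exact zero_ne_one this
    refine ⟨Units.mk0 _ hg1, ?_⟩
    apply Units.ext
    apply LinearMap.ext
    intro v
    by_cases hv : v = 0
    · subst hv; simp
    · have := hcomm v hv 1
      simp only [mul_one] at this
      simp [this, mul_comm]
  · rintro g ⟨a, rfl⟩
    rw [Subgroup.mem_centralizer_iff]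
    rintro h ⟨b, rfl⟩
    rw [← map_mul, ← map_mul, mul_comm]

end Cfsg.Agent.S5946
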