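import Cfsg.Statements.S5947
import Cfsg.Agent.Lib.Helper2.Singer4
import Cfsg.Agent.S2904

set_option autoImplicit false
open Cfsg

namespace Cfsg.Agent.S5947

/-- Let F ⊆ K be finite fields with |F| = q and [K : F] = n ≥ 2, regard K as an n-dimensional F-vector space, and let M ≤ GL_F(K) be the Singer group of multiplications by non-zero elements of K (cyclic of order q^n − 1). Assume (n, q) ≠ (6, 2), and that it is not the case that n = 2 with q a prime such that q + 1 is a power of 2. Then every abelian subgroup of GL_F(K) of order q^n − 1 is conjugate to M. -/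
theorem result {F K : Type*} [Field F] [Fintype F] [Field K] [Fintype K] [Algebra F K] (n : ℕ) (hn : 2 ≤ n) (hdim : Module.finrank F K = n)
    (hex1 : ¬ (n = 6 ∧ Fintype.card F = 2))
    (hex2 : ¬ (n = 2 ∧ (Fintype.card F).Prime ∧ ∃ a : ℕ, Fintype.card F + 1 = 2 ^ a))
    (U : Subgroup (Module.End F K)ˣ) (hU : IsMulCommutative U) (hcard : Nat.card U = Fintype.card K - 1) :
    ∃ g : (Module.End F K)ˣ, U.map (MulAut.conj g).toMonoidHom = (Units.map ((Algebra.lmul F K : K →ₐ[F] Module.End F K) : K →* Module.End F K)).range := by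
  classical
  have hq : 1 < Fintype.card F := Fintype.one_lt_card
  have hKcard : Fintype.card K = Fintype.card F ^ n := by
    rw [← hdim]; exact Module.card_eq_pow_finrank
  have hKpos : 0 < Fintype.card K := Fintype.card_pos
  have hcard' : Nat.card U + 1 = Nat.card K := by
    rw [hcard, Nat.card_eq_fintype_card]; omega
  haveI : Finite U := Nat.finite_of_card_ne_zero (by
    rw [hcard, hKcard]
    have : 2 ^ 2 ≤ Fintype.card F ^ n := by
      calc 2 ^ 2 ≤ Fintype.card F ^ 2 := Nat.pow_le_pow_left hq 2
        _ ≤ Fintype.card F ^ n := Nat.pow_le_pow_right (by omega) hn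
    omega)
  -- a Zsigmondy prime
  obtain ⟨r, hr, hrn, hprim⟩ := Cfsg.Agent.S2904.result (Fintype.card F) n hq (by omega)
    (fun h => hex1 ⟨h.2, h.1⟩)
    (fun h => hex2 ⟨h.1, by
      obtain ⟨m, hm⟩ := h.2
      exact Cfsg.Agent.Lib.Helper2.Singer.prime_of_primePow_succ_eq_two_pow
        (FiniteField.isPrimePow_card F) hm, h.2⟩)
  haveI : Fact r.Prime := ⟨hr⟩
  -- an element of order `r`
  have hrU : r ∣ Nat.card U := by rw [hcard, hKcard]; exact hrn
  obtain ⟨x, hx⟩ := exists_prime_orderOf_dvd_card' r hrU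
  have hxr : (x : (Module.End F K)ˣ) ^ r = 1 := by
    have := pow_orderOf_eq_one x
    rw [hx] at this
    exact congrArg Subtype.val this
  have hx1 : (x : (Module.End F K)ˣ) ≠ 1 := by
    intro h1
    have : x = 1 := Subtype.ext h1
    rw [this, orderOf_one] at hx
    exact hr.one_lt.ne hx
  have hirr := Cfsg.Agent.Lib.Helper2.Singer.eq_top_of_invariant (x : (Module.End F K)ˣ) r hxr hx1
    (by rw [hdim]; omega) (by rw [hdim]; exact hrn) (by rw [hdim]; exact hprim)
  exact Cfsg.Agent.Lib.Helper2.Singer.conj_singer U hU x x.2 hirr hcard'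

end Cfsg.Agent.S5947
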