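import Cfsg.Statements.S5949
import Cfsg.Agent.Lib.Helper2.BGMain

set_option autoImplicit false
open scoped MatrixGroups
open Cfsg

namespace Cfsg.Agent.S5949

/-- Elements of prime order of PSL_n(q) with no fixed `m`-space. Here `T = PSL_n(F)` for a field `F` with `q = p^f` elements (`n ≥ 2`, `(n, q) ≠ (2, 2), (2, 3)`); an element of `T` of prime order `r` is represented by a matrix `x` of determinant 1 with `x^r` scalar and `x` not scalar; `i` denotes the multiplicative order of `q` modulo `r` (when `r ≠ p`), and `(a)_r` the `r`-part of `a`. Let `1 ≤ m ≤ n/2` and let `r` be a prime dividing the number of `m`-dimensional subspaces of `F^n`. Then every element of `T` of order `r` fixes some `m`-dimensional subspace (the action on `m`-spaces is `r`-elusive) if and only if `r ≠ p` and either (i) `i = 1` and (`r ∣ m`, or `(q−1)_r ≥ (n)_r` where in addition `q ≡ 1 (mod 4)` is required when `r = 2` and `n` is even), or (ii) `2 ≤ i ≤ m` and `n mod i ≥ m mod i`. -/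
theorem result {F : Type*} [Field F] [Fintype F] {p : ℕ} [Fact p.Prime] [CharP F p] {q : ℕ} (hq : Fintype.card F = q)
    (n m : ℕ) (hn : 2 ≤ n) (hT : (n, q) ≠ (2, 2) ∧ (n, q) ≠ (2, 3)) (hm : 1 ≤ m) (hmn : 2 * m ≤ n)
    (r : ℕ) [Fact r.Prime] (hrΩ : r ∣ Nat.card {W : Submodule F (Fin n → F) // Module.finrank F ↥W = m}) :
    (∀ x : Matrix.SpecialLinearGroup (Fin n) F,
      (∃ c : F, ((x ^ r : Matrix.SpecialLinearGroup (Fin n) F) : Matrix (Fin n) (Fin n) F) = c • (1 : Matrix (Fin n) (Fin n) F)) →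
      (∀ c : F, (x : Matrix (Fin n) (Fin n) F) ≠ c • (1 : Matrix (Fin n) (Fin n) F)) →
      ∃ W : Submodule F (Fin n → F), Module.finrank F ↥W = m ∧ W.map (Matrix.toLin' (x : Matrix (Fin n) (Fin n) F)) ≤ W) ↔
    (r ≠ p ∧
      ((orderOf (q : ZMod r) = 1 ∧ (r ∣ m ∨ (padicValNat r n ≤ padicValNat r (q - 1) ∧ (r = 2 → Even n → q % 4 = 1)))) ∨
       (2 ≤ orderOf (q : ZMod r) ∧ orderOf (q : ZMod r) ≤ m ∧ m % orderOf (q : ZMod r) ≤ n % orderOf (q : ZMod r)))) := by
  classical
  subst hq
  have hfr : Module.finrank F (Fin n → F) = n := Module.finrank_fin_fun F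
  have hmle : m ≤ n := by omega
  have hn0 : 0 < n := by omega
  constructor
  · intro hall
    have hrp : r ≠ p := by
      rintro rfl
      exact Cfsg.Agent.Lib.Helper2.BG.not_dvd_card_subspaces (F := F) (V := Fin n → F) (p := r) m
        (by rw [hfr]; exact hmle) hrΩ
    have hipos := Cfsg.Agent.Lib.Helper2.BG.orderOf_pos_of_ne (F := F) (p := p) (r := r) hrp
    -- every element with `x^r` scalar has an invariant `m`-space
    have key : ∀ x : Matrix.SpecialLinearGroup (Fin n) F,
        (∃ c : F, ((x ^ r : Matrix.SpecialLinearGroup (Fin n) F) : Matrix (Fin n) (Fin n) F) =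
          c • (1 : Matrix (Fin n) (Fin n) F)) →
        ∃ W : Submodule F (Fin n → F), Module.finrank F ↥W = m ∧
          W.map (Matrix.toLin' (x : Matrix (Fin n) (Fin n) F)) ≤ W := by
      intro x hx
      by_cases hs : ∃ c' : F, (x : Matrix (Fin n) (Fin n) F) = c' • (1 : Matrix (Fin n) (Fin n) F)
      · obtain ⟨c', hc'⟩ := hs
        obtain ⟨W, hW⟩ := Cfsg.Agent.Lib.Helper2.BG.exists_finrank_eq' (F := F) (V := Fin n → F) m
          (by rw [hfr]; exact hmle)
        refine ⟨W, hW, ?_⟩
        rw [hc']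
        rintro _ ⟨v, hv, rfl⟩
        rw [map_smul, Matrix.toLin'_one, LinearMap.smul_apply, LinearMap.id_apply]
        exact W.smul_mem _ hv
      · push Not at hs
        exact hall x hx hs
    refine ⟨hrp, ?_⟩
    rcases Nat.lt_or_ge (orderOf ((Fintype.card F : ℕ) : ZMod r)) 2 with hi | hi
    · -- i = 1
      have hi1 : orderOf ((Fintype.card F : ℕ) : ZMod r) = 1 := by omega
      left
      refine ⟨hi1, ?_⟩
      by_contra hcon
      push Not at hcon
      obtain ⟨hrm, hcon2⟩ := hcon
      have hrq := (Cfsg.Agent.Lib.Helper2.BG.orderOf_eq_one_iff_dvd (r := r) (Fintype.card F)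
        Fintype.card_pos).mp hi1
      obtain ⟨x, hx1, hx2⟩ := Cfsg.Agent.Lib.Helper2.BG.exists_derangement_B' (F := F) (n := n)
        (p := p) hrp hrq hn0 (by
          rintro ⟨h1, h2⟩
          obtain ⟨h3, h4, h5⟩ := hcon2 h1
          exact h5 (h2 h3 h4))
      obtain ⟨W, hWm, hW⟩ := key x hx1
      exact hrm (hWm ▸ hx2 W hW)
    · -- i ≥ 2
      right
      set i := orderOf ((Fintype.card F : ℕ) : ZMod r) with hidef
      obtain ⟨x, hx1, τ, _, hx2⟩ := Cfsg.Agent.Lib.Helper2.BG.exists_derangement_A (F := F) (p := p)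
        hrp hi n (n / i) (n % i) (Nat.div_add_mod' n i).symm
      obtain ⟨W, hWm, hW⟩ := key x ⟨1, by rw [hx1, one_smul]⟩
      obtain ⟨ht, j, hj⟩ := hx2 W hW
      rw [hWm, ← hidef] at hj
      have hni : n % i < i := Nat.mod_lt _ hipos
      refine ⟨hi, ?_, ?_⟩
      · by_contra hlt
        push Not at hlt
        obtain ⟨j₀, hj₀, hdvd⟩ := Cfsg.Agent.Lib.Helper2.BG.exists_dvd_of_dvd_card_subspaces
          (F := F) (V := Fin n → F) (Fact.out : r.Prime) m (by rw [hfr]; exact hmle) hrΩ
        rw [hfr] at hdvd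
        have hdvd' := (Cfsg.Agent.Lib.Helper2.BG.orderOf_dvd_iff_dvd_pow_sub_one (r := r)
          (Fintype.card F) Fintype.card_pos (n - j₀)).mpr hdvd
        obtain ⟨s, hs⟩ := hdvd'
        rw [← hidef] at hs
        have hj0 : j = 0 := by
          by_contra hne
          have : i ≤ j * i := Nat.le_mul_of_pos_left i (Nat.pos_of_ne_zero hne)
          omega
        have hnmod : n % i = j₀ := by
          have : n = j₀ + i * s := by omega
          rw [this, Nat.add_mul_mod_self_left, Nat.mod_eq_of_lt (by omega)]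
        rw [hj0] at hj
        omega
      · have : m % i = τ W := by
          rw [hj, Nat.add_mul_mod_self_right, Nat.mod_eq_of_lt (by omega)]
        omega
  · rintro ⟨hrp, hcond⟩ x ⟨c, hx⟩ _
    exact Cfsg.Agent.Lib.Helper2.BG.exists_inv_SL (p := p) hrp hn0 x c hx m hmle (by
      rcases hcond with h | ⟨h1, _, h3⟩
      · exact Or.inl h
      · exact Or.inr ⟨h1, h3⟩)

end Cfsg.Agent.S5949
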