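import Cfsg.Statements.S5951
import Cfsg.Agent.Lib.Helper2.BGMain

set_option autoImplicit false
open scoped MatrixGroups
open Cfsg

namespace Cfsg.Agent.S5951

/-- Elements of prime order of PSL_n(q) fixing no pair of subspaces `U < W` with `dim U = m`, `dim W = n − m`. Here `T = PSL_n(F)` for a field `F` with `q = p^f` elements (`n ≥ 2`, `(n, q) ≠ (2, 2), (2, 3)`); an element of `T` of prime order `r` is represented by a matrix `x` of determinant 1 with `x^r` scalar and `x` not scalar; `i` denotes the multiplicative order of `q` modulo `r` (when `r ≠ p`), and `(a)_r` the `r`-part of `a`. Let `1 ≤ m < n/2` and let `r` be a prime dividing the number of such pairs. Then every element of `T` of order `r` fixes such a pair (both `U` and `W`) if and only if `r ≠ p` and either (i) `i = 1` and (`r ∣ m`, or `(q−1)_r ≥ (n)_r` with `q ≡ 1 (mod 4)` required when `r = 2` and `n` is even), or (ii) `2 ≤ i ≤ m` and `n mod i ≥ 2 (m mod i)`. -/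
theorem result {F : Type*} [Field F] [Fintype F] {p : ℕ} [Fact p.Prime] [CharP F p] {q : ℕ} (hq : Fintype.card F = q)
    (n m : ℕ) (hn : 2 ≤ n) (hT : (n, q) ≠ (2, 2) ∧ (n, q) ≠ (2, 3)) (hm : 1 ≤ m) (hmn : 2 * m < n)
    (r : ℕ) [Fact r.Prime]
    (hrΩ : r ∣ Nat.card {P : Submodule F (Fin n → F) × Submodule F (Fin n → F) //
        P.1 ≤ P.2 ∧ Module.finrank F ↥P.1 = m ∧ Module.finrank F ↥P.2 = n - m}) :
    (∀ x : Matrix.SpecialLinearGroup (Fin n) F,
      (∃ c : F, ((x ^ r : Matrix.SpecialLinearGroup (Fin n) F) : Matrix (Fin n) (Fin n) F) = c • (1 : Matrix (Fin n) (Fin n) F)) →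
      (∀ c : F, (x : Matrix (Fin n) (Fin n) F) ≠ c • (1 : Matrix (Fin n) (Fin n) F)) →
      ∃ U W : Submodule F (Fin n → F), U ≤ W ∧ Module.finrank F ↥U = m ∧ Module.finrank F ↥W = n - m ∧
        U.map (Matrix.toLin' (x : Matrix (Fin n) (Fin n) F)) ≤ U ∧ W.map (Matrix.toLin' (x : Matrix (Fin n) (Fin n) F)) ≤ W) ↔
    (r ≠ p ∧
      ((orderOf (q : ZMod r) = 1 ∧ (r ∣ m ∨ (padicValNat r n ≤ padicValNat r (q - 1) ∧ (r = 2 → Even n → q % 4 = 1)))) ∨
       (2 ≤ orderOf (q : ZMod r) ∧ orderOf (q : ZMod r) ≤ m ∧ 2 * (m % orderOf (q : ZMod r)) ≤ n % orderOf (q : ZMod r)))) := by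
  classical
  subst hq
  have hfr : Module.finrank F (Fin n → F) = n := Module.finrank_fin_fun F
  have hmle : m ≤ n := by omega
  have hn0 : 0 < n := by omega
  constructor
  · intro hall
    have hrp : r ≠ p := by
      rintro rfl
      exact Cfsg.Agent.Lib.Helper2.BG.not_dvd_card_flags (F := F) (V := Fin n → F) (p := r) m (n - m)
        (by omega) (by rw [hfr]; omega) hrΩ
    have hipos := Cfsg.Agent.Lib.Helper2.BG.orderOf_pos_of_ne (F := F) (p := p) (r := r) hrp
    -- every element with `x^r` scalar has an invariant flag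
    have key : ∀ x : Matrix.SpecialLinearGroup (Fin n) F,
        (∃ c : F, ((x ^ r : Matrix.SpecialLinearGroup (Fin n) F) : Matrix (Fin n) (Fin n) F) =
          c • (1 : Matrix (Fin n) (Fin n) F)) →
        ∃ U W : Submodule F (Fin n → F), U ≤ W ∧ Module.finrank F ↥U = m ∧
          Module.finrank F ↥W = n - m ∧
          U.map (Matrix.toLin' (x : Matrix (Fin n) (Fin n) F)) ≤ U ∧
          W.map (Matrix.toLin' (x : Matrix (Fin n) (Fin n) F)) ≤ W := by
      intro x hx
      by_cases hs : ∃ c' : F, (x : Matrix (Fin n) (Fin n) F) = c' • (1 : Matrix (Fin n) (Fin n) F)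
      · obtain ⟨c', hc'⟩ := hs
        have hsc : ∀ Y : Submodule F (Fin n → F),
            Y.map (Matrix.toLin' (x : Matrix (Fin n) (Fin n) F)) ≤ Y := by
          intro Y
          rw [hc']
          rintro _ ⟨v, hv, rfl⟩
          rw [map_smul, Matrix.toLin'_one, LinearMap.smul_apply, LinearMap.id_apply]
          exact Y.smul_mem _ hv
        obtain ⟨W, hW⟩ := Cfsg.Agent.Lib.Helper2.BG.exists_finrank_eq' (F := F) (V := Fin n → F)
          (n - m) (by rw [hfr]; omega)
        obtain ⟨U', hU'⟩ := Cfsg.Agent.Lib.Helper2.BG.exists_finrank_eq' (F := F) (V := W) m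
          (by rw [hW]; omega)
        refine ⟨U'.map W.subtype, W, Submodule.map_subtype_le _ _, ?_, hW, hsc _, hsc _⟩
        rw [← (Submodule.equivSubtypeMap W U').finrank_eq]
        exact hU'
      · push Not at hs
        exact hall x hx hs
    refine ⟨hrp, ?_⟩
    rcases Nat.lt_or_ge (orderOf ((Fintype.card F : ℕ) : ZMod r)) 2 with hi | hi
    · -- i = 1
      have hi1 : orderOf ((Fintype.card F : ℕ) : ZMod r) = 1 := by omega
      left
      refine ⟨hi1, ?_⟩
      by_contra hcon
      push Not at hcon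
      obtain ⟨hrm, hcon2⟩ := hcon
      have hrq := (Cfsg.Agent.Lib.Helper2.BG.orderOf_eq_one_iff_dvd (r := r) (Fintype.card F)
        Fintype.card_pos).mp hi1
      obtain ⟨x, hx1, hx2⟩ := Cfsg.Agent.Lib.Helper2.BG.exists_derangement_B' (F := F) (n := n)
        (p := p) hrp hrq hn0 (by
          rintro ⟨h1, h2⟩
          obtain ⟨h3, h4, h5⟩ := hcon2 h1
          exact h5 (h2 h3 h4))
      obtain ⟨U, W, _, hUm, _, hU, _⟩ := key x hx1
      exact hrm (hUm ▸ hx2 U hU)
    · -- i ≥ 2
      right
      set i := orderOf ((Fintype.card F : ℕ) : ZMod r) with hidef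
      obtain ⟨x, hx1, τ, hτ, hx2⟩ := Cfsg.Agent.Lib.Helper2.BG.exists_derangement_A (F := F) (p := p)
        hrp hi n (n / i) (n % i) (Nat.div_add_mod' n i).symm
      obtain ⟨U, W, hUW, hUm, hWm, hU, hW⟩ := key x ⟨1, by rw [hx1, one_smul]⟩
      obtain ⟨htU, j, hj⟩ := hx2 U hU
      obtain ⟨htW, j', hj'⟩ := hx2 W hW
      rw [hUm, ← hidef] at hj
      rw [hWm, ← hidef] at hj'
      have hτUW := hτ U W hUW
      have hni : n % i < i := Nat.mod_lt _ hipos
      have hnsum : n = (τ U + τ W) + (j + j') * i := by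
        rw [Nat.add_mul]; omega
      have hnmod : n % i = (τ U + τ W) % i := by
        conv_lhs => rw [hnsum, Nat.add_mul_mod_self_right]
      have hsmall : τ U + τ W < i := by
        by_contra hge
        push Not at hge
        have h1 : (τ U + τ W) % i = τ U + τ W - i := by
          rw [Nat.mod_eq_sub_mod hge, Nat.mod_eq_of_lt (by omega)]
        omega
      rw [Nat.mod_eq_of_lt hsmall] at hnmod
      refine ⟨hi, ?_, ?_⟩
      · by_contra hlt
        push Not at hlt
        obtain ⟨j₀, hj₀, hdvd⟩ := Cfsg.Agent.Lib.Helper2.BG.exists_dvd_of_dvd_card_flags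
          (F := F) (V := Fin n → F) (Fact.out : r.Prime) m (by rw [hfr]; omega)
          (by rw [hfr]; exact hrΩ)
        rw [hfr] at hdvd
        have hdvd' := (Cfsg.Agent.Lib.Helper2.BG.orderOf_dvd_iff_dvd_pow_sub_one (r := r)
          (Fintype.card F) Fintype.card_pos (n - j₀)).mpr hdvd
        obtain ⟨s, hs⟩ := hdvd'
        rw [← hidef] at hs
        have hj0 : j = 0 := by
          by_contra hne
          have : i ≤ j * i := Nat.le_mul_of_pos_left i (Nat.pos_of_ne_zero hne)
          omega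
        rw [hj0] at hj
        have hnmod' : n % i = j₀ % i := by
          have : n = j₀ + i * s := by omega
          rw [this, Nat.add_mul_mod_self_left]
        have := Nat.mod_le j₀ i
        omega
      · have : m % i = τ U := by
          rw [hj, Nat.add_mul_mod_self_right, Nat.mod_eq_of_lt (by omega)]
        omega
  · rintro ⟨hrp, hcond⟩ x ⟨c, hx⟩ _
    exact Cfsg.Agent.Lib.Helper2.BG.exists_flag_SL (p := p) hrp hn0 x c hx m (by omega) (by
      rcases hcond with h | ⟨h1, _, h3⟩
      · exact Or.inl h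
      · exact Or.inr ⟨h1, h3⟩)

end Cfsg.Agent.S5951
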