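import Cfsg.Statements.S5952

set_option autoImplicit false
open Cfsg

namespace Cfsg.Agent.S5952

section aux

variable {F V : Type*} [Field F] [AddCommGroup V] [Module F V] [FiniteDimensional F V]

lemma exists_le_finrank_eq (M : Submodule F V) (k : ℕ) (hk : k ≤ Module.finrank F M) :
    ∃ N : Submodule F V, N ≤ M ∧ Module.finrank F N = k := by
  let b := Module.finBasis F M
  let v : Fin k → V := fun i => (b (Fin.castLE hk i) : V)
  have hli : LinearIndependent F v := by
    have h1 : LinearIndependent F (fun i : Fin (Module.finrank F M) => (b i : V)) :=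
      b.linearIndependent.map' M.subtype (Submodule.ker_subtype M)
    exact h1.comp _ (Fin.castLE_injective hk)
  refine ⟨Submodule.span F (Set.range v), ?_, ?_⟩
  · rw [Submodule.span_le]
    rintro _ ⟨i, rfl⟩
    exact (b _).2
  · rw [finrank_span_eq_card hli]
    simp

lemma finrank_sup_of_disjoint (A B : Submodule F V) (h : Disjoint A B) :
    Module.finrank F ↥(A ⊔ B) = Module.finrank F A + Module.finrank F B := by
  have := Submodule.finrank_sup_add_finrank_inf_eq A B
  rw [disjoint_iff.mp h, finrank_bot] at this
  omega

lemma key (f : V →ₗ[F] V) {ι : Type*} [DecidableEq ι] (U : ι → Submodule F V) (a : ℕ)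
    (hind : iSupIndep U)
    (hUinv : ∀ j, (U j).map f ≤ U j) (hUdim : ∀ j, Module.finrank F (U j) = a)
    (hUirr : ∀ j, ∀ W : Submodule F V, W ≤ U j → W.map f ≤ W → W = ⊥ ∨ W = U j)
    (T : Finset ι) :
    Module.finrank F ↥(⨆ j ∈ T, U j) = T.card * a ∧
      ((⨆ j ∈ T, U j).map f ≤ ⨆ j ∈ T, U j) ∧
      ∀ W : Submodule F V, W ≤ ⨆ j ∈ T, U j → W.map f ≤ W → a ∣ Module.finrank F W := by
  induction T using Finset.induction_on with
  | empty =>
    refine ⟨by simp, by simp, ?_⟩
    intro W hW _
    have : W = ⊥ := by simpa using hW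
    subst this
    simp
  | insert j T' hj ih =>
    obtain ⟨ih1, ih2, ih3⟩ := ih
    rw [Finset.iSup_insert]
    set A := U j with hA
    set B := ⨆ i ∈ T', U i with hB
    have hdisj : Disjoint A B := by
      refine (hind j).mono_right ?_
      apply biSup_mono
      intro i hi
      rintro rfl
      exact hj hi
    refine ⟨?_, ?_, ?_⟩
    · rw [finrank_sup_of_disjoint A B hdisj, hUdim, ih1, Finset.card_insert_of_notMem hj]
      ring
    · rw [Submodule.map_sup]
      exact sup_le_sup (hUinv j) ih2
    · intro W hW hWinv
      set P := (W ⊔ B) ⊓ A with hP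
      have hPinv : P.map f ≤ P := by
        refine (Submodule.map_inf_le f).trans (inf_le_inf ?_ (hUinv j))
        rw [Submodule.map_sup]
        exact sup_le_sup hWinv ih2
      have hWBinv : (W ⊓ B).map f ≤ W ⊓ B :=
        (Submodule.map_inf_le f).trans (inf_le_inf hWinv ih2)
      have h1 := Submodule.finrank_sup_add_finrank_inf_eq W B
      have hmod : W ⊔ B = B ⊔ P := by
        have : (B ⊔ A) ⊓ (W ⊔ B) = B ⊔ A ⊓ (W ⊔ B) := sup_inf_assoc_of_le A le_sup_right
        rw [hP, inf_comm (W ⊔ B) A, ← this]
        refine (inf_eq_right.mpr ?_).symm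
        rw [sup_comm B A]
        exact sup_le hW le_sup_right
      have hdisj2 : Disjoint B P := hdisj.symm.mono_right inf_le_right
      have h2 := finrank_sup_of_disjoint B P hdisj2
      rw [← hmod] at h2
      have h3 : Module.finrank F W = Module.finrank F P + Module.finrank F ↥(W ⊓ B) := by omega
      rw [h3]
      apply Dvd.dvd.add
      · rcases hUirr j P inf_le_right hPinv with h | h
        · rw [h]; simp
        · rw [h, hUdim]
      · exact ih3 _ inf_le_right hWBinv

end aux

/-- Which dimensions of invariant subspaces a semisimple linear map has. Let `V` be a finite-dimensional vector space over a field `F` and `f` an invertible semisimple linear map of `V`. Suppose `V` is the internal direct sum of the fixed space `C_V(f)` (the eigenspace for 1) and subspaces `U_1, …, U_s`, each `f`-invariant of dimension `a ≥ 1` on which `f` acts irreducibly (no `f`-invariant subspaces other than 0 and `U_j`). Let `0 < m < dim V` and `ℓ = m mod a`. Then `f` leaves some `m`-dimensional subspace invariant if and only if `dim C_V(f) ≥ m`, or `a ≤ m` and `dim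 C_V(f) ≥ ℓ`. -/
theorem result {F V : Type*} [Field F] [AddCommGroup V] [Module F V]
    [FiniteDimensional F V] (f : V →ₗ[F] V) (hf : Function.Bijective f) (hss : Module.End.IsSemisimple f)
    {s a : ℕ} (ha : 1 ≤ a) (U : Fin s → Submodule F V)
    (hUinv : ∀ j, (U j).map f ≤ U j) (hUdim : ∀ j, Module.finrank F ↥(U j) = a)
    (hUirr : ∀ j, ∀ W : Submodule F V, W ≤ U j → W.map f ≤ W → W = ⊥ ∨ W = U j)
    (hdec : DirectSum.IsInternal (fun o : Option (Fin s) => o.elim (Module.End.eigenspace f 1) U))
    (m : ℕ) (hm : 0 < m) (hmV : m < Module.finrank F V) :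
    (∃ W : Submodule F V, Module.finrank F ↥W = m ∧ W.map f ≤ W) ↔
    (m ≤ Module.finrank F ↥(Module.End.eigenspace f 1) ∨
      (a ≤ m ∧ m % a ≤ Module.finrank F ↥(Module.End.eigenspace f 1))) := by
  classical
  set C := Module.End.eigenspace f 1 with hC
  have hindO := hdec.submodule_iSupIndep
  have htop := hdec.submodule_iSup_eq_top
  have hindU : iSupIndep U := hindO.comp (Option.some_injective _)
  set Utot := ⨆ j, U j with hUtot
  have hUtot' : Utot = ⨆ j ∈ (Finset.univ : Finset (Fin s)), U j := by simp [hUtot]
  have hCU : Disjoint C Utot := by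
    refine (hindO none).mono_right ?_
    rw [hUtot]
    apply iSup_le
    intro j
    exact le_iSup₂_of_le (some j) (by simp) le_rfl
  have hsup : C ⊔ Utot = ⊤ := by
    rw [← htop, iSup_option]
    rfl
  have hkeyall := key f U a hindU hUinv hUdim hUirr
  obtain ⟨hk1, hk2, hk3⟩ := hkeyall Finset.univ
  rw [← hUtot'] at hk1 hk2 hk3
  simp only [Finset.card_univ, Fintype.card_fin] at hk1
  have hCfix : ∀ x ∈ C, f x = x := by
    intro x hx
    have := Module.End.mem_eigenspace_iff.mp hx
    simpa using this
  have hinvC : ∀ N : Submodule F V, N ≤ C → N.map f ≤ N := by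
    intro N hN
    rw [Submodule.map_le_iff_le_comap]
    intro x hx
    rw [Submodule.mem_comap, hCfix x (hN hx)]
    exact hx
  have hdimV : Module.finrank F V = Module.finrank F C + s * a := by
    have := finrank_sup_of_disjoint C Utot hCU
    rw [hsup, finrank_top, hk1] at this
    exact this
  constructor
  · rintro ⟨W, hWm, hWinv⟩
    -- splitting
    have hWinv' : ∀ x ∈ W, f x ∈ W := fun x hx => hWinv (Submodule.mem_map_of_mem hx)
    have hUinv' : ∀ x ∈ Utot, f x ∈ Utot := fun x hx => hk2 (Submodule.mem_map_of_mem hx)
    set Z := W ⊓ Utot with hZ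
    let g : V →ₗ[F] V := f - 1
    have hgZ : ∀ x ∈ Z, g x ∈ Z := by
      intro x hx
      have h1 : x ∈ W := hx.1
      have h2 : x ∈ Utot := hx.2
      exact ⟨W.sub_mem (hWinv' x h1) h1, Utot.sub_mem (hUinv' x h2) h2⟩
    have hker : ∀ x ∈ Utot, g x = 0 → x = 0 := by
      intro x hx hgx
      have hfx : f x = x := by
        have : f x - x = 0 := hgx
        exact sub_eq_zero.mp this
      have hxC : x ∈ C := by
        rw [hC, Module.End.mem_eigenspace_iff]
        simpa using hfx
      exact (Submodule.disjoint_def.mp hCU) x hxC hx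
    have hinj : Function.Injective (g.restrict hgZ) := by
      rw [injective_iff_map_eq_zero]
      intro x hx
      have h0 : g (x : V) = 0 := by
        have := congrArg Subtype.val hx
        simpa using this
      have := hker x x.2.2 h0
      exact Subtype.ext this
    have hsurj : Function.Surjective (g.restrict hgZ) := LinearMap.injective_iff_surjective.mp hinj
    have hsplit : W = (W ⊓ C) ⊔ Z := by
      apply le_antisymm
      · intro w hw
        have hwtop : w ∈ C ⊔ Utot := by rw [hsup]; trivial
        obtain ⟨c, hc, u, hu, rfl⟩ := Submodule.mem_sup.mp hwtop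
        have hgc : g c = 0 := by
          show f c - c = 0
          rw [hCfix c hc, sub_self]
        have hgu : g u ∈ Z := by
          refine ⟨?_, Utot.sub_mem (hUinv' u hu) hu⟩
          have : g (c + u) ∈ W := W.sub_mem (hWinv' _ hw) hw
          rwa [map_add, hgc, zero_add] at this
        obtain ⟨u', hu'⟩ := hsurj ⟨g u, hgu⟩
        have hu'' : g (u' : V) = g u := by
          have := congrArg Subtype.val hu'
          simpa using this
        have hdiff : u - (u' : V) = 0 := by
          apply hker _ (Utot.sub_mem hu u'.2.2)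
          rw [map_sub, hu'', sub_self]
        have huu' : u = (u' : V) := sub_eq_zero.mp hdiff
        have huW : u ∈ W := by rw [huu']; exact u'.2.1
        have hcW : c ∈ W := by
          have := W.sub_mem hw huW
          simpa using this
        exact Submodule.mem_sup.mpr ⟨c, ⟨hcW, hc⟩, u, ⟨huW, hu⟩, rfl⟩
      · exact sup_le inf_le_left inf_le_left
    have hdisjW : Disjoint (W ⊓ C) Z := hCU.mono inf_le_right inf_le_right
    have hfr := finrank_sup_of_disjoint (W ⊓ C) Z hdisjW
    rw [← hsplit, hWm] at hfr
    have hd : Module.finrank F ↥(W ⊓ C) ≤ Module.finrank F C := Submodule.finrank_mono inf_le_right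
    have hZinv : Z.map f ≤ Z := (Submodule.map_inf_le f).trans (inf_le_inf hWinv hk2)
    obtain ⟨k, hk⟩ := hk3 Z inf_le_right hZinv
    rcases Nat.eq_zero_or_pos k with hk0 | hkpos
    · left
      rw [hk0, mul_zero] at hk
      omega
    · right
      have ham : a ≤ m := by
        have : a * 1 ≤ a * k := Nat.mul_le_mul_left a hkpos
        omega
      refine ⟨ham, ?_⟩
      rw [hfr, hk, Nat.add_mul_mod_self_left]
      exact (Nat.mod_le _ _).trans hd
  · rintro (hmc | ⟨ham, hmod⟩)
    · obtain ⟨N, hN, hNm⟩ := exists_le_finrank_eq C m hmc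
      exact ⟨N, hNm, hinvC N hN⟩
    · set k := min (m / a) s with hkdef
      have hks : k ≤ s := min_le_right _ _
      have hkm : k * a ≤ m := by
        have h1 : k ≤ m / a := min_le_left _ _
        calc k * a ≤ (m / a) * a := Nat.mul_le_mul_right a h1
          _ ≤ m := Nat.div_mul_le_self m a
      have hl : m - k * a ≤ Module.finrank F C := by
        rcases le_total (m / a) s with h | h
        · have : k = m / a := min_eq_left h
          rw [this]
          have := Nat.div_add_mod' m a
          omega
        · have : k = s := min_eq_right h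
          rw [this]
          omega
      obtain ⟨N, hN, hNl⟩ := exists_le_finrank_eq C (m - k * a) hl
      obtain ⟨T, -, hTcard⟩ := Finset.exists_subset_card_eq (s := (Finset.univ : Finset (Fin s))) (n := k)
        (by simpa using hks)
      obtain ⟨hT1, hT2, -⟩ := hkeyall T
      have hTle : (⨆ j ∈ T, U j) ≤ Utot := by
        rw [hUtot]
        exact iSup₂_le fun j _ => le_iSup U j
      have hdisjN : Disjoint N (⨆ j ∈ T, U j) := hCU.mono hN hTle
      refine ⟨N ⊔ ⨆ j ∈ T, U j, ?_, ?_⟩
      · rw [finrank_sup_of_disjoint _ _ hdisjN, hNl, hT1, hTcard]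
        omega
      · rw [Submodule.map_sup]
        exact sup_le_sup (hinvC N hN) hT2

end Cfsg.Agent.S5952
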