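import Cfsg.Statements.S5953
import Cfsg.Agent.Lib.Helper14.TuDefs
import Cfsg.Agent.Lib.Helper14.TuGlue
import Cfsg.Agent.Lib.Helper13.TuD2B
import Cfsg.Agent.Lib.Helper14.TuT2G
import Cfsg.Agent.Lib.Helper19.TuD2A
import Cfsg.Agent.Lib.Helper2.TuARC
import Cfsg.Agent.Lib.Helper2.TuCNT
import Cfsg.Agent.Lib.Helper21.TuD4
import Cfsg.Agent.Lib.Helper21.TuT2B
import Cfsg.Agent.Lib.Helper27.TuGB
import Cfsg.Agent.Lib.Helper27.TuROOT
import Cfsg.Agent.Lib.Helper27.TuTB
import Cfsg.Agent.Lib.Helper46.TuGA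
import Cfsg.Agent.Lib.Helper80.TuD1

set_option autoImplicit false
open scoped MatrixGroups
open Cfsg
open Cfsg.Agent.Lib.Helper14.Tu Cfsg.Agent.Lib.Helper40.Herm Cfsg.Agent.Lib.Helper2.BG

namespace Cfsg.Agent.S5953

/-- the good direction for odd `r ≠ p` -/
theorem tu_odd_good {F : Type*} [Field F] [Fintype F] {p : ℕ} [Fact p.Prime] [CharP F p] {q : ℕ}
    (hq : Fintype.card F = q ^ 2) (n m : ℕ) (hn : 3 ≤ n) (hmn : 2 * m ≤ n) (r : ℕ) (hr : r.Prime)
    (hr2 : r ≠ 2) (hrp : r ≠ p) (i b c : ℕ) (hi : i = orderOf (q : ZMod r)) (hb : b = bOf i)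
    (hc : c = cOf i) (hk : 2 * (m % b) ≤ n % c)
    (hcond : i % 4 ≠ 2 ∨ (i % 4 = 2 ∧ (r - 1) / b + 2 * (m / b) ≤ n / b ∧
         (2 < i ∨ (i = 2 ∧ (r ∣ m ∨ padicValNat r n ≤ padicValNat r (q + 1))))))
    (x : Matrix.SpecialLinearGroup (Fin n) F) (hx : x ∈ Cfsg.SU n F q) (z : F)
    (hz : ((x ^ r : Matrix.SpecialLinearGroup (Fin n) F) : Matrix (Fin n) (Fin n) F) =
      z • (1 : Matrix (Fin n) (Fin n) F)) :
    Fixes n q m (x : Matrix (Fin n) (Fin n) F) := by
  obtain ⟨f, hf0, hqf⟩ := q_eq_pow (p := p) hq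
  obtain ⟨hctx, hzn, hpow⟩ := glue_ctx hq (by omega : 0 < n) x hx r hr hrp f hqf hf0 z hz
  have hfr : Module.finrank F ↥(⊤ : Submodule F (Fin n → F)) = n := by
    rw [finrank_top, Module.finrank_fin_fun]
  by_cases hA : ∃ w : F, w ^ (q + 1) = 1 ∧ w ^ r = z
  · -- type A
    obtain ⟨w, hw, hwz⟩ := hA
    have hw0 : w ≠ 0 := by
      intro h
      rw [h, zero_pow (by omega)] at hw
      exact zero_ne_one hw
    have hc1 := glue_ctx_scaled hq x hx r hr hrp w z hw hwz hz
    obtain ⟨W, -, hWi, hW, hWm⟩ := exists_isotropic_inv hc1 hr hr2 i b c hi hb hc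
      (Z := ⊤) (inv_top _) (hnondegOn_top (stdHerm_nondeg hq n)) m (by rw [hfr]; exact hmn)
      (by rw [hfr]; exact hk)
      (by
        rw [hfr]
        rcases hcond with h | h
        · exact Or.inl h
        · exact Or.inr h.2.1)
    exact glue_fixes hq _ w⁻¹ (inv_ne_zero hw0) W hWi hW hWm
  · -- type B
    have hrq : r ∣ q + 1 := by
      by_contra hcon
      exact hA (exists_root_of_not_dvd hq r hr hcon z hzn)
    obtain ⟨hirr, hval⟩ := typeB_facts hq r hr hr2 hrq n (by omega) x z hz hzn hA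
    -- `i = 2`
    have hqm : (q : ZMod r) = -1 := by
      have h1 : ((q + 1 : ℕ) : ZMod r) = 0 := (ZMod.natCast_eq_zero_iff _ _).2 hrq
      rw [Nat.cast_add, Nat.cast_one] at h1
      exact eq_neg_of_add_eq_zero_left h1
    have : Fact r.Prime := ⟨hr⟩
    have hi2 : i = 2 := by
      rw [hi, hqm, orderOf_neg_one, ZMod.ringChar_zmod_n, if_neg hr2]
    have hrm : r ∣ m := by
      rcases hcond with h | ⟨_, _, h | ⟨_, h | h⟩⟩
      · omega
      · omega
      · exact h
      · omega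
    obtain ⟨W, -, hWi, hW, hWm⟩ := exists_isotropic_inv_irr hctx r hr z hpow hirr (Z := ⊤)
      (inv_top _) (hnondegOn_top (stdHerm_nondeg hq n)) m (by rw [hfr]; exact hmn) hrm
    have hWi' : Inv ((1 : F) • Matrix.toLin' (x : Matrix (Fin n) (Fin n) F)) W := by
      rw [one_smul]; exact hWi
    exact glue_fixes hq _ 1 one_ne_zero W hWi' hW hWm

/-- Elements of prime order of PSU_n(q) with no fixed totally isotropic `m`-space. Here `T = PSU_n(q)` (`n ≥ 3`, `(n, q) ≠ (3, 2)`), realised through the matrices of determinant 1 over the field `F` with `q²` elements preserving the Hermitian form `h(u, v) = Σ u_i v_i^q`; an element of `T` of prime order `r` is such a matrix `x` with `x^r` scalar and `x` not scalar. For `r ≠ p` let `i` be the multiplicative order of `q` modulo `r`, `b = i/2` for `i` even and `b = i` for `i` odd, `c = i, i/2, 2i` according as `i ≡ 0, 2 (mod 4)` or `i` odd, and write `k = n mod c`, `ℓ = m mod b`, `ℓ' = m mod c`, `n' = ⌊n/b⌋`,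 `m' = ⌊m/b⌋`, `s = (r−1)/b`; `(a)_r` is the `r`-part of `a`. Let `1 ≤ m ≤ n/2` and let `r` be a prime dividing the number of totally isotropic `m`-spaces. Then every element of `T` of order `r` fixes a totally isotropic `m`-space if and only if either (i) `r = 2`, `p ≠ 2`, and (`m < n/2` or `(q+1)_2 ≤ (n)_2`); or (ii) `r ≠ p`, `r > 2`, `b ≤ m`, `k ≥ 2ℓ`, and either `i ≢ 2 (mod 4)`, or `i ≡ 2 (mod 4)`, `n' − 2m' ≥ s` and (`i > 2`, or `i = 2` and (`r ∣ m` or `(q+1)_r ≥ (n)_r`)). -/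
theorem result {F : Type*} [Field F] [Fintype F] {p : ℕ} [Fact p.Prime] [CharP F p] {q : ℕ} (hq : Fintype.card F = q ^ 2)
    (n m : ℕ) (hn : 3 ≤ n) (hT : (n, q) ≠ (3, 2)) (hm : 1 ≤ m) (hmn : 2 * m ≤ n)
    (r : ℕ) [Fact r.Prime]
    (hrΩ : r ∣ Nat.card {W : Submodule F (Fin n → F) // Module.finrank F ↥W = m ∧ (∀ u ∈ W, ∀ v ∈ W, Cfsg.hermForm n F q u v = 0)})
    (i b c : ℕ) (hi : i = orderOf (q : ZMod r)) (hb : b = if Even i then i / 2 else i)
    (hc : c = if i % 4 = 0 then i else if i % 4 = 2 then i / 2 else 2 * i) :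
    (∀ x : Matrix.SpecialLinearGroup (Fin n) F, x ∈ Cfsg.SU n F q →
      (∃ z : F, ((x ^ r : Matrix.SpecialLinearGroup (Fin n) F) : Matrix (Fin n) (Fin n) F) = z • (1 : Matrix (Fin n) (Fin n) F)) →
      (∀ z : F, (x : Matrix (Fin n) (Fin n) F) ≠ z • (1 : Matrix (Fin n) (Fin n) F)) →
      ∃ W : Submodule F (Fin n → F), Module.finrank F ↥W = m ∧ (∀ u ∈ W, ∀ v ∈ W, Cfsg.hermForm n F q u v = 0) ∧
        W.map (Matrix.toLin' (x : Matrix (Fin n) (Fin n) F)) ≤ W) ↔
    ((r = 2 ∧ p ≠ 2 ∧ (2 * m < n ∨ padicValNat 2 (q + 1) ≤ padicValNat 2 n)) ∨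
     (r ≠ p ∧ 2 < r ∧ b ≤ m ∧ 2 * (m % b) ≤ n % c ∧
       (i % 4 ≠ 2 ∨ (i % 4 = 2 ∧ (r - 1) / b + 2 * (m / b) ≤ n / b ∧
         (2 < i ∨ (i = 2 ∧ (r ∣ m ∨ padicValNat r n ≤ padicValNat r (q + 1)))))))) := by
  classical
  have hr : r.Prime := Fact.out
  have hb' : b = bOf i := hb
  have hc' : c = cOf i := hc
  -- the left side in terms of `Fixes`
  change (∀ x : Matrix.SpecialLinearGroup (Fin n) F, x ∈ Cfsg.SU n F q →
      (∃ z : F, ((x ^ r : Matrix.SpecialLinearGroup (Fin n) F) : Matrix (Fin n) (Fin n) F) = z • (1 : Matrix (Fin n) (Fin n) F)) →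
      (∀ z : F, (x : Matrix (Fin n) (Fin n) F) ≠ z • (1 : Matrix (Fin n) (Fin n) F)) →
      Fixes n q m (x : Matrix (Fin n) (Fin n) F)) ↔ _
  have hbad : ∀ x : Matrix.SpecialLinearGroup (Fin n) F, IsBad n q m r x →
      ¬ (∀ x : Matrix.SpecialLinearGroup (Fin n) F, x ∈ Cfsg.SU n F q →
      (∃ z : F, ((x ^ r : Matrix.SpecialLinearGroup (Fin n) F) : Matrix (Fin n) (Fin n) F) = z • (1 : Matrix (Fin n) (Fin n) F)) →
      (∀ z : F, (x : Matrix (Fin n) (Fin n) F) ≠ z • (1 : Matrix (Fin n) (Fin n) F)) →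
      Fixes n q m (x : Matrix (Fin n) (Fin n) F)) := by
    intro x hx hall
    exact hx.2.2.2 (hall x hx.1 hx.2.1 hx.2.2.1)
  -- `r ≠ p`
  have hrp : r ≠ p := by
    intro h
    have h1 : p ∣ Nat.card (Cfsg.Agent.Lib.Helper14.Tu.Omega F n q m) := h ▸ hrΩ
    exact not_dvd_card_Omega hq n m hm hmn h1
  obtain ⟨f, hf0, hqf⟩ := q_eq_pow (p := p) hq
  have hrq : ¬ r ∣ q := by
    intro h
    rw [hqf] at h
    exact hrp ((Nat.prime_dvd_prime_iff_eq hr Fact.out).1 (hr.dvd_of_dvd_pow h))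
  by_cases hr2 : r = 2
  · -- involutions
    have hp2 : p ≠ 2 := fun h => hrp (hr2.trans h.symm)
    constructor
    · intro hall
      left
      refine ⟨hr2, hp2, ?_⟩
      by_contra hcon
      push Not at hcon
      obtain ⟨h1, h2⟩ := hcon
      obtain ⟨x, hx⟩ := two_bad hq hp2 n m hn hm (by omega) h2
      rw [← hr2] at hx
      exact hbad x hx hall
    · rintro (⟨-, -, h⟩ | ⟨-, h2r, -⟩)
      · intro x hx ⟨z, hz⟩ _
        rw [hr2] at hz
        exact two_good hq hp2 n m hn hm hmn h x hx z hz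
      · omega
  · -- odd primes
    have h2r : 2 < r := by
      have := hr.two_le
      omega
    constructor
    · intro hall
      right
      have hk : 2 * (m % b) ≤ n % c := by
        by_contra hcon
        push Not at hcon
        obtain ⟨x, hx⟩ := bad_fixed hq r hr hr2 hrp n m hn hm hmn i b c hi hb' hc' hcon
        exact hbad x hx hall
      have hbm : b ≤ m := by
        obtain ⟨j, hj1, hj2, hj3⟩ := exists_dvd_of_dvd_card_Omega hq n m hm hmn r hr hrp hrΩ
        rw [dvd_pow_sub_iff r hr hr2 q hrq j, ← hi, ← hc'] at hj3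
        obtain ⟨t, rfl⟩ := hj3
        by_contra hcon
        push Not at hcon
        rw [Nat.mod_eq_of_lt hcon] at hk
        rcases Nat.eq_zero_or_pos c with hc0 | hc0
        · rw [hc0, zero_mul] at hj1
          omega
        have h1 : t ≤ n / c := (Nat.le_div_iff_mul_le hc0).2 (by rw [mul_comm]; exact hj2)
        have h2 : c * t ≤ c * (n / c) := Nat.mul_le_mul_left c h1
        have h3 := Nat.div_add_mod n c
        omega
      refine ⟨hrp, h2r, hbm, hk, ?_⟩
      by_cases hi4 : i % 4 = 2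
      · right
        have hi2 : ¬ 2 < i → i = 2 := by omega
        refine ⟨hi4, ?_, ?_⟩
        · by_contra hcon
          push Not at hcon
          by_cases h2i : 2 < i
          · obtain ⟨x, hx⟩ := bad_selfdual hq r hr hr2 hrp n m hn hm hmn i b c hi hb' hc' hi4 h2i
              hbm hcon
            exact hbad x hx hall
          · have hi2' := hi2 h2i
            have hb1 : b = 1 := by rw [hb', hi2']; decide
            rw [hb1, Nat.div_one, Nat.div_one, Nat.div_one] at hcon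
            obtain ⟨x, hx⟩ := bad_diag hq r hr hr2 hrp n m hn hm hmn (by rw [← hi, hi2']) hcon
            exact hbad x hx hall
        · by_cases h2i : 2 < i
          · exact Or.inl h2i
          · right
            have hi2' := hi2 h2i
            refine ⟨hi2', ?_⟩
            by_contra hcon
            push Not at hcon
            obtain ⟨x, hx⟩ := bad_irr hq r hr hr2 hrp n m hn hm hmn (by rw [← hi, hi2']) hcon.1
              hcon.2
            exact hbad x hx hall
      · exact Or.inl hi4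
    · rintro (⟨h, -⟩ | ⟨-, -, hbm, hk, hcond⟩)
      · exact absurd h hr2
      · intro x hx ⟨z, hz⟩ _
        exact tu_odd_good hq n m hn hmn r hr hr2 hrp i b c hi hb' hc' hk hcond x hx z hz

end Cfsg.Agent.S5953
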