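import Cfsg.Statements.S5955
import Cfsg.Agent.Lib.Helper48.TiOdd
import Cfsg.Agent.Lib.Helper80.TiCOUNT2
import Cfsg.Agent.Lib.Helper99.TiW2
import Cfsg.Agent.Lib.Helper48.TiD1b
import Cfsg.Agent.Lib.Helper8.TiD2
import Cfsg.Agent.Lib.Helper33.TiD3
import Cfsg.Agent.Lib.Helper2.BGDer

set_option autoImplicit false
open scoped MatrixGroups
open Cfsg

namespace Cfsg.Agent.S5955

open Cfsg.Agent.Lib.Helper48.Ti

/-- Elements of prime order of PSp_n(q) with no fixed totally isotropic `m`-space. Here `T = PSp_n(q)` with `n = 2d ≥ 4`, `(n, q) ≠ (4, 2)`, realised through the symplectic matrices over the field `F` with `q` elements (preserving the standard alternating form); an element of `T` of prime order `r` is such a matrix `x` with `x^r` scalar and `x` not scalar. For `r ≠ p` let `i` be the multiplicative order of `q` modulo `r`, `c = i` for `i` even and `c = 2i` for `i` odd, and write `k = n mod c`, `ℓ = m mod i`, `ℓ' = m mod c`, `n' = ⌊n/i⌋`, `m' = ⌊m/i⌋`, `t = (r−1)/i`. Let `1 ≤ m ≤ n/2`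 and let `r` be a prime dividing the number of totally isotropic `m`-spaces. Then every element of `T` of order `r` fixes a totally isotropic `m`-space if and only if either (i) `r = 2 ≠ p` and (`m` is even or `q ≡ 1 (mod 4)`); or (ii) `r ≠ p`, `r > 2`, `i ≤ m`, `k ≥ 2ℓ`, and (`i` is odd or `n' − 2m' ≥ t`). -/
theorem result {F : Type*} [Field F] [Fintype F] {p : ℕ} [Fact p.Prime] [CharP F p] {q : ℕ} (hq : Fintype.card F = q)
    (d m : ℕ) (hd : 2 ≤ d) (hT : (d, q) ≠ (2, 2)) (hm : 1 ≤ m) (hmd : m ≤ d)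
    (r : ℕ) [Fact r.Prime]
    (hrΩ : r ∣ Nat.card {W : Submodule F (Fin d ⊕ Fin d → F) // Module.finrank F ↥W = m ∧ (∀ u ∈ W, ∀ v ∈ W, Cfsg.sympForm d F u v = 0)})
    (i c : ℕ) (hi : i = orderOf (q : ZMod r)) (hc : c = if Even i then i else 2 * i) :
    (∀ x : ↥(Matrix.symplecticGroup (Fin d) F),
      (∃ z : F, ((x ^ r : ↥(Matrix.symplecticGroup (Fin d) F)) : Matrix (Fin d ⊕ Fin d) (Fin d ⊕ Fin d) F) = z • (1 : Matrix (Fin d ⊕ Fin d) (Fin d ⊕ Fin d) F)) →
      (∀ z : F, (x : Matrix (Fin d ⊕ Fin d) (Fin d ⊕ Fin d) F) ≠ z • (1 : Matrix (Fin d ⊕ Fin d) (Fin d ⊕ Fin d) F)) →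
      ∃ W : Submodule F (Fin d ⊕ Fin d → F), Module.finrank F ↥W = m ∧ (∀ u ∈ W, ∀ v ∈ W, Cfsg.sympForm d F u v = 0) ∧
        W.map (Matrix.toLin' (x : Matrix (Fin d ⊕ Fin d) (Fin d ⊕ Fin d) F)) ≤ W) ↔
    ((r = 2 ∧ p ≠ 2 ∧ (Even m ∨ q % 4 = 1)) ∨
     (r ≠ p ∧ 2 < r ∧ i ≤ m ∧ 2 * (m % i) ≤ (2 * d) % c ∧ (Odd i ∨ (r - 1) / i + 2 * (m / i) ≤ (2 * d) / i))) := by
  classical
  subst hq
  have hrP : r.Prime := Fact.out
  have hpP : p.Prime := Fact.out
  have hq0 : 0 < Fintype.card F := Fintype.card_pos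
  obtain ⟨hrp, j, hjm, hjdvd⟩ := dvd_of_dvd_card_ti (p := p) d m hmd r hrP hrΩ
  constructor
  · intro hall
    by_cases hr2 : r = 2
    · left
      have hp2 : p ≠ 2 := fun hp => hrp (hr2.trans hp.symm)
      refine ⟨hr2, hp2, ?_⟩
      by_contra hcon
      push Not at hcon
      obtain ⟨hmodd, hq1⟩ := hcon
      -- the field has odd cardinality
      have hqodd : Fintype.card F % 2 = 1 := by
        obtain ⟨n, hn⟩ := FiniteField.card F p
        rw [hn.2]
        have hpodd : p % 2 = 1 := by
          rcases hpP.eq_two_or_odd with h | h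
          · exact absurd h hp2
          · exact h
        rw [Nat.pow_mod, hpodd, one_pow]
        rfl
      have hq3 : Fintype.card F % 4 = 3 := by omega
      obtain ⟨x, hx2, hxns, hxeven⟩ := exists_even_inv_elt (F := F) d (by omega) hq3
      obtain ⟨W, hWm, -, hWx⟩ := hall x ⟨-1, by rw [hr2]; exact hx2⟩ hxns
      have hev := hxeven W hWx
      rw [hWm] at hev
      exact hmodd hev
    · right
      have hr3 : 2 < r := lt_of_le_of_ne hrP.two_le (Ne.symm hr2)
      have hidvd : i ∣ 2 * (d - j) := by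
        rw [hi]
        exact (Cfsg.Agent.Lib.Helper2.BG.orderOf_dvd_iff_dvd_pow_sub_one (r := r)
          (Fintype.card F) hq0 (2 * (d - j))).mpr hjdvd
      have hdj : 0 < d - j := by omega
      have hi0 : 0 < i := by
        rcases Nat.eq_zero_or_pos i with h | h
        · rw [h, zero_dvd_iff] at hidvd
          omega
        · exact h
      have hcdvd : c ∣ 2 * (d - j) := by
        rw [hc]
        split_ifs with hie
        · exact hidvd
        · have hio : Odd i := Nat.not_even_iff_odd.mp hie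
          have hcop : Nat.Coprime i 2 := (Nat.coprime_two_right).mpr hio
          exact Nat.mul_dvd_mul_left 2 (hcop.dvd_of_dvd_mul_left hidvd)
      have hc0 : 0 < c := by
        rw [hc]
        split_ifs <;> omega
      have hcd : c ≤ 2 * d := by
        have := Nat.le_of_dvd (by omega) hcdvd
        omega
      have hk2j : (2 * d) % c ≤ 2 * j := by
        obtain ⟨t, ht⟩ := hcdvd
        have e : 2 * d = 2 * j + c * t := by omega
        rw [e, Nat.add_mul_mod_self_left]
        exact Nat.mod_le _ _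
      -- first derangement
      obtain ⟨x, hxr, hxns, hxU⟩ := d1b_exists_smallfix_elt (F := F) d r hr2 hrp i c hi hc hcd
      obtain ⟨W, hWm, hWti, hWx⟩ := hall x ⟨1, by rw [hxr, one_smul]⟩ hxns
      obtain ⟨a, j', hdimW, ha⟩ := hxU W hWx hWti
      rw [hWm] at hdimW
      have hma : m % i ≤ a := by
        rw [hdimW, Nat.add_mul_mod_self_right]
        exact Nat.mod_le _ _
      have hcond4 : 2 * (m % i) ≤ (2 * d) % c := by omega
      have hcond3 : i ≤ m := by
        by_contra hlt
        push Not at hlt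
        rw [Nat.mod_eq_of_lt hlt] at hcond4
        omega
      refine ⟨hrp, hr3, hcond3, hcond4, ?_⟩
      by_contra hcon
      push Not at hcon
      obtain ⟨hnodd, hlt⟩ := hcon
      have hie : Even i := Nat.not_odd_iff_even.mp hnodd
      have hci : c = i := by rw [hc, if_pos hie]
      have hm'1 : 1 ≤ m / i := Nat.div_pos hcond3 hi0
      have hn'm' : 2 * (m / i) ≤ (2 * d) / i := by
        rw [Nat.le_div_iff_mul_le hi0]
        have := Nat.div_mul_le_self m i
        calc 2 * (m / i) * i = 2 * (m / i * i) := by ring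
          _ ≤ 2 * m := by omega
          _ ≤ 2 * d := by omega
      obtain ⟨u', hu'⟩ := Nat.exists_eq_add_of_le hn'm'
      -- `2d / i = 2 (m/i) + u'`
      have hud : i * (u' + 1) ≤ 2 * d := by
        have h1 : i * (u' + 1) ≤ i * ((2 * d) / i) := by
          apply Nat.mul_le_mul_left
          omega
        exact h1.trans (Nat.mul_div_le _ _)
      obtain ⟨y, hyr, hyns, hyU⟩ := exists_multfree_elt (F := F) d r hr2 hrp i (u' + 1) hi hie
        (by omega) (by omega) hud
      obtain ⟨W', hW'm, hW'ti, hW'y⟩ := hall y ⟨1, by rw [hyr, one_smul]⟩ hyns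
      have hbound := hyU W' hW'y hW'ti
      rw [hW'm] at hbound
      -- arithmetic contradiction
      have e1 := Nat.div_add_mod (2 * d) i
      have e2 := Nat.div_add_mod m i
      have e3 : (2 * d) % i < i := Nat.mod_lt _ hi0
      have e4 : i * ((2 * d) / i) = 2 * (i * (m / i)) + i * u' := by
        rw [hu']
        ring
      have e5 : i * (u' + 1) = i * u' + i := by ring
      rw [hci] at hcond4
      omega
  · rintro (⟨hr2, hp2, hm2⟩ | ⟨hrp', hr3, -, hk, ht⟩) x hxr _
    · subst hr2
      exact fix_of_two (p := p) d m (by omega) hmd hp2 hm2 x hxr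
    · exact fix_of_odd (p := p) d m (by omega) hmd r (by omega) hrp' i c hi hc hk ht x hxr

end Cfsg.Agent.S5955
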