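import Cfsg.Statements.S5956
import Cfsg.Agent.Lib.Helper4.NdMain

set_option autoImplicit false
open scoped MatrixGroups
open Cfsg

namespace Cfsg.Agent.S5956

/-- Elements of prime order of PSp_n(q) with no fixed nondegenerate `m`-space. Here `T = PSp_n(q)` with `n = 2d ≥ 4`, `(n, q) ≠ (4, 2)`, realised through the symplectic matrices over the field `F` with `q` elements (preserving the standard alternating form); an element of `T` of prime order `r` is such a matrix `x` with `x^r` scalar and `x` not scalar. For `r ≠ p` let `i` be the multiplicative order of `q` modulo `r`, `c = i` for `i` even and `c = 2i` for `i` odd, and write `k = n mod c`, `ℓ = m mod i`, `ℓ' = m mod c`, `n' = ⌊n/i⌋`, `m' = ⌊m/i⌋`, `t = (r−1)/i`. Let `m` be even with `2 ≤ m < n/2` and let `r` be a prime dividing the number of nondegenerate `m`-spaces. Then every element of `T` of order `r` fixes a nondegenerate `m`-space if and only if one of: (i) `r = p > 2` and every partition of `n` into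 parts of size at most `p` in which every odd part has even multiplicity contains (as a sub-multiset) a partition of `m` in which every odd part has even multiplicity; (ii) `r = p = 2` and (`n ≡ 2 (mod 4)` or `m ≡ 0 (mod 4)`); (iii) `r = 2 ≠ p`; (iv) `r ≠ p`, `r > 2`, `c ≤ m` and `k ≥ ℓ'`. -/
theorem result {F : Type*} [Field F] [Fintype F] {p : ℕ} [Fact p.Prime] [CharP F p] {q : ℕ} (hq : Fintype.card F = q)
    (d m : ℕ) (hd : 2 ≤ d) (hT : (d, q) ≠ (2, 2)) (hm : 2 ≤ m) (hme : Even m) (hmd : m < d)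
    (r : ℕ) [Fact r.Prime]
    (hrΩ : r ∣ Nat.card {W : Submodule F (Fin d ⊕ Fin d → F) // Module.finrank F ↥W = m ∧ (∀ u ∈ W, u ≠ 0 → ∃ v ∈ W, Cfsg.sympForm d F u v ≠ 0)})
    (i c : ℕ) (hi : i = orderOf (q : ZMod r)) (hc : c = if Even i then i else 2 * i) :
    (∀ x : ↥(Matrix.symplecticGroup (Fin d) F),
      (∃ z : F, ((x ^ r : ↥(Matrix.symplecticGroup (Fin d) F)) : Matrix (Fin d ⊕ Fin d) (Fin d ⊕ Fin d) F) = z • (1 : Matrix (Fin d ⊕ Fin d) (Fin d ⊕ Fin d) F)) →
      (∀ z : F, (x : Matrix (Fin d ⊕ Fin d) (Fin d ⊕ Fin d) F) ≠ z • (1 : Matrix (Fin d ⊕ Fin d) (Fin d ⊕ Fin d) F)) →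
      ∃ W : Submodule F (Fin d ⊕ Fin d → F), Module.finrank F ↥W = m ∧ (∀ u ∈ W, u ≠ 0 → ∃ v ∈ W, Cfsg.sympForm d F u v ≠ 0) ∧
        W.map (Matrix.toLin' (x : Matrix (Fin d ⊕ Fin d) (Fin d ⊕ Fin d) F)) ≤ W) ↔
    ((r = p ∧ 2 < p ∧ (∀ μ : Multiset ℕ, (∀ a ∈ μ, 0 < a ∧ a ≤ p) → (∀ a : ℕ, Odd a → Even (μ.count a)) → μ.sum = 2 * d →
        ∃ ν : Multiset ℕ, ν ≤ μ ∧ ν.sum = m ∧ ∀ a : ℕ, Odd a → Even (ν.count a))) ∨
     (r = p ∧ p = 2 ∧ ((2 * d) % 4 = 2 ∨ m % 4 = 0)) ∨
     (r = 2 ∧ p ≠ 2) ∨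
     (r ≠ p ∧ 2 < r ∧ c ≤ m ∧ m % c ≤ (2 * d) % c)) := by
  classical
  have hd1 : 1 ≤ d := by omega
  have hmd2 : m ≤ 2 * d := by omega
  subst hq
  have hcc : c = Cfsg.Agent.Lib.Helper4.NdH.cOf (orderOf ((Fintype.card F : ℕ) : ZMod r)) := by
    rw [hc, hi]; rfl
  have hgoodiff := fun x : ↥(Matrix.symplecticGroup (Fin d) F) =>
    Cfsg.Agent.Lib.Helper4.NdH.main_good_iff (F := F) d m
      (x : Matrix (Fin d ⊕ Fin d) (Fin d ⊕ Fin d) F)
  by_cases hrp : r = p
  · subst hrp
    by_cases hp2 : r = 2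
    · -- case B
      subst hp2
      constructor
      · intro hall
        right; left
        refine ⟨rfl, rfl, ?_⟩
        exact Cfsg.Agent.Lib.Helper4.NdH.main_caseB_mp (F := F) d m hd1 hme
          (fun x h1 h2 => (hgoodiff x).mp (hall x h1 h2))
      · rintro (⟨-, h, -⟩ | ⟨-, -, h4⟩ | ⟨-, h⟩ | ⟨h, -⟩)
        · omega
        · intro x ⟨z, hz⟩ _
          exact (hgoodiff x).mpr
            (Cfsg.Agent.Lib.Helper4.NdH.main_caseB_mpr (F := F) d m hd1 hme hmd2 h4 x z hz)
        · exact absurd rfl h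
        · exact absurd rfl h
    · -- case A
      have hr2 : 2 < r := by
        have := (Fact.out : r.Prime).two_le
        omega
      constructor
      · intro hall
        left
        refine ⟨rfl, hr2, ?_⟩
        intro μ hμ hadm hsum
        exact Cfsg.Agent.Lib.Helper4.NdH.main_caseA_mp (F := F) r hp2 d m hd1 hme hmd2
          (fun x h1 h2 => (hgoodiff x).mp (hall x h1 h2)) μ hμ hadm hsum
      · rintro (⟨-, -, hpart⟩ | ⟨-, h, -⟩ | ⟨h, -⟩ | ⟨h, -⟩)
        · intro x ⟨z, hz⟩ _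
          exact (hgoodiff x).mpr
            (Cfsg.Agent.Lib.Helper4.NdH.main_caseA_mpr (F := F) r hp2 d m hd1 hpart x z hz)
        · exact absurd h hp2
        · exact absurd h hp2
        · exact absurd rfl h
  · by_cases hr2 : r = 2
    · -- case C
      subst hr2
      have hp2 : p ≠ 2 := fun h => hrp h.symm
      constructor
      · intro _
        right; right; left
        exact ⟨rfl, hp2⟩
      · intro _ x ⟨z, hz⟩ _
        exact (hgoodiff x).mpr
          (Cfsg.Agent.Lib.Helper4.NdH.main_caseC (F := F) p hp2 d m hme hmd2 x z hz)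
    · -- case D
      have hr2' : 2 < r := by
        have := (Fact.out : r.Prime).two_le
        omega
      constructor
      · intro hall
        right; right; right
        have := Cfsg.Agent.Lib.Helper4.NdH.main_caseD_mp (F := F) p d m hd1 hme hmd2 r hr2 hrp hrΩ
          (fun x h1 h2 => (hgoodiff x).mp (hall x h1 h2))
        rw [← hcc] at this
        exact ⟨hrp, hr2', this.1, this.2⟩
      · rintro (⟨h, -⟩ | ⟨h, -⟩ | ⟨h, -⟩ | ⟨-, -, hcm, hmod⟩)
        · exact absurd h hrp
        · exact absurd h hrp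
        · exact absurd h hr2
        · intro x ⟨z, hz⟩ _
          rw [hcc] at hcm hmod
          exact (hgoodiff x).mpr
            (Cfsg.Agent.Lib.Helper4.NdH.main_caseD_mpr (F := F) p d m hd1 hme hmd2 r hr2 hrp hcm hmod
              x z hz)


end Cfsg.Agent.S5956
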