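import Cfsg.Statements.S5958
import Cfsg.Agent.Lib.Helper6.EqD.Main

set_option autoImplicit false
open scoped MatrixGroups
open Cfsg

namespace Cfsg.Agent.S5958

/-- Elements of odd prime order of PSL_n(q) and imprimitive subgroups. Here `T = PSL_n(F)` for a field `F` with `q = p^f` elements (`n ≥ 2`, `(n, q) ≠ (2, 2), (2, 3)`), `n = a·t` with `t ≥ 2`, and Ω is the set of direct-sum decompositions of `F^n` into `t` subspaces of dimension `a` (unordered; their number is the number of ordered ones divided by `t!`), whose stabilizers are the imprimitive subgroups of type GL_a(q) ≀ S_t (maximal except in some small cases; maximality is not assumed); an element of `T` of prime order `r` (a matrix `x` of determinant 1 with `x^r` scalar, `x` not scalar) fixes a point of Ω when it permutes the summands of some such decomposition. Let `r ≠ p` be an odd prime dividing the number of such decompositions, let `c` be the multiplicative order of `q` modulo `r`, and write `k = n mod c`, `ℓ = a mod c`. Then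 every element of `T` of order `r` stabilizes such a decomposition if and only if either `a = 1`, `c = r − 1 > 1` and `n ≤ k·r`, or `c ≤ a` and `k = t·ℓ`. -/
theorem result {F : Type*} [Field F] [Fintype F] {p : ℕ} [Fact p.Prime] [CharP F p] {q : ℕ} (hq : Fintype.card F = q)
    (n a t : ℕ) (hn : 2 ≤ n) (hT : (n, q) ≠ (2, 2) ∧ (n, q) ≠ (2, 3)) (hat : n = a * t) (ha : 1 ≤ a) (ht : 2 ≤ t)
    (r : ℕ) [Fact r.Prime] (hr2 : r ≠ 2) (hrp : r ≠ p) (hΩ : r ∣ Nat.card {D : Fin t → Submodule F (Fin n → F) // Cfsg.Geo.IsMDecomposition a D} / Nat.factorial t)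
    (c : ℕ) (hc : c = orderOf (q : ZMod r)) :
    (∀ x : Matrix.SpecialLinearGroup (Fin n) F,
      (∃ z : F, ((x ^ r : Matrix.SpecialLinearGroup (Fin n) F) : Matrix (Fin n) (Fin n) F) = z • (1 : Matrix (Fin n) (Fin n) F)) →
      (∀ z : F, (x : Matrix (Fin n) (Fin n) F) ≠ z • (1 : Matrix (Fin n) (Fin n) F)) →
      ∃ D : Fin t → Submodule F (Fin n → F), Cfsg.Geo.IsMDecomposition a D ∧
        ∃ σ : Equiv.Perm (Fin t), ∀ j, (D j).map (Matrix.toLin' (x : Matrix (Fin n) (Fin n) F)) = D (σ j)) ↔
    ((a = 1 ∧ 1 < c ∧ c = r - 1 ∧ n ≤ (n % c) * r) ∨ (c ≤ a ∧ n % c = t * (a % c))) := by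
  subst hq
  subst hc
  constructor
  · intro h
    have hcn := Cfsg.Agent.Lib.Helper6.EqD.order_le_of_dvd_card_dec (F := F) (p := p) n a t hat ha ht r hrp hΩ
    have hcpos : 0 < orderOf ((Fintype.card F : ℕ) : ZMod r) :=
      Cfsg.Agent.Lib.Helper2.BG.orderOf_pos_of_ne (F := F) (p := p) hrp
    by_cases hc1 : orderOf ((Fintype.card F : ℕ) : ZMod r) = 1
    · right
      rw [hc1]
      exact ⟨ha, by simp [Nat.mod_one]⟩
    · by_contra hcond
      obtain ⟨x, hx1, hx2, hx3⟩ := Cfsg.Agent.Lib.Helper6.EqD.exists_derangement (F := F) (p := p)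
        n a t hat ha ht r hrp (by omega) hcn hcond
      obtain ⟨D, hD, σ, hσ⟩ := h x ⟨1, by rw [hx1, one_smul]⟩ hx2
      exact hx3 D σ ⟨hD.finrank_eq, hD.indep, hD.iSup_eq_top, hσ⟩
  · intro hcond x hx1 _
    obtain ⟨z, hz⟩ := hx1
    exact Cfsg.Agent.Lib.Helper6.EqD.stabilizes_of_cond (F := F) (p := p) n a t hn hat ha ht r hrp
      (hcond.imp id And.right) x z hz

end Cfsg.Agent.S5958
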