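import Cfsg.Statements.S5959
import Cfsg.Agent.Lib.Helper99.JordanDecomp

set_option autoImplicit false
open scoped MatrixGroups
open Cfsg

namespace Cfsg.Agent.S5959

/-- Elements of order `p` of PSL_n(q) and imprimitive subgroups: a necessary condition. Here `T = PSL_n(F)` for a field `F` with `q = p^f` elements (`n ≥ 2`, `(n, q) ≠ (2, 2), (2, 3)`), `n = a·t` with `t ≥ 2`, and Ω is the set of direct-sum decompositions of `F^n` into `t` subspaces of dimension `a` (unordered; their number is the number of ordered ones divided by `t!`), whose stabilizers are the imprimitive subgroups of type GL_a(q) ≀ S_t (maximal except in some small cases; maximality is not assumed); an element of `T` of prime order `r` (a matrix `x` of determinant 1 with `x^r` scalar, `x` not scalar) fixes a point of Ω when it permutes the summands of some such decomposition. Suppose `p > 2` divides the number of such decompositions. If every element of `T` of order `p` stabilizes such a decomposition, then every partition of `n` into parts of size at most `p` in which the part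 `p` occurs fewer than `a` times contains (as a sub-multiset) a partition of `a`. -/
theorem result {F : Type*} [Field F] [Fintype F] {p : ℕ} [Fact p.Prime] [CharP F p] {q : ℕ} (hq : Fintype.card F = q)
    (n a t : ℕ) (hn : 2 ≤ n) (hT : (n, q) ≠ (2, 2) ∧ (n, q) ≠ (2, 3)) (hat : n = a * t) (ha : 1 ≤ a) (ht : 2 ≤ t)
    (hp : 2 < p) (hΩ : p ∣ Nat.card {D : Fin t → Submodule F (Fin n → F) // Cfsg.Geo.IsMDecomposition a D} / Nat.factorial t)
    (h : ∀ x : Matrix.SpecialLinearGroup (Fin n) F,
      (∃ z : F, ((x ^ p : Matrix.SpecialLinearGroup (Fin n) F) : Matrix (Fin n) (Fin n) F) = z • (1 : Matrix (Fin n) (Fin n) F)) →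
      (∀ z : F, (x : Matrix (Fin n) (Fin n) F) ≠ z • (1 : Matrix (Fin n) (Fin n) F)) →
      ∃ D : Fin t → Submodule F (Fin n → F), Cfsg.Geo.IsMDecomposition a D ∧
        ∃ σ : Equiv.Perm (Fin t), ∀ j, (D j).map (Matrix.toLin' (x : Matrix (Fin n) (Fin n) F)) = D (σ j)) :
    (∀ μ : Multiset ℕ, (∀ b ∈ μ, 0 < b ∧ b ≤ p) → μ.sum = n → μ.count p < a → ∃ ν : Multiset ℕ, ν ≤ μ ∧ ν.sum = a) := by
  classical
  intro μ hμ hsum hcount
  have hp' : p.Prime := Fact.out
  have hn0 : n ≠ 0 := by omega
  have han : a ≤ n := by
    rw [hat]; exact Nat.le_mul_of_pos_right a (by omega)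
  by_cases hall : ∀ b ∈ μ, b = 1
  · have hμ' : μ = Multiset.replicate (Multiset.card μ) 1 := Multiset.eq_replicate_card.mpr hall
    have hcard : Multiset.card μ = n := by
      rw [hμ'] at hsum
      simpa using hsum
    refine ⟨Multiset.replicate a 1, ?_, by simp⟩
    rw [hμ', hcard, Multiset.replicate_le_replicate]
    exact han
  · push Not at hall
    obtain ⟨b₀, hb₀, hb₀1⟩ := hall
    haveI : NeZero n := ⟨hn0⟩
    obtain ⟨T, hT⟩ := Cfsg.Agent.Lib.Helper99.exists_end_of_multiset F μ n hsum
    -- `T ^ p = 0`
    have hTp : T ^ p = 0 := by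
      have h1 : Cfsg.Agent.Lib.Helper99.dker T p = n := by
        rw [hT, ← hsum]
        congr 1
        conv_rhs => rw [← Multiset.map_id μ]
        apply Multiset.map_congr rfl
        intro b hb
        exact min_eq_left (hμ b hb).2
      have h2 : LinearMap.ker (T ^ p) = ⊤ := by
        apply Submodule.eq_top_of_finrank_eq
        rw [Module.finrank_fintype_fun_eq_card, Fintype.card_fin]
        exact h1
      exact LinearMap.ker_eq_top.mp h2
    set N : Matrix (Fin n) (Fin n) F := LinearMap.toMatrix' T with hNdef
    have hN : Matrix.toLin' N = T := Matrix.toLin'_toMatrix' T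
    have hNp : N ^ p = 0 := by
      apply Matrix.toLin'.injective
      rw [Matrix.toLin'_pow, hN, hTp, map_zero]
    set X : Matrix (Fin n) (Fin n) F := 1 + N with hXdef
    have hXp : X ^ p = 1 := by
      have hcomm : Commute (1 : Matrix (Fin n) (Fin n) F) N := Commute.one_left N
      rw [hXdef, add_pow_char_of_commute _ hcomm, one_pow, hNp, add_zero]
    have hdet : X.det = 1 := by
      have h1 : X.det ^ p = 1 := by rw [← Matrix.det_pow, hXp, Matrix.det_one]
      have h2 : (X.det - 1) ^ p = 0 := by rw [sub_pow_char, h1, one_pow, sub_self]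
      exact sub_eq_zero.mp ((pow_eq_zero_iff hp'.ne_zero).mp h2)
    let x : Matrix.SpecialLinearGroup (Fin n) F := ⟨X, hdet⟩
    have hx1 : ∃ z : F, ((x ^ p : Matrix.SpecialLinearGroup (Fin n) F) :
        Matrix (Fin n) (Fin n) F) = z • (1 : Matrix (Fin n) (Fin n) F) := by
      refine ⟨1, ?_⟩
      rw [Matrix.SpecialLinearGroup.coe_pow, one_smul]
      exact hXp
    have hx2 : ∀ z : F, (x : Matrix (Fin n) (Fin n) F) ≠ z • (1 : Matrix (Fin n) (Fin n) F) := by
      intro z hz
      have hz' : X = z • (1 : Matrix (Fin n) (Fin n) F) := hz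
      have hN' : N = (z - 1) • (1 : Matrix (Fin n) (Fin n) F) := by
        rw [sub_smul, one_smul, ← hz', hXdef]
        abel
      have hz1 : z = 1 := by
        have h3 := hNp
        rw [hN', smul_pow, one_pow] at h3
        have h4 := congrFun (congrFun h3 0) 0
        simp only [Matrix.smul_apply, Matrix.one_apply_eq, smul_eq_mul, mul_one,
          Matrix.zero_apply] at h4
        exact sub_eq_zero.mp ((pow_eq_zero_iff hp'.ne_zero).mp h4)
      have hN0 : N = 0 := by rw [hN', hz1, sub_self, zero_smul]
      have hT0 : T = 0 := by rw [← hN, hN0, map_zero]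
      have h4 : Cfsg.Agent.Lib.Helper99.dker T 1 = n := by
        rw [Cfsg.Agent.Lib.Helper99.dker_eq_of_pow_eq_zero T (K := 1) (by rw [hT0, pow_one]) 1 le_rfl,
          Module.finrank_fintype_fun_eq_card, Fintype.card_fin]
      have h5 : Cfsg.Agent.Lib.Helper99.dker T 1 < n := by
        rw [hT, ← hsum]
        have := Multiset.sum_lt_sum (s := μ) (f := fun b => min b 1) (g := id)
          (fun b _ => min_le_left b 1)
          ⟨b₀, hb₀, by
            have := (hμ b₀ hb₀).1
            simp only [id]
            omega⟩
        simpa using this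
      omega
    obtain ⟨D, hD, σ, hσ⟩ := h x hx1 hx2
    -- the linear maps
    have hL : ∀ v, Matrix.toLin' X v = v + T v := by
      intro v
      rw [hXdef, map_add, Matrix.toLin'_one, hN]
      rfl
    have hLp : (Matrix.toLin' X) ^ p = 1 := by
      rw [← Matrix.toLin'_pow, hXp, Matrix.toLin'_one]
      rfl
    -- the rank of `T ^ (p - 1)`
    have hrank : Module.finrank F (LinearMap.range (T ^ (p - 1))) < a := by
      have h1 := Cfsg.Agent.Lib.Helper99.dker_add_finrank_range T (p - 1)
      rw [Module.finrank_fintype_fun_eq_card, Fintype.card_fin, hT] at h1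
      have h2 : ∀ ν : Multiset ℕ, (∀ b ∈ ν, b ≤ p) →
          (ν.map (fun b => min b (p - 1))).sum + ν.count p = ν.sum := by
        intro ν
        induction ν using Multiset.induction_on with
        | empty => intro _; simp
        | cons b ν ih =>
          intro hν
          have hb := hν b (Multiset.mem_cons_self b ν)
          have := ih (fun b' hb' => hν b' (Multiset.mem_cons_of_mem hb'))
          simp only [Multiset.map_cons, Multiset.sum_cons, Multiset.count_cons]
          have hp2 := hp'.two_le
          split_ifs with hbp <;> omega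
      have h3 := h2 μ (fun b hb => (hμ b hb).2)
      omega
    have hfix := Cfsg.Agent.Lib.Helper99.sigma_fixed p D hD.indep a hD.pos hD.finrank_eq
      (Matrix.toLin' X) T hL hLp σ hσ hrank
    -- the invariant complement
    have ht0 : 0 < t := by omega
    let j₀ : Fin t := ⟨0, ht0⟩
    have hinvL : ∀ j, ∀ v ∈ D j, Matrix.toLin' X v ∈ D j := by
      intro j v hv
      have h1 : Matrix.toLin' X v ∈ (D j).map (Matrix.toLin' X) := Submodule.mem_map_of_mem hv
      have h2 := hσ j
      rw [hfix j] at h2
      have h3 : (D j).map (Matrix.toLin' X) = D j := h2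
      rw [h3] at h1
      exact h1
    have hinvT : ∀ j, ∀ v ∈ D j, T v ∈ D j := by
      intro j v hv
      have h1 := hinvL j v hv
      rw [hL] at h1
      have : T v = (v + T v) - v := by abel
      rw [this]
      exact Submodule.sub_mem _ h1 hv
    have hc : IsCompl (D j₀) (⨆ (j) (_ : j ≠ j₀), D j) := by
      refine ⟨hD.indep j₀, ?_⟩
      rw [codisjoint_iff, ← iSup_split_single D j₀, hD.iSup_eq_top]
    have hU' : ∀ v ∈ (⨆ (j) (_ : j ≠ j₀), D j), T v ∈ (⨆ (j) (_ : j ≠ j₀), D j) := by
      intro v hv
      have hle : (⨆ (j) (_ : j ≠ j₀), D j) ≤ (⨆ (j) (_ : j ≠ j₀), D j).comap T := by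
        apply iSup₂_le
        intro j hj v hv
        rw [Submodule.mem_comap]
        exact (le_iSup₂_of_le j hj le_rfl : D j ≤ _) (hinvT j v hv)
      exact hle hv
    exact Cfsg.Agent.Lib.Helper99.exists_submultiset_of_invariant T p hTp (D j₀) _ hc (hinvT j₀) hU'
      μ hT a (hD.finrank_eq j₀)

end Cfsg.Agent.S5959
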