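import Cfsg.Statements.S5960
import Cfsg.Agent.Lib.Helper99.SympForm
import Cfsg.Agent.Lib.Helper99.HypAssemble

set_option autoImplicit false
open scoped MatrixGroups
open Cfsg

namespace Cfsg.Agent.S5960

/-- Involutions of PSp_n(q) and imprimitive subgroups. Here `T = PSp_n(q)`, `n = 2d ≥ 4`, `(n, q) ≠ (4, 2)`, realised through the symplectic matrices over the field `F` with `q` elements and the standard alternating form; `n = a·t` with `a` even and `t ≥ 2`, and Ω is the (nonempty) set of orthogonal decompositions of `F^n` into `t` nondegenerate subspaces of dimension `a` (unordered; counted as ordered ones divided by `t!`), whose stabilizers are the imprimitive subgroups of type Sp_a(q) ≀ S_t (maximality is not assumed); an element of `T` of prime order `r` (a symplectic matrix `x` with `x^r` scalar, `x` not scalar) fixes a point of Ω when it permutes the summands of some such decomposition. If the number of such decompositions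 is even, then every involution of `T` stabilizes one of them (the action is 2-elusive). -/
theorem result {F : Type*} [Field F] [Fintype F] {p : ℕ} [Fact p.Prime] [CharP F p] {q : ℕ} (hq : Fintype.card F = q)
    (d : ℕ) (hd : 2 ≤ d) (hT : (d, q) ≠ (2, 2))
    (a t : ℕ) (hat : 2 * d = a * t) (ha : 2 ≤ a) (hae : Even a) (ht : 2 ≤ t) (hΩ : 2 ∣ Nat.card {D : Fin t → Submodule F (Fin d ⊕ Fin d → F) // (Cfsg.Geo.IsMDecomposition a D ∧ (∀ j, ∀ u ∈ D j, u ≠ 0 → ∃ v ∈ D j, Cfsg.sympForm d F u v ≠ 0) ∧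
          (∀ j j', j ≠ j' → ∀ u ∈ D j, ∀ v ∈ D j', Cfsg.sympForm d F u v = 0))} / Nat.factorial t)
    (x : ↥(Matrix.symplecticGroup (Fin d) F))
    (hx1 : ∃ z : F, ((x ^ 2 : ↥(Matrix.symplecticGroup (Fin d) F)) : Matrix (Fin d ⊕ Fin d) (Fin d ⊕ Fin d) F) = z • (1 : Matrix (Fin d ⊕ Fin d) (Fin d ⊕ Fin d) F))
    (hx2 : ∀ z : F, (x : Matrix (Fin d ⊕ Fin d) (Fin d ⊕ Fin d) F) ≠ z • (1 : Matrix (Fin d ⊕ Fin d) (Fin d ⊕ Fin d) F)) :
    ∃ D : Fin t → Submodule F (Fin d ⊕ Fin d → F), (Cfsg.Geo.IsMDecomposition a D ∧ (∀ j, ∀ u ∈ D j, u ≠ 0 → ∃ v ∈ D j, Cfsg.sympForm d F u v ≠ 0) ∧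
          (∀ j j', j ≠ j' → ∀ u ∈ D j, ∀ v ∈ D j', Cfsg.sympForm d F u v = 0)) ∧
        ∃ σ : Equiv.Perm (Fin t), ∀ j, (D j).map (Matrix.toLin' (x : Matrix (Fin d ⊕ Fin d) (Fin d ⊕ Fin d) F)) = D (σ j) := by
  classical
  obtain ⟨z, hz⟩ := hx1
  obtain ⟨b, hb⟩ := hae
  have hb0 : 0 < b := by omega
  set ψ : (Fin d ⊕ Fin d → F) →ₗ[F] (Fin d ⊕ Fin d → F) :=
    Matrix.toLin' (x : Matrix (Fin d ⊕ Fin d) (Fin d ⊕ Fin d) F) with hψdef
  have hsq : (x : Matrix (Fin d ⊕ Fin d) (Fin d ⊕ Fin d) F) * (x : Matrix (Fin d ⊕ Fin d) (Fin d ⊕ Fin d) F) =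
      z • (1 : Matrix (Fin d ⊕ Fin d) (Fin d ⊕ Fin d) F) := by
    rw [← hz, pow_two]
    rfl
  have hψ : ∀ v, ψ (ψ v) = z • v := by
    intro v
    rw [hψdef, ← Matrix.toLin'_mul_apply, hsq]
    simp
  have hψB : ∀ u v, Cfsg.Agent.Lib.Helper99.sympB d (ψ u) (ψ v) = Cfsg.Agent.Lib.Helper99.sympB d u v :=
    fun u v => Cfsg.Agent.Lib.Helper99.sympB_preserved d _ x.2 u v
  have hnd := Cfsg.Agent.Lib.Helper99.sympB_nd (F := F) d
  have hz0 : z ≠ 0 := by
    rintro rfl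
    have hd0 : 0 < d := by omega
    set e : Fin d ⊕ Fin d → F := Pi.single (Sum.inl ⟨0, hd0⟩) 1 with he
    have he0 : e ≠ 0 := by
      intro h
      have := congrFun h (Sum.inl ⟨0, hd0⟩)
      simp [he] at this
    apply he0
    apply hnd e Submodule.mem_top
    intro v _
    rw [← hψB, ← hψB, hψ, zero_smul]
    simp
  have hdim : Module.finrank F (Fin d ⊕ Fin d → F) = 2 * b * t := by
    rw [Module.finrank_pi, Fintype.card_sum, Fintype.card_fin]
    have : a = 2 * b := by omega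
    rw [← this, ← hat]
    ring
  obtain ⟨D, σ, h1, h2, h3, h4, h5, h6⟩ := Cfsg.Agent.Lib.Helper99.exists_orth_decomp
    (Cfsg.Agent.Lib.Helper99.sympB_self d) hz0 hψ hψB hnd b t hb0 hdim
  have hab : 2 * b = a := by omega
  refine ⟨D, ⟨⟨ht, by omega, fun j => by rw [h1 j, hab], h2, h3⟩, ?_, ?_⟩, σ, h6⟩
  · intro j u hu hu0
    obtain ⟨v', hv', hne⟩ := h4 j u hu hu0
    exact ⟨v', hv', by rwa [Cfsg.Agent.Lib.Helper99.sympB_apply] at hne⟩
  · intro j j' hjj' u hu v' hv'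
    have := h5 j j' hjj' u hu v' hv'
    rwa [Cfsg.Agent.Lib.Helper99.sympB_apply] at this

end Cfsg.Agent.S5960
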