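import Cfsg.Statements.S5962
import Cfsg.Agent.Lib.Helper99.SympForm
import Cfsg.Agent.Lib.Helper99.Lagrangian

set_option autoImplicit false
open scoped MatrixGroups
open Cfsg

namespace Cfsg.Agent.S5962

/-- Involutions of PSp_n(q), q odd, and the subgroups GL_{n/2}(q).2. Here `T = PSp_n(q)`, `n = 2d ≥ 4`, `q` odd, realised through the symplectic matrices over the field `F` with `q` elements; Ω is the set of unordered pairs `{U, W}` of complementary totally isotropic `d`-spaces (`F^n = U ⊕ W`), whose stabilizers are the subgroups of type GL_d(q).2 (maximal except in some small cases; maximality is not assumed); an element of `T` of prime order `r` (a symplectic matrix `x` with `x^r` scalar, `x` not scalar) fixes such a pair when it fixes or interchanges `U` and `W`. If the number of such pairs is even, every involution of `T` fixes one of them (the action is 2-elusive). -/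
theorem result {F : Type*} [Field F] [Fintype F] {p : ℕ} [Fact p.Prime] [CharP F p] {q : ℕ} (hq : Fintype.card F = q)
    (d : ℕ) (hd : 2 ≤ d) (hT : (d, q) ≠ (2, 2)) (hodd : Odd q)
    (hΩ : 2 ∣ Nat.card {P : Submodule F (Fin d ⊕ Fin d → F) × Submodule F (Fin d ⊕ Fin d → F) // IsCompl P.1 P.2 ∧ (∀ u ∈ P.1, ∀ v ∈ P.1, Cfsg.sympForm d F u v = 0) ∧ (∀ u ∈ P.2, ∀ v ∈ P.2, Cfsg.sympForm d F u v = 0)} / 2)
    (x : ↥(Matrix.symplecticGroup (Fin d) F))
    (hx1 : ∃ z : F, ((x ^ 2 : ↥(Matrix.symplecticGroup (Fin d) F)) : Matrix (Fin d ⊕ Fin d) (Fin d ⊕ Fin d) F) = z • (1 : Matrix (Fin d ⊕ Fin d) (Fin d ⊕ Fin d) F))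
    (hx2 : ∀ z : F, (x : Matrix (Fin d ⊕ Fin d) (Fin d ⊕ Fin d) F) ≠ z • (1 : Matrix (Fin d ⊕ Fin d) (Fin d ⊕ Fin d) F)) :
    ∃ U W : Submodule F (Fin d ⊕ Fin d → F), IsCompl U W ∧ (∀ u ∈ U, ∀ v ∈ U, Cfsg.sympForm d F u v = 0) ∧ (∀ u ∈ W, ∀ v ∈ W, Cfsg.sympForm d F u v = 0) ∧
        ((U.map (Matrix.toLin' (x : Matrix (Fin d ⊕ Fin d) (Fin d ⊕ Fin d) F)) = U ∧ W.map (Matrix.toLin' (x : Matrix (Fin d ⊕ Fin d) (Fin d ⊕ Fin d) F)) = W) ∨
         (U.map (Matrix.toLin' (x : Matrix (Fin d ⊕ Fin d) (Fin d ⊕ Fin d) F)) = W ∧ W.map (Matrix.toLin' (x : Matrix (Fin d ⊕ Fin d) (Fin d ⊕ Fin d) F)) = U)) := by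
  classical
  obtain ⟨z, hz⟩ := hx1
  set ψ : (Fin d ⊕ Fin d → F) →ₗ[F] (Fin d ⊕ Fin d → F) :=
    Matrix.toLin' (x : Matrix (Fin d ⊕ Fin d) (Fin d ⊕ Fin d) F) with hψdef
  have hsq : (x : Matrix (Fin d ⊕ Fin d) (Fin d ⊕ Fin d) F) * (x : Matrix (Fin d ⊕ Fin d) (Fin d ⊕ Fin d) F) =
      z • (1 : Matrix (Fin d ⊕ Fin d) (Fin d ⊕ Fin d) F) := by
    rw [← hz, pow_two]
    rfl
  have hψ : ∀ v, ψ (ψ v) = z • v := by
    intro v
    rw [hψdef, ← Matrix.toLin'_mul_apply, hsq]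
    simp
  have hψB : ∀ u v, Cfsg.Agent.Lib.Helper99.sympB d (ψ u) (ψ v) = Cfsg.Agent.Lib.Helper99.sympB d u v :=
    fun u v => Cfsg.Agent.Lib.Helper99.sympB_preserved d _ x.2 u v
  have hnd := Cfsg.Agent.Lib.Helper99.sympB_nd (F := F) d
  have hz0 : z ≠ 0 := by
    rintro rfl
    have hd0 : 0 < d := by omega
    set e : Fin d ⊕ Fin d → F := Pi.single (Sum.inl ⟨0, hd0⟩) 1 with he
    have he0 : e ≠ 0 := by
      intro h
      have := congrFun h (Sum.inl ⟨0, hd0⟩)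
      simp [he] at this
    apply he0
    apply hnd e Submodule.mem_top
    intro v _
    rw [← hψB, ← hψB, hψ, zero_smul]
    simp
  have h2 : (2 : F) ≠ 0 := by
    intro h
    have hp2 : p ∣ 2 := by
      have := (CharP.cast_eq_zero_iff F p 2).mp (by exact_mod_cast h)
      exact this
    have hpq : p ∣ q := by
      obtain ⟨n, -, hn⟩ := FiniteField.card F p
      rw [← hq, hn]
      exact dvd_pow_self p n.ne_zero
    have hp : p = 2 := (Nat.prime_dvd_prime_iff_eq (Fact.out) Nat.prime_two).mp hp2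
    rw [hp] at hpq
    exact (Nat.not_even_iff_odd.mpr hodd) (even_iff_two_dvd.mpr hpq)
  obtain ⟨U, W, h1, h3, h4, h5⟩ := Cfsg.Agent.Lib.Helper99.exists_lagrangian_pair
    (Cfsg.Agent.Lib.Helper99.sympB_self d) hz0 hψ hψB hnd h2
  refine ⟨U, W, h1, ?_, ?_, h5⟩
  · intro u hu v hv
    have := h3 u hu v hv
    rwa [Cfsg.Agent.Lib.Helper99.sympB_apply] at this
  · intro u hu v hv
    have := h4 u hu v hv
    rwa [Cfsg.Agent.Lib.Helper99.sympB_apply] at this

end Cfsg.Agent.S5962
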