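import Cfsg.Statements.S5963
import Cfsg.Agent.Lib.Helper8.SpIrredElt

set_option autoImplicit false
open scoped MatrixGroups
open Cfsg

namespace Cfsg.Agent.S5963

/-- Derangements of odd prime order of PSp_n(q), q odd, on pairs of complementary totally isotropic subspaces. Here `T = PSp_n(q)`, `n = 2d ≥ 4`, `q` odd, realised through the symplectic matrices over the field `F` with `q` elements; Ω is the set of unordered pairs `{U, W}` of complementary totally isotropic `d`-spaces (`F^n = U ⊕ W`), whose stabilizers are the subgroups of type GL_d(q).2 (maximal except in some small cases; maximality is not assumed); an element of `T` of prime order `r` (a symplectic matrix `x` with `x^r` scalar, `x` not scalar) fixes such a pair when it fixes or interchanges `U` and `W`. For every odd prime `r ≠ p` dividing the number of such pairs, some element of `T` of order `r` fixes no such pair (the action is never `r`-elusive for odd `r ≠ p`).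 -/
theorem result {F : Type*} [Field F] [Fintype F] {p : ℕ} [Fact p.Prime] [CharP F p] {q : ℕ} (hq : Fintype.card F = q)
    (d : ℕ) (hd : 2 ≤ d) (hT : (d, q) ≠ (2, 2)) (hodd : Odd q)
    (r : ℕ) [Fact r.Prime] (hr2 : r ≠ 2) (hrp : r ≠ p) (hΩ : r ∣ Nat.card {P : Submodule F (Fin d ⊕ Fin d → F) × Submodule F (Fin d ⊕ Fin d → F) // IsCompl P.1 P.2 ∧ (∀ u ∈ P.1, ∀ v ∈ P.1, Cfsg.sympForm d F u v = 0) ∧ (∀ u ∈ P.2, ∀ v ∈ P.2, Cfsg.sympForm d F u v = 0)} / 2) :
    ∃ x : ↥(Matrix.symplecticGroup (Fin d) F),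
      (∃ z : F, ((x ^ r : ↥(Matrix.symplecticGroup (Fin d) F)) : Matrix (Fin d ⊕ Fin d) (Fin d ⊕ Fin d) F) = z • (1 : Matrix (Fin d ⊕ Fin d) (Fin d ⊕ Fin d) F)) ∧
      (∀ z : F, (x : Matrix (Fin d ⊕ Fin d) (Fin d ⊕ Fin d) F) ≠ z • (1 : Matrix (Fin d ⊕ Fin d) (Fin d ⊕ Fin d) F)) ∧
      ¬ (∃ U W : Submodule F (Fin d ⊕ Fin d → F), IsCompl U W ∧ (∀ u ∈ U, ∀ v ∈ U, Cfsg.sympForm d F u v = 0) ∧ (∀ u ∈ W, ∀ v ∈ W, Cfsg.sympForm d F u v = 0) ∧
        ((U.map (Matrix.toLin' (x : Matrix (Fin d ⊕ Fin d) (Fin d ⊕ Fin d) F)) = U ∧ W.map (Matrix.toLin' (x : Matrix (Fin d ⊕ Fin d) (Fin d ⊕ Fin d) F)) = W) ∨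
         (U.map (Matrix.toLin' (x : Matrix (Fin d ⊕ Fin d) (Fin d ⊕ Fin d) F)) = W ∧ W.map (Matrix.toLin' (x : Matrix (Fin d ⊕ Fin d) (Fin d ⊕ Fin d) F)) = U))) := by
  classical
  have hpP : p.Prime := Fact.out
  have hrP : r.Prime := Fact.out
  -- 2 ≠ 0 in F
  have hp2 : p ≠ 2 := by
    rintro rfl
    obtain ⟨n, -, hn⟩ := FiniteField.card F 2
    rw [hq] at hn
    rw [hn] at hodd
    have : Even (2 ^ (n : ℕ)) := (Nat.even_pow' n.ne_zero).2 even_two
    exact (Nat.not_even_iff_odd.2 hodd) this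
  have h2F : (2 : F) ≠ 0 := by
    intro h
    have h' : ((2 : ℕ) : F) = 0 := by exact_mod_cast h
    rw [CharP.cast_eq_zero_iff F p] at h'
    exact hp2 ((Nat.prime_dvd_prime_iff_eq hpP Nat.prime_two).1 h')
  have hrq : ¬ r ∣ Fintype.card F := by
    obtain ⟨n, -, hn⟩ := FiniteField.card F p
    rw [hn]
    intro h
    exact hrp ((Nat.prime_dvd_prime_iff_eq hrP hpP).1 (hrP.dvd_of_dvd_pow h))
  obtain ⟨i, hid, hri⟩ :=
    Cfsg.Agent.Lib.Helper8.exists_dvd_pow_add_one_of_dvd_card_lagPairs (F := F) (d := d)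
      (by omega) r hrP hrq hΩ
  -- number theory
  set Q : ZMod r := ((Fintype.card F : ℕ) : ZMod r) with hQ
  have hQi : Q ^ (i + 1) = -1 := by
    have h0 : ((Fintype.card F ^ (i + 1) + 1 : ℕ) : ZMod r) = 0 :=
      (ZMod.natCast_eq_zero_iff _ _).2 hri
    push_cast at h0
    exact eq_neg_of_add_eq_zero_left h0
  have hneg1 : (-1 : ZMod r) ≠ 1 := by
    intro h
    have h2 : (2 : ZMod r) = 0 := by
      have : (1 : ZMod r) + 1 = 0 := by nth_rewrite 1 [← h]; ring
      rw [← this]; norm_num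
    have h2' : ((2 : ℕ) : ZMod r) = 0 := by exact_mod_cast h2
    rw [ZMod.natCast_eq_zero_iff] at h2'
    exact hr2 ((Nat.prime_dvd_prime_iff_eq hrP Nat.prime_two).1 h2')
  have hQ2 : Q ^ (2 * (i + 1)) = 1 := by
    rw [mul_comm, pow_mul, hQi]; ring
  have he1 : orderOf Q ∣ 2 * (i + 1) := orderOf_dvd_of_pow_eq_one hQ2
  have he2 : ¬ orderOf Q ∣ (i + 1) := by
    intro h
    have := orderOf_dvd_iff_pow_eq_one.1 h
    rw [hQi] at this
    exact hneg1 this
  have heven : 2 ∣ orderOf Q := by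
    by_contra h2
    have hcop : Nat.Coprime (orderOf Q) 2 :=
      (Nat.coprime_comm.1 ((Nat.Prime.coprime_iff_not_dvd Nat.prime_two).2 h2))
    exact he2 (hcop.dvd_of_dvd_mul_left he1)
  obtain ⟨j, hj⟩ := heven
  have hjdvd : j ∣ i + 1 := by
    rw [hj] at he1
    exact Nat.dvd_of_mul_dvd_mul_left (by norm_num) he1
  have hj1 : 1 ≤ j := by
    rcases Nat.eq_zero_or_pos j with h0 | h0
    · exfalso
      rw [h0] at hjdvd
      have := Nat.eq_zero_of_zero_dvd hjdvd
      omega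
    · exact h0
  have hjd : j ≤ d := by
    have := Nat.le_of_dvd (by omega) hjdvd
    omega
  have hQj2 : (Q ^ j) ^ 2 = 1 := by
    rw [← pow_mul, mul_comm, ← hj]
    exact pow_orderOf_eq_one Q
  have hQj1 : Q ^ j ≠ 1 := by
    intro h
    have := orderOf_dvd_of_pow_eq_one h
    rw [hj] at this
    have := Nat.le_of_dvd (by omega) this
    omega
  have hQjm : Q ^ j = -1 := by
    have h : (Q ^ j - 1) * (Q ^ j + 1) = 0 := by
      have : (Q ^ j - 1) * (Q ^ j + 1) = (Q ^ j) ^ 2 - 1 := by ring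
      rw [this, hQj2, sub_self]
    rcases mul_eq_zero.1 h with h | h
    · exact absurd (sub_eq_zero.1 h) hQj1
    · exact eq_neg_of_add_eq_zero_left h
  have hrj : r ∣ Fintype.card F ^ j + 1 := by
    rw [← ZMod.natCast_eq_zero_iff]
    push_cast
    rw [← hQ, hQjm]
    ring
  obtain ⟨x, hx1, hx2, hx3⟩ :=
    Cfsg.Agent.Lib.Helper8.exists_irred_elt (F := F) p h2F d j hj1 hjd r hr2 hrj hj
  exact ⟨x, ⟨1, by rw [hx1, one_smul]⟩, hx2, hx3⟩

end Cfsg.Agent.S5963
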