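import Cfsg.Statements.S5964
import Cfsg.Agent.Lib.Helper44.SubfMain
import Cfsg.Agent.Lib.Helper44.SubfE

set_option autoImplicit false
open scoped MatrixGroups
open Cfsg

namespace Cfsg.Agent.S5964

/-- Involutions of PSL_n(q) and subfield subgroups. Here `T = PSL_n(F)` for a field `F` with `q = p^f` elements (`n ≥ 2`, `(n, q) ≠ (2, 2), (2, 3)`), `F₀` is the subfield with `q₀` elements where `q = q₀^k` for a prime `k`, and `H` is the subgroup of matrices of determinant 1 lying in the subfield group of `F₀` (invertible matrices over `F₀` times scalars) — a maximal subgroup of type GL_n(q₀) (the case `n = 2`, `q₀ = 2` is excluded); Ω is the set of `T`-conjugates of `H` (cosets of `H`), so an element of `T` of prime order `r` (a matrix `x` of determinant 1 with `x^r` scalar, `x` not scalar) fixes a point of Ω when some conjugate of `x` by a matrix of determinant 1 lies in `H`. Suppose the index of `H` is even. Then every involution of `T` is conjugate in `T` into `H` if and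 only if either `q` is even, or `k = 2` and `(n)_2 ≤ (q − 1)_2`. (For `q` odd and `k` odd the index of `H` is odd, so that case does not arise.) -/
theorem result {F : Type*} [Field F] [Fintype F] {p : ℕ} [Fact p.Prime] [CharP F p] {q : ℕ} (hq : Fintype.card F = q)
    (n : ℕ) (hn : 2 ≤ n) (hT : (n, q) ≠ (2, 2) ∧ (n, q) ≠ (2, 3))
    (F₀ : Subfield F) (k q₀ : ℕ) (hk : k.Prime) (hF₀ : Nat.card ↥F₀ = q₀) (hqk : q = q₀ ^ k) (hC5 : ¬ (n = 2 ∧ q₀ = 2)) (hΩ : 2 ∣ ((Cfsg.Geo.subfieldSubgroup F₀ 1).comap (Matrix.SpecialLinearGroup.toGL : Matrix.SpecialLinearGroup (Fin n) F →* GL (Fin n) F)).index) :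
    (∀ x : Matrix.SpecialLinearGroup (Fin n) F,
      (∃ z : F, ((x ^ 2 : Matrix.SpecialLinearGroup (Fin n) F) : Matrix (Fin n) (Fin n) F) = z • (1 : Matrix (Fin n) (Fin n) F)) →
      (∀ z : F, (x : Matrix (Fin n) (Fin n) F) ≠ z • (1 : Matrix (Fin n) (Fin n) F)) →
      ∃ P : Matrix.SpecialLinearGroup (Fin n) F, P⁻¹ * x * P ∈ ((Cfsg.Geo.subfieldSubgroup F₀ 1).comap (Matrix.SpecialLinearGroup.toGL : Matrix.SpecialLinearGroup (Fin n) F →* GL (Fin n) F))) ↔
    (Odd q → (k = 2 ∧ padicValNat 2 n ≤ padicValNat 2 (q - 1))) := by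
  subst hq
  have hn0 : n ≠ 0 := by omega
  have h2iff : (2 : F) = 0 ↔ Fintype.card F % 2 = 0 :=
    Cfsg.Agent.Lib.Helper44.SLInv.two_eq_zero_iff_even_card
  constructor
  · intro hall hodd
    have h2 : (2 : F) ≠ 0 := by
      intro h
      have h3 := h2iff.1 h
      rw [Nat.odd_iff] at hodd
      omega
    have hk2 : k = 2 := by
      by_contra hk2
      have hkodd : Odd k := hk.odd_of_ne_two hk2
      exact Cfsg.Agent.Lib.Helper44.SLInv.not_two_dvd_index_subfield F₀ k q₀ hkodd hF₀ hqk hodd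
        (by omega) hΩ
    refine ⟨hk2, ?_⟩
    by_contra hlt
    rw [not_le] at hlt
    have hcard : Fintype.card F = Nat.card F₀ ^ 2 := by rw [hqk, hF₀, hk2]
    obtain ⟨x, hx2, hxns, hno⟩ :=
      Cfsg.Agent.Lib.Helper44.SLInv.exists_not_conj_mem_subfield F₀ h2 hcard hlt
    obtain ⟨P, hP⟩ := hall x hx2 hxns
    exact hno P hP
  · intro hcond x hx2 hxns
    obtain ⟨z, hz⟩ := hx2
    have hcond' : (2 : F) = 0 ∨ ((2 : F) ≠ 0 ∧ Fintype.card F = Nat.card F₀ ^ 2 ∧
        padicValNat 2 n ≤ padicValNat 2 (Fintype.card F - 1)) := by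
      by_cases h2 : (2 : F) = 0
      · exact Or.inl h2
      · have hodd : Odd (Fintype.card F) := by
          rw [Nat.odd_iff]
          have h3 : ¬ Fintype.card F % 2 = 0 := fun h => h2 (h2iff.2 h)
          omega
        obtain ⟨hk2, hle⟩ := hcond hodd
        exact Or.inr ⟨h2, by rw [hqk, hF₀, hk2], hle⟩
    exact Cfsg.Agent.Lib.Helper44.SLInv.exists_conj_mem_subfield hn0 F₀ hcond' x z hz hxns

end Cfsg.Agent.S5964
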