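import Cfsg.Statements.S5965
import Cfsg.Agent.Lib.Helper2.BGMain
import Cfsg.Agent.Lib.Helper97.SfrA
import Cfsg.Agent.Lib.Helper83.SfrK
import Cfsg.Agent.Lib.Helper83.SfrDiag
import Cfsg.Agent.Lib.Helper83.SfrD
import Cfsg.Agent.Lib.Helper44.SfrRoots
import Cfsg.Agent.Lib.Helper44.SfrBlock
import Cfsg.Agent.Lib.Helper44.SfrTypeB
import Cfsg.Agent.Lib.Helper44.SfrGood
import Cfsg.Agent.Lib.Helper44.SfrSpecial

set_option autoImplicit false
open scoped MatrixGroups
open Cfsg
open Cfsg.Agent.Lib.Helper2.BG Cfsg.Agent.Lib.Helper44.Sfr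

namespace Cfsg.Agent.S5965

/-- Elements of odd prime order r ≠ p of PSL_n(q) and subfield subgroups. Here `T = PSL_n(F)` for a field `F` with `q = p^f` elements (`n ≥ 2`, `(n, q) ≠ (2, 2), (2, 3)`), `F₀` is the subfield with `q₀` elements where `q = q₀^k` for a prime `k`, and `H` is the subgroup of matrices of determinant 1 lying in the subfield group of `F₀` (invertible matrices over `F₀` times scalars) — a maximal subgroup of type GL_n(q₀) (the case `n = 2`, `q₀ = 2` is excluded); Ω is the set of `T`-conjugates of `H` (cosets of `H`), so an element of `T` of prime order `r` (a matrix `x` of determinant 1 with `x^r` scalar, `x` not scalar) fixes a point of Ω when some conjugate of `x` by a matrix of determinant 1 lies in `H`. Let `r ≠ p` be an odd prime dividing the index of `H`, with `(n, r) ≠ (6, 3)` and, when `r = k` divides `q₀ − 1`, with `(n)_r ≤ (q − 1)_r`. Then every element of `T` of order `r` is conjugate in `T` into `H` if and only if `r = k`, or `k = 2`, `r = n ∈ {3, 5}` and `(q₀ + 1)_r = r`. The two excluded cases, `(n,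 r) = (6, 3)` and `r = k ∣ q₀ − 1` with `(n)_r > (q − 1)_r`, are ones where this criterion can fail, so they are left out. -/
theorem result {F : Type*} [Field F] [Fintype F] {p : ℕ} [Fact p.Prime] [CharP F p] {q : ℕ} (hq : Fintype.card F = q)
    (n : ℕ) (hn : 2 ≤ n) (hT : (n, q) ≠ (2, 2) ∧ (n, q) ≠ (2, 3))
    (F₀ : Subfield F) (k q₀ : ℕ) (hk : k.Prime) (hF₀ : Nat.card ↥F₀ = q₀) (hqk : q = q₀ ^ k) (hC5 : ¬ (n = 2 ∧ q₀ = 2)) (r : ℕ) [Fact r.Prime] (hr2 : r ≠ 2) (hrp : r ≠ p) (hgap : ¬ (n = 6 ∧ r = 3)) (hgapk : r = k → r ∣ q₀ - 1 → padicValNat r n ≤ padicValNat r (q - 1)) (hΩ : r ∣ ((Cfsg.Geo.subfieldSubgroup F₀ 1).comap (Matrix.SpecialLinearGroup.toGL : Matrix.SpecialLinearGroup (Fin n) F →* GL (Fin n) F)).index) :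
    (∀ x : Matrix.SpecialLinearGroup (Fin n) F,
      (∃ z : F, ((x ^ r : Matrix.SpecialLinearGroup (Fin n) F) : Matrix (Fin n) (Fin n) F) = z • (1 : Matrix (Fin n) (Fin n) F)) →
      (∀ z : F, (x : Matrix (Fin n) (Fin n) F) ≠ z • (1 : Matrix (Fin n) (Fin n) F)) →
      ∃ P : Matrix.SpecialLinearGroup (Fin n) F, P⁻¹ * x * P ∈ ((Cfsg.Geo.subfieldSubgroup F₀ 1).comap (Matrix.SpecialLinearGroup.toGL : Matrix.SpecialLinearGroup (Fin n) F →* GL (Fin n) F))) ↔
    (r = k ∨ (k = 2 ∧ r = n ∧ (n = 3 ∨ n = 5) ∧ padicValNat r (q₀ + 1) = 1)) := by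
  subst hq
  subst hF₀
  have hr : r.Prime := Fact.out
  have hq₀pos : 0 < Nat.card F₀ := Nat.card_pos
  have hqpos : 0 < Fintype.card F := Fintype.card_pos
  have hqcast : ((Fintype.card F : ℕ) : ZMod r) = ((Nat.card F₀ : ℕ) : ZMod r) ^ k := by
    rw [hqk]; push_cast; rfl
  have hdpos : 0 < orderOf ((Fintype.card F : ℕ) : ZMod r) := orderOf_pos_of_ne (p := p) hrp
  constructor
  · intro hall
    by_contra hcon
    push Not at hcon
    obtain ⟨hrk, hspec⟩ := hcon
    have hkd : k ∣ orderOf ((Nat.card F₀ : ℕ) : ZMod r) := by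
      by_contra hkd
      exact not_dvd_index_of_not_dvd_order n (by omega) F₀ k hk hqk r hr2 hrp hrk hkd hΩ
    have hdn : orderOf ((Fintype.card F : ℕ) : ZMod r) ≤ n :=
      order_le_of_dvd_index n (by omega) F₀ r hrp hΩ
    have hd₀pos : 0 < orderOf ((Nat.card F₀ : ℕ) : ZMod r) := by
      apply orderOf_pos_iff.mpr
      have h1 : IsOfFinOrder (((Nat.card F₀ : ℕ) : ZMod r) ^ k) := by
        rw [← hqcast]; exact orderOf_pos_iff.mp hdpos
      exact (isOfFinOrder_pow.1 h1).resolve_right hk.ne_zero
    have hdd₀ : orderOf ((Fintype.card F : ℕ) : ZMod r) * k =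
        orderOf ((Nat.card F₀ : ℕ) : ZMod r) := by
      rw [hqcast, orderOf_pow' _ hk.ne_zero, Nat.gcd_eq_right hkd]
      exact Nat.div_mul_cancel hkd
    by_cases hd2 : 2 ≤ orderOf ((Fintype.card F : ℕ) : ZMod r)
    · obtain ⟨x, hx1, hx2, hx3⟩ := exists_bad_block n F₀ r hrp hd2 hdn (by
        intro h
        rw [h] at hdd₀
        have hk2 := hk.two_le
        nlinarith)
      exact hx3 (hall x ⟨1, by rw [hx1, one_smul]⟩ hx2)
    · have hd1 : orderOf ((Fintype.card F : ℕ) : ZMod r) = 1 := by omega
      have hd₀k : orderOf ((Nat.card F₀ : ℕ) : ZMod r) = k := by rw [← hdd₀, hd1, one_mul]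
      have hrq : r ∣ Fintype.card F - 1 := (orderOf_eq_one_iff_dvd _ hqpos).1 hd1
      have hrq₀ : ¬ r ∣ Nat.card F₀ - 1 := by
        intro h
        have := (orderOf_eq_one_iff_dvd _ hq₀pos).2 h
        rw [hd₀k] at this
        exact hk.one_lt.ne' this
      obtain ⟨ω, hω, hω1⟩ := exists_root_of_unity (F := F) r hrq
      set u : ZMod r := ((Nat.card F₀ : ℕ) : ZMod r) with hu
      have hu0 : u ≠ 0 := by
        intro h0
        rw [h0, orderOf_zero] at hd₀pos
        · exact lt_irrefl _ hd₀pos
      have hu1 : u ≠ 1 := by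
        intro h1
        rw [h1, orderOf_one] at hd₀k
        exact hk.one_lt.ne hd₀k
      have hdiag : ∀ (c : F) (e : Fin n → ZMod r), c ^ n * ω ^ (∑ i, e i).val = 1 →
          (∃ i j, e i ≠ e j) → (¬ ∃ t : ZMod r, Multiset.map e Finset.univ.val =
            Multiset.map (fun i => u * e i + t) Finset.univ.val) → False := by
        rintro c e hdet ⟨i, j, hij⟩ hbad
        have hc0 : c ≠ 0 := by
          rintro rfl
          rw [zero_pow (by omega), zero_mul] at hdet
          exact zero_ne_one hdet
        obtain ⟨x, hx1, hx2⟩ := exists_diag n r ω hω c e hdet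
        apply hbad
        apply diag_conj_necessary n F₀ r hrp ω hω hω1 c e x hx1
        apply hall x ⟨c ^ r, hx2⟩
        intro z
        rw [hx1]
        exact diag_ne_scalar n r ω hω hω1 c hc0 e i j hij z
      have h10 : (1 : ZMod r) ≠ 0 := one_ne_zero
      by_cases hk3 : 3 ≤ k
      · have hu2 : u ≠ -1 := by
          intro h2
          have : u ^ 2 = 1 := by rw [h2]; ring
          have := orderOf_dvd_of_pow_eq_one this
          rw [hd₀k] at this
          have := Nat.le_of_dvd (by norm_num) this
          omega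
        by_cases hn2 : n = 2
        · subst hn2
          refine hdiag 1 (![1, -1] : Fin 2 → ZMod r) (by simp) ⟨0, 1, ?_⟩
            (no_shift_E2_two r hr2 u hu0 hu1 hu2)
          simp only [Matrix.cons_val_zero, Matrix.cons_val_one]
          intro h
          have h2 : (2 : ZMod r) = 0 := by linear_combination h
          have : ((2 : ℕ) : ZMod r) = 0 := by exact_mod_cast h2
          rw [ZMod.natCast_eq_zero_iff] at this
          exact hr2 ((Nat.prime_dvd_prime_iff_eq hr Nat.prime_two).1 this)
        · have hn3 : 3 ≤ n := by omega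
          refine hdiag 1 (expo n r 1 (-1) 0) (by rw [sum_expo_id n r hn3]; simp)
            ⟨⟨2, by omega⟩, ⟨0, by omega⟩, by simp [expo]⟩ (no_shift_E2 n r hr2 hn3 u hu0 hu1 hu2)
      · have hk2 : k = 2 := by have := hk.two_le; omega
        subst hk2
        have hn3 : 3 ≤ n := by
          by_contra hlt
          have hn2 : n = 2 := by omega
          subst hn2
          exact not_dvd_index_two F₀ hqk r hr2 hrp hrq hΩ
        have hum : u = -1 := by
          have h2 : u ^ 2 = 1 := by rw [← hd₀k]; exact pow_orderOf_eq_one u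
          have : (u - 1) * (u + 1) = 0 := by ring_nf; rw [h2]; ring
          rcases mul_eq_zero.1 this with h | h
          · exact absurd (sub_eq_zero.1 h) hu1
          · exact eq_neg_of_add_eq_zero_left h
        rcases lt_trichotomy (padicValNat r n) (padicValNat r (Fintype.card F - 1)) with hlt | heq | hgt
        · obtain ⟨c, hc⟩ := exists_root_E1 (F := F) n (by omega) r ω hω hlt
          refine hdiag c (expo n r 1 0 0) (by
            rw [sum_expo_id n r hn3]
            simp only [add_zero]
            rw [ZMod.val_one, pow_one]; exact hc)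
            ⟨⟨2, by omega⟩, ⟨0, by omega⟩, by simp [expo]⟩ (no_shift_E1 n r hn3 u hu0 hu1)
        · -- `r ∣ n`
          have hq1 : Fintype.card F - 1 ≠ 0 := by
            have := Fintype.one_lt_card (α := F); omega
          have hv1 : 1 ≤ padicValNat r (Fintype.card F - 1) :=
            one_le_padicValNat_of_dvd hq1 hrq
          have hrn : r ∣ n := by
            have : 1 ≤ padicValNat r n := by omega
            exact dvd_of_one_le_padicValNat this
          have hn6 : 6 ≤ n ∧ ¬ (n = 6 ∧ r = 3) := by
            refine ⟨?_, hgap⟩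
            have hr3 : 3 ≤ r := by have := hr.two_le; omega
            by_cases hnr : r = n
            · have hvn : padicValNat r n = 1 := by rw [← hnr]; exact padicValNat_self
              have hq₀2 : 2 ≤ Nat.card F₀ := by
                by_contra hlt
                have h1 : Nat.card F₀ = 1 := by omega
                rw [h1, one_pow] at hqk
                have := Fintype.one_lt_card (α := F); omega
              have hfac : Fintype.card F - 1 = (Nat.card F₀ - 1) * (Nat.card F₀ + 1) := by
                rw [hqk]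
                have : 1 ≤ Nat.card F₀ ^ 2 := Nat.one_le_pow _ _ hq₀pos
                zify [this, hq₀pos]
                ring
              have h0 : padicValNat r (Nat.card F₀ - 1) = 0 :=
                padicValNat.eq_zero_of_not_dvd hrq₀
              have hv2 : padicValNat r (Nat.card F₀ + 1) = 1 := by
                have := padicValNat.mul (p := r) (a := Nat.card F₀ - 1) (b := Nat.card F₀ + 1)
                  (by omega) (by omega)
                rw [← hfac, h0, zero_add] at this
                omega
              have hn35 : ¬ (n = 3 ∨ n = 5) := fun h => hspec rfl hnr h hv2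
              have hn4 : n ≠ 4 := by
                rintro rfl
                rw [hnr] at hr
                norm_num at hr
              omega
            · obtain ⟨m, hm⟩ := hrn
              have : 2 ≤ m := by
                rcases m with _ | _ | m
                · omega
                · omega
                · omega
              nlinarith
          rw [hum] at hdiag
          refine hdiag 1 (expo n r 1 1 (-2)) (by rw [sum_expo_id n r hn3]; simp; norm_num)
            ⟨⟨3, by omega⟩, ⟨0, by omega⟩, by simp [expo]⟩ (no_shift_E3 n r hr2 hn6.1 hn6.2)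
        · obtain ⟨x, hx1, hx2, hx3⟩ := exists_bad_typeB n (by omega) F₀ r hr2 hrp hrq hrq₀ hgt
          exact hx3 (hall x hx1 hx2)
  · rintro (hrk | ⟨hk2, hrn, hn35, hv⟩)
    · subst hrk
      intro x hx _
      refine good_of_eq n hn F₀ r hr2 hrp hqk (fun h => hgapk rfl h) x hx
    · subst hk2
      intro x hx hxns
      exact good_special n F₀ r hrp hqk hrn hn35 hv x hx hxns

end Cfsg.Agent.S5965
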