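import Cfsg.Statements.S5967
import Cfsg.Agent.Lib.Helper44.SLInvMain

set_option autoImplicit false
open scoped MatrixGroups
open Cfsg

namespace Cfsg.Agent.S5967

/-- Involutions of PSL_n(q) and the symplectic-type subgroups. Here `T = PSL_n(F)` for a field `F` with `q` elements, `n ≥ 4` even, `f` is a nondegenerate alternating form on `F^n`, and `H` is the subgroup of matrices of determinant 1 preserving `f` up to a scalar — a maximal subgroup of type Sp_n(q); Ω is the set of `T`-conjugates of `H` (cosets of `H`), so an element of `T` of prime order `r` (a matrix `x` of determinant 1 with `x^r` scalar, `x` not scalar) fixes a point of Ω when some conjugate of `x` by a matrix of determinant 1 preserves `f` up to a scalar. Suppose the index of `H` is even. Then every involution of `T` is conjugate in `T` into `H` if and only if `(q − 1)_2 ≤ (n)_2`. -/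
theorem result {F : Type*} [Field F] [Fintype F] {p : ℕ} [Fact p.Prime] [CharP F p] {q : ℕ} (hq : Fintype.card F = q)
    (n : ℕ) (hn : 4 ≤ n) (he : Even n) (f : (Fin n → F) → (Fin n → F) → F) (hf : Cfsg.Geo.IsSymplecticForm f)
    (hΩ : 2 ∣ ((Cfsg.Geo.similarityGroup f).comap (Matrix.SpecialLinearGroup.toGL : Matrix.SpecialLinearGroup (Fin n) F →* GL (Fin n) F)).index) :
    (∀ x : Matrix.SpecialLinearGroup (Fin n) F,
      (∃ z : F, ((x ^ 2 : Matrix.SpecialLinearGroup (Fin n) F) : Matrix (Fin n) (Fin n) F) = z • (1 : Matrix (Fin n) (Fin n) F)) →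
      (∀ z : F, (x : Matrix (Fin n) (Fin n) F) ≠ z • (1 : Matrix (Fin n) (Fin n) F)) →
      ∃ P : Matrix.SpecialLinearGroup (Fin n) F, P⁻¹ * x * P ∈ ((Cfsg.Geo.similarityGroup f).comap (Matrix.SpecialLinearGroup.toGL : Matrix.SpecialLinearGroup (Fin n) F →* GL (Fin n) F))) ↔
    padicValNat 2 (q - 1) ≤ padicValNat 2 n := by
  subst hq
  have hn0 : n ≠ 0 := by omega
  constructor
  · intro hall
    by_contra hlt
    rw [not_le] at hlt
    have h2 : (2 : F) ≠ 0 := by
      intro h
      have := ringChar.charP F
      have hch : ringChar F = 2 := by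
        have hd : ringChar F ∣ 2 := (ringChar.spec F 2).1 (by exact_mod_cast h)
        exact (Nat.prime_dvd_prime_iff_eq (CharP.char_is_prime F (ringChar F)) Nat.prime_two).1 hd
      have hev := FiniteField.even_card_of_char_two hch
      have hdv : 2 ∣ Fintype.card F - 1 := dvd_of_one_le_padicValNat (by omega)
      have := Fintype.one_lt_card (α := F)
      omega
    obtain ⟨x, hx2, hxns, hno⟩ :=
      Cfsg.Agent.Lib.Helper44.SLInv.exists_not_conj_mem_similarity (by omega) f hf h2 hlt
    obtain ⟨P, hP⟩ := hall x hx2 hxns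
    exact hno P hP
  · intro hle x hx2 hxns
    obtain ⟨z, hz⟩ := hx2
    exact Cfsg.Agent.Lib.Helper44.SLInv.exists_conj_mem_similarity hn0 he f hf hle x z hz hxns

end Cfsg.Agent.S5967
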