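import Cfsg.Statements.S5968
import Cfsg.Agent.Lib.Helper8.SpDerIndex
import Cfsg.Agent.Lib.Helper8.SpDerElts
import Cfsg.Agent.Lib.Helper8.SpDerUnip
import Cfsg.Agent.Lib.Helper8.SpDerDiag
import Cfsg.Agent.Lib.Helper8.SpDerSinger

set_option autoImplicit false
open scoped MatrixGroups
open Cfsg

namespace Cfsg.Agent.S5968

/-- Derangements of odd prime order of PSL_n(q) on the cosets of a symplectic-type subgroup. Here `T = PSL_n(F)` for a field `F` with `q` elements, `n ≥ 4` even, `f` is a nondegenerate alternating form on `F^n`, and `H` is the subgroup of matrices of determinant 1 preserving `f` up to a scalar — a maximal subgroup of type Sp_n(q); Ω is the set of `T`-conjugates of `H` (cosets of `H`), so an element of `T` of prime order `r` (a matrix `x` of determinant 1 with `x^r` scalar, `x` not scalar) fixes a point of Ω when some conjugate of `x` by a matrix of determinant 1 preserves `f` up to a scalar. For every odd prime `r` dividing the index of `H`,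 with `(n, r) ≠ (6, 3)`, there is an element of `T` of order `r` with no conjugate in `H`. (For `n = 6`, `r = 3` this can fail: when `(q − 1)_3 = 3` every element of order 3 is conjugate into `H`.) -/
theorem result {F : Type*} [Field F] [Fintype F] {p : ℕ} [Fact p.Prime] [CharP F p] {q : ℕ} (hq : Fintype.card F = q)
    (n : ℕ) (hn : 4 ≤ n) (he : Even n) (f : (Fin n → F) → (Fin n → F) → F) (hf : Cfsg.Geo.IsSymplecticForm f)
    (r : ℕ) [Fact r.Prime] (hr2 : r ≠ 2) (hgap : ¬ (n = 6 ∧ r = 3)) (hΩ : r ∣ ((Cfsg.Geo.similarityGroup f).comap (Matrix.SpecialLinearGroup.toGL : Matrix.SpecialLinearGroup (Fin n) F →* GL (Fin n) F)).index) :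
    ∃ x : Matrix.SpecialLinearGroup (Fin n) F,
      (∃ z : F, ((x ^ r : Matrix.SpecialLinearGroup (Fin n) F) : Matrix (Fin n) (Fin n) F) = z • (1 : Matrix (Fin n) (Fin n) F)) ∧
      (∀ z : F, (x : Matrix (Fin n) (Fin n) F) ≠ z • (1 : Matrix (Fin n) (Fin n) F)) ∧
      ∀ P : Matrix.SpecialLinearGroup (Fin n) F, P⁻¹ * x * P ∉ ((Cfsg.Geo.similarityGroup f).comap (Matrix.SpecialLinearGroup.toGL : Matrix.SpecialLinearGroup (Fin n) F →* GL (Fin n) F)) := by
  classical
  subst hq
  have hrprime : r.Prime := Fact.out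
  have hr3' : 3 ≤ r := by
    have := hrprime.two_le
    omega
  obtain ⟨N, hN⟩ := he
  have hn2 : n = 2 * N := by omega
  have key : ∀ x : Matrix (Fin n) (Fin n) F, x.det = 1 → x ^ r = 1 →
      (∀ f' : (Fin n → F) → (Fin n → F) → F, Cfsg.Geo.IsSymplecticForm f' → ∀ c : F,
        ¬ Cfsg.Agent.Lib.Helper8.SpDer.IsSim x f' c) →
      ∃ x : Matrix.SpecialLinearGroup (Fin n) F,
      (∃ z : F, ((x ^ r : Matrix.SpecialLinearGroup (Fin n) F) : Matrix (Fin n) (Fin n) F) = z • (1 : Matrix (Fin n) (Fin n) F)) ∧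
      (∀ z : F, (x : Matrix (Fin n) (Fin n) F) ≠ z • (1 : Matrix (Fin n) (Fin n) F)) ∧
      ∀ P : Matrix.SpecialLinearGroup (Fin n) F, P⁻¹ * x * P ∉ ((Cfsg.Geo.similarityGroup f).comap (Matrix.SpecialLinearGroup.toGL : Matrix.SpecialLinearGroup (Fin n) F →* GL (Fin n) F)) := by
    intro x hdet hxr hns
    obtain ⟨X, hX⟩ : ∃ X : Matrix.SpecialLinearGroup (Fin n) F,
        (X : Matrix (Fin n) (Fin n) F) = x := ⟨⟨x, hdet⟩, rfl⟩
    subst hX
    refine ⟨X, ⟨1, ?_⟩, ?_, ?_⟩
    · rw [Matrix.SpecialLinearGroup.coe_pow, one_smul]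
      exact hxr
    · intro z hz
      apply hns f hf (z * z)
      intro u v
      rw [hz, Matrix.smul_mulVec, Matrix.smul_mulVec, Matrix.one_mulVec,
        Matrix.one_mulVec, hf.bilinear.smul_left, hf.bilinear.smul_right, mul_assoc]
    · exact Cfsg.Agent.Lib.Helper8.SpDer.not_conj_mem f hf X hns
  by_cases hrp : r = p
  · have : CharP F r := hrp ▸ (inferInstance : CharP F p)
    exact key (Cfsg.Agent.Lib.Helper8.SpDer.uX (by omega))
      (Cfsg.Agent.Lib.Helper8.SpDer.uX_det _)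
      (Cfsg.Agent.Lib.Helper8.SpDer.uX_pow _ r hr3')
      (fun f' hf' c => Cfsg.Agent.Lib.Helper8.SpDer.uX_not_sim _ r hr3' hf' c)
  · by_cases hrq : r ∣ Fintype.card F - 1
    · have hcard : Nat.card Fˣ = Fintype.card F - 1 := by
        rw [Nat.card_units, Nat.card_eq_fintype_card]
      obtain ⟨ζ, hζ⟩ := exists_prime_orderOf_dvd_card' (G := Fˣ) r (by rw [hcard]; exact hrq)
      have hζr : ζ ^ r = 1 := by rw [← hζ]; exact pow_orderOf_eq_one ζ
      by_cases hr3 : r = 3
      · subst hr3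
        have hn6 : n ≠ 6 := fun h6 => hgap ⟨h6, rfl⟩
        refine key (Matrix.diagonal (Cfsg.Agent.Lib.Helper8.SpDer.dz ζ
          (Cfsg.Agent.Lib.Helper8.SpDer.aB n))) ?_
          (Cfsg.Agent.Lib.Helper8.SpDer.diag_dz_pow ζ 3 hζr _)
          (fun f' hf' c => Cfsg.Agent.Lib.Helper8.SpDer.not_sim_B hn hn6 ⟨N, hN⟩ ζ hζ hf' c)
        rw [Cfsg.Agent.Lib.Helper8.SpDer.det_diag_dz, Cfsg.Agent.Lib.Helper8.SpDer.sum_aB (by omega)]
        have : ζ ^ (3 : ℤ) = 1 := by
          have h3 : ζ ^ (3 : ℤ) = ζ ^ (3 : ℕ) := by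
            rw [← zpow_natCast]; rfl
          rw [h3, hζr]
        rw [this, Units.val_one]
      · have hr5 : 5 ≤ r := by
          by_contra hlt
          have h4 : r = 4 := by omega
          rw [h4] at hrprime
          exact absurd hrprime (by norm_num)
        refine key (Matrix.diagonal (Cfsg.Agent.Lib.Helper8.SpDer.dz ζ
          (Cfsg.Agent.Lib.Helper8.SpDer.aA n))) ?_
          (Cfsg.Agent.Lib.Helper8.SpDer.diag_dz_pow ζ r hζr _)
          (fun f' hf' c => Cfsg.Agent.Lib.Helper8.SpDer.not_sim_A hn ζ r hr5 hζ hf' c)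
        rw [Cfsg.Agent.Lib.Helper8.SpDer.det_diag_dz, Cfsg.Agent.Lib.Helper8.SpDer.sum_aA (by omega),
          zpow_zero, Units.val_one]
    · obtain ⟨j, hjN, hj⟩ :=
        Cfsg.Agent.Lib.Helper8.SpDer.exists_odd_dvd_of_dvd_index hn2 f hf r hrp hΩ
      have hj0 : j ≠ 0 := by
        rintro rfl
        apply hrq
        simpa using hj
      obtain ⟨x, hdet, hxr, hns⟩ := Cfsg.Agent.Lib.Helper8.SpDer.exists_singer_elt (p := p) n
        (2 * j + 1) (by omega) (by omega) ⟨N - j - 1, by omega⟩ r hr2 hrp hrq hj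
      exact key x hdet hxr hns

end Cfsg.Agent.S5968
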