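import Cfsg.Statements.S5969
import Cfsg.Agent.Lib.Helper44.SLInvNormA
import Cfsg.Agent.Lib.Helper44.SLInvNormB

set_option autoImplicit false
open scoped MatrixGroups
open Cfsg

namespace Cfsg.Agent.S5969

/-- Involutions of PSL_n(q) and extension-field subgroups of degree 2. Here `T = PSL_n(F)` for a field `F` with `q = p^f` elements (`n ≥ 2`, `(n, q) ≠ (2, 2), (2, 3)`), `k` is a prime dividing `n`, `K` is a subalgebra of the `n × n` matrices that is a field of degree `k` over `F` (an extension-field structure F_{q^k} on `F^n`), and `H` is the subgroup of matrices of determinant 1 normalizing `K` — a subgroup of type GL_{n/k}(q^k) (maximal except in some small cases; maximality is not assumed); Ω is the set of cosets of `H` in `T`, so an element of `T` of prime order `r` (a matrix `x` of determinant 1 with `x^r` scalar, `x` not scalar) fixes a point of Ω when some conjugate of `x` by a matrix of determinant 1 normalizes `K`. Take `k = 2` and suppose the index of `H` is even. Then every involution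 of `T` is conjugate in `T` into `H` if and only if `n = 2`, or `q` is odd and `(q − 1)_2 ≤ (n)_2`. -/
theorem result {F : Type*} [Field F] [Fintype F] {p : ℕ} [Fact p.Prime] [CharP F p] {q : ℕ} (hq : Fintype.card F = q)
    (n : ℕ) (hn : 2 ≤ n) (hT : (n, q) ≠ (2, 2) ∧ (n, q) ≠ (2, 3))
    (k : ℕ) (hk : k.Prime) (hkn : k ∣ n) (K : Subalgebra F (Matrix (Fin n) (Fin n) F)) (hK : Cfsg.Geo.IsFieldSubalgebra k K) (hk2 : k = 2) (hΩ : 2 ∣ ((Cfsg.Geo.subalgebraNormalizer K).comap (Matrix.SpecialLinearGroup.toGL : Matrix.SpecialLinearGroup (Fin n) F →* GL (Fin n) F)).index) :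
    (∀ x : Matrix.SpecialLinearGroup (Fin n) F,
      (∃ z : F, ((x ^ 2 : Matrix.SpecialLinearGroup (Fin n) F) : Matrix (Fin n) (Fin n) F) = z • (1 : Matrix (Fin n) (Fin n) F)) →
      (∀ z : F, (x : Matrix (Fin n) (Fin n) F) ≠ z • (1 : Matrix (Fin n) (Fin n) F)) →
      ∃ P : Matrix.SpecialLinearGroup (Fin n) F, P⁻¹ * x * P ∈ ((Cfsg.Geo.subalgebraNormalizer K).comap (Matrix.SpecialLinearGroup.toGL : Matrix.SpecialLinearGroup (Fin n) F →* GL (Fin n) F))) ↔
    (n = 2 ∨ (Odd q ∧ padicValNat 2 (q - 1) ≤ padicValNat 2 n)) := by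
  subst hq
  subst hk2
  have hn0 : n ≠ 0 := by omega
  have he : Even n := even_iff_two_dvd.2 hkn
  have h2iff : (2 : F) = 0 ↔ Fintype.card F % 2 = 0 :=
    Cfsg.Agent.Lib.Helper44.SLInv.two_eq_zero_iff_even_card
  constructor
  · intro hall
    by_contra hcon
    rw [not_or] at hcon
    obtain ⟨hn2, hcon2⟩ := hcon
    have hn3 : 3 ≤ n := by omega
    have hcase : (2 : F) = 0 ∨
        ((2 : F) ≠ 0 ∧ padicValNat 2 n < padicValNat 2 (Fintype.card F - 1)) := by
      by_cases h2 : (2 : F) = 0
      · exact Or.inl h2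
      · refine Or.inr ⟨h2, ?_⟩
        by_contra hle
        rw [not_lt] at hle
        apply hcon2
        refine ⟨?_, hle⟩
        rw [Nat.odd_iff]
        have h3 : ¬ Fintype.card F % 2 = 0 := fun h => h2 (h2iff.2 h)
        omega
    obtain ⟨x, hx2, hxns, hno⟩ :=
      Cfsg.Agent.Lib.Helper44.SLInv.exists_not_conj_mem_normalizer hn3 K hK hcase
    obtain ⟨P, hP⟩ := hall x hx2 hxns
    exact hno P hP
  · intro hcond x hx2 hxns
    obtain ⟨z, hz⟩ := hx2
    have hcond' : n = 2 ∨
        ((2 : F) ≠ 0 ∧ padicValNat 2 (Fintype.card F - 1) ≤ padicValNat 2 n) := by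
      rcases hcond with h | ⟨hodd, hle⟩
      · exact Or.inl h
      · refine Or.inr ⟨?_, hle⟩
        intro h2
        have h3 := h2iff.1 h2
        rw [Nat.odd_iff] at hodd
        omega
    exact Cfsg.Agent.Lib.Helper44.SLInv.exists_conj_mem_normalizer hn0 he K hK hcond' x z hz hxns

end Cfsg.Agent.S5969
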