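import Cfsg.Statements.S5970
import Cfsg.Agent.Lib.Helper2.BGNK1
import Cfsg.Agent.Lib.Helper2.BGNK3
import Cfsg.Agent.Lib.Helper2.BGNK4

set_option autoImplicit false
open scoped MatrixGroups
open Cfsg

namespace Cfsg.Agent.S5970

open Cfsg.Agent.Lib.Helper2.BG Polynomial

lemma aeval_conj_SL {F : Type*} [Field F] {n : ℕ} (P x : Matrix.SpecialLinearGroup (Fin n) F)
    (f : F[X]) :
    aeval ((P⁻¹ * x * P : Matrix.SpecialLinearGroup (Fin n) F) : Matrix (Fin n) (Fin n) F) f =
      ((P⁻¹ : Matrix.SpecialLinearGroup (Fin n) F) : Matrix (Fin n) (Fin n) F) *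
        aeval (x : Matrix (Fin n) (Fin n) F) f * (P : Matrix (Fin n) (Fin n) F) := by
  have hPP : (P : Matrix (Fin n) (Fin n) F) *
      ((P⁻¹ : Matrix.SpecialLinearGroup (Fin n) F) : Matrix (Fin n) (Fin n) F) = 1 := by
    rw [← Matrix.SpecialLinearGroup.coe_mul, mul_inv_cancel, Matrix.SpecialLinearGroup.coe_one]
  have hPP' : ((P⁻¹ : Matrix.SpecialLinearGroup (Fin n) F) : Matrix (Fin n) (Fin n) F) *
      (P : Matrix (Fin n) (Fin n) F) = 1 := by
    rw [← Matrix.SpecialLinearGroup.coe_mul, inv_mul_cancel, Matrix.SpecialLinearGroup.coe_one]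
  have hpow : ∀ m : ℕ,
      ((P⁻¹ * x * P : Matrix.SpecialLinearGroup (Fin n) F) : Matrix (Fin n) (Fin n) F) ^ m =
      ((P⁻¹ : Matrix.SpecialLinearGroup (Fin n) F) : Matrix (Fin n) (Fin n) F) *
        (x : Matrix (Fin n) (Fin n) F) ^ m * (P : Matrix (Fin n) (Fin n) F) := by
    intro m
    induction m with
    | zero => rw [pow_zero, pow_zero, mul_one, hPP']
    | succ m ih =>
      rw [pow_succ, ih, pow_succ, Matrix.SpecialLinearGroup.coe_mul,
        Matrix.SpecialLinearGroup.coe_mul]
      calc _ = ((P⁻¹ : Matrix.SpecialLinearGroup (Fin n) F) : Matrix (Fin n) (Fin n) F) *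
            (x : Matrix (Fin n) (Fin n) F) ^ m * ((P : Matrix (Fin n) (Fin n) F) *
            ((P⁻¹ : Matrix.SpecialLinearGroup (Fin n) F) : Matrix (Fin n) (Fin n) F)) *
            (x : Matrix (Fin n) (Fin n) F) * (P : Matrix (Fin n) (Fin n) F) := by
            simp only [mul_assoc]
        _ = _ := by rw [hPP, mul_one]; simp only [mul_assoc]
  induction f using Polynomial.induction_on' with
  | add p q hp hq => rw [map_add, map_add, hp, hq, mul_add, add_mul]
  | monomial m c =>
    rw [aeval_monomial, aeval_monomial, hpow, Algebra.algebraMap_eq_smul_one, smul_mul_assoc,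
      one_mul, smul_mul_assoc, one_mul, Matrix.mul_smul, Matrix.smul_mul, mul_assoc]

/-- Elements of order `n` of PSL_n(q), `n` prime, and the normalizer of a Singer cycle. Here `T = PSL_n(F)` for a field `F` with `q = p^f` elements (`n ≥ 2`, `(n, q) ≠ (2, 2), (2, 3)`), `k` is a prime dividing `n`, `K` is a subalgebra of the `n × n` matrices that is a field of degree `k` over `F` (an extension-field structure F_{q^k} on `F^n`), and `H` is the subgroup of matrices of determinant 1 normalizing `K` — a subgroup of type GL_{n/k}(q^k) (maximal except in some small cases; maximality is not assumed); Ω is the set of cosets of `H` in `T`, so an element of `T` of prime order `r` (a matrix `x` of determinant 1 with `x^r` scalar, `x` not scalar) fixes a point of Ω when some conjugate of `x` by a matrix of determinant 1 normalizes `K`. Take `k = n > 3` prime with `n ≠ p` (so `H` is the normalizer of a Singer cycle), and suppose `n` divides the index of `H`. Then every element of `T` of order `n` is conjugate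 in `T` into `H` if and only if the multiplicative order of `q` modulo `n` is `n − 1`. -/
theorem result {F : Type*} [Field F] [Fintype F] {p : ℕ} [Fact p.Prime] [CharP F p] {q : ℕ} (hq : Fintype.card F = q)
    (n : ℕ) (hn : 2 ≤ n) (hT : (n, q) ≠ (2, 2) ∧ (n, q) ≠ (2, 3))
    (k : ℕ) (hk : k.Prime) (hkn : k ∣ n) (K : Subalgebra F (Matrix (Fin n) (Fin n) F)) (hK : Cfsg.Geo.IsFieldSubalgebra k K) (hkn' : k = n) (hn3 : 3 < n) (hnp : n ≠ p) (hΩ : n ∣ ((Cfsg.Geo.subalgebraNormalizer K).comap (Matrix.SpecialLinearGroup.toGL : Matrix.SpecialLinearGroup (Fin n) F →* GL (Fin n) F)).index) :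
    (∀ x : Matrix.SpecialLinearGroup (Fin n) F,
      (∃ z : F, ((x ^ n : Matrix.SpecialLinearGroup (Fin n) F) : Matrix (Fin n) (Fin n) F) = z • (1 : Matrix (Fin n) (Fin n) F)) →
      (∀ z : F, (x : Matrix (Fin n) (Fin n) F) ≠ z • (1 : Matrix (Fin n) (Fin n) F)) →
      ∃ P : Matrix.SpecialLinearGroup (Fin n) F, P⁻¹ * x * P ∈ ((Cfsg.Geo.subalgebraNormalizer K).comap (Matrix.SpecialLinearGroup.toGL : Matrix.SpecialLinearGroup (Fin n) F →* GL (Fin n) F))) ↔
    orderOf (q : ZMod n) = n - 1 := by
  subst hkn'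
  subst hq
  have hkF : Fact k.Prime := ⟨hk⟩
  have hk0 : NeZero k := ⟨by omega⟩
  have hrF : (k : F) ≠ 0 := natCast_ne_zero_of_ne (p := p) hnp
  obtain ⟨i, hidef⟩ : ∃ i, i = orderOf ((Fintype.card F : ℕ) : ZMod k) := ⟨_, rfl⟩
  rw [← hidef]
  have hq0 : ((Fintype.card F : ℕ) : ZMod k) ≠ 0 := by
    intro h
    rw [ZMod.natCast_eq_zero_iff] at h
    obtain ⟨f, hf1, hf2⟩ := FiniteField.card F p
    rw [hf2] at h
    have h2 := hk.dvd_of_dvd_pow h
    exact hnp ((Nat.prime_dvd_prime_iff_eq hk hf1).mp h2)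
  have hidvd : i ∣ k - 1 := by
    rw [hidef]
    apply orderOf_dvd_of_pow_eq_one
    exact ZMod.pow_card_sub_one_eq_one hq0
  have hipos : 0 < i := Nat.pos_of_dvd_of_pos hidvd (by omega)
  constructor
  · -- every element conjugate into the normalizer: the order of `q` is `k - 1`
    intro hall
    by_contra hi
    obtain ⟨t, ht⟩ := hidvd
    have ht2 : 2 ≤ t := by
      rcases Nat.lt_or_ge t 2 with h | h
      · interval_cases t
        · omega
        · rw [mul_one] at ht; exact absurd ht.symm hi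
      · exact h
    have hi2 : i + 1 < k := by
      have h2i : i * 2 ≤ i * t := Nat.mul_le_mul_left i ht2
      omega
    obtain ⟨x, hx1, hxns, f, hf0, hfd, hfx⟩ : ∃ x : Matrix.SpecialLinearGroup (Fin k) F,
      ((x ^ k : Matrix.SpecialLinearGroup (Fin k) F) : Matrix (Fin k) (Fin k) F) = 1 ∧
      (∀ z : F, (x : Matrix (Fin k) (Fin k) F) ≠ z • (1 : Matrix (Fin k) (Fin k) F)) ∧
      ∃ f : F[X], f ≠ 0 ∧ f.natDegree < k ∧ aeval (x : Matrix (Fin k) (Fin k) F) f = 0 := by
      by_cases h1 : i = 1
      · rw [hidef] at h1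
        exact exists_small_annihilator_B hk hn3
          ((orderOf_eq_one_iff_dvd (r := k) (Fintype.card F) Fintype.card_pos).mp h1)
      · apply exists_small_annihilator_A (p := p) hnp
        · rw [← hidef]; omega
        · rw [← hidef]; exact hi2
    obtain ⟨P, hP⟩ := hall x ⟨1, by rw [hx1, one_smul]⟩ hxns
    rw [Subgroup.mem_comap] at hP
    have hxk : x ^ k = 1 := by
      apply Subtype.ext
      rw [hx1]; rfl
    have hPP : (P : Matrix (Fin k) (Fin k) F) *
        ((P⁻¹ : Matrix.SpecialLinearGroup (Fin k) F) : Matrix (Fin k) (Fin k) F) = 1 := by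
      rw [← Matrix.SpecialLinearGroup.coe_mul, mul_inv_cancel, Matrix.SpecialLinearGroup.coe_one]
    have hPP' : ((P⁻¹ : Matrix.SpecialLinearGroup (Fin k) F) : Matrix (Fin k) (Fin k) F) *
        (P : Matrix (Fin k) (Fin k) F) = 1 := by
      rw [← Matrix.SpecialLinearGroup.coe_mul, inv_mul_cancel, Matrix.SpecialLinearGroup.coe_one]
    apply no_small_annihilator hk hK _ hP ?_ 1 ?_ f hf0 hfd ?_
    · intro z hz
      have hz' : ((P⁻¹ * x * P : Matrix.SpecialLinearGroup (Fin k) F) : Matrix (Fin k) (Fin k) F) =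
          z • (1 : Matrix (Fin k) (Fin k) F) := hz
      apply hxns z
      rw [Matrix.SpecialLinearGroup.coe_mul, Matrix.SpecialLinearGroup.coe_mul] at hz'
      calc (x : Matrix (Fin k) (Fin k) F)
          = ((P : Matrix (Fin k) (Fin k) F) *
            ((P⁻¹ : Matrix.SpecialLinearGroup (Fin k) F) : Matrix (Fin k) (Fin k) F)) *
            (x : Matrix (Fin k) (Fin k) F) * ((P : Matrix (Fin k) (Fin k) F) *
            ((P⁻¹ : Matrix.SpecialLinearGroup (Fin k) F) : Matrix (Fin k) (Fin k) F)) := by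
            rw [hPP, one_mul, mul_one]
        _ = (P : Matrix (Fin k) (Fin k) F) *
            (((P⁻¹ : Matrix.SpecialLinearGroup (Fin k) F) : Matrix (Fin k) (Fin k) F) *
            (x : Matrix (Fin k) (Fin k) F) * (P : Matrix (Fin k) (Fin k) F)) *
            ((P⁻¹ : Matrix.SpecialLinearGroup (Fin k) F) : Matrix (Fin k) (Fin k) F) := by
            simp only [mul_assoc]
        _ = z • (1 : Matrix (Fin k) (Fin k) F) := by
            rw [hz', Matrix.mul_smul, Matrix.smul_mul, mul_one, hPP]
    · show ((P⁻¹ * x * P : Matrix.SpecialLinearGroup (Fin k) F) : Matrix (Fin k) (Fin k) F) ^ k = _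
      rw [← Matrix.SpecialLinearGroup.coe_pow]
      have : (P⁻¹ * x * P) ^ k = 1 := by
        have h1 : P⁻¹ * x * P = P⁻¹ * x * (P⁻¹)⁻¹ := by rw [inv_inv]
        rw [h1, conj_pow, hxk, mul_one, mul_inv_cancel]
      rw [this, one_smul]; rfl
    · show aeval ((P⁻¹ * x * P : Matrix.SpecialLinearGroup (Fin k) F) : Matrix (Fin k) (Fin k) F) f = 0
      rw [aeval_conj_SL, hfx, mul_zero, zero_mul]
  · -- the order of `q` is `k - 1`: every element is conjugate into the normalizer
    intro hi x hxz hxns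
    have hcop : Nat.Coprime k (Fintype.card F - 1) := by
      rw [Nat.Prime.coprime_iff_not_dvd hk]
      intro hdvd
      have := (orderOf_eq_one_iff_dvd (r := k) (Fintype.card F) Fintype.card_pos).mpr hdvd
      rw [← hidef] at this
      omega
    obtain ⟨z, hz⟩ := hxz
    have hzk : z ^ k = 1 := by
      have h1 := congrArg Matrix.det hz
      rw [Matrix.det_smul, Matrix.det_one, mul_one, Fintype.card_fin] at h1
      rw [← h1]
      exact (x ^ k).2
    have hz1 : z = 1 := by
      have h0 : z ≠ 0 := by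
        rintro rfl
        rw [zero_pow (by omega)] at hzk
        exact zero_ne_one hzk
      have h2 := FiniteField.pow_card_sub_one_eq_one z h0
      have h3 := pow_gcd_eq_one.mpr ⟨hzk, h2⟩
      rw [Nat.Coprime] at hcop
      rwa [hcop, pow_one] at h3
    subst hz1
    rw [one_smul, Matrix.SpecialLinearGroup.coe_pow] at hz
    -- the cyclotomic polynomial is irreducible
    have hirr : Irreducible (cyclotomic k F) := by
      have hcyc0 : cyclotomic k F ≠ 0 := cyclotomic_ne_zero k F
      have hcycnu : ¬ IsUnit (cyclotomic k F) := by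
        intro hu
        have h1 := Polynomial.natDegree_eq_zero_of_isUnit hu
        rw [Polynomial.natDegree_cyclotomic, Nat.totient_prime hk] at h1
        omega
      obtain ⟨g, hgirr, hgd⟩ := WfDvdMonoid.exists_irreducible_factor hcycnu hcyc0
      have hgdeg : g.natDegree = i := by
        rw [hidef]
        exact allIrrDeg_cyclotomic (p := p) hnp g hgirr hgd
      have hassoc : Associated g (cyclotomic k F) := by
        apply Polynomial.associated_of_dvd_of_natDegree_le hgd hcyc0
        rw [Polynomial.natDegree_cyclotomic, Nat.totient_prime hk, hgdeg, hi]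
      exact hassoc.irreducible hgirr
    obtain ⟨S, hSk, hS1, hSK⟩ := exists_frobenius_matrix (p := p) (by omega) hK
    -- the two operators
    have hT : (Matrix.toLin' (x : Matrix (Fin k) (Fin k) F)) ^ k = 1 := by
      rw [← Matrix.toLin'_pow, hz, Matrix.toLin'_one]; rfl
    have hT1 : Matrix.toLin' (x : Matrix (Fin k) (Fin k) F) ≠ 1 := by
      intro h
      apply hxns 1
      rw [one_smul]
      apply Matrix.toLin'.injective
      rw [h, Matrix.toLin'_one]; rfl
    have hT' : (Matrix.toLin' S) ^ k = 1 := by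
      rw [← Matrix.toLin'_pow, hSk, Matrix.toLin'_one]; rfl
    have hT1' : Matrix.toLin' S ≠ 1 := by
      intro h
      apply hS1
      apply Matrix.toLin'.injective
      rw [h, Matrix.toLin'_one]; rfl
    obtain ⟨Pe, hPe⟩ := exists_conj_of_pow_eq_one (by omega) (Module.finrank_fin_fun F) hrF hirr
      (Matrix.toLin' S) (Matrix.toLin' (x : Matrix (Fin k) (Fin k) F)) hT' hT1' hT hT1
    obtain ⟨Pm, hPm⟩ : ∃ Pm, Pm = LinearMap.toMatrix' Pe.toLinearMap := ⟨_, rfl⟩
    obtain ⟨Pi', hPi'⟩ : ∃ Pi', Pi' = LinearMap.toMatrix' Pe.symm.toLinearMap := ⟨_, rfl⟩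
    have hPmPi : Pm * Pi' = 1 := by
      rw [hPm, hPi', ← LinearMap.toMatrix'_comp, LinearEquiv.comp_symm, LinearMap.toMatrix'_id]
    have hPiPm : Pi' * Pm = 1 := mul_eq_one_comm.mp hPmPi
    have hPmS : Pm * S = (x : Matrix (Fin k) (Fin k) F) * Pm := by
      apply Matrix.toLin'.injective
      rw [Matrix.toLin'_mul, Matrix.toLin'_mul, hPm, Matrix.toLin'_toMatrix']
      apply LinearMap.ext
      intro v
      exact hPe v
    have hdet : Pm.det ≠ 0 := by
      intro h0
      have h1 := congrArg Matrix.det hPmPi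
      rw [Matrix.det_mul, h0, zero_mul, Matrix.det_one] at h1
      exact zero_ne_one h1
    obtain ⟨c, hc⟩ := exists_pow_eq_of_coprime hcop (Pm.det)⁻¹ (inv_ne_zero hdet)
    have hc0 : c ≠ 0 := by
      rintro rfl
      rw [zero_pow (by omega)] at hc
      exact inv_ne_zero hdet hc.symm
    have hgdet : (c • Pm).det = 1 := by
      rw [Matrix.det_smul, Fintype.card_fin, hc, inv_mul_cancel₀ hdet]
    obtain ⟨g, hg⟩ : ∃ g : Matrix.SpecialLinearGroup (Fin k) F,
        (g : Matrix (Fin k) (Fin k) F) = c • Pm := ⟨⟨c • Pm, hgdet⟩, rfl⟩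
    refine ⟨g, ?_⟩
    rw [Subgroup.mem_comap]
    apply mem_normalizer_of_forall
    intro k' hk'
    have hY : ((g⁻¹ * x * g : Matrix.SpecialLinearGroup (Fin k) F) : Matrix (Fin k) (Fin k) F) = S := by
      have h1 : g * (g⁻¹ * x * g) = x * g := by group
      have h2 : (g : Matrix (Fin k) (Fin k) F) *
          ((g⁻¹ * x * g : Matrix.SpecialLinearGroup (Fin k) F) : Matrix (Fin k) (Fin k) F) =
          (x : Matrix (Fin k) (Fin k) F) * (g : Matrix (Fin k) (Fin k) F) := by
        rw [← Matrix.SpecialLinearGroup.coe_mul, h1, Matrix.SpecialLinearGroup.coe_mul]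
      rw [hg, Matrix.smul_mul, Matrix.mul_smul, ← hPmS] at h2
      have h3 : Pm * ((g⁻¹ * x * g : Matrix.SpecialLinearGroup (Fin k) F) : Matrix (Fin k) (Fin k) F)
          = Pm * S := by
        have h4 := congrArg (fun M : Matrix (Fin k) (Fin k) F => c⁻¹ • M) h2
        simp only [smul_smul, inv_mul_cancel₀ hc0, one_smul] at h4
        exact h4
      calc _ = (Pi' * Pm) * ((g⁻¹ * x * g : Matrix.SpecialLinearGroup (Fin k) F) :
            Matrix (Fin k) (Fin k) F) := by rw [hPiPm, one_mul]
        _ = (Pi' * Pm) * S := by rw [mul_assoc, h3, ← mul_assoc]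
        _ = S := by rw [hPiPm, one_mul]
    have hunit : ((Matrix.SpecialLinearGroup.toGL (g⁻¹ * x * g) : GL (Fin k) F) :
        Matrix (Fin k) (Fin k) F) *
        (((Matrix.SpecialLinearGroup.toGL (g⁻¹ * x * g))⁻¹ : GL (Fin k) F) :
        Matrix (Fin k) (Fin k) F) = 1 := by
      rw [← Units.val_mul, mul_inv_cancel, Units.val_one]
    have hcoe : ((Matrix.SpecialLinearGroup.toGL (g⁻¹ * x * g) : GL (Fin k) F) :
        Matrix (Fin k) (Fin k) F) = S := hY
    rw [hcoe, hSK k' hk', mul_assoc]
    rw [hcoe] at hunit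
    rw [hunit, mul_one]
    exact pow_mem hk' _

end Cfsg.Agent.S5970
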