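import Cfsg.Statements.S5971
import Cfsg.Agent.Lib.Helper44.FldH

set_option autoImplicit false
open scoped MatrixGroups
open Cfsg
open Matrix

namespace Cfsg.Agent.S5971

/-- Elements of order 3 of PSL_3(q) and the normalizer of a Singer cycle. Here `T = PSL_n(F)` for a field `F` with `q = p^f` elements (`n ≥ 2`, `(n, q) ≠ (2, 2), (2, 3)`), `k` is a prime dividing `n`, `K` is a subalgebra of the `n × n` matrices that is a field of degree `k` over `F` (an extension-field structure F_{q^k} on `F^n`), and `H` is the subgroup of matrices of determinant 1 normalizing `K` — a subgroup of type GL_{n/k}(q^k) (maximal except in some small cases; maximality is not assumed); Ω is the set of cosets of `H` in `T`, so an element of `T` of prime order `r` (a matrix `x` of determinant 1 with `x^r` scalar, `x` not scalar) fixes a point of Ω when some conjugate of `x` by a matrix of determinant 1 normalizes `K`. Take `n = k = 3` and suppose 3 divides the index of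 `H`. Then every element of `T` of order 3 is conjugate in `T` into `H` if and only if `q ≡ 4, 7` or `8 (mod 9)`. -/
theorem result {F : Type*} [Field F] [Fintype F] {p : ℕ} [Fact p.Prime] [CharP F p] {q : ℕ} (hq : Fintype.card F = q)
    (n : ℕ) (hn : n = 3) (k : ℕ) (hk : k.Prime) (hkn : k ∣ n) (K : Subalgebra F (Matrix (Fin n) (Fin n) F)) (hK : Cfsg.Geo.IsFieldSubalgebra k K) (hk3 : k = 3) (hΩ : 3 ∣ ((Cfsg.Geo.subalgebraNormalizer K).comap (Matrix.SpecialLinearGroup.toGL : Matrix.SpecialLinearGroup (Fin n) F →* GL (Fin n) F)).index) :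
    (∀ x : Matrix.SpecialLinearGroup (Fin n) F,
      (∃ z : F, ((x ^ 3 : Matrix.SpecialLinearGroup (Fin n) F) : Matrix (Fin n) (Fin n) F) = z • (1 : Matrix (Fin n) (Fin n) F)) →
      (∀ z : F, (x : Matrix (Fin n) (Fin n) F) ≠ z • (1 : Matrix (Fin n) (Fin n) F)) →
      ∃ P : Matrix.SpecialLinearGroup (Fin n) F, P⁻¹ * x * P ∈ ((Cfsg.Geo.subalgebraNormalizer K).comap (Matrix.SpecialLinearGroup.toGL : Matrix.SpecialLinearGroup (Fin n) F →* GL (Fin n) F))) ↔
    (q % 9 = 4 ∨ q % 9 = 7 ∨ q % 9 = 8) := by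
  subst hn
  subst hk3
  subst hq
  have hcube : ∀ (x : Matrix.SpecialLinearGroup (Fin 3) F) (z : F),
      ((x ^ 3 : Matrix.SpecialLinearGroup (Fin 3) F) : Matrix (Fin 3) (Fin 3) F) =
        z • (1 : Matrix (Fin 3) (Fin 3) F) ↔
      (x : Matrix (Fin 3) (Fin 3) F) * (x : Matrix (Fin 3) (Fin 3) F) *
        (x : Matrix (Fin 3) (Fin 3) F) = z • (1 : Matrix (Fin 3) (Fin 3) F) := by
    intro x z
    rw [Matrix.SpecialLinearGroup.coe_pow, pow_succ, pow_two]
  have h3iff := Cfsg.Agent.Lib.Helper44.Fld.three_dvd_card_iff (F := F) (p := p)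
  -- the negative direction from an element with a two-dimensional eigenspace
  have hneg : (∃ x : Matrix.SpecialLinearGroup (Fin 3) F, (∃ z : F,
      (x : Matrix (Fin 3) (Fin 3) F) * (x : Matrix (Fin 3) (Fin 3) F) *
        (x : Matrix (Fin 3) (Fin 3) F) = z • (1 : Matrix (Fin 3) (Fin 3) F)) ∧
      (∀ c : F, (x : Matrix (Fin 3) (Fin 3) F) ≠ c • (1 : Matrix (Fin 3) (Fin 3) F)) ∧
      ∃ (lam : F) (v w : Fin 3 → F), v ≠ 0 ∧ (x : Matrix (Fin 3) (Fin 3) F) *ᵥ v = lam • v ∧
        (x : Matrix (Fin 3) (Fin 3) F) *ᵥ w = lam • w ∧ ∀ c : F, w ≠ c • v) →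
      ¬ (∀ x : Matrix.SpecialLinearGroup (Fin 3) F,
      (∃ z : F, ((x ^ 3 : Matrix.SpecialLinearGroup (Fin 3) F) : Matrix (Fin 3) (Fin 3) F) = z • (1 : Matrix (Fin 3) (Fin 3) F)) →
      (∀ z : F, (x : Matrix (Fin 3) (Fin 3) F) ≠ z • (1 : Matrix (Fin 3) (Fin 3) F)) →
      ∃ P : Matrix.SpecialLinearGroup (Fin 3) F, P⁻¹ * x * P ∈ ((Cfsg.Geo.subalgebraNormalizer K).comap (Matrix.SpecialLinearGroup.toGL : Matrix.SpecialLinearGroup (Fin 3) F →* GL (Fin 3) F))) := by
    rintro ⟨x, ⟨z, hz⟩, hxns, lam, v, w, hv, hxv, hxw, hind⟩ hall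
    obtain ⟨P, hP⟩ := hall x ⟨z, (hcube x z).2 hz⟩ hxns
    exact Cfsg.Agent.Lib.Helper44.Fld.not_conj_of_two_eigen K hK x hxns lam v w hv hxv hxw hind P hP
  -- the positive direction
  have hpos : ((∃ ω : F, ω * ω + ω + 1 = 0) ∨ Fintype.card F % 3 = 2) → (3 : F) ≠ 0 →
      (Fintype.card F % 9 = 4 ∨ Fintype.card F % 9 = 7 ∨ Fintype.card F % 9 = 8) →
      (∀ x : Matrix.SpecialLinearGroup (Fin 3) F,
      (∃ z : F, ((x ^ 3 : Matrix.SpecialLinearGroup (Fin 3) F) : Matrix (Fin 3) (Fin 3) F) = z • (1 : Matrix (Fin 3) (Fin 3) F)) →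
      (∀ z : F, (x : Matrix (Fin 3) (Fin 3) F) ≠ z • (1 : Matrix (Fin 3) (Fin 3) F)) →
      ∃ P : Matrix.SpecialLinearGroup (Fin 3) F, P⁻¹ * x * P ∈ ((Cfsg.Geo.subalgebraNormalizer K).comap (Matrix.SpecialLinearGroup.toGL : Matrix.SpecialLinearGroup (Fin 3) F →* GL (Fin 3) F))) := by
    intro hcase h3 hq9 x hx hxns
    obtain ⟨z, hz⟩ := hx
    rw [hcube] at hz
    have hz1 := Cfsg.Agent.Lib.Helper44.Fld.eq_one_of_cube_scalar hq9 x z hz
    rw [hz1, one_smul] at hz
    exact Cfsg.Agent.Lib.Helper44.Fld.exists_conj_of_cube_one (p := p) K hK hcase h3 x hz hxns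
  have hq3 : Fintype.card F % 3 = 0 ∨ Fintype.card F % 3 = 1 ∨ Fintype.card F % 3 = 2 := by omega
  rcases hq3 with h0 | h1 | h2
  · have h3 : (3 : F) = 0 := h3iff.2 h0
    obtain ⟨x, hx3, hxns, hdata⟩ := Cfsg.Agent.Lib.Helper44.Fld.exists_two_eigen_char_three h3
    constructor
    · intro hall
      exact absurd hall (hneg ⟨x, ⟨1, hx3⟩, hxns, hdata⟩)
    · intro h
      omega
  · have h3 : (3 : F) ≠ 0 := fun h => by
      have := h3iff.1 h
      omega
    obtain ⟨ω, hω⟩ := Cfsg.Agent.Lib.Helper44.Fld.exists_omega (F := F) h1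
    by_cases h91 : Fintype.card F % 9 = 1
    · obtain ⟨a, ha9, ha3⟩ := Cfsg.Agent.Lib.Helper44.Fld.exists_pow_nine (F := F) h91
      obtain ⟨x, hx3, hxns, hdata⟩ :=
        Cfsg.Agent.Lib.Helper44.Fld.exists_two_eigen_of_pow_nine a ha9 ha3
      constructor
      · intro hall
        exact absurd hall (hneg ⟨x, ⟨a ^ 3, hx3⟩, hxns, hdata⟩)
      · intro h
        omega
    · have hq9 : Fintype.card F % 9 = 4 ∨ Fintype.card F % 9 = 7 ∨ Fintype.card F % 9 = 8 := by
        omega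
      constructor
      · intro _
        exact hq9
      · intro _
        exact hpos (Or.inl ⟨ω, hω⟩) h3 hq9
  · have h3 : (3 : F) ≠ 0 := fun h => by
      have := h3iff.1 h
      omega
    by_cases h98 : Fintype.card F % 9 = 8
    · constructor
      · intro _
        exact Or.inr (Or.inr h98)
      · intro _
        exact hpos (Or.inr h2) h3 (Or.inr (Or.inr h98))
    · exfalso
      exact Cfsg.Agent.Lib.Helper44.Fld.not_three_dvd_index K hK (by omega) hΩ

end Cfsg.Agent.S5971
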