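-- S5972 (helper67, Ts hive): Omega_{2d+1}(q), q odd, on totally singular m-spaces.
-- r odd: helper79's form swap (odd_iff) reduces to the symplectic row S5955 (helper48's TI hive);
-- r = 2: fix_of_two / exists_bad_involution. Leaves by helper2, 9, 13, 25, 55, 79, 80, 99.
import Cfsg.Statements.S5972
import Cfsg.Agent.Lib.Helper67.TsDefs
import Cfsg.Agent.Lib.Helper67.TsW2
import Cfsg.Agent.Lib.Helper80.TsCOUNT1
import Cfsg.Agent.Lib.Helper80.TiCOUNT1
import Cfsg.Agent.Lib.Helper80.TiCOUNT2core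
import Cfsg.Agent.Lib.Helper79.TsOddIff
import Cfsg.Agent.Lib.Helper2.TsD3
import Cfsg.Agent.S5955

set_option autoImplicit false
open scoped MatrixGroups
open Cfsg



namespace Cfsg.Agent.Lib.Helper67.Ts

/-- arithmetic: an even positive modulus -/
theorem asm_mod_succ (d c : ℕ) (hc0 : 0 < c) (hce : Even c) :
    (2 * d + 1) % c = (2 * d) % c + 1 ∧ (2 * d + 1) / c = (2 * d) / c := by
  obtain ⟨c', hc'⟩ := hce
  have h := Nat.div_add_mod (2 * d) c
  have hlt := Nat.mod_lt (2 * d) hc0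
  set a := 2 * d / c with ha
  set b := 2 * d % c with hb
  have hn : c * a = 2 * (c' * a) := by rw [hc']; ring
  have hb1 : b + 1 < c := by omega
  have e : 2 * d + 1 = c * a + (b + 1) := by omega
  constructor
  · rw [e, Nat.mul_add_mod, Nat.mod_eq_of_lt hb1]
  · rw [e, Nat.mul_add_div hc0, Nat.div_eq_of_lt hb1, add_zero]

theorem asm_order_pos {p r q : ℕ} [Fact p.Prime] [Fact r.Prime] {F : Type*} [Field F] [Fintype F]
    [CharP F p] (hq : Fintype.card F = q) (hrp : r ≠ p) : 0 < orderOf (q : ZMod r) := by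
  have hrP : r.Prime := Fact.out
  have hpP : p.Prime := Fact.out
  obtain ⟨n, hn⟩ := FiniteField.card F p
  have hne : (q : ZMod r) ≠ 0 := by
    intro h0
    rw [ZMod.natCast_eq_zero_iff] at h0
    rw [← hq, hn.2] at h0
    have := (Nat.prime_dvd_prime_iff_eq hrP hpP).1 (hrP.dvd_of_dvd_pow h0)
    exact hrp this
  have hu : IsUnit (q : ZMod r) := isUnit_iff_ne_zero.2 hne
  obtain ⟨u, hu⟩ := hu
  rw [← hu, orderOf_units]
  exact orderOf_pos u

end Cfsg.Agent.Lib.Helper67.Ts

namespace Cfsg.Agent.S5972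
open Cfsg.Agent.Lib.Helper67.Ts Module

theorem result {F : Type*} [Field F] [Fintype F] {p : ℕ} [Fact p.Prime] [CharP F p] {q : ℕ} (hq : Fintype.card F = q) (hqodd : Odd q)
    (d m : ℕ) (hd : 3 ≤ d) (hm : 1 ≤ m) (hmd : m ≤ d)
    (r : ℕ) [Fact r.Prime]
    (hrΩ : r ∣ Nat.card {W : Submodule F (Unit ⊕ (Fin d ⊕ Fin d) → F) // Module.finrank F ↥W = m ∧ (∀ w ∈ W, Cfsg.quadFormOdd d F w = 0)})
    (i c : ℕ) (hi : i = orderOf (q : ZMod r)) (hc : c = if Even i then i else 2 * i) :
    (∀ x : GL (Unit ⊕ (Fin d ⊕ Fin d)) F, x ∈ Cfsg.Geo.omegaGL (Cfsg.quadFormOdd d F) → orderOf x = r →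
      ∃ W : Submodule F (Unit ⊕ (Fin d ⊕ Fin d) → F), Module.finrank F ↥W = m ∧ (∀ w ∈ W, Cfsg.quadFormOdd d F w = 0) ∧
        W.map (Matrix.toLin' (x : Matrix (Unit ⊕ (Fin d ⊕ Fin d)) (Unit ⊕ (Fin d ⊕ Fin d)) F)) ≤ W) ↔
    ((r = 2 ∧ (m < d ∨ q % 4 = 1)) ∨
     (r ≠ p ∧ 2 < r ∧ i ≤ m ∧ 2 * (m % i) < (2 * d + 1) % c ∧ (Odd i ∨ (r - 1) / i + 2 * (m / i) ≤ (2 * d + 1) / i))) := by
  have hrP : r.Prime := Fact.out
  have hqF : Odd (Fintype.card F) := hq ▸ hqodd
  by_cases hr2 : r = 2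
  · -- the case r = 2
    constructor
    · intro hL
      left
      refine ⟨hr2, ?_⟩
      by_contra hcon
      push Not at hcon
      obtain ⟨hmd', hq1⟩ := hcon
      have hq3 : Fintype.card F % 4 = 3 := by
        rw [hq]
        obtain ⟨t, ht⟩ := hqodd
        omega
      obtain ⟨x, hxΩ, hx2, hbad⟩ := exists_bad_involution hq3 d (by omega)
      obtain ⟨W, hWm, hWts, hWinv⟩ := hL x hxΩ (by rw [hx2, hr2])
      have h3 : Module.finrank F ↥W < d := hbad W hWinv hWts
      rw [hWm] at h3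
      omega
    · rintro (⟨_, h⟩ | ⟨_, h2, _⟩)
      · intro x hx hxr
        exact fix_of_two hqF d m (by omega) hmd (by rw [hq]; exact h) x hx (by rw [hxr, hr2])
      · omega
  · -- the case r odd
    have hcount := card_ts_mul hqF d m hmd
    have hrp : r ≠ p := (Cfsg.Agent.Lib.Helper48.Ti.count2_main (F := F) d m hmd _ hcount r hrP hrΩ).1
    have hcount' := Cfsg.Agent.Lib.Helper48.Ti.card_ti_mul (F := F) d m hmd
    have hprod : ∏ j ∈ Finset.range m, (Fintype.card F ^ m - Fintype.card F ^ j) ≠ 0 := by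
      rw [Finset.prod_ne_zero_iff]
      intro j hj
      have hjm : j < m := Finset.mem_range.1 hj
      have h1 : 1 < Fintype.card F := Fintype.one_lt_card
      have := Nat.pow_lt_pow_right h1 hjm
      omega
    have hcard_eq : Nat.card {W : Submodule F (Fin d ⊕ Fin d → F) // Module.finrank F ↥W = m ∧ (∀ u ∈ W, ∀ v ∈ W, Cfsg.sympForm d F u v = 0)}
        = Nat.card {W : Submodule F (Unit ⊕ (Fin d ⊕ Fin d) → F) // Module.finrank F ↥W = m ∧ (∀ w ∈ W, Cfsg.quadFormOdd d F w = 0)} := by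
      apply Nat.eq_of_mul_eq_mul_right (Nat.pos_of_ne_zero hprod)
      rw [hcount']
      exact hcount.symm
    have hT : (d, q) ≠ (2, 2) := by
      intro h
      have := (Prod.mk.inj h).1
      omega
    have h55 := Cfsg.Agent.S5955.result (F := F) hq d m (by omega) hT hm hmd r (hcard_eq ▸ hrΩ) i c hi hc
    have hiff := Cfsg.Agent.Lib.Helper79.TsSwap.odd_iff (F := F) hqF d m (by omega) hm hmd r hr2 hrp
    rw [hiff, h55]
    have hi0 : 0 < i := hi ▸ asm_order_pos hq hrp
    have hc0 : 0 < c := by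
      rw [hc]; split_ifs <;> omega
    have hce : Even c := by
      rw [hc]; split_ifs with h
      · exact h
      · exact even_two_mul i
    have hmodc := (asm_mod_succ d c hc0 hce).1
    have hdiv : Even i → (2 * d + 1) / i = (2 * d) / i := fun h => (asm_mod_succ d i hi0 h).2
    constructor
    · rintro (⟨h, _⟩ | ⟨h1, h2, h3, h4, h5⟩)
      · exact absurd h hr2
      · right
        refine ⟨h1, h2, h3, by omega, ?_⟩
        rcases h5 with h5 | h5
        · exact Or.inl h5
        · rcases Nat.even_or_odd i with he | ho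
          · right; rw [hdiv he]; exact h5
          · exact Or.inl ho
    · rintro (⟨h, _⟩ | ⟨h1, h2, h3, h4, h5⟩)
      · exact absurd h hr2
      · right
        refine ⟨h1, h2, h3, by omega, ?_⟩
        rcases h5 with h5 | h5
        · exact Or.inl h5
        · rcases Nat.even_or_odd i with he | ho
          · right; rw [← hdiv he]; exact h5
          · exact Or.inl ho

end Cfsg.Agent.S5972
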