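import Cfsg.Statements.S5973
import Cfsg.Agent.Lib.Helper59.TqAsm

set_option autoImplicit false
open scoped MatrixGroups
open Cfsg

namespace Cfsg.Agent.S5973

theorem result {F : Type*} [Field F] [Fintype F] {p : ℕ} [Fact p.Prime] [CharP F p] {q : ℕ} (hq : Fintype.card F = q)
    (d m : ℕ) (hd : 4 ≤ d) (hm : 1 ≤ m) (hmd : m < d)
    (r : ℕ) [Fact r.Prime]
    (hrΩ : r ∣ Nat.card {W : Submodule F (Fin d ⊕ Fin d → F) // Module.finrank F ↥W = m ∧ (∀ w ∈ W, Cfsg.quadFormPlus d F w = 0)})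
    (i c : ℕ) (hi : i = orderOf (q : ZMod r)) (hc : c = if Even i then i else 2 * i) :
    (∀ x : GL (Fin d ⊕ Fin d) F, x ∈ Cfsg.Geo.omegaGL (Cfsg.quadFormPlus d F) →
      (∃ z : F, ((x ^ r : GL (Fin d ⊕ Fin d) F) : Matrix (Fin d ⊕ Fin d) (Fin d ⊕ Fin d) F) = z • (1 : Matrix (Fin d ⊕ Fin d) (Fin d ⊕ Fin d) F)) →
      (∀ z : F, (x : Matrix (Fin d ⊕ Fin d) (Fin d ⊕ Fin d) F) ≠ z • (1 : Matrix (Fin d ⊕ Fin d) (Fin d ⊕ Fin d) F)) →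
      ∃ W : Submodule F (Fin d ⊕ Fin d → F), Module.finrank F ↥W = m ∧ (∀ w ∈ W, Cfsg.quadFormPlus d F w = 0) ∧
        W.map (Matrix.toLin' (x : Matrix (Fin d ⊕ Fin d) (Fin d ⊕ Fin d) F)) ≤ W) ↔
    ((r = 2 ∧ p ≠ 2 ∧ (q % 4 = 1 ∨ (q % 4 = 3 ∧ m + 2 ≤ d ∧ (Even m ∨ (2 * d) % 4 = 2)))) ∨
     (r ≠ p ∧ 2 < r ∧ Odd i ∧ i ≤ m ∧ 2 * (m % i) ≤ (2 * d) % c) ∨
     (r ≠ p ∧ 2 < r ∧ Even i ∧ i ≤ m ∧ (r - 1) / i + 2 * (m / i) ≤ (2 * d) / i ∧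
       ((2 * (m % i) ≤ i ∧ (2 * d) % c = 0 ∧ Odd ((2 * d) / i) ∧ (r - 1) / i + 2 * (m / i) < (2 * d) / i) ∨
        (2 * (m % i) ≤ (2 * d) % c ∧ Even ((2 * d) / i)) ∨
        (2 * (m % i) < (2 * d) % c ∧ Odd ((2 * d) / i))))) := by
  subst hq
  have h := Cfsg.Agent.Lib.Helper59.Tq.asm_main (p := p) (Cfsg.quadFormPlus d F) d 0 m
    (Cfsg.Agent.Lib.Helper59.Tq.std_plus d) (Cfsg.Agent.Lib.Helper59.Tq.typeE_plus d) hd hm hmd r hrΩ i hi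
  have hL : (∀ x : GL (Fin d ⊕ Fin d) F, x ∈ Cfsg.Geo.omegaGL (Cfsg.quadFormPlus d F) →
      (∃ z : F, ((x ^ r : GL (Fin d ⊕ Fin d) F) : Matrix (Fin d ⊕ Fin d) (Fin d ⊕ Fin d) F) = z • (1 : Matrix (Fin d ⊕ Fin d) (Fin d ⊕ Fin d) F)) →
      (∀ z : F, (x : Matrix (Fin d ⊕ Fin d) (Fin d ⊕ Fin d) F) ≠ z • (1 : Matrix (Fin d ⊕ Fin d) (Fin d ⊕ Fin d) F)) →
      ∃ W : Submodule F (Fin d ⊕ Fin d → F), Module.finrank F ↥W = m ∧ (∀ w ∈ W, Cfsg.quadFormPlus d F w = 0) ∧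
        W.map (Matrix.toLin' (x : Matrix (Fin d ⊕ Fin d) (Fin d ⊕ Fin d) F)) ≤ W) ↔
      (∀ x : GL (Fin d ⊕ Fin d) F, x ∈ Cfsg.Geo.omegaGL (Cfsg.quadFormPlus d F) →
      (∃ z : F, ((x ^ r : GL (Fin d ⊕ Fin d) F) : Matrix (Fin d ⊕ Fin d) (Fin d ⊕ Fin d) F) = z • (1 : Matrix (Fin d ⊕ Fin d) (Fin d ⊕ Fin d) F)) →
      Cfsg.Agent.Lib.Helper59.Tq.NonScalar x → Cfsg.Agent.Lib.Helper59.Tq.FixTS (Cfsg.quadFormPlus d F) m x) := Iff.rfl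
  rw [hL, h]
  have hc1 : Even i → c = i := fun hie => by rw [hc, if_pos hie]
  have hc2 : Odd i → c = 2 * i := fun hio => by rw [hc, if_neg (Nat.not_even_iff_odd.mpr hio)]
  have hodd : ∀ n : ℕ, Odd n ↔ (n + 0) % 2 = 1 := fun n => by rw [Nat.odd_iff, add_zero]
  have heven : ∀ n : ℕ, Even n ↔ (n + 0) % 2 = 0 := fun n => by rw [Nat.even_iff, add_zero]
  have hd4 : Odd d ↔ (2 * d) % 4 = 2 := by rw [Nat.odd_iff]; omega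
  constructor
  · rintro (⟨h1, h2, h3⟩ | ⟨h1, h2, h3, h4, h5⟩ | ⟨h1, h2, h3, h4, h5, h6⟩)
    · refine Or.inl ⟨h1, h2, ?_⟩
      rcases h3 with ⟨-, h3⟩ | ⟨h3, -⟩
      · rw [hd4] at h3; exact h3
      · omega
    · refine Or.inr (Or.inl ⟨h1, h2, h3, h4, ?_⟩)
      rw [if_pos rfl] at h5
      rw [hc2 h3]; exact h5
    · refine Or.inr (Or.inr ⟨h1, h2, h3, h4, h5, ?_⟩)
      rw [hc1 h3, hodd, heven]
      exact h6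
  · rintro (⟨h1, h2, h3⟩ | ⟨h1, h2, h3, h4, h5⟩ | ⟨h1, h2, h3, h4, h5, h6⟩)
    · refine Or.inl ⟨h1, h2, Or.inl ⟨rfl, ?_⟩⟩
      rw [hd4]; exact h3
    · refine Or.inr (Or.inl ⟨h1, h2, h3, h4, ?_⟩)
      rw [if_pos rfl]
      rw [hc2 h3] at h5; exact h5
    · refine Or.inr (Or.inr ⟨h1, h2, h3, h4, h5, ?_⟩)
      rw [hc1 h3, hodd, heven] at h6
      exact h6

end Cfsg.Agent.S5973
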