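import Cfsg.Statements.S5975
import Cfsg.Agent.Lib.Helper8.SpExtFinal
import Cfsg.Agent.Lib.Helper8.SpExtInvol

set_option autoImplicit false
open scoped MatrixGroups
open scoped Matrix
open Cfsg

namespace Cfsg.Agent.S5975

/-- Elements of prime order of PSp_n(q) and the field-extension subgroups of type Sp_{n/k}(q^k). Here `T = PSp_{2d}(F)` for a field `F` with `q` elements (`d ≥ 2`, `(d, q) ≠ (2, 2)`), realised through the matrices preserving the standard alternating form `f`; `k` is a prime and `K` is a subalgebra of the `2d × 2d` matrices that is a field of degree `k` over `F` whose elements are self-adjoint for `f` and satisfy `f(a v, v) = 0` (so `F^{2d}` becomes a vector space over `K ≅ F_{q^k}` on which `f` is the trace of a `K`-bilinear alternating form); `H` is the subgroup of `T` normalizing `K` — the symplectic maps that are `K`-linear or `K`-semilinear, a subgroup of type Sp_{2d/k}(q^k) (maximality is not assumed). Ω is the set of cosets of `H` in `T`, so an element of `T` of prime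 order `r` (`x ∈ T` with `x^r` scalar, `x` not scalar) fixes a point of Ω exactly when some `T`-conjugate of `x` normalizes `K`. Let `r` be a prime dividing the index of `H`. Then every element of `T` of order `r` fixes a point of Ω if and only if `r = 2`, `d = 2`, `k = 2` and `q` is odd. -/
theorem result {F : Type*} [Field F] [Fintype F] {p : ℕ} [Fact p.Prime] [CharP F p] {q : ℕ} (hq : Fintype.card F = q)
    (d : ℕ) (hd : 2 ≤ d) (hT : (d, q) ≠ (2, 2)) (k : ℕ) (hk : k.Prime)
    (K : Subalgebra F (Matrix (Fin d ⊕ Fin d) (Fin d ⊕ Fin d) F)) (hK : Cfsg.Geo.IsFieldSubalgebra k K)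
    (hKf : Cfsg.Geo.IsSelfAdjointFor (Cfsg.sympForm d F) K) (hKalt : ∀ a ∈ K, ∀ v : Fin d ⊕ Fin d → F, Cfsg.sympForm d F (a *ᵥ v) v = 0)
    (r : ℕ) [Fact r.Prime]
    (hΩ : r ∣ (Cfsg.Geo.subalgebraNormalizer K).relIndex (Cfsg.spGL d F)) :
    (∀ x ∈ Cfsg.spGL d F, (∃ z : F, ((x ^ r : GL (Fin d ⊕ Fin d) F) : Matrix (Fin d ⊕ Fin d) (Fin d ⊕ Fin d) F) = z • (1 : Matrix (Fin d ⊕ Fin d) (Fin d ⊕ Fin d) F)) →
      (∀ z : F, (x : Matrix (Fin d ⊕ Fin d) (Fin d ⊕ Fin d) F) ≠ z • (1 : Matrix (Fin d ⊕ Fin d) (Fin d ⊕ Fin d) F)) →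
      ∃ g ∈ Cfsg.spGL d F, g⁻¹ * x * g ∈ Cfsg.Geo.subalgebraNormalizer K) ↔
    (r = 2 ∧ d = 2 ∧ k = 2 ∧ Odd q) := by
  classical
  subst hq
  have hfin : Module.finrank F K = k := hK.finrank_eq
  haveI : Module.Finite F K := Module.finite_of_finrank_pos (by rw [hfin]; exact hk.pos)
  haveI : Nontrivial K := Module.nontrivial_of_finrank_pos (R := F) (by rw [hfin]; exact hk.pos)
  have hfield : IsField K :=
    { exists_pair_ne := ⟨0, 1, zero_ne_one⟩
      mul_comm := fun x y => Subtype.ext (hK.comm x.1 x.2 y.1 y.2)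
      mul_inv_cancel := by
        intro a ha
        have ha' : a.1 ≠ 0 := fun h => ha (Subtype.ext h)
        obtain ⟨y, hyK, hy⟩ := hK.inv a.1 a.2 ha'
        exact ⟨⟨y, hyK⟩, Subtype.ext hy⟩ }
  letI : Field K := hfield.toField
  haveI : Finite K := Module.finite_of_finite F
  constructor
  · intro hall
    have hΩ' : r ∣ (Cfsg.Geo.subalgebraNormalizer K.val.range).relIndex (Cfsg.spGL d F) := by
      rw [Subalgebra.range_val]
      exact hΩ
    have key := Cfsg.Agent.Lib.Helper8.SpExt.forward (F := F) d (𝕂 := K) K.val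
      Subtype.val_injective hd p (by rw [hfin]; exact hk)
      (fun c u v => hKf c.1 c.2 u v) (fun c v => hKalt c.1 c.2 v) r hΩ'
      (by rw [Subalgebra.range_val]; exact hall)
    rw [hfin] at key
    exact key
  · rintro ⟨rfl, rfl, rfl, hodd⟩
    have hcard : Fintype.card F % 2 = 1 := Nat.odd_iff.1 hodd
    have h2 : (2 : F) ≠ 0 := by
      apply Ring.two_ne_zero
      intro h
      have := FiniteField.even_card_of_char_two h
      omega
    intro x hx ⟨z, hz⟩ _
    refine Cfsg.Agent.Lib.Helper8.SpExt.invol_case_A hcard h2 K hK hKf x hx z ?_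
    rw [← hz, Units.val_pow_eq_pow_val, pow_two]

end Cfsg.Agent.S5975
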