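import Cfsg.Statements.S5976
import Cfsg.Agent.Lib.Helper8.GUSpInvol
import Cfsg.Agent.Lib.Helper8.GUSpDer1
import Cfsg.Agent.Lib.Helper8.GUSpDer2
import Cfsg.Agent.Lib.Helper8.GUSpIndex
import Cfsg.Agent.Lib.Helper8.GUSpArith

set_option autoImplicit false
open scoped MatrixGroups
open Cfsg

namespace Cfsg.Agent.S5976

/-- Elements of prime order of PSp_n(q), q odd, and the subgroups of type GU_{n/2}(q). Here `T = PSp_{2d}(F)` for a field `F` with `q` elements, `q` odd, `d ≥ 2`, realised through the matrices preserving the standard alternating form `f`; `K` is a subalgebra of the `2d × 2d` matrices that is a field of degree 2 over `F`, closed under taking adjoints for `f` but not consisting of self-adjoint elements (so `F^{2d}` becomes a `d`-dimensional space over `K ≅ F_{q²}` on which `f` is the trace of a multiple of a non-degenerate hermitian form); `H` is the subgroup of `T` normalizing `K` — the symplectic maps that are `K`-linear or `K`-semilinear, a subgroup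 of type GU_d(q) (maximality is not assumed). Ω is the set of cosets of `H` in `T`, so an element of `T` of prime order `r` (`x ∈ T` with `x^r` scalar, `x` not scalar) fixes a point of Ω exactly when some `T`-conjugate of `x` normalizes `K`. Let `r` be a prime dividing the index of `H`. Then every element of `T` of order `r` fixes a point of Ω if and only if `r = 2`. -/
theorem result {F : Type*} [Field F] [Fintype F] {p : ℕ} [Fact p.Prime] [CharP F p] {q : ℕ} (hq : Fintype.card F = q)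
    (hodd : Odd q) (d : ℕ) (hd : 2 ≤ d)
    (K : Subalgebra F (Matrix (Fin d ⊕ Fin d) (Fin d ⊕ Fin d) F)) (hK : Cfsg.Geo.IsFieldSubalgebra 2 K)
    (hKf : Cfsg.Geo.IsAdjointClosedFor (Cfsg.sympForm d F) K) (hKns : ¬ Cfsg.Geo.IsSelfAdjointFor (Cfsg.sympForm d F) K)
    (r : ℕ) [Fact r.Prime]
    (hΩ : r ∣ (Cfsg.Geo.subalgebraNormalizer K).relIndex (Cfsg.spGL d F)) :
    (∀ x ∈ Cfsg.spGL d F, (∃ z : F, ((x ^ r : GL (Fin d ⊕ Fin d) F) : Matrix (Fin d ⊕ Fin d) (Fin d ⊕ Fin d) F) = z • (1 : Matrix (Fin d ⊕ Fin d) (Fin d ⊕ Fin d) F)) →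
      (∀ z : F, (x : Matrix (Fin d ⊕ Fin d) (Fin d ⊕ Fin d) F) ≠ z • (1 : Matrix (Fin d ⊕ Fin d) (Fin d ⊕ Fin d) F)) →
      ∃ g ∈ Cfsg.spGL d F, g⁻¹ * x * g ∈ Cfsg.Geo.subalgebraNormalizer K) ↔ r = 2 := by
  classical
  subst hq
  have hcard : Fintype.card F % 2 = 1 := Nat.odd_iff.1 hodd
  have h2 : (2 : F) ≠ 0 := by
    apply Ring.two_ne_zero
    intro h
    have := FiniteField.even_card_of_char_two h
    omega
  have hd1 : 1 ≤ d := by omega
  obtain ⟨κ, D, hκK, hgen, hκns, hdec⟩ :=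
    Cfsg.Agent.Lib.Helper94.exists_skewGen d hd1 h2 K hK hKf hKns
  have hDns := Cfsg.Agent.Lib.Helper8.GUSp.not_isSquare_of_skewGen d hd1 hgen
  constructor
  · intro hall
    by_contra hr2
    have hrp : r.Prime := Fact.out
    have hrodd : Odd r := hrp.odd_of_ne_two hr2
    have key : ∃ x : GL (Fin d ⊕ Fin d) F, x ∈ Cfsg.spGL d F ∧ x ^ r = 1 ∧
        (∀ z : F, (x : Matrix (Fin d ⊕ Fin d) (Fin d ⊕ Fin d) F) ≠
          z • (1 : Matrix (Fin d ⊕ Fin d) (Fin d ⊕ Fin d) F)) ∧
        ¬ ∃ J : (Fin d ⊕ Fin d → F) →ₗ[F] (Fin d ⊕ Fin d → F),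
          Cfsg.Agent.Lib.Helper8.GUSp.IsJ (Cfsg.Agent.Lib.Helper99.sympB d) D J ∧
          ∀ v, Matrix.mulVec (x : Matrix (Fin d ⊕ Fin d) (Fin d ⊕ Fin d) F) (J v) =
            J (Matrix.mulVec (x : Matrix (Fin d ⊕ Fin d) (Fin d ⊕ Fin d) F) v) := by
      rcases Cfsg.Agent.Lib.Helper8.GUSp.index_cases d p h2 hodd hd1 K κ D hgen hκK hκns hdec r
        hrp hΩ with h | ⟨i, hid, hri⟩
      · have hpp : p.Prime := Fact.out
        obtain ⟨n, _, hn⟩ := FiniteField.card F p
        rw [hn] at h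
        have hrp' : r = p := (Nat.prime_dvd_prime_iff_eq hrp hpp).1 (hrp.dvd_of_dvd_pow h)
        rw [hrp']
        exact Cfsg.Agent.Lib.Helper8.GUSp.exists_transv_noJ d hd1 p D hDns
      · by_cases hie : Even i
        · rw [if_pos hie] at hri
          exact Cfsg.Agent.Lib.Helper8.GUSp.exists_split_noJ d p (i + 1) (by omega) (by omega)
            hie.add_one r hr2 hri D hDns
        · rw [if_neg hie] at hri
          have hio : Odd i := Nat.not_even_iff_odd.1 hie
          obtain ⟨j, hj1, hjm, hjeven, hrj, hord⟩ :=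
            Cfsg.Agent.Lib.Helper8.GUSp.exists_min_even (Fintype.card F) (i + 1) r hr2
              hio.add_one (by omega) hri
          exact Cfsg.Agent.Lib.Helper8.GUSp.exists_nonsplit_noJ d p h2 hodd j hj1 (by omega)
            hjeven r hr2 hrj hord D hDns
    obtain ⟨x, hx, hxr, hxns, hno⟩ := key
    obtain ⟨g, hg, hgx⟩ := hall x hx ⟨1, by rw [hxr, one_smul]; rfl⟩ hxns
    exact hno (Cfsg.Agent.Lib.Helper8.GUSp.exists_J_of_conj_mem d h2 hd1 K κ D hgen hκK hκns hdec
      x r hrodd hxr g hg hgx)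
  · rintro rfl
    intro x hx ⟨z, hz⟩ _
    refine Cfsg.Agent.Lib.Helper8.GUSp.invol_case d hcard h2 hd1 K κ D hgen hκK hκns hdec x hx z ?_
    rw [← hz, Units.val_pow_eq_pow_val, pow_two]

end Cfsg.Agent.S5976
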