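import Cfsg.Statements.S5979
import Cfsg.Agent.Lib.Helper2.BGMain
import Cfsg.Agent.Lib.Helper44.TnsDefs
import Cfsg.Agent.Lib.Helper13.TnsM
import Cfsg.Agent.Lib.Helper44.TnsA
import Cfsg.Agent.Lib.Helper44.TnsE5
import Cfsg.Agent.Lib.Helper21.TnsE1
import Cfsg.Agent.Lib.Helper21.TnsE34
import Cfsg.Agent.Lib.Helper51.TnsG1
import Cfsg.Agent.Lib.Helper51.TnsG2
import Cfsg.Agent.Lib.Helper44.TnsObs
import Cfsg.Agent.Lib.Helper44.TnsAdj

set_option autoImplicit false
open scoped MatrixGroups
open Cfsg

namespace Cfsg.Agent.S5979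

/-- Elements of prime order of PSL_n(q) and the stabilizers of tensor decompositions with factors of different dimensions. Here `T = PSL_n(F)` for a field `F` with `q` elements and `n = a·b` with `2 ≤ a < b`; a tensor decomposition `F^n ≅ F^a ⊗ F^b` is given by a bijection `e` of index sets and a change of basis `P`, and `H` is the subgroup of matrices of determinant 1 in its stabilizer (the conjugate by `P` of the group of Kronecker products `g₁ ⊗ g₂`) — a subgroup of type GL_a(q) ⊗ GL_b(q) (maximality is not assumed); Ω is the set of cosets of `H` in `T`, so an element of `T` of prime order `r` (a matrix `x` of determinant 1 with `x^r` scalar, `x` not scalar) fixes a point of Ω exactly when some conjugate of `x` by a matrix of determinant 1 lies in `H`. Let `r` be a prime dividing the index of `H`. Then every element of `T` of order `r` fixes a point of Ω if and only if `r = 2`, `a = 2`, `q` is odd and `(q − 1)_2 ≤ (n)_2` (2-parts). -/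
theorem result {F : Type*} [Field F] [Fintype F] {p : ℕ} [Fact p.Prime] [CharP F p] {q : ℕ} (hq : Fintype.card F = q)
    (n a b : ℕ) (hab : n = a * b) (ha : 2 ≤ a) (hlt : a < b) (e : Fin n ≃ Fin a × Fin b) (P : GL (Fin n) F)
    (r : ℕ) [Fact r.Prime]
    (hΩ : r ∣ (Cfsg.Geo.tensorProductSubgroup a b e P).relIndex (Cfsg.Geo.specialLinear (Fin n) F)) :
    (∀ x ∈ Cfsg.Geo.specialLinear (Fin n) F, (∃ z : F, ((x ^ r : GL (Fin n) F) : Matrix (Fin n) (Fin n) F) = z • (1 : Matrix (Fin n) (Fin n) F)) →
      (∀ z : F, (x : Matrix (Fin n) (Fin n) F) ≠ z • (1 : Matrix (Fin n) (Fin n) F)) →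
      ∃ g ∈ Cfsg.Geo.specialLinear (Fin n) F, g⁻¹ * x * g ∈ Cfsg.Geo.tensorProductSubgroup a b e P) ↔
    (r = 2 ∧ a = 2 ∧ Odd q ∧ padicValNat 2 (q - 1) ≤ padicValNat 2 n) := by
  classical
  subst hq
  have hpP : p.Prime := Fact.out
  have hrP : r.Prime := Fact.out
  have hb3 : 3 ≤ b := by omega
  have hn6 : 6 ≤ n := by rw [hab]; nlinarith
  have hq1 : 1 < Fintype.card F := Fintype.one_lt_card
  have hXsub : ∀ (y : Matrix (Fin n) (Fin n) F) (c : F),
      Polynomial.aeval y (Polynomial.X - Polynomial.C c : Polynomial F)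
        = y - c • (1 : Matrix (Fin n) (Fin n) F) :=
    fun y c => Cfsg.Agent.Lib.Helper44.Tns.obs_aeval_sub_smul y c
  have hadvd : ∀ k : ℕ, a ∣ k → k ≤ 1 → k = 0 := by
    intro k hk hk1
    rcases Nat.eq_zero_or_pos k with h0 | h0
    · exact h0
    · have := Nat.le_of_dvd h0 hk
      omega
  constructor
  · intro hall
    by_contra hcon
    have hbad : ∃ x : Matrix (Fin n) (Fin n) F, x.det = 1 ∧
        (∃ z : F, x ^ r = z • (1 : Matrix (Fin n) (Fin n) F)) ∧
        (∀ z : F, x ≠ z • (1 : Matrix (Fin n) (Fin n) F)) ∧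
        ¬ Cfsg.Agent.Lib.Helper44.Tns.IsKronSimilar a b e x := by
      by_cases hrp : r = p
      · subst hrp
        obtain ⟨x, hdet, hpow, hns, hrk⟩ :=
          Cfsg.Agent.Lib.Helper44.Tns.exists_transvection (F := F) (p := r) n (by omega)
        refine ⟨x, hdet, ⟨1, by rw [hpow, one_smul]⟩, hns, fun hsim => ?_⟩
        have h1 := Cfsg.Agent.Lib.Helper44.Tns.dvd_rank_of_small e x hsim 1
          (by rw [one_smul, hrk]; omega) (Polynomial.X - Polynomial.C 1)
        rw [hXsub, one_smul, hrk] at h1
        have := hadvd 1 h1 le_rfl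
        omega
      · by_cases hrq : r ∣ Fintype.card F - 1
        · by_cases hv : padicValNat r n < padicValNat r (Fintype.card F - 1)
          · obtain ⟨x, c, hdet, hpow, hns, hrk⟩ :=
              Cfsg.Agent.Lib.Helper44.Tns.exists_pseudoreflection (F := F) n (by omega) r hrq hv
            refine ⟨x, hdet, hpow, hns, fun hsim => ?_⟩
            have h1 := Cfsg.Agent.Lib.Helper44.Tns.dvd_rank_of_small e x hsim c
              (by rw [hrk]; omega) (Polynomial.X - Polynomial.C c)
            rw [hXsub, hrk] at h1
            have := hadvd 1 h1 le_rfl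
            omega
          · by_cases hr2 : r = 2
            · subst hr2
              have hodd : Odd (Fintype.card F) := by
                obtain ⟨k, hk⟩ := hrq
                exact ⟨k, by omega⟩
              have ha3 : 3 ≤ a := by
                by_contra h
                apply hcon
                exact ⟨rfl, by omega, hodd, by omega⟩
              have h2F : (2 : F) ≠ 0 := by
                intro h
                have h' : ((2 : ℕ) : F) = 0 := by exact_mod_cast h
                have := (CharP.cast_eq_zero_iff F p 2).1 h'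
                exact hrp ((Nat.prime_dvd_prime_iff_eq hpP Nat.prime_two).1 this).symm
              obtain ⟨x, hdet, hpow, hns, hrk⟩ :=
                Cfsg.Agent.Lib.Helper44.Tns.exists_neg_two (F := F) n (by omega) h2F
              refine ⟨x, hdet, ⟨1, by rw [hpow, one_smul]⟩, hns, fun hsim => ?_⟩
              have h1 := Cfsg.Agent.Lib.Helper44.Tns.dvd_rank_of_small e x hsim 1
                (by rw [one_smul, hrk]; omega) (Polynomial.X - Polynomial.C 1)
              rw [hXsub, one_smul, hrk] at h1
              have := Nat.le_of_dvd (by norm_num) h1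
              omega
            · obtain ⟨x, ω, hdet, hpow, hns, hrk1, hrkω⟩ :=
                Cfsg.Agent.Lib.Helper44.Tns.exists_two_eigen (F := F) n (by omega) r hr2 hrq
              refine ⟨x, hdet, ⟨1, by rw [hpow, one_smul]⟩, hns, fun hsim => ?_⟩
              have h1 := Cfsg.Agent.Lib.Helper44.Tns.dvd_rank_of_small e x hsim 1
                (by rw [one_smul, hrk1]; omega) (Polynomial.X - Polynomial.C ω)
              rw [hXsub, hrkω] at h1
              have h2 : a ∣ n := ⟨b, hab⟩
              have h3 : a ∣ 1 := by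
                have h4 : n = (n - 1) + 1 := by omega
                rw [h4] at h2
                exact (Nat.dvd_add_right h1).1 h2
              have := hadvd 1 h3 le_rfl
              omega
        · -- `r` does not divide `q (q - 1)`
          have hqpos : 0 < Fintype.card F := Fintype.card_pos
          have hdpos : 0 < orderOf ((Fintype.card F : ℕ) : ZMod r) :=
            Cfsg.Agent.Lib.Helper2.BG.orderOf_pos_of_ne (p := p) hrp
          have hd1 : orderOf ((Fintype.card F : ℕ) : ZMod r) ≠ 1 := fun h =>
            hrq ((Cfsg.Agent.Lib.Helper2.BG.orderOf_eq_one_iff_dvd _ hqpos).1 h)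
          have hd2 : 2 ≤ orderOf ((Fintype.card F : ℕ) : ZMod r) := by omega
          have hdn : orderOf ((Fintype.card F : ℕ) : ZMod r) ≤ n := by
            apply Cfsg.Agent.Lib.Helper44.Tns.order_le_of_dvd_card_GL (p := p) n r hrp
            have h1 : r ∣ Nat.card (Cfsg.Geo.specialLinear (Fin n) F) :=
              dvd_trans hΩ (Subgroup.relIndex_dvd_card _ _)
            exact dvd_trans h1 (Subgroup.card_subgroup_dvd_card _)
          obtain ⟨x, g, hdet, hpow, hns, hgirr, hgd, hrk1, hrkg⟩ :=
            Cfsg.Agent.Lib.Helper44.Tns.exists_block (F := F) (p := p) n r hrp hd2 hdn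
          refine ⟨x, hdet, ⟨1, by rw [hpow, one_smul]⟩, hns, ?_⟩
          exact Cfsg.Agent.Lib.Helper44.Tns.not_isKronSimilar_block (p := p) hab ha hlt e r hrp hd2
            x g hpow hgirr hgd hrk1 hrkg
    obtain ⟨xm, hdet, hpow, hns, hnot⟩ := hbad
    have hunit : IsUnit xm.det := by rw [hdet]; exact isUnit_one
    let x : GL (Fin n) F := Matrix.GeneralLinearGroup.mk'' xm hunit
    have hxm : (x : Matrix (Fin n) (Fin n) F) = xm := rfl
    have hxmem : x ∈ Cfsg.Geo.specialLinear (Fin n) F := by
      rw [Cfsg.Agent.Lib.Helper44.Tns.adj_mem_specialLinear_iff, hxm, hdet]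
    obtain ⟨g, -, hg⟩ := hall x hxmem
      (by
        obtain ⟨z, hz⟩ := hpow
        exact ⟨z, by rw [Units.val_pow_eq_pow_val, hxm, hz]⟩)
      (by rw [hxm]; exact hns)
    apply hnot
    have := Cfsg.Agent.Lib.Helper44.Tns.isKronSimilar_of_conj_mem e P x g hg
    rwa [hxm] at this
  · rintro ⟨rfl, rfl, hodd, hv⟩
    intro x hx hpow hns
    obtain ⟨z, hz⟩ := hpow
    rw [Units.val_pow_eq_pow_val, pow_two] at hz
    have hdet : (x : Matrix (Fin n) (Fin n) F).det = 1 :=
      (Cfsg.Agent.Lib.Helper44.Tns.adj_mem_specialLinear_iff x).1 hx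
    have h2F : (2 : F) ≠ 0 := by
      apply Ring.two_ne_zero
      intro h
      have := FiniteField.even_card_of_char_two h
      have h3 := Nat.odd_iff.1 hodd
      omega
    have hsim : Cfsg.Agent.Lib.Helper44.Tns.IsKronSimilar 2 b e
        (x : Matrix (Fin n) (Fin n) F) := by
      by_cases hsq : IsSquare z
      · obtain ⟨c, rfl⟩ := hsq
        have hc0 : c ≠ 0 := by
          rintro rfl
          rw [mul_zero, zero_smul] at hz
          have h1 := congrArg Matrix.det hz
          have : Nonempty (Fin n) := ⟨⟨0, by omega⟩⟩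
          rw [Matrix.det_mul, hdet, Matrix.det_zero] at h1
          simp at h1
        exact Cfsg.Agent.Lib.Helper44.Tns.isKronSimilar_of_square hab (by omega) e h2F hv _ hdet c hc0 hz
      · exact Cfsg.Agent.Lib.Helper44.Tns.isKronSimilar_of_nonsquare hab e _ z hsq hz
    obtain ⟨R, hR⟩ := Cfsg.Agent.Lib.Helper44.Tns.exists_conj_mem_of_isKronSimilar e P x hsim
    exact Cfsg.Agent.Lib.Helper44.Tns.exists_SL_conj _ x hx z hz hns R hR

end Cfsg.Agent.S5979
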