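import Cfsg.Statements.S5980
import Cfsg.Agent.Lib.Helper31.SpTns.Obs
import Cfsg.Agent.Lib.Helper31.SpTns.Transport
import Cfsg.Agent.Lib.Helper31.SpTns.E03
import Cfsg.Agent.Lib.Helper31.SpTns.E5
import Cfsg.Agent.Lib.Helper21.SpTnsE2
import Cfsg.Agent.Lib.Helper21.SpTnsS2
import Cfsg.Agent.Lib.Helper1.SpTnsS5
import Cfsg.Agent.Lib.Helper59.SpTnsS1
import Cfsg.Agent.Lib.Helper53.SpTnsE6
import Cfsg.Agent.Lib.Helper59.SpTnsE4
import Cfsg.Agent.Lib.Helper27.SpTnsS4
import Cfsg.Agent.Lib.Helper80.SpTnsS3

set_option autoImplicit false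
open scoped MatrixGroups
open Cfsg

namespace Cfsg.Agent.S5980

open Cfsg.Agent.Lib.Helper31.SpTns Cfsg.Agent.Lib.Helper44.Tns
open scoped Kronecker

/-- Elements of prime order of PSp_n(q), q odd, and the stabilizers of tensor decompositions Sp_a(q) ⊗ O_b(q). Here `T = PSp_{2d}(F)` for a field `F` with `q` elements, `q` odd, `d ≥ 2`, realised through the matrices preserving the standard alternating form `f`; `2d = a·b` with `a` even, `b ≥ 3`, and the bijection `e` and change of basis `P` exhibit `f` as a non-zero scalar multiple of the tensor product of a non-degenerate alternating form `f₁` on `F^a` and a non-degenerate symmetric bilinear form `f₂` on `F^b`; `H` is the subgroup of `T` stabilizing this tensor decomposition (the elements of `T` in the conjugate by `P` of the group of Kronecker products) — a subgroup of type Sp_a(q) ⊗ O^ε_b(q) (maximality is not assumed). Ω is the set of cosets of `H` in `T`, so an element of `T` of prime order `r` (`x ∈ T` with `x^r` scalar, `x` not scalar) fixes a point of Ω exactly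 when some `T`-conjugate of `x` lies in `H`. Let `r` be a prime dividing the index of `H`. Then every element of `T` of order `r` fixes a point of Ω if and only if `r = 2` and `a = 2`. -/
theorem result {F : Type*} [Field F] [Fintype F] {p : ℕ} [Fact p.Prime] [CharP F p] {q : ℕ} (hq : Fintype.card F = q)
    (hodd : Odd q) (d : ℕ) (hd : 2 ≤ d) (a b : ℕ) (hab : 2 * d = a * b) (ha : Even a) (ha2 : 2 ≤ a) (hb : 3 ≤ b)
    (e : (Fin d ⊕ Fin d) ≃ Fin a × Fin b) (P : GL (Fin d ⊕ Fin d) F)
    (f₁ : (Fin a → F) → (Fin a → F) → F) (f₂ : (Fin b → F) → (Fin b → F) → F)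
    (hf₁ : Cfsg.Geo.IsSymplecticForm f₁) (hf₂ : Cfsg.Geo.IsSymmetricForm f₂)
    (hS : Cfsg.Geo.IsTensorFormStructure id (Cfsg.sympForm d F) f₁ f₂ e P)
    (r : ℕ) [Fact r.Prime]
    (hΩ : r ∣ (Cfsg.Geo.tensorProductSubgroup a b e P).relIndex (Cfsg.spGL d F)) :
    (∀ x ∈ Cfsg.spGL d F, (∃ z : F, ((x ^ r : GL (Fin d ⊕ Fin d) F) : Matrix (Fin d ⊕ Fin d) (Fin d ⊕ Fin d) F) = z • (1 : Matrix (Fin d ⊕ Fin d) (Fin d ⊕ Fin d) F)) →
      (∀ z : F, (x : Matrix (Fin d ⊕ Fin d) (Fin d ⊕ Fin d) F) ≠ z • (1 : Matrix (Fin d ⊕ Fin d) (Fin d ⊕ Fin d) F)) →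
      ∃ g ∈ Cfsg.spGL d F, g⁻¹ * x * g ∈ Cfsg.Geo.tensorProductSubgroup a b e P) ↔ (r = 2 ∧ a = 2) := by
  classical
  subst hq
  have hpP : p.Prime := Fact.out
  have hrP : r.Prime := Fact.out
  have h2F : (2 : F) ≠ 0 := by
    apply Ring.two_ne_zero
    intro h
    have := FiniteField.even_card_of_char_two h
    have h3 := Nat.odd_iff.1 hodd
    omega
  let φ : Fin d ⊕ Fin d ≃ Fin (d + d) := finSumFinEquiv
  have habn : d + d = a * b := by omega
  constructor
  · intro hall
    by_contra hcon
    have hbad : ∃ x : GL (Fin d ⊕ Fin d) F, x ∈ Cfsg.spGL d F ∧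
        (∃ z : F, ((x ^ r : GL (Fin d ⊕ Fin d) F) : Matrix (Fin d ⊕ Fin d) (Fin d ⊕ Fin d) F) =
          z • (1 : Matrix (Fin d ⊕ Fin d) (Fin d ⊕ Fin d) F)) ∧
        (∀ z : F, (x : Matrix (Fin d ⊕ Fin d) (Fin d ⊕ Fin d) F) ≠
          z • (1 : Matrix (Fin d ⊕ Fin d) (Fin d ⊕ Fin d) F)) ∧
        ¬ IsKronSimilar a b (φ.symm.trans e)
          (Matrix.reindex φ φ (x : Matrix (Fin d ⊕ Fin d) (Fin d ⊕ Fin d) F)) := by
      by_cases hrp : r = p
      · subst hrp
        obtain ⟨x, hx, hpow, hns, hrk⟩ := sp_exists_transvection (F := F) (p := r) d (by omega)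
        refine ⟨x, hx, ⟨1, by rw [hpow, one_smul]; rfl⟩, hns, fun hsim => ?_⟩
        have h1 := dvd_rank_of_small (φ.symm.trans e) _ hsim 1
          (by rw [one_smul, tr_rank_sub_one, hrk]; omega) (Polynomial.X - Polynomial.C 1)
        rw [obs_aeval_sub_smul, one_smul, tr_rank_sub_one, hrk] at h1
        have := Nat.le_of_dvd one_pos h1
        omega
      · by_cases hr2 : r = 2
        · subst hr2
          have ha4 : 4 ≤ a := by
            by_contra h
            apply hcon
            refine ⟨rfl, ?_⟩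
            obtain ⟨k, hk⟩ := ha
            omega
          have hm1 : (-1 : F) ≠ 1 := by
            intro h
            apply h2F
            linear_combination -h
          obtain ⟨x, hx, hpow, hns, hrk, -⟩ :=
            sp_exists_diag d hd (-1 : F) (neg_ne_zero.2 one_ne_zero) hm1
          refine ⟨x, hx, ⟨1, by rw [hpow 2 (by norm_num), one_smul]; rfl⟩, hns, fun hsim => ?_⟩
          have h1 := dvd_rank_of_small (φ.symm.trans e) _ hsim 1
            (by rw [one_smul, tr_rank_sub_one, hrk]; omega) (Polynomial.X - Polynomial.C 1)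
          rw [obs_aeval_sub_smul, one_smul, tr_rank_sub_one, hrk] at h1
          have := Nat.le_of_dvd (by norm_num) h1
          omega
        · by_cases hrq : r ∣ Fintype.card F - 1
          · have hrU : r ∣ Nat.card Fˣ := by
              rw [Nat.card_units, Nat.card_eq_fintype_card]
              exact hrq
            obtain ⟨ζ, hζ⟩ := exists_prime_orderOf_dvd_card' r hrU
            have hζ1 : ζ ≠ 1 := by
              rintro rfl
              rw [orderOf_one] at hζ
              exact hrP.one_lt.ne hζ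
            have hζ1' : (ζ : F) ≠ 1 := fun h => hζ1 (Units.ext h)
            have hζr : (ζ : F) ^ r = 1 := by
              rw [← Units.val_pow_eq_pow_val, ← hζ, pow_orderOf_eq_one, Units.val_one]
            have hζne : (ζ : F) ≠ (ζ : F)⁻¹ := by
              intro h
              have h1 : ζ ^ 2 = 1 := by
                apply Units.ext
                rw [Units.val_pow_eq_pow_val, pow_two, Units.val_one]
                nth_rewrite 2 [h]
                exact mul_inv_cancel₀ (Units.ne_zero ζ)
              have h3 := orderOf_dvd_of_pow_eq_one h1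
              rw [hζ] at h3
              exact hr2 ((Nat.prime_dvd_prime_iff_eq hrP Nat.prime_two).1 h3)
            obtain ⟨x, hx, hpow, hns, hrk1, hrkω⟩ :=
              sp_exists_diag d hd (ζ : F) (Units.ne_zero ζ) hζ1'
            have hrkω' := hrkω hζne
            refine ⟨x, hx, ⟨1, by rw [hpow r hζr, one_smul]; rfl⟩, hns, fun hsim => ?_⟩
            have h1 := dvd_rank_of_small (φ.symm.trans e) _ hsim 1
              (by rw [one_smul, tr_rank_sub_one, hrk1]; omega)
              (Polynomial.X - Polynomial.C (ζ : F))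
            rw [obs_aeval_sub_smul, tr_rank_sub_smul, hrkω'] at h1
            have h2 : a ∣ 2 * d := ⟨b, hab⟩
            have h3 : a ∣ 1 := by
              have h4 : 2 * d = (2 * d - 1) + 1 := by omega
              rw [h4] at h2
              exact (Nat.dvd_add_right h1).1 h2
            have := Nat.le_of_dvd one_pos h3
            omega
          · have hcard : r ∣ Nat.card (Cfsg.spGL d F) :=
              dvd_trans hΩ (Subgroup.relIndex_dvd_card _ _)
            obtain ⟨hi2, hcase⟩ := sp_order_cases (p := p) d r hr2 hrp hrq hcard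
            rcases hcase with ⟨hie, hid⟩ | ⟨hio, hid⟩
            · obtain ⟨x, g, hx, hpow, hns, hgirr, hgd, hrk1, hrkg⟩ :=
                sp_exists_block_even (p := p) hodd d r hr2 hrp hie hi2 hid
              refine ⟨x, hx, ⟨1, by rw [hpow, one_smul]; rfl⟩, hns, ?_⟩
              apply not_isKronSimilar_block_sp (p := p) habn ha2 ha hb (φ.symm.trans e) r hrp hi2 _ g
                ?_ hgirr hgd ?_ ?_
              · exact tr_pow_eq_one φ _ r (by rw [← Units.val_pow_eq_pow_val, hpow]; rfl)
              · left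
                rw [tr_rank_sub_one, hrk1]
              · rw [tr_rank_aeval, hrkg]
                omega
            · obtain ⟨x, g, hx, hpow, hns, hgirr, hgd, hrk1, hrkg⟩ :=
                sp_exists_block_odd (p := p) d r hr2 hrp hi2 hio hid
              refine ⟨x, hx, ⟨1, by rw [hpow, one_smul]; rfl⟩, hns, ?_⟩
              apply not_isKronSimilar_block_sp (p := p) habn ha2 ha hb (φ.symm.trans e) r hrp hi2 _ g
                ?_ hgirr hgd ?_ ?_
              · exact tr_pow_eq_one φ _ r (by rw [← Units.val_pow_eq_pow_val, hpow]; rfl)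
              · right
                exact ⟨by rw [hgd]; exact hio, by rw [tr_rank_sub_one, hrk1]⟩
              · rw [tr_rank_aeval, hrkg]
                omega
    obtain ⟨x, hx, hpow, hns, hnot⟩ := hbad
    obtain ⟨g, -, hg⟩ := hall x hx hpow hns
    exact hnot (isKronSimilar_of_conj_mem_gen φ e P x g hg)
  · rintro ⟨rfl, rfl⟩
    intro x hx hpow hns
    obtain ⟨z, hz⟩ := hpow
    rw [Units.val_pow_eq_pow_val, pow_two] at hz
    have hbd : b = d := by omega
    subst hbd
    rcases sq_scalar_pm_one (by omega) x hx z hz with rfl | rfl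
    · -- `x² = 1`
      have hxx : x * x = 1 := by
        apply Units.ext
        rw [Units.val_mul, hz, one_smul, Units.val_one]
      obtain ⟨k, hk, hrk⟩ := invol_rank_even h2F x hx hxx
      obtain ⟨B, hBG, hBB, hBrk⟩ := exists_orth_invol h2F f₂ hf₂ k hk
      have hy : kronElt e P (1 : GL (Fin 2) F) B ∈ Cfsg.spGL b F :=
        kronElt_mem_spGL e P f₁ f₂ hS 1 B (by simp) hBG
      have hyy : kronElt e P (1 : GL (Fin 2) F) B * kronElt e P (1 : GL (Fin 2) F) B = 1 := by
        rw [kronElt_mul, one_mul, hBB, kronElt_one]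
      have hrky : ((kronElt e P (1 : GL (Fin 2) F) B).val + 1).rank = 2 * b - 2 * k := by
        have := rank_kronElt_add_smul e P (1 : GL (Fin 2) F) B 1
        rw [one_smul, one_smul] at this
        rw [this, Units.val_one]
        have h1 : (1 : Matrix (Fin 2) (Fin 2) F) ⊗ₖ B.val + 1 =
            (1 : Matrix (Fin 2) (Fin 2) F) ⊗ₖ (B.val + 1) := by
          rw [Matrix.kronecker_add, Matrix.one_kronecker_one]
        rw [h1, rank_one_kronecker, hBrk]
        omega
      obtain ⟨g, hg, hgx⟩ := sp_conj_of_invol h2F x _ hx hy hxx hyy (by rw [hrk, hrky])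
      exact ⟨g, hg, by rw [hgx]; exact kronElt_mem e P 1 B⟩
    · -- `x² = -1`
      let J : GL (Fin 2) F := ⟨!![0, 1; -1, 0], !![0, -1; 1, 0],
        by ext i j; fin_cases i <;> fin_cases j <;> simp [Matrix.mul_apply, Fin.sum_univ_two],
        by ext i j; fin_cases i <;> fin_cases j <;> simp [Matrix.mul_apply, Fin.sum_univ_two]⟩
      have hJval : J.val = !![0, 1; -1, 0] := rfl
      have hJJ : J.val * J.val = -1 := by
        rw [hJval]
        ext i j; fin_cases i <;> fin_cases j <;> simp [Matrix.mul_apply, Fin.sum_univ_two]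
      have hy : kronElt e P J (1 : GL (Fin b) F) ∈ Cfsg.spGL b F :=
        kronElt_mem_spGL e P f₁ f₂ hS J 1 (by rw [hJval]; exact gram_two_J f₁ hf₁) (by simp)
      have hyy : (kronElt e P J (1 : GL (Fin b) F)).val * (kronElt e P J (1 : GL (Fin b) F)).val = -1 := by
        rw [← Units.val_mul, kronElt_mul, one_mul, kronElt_val, Units.val_mul, hJJ, Units.val_one]
        have h1 : (-1 : Matrix (Fin 2) (Fin 2) F) ⊗ₖ (1 : Matrix (Fin b) (Fin b) F) = -1 := by
          ext ⟨i, j⟩ ⟨i', j'⟩
          simp only [Matrix.kroneckerMap_apply, Matrix.neg_apply, Matrix.one_apply, Prod.mk.injEq]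
          by_cases h1 : i = i' <;> by_cases h2 : j = j' <;> simp [h1, h2]
        rw [h1, map_neg, map_one, Matrix.mul_neg, Matrix.mul_one, Matrix.neg_mul, ← Units.val_mul,
          mul_inv_cancel, Units.val_one]
      have hxx : x.val * x.val = -1 := by rw [hz, neg_smul, one_smul]
      obtain ⟨g, hg, hgx⟩ := sp_conj_of_sq_neg_one h2F x _ hx hy hxx hyy
      exact ⟨g, hg, by rw [hgx]; exact kronElt_mem e P J 1⟩

end Cfsg.Agent.S5980
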