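import Cfsg.Statements.S5983
import Cfsg.Agent.Lib.Helper8.SpOrthG
import Cfsg.Agent.Lib.Helper37.ParabolicBridge
import Cfsg.Agent.Lib.Helper8.InvolCountMat
import Cfsg.Agent.Lib.Helper8.InvolOrth

set_option autoImplicit false
open scoped MatrixGroups
open Cfsg

namespace Cfsg.Agent.S5983

/-- Elements of prime order of PSp_n(q), q even, and the subgroups of orthogonal type. Here `T = Sp_{2d}(F)` for a field `F` of characteristic 2 with `q` elements (`d ≥ 2`, `(d, q) ≠ (2, 2)`), realised as the invertible matrices preserving the standard alternating form; `Q` is a non-degenerate quadratic form on `F^{2d}` whose polar form is that alternating form, and `H` is the subgroup of `T` preserving `Q` up to a scalar (equivalently preserving `Q`) — a subgroup of type O^±_{2d}(q) (maximality is not assumed); `Q` is of plus type when `F^{2d}` contains a `d`-dimensional subspace on which `Q` vanishes, of minus type otherwise. Ω is the set of cosets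 of `H` in `T`, so an element of `T` of prime order `r` (`x ∈ T` with `x^r` scalar, `x` not scalar) fixes a point of Ω exactly when some `T`-conjugate of `x` preserves `Q`. Let `r` be a prime dividing the index of `H`. Then every element of `T` of order `r` fixes a point of Ω if and only if `r = 2` and either `Q` is of plus type or `d` is odd. -/
theorem result {F : Type*} [Field F] [Fintype F] {p : ℕ} [Fact p.Prime] [CharP F p] {q : ℕ} (hq : Fintype.card F = q)
    (hp : p = 2) (d : ℕ) (hd : 2 ≤ d) (hT : (d, q) ≠ (2, 2)) (Q : (Fin d ⊕ Fin d → F) → F) (hQ : Cfsg.Geo.IsNondegenerateQuadraticForm Q)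
    (hQf : ∀ u v, QuadraticMap.polar Q u v = Cfsg.sympForm d F u v)
    (r : ℕ) [Fact r.Prime]
    (hΩ : r ∣ (Cfsg.Geo.quadSimilarityGroup Q).relIndex (Cfsg.spGL d F)) :
    (∀ x ∈ Cfsg.spGL d F, (∃ z : F, ((x ^ r : GL (Fin d ⊕ Fin d) F) : Matrix (Fin d ⊕ Fin d) (Fin d ⊕ Fin d) F) = z • (1 : Matrix (Fin d ⊕ Fin d) (Fin d ⊕ Fin d) F)) →
      (∀ z : F, (x : Matrix (Fin d ⊕ Fin d) (Fin d ⊕ Fin d) F) ≠ z • (1 : Matrix (Fin d ⊕ Fin d) (Fin d ⊕ Fin d) F)) →
      ∃ g ∈ Cfsg.spGL d F, g⁻¹ * x * g ∈ Cfsg.Geo.quadSimilarityGroup Q) ↔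
    (r = 2 ∧ (Cfsg.Geo.IsPlusTypeOn Q ⊤ ∨ Odd d)) := by
  open Matrix in
  subst hp
  subst hq
  have h2 : (2 : F) = 0 := by
    have := CharP.cast_eq_zero F 2
    exact_mod_cast this
  have hsq : ∀ a : F, ∃ c : F, c * c = a := Cfsg.Agent.Lib.Helper8.exists_sq_char2 h2
  obtain ⟨M, rfl⟩ : ∃ M, d = M + 1 := ⟨d - 1, by omega⟩
  have hrp : r.Prime := Fact.out
  obtain ⟨QF, hcoe⟩ : ∃ QF : QuadraticForm F (Fin (M + 1) ⊕ Fin (M + 1) → F), ⇑QF = Q :=
    ⟨Cfsg.Agent.Lib.Helper37.toQF Q hQ, rfl⟩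
  have hQF : (QuadraticMap.polarBilin QF).Nondegenerate := by
    have := Cfsg.Agent.Lib.Helper37.toQF_nondeg Q hQ
    have hh : QF = Cfsg.Agent.Lib.Helper37.toQF Q hQ := by
      apply DFunLike.coe_injective
      rw [hcoe]
      rfl
    rw [hh]
    exact this
  subst hcoe
  have hpol : ∀ u v, QuadraticMap.polar (⇑QF) u v = Cfsg.sympForm (M + 1) F u v := hQf
  have hdim : Module.finrank F (Fin (M + 1) ⊕ Fin (M + 1) → F) = 2 * M + 2 := by
    rw [Module.finrank_fintype_fun_eq_card, Fintype.card_sum, Fintype.card_fin]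
    omega
  have htypeiff := Cfsg.Agent.Lib.Helper8.isPlusTypeOn_iff_card h2 M QF hQF
  have hmemO : ∀ Y : GL (Fin (M + 1) ⊕ Fin (M + 1)) F, Y ∈ Cfsg.Geo.quadSimilarityGroup (⇑QF) →
      Y ∈ Cfsg.spGL (M + 1) F → ∀ v, QF ((Y : Matrix (Fin (M + 1) ⊕ Fin (M + 1))
        (Fin (M + 1) ⊕ Fin (M + 1)) F) *ᵥ v) = QF v := by
    intro Y h1 h3
    have : Y ∈ Cfsg.Geo.quadSimilarityGroup (⇑QF) ⊓ Cfsg.spGL (M + 1) F := ⟨h1, h3⟩
    rw [Cfsg.Agent.Lib.Helper8.inf_spGL_eq_isometryGroup M QF hpol,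
      Cfsg.Agent.Lib.Helper13.mem_isometryGroup_iff] at this
    exact this
  constructor
  · intro H
    have hr2 : r = 2 := by
      by_contra hne
      have key : ∀ (Q' : QuadraticForm F (Fin (M + 1) ⊕ Fin (M + 1) → F))
          (X : GL (Fin (M + 1) ⊕ Fin (M + 1)) F),
          (∀ u v, QuadraticMap.polar (⇑Q') u v = Cfsg.sympForm (M + 1) F u v) →
          (∀ v, Q' ((X : Matrix (Fin (M + 1) ⊕ Fin (M + 1)) (Fin (M + 1) ⊕ Fin (M + 1)) F) *ᵥ v)
            = Q' v) → X ^ r = 1 →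
          (∀ v, (X : Matrix (Fin (M + 1) ⊕ Fin (M + 1)) (Fin (M + 1) ⊕ Fin (M + 1)) F) *ᵥ v = v →
            v = 0) →
          Nat.card {v : Fin (M + 1) ⊕ Fin (M + 1) → F // Q' v = 0}
            = Nat.card {v : Fin (M + 1) ⊕ Fin (M + 1) → F // QF v = 0} := by
        intro Q' X h1 h3 h4 h5
        have hXsp := Cfsg.Agent.Lib.Helper8.mem_spGL_of_preserves Q' h1 X h3
        obtain ⟨g, hg, hY⟩ := H X hXsp ⟨1, by rw [h4]; simp⟩ (by
          intro z hz
          have hz1 := Cfsg.Agent.Lib.Helper8.eq_one_of_scalar_mem_spGL h2 M X hXsp z hz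
          subst hz1
          have hv := h5 (Pi.single (Sum.inl 0) 1) (by rw [hz, one_smul, Matrix.one_mulVec])
          have := congrFun hv (Sum.inl 0)
          simp at this)
        have hYsp : g⁻¹ * X * g ∈ Cfsg.spGL (M + 1) F :=
          mul_mem (mul_mem (inv_mem hg) hXsp) hg
        have hYO := hmemO _ hY hYsp
        have hpres := Cfsg.Agent.Lib.Helper8.conjForm_preserved QF g X hYO
        have hpol'' := Cfsg.Agent.Lib.Helper8.polar_conjForm QF g hg hpol
        have heq : ∀ v, Q' v = Cfsg.Agent.Lib.Helper8.conjForm QF g v :=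
          Cfsg.Agent.Lib.Helper8.quad_eq_of_fpf h2 hsq Q' (Cfsg.Agent.Lib.Helper8.conjForm QF g)
            (fun u v => by rw [hpol'', h1])
            (Matrix.toLin' (X : Matrix (Fin (M + 1) ⊕ Fin (M + 1)) (Fin (M + 1) ⊕ Fin (M + 1)) F))
            (fun v => h3 v) (fun v => hpres v) (fun v hv => h5 v hv)
        rw [← Cfsg.Agent.Lib.Helper8.card_zeros_conjForm QF g]
        exact Cfsg.Agent.Lib.Helper8.card_zeros_congr _ _ (LinearEquiv.refl F _)
          (fun v => (heq v).symm)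
      rcases Cfsg.Agent.Lib.Helper8.index_dvd_cases M QF hQF hpol r hrp hne hΩ with
        ⟨hZ, hr1⟩ | ⟨hZ, hr1⟩
      · obtain ⟨Q', X, h1, h3, h4, h5, h6⟩ :=
          Cfsg.Agent.Lib.Helper8.exists_fpf_model_minus (F := F) M r hne hr1
        have := key Q' X h1 h3 h4 h5
        rw [h6, hZ] at this
        exact Cfsg.Agent.Lib.Helper43.ZZ_plus_ne_minus _ Fintype.one_lt_card M this.symm
      · obtain ⟨Q', X, h1, h3, h4, h5, h6⟩ :=
          Cfsg.Agent.Lib.Helper8.exists_fpf_model_plus (F := F) M r hr1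
        have := key Q' X h1 h3 h4 h5
        rw [h6] at this
        exact hZ this.symm
    refine ⟨hr2, ?_⟩
    subst hr2
    by_contra hcon
    push Not at hcon
    obtain ⟨hnp, hnodd⟩ := hcon
    have hZ : Nat.card {v : Fin (M + 1) ⊕ Fin (M + 1) → F // QF v = 0}
        ≠ Cfsg.Agent.Lib.Helper43.ZZ (Fintype.card F) 0 1 (M + 1) := fun h => hnp (htypeiff.2 h)
    rw [Nat.not_odd_iff_even] at hnodd
    obtain ⟨j, hj⟩ := hnodd
    have hQp := Cfsg.Agent.Lib.Helper8.plusForm_nondegenerate (M + 1) F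
    obtain ⟨t, ht, hrank, halt⟩ := Cfsg.Agent.Lib.Helper8.exists_alt_inv h2 _
      (Cfsg.Agent.Lib.Helper8.plusForm (M + 1) F) hQp M hdim
      (Or.inl (Cfsg.Agent.Lib.Helper8.card_zeros_plusForm (M + 1))) j (by omega)
    obtain ⟨T, hTT, hTt⟩ := Cfsg.Agent.Lib.Helper8.exists_iso_of_isInvIso
      (Cfsg.Agent.Lib.Helper8.plusForm (M + 1) F) hQp t ht
    have hTpres : ∀ v, Cfsg.Agent.Lib.Helper8.plusForm (M + 1) F
        (((T : GL (Fin (M + 1) ⊕ Fin (M + 1)) F) : Matrix (Fin (M + 1) ⊕ Fin (M + 1))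
          (Fin (M + 1) ⊕ Fin (M + 1)) F) *ᵥ v) = Cfsg.Agent.Lib.Helper8.plusForm (M + 1) F v :=
      Cfsg.Agent.Lib.Helper8.isoElt_preserves _ T
    have hXsp := Cfsg.Agent.Lib.Helper8.mem_spGL_of_preserves
      (Cfsg.Agent.Lib.Helper8.plusForm (M + 1) F)
      (Cfsg.Agent.Lib.Helper8.polar_plusForm_eq_sympForm h2) (T : GL (Fin (M + 1) ⊕ Fin (M + 1)) F)
      hTpres
    have hTv : ∀ v, ((T : GL (Fin (M + 1) ⊕ Fin (M + 1)) F) : Matrix (Fin (M + 1) ⊕ Fin (M + 1))
        (Fin (M + 1) ⊕ Fin (M + 1)) F) *ᵥ v = t v := by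
      intro v
      rw [← hTt]
      rfl
    obtain ⟨g, hg, hY⟩ := H (T : GL (Fin (M + 1) ⊕ Fin (M + 1)) F) hXsp ⟨1, by
        rw [pow_two]
        have := congrArg (fun y : ↥(Cfsg.isometryGroup F
          (⇑(Cfsg.Agent.Lib.Helper8.plusForm (M + 1) F))) =>
            (y : GL (Fin (M + 1) ⊕ Fin (M + 1)) F)) hTT
        simp only [Subgroup.coe_mul, Subgroup.coe_one] at this
        rw [this]
        simp⟩ (by
      intro z hz
      have hz1 := Cfsg.Agent.Lib.Helper8.eq_one_of_scalar_mem_spGL h2 M _ hXsp z hz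
      subst hz1
      have hnil : ∀ v, Cfsg.Agent.Lib.Helper8.nilPart t v = 0 := by
        intro v
        rw [Cfsg.Agent.Lib.Helper8.nilPart_apply, ← hTv, hz, one_smul, Matrix.one_mulVec, sub_self]
      have hbot : LinearMap.range (Cfsg.Agent.Lib.Helper8.nilPart t) = ⊥ := by
        rw [LinearMap.range_eq_bot]
        apply LinearMap.ext
        intro v
        rw [hnil v]
        rfl
      rw [hbot, finrank_bot] at hrank
      omega)
    have hYsp : g⁻¹ * (T : GL (Fin (M + 1) ⊕ Fin (M + 1)) F) * g ∈ Cfsg.spGL (M + 1) F :=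
      mul_mem (mul_mem (inv_mem hg) hXsp) hg
    have hYO := hmemO _ hY hYsp
    have hpres := Cfsg.Agent.Lib.Helper8.conjForm_preserved QF g _ hYO
    have hpol'' := Cfsg.Agent.Lib.Helper8.polar_conjForm QF g hg hpol
    have ht'' : Cfsg.Agent.Lib.Helper8.IsInvIso (Cfsg.Agent.Lib.Helper8.conjForm QF g) t :=
      ⟨fun v => by rw [← hTv]; exact hpres v, ht.inv⟩
    have hQ''nd : (QuadraticMap.polarBilin (Cfsg.Agent.Lib.Helper8.conjForm QF g)).Nondegenerate := by
      have : QuadraticMap.polarBilin (Cfsg.Agent.Lib.Helper8.conjForm QF g)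
          = QuadraticMap.polarBilin QF := by
        refine LinearMap.ext₂ (fun x y => ?_)
        show QuadraticMap.polar _ x y = QuadraticMap.polar _ x y
        rw [hpol'', hpol]
      rw [this]
      exact hQF
    have hZ'' : Nat.card {v : Fin (M + 1) ⊕ Fin (M + 1) → F //
        Cfsg.Agent.Lib.Helper8.conjForm QF g v = 0}
        ≠ Cfsg.Agent.Lib.Helper43.ZZ (Fintype.card F) 0 1 (M + 1) := by
      rw [Cfsg.Agent.Lib.Helper8.card_zeros_conjForm]
      exact hZ
    have hbound := Cfsg.Agent.Lib.Helper8.ts_bound_of_not_plus h2 _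
      (Cfsg.Agent.Lib.Helper8.conjForm QF g) hQ''nd M hdim hZ''
      (LinearMap.range (Cfsg.Agent.Lib.Helper8.nilPart t)) (by
        rintro _ ⟨z, rfl⟩
        rw [ht''.quad_nil h2, hpol'', ← Cfsg.Agent.Lib.Helper8.polar_plusForm_eq_sympForm h2,
          ← ht.quad_nil h2]
        exact halt z)
    omega
  · rintro ⟨rfl, htype⟩
    have hgood : Nat.card {v : Fin (M + 1) ⊕ Fin (M + 1) → F // QF v = 0}
        = Cfsg.Agent.Lib.Helper43.ZZ (Fintype.card F) 0 1 (M + 1) ∨ Even M := by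
      rcases htype with h | h
      · exact Or.inl (htypeiff.1 h)
      · right
        obtain ⟨k, hk⟩ := h
        exact ⟨k, by omega⟩
    intro x hx hx2 hns
    obtain ⟨z, hz⟩ := hx2
    have hxx : x ^ 2 ∈ Cfsg.spGL (M + 1) F := pow_mem hx 2
    have hz1 := Cfsg.Agent.Lib.Helper8.eq_one_of_scalar_mem_spGL h2 M _ hxx z hz
    subst hz1
    obtain ⟨t, htdef⟩ : ∃ t : (Fin (M + 1) ⊕ Fin (M + 1) → F) →ₗ[F] (Fin (M + 1) ⊕ Fin (M + 1) → F),
        t = Matrix.toLin' (x : Matrix (Fin (M + 1) ⊕ Fin (M + 1)) (Fin (M + 1) ⊕ Fin (M + 1)) F) :=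
      ⟨_, rfl⟩
    have htv : ∀ v, t v = (x : Matrix (Fin (M + 1) ⊕ Fin (M + 1)) (Fin (M + 1) ⊕ Fin (M + 1)) F)
        *ᵥ v := by
      intro v
      rw [htdef, Matrix.toLin'_apply]
    have hinv : ∀ v, t (t v) = v := by
      intro v
      rw [htv, htv, Matrix.mulVec_mulVec, ← Units.val_mul, ← pow_two, hz, one_smul,
        Matrix.one_mulVec]
    have hpolt : ∀ u v, QuadraticMap.polar (⇑QF) (t u) (t v) = QuadraticMap.polar (⇑QF) u v := by
      intro u v
      rw [hpol, hpol, htv, htv]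
      exact (Cfsg.Agent.Lib.Helper99.mem_spGL_iff (M + 1) x).1 hx u v
    obtain ⟨g, hg, hgt⟩ := Cfsg.Agent.Lib.Helper8.exists_sp_conj_into_orth h2 _ QF hQF M hdim hgood
      t hinv hpolt
    have hGv := Cfsg.Agent.Lib.Helper99.glOfEquiv_mulVec (M + 1) g
    have hGinv : ∀ w, ((Cfsg.Agent.Lib.Helper99.glOfEquiv (M + 1) g)⁻¹ :
        GL (Fin (M + 1) ⊕ Fin (M + 1)) F).1 *ᵥ w = g.symm w := by
      intro w
      have := Cfsg.Agent.Lib.Helper99.inv_mulVec_mulVec (M + 1)
        (Cfsg.Agent.Lib.Helper99.glOfEquiv (M + 1) g) (g.symm w)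
      rw [hGv, LinearEquiv.apply_symm_apply] at this
      exact this
    refine ⟨Cfsg.Agent.Lib.Helper99.glOfEquiv (M + 1) g, ?_, ?_⟩
    · rw [Cfsg.Agent.Lib.Helper99.mem_spGL_iff]
      intro u v
      rw [hGv, hGv, ← hpol, ← hpol]
      exact hg u v
    · refine ⟨1, fun v => ?_⟩
      rw [Units.val_one, one_mul, Units.val_mul, Units.val_mul, ← Matrix.mulVec_mulVec,
        ← Matrix.mulVec_mulVec, hGv, hGinv, ← htv]
      exact hgt v

end Cfsg.Agent.S5983
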