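import Cfsg.Statements.S5984
import Cfsg.Agent.Lib.Helper8.UPairFinal
import Cfsg.Agent.Lib.Helper8.UPairConv2

set_option autoImplicit false
open scoped MatrixGroups
open Cfsg

namespace Cfsg.Agent.S5984

/-- Elements of prime order of PSU_n(q) and the stabilizers of pairs of complementary totally singular subspaces. Here `T = PSU_n(q)` is realised through `SU_n(q)`, the matrices of determinant 1 over the field `F` with `q²` elements preserving the hermitian form `Σ uᵢ vᵢ^q`, with `n ≥ 4` even; `D` is a pair of complementary subspaces of dimension `n/2` on each of which the form vanishes identically, and `H` is the subgroup of `SU_n(q)` fixing or interchanging the two members — a subgroup of type GL_{n/2}(q²).2 (maximality is not assumed). Ω is the set of cosets of `H`, so an element of `T` of prime order `r` (`x ∈ SU_n(q)` with `x^r` scalar, `x` not scalar) fixes a point of Ω exactly when some `SU_n(q)`-conjugate of `x` lies in `H`. Let `r` be a prime dividing the index of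 `H`. Then every element of `T` of order `r` fixes a point of Ω if and only if `r = 2`, `q` is odd and `(q + 1)_2 ≤ (n)_2` (2-parts). -/
theorem result {F : Type*} [Field F] [Fintype F] {p : ℕ} [Fact p.Prime] [CharP F p] {q : ℕ} (hq : Fintype.card F = q ^ 2)
    (n : ℕ) (hn : 4 ≤ n) (he : Even n) (D : Fin 2 → Submodule F (Fin n → F)) (hD : Cfsg.Geo.IsMDecomposition (n / 2) D)
    (hDs : ∀ i, Cfsg.Geo.IsTotallySingularFor (Cfsg.hermForm n F q) (D i))
    (r : ℕ) [Fact r.Prime]
    (hΩ : r ∣ (Cfsg.Geo.decompositionStabilizer D).relIndex (Cfsg.GU n F q ⊓ Cfsg.Geo.specialLinear (Fin n) F)) :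
    (∀ x ∈ Cfsg.GU n F q ⊓ Cfsg.Geo.specialLinear (Fin n) F, (∃ z : F, ((x ^ r : GL (Fin n) F) : Matrix (Fin n) (Fin n) F) = z • (1 : Matrix (Fin n) (Fin n) F)) →
      (∀ z : F, (x : Matrix (Fin n) (Fin n) F) ≠ z • (1 : Matrix (Fin n) (Fin n) F)) →
      ∃ g ∈ Cfsg.GU n F q ⊓ Cfsg.Geo.specialLinear (Fin n) F, g⁻¹ * x * g ∈ Cfsg.Geo.decompositionStabilizer D) ↔
    (r = 2 ∧ Odd q ∧ padicValNat 2 (q + 1) ≤ padicValNat 2 n) := by
  classical
  have hrprime : r.Prime := Fact.out
  have hpprime : p.Prime := Fact.out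
  have hP : Cfsg.Agent.Lib.Helper8.UPair.IsPolar q (n / 2) (D 0) (D 1) := by
    refine ⟨⟨hD.indep.pairwiseDisjoint (by decide), ?_⟩, hDs 0, hDs 1, hD.finrank_eq 0,
      hD.finrank_eq 1⟩
    rw [codisjoint_iff, eq_top_iff, ← hD.iSup_eq_top]
    exact iSup_le (Fin.forall_fin_two.mpr ⟨le_sup_left, le_sup_right⟩)
  have hm2 : 2 ≤ n / 2 := by omega
  constructor
  · intro hall
    by_contra hcon
    have key : ∀ x ∈ Cfsg.GU n F q ⊓ Cfsg.Geo.specialLinear (Fin n) F,
        (∃ z : F, ((x ^ r : GL (Fin n) F) : Matrix (Fin n) (Fin n) F) =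
          z • (1 : Matrix (Fin n) (Fin n) F)) →
        (∀ z : F, (x : Matrix (Fin n) (Fin n) F) ≠ z • (1 : Matrix (Fin n) (Fin n) F)) →
        (∀ g ∈ Cfsg.GU n F q ⊓ Cfsg.Geo.specialLinear (Fin n) F,
          g⁻¹ * x * g ∉ Cfsg.Geo.decompositionStabilizer D) → False := by
      intro x hx h1 h2 h3
      obtain ⟨g, hg, hmem⟩ := hall x hx h1 h2
      exact h3 g hg hmem
    by_cases hrp : r = p
    · obtain ⟨x, hx, hxp, hxns, hxd⟩ :=
        Cfsg.Agent.Lib.Helper8.UPair.no_conj_utv (p := p) hq hm2 D hP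
      exact key x hx ⟨1, by rw [hrp, hxp, one_smul]⟩ hxns hxd
    · by_cases hr2 : r = 2
      · have hqodd : Odd q := by
          rw [← Nat.not_even_iff_odd]
          intro hqe
          obtain ⟨k, hk⟩ := FiniteField.card F p
          have h1 : Even (q ^ 2) := (Nat.even_pow.mpr ⟨hqe, by norm_num⟩)
          rw [← hq, hk.2] at h1
          have h2 := (Nat.even_pow.mp h1).1
          have h3 := (Nat.Prime.even_iff hpprime).mp h2
          exact hrp (hr2.trans h3.symm)
        have hs : padicValNat 2 n < padicValNat 2 (q + 1) := by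
          by_contra hle
          exact hcon ⟨hr2, hqodd, not_lt.mp hle⟩
        obtain ⟨x, hx, z, hxz, hxns, hxd⟩ :=
          Cfsg.Agent.Lib.Helper8.UPair.no_conj_semiinv hq hqodd hm2 D hP hs
        exact key x hx ⟨z, by rw [hr2]; exact hxz⟩ hxns hxd
      · obtain ⟨x, hx, hxr, hxns, hxd⟩ :=
          Cfsg.Agent.Lib.Helper8.UPair.no_conj_odd (p := p) hq hm2 D hP r hr2 hrp hΩ
        exact key x hx ⟨1, by rw [hxr, Units.val_one, one_smul]⟩ hxns hxd
  · rintro ⟨hr2, hqodd, hs⟩ x hx ⟨z, hz⟩ _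
    rw [hr2] at hz
    exact Cfsg.Agent.Lib.Helper8.UPair.exists_conj_mem hq hqodd (by omega) D hP hs x hx z hz

end Cfsg.Agent.S5984
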