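import Cfsg.Statements.S5985
import Cfsg.Agent.Lib.Helper8.OddFpfPlus
import Cfsg.Agent.Lib.Helper8.InvolCountForms
import Cfsg.Agent.Lib.Helper8.MaxTS

set_option autoImplicit false
open scoped MatrixGroups
open Cfsg

namespace Cfsg.Agent.S5985

/-- Elements of prime order of Ω⁺_n(q), q even, with no fixed nonsingular 1-space. Here `T = PΩ⁺_n(F)`, `n = 2d ≥ 8`, realised through `Ω⁺_n(q)`, the commutator subgroup of the isometry group of `Q = Σ xᵢyᵢ` over the field `F` with `q` elements; an element of `T` of prime order `r` is an element `x` of `Ω⁺_n(q)` with `x^r` scalar and `x` not scalar; `q` is even (so the centre is trivial). Let Ω be the set of 1-dimensional subspaces spanned by a vector `v` with `Q(v) ≠ 0`, and let `r` be a prime dividing their number. Then every element of `T` of order `r` fixes some nonsingular 1-space if and only if `r = 2` and `n ≡ 2 (mod 4)` (that is, `d` is odd). -/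
theorem result {F : Type*} [Field F] [Fintype F] {p : ℕ} [Fact p.Prime] [CharP F p] {q : ℕ} (hq : Fintype.card F = q)
    (hp : p = 2) (d : ℕ) (hd : 4 ≤ d) (r : ℕ) [Fact r.Prime]
    (hrΩ : r ∣ Nat.card {W : Submodule F (Fin d ⊕ Fin d → F) // Module.finrank F ↥W = 1 ∧ ∃ v ∈ W, Cfsg.quadFormPlus d F v ≠ 0}) :
    (∀ x : GL (Fin d ⊕ Fin d) F, x ∈ Cfsg.Geo.omegaGL (Cfsg.quadFormPlus d F) →
      (∃ z : F, ((x ^ r : GL (Fin d ⊕ Fin d) F) : Matrix (Fin d ⊕ Fin d) (Fin d ⊕ Fin d) F) = z • (1 : Matrix (Fin d ⊕ Fin d) (Fin d ⊕ Fin d) F)) →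
      (∀ z : F, (x : Matrix (Fin d ⊕ Fin d) (Fin d ⊕ Fin d) F) ≠ z • (1 : Matrix (Fin d ⊕ Fin d) (Fin d ⊕ Fin d) F)) →
      ∃ W : Submodule F (Fin d ⊕ Fin d → F), (Module.finrank F ↥W = 1 ∧ ∃ v ∈ W, Cfsg.quadFormPlus d F v ≠ 0) ∧ W.map (Matrix.toLin' (x : Matrix (Fin d ⊕ Fin d) (Fin d ⊕ Fin d) F)) ≤ W) ↔ (r = 2 ∧ Odd d) := by
  subst hp
  subst hq
  have h2 : (2 : F) = 0 := by
    have := CharP.cast_eq_zero F 2
    exact_mod_cast this
  obtain ⟨k, rfl⟩ : ∃ k, d = k + 1 := ⟨d - 1, by omega⟩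
  have hcoe := Cfsg.Agent.Lib.Helper8.plusForm_coe (k + 1) F
  have hQ := Cfsg.Agent.Lib.Helper8.plusForm_nondegenerate (k + 1) F
  have hdim : Module.finrank F (Fin (k + 1) ⊕ Fin (k + 1) → F) = 2 * (k + 1) := by
    rw [Module.finrank_fintype_fun_eq_card, Fintype.card_sum, Fintype.card_fin]; ring
  have hgood : Cfsg.Agent.Lib.Helper8.GoodOrth (Cfsg.Agent.Lib.Helper8.plusForm (k + 1) F) :=
    Or.inl (Or.inr (by rw [hdim]; omega))
  have hex := Cfsg.Agent.Lib.Helper8.plusForm_exists_ne_zero (k + 1) F (by omega)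
  have hyp := Cfsg.Agent.Lib.Helper8.plusForm_hyp (k + 1) F
  simp only [hcoe] at hrΩ ⊢
  constructor
  · intro H
    have hr2 : r = 2 := by
      by_contra hne
      have hrp : r.Prime := Fact.out
      have hrodd : Odd r := hrp.odd_of_ne_two hne
      rw [Cfsg.Agent.Lib.Helper8.card_nonsing_lines_eq h2,
        Cfsg.Agent.Lib.Helper8.card_norm_one_plus F h2 k] at hrΩ
      have hrq : ¬ r ∣ Fintype.card F ^ k := by
        intro h
        have h1 := hrp.dvd_of_dvd_pow h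
        obtain ⟨n, -, hn⟩ := FiniteField.card F 2
        rw [hn] at h1
        have h3 := hrp.dvd_of_dvd_pow h1
        exact hne ((Nat.prime_dvd_prime_iff_eq hrp Nat.prime_two).1 h3)
      have hr1 : r ∣ Fintype.card F ^ (k + 1) - 1 := (hrp.dvd_mul.1 hrΩ).resolve_left hrq
      have hcardK : Nat.card (FiniteField.Extension F 2 (k + 1))ˣ = Fintype.card F ^ (k + 1) - 1 := by
        rw [Nat.card_units, FiniteField.natCard_extension, Nat.card_eq_fintype_card]
      rw [← hcardK] at hr1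
      obtain ⟨ζ, hζ⟩ := exists_prime_orderOf_dvd_card' r hr1
      have hζ1 : ζ ≠ 1 := by
        rintro rfl
        rw [orderOf_one] at hζ
        exact hrp.one_lt.ne hζ
      obtain ⟨Θ, hΘ⟩ := Cfsg.Agent.Lib.Helper8.exists_coords_trQ F
        (FiniteField.Extension F 2 (k + 1)) (k + 1) (FiniteField.finrank_extension F 2 (k + 1))
      obtain ⟨x, hx, hxr, hfpf⟩ := Cfsg.Agent.Lib.Helper8.exists_omega_fpf h2
        (Cfsg.quadFormPlus (k + 1) F) (Cfsg.Agent.Lib.Helper8.plusForm (k + 1) F) hcoe hQ hgood hex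
        (⇑(Cfsg.Agent.Lib.Helper8.trQ F (FiniteField.Extension F 2 (k + 1)))) Θ hΘ
        (Cfsg.Agent.Lib.Helper8.torusPlus F (FiniteField.Extension F 2 (k + 1)) ζ)
        (Cfsg.Agent.Lib.Helper8.torusPlus_isometry F _ ζ) r hrodd
        (by rw [← map_pow, ← hζ, pow_orderOf_eq_one, map_one])
        (Cfsg.Agent.Lib.Helper8.torusPlus_fpf F _ ζ hζ1)
      rw [hcoe] at hx
      exact Cfsg.Agent.Lib.Helper8.not_forall_fix h2 _
        (Cfsg.Agent.Lib.Helper8.plusForm (k + 1) F) rfl hex r x hx hxr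
        (fun u hu => by rw [hfpf u hu]; exact map_zero _) H
    refine ⟨hr2, ?_⟩
    subst hr2
    by_contra hodd
    rw [Nat.not_odd_iff_even] at hodd
    obtain ⟨j, hj⟩ := hodd
    obtain ⟨t, ht, hrank, halt⟩ := hyp.exists_alt h2 j (by omega)
    obtain ⟨T, hTT, hTt⟩ := Cfsg.Agent.Lib.Helper8.exists_iso_of_isInvIso
      (Cfsg.Agent.Lib.Helper8.plusForm (k + 1) F) hQ t ht
    have hTcomm : T ∈ commutator ↥(Cfsg.isometryGroup F
        (⇑(Cfsg.Agent.Lib.Helper8.plusForm (k + 1) F))) := by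
      rw [Cfsg.Agent.Lib.Helper8.mem_commutator_iff_even_rank_char2_gen h2 _ hQ hgood hex,
        ← Cfsg.Agent.Lib.Helper8.finrank_range_nilPart, hTt, hrank]
      exact even_two_mul j
    have hnil : ∀ z, Cfsg.Agent.Lib.Helper8.nilPart t (Cfsg.Agent.Lib.Helper8.nilPart t z) = 0 :=
      ht.nil_nil h2
    have hle : LinearMap.range (Cfsg.Agent.Lib.Helper8.nilPart t)
        ≤ LinearMap.ker (Cfsg.Agent.Lib.Helper8.nilPart t) := by
      rintro _ ⟨z, rfl⟩
      exact hnil z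
    have hrn := LinearMap.finrank_range_add_finrank_ker (Cfsg.Agent.Lib.Helper8.nilPart t)
    have heq : LinearMap.range (Cfsg.Agent.Lib.Helper8.nilPart t)
        = LinearMap.ker (Cfsg.Agent.Lib.Helper8.nilPart t) := by
      apply Submodule.eq_of_le_of_finrank_eq hle
      rw [hdim, hrank] at hrn
      rw [hrank]
      omega
    refine Cfsg.Agent.Lib.Helper8.not_forall_fix h2 _
      (Cfsg.Agent.Lib.Helper8.plusForm (k + 1) F) rfl hex 2
      (T : GL (Fin (k + 1) ⊕ Fin (k + 1)) F)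
      ((Cfsg.Agent.Lib.Helper8.mem_omegaGL_iff _ _).2 ⟨T, hTcomm, rfl⟩) ?_ ?_ H
    · rw [pow_two]
      have := congrArg (fun y : ↥(Cfsg.isometryGroup F
        (⇑(Cfsg.Agent.Lib.Helper8.plusForm (k + 1) F))) => (y : GL (Fin (k + 1) ⊕ Fin (k + 1)) F)) hTT
      simpa using this
    · intro u hu
      have hu' : u ∈ LinearMap.ker (Cfsg.Agent.Lib.Helper8.nilPart t) := by
        rw [LinearMap.mem_ker, Cfsg.Agent.Lib.Helper8.nilPart_apply, ← hTt,
          Cfsg.Agent.Lib.Helper8.isoLin_apply, hu, sub_self]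
      rw [← heq] at hu'
      obtain ⟨z, rfl⟩ := hu'
      exact halt z
  · rintro ⟨rfl, hodd⟩
    intro x hx hx2 hns
    obtain ⟨y, hy, hyy, hyx⟩ := Cfsg.Agent.Lib.Helper8.exists_involution_of_sq_scalar h2 _
      (Cfsg.Agent.Lib.Helper8.plusForm (k + 1) F) rfl hex x hx hx2
    have hev := (Cfsg.Agent.Lib.Helper8.mem_commutator_iff_even_rank_char2_gen h2 _ hQ hgood hex y).1 hy
    rw [← Cfsg.Agent.Lib.Helper8.finrank_range_nilPart] at hev
    have hinv := Cfsg.Agent.Lib.Helper8.isInvIso_isoLin _ y hyy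
    have hle := hinv.two_mul_finrank_range_le h2
    have hrn := LinearMap.finrank_range_add_finrank_ker
      (Cfsg.Agent.Lib.Helper8.nilPart (Cfsg.Agent.Lib.Helper8.isoLin
        (Cfsg.Agent.Lib.Helper8.plusForm (k + 1) F) y))
    rw [hdim] at hle hrn
    obtain ⟨w, hwK, hw⟩ := Cfsg.Agent.Lib.Helper8.exists_nonsingular_of_finrank_gt
      (Cfsg.Agent.Lib.Helper8.plusForm (k + 1) F) hQ
      (LinearMap.ker (Cfsg.Agent.Lib.Helper8.nilPart (Cfsg.Agent.Lib.Helper8.isoLin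
        (Cfsg.Agent.Lib.Helper8.plusForm (k + 1) F) y))) (by
        rw [hdim]
        obtain ⟨a, ha⟩ := hev
        obtain ⟨b, hb⟩ := hodd
        omega)
    rw [LinearMap.mem_ker, Cfsg.Agent.Lib.Helper8.nilPart_apply, sub_eq_zero,
      Cfsg.Agent.Lib.Helper8.isoLin_apply, hyx] at hwK
    have hw0 : w ≠ 0 := by
      rintro rfl
      exact hw (map_zero _)
    exact Cfsg.Agent.Lib.Helper8.exists_fixed_point_of_fixed_vector _ x w hw hw0 hwK

end Cfsg.Agent.S5985
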