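import Cfsg.Statements.S5986
import Cfsg.Agent.Lib.Helper8.OddFpfMinus
import Cfsg.Agent.Lib.Helper8.InvolCountForms
import Cfsg.Agent.Lib.Helper8.InvolCount

set_option autoImplicit false
open scoped MatrixGroups
open Cfsg

namespace Cfsg.Agent.S5986

/-- Elements of prime order of Ω⁻_n(q), q even, with no fixed nonsingular 1-space. Here `T = PΩ⁻_n(F)`, `n = 2d ≥ 8`, realised through `Ω⁻_n(q)`, the commutator subgroup of the isometry group of `Q = Σ_{i<d−1} xᵢyᵢ + z₁² + a z₁z₂ + b z₂²` with `z₁² + a z₁z₂ + b z₂²` anisotropic, over the field `F` with `q` elements; an element of `T` of prime order `r` is an element `x` of `Ω⁻_n(q)` with `x^r` scalar and `x` not scalar; `q` is even (so the centre is trivial). Let Ω be the set of 1-dimensional subspaces spanned by a vector `v` with `Q(v) ≠ 0`, and let `r` be a prime dividing their number. Then every element of `T` of order `r` fixes some nonsingular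 1-space if and only if `r = 2`. -/
theorem result {F : Type*} [Field F] [Fintype F] {p : ℕ} [Fact p.Prime] [CharP F p] {q : ℕ} (hq : Fintype.card F = q)
    (hp : p = 2) (d : ℕ) (hd : 4 ≤ d) (a b : F) (hab : ∀ x y : F, x ^ 2 + a * x * y + b * y ^ 2 = 0 → x = 0 ∧ y = 0) (r : ℕ) [Fact r.Prime]
    (hrΩ : r ∣ Nat.card {W : Submodule F ((Fin (d - 1) ⊕ Fin (d - 1)) ⊕ Fin 2 → F) // Module.finrank F ↥W = 1 ∧ ∃ v ∈ W, Cfsg.quadFormMinus (d - 1) F a b v ≠ 0}) :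
    (∀ x : GL ((Fin (d - 1) ⊕ Fin (d - 1)) ⊕ Fin 2) F, x ∈ Cfsg.Geo.omegaGL (Cfsg.quadFormMinus (d - 1) F a b) →
      (∃ z : F, ((x ^ r : GL ((Fin (d - 1) ⊕ Fin (d - 1)) ⊕ Fin 2) F) : Matrix ((Fin (d - 1) ⊕ Fin (d - 1)) ⊕ Fin 2) ((Fin (d - 1) ⊕ Fin (d - 1)) ⊕ Fin 2) F) = z • (1 : Matrix ((Fin (d - 1) ⊕ Fin (d - 1)) ⊕ Fin 2) ((Fin (d - 1) ⊕ Fin (d - 1)) ⊕ Fin 2) F)) →
      (∀ z : F, (x : Matrix ((Fin (d - 1) ⊕ Fin (d - 1)) ⊕ Fin 2) ((Fin (d - 1) ⊕ Fin (d - 1)) ⊕ Fin 2) F) ≠ z • (1 : Matrix ((Fin (d - 1) ⊕ Fin (d - 1)) ⊕ Fin 2) ((Fin (d - 1) ⊕ Fin (d - 1)) ⊕ Fin 2) F)) →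
      ∃ W : Submodule F ((Fin (d - 1) ⊕ Fin (d - 1)) ⊕ Fin 2 → F), (Module.finrank F ↥W = 1 ∧ ∃ v ∈ W, Cfsg.quadFormMinus (d - 1) F a b v ≠ 0) ∧ W.map (Matrix.toLin' (x : Matrix ((Fin (d - 1) ⊕ Fin (d - 1)) ⊕ Fin 2) ((Fin (d - 1) ⊕ Fin (d - 1)) ⊕ Fin 2) F)) ≤ W) ↔ r = 2 := by
  subst hp
  subst hq
  have h2 : (2 : F) = 0 := by
    have := CharP.cast_eq_zero F 2
    exact_mod_cast this
  have hc0 : a ≠ 0 := by
    rintro rfl
    obtain ⟨e, he⟩ := FiniteField.isSquare_of_char_two (ringChar.eq F 2) b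
    have := hab e 1 (by rw [he]; linear_combination (e * e) * h2)
    exact one_ne_zero this.2
  have hcoe := Cfsg.Agent.Lib.Helper8.minusForm_coe (d - 1) F a b
  have hQ := Cfsg.Agent.Lib.Helper8.minusForm_nondegenerate (d - 1) F a b h2 hc0
  have hdim : Module.finrank F ((Fin (d - 1) ⊕ Fin (d - 1)) ⊕ Fin 2 → F) = 2 * d := by
    rw [Module.finrank_fintype_fun_eq_card, Fintype.card_sum, Fintype.card_sum, Fintype.card_fin,
      Fintype.card_fin]
    omega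
  have hex := Cfsg.Agent.Lib.Helper8.minusForm_exists_ne_zero (d - 1) F a b
  have hyp := Cfsg.Agent.Lib.Helper8.minusForm_hyp (d - 1) F a b
  simp only [hcoe] at hrΩ ⊢
  constructor
  · intro H
    by_contra hne
    have hrp : r.Prime := Fact.out
    rw [Cfsg.Agent.Lib.Helper8.card_nonsing_lines_eq h2,
      Cfsg.Agent.Lib.Helper8.card_norm_one_minus F h2 (d - 1) a b hab] at hrΩ
    have hrq : ¬ r ∣ Fintype.card F ^ (d - 1) := by
      intro h
      have h1 := hrp.dvd_of_dvd_pow h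
      obtain ⟨n, -, hn⟩ := FiniteField.card F 2
      rw [hn] at h1
      have h3 := hrp.dvd_of_dvd_pow h1
      exact hne ((Nat.prime_dvd_prime_iff_eq hrp Nat.prime_two).1 h3)
    have hr1 : r ∣ Fintype.card F ^ (d - 1 + 1) + 1 := (hrp.dvd_mul.1 hrΩ).resolve_left hrq
    obtain ⟨x, hx, hxr, hfpf⟩ := Cfsg.Agent.Lib.Helper8.exists_omega_minus_fpf (d - 1) (by omega)
      r hne hr1 a b hab
    rw [hcoe] at hx
    exact Cfsg.Agent.Lib.Helper8.not_forall_fix h2 _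
      (Cfsg.Agent.Lib.Helper8.minusForm (d - 1) F a b) rfl hex r x hx hxr
      (fun u hu => by rw [hfpf u hu]; exact map_zero _) H
  · rintro rfl
    intro x hx hx2 hns
    obtain ⟨y, hy, hyy, hyx⟩ := Cfsg.Agent.Lib.Helper8.exists_involution_of_sq_scalar h2 _
      (Cfsg.Agent.Lib.Helper8.minusForm (d - 1) F a b) rfl hex x hx hx2
    obtain ⟨w, hfix, hw⟩ := Cfsg.Agent.Lib.Helper8.exists_nonsingular_fixed h2
      (Cfsg.Agent.Lib.Helper8.minusForm (d - 1) F a b) hQ (d - 1) _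
      (Cfsg.Agent.Lib.Helper8.minusForm_e_indep (d - 1) F) hyp.qe hyp.ee
      (Cfsg.Agent.Lib.Helper8.minusForm_max (d - 1) F a b hab)
      (by rw [hdim]; omega)
      (Cfsg.Agent.Lib.Helper8.isoLin _ y) (Cfsg.Agent.Lib.Helper8.isInvIso_isoLin _ y hyy)
    rw [Cfsg.Agent.Lib.Helper8.isoLin_apply, hyx] at hfix
    have hw0 : w ≠ 0 := by
      rintro rfl
      exact hw (map_zero _)
    exact Cfsg.Agent.Lib.Helper8.exists_fixed_point_of_fixed_vector _ x w hw hw0 hfix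

end Cfsg.Agent.S5986
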