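import Cfsg.Statements.S5993
import Cfsg.Agent.Lib.Helper5.HyAsmB
import Cfsg.Agent.Lib.Helper5.HyAR
import Cfsg.Agent.Lib.Helper83.HyBR
import Cfsg.Agent.Lib.Helper64.HyUNI

set_option autoImplicit false
open scoped MatrixGroups
open Cfsg

namespace Cfsg.Agent.S5993

open Module
open Cfsg.Agent.Lib.Helper2.BG Cfsg.Agent.Lib.Helper99 Cfsg.Agent.Lib.Helper48.Ti
open Cfsg.Agent.Lib.Helper67.Ts Cfsg.Agent.Lib.Helper5.Hy

theorem result {F : Type*} [Field F] [Fintype F] {p : ℕ} [Fact p.Prime] [CharP F p] {q : ℕ} (hq : Fintype.card F = q) (hqodd : Odd q)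
    (d m : ℕ) (hd : 3 ≤ d) (hm : 2 ≤ m) (hme : Even m) (hmn : m ≤ 2 * d)
    (r : ℕ) [Fact r.Prime]
    (hrΩ : r ∣ Nat.card {W : Submodule F (Unit ⊕ (Fin d ⊕ Fin d) → F) // Module.finrank F ↥W = m ∧ Cfsg.Geo.IsNondegenerateOn (QuadraticMap.polar (Cfsg.quadFormOdd d F)) W ∧ ¬ Cfsg.Geo.IsPlusTypeOn (Cfsg.quadFormOdd d F) W})
    (i c : ℕ) (hi : i = orderOf (q : ZMod r)) (hc : c = if Even i then i else 2 * i) :
    (∀ x : GL (Unit ⊕ (Fin d ⊕ Fin d)) F, x ∈ Cfsg.Geo.omegaGL (Cfsg.quadFormOdd d F) → orderOf x = r →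
      ∃ W : Submodule F (Unit ⊕ (Fin d ⊕ Fin d) → F), (Module.finrank F ↥W = m ∧ Cfsg.Geo.IsNondegenerateOn (QuadraticMap.polar (Cfsg.quadFormOdd d F)) W ∧ ¬ Cfsg.Geo.IsPlusTypeOn (Cfsg.quadFormOdd d F) W) ∧ W.map (Matrix.toLin' (x : Matrix (Unit ⊕ (Fin d ⊕ Fin d)) (Unit ⊕ (Fin d ⊕ Fin d)) F)) ≤ W) ↔
    (r = 2 ∨
     (r ≠ p ∧ 2 < r ∧ Odd i ∧ c ≤ m ∧ 0 < m % c ∧ m % c < (2 * d + 1) % c) ∨
     (r ≠ p ∧ 2 < r ∧ Even i ∧ i ≤ m ∧ m % c < (2 * d + 1) % c ∧ (0 < m % c ∨ Odd (m / i)))) := by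
  subst hq
  have hr : r.Prime := Fact.out
  have hp : p.Prime := Fact.out
  have h2 : (2 : F) ≠ 0 := by
    intro h
    have h' : ((2 : ℕ) : F) = 0 := by exact_mod_cast h
    have hp2 : p ∣ 2 := (CharP.cast_eq_zero_iff F p 2).1 h'
    have hp2' : p = 2 := (Nat.prime_dvd_prime_iff_eq hp Nat.prime_two).1 hp2
    obtain ⟨n, -, hn⟩ := FiniteField.card F p
    rw [hn, hp2'] at hqodd
    have : Even (2 ^ (n : ℕ)) := (Nat.even_pow.2 ⟨even_two, n.ne_zero⟩)
    exact (Nat.not_even_iff_odd.2 hqodd) this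
  have hp2 : p ≠ 2 := by
    rintro rfl
    exact h2 (by
      have := CharP.cast_eq_zero F 2
      exact_mod_cast this)
  have hbr := fun W : Submodule F (VO d F) => bridge h2 d W
  by_cases hrp : r = p
  · -- r = p: both sides are false
    have hRfalse : ¬ (r = 2 ∨
        (r ≠ p ∧ 2 < r ∧ Odd i ∧ c ≤ m ∧ 0 < m % c ∧ m % c < (2 * d + 1) % c) ∨
        (r ≠ p ∧ 2 < r ∧ Even i ∧ i ≤ m ∧ m % c < (2 * d + 1) % c ∧ (0 < m % c ∨ Odd (m / i)))) := by
      rintro (h | ⟨h, -⟩ | ⟨h, -⟩)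
      · exact hp2 (hrp ▸ h)
      · exact h hrp
      · exact h hrp
    refine ⟨fun hL => ?_, fun hR => absurd hR hRfalse⟩
    exfalso
    obtain ⟨x, hxΩ, hxp, hxbad⟩ := exists_unipotent_bad (p := p) hqodd d hd
    obtain ⟨W, ⟨hWdim, hWnd, hWnp⟩, hWinv⟩ := hL x hxΩ (by rw [hxp, hrp])
    apply hWnp
    rw [(hbr W).2]
    exact hxbad W ((inv_iff_map_le _ W).2 hWinv) ((hbr W).1.1 hWnd) (by rw [hWdim]; exact hme)
  have hrq : ¬ r ∣ Fintype.card F := asm_not_dvd_card (p := p) r hrp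
  obtain ⟨hipos, hcpos, hceven⟩ := asm_c_pos (F := F) r hrq i c hi hc
  -- translate the counting hypothesis
  have hrΩ' : r ∣ Nat.card {W : Submodule F (VO d F) //
      Nd (oddB d) W ∧ finrank F W = m ∧ (Plus (oddB d) W ↔ False)} := by
    have hcard : Nat.card {W : Submodule F (VO d F) //
        Nd (oddB d) W ∧ finrank F W = m ∧ (Plus (oddB d) W ↔ False)} =
        Nat.card {W : Submodule F (Unit ⊕ (Fin d ⊕ Fin d) → F) // Module.finrank F ↥W = m ∧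
          Cfsg.Geo.IsNondegenerateOn (QuadraticMap.polar (Cfsg.quadFormOdd d F)) W ∧
          ¬ Cfsg.Geo.IsPlusTypeOn (Cfsg.quadFormOdd d F) W} := by
      apply Nat.card_congr
      apply Equiv.subtypeEquivRight
      intro W
      rw [(hbr W).1, (hbr W).2, iff_false]
      tauto
    rw [hcard]; exact hrΩ
  have hmain := main (p := p) hqodd d m hm hme hmn r hrp False hrΩ' i c hi hc
  have hL : (∀ x : GL (Unit ⊕ (Fin d ⊕ Fin d)) F, x ∈ Cfsg.Geo.omegaGL (Cfsg.quadFormOdd d F) → orderOf x = r →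
      ∃ W : Submodule F (Unit ⊕ (Fin d ⊕ Fin d) → F), (Module.finrank F ↥W = m ∧ Cfsg.Geo.IsNondegenerateOn (QuadraticMap.polar (Cfsg.quadFormOdd d F)) W ∧ ¬ Cfsg.Geo.IsPlusTypeOn (Cfsg.quadFormOdd d F) W) ∧ W.map (Matrix.toLin' (x : Matrix (Unit ⊕ (Fin d ⊕ Fin d)) (Unit ⊕ (Fin d ⊕ Fin d)) F)) ≤ W) ↔
      (∀ x : GL (Unit ⊕ (Fin d ⊕ Fin d)) F, x ∈ Cfsg.Geo.omegaGL (Cfsg.quadFormOdd d F) →
        orderOf x = r →
        Fixes (oddB d) (Matrix.toLin'
          (x : Matrix (Unit ⊕ (Fin d ⊕ Fin d)) (Unit ⊕ (Fin d ⊕ Fin d)) F)) m False) := by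
    apply forall_congr'; intro x
    apply imp_congr_right; intro _
    apply imp_congr_right; intro _
    unfold Fixes
    apply exists_congr; intro W
    rw [(hbr W).1, (hbr W).2, iff_false, inv_iff_map_le]
    tauto
  rw [hL, hmain]
  apply or_congr Iff.rfl
  constructor
  · rintro ⟨hr3, hcm, hk, hcl⟩
    have hr2 : r ≠ 2 := by omega
    obtain ⟨hodd_pow, heven_pow⟩ := pow_half r hr2 ((Fintype.card F : ℕ) : ZMod r) i hi hipos m
    rcases Nat.even_or_odd i with hie | hio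
    · have hci : c = i := by rw [hc, if_pos hie]
      right
      refine ⟨hrp, hr3, hie, by omega, hk, ?_⟩
      by_cases h0 : m % c = 0
      · right
        have hdvd : i ∣ m := by rw [← hci]; exact Nat.dvd_of_mod_eq_zero h0
        rw [← Nat.not_even_iff_odd]
        intro hev
        exact (hcl h0).2 ((heven_pow hie hdvd).2 hev)
      · left; omega
    · have hci : c = 2 * i := by rw [hc, if_neg (Nat.not_even_iff_odd.2 hio)]
      left
      refine ⟨hrp, hr3, hio, hcm, ?_, hk⟩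
      by_contra h0
      have h0' : m % c = 0 := by omega
      have hdvd : 2 * i ∣ m := by rw [← hci]; exact Nat.dvd_of_mod_eq_zero h0'
      exact (hcl h0').2 (hodd_pow hio hdvd)
  · rintro (⟨-, hr3, hio, hcm, hpos, hk⟩ | ⟨-, hr3, hie, him, hk, hdis⟩)
    · exact ⟨hr3, hcm, hk, fun h0 => by omega⟩
    · have hr2 : r ≠ 2 := by omega
      obtain ⟨hodd_pow, heven_pow⟩ := pow_half r hr2 ((Fintype.card F : ℕ) : ZMod r) i hi hipos m
      have hci : c = i := by rw [hc, if_pos hie]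
      refine ⟨hr3, by omega, hk, ?_⟩
      intro h0
      have hdvd : i ∣ m := by rw [← hci]; exact Nat.dvd_of_mod_eq_zero h0
      rcases hdis with hpos | hod
      · omega
      · refine ⟨fun h => h.elim, fun h => ?_⟩
        exact (Nat.not_even_iff_odd.2 hod) ((heven_pow hie hdvd).1 h)

end Cfsg.Agent.S5993
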