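import Cfsg.Statements.S5994
import Cfsg.Agent.Lib.Helper94.Un14
import Cfsg.Agent.Lib.Helper94.Un15

set_option autoImplicit false
open scoped MatrixGroups
open Cfsg

namespace Cfsg.Agent.S5994

/-- A necessary condition for every element of order p of PΩ⁻_n(q), q odd, to fix an elliptic `m`-space. Here `T = PΩ⁻_n(F)`, `n = 2d ≥ 8`, realised through `Ω⁻_n(q)`, the commutator subgroup of the isometry group of `Q = Σ_{i<d−1} xᵢyᵢ + z₁² + a z₁z₂ + b z₂²` with `z₁² + a z₁z₂ + b z₂²` anisotropic, over the field `F` with `q` elements; an element of `T` of prime order `r` is an element `x` of `Ω⁻_n(q)` with `x^r` scalar and `x` not scalar; `q` is odd; a nondegenerate `m`-space (even `m`) is a subspace on which the polar form of `Q` is nondegenerate; it is hyperbolic if it contains an `m/2`-dimensional subspace on which `Q` vanishes, elliptic otherwise. Let `m` be even with `2 ≤ m ≤ n − 2` and suppose `p` divides the number of elliptic `m`-spaces. If every element of `T` of order `p`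 fixes some elliptic `m`-space, then `n ≡ m (mod 4)` and every partition of `n` into parts of size at most `p` in which every even part has even multiplicity contains (as a sub-multiset) a partition of `m` in which every even part has even multiplicity. -/
theorem result {F : Type*} [Field F] [Fintype F] {p : ℕ} [Fact p.Prime] [CharP F p] {q : ℕ} (hq : Fintype.card F = q) (hqodd : Odd q)
    (d m : ℕ) (hd : 4 ≤ d) (hm : 2 ≤ m) (hme : Even m) (hmn : m + 2 ≤ 2 * d) (a b : F) (hab : ∀ x y : F, x ^ 2 + a * x * y + b * y ^ 2 = 0 → x = 0 ∧ y = 0)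
    (hpΩ : p ∣ Nat.card {W : Submodule F ((Fin (d - 1) ⊕ Fin (d - 1)) ⊕ Fin 2 → F) // Module.finrank F ↥W = m ∧ Cfsg.Geo.IsNondegenerateOn (QuadraticMap.polar (Cfsg.quadFormMinus (d - 1) F a b)) W ∧ ¬ Cfsg.Geo.IsPlusTypeOn (Cfsg.quadFormMinus (d - 1) F a b) W}) :
    (∀ x : GL ((Fin (d - 1) ⊕ Fin (d - 1)) ⊕ Fin 2) F, x ∈ Cfsg.Geo.omegaGL (Cfsg.quadFormMinus (d - 1) F a b) →
      (∃ z : F, ((x ^ p : GL ((Fin (d - 1) ⊕ Fin (d - 1)) ⊕ Fin 2) F) : Matrix ((Fin (d - 1) ⊕ Fin (d - 1)) ⊕ Fin 2) ((Fin (d - 1) ⊕ Fin (d - 1)) ⊕ Fin 2) F) = z • (1 : Matrix ((Fin (d - 1) ⊕ Fin (d - 1)) ⊕ Fin 2) ((Fin (d - 1) ⊕ Fin (d - 1)) ⊕ Fin 2) F)) →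
      (∀ z : F, (x : Matrix ((Fin (d - 1) ⊕ Fin (d - 1)) ⊕ Fin 2) ((Fin (d - 1) ⊕ Fin (d - 1)) ⊕ Fin 2) F) ≠ z • (1 : Matrix ((Fin (d - 1) ⊕ Fin (d - 1)) ⊕ Fin 2) ((Fin (d - 1) ⊕ Fin (d - 1)) ⊕ Fin 2) F)) →
      ∃ W : Submodule F ((Fin (d - 1) ⊕ Fin (d - 1)) ⊕ Fin 2 → F), (Module.finrank F ↥W = m ∧ Cfsg.Geo.IsNondegenerateOn (QuadraticMap.polar (Cfsg.quadFormMinus (d - 1) F a b)) W ∧ ¬ Cfsg.Geo.IsPlusTypeOn (Cfsg.quadFormMinus (d - 1) F a b) W) ∧ W.map (Matrix.toLin' (x : Matrix ((Fin (d - 1) ⊕ Fin (d - 1)) ⊕ Fin 2) ((Fin (d - 1) ⊕ Fin (d - 1)) ⊕ Fin 2) F)) ≤ W) →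
    ((2 * d) % 4 = m % 4 ∧ (∀ μ : Multiset ℕ, (∀ e ∈ μ, 0 < e ∧ e ≤ p) → (∀ e : ℕ, Even e → Even (μ.count e)) → μ.sum = 2 * d →
        ∃ ν : Multiset ℕ, ν ≤ μ ∧ ν.sum = m ∧ ∀ e : ℕ, Even e → Even (ν.count e))) := by
  classical
  intro H
  have h2 : (2 : F) ≠ 0 := Cfsg.Agent.Lib.Helper94.Un.two_ne_zero_of_odd_card hq hqodd
  have hp' : p.Prime := Fact.out
  have hp3 : 3 ≤ p := by
    have hp2 : p ≠ 2 := by
      rintro rfl
      apply h2
      have : ((2 : ℕ) : F) = 0 := CharP.cast_eq_zero F 2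
      exact_mod_cast this
    have := hp'.two_le
    omega
  have hpodd : Odd p := hp'.odd_of_ne_two (by omega)
  have hd1 : 1 ≤ d := by omega
  have hQ := Cfsg.Agent.Lib.Helper94.Un.nondeg_quadFormMinus (F := F) h2 d hd1 a b hab
  have hcardι : Fintype.card ((Fin (d - 1) ⊕ Fin (d - 1)) ⊕ Fin 2) = 2 * d := by
    simp only [Fintype.card_sum, Fintype.card_fin]; omega
  -- the unipotent elements and their invariant subspaces
  have elem : ∀ μ : Multiset ℕ, (∀ e ∈ μ, 0 < e ∧ e ≤ p) →
      (∀ e : ℕ, Even e → Even (μ.count e)) → μ.sum = 2 * d → (∃ c ∈ μ, Odd c) →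
      (∃ b₀ ∈ μ, 1 < b₀) →
      ∃ x : GL ((Fin (d - 1) ⊕ Fin (d - 1)) ⊕ Fin 2) F,
        x ∈ isometryGroup F (quadFormMinus (d - 1) F a b) ∧
        (∀ k, Cfsg.Agent.Lib.Helper99.dker (Matrix.toLin' ((x : Matrix ((Fin (d - 1) ⊕ Fin (d - 1)) ⊕ Fin 2)
          ((Fin (d - 1) ⊕ Fin (d - 1)) ⊕ Fin 2) F) - 1)) k = Cfsg.Agent.Lib.Helper94.Un.prof μ k) ∧
        ∃ W : Submodule F ((Fin (d - 1) ⊕ Fin (d - 1)) ⊕ Fin 2 → F),
          Module.finrank F ↥W = m ∧
          Cfsg.Geo.IsNondegenerateOn (QuadraticMap.polar (Cfsg.quadFormMinus (d - 1) F a b)) W ∧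
          ¬ Cfsg.Geo.IsPlusTypeOn (Cfsg.quadFormMinus (d - 1) F a b) W ∧
          W.map (Matrix.toLin' (x : Matrix ((Fin (d - 1) ⊕ Fin (d - 1)) ⊕ Fin 2)
            ((Fin (d - 1) ⊕ Fin (d - 1)) ⊕ Fin 2) F)) ≤ W := by
    intro μ hμ hev hsum hodd ⟨b₀, hb₀, hb₀'⟩
    obtain ⟨x, hxΩ, hprof⟩ :=
      Cfsg.Agent.Lib.Helper94.Un.exists_unipotent_minus (F := F) h2 d hd1 a b hab μ hev hsum hodd
    have hxiso : x ∈ isometryGroup F (quadFormMinus (d - 1) F a b) :=
      Cfsg.Agent.Lib.Helper94.omega_le_isom hxΩ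
    have hcard : μ.sum = Fintype.card ((Fin (d - 1) ⊕ Fin (d - 1)) ⊕ Fin 2) := by
      rw [hsum, hcardι]
    obtain ⟨hxp, hxns, -⟩ := Cfsg.Agent.Lib.Helper94.Un.unipotent_facts hQ h2 x hxiso μ hprof hcard
      (fun b hb => (hμ b hb).2) b₀ hb₀ hb₀'
    obtain ⟨W, ⟨hWm, hWnd, hWnp⟩, hxW⟩ := H x hxΩ ⟨1, by rw [hxp, one_smul]⟩ hxns
    exact ⟨x, hxiso, hprof, W, hWm, hWnd, hWnp, hxW⟩
  have real : ∀ μ : Multiset ℕ, (∀ e ∈ μ, 0 < e ∧ e ≤ p) →
      (∀ e : ℕ, Even e → Even (μ.count e)) → μ.sum = 2 * d → (∃ c ∈ μ, Odd c) →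
      ∃ ν : Multiset ℕ, ν ≤ μ ∧ ν.sum = m ∧ ∀ e : ℕ, Even e → Even (ν.count e) := by
    intro μ hμ hev hsum hodd
    by_cases hall : ∀ b ∈ μ, b = 1
    · have hμ' : μ = Multiset.replicate (Multiset.card μ) 1 :=
        Multiset.eq_replicate_card.mpr hall
      have hcard : Multiset.card μ = 2 * d := by
        rw [hμ'] at hsum
        simpa using hsum
      refine ⟨Multiset.replicate m 1, ?_, by simp, ?_⟩
      · rw [hμ', hcard, Multiset.replicate_le_replicate]
        omega
      · intro e he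
        have : e ≠ 1 := by rintro rfl; exact absurd he (by decide)
        rw [Multiset.count_replicate, if_neg (Ne.symm this)]
        exact ⟨0, rfl⟩
    · push Not at hall
      obtain ⟨b₀, hb₀, hb₀1⟩ := hall
      have hb₀' : 1 < b₀ := by have := (hμ b₀ hb₀).1; omega
      obtain ⟨x, hxiso, hprof, W, hWm, hWnd, hWnp, hxW⟩ := elem μ hμ hev hsum hodd ⟨b₀, hb₀, hb₀'⟩
      have hcard : μ.sum = Fintype.card ((Fin (d - 1) ⊕ Fin (d - 1)) ⊕ Fin 2) := by
        rw [hsum, hcardι]
      have hK := Cfsg.Agent.Lib.Helper94.Un.pow_eq_zero_of_prof _ μ hprof hcard p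
        (fun b hb => (hμ b hb).2)
      obtain ⟨ν, hν1, hν2, hν3, -⟩ :=
        Cfsg.Agent.Lib.Helper94.Un.jordan_sub' hQ h2 x hxiso p hK μ hprof W hWnd hxW
      exact ⟨ν, hν1, by rw [hν2, hWm], hν3⟩
  have first : (2 * d) % 4 = m % 4 := by
    obtain ⟨t, ht⟩ := hme
    rcases Nat.even_or_odd d with hde | hdo
    · -- `μ = (2^(d-2), 3, 1)`
      obtain ⟨j, hj⟩ := hde
      obtain ⟨ν, hν1, hν2, hν3⟩ := real (Multiset.replicate (d - 2) 2 + {3, 1})
        (by
          intro e he
          rcases Multiset.mem_add.mp he with h | h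
          · rw [Multiset.eq_of_mem_replicate h]; omega
          · simp only [Multiset.insert_eq_cons, Multiset.mem_cons, Multiset.mem_singleton] at h
            rcases h with rfl | rfl <;> omega)
        (by
          intro e he
          rw [Multiset.count_add, Multiset.count_replicate]
          have he1 : e ≠ 3 := by rintro rfl; exact absurd he (by decide)
          have he2 : e ≠ 1 := by rintro rfl; exact absurd he (by decide)
          have : Multiset.count e ({3, 1} : Multiset ℕ) = 0 := by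
            rw [Multiset.count_eq_zero]
            simp only [Multiset.insert_eq_cons, Multiset.mem_cons, Multiset.mem_singleton]
            tauto
          rw [this, add_zero]
          split_ifs
          · exact ⟨j - 1, by omega⟩
          · exact ⟨0, rfl⟩)
        (by simp; omega)
        ⟨1, by simp, by decide⟩
      have hsub : ν.toFinset ⊆ ({1, 2, 3} : Finset ℕ) := by
        intro y hy
        rw [Multiset.mem_toFinset] at hy
        have := Multiset.mem_of_le hν1 hy
        rcases Multiset.mem_add.mp this with h | h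
        · rw [Multiset.eq_of_mem_replicate h]; decide
        · simp only [Multiset.insert_eq_cons, Multiset.mem_cons, Multiset.mem_singleton] at h
          rcases h with rfl | rfl <;> decide
      have hs : ν.sum = ν.count 1 * 1 + (ν.count 2 * 2 + ν.count 3 * 3) := by
        rw [Finset.sum_multiset_count_of_subset ν {1, 2, 3} hsub,
          Finset.sum_insert (by decide), Finset.sum_pair (by decide)]
        simp [smul_eq_mul]
      have hc1 : ν.count 1 ≤ 1 := by
        have := Multiset.count_le_of_le 1 hν1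
        rw [Multiset.count_add, Multiset.count_replicate] at this
        simpa using this
      have hc3 : ν.count 3 ≤ 1 := by
        have := Multiset.count_le_of_le 3 hν1
        rw [Multiset.count_add, Multiset.count_replicate] at this
        simpa using this
      obtain ⟨r, hr⟩ := hν3 2 (by decide)
      have h31 : ν.count 3 = 0 ∨ ν.count 3 = 1 := by omega
      have h11 : ν.count 1 = 0 ∨ ν.count 1 = 1 := by omega
      rcases h31 with h31 | h31 <;> rcases h11 with h11 | h11 <;> rw [h31, h11] at hs <;> omega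
    · -- `μ = (2^(d-1), 1, 1)`
      obtain ⟨j, hj⟩ := hdo
      have hμ : ∀ e ∈ (Multiset.replicate (d - 1) 2 + {1, 1} : Multiset ℕ), 0 < e ∧ e ≤ p := by
        intro e he
        rcases Multiset.mem_add.mp he with h | h
        · rw [Multiset.eq_of_mem_replicate h]; omega
        · simp only [Multiset.insert_eq_cons, Multiset.mem_cons, Multiset.mem_singleton] at h
          rcases h with rfl | rfl <;> omega
      have hμ2 : ∀ e ∈ (Multiset.replicate (d - 1) 2 + {1, 1} : Multiset ℕ), e ≤ 2 := by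
        intro e he
        rcases Multiset.mem_add.mp he with h | h
        · rw [Multiset.eq_of_mem_replicate h]
        · simp only [Multiset.insert_eq_cons, Multiset.mem_cons, Multiset.mem_singleton] at h
          rcases h with rfl | rfl <;> omega
      have hsum : (Multiset.replicate (d - 1) 2 + {1, 1} : Multiset ℕ).sum = 2 * d := by
        simp; omega
      obtain ⟨x, hxiso, hprof, W, hWm, hWnd, hWnp, hxW⟩ :=
        elem (Multiset.replicate (d - 1) 2 + {1, 1}) hμ
        (by
          intro e he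
          rw [Multiset.count_add, Multiset.count_replicate]
          have he2 : e ≠ 1 := by rintro rfl; exact absurd he (by decide)
          have : Multiset.count e ({1, 1} : Multiset ℕ) = 0 := by
            rw [Multiset.count_eq_zero]
            simp only [Multiset.insert_eq_cons, Multiset.mem_cons, Multiset.mem_singleton]
            tauto
          rw [this, add_zero]
          split_ifs
          · exact ⟨j, by omega⟩
          · exact ⟨0, rfl⟩)
        hsum
        ⟨1, by simp, by decide⟩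
        ⟨2, by
          apply Multiset.mem_add.mpr
          left
          rw [Multiset.mem_replicate]
          exact ⟨by omega, rfl⟩, by decide⟩
      have hcard : (Multiset.replicate (d - 1) 2 + {1, 1} : Multiset ℕ).sum =
          Fintype.card ((Fin (d - 1) ⊕ Fin (d - 1)) ⊕ Fin 2) := by
        rw [hsum, hcardι]
      have hK := Cfsg.Agent.Lib.Helper94.Un.pow_eq_zero_of_prof _ _ hprof hcard 2 hμ2
      obtain ⟨ν, hν1, hν2, hν3, hν4⟩ :=
        Cfsg.Agent.Lib.Helper94.Un.jordan_sub' hQ h2 x hxiso 2 hK _ hprof W hWnd hxW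
      have hT2 : (Matrix.toLin' ((x : Matrix ((Fin (d - 1) ⊕ Fin (d - 1)) ⊕ Fin 2)
          ((Fin (d - 1) ⊕ Fin (d - 1)) ⊕ Fin 2) F) - 1)) ^ 2 = 0 := by
        rw [← Matrix.toLin'_pow, hK, map_zero]
      have h1 := hν4 1 le_rfl (by norm_num)
      rw [show (1 - 1 : ℕ) = 0 from rfl, show (1 + 1 : ℕ) = 2 from rfl, hT2, pow_zero,
        LinearMap.ker_zero, inf_top_eq, Module.End.one_eq_id, LinearMap.ker_id, inf_bot_eq,
        finrank_bot, zero_add, pow_one] at h1
      have hs := Cfsg.Agent.Lib.Helper94.Un.sum_of_le_two_values ν _ 2 1 (by decide) hν1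
        (by
          intro y hy
          rcases Multiset.mem_add.mp hy with h | h
          · left; exact Multiset.eq_of_mem_replicate h
          · right
            simp only [Multiset.insert_eq_cons, Multiset.mem_cons, Multiset.mem_singleton] at h
            rcases h with rfl | rfl <;> rfl)
      have hc1 : ν.count 1 ≤ 2 := by
        have := Multiset.count_le_of_le 1 hν1
        rw [Multiset.count_add, Multiset.count_replicate] at this
        simpa using this
      obtain ⟨r, hr⟩ := hν3 2 (by decide)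
      by_cases hc0 : ν.count 1 = 0
      · exfalso
        apply hWnp
        apply Cfsg.Agent.Lib.Helper94.Un.plusType_of_sq_zero hQ h2 x hxiso W hxW
        · rw [hT2, LinearMap.ker_zero]; exact le_top
        · rw [hc0, zero_add] at h1
          exact h1.symm
      · omega
  refine ⟨first, ?_⟩
  intro μ hμ hev hsum
  by_cases hodd : ∃ c ∈ μ, Odd c
  · exact real μ hμ hev hsum hodd
  · push Not at hodd
    have hall : ∀ e ∈ μ, Even e := fun e he => Nat.not_odd_iff_even.mp (hodd e he)
    have hne : μ ≠ 0 := by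
      rintro rfl
      simp at hsum
      omega
    have h4 : 4 ∣ μ.sum := Cfsg.Agent.Lib.Helper94.Un.four_dvd_sum_of_all_even μ hall hev
    have hm4 : 4 ∣ m := by
      rw [hsum] at h4
      omega
    exact Cfsg.Agent.Lib.Helper94.Un.all_even_case p hpodd μ m hμ hev hall hne hm4
      (fun μ' h1 h2' h3 h4' => real μ' h1 h2' (h3.trans hsum) h4')

end Cfsg.Agent.S5994
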