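import Cfsg.Statements.S5995
import Cfsg.Agent.Lib.Helper94.Un11

set_option autoImplicit false
open scoped MatrixGroups
open Cfsg

namespace Cfsg.Agent.S5995

/-- A necessary condition for every element of order p of Ω_n(q), nq odd, to fix a hyperbolic `m`-space. Here `T = Ω_n(F)`, `n = 2d+1 ≥ 7`, `q` odd, realised as the commutator subgroup of the isometry group of `Q = x₀² + Σ xᵢyᵢ` over the field `F` with `q` elements (trivial centre, so its elements of prime order `r` are used directly); a nondegenerate `m`-space (even `m`) is a subspace on which the polar form of `Q` is nondegenerate; it is hyperbolic if it contains an `m/2`-dimensional subspace on which `Q` vanishes, elliptic otherwise. Let `m` be even with `2 ≤ m ≤ n − 1` and suppose `p` divides the number of hyperbolic `m`-spaces. If every element of `T` of order `p` fixes some hyperbolic `m`-space, then `m ≡ 0 (mod 4)` and every partition of `n` into parts of size at most `p` in which every even part has even multiplicity contains (as a sub-multiset) a partition of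 `m` in which every even part has even multiplicity. -/
theorem result {F : Type*} [Field F] [Fintype F] {p : ℕ} [Fact p.Prime] [CharP F p] {q : ℕ} (hq : Fintype.card F = q) (hqodd : Odd q)
    (d m : ℕ) (hd : 3 ≤ d) (hm : 2 ≤ m) (hme : Even m) (hmn : m ≤ 2 * d)
    (hpΩ : p ∣ Nat.card {W : Submodule F (Unit ⊕ (Fin d ⊕ Fin d) → F) // Module.finrank F ↥W = m ∧ Cfsg.Geo.IsNondegenerateOn (QuadraticMap.polar (Cfsg.quadFormOdd d F)) W ∧ Cfsg.Geo.IsPlusTypeOn (Cfsg.quadFormOdd d F) W}) :
    (∀ x : GL (Unit ⊕ (Fin d ⊕ Fin d)) F, x ∈ Cfsg.Geo.omegaGL (Cfsg.quadFormOdd d F) → orderOf x = p →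
      ∃ W : Submodule F (Unit ⊕ (Fin d ⊕ Fin d) → F), (Module.finrank F ↥W = m ∧ Cfsg.Geo.IsNondegenerateOn (QuadraticMap.polar (Cfsg.quadFormOdd d F)) W ∧ Cfsg.Geo.IsPlusTypeOn (Cfsg.quadFormOdd d F) W) ∧ W.map (Matrix.toLin' (x : Matrix (Unit ⊕ (Fin d ⊕ Fin d)) (Unit ⊕ (Fin d ⊕ Fin d)) F)) ≤ W) →
    (m % 4 = 0 ∧ (∀ μ : Multiset ℕ, (∀ e ∈ μ, 0 < e ∧ e ≤ p) → (∀ e : ℕ, Even e → Even (μ.count e)) → μ.sum = 2 * d + 1 →
        ∃ ν : Multiset ℕ, ν ≤ μ ∧ ν.sum = m ∧ ∀ e : ℕ, Even e → Even (ν.count e))) := by
  classical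
  intro H
  have h2 : (2 : F) ≠ 0 := Cfsg.Agent.Lib.Helper94.Un.two_ne_zero_of_odd_card hq hqodd
  have hp' : p.Prime := Fact.out
  have hp3 : 3 ≤ p := by
    have hp2 : p ≠ 2 := by
      rintro rfl
      apply h2
      have : ((2 : ℕ) : F) = 0 := CharP.cast_eq_zero F 2
      exact_mod_cast this
    have := hp'.two_le
    omega
  have main : ∀ μ : Multiset ℕ, (∀ e ∈ μ, 0 < e ∧ e ≤ p) → (∀ e : ℕ, Even e → Even (μ.count e)) →
      μ.sum = 2 * d + 1 →
      ∃ ν : Multiset ℕ, ν ≤ μ ∧ ν.sum = m ∧ ∀ e : ℕ, Even e → Even (ν.count e) := by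
    intro μ hμ hev hsum
    by_cases hall : ∀ b ∈ μ, b = 1
    · have hμ' : μ = Multiset.replicate (Multiset.card μ) 1 :=
        Multiset.eq_replicate_card.mpr hall
      have hcard : Multiset.card μ = 2 * d + 1 := by
        rw [hμ'] at hsum
        simpa using hsum
      refine ⟨Multiset.replicate m 1, ?_, by simp, ?_⟩
      · rw [hμ', hcard, Multiset.replicate_le_replicate]
        omega
      · intro e he
        have : e ≠ 1 := by rintro rfl; exact absurd he (by decide)
        rw [Multiset.count_replicate, if_neg (Ne.symm this)]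
        exact ⟨0, rfl⟩
    · push Not at hall
      obtain ⟨b₀, hb₀, hb₀1⟩ := hall
      have hb₀' : 1 < b₀ := by have := (hμ b₀ hb₀).1; omega
      obtain ⟨x, hxΩ, hprof⟩ :=
        Cfsg.Agent.Lib.Helper94.Un.exists_unipotent_odd (F := F) h2 d μ hev hsum
      have hQ := Cfsg.Agent.Lib.Helper94.nondeg_quadFormOdd (F := F) (m := d) h2
      have hxiso : x ∈ isometryGroup F (quadFormOdd d F) :=
        Cfsg.Agent.Lib.Helper94.omega_le_isom hxΩ
      have hcard : μ.sum = Fintype.card (Unit ⊕ (Fin d ⊕ Fin d)) := by
        rw [hsum]; simp; ring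
      obtain ⟨hxp, hxns, hW⟩ := Cfsg.Agent.Lib.Helper94.Un.unipotent_facts hQ h2 x hxiso μ hprof
        hcard (fun b hb => (hμ b hb).2) b₀ hb₀ hb₀'
      have hxp' : x ^ p = 1 := Units.ext (by rw [hxp]; rfl)
      have hx1 : x ≠ 1 := by
        intro h
        apply hxns 1
        rw [h, one_smul]
        rfl
      have hord : orderOf x = p := orderOf_eq_prime hxp' hx1
      obtain ⟨W, ⟨hWm, hWnd, -⟩, hxW⟩ := H x hxΩ hord
      obtain ⟨ν, hν1, hν2, hν3⟩ := hW W hWnd hxW
      exact ⟨ν, hν1, by rw [hν2, hWm], hν3⟩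
  refine ⟨?_, main⟩
  obtain ⟨t, ht⟩ := hme
  rcases Nat.even_or_odd d with hde | hdo
  · -- `μ = (2^d, 1)`
    obtain ⟨ν, hν1, hν2, hν3⟩ := main (Multiset.replicate d 2 + {1})
      (by
        intro e he
        rcases Multiset.mem_add.mp he with h | h
        · rw [Multiset.eq_of_mem_replicate h]; omega
        · rw [Multiset.mem_singleton.mp h]; omega)
      (by
        intro e he
        rw [Multiset.count_add, Multiset.count_replicate, Multiset.count_singleton]
        have he1 : e ≠ 1 := by rintro rfl; exact absurd he (by decide)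
        rw [if_neg he1, add_zero]
        split_ifs
        · exact hde
        · exact ⟨0, rfl⟩)
      (by simp; ring)
    have hs := Cfsg.Agent.Lib.Helper94.Un.sum_of_le_two_values ν _ 2 1 (by decide) hν1
      (by
        intro x hx
        rcases Multiset.mem_add.mp hx with h | h
        · left; exact Multiset.eq_of_mem_replicate h
        · right; exact Multiset.mem_singleton.mp h)
    have hc1 : ν.count 1 ≤ 1 := by
      have := Multiset.count_le_of_le 1 hν1
      rw [Multiset.count_add, Multiset.count_replicate, Multiset.count_singleton] at this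
      simpa using this
    obtain ⟨r, hr⟩ := hν3 2 (by decide)
    omega
  · -- `μ = (2^(d-1), 3)`
    obtain ⟨j, hj⟩ := hdo
    obtain ⟨ν, hν1, hν2, hν3⟩ := main (Multiset.replicate (d - 1) 2 + {3})
      (by
        intro e he
        rcases Multiset.mem_add.mp he with h | h
        · rw [Multiset.eq_of_mem_replicate h]; omega
        · rw [Multiset.mem_singleton.mp h]; omega)
      (by
        intro e he
        rw [Multiset.count_add, Multiset.count_replicate, Multiset.count_singleton]
        have he1 : e ≠ 3 := by rintro rfl; exact absurd he (by decide)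
        rw [if_neg he1, add_zero]
        split_ifs
        · exact ⟨j, by omega⟩
        · exact ⟨0, rfl⟩)
      (by simp; omega)
    have hs := Cfsg.Agent.Lib.Helper94.Un.sum_of_le_two_values ν _ 2 3 (by decide) hν1
      (by
        intro x hx
        rcases Multiset.mem_add.mp hx with h | h
        · left; exact Multiset.eq_of_mem_replicate h
        · right; exact Multiset.mem_singleton.mp h)
    have hc1 : ν.count 3 ≤ 1 := by
      have := Multiset.count_le_of_le 3 hν1
      rw [Multiset.count_add, Multiset.count_replicate, Multiset.count_singleton] at this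
      simpa using this
    obtain ⟨r, hr⟩ := hν3 2 (by decide)
    omega

end Cfsg.Agent.S5995
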