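import Cfsg.Statements.S5996
import Cfsg.Agent.Lib.Helper94.Un10

set_option autoImplicit false
open scoped MatrixGroups
open Cfsg

namespace Cfsg.Agent.S5996

/-- A necessary condition for every element of order p of PΩ⁺_n(q), q odd, to fix a hyperbolic `m`-space. Here `T = PΩ⁺_n(F)`, `n = 2d ≥ 8`, realised through `Ω⁺_n(q)`, the commutator subgroup of the isometry group of `Q = Σ xᵢyᵢ` over the field `F` with `q` elements; an element of `T` of prime order `r` is an element `x` of `Ω⁺_n(q)` with `x^r` scalar and `x` not scalar; `q` is odd; a nondegenerate `m`-space (even `m`) is a subspace on which the polar form of `Q` is nondegenerate; it is hyperbolic if it contains an `m/2`-dimensional subspace on which `Q` vanishes, elliptic otherwise. Let `m` be even with `2 ≤ m < n/2` and suppose `p` divides the number of hyperbolic `m`-spaces. If every element of `T` of order `p` fixes some hyperbolic `m`-space, then every partition of `n` into parts of size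 at most `p` in which every even part has even multiplicity contains (as a sub-multiset) a partition of `m` in which every even part has even multiplicity. -/
theorem result {F : Type*} [Field F] [Fintype F] {p : ℕ} [Fact p.Prime] [CharP F p] {q : ℕ} (hq : Fintype.card F = q) (hqodd : Odd q)
    (d m : ℕ) (hd : 4 ≤ d) (hm : 2 ≤ m) (hme : Even m) (hmd : m < d)
    (hpΩ : p ∣ Nat.card {W : Submodule F (Fin d ⊕ Fin d → F) // Module.finrank F ↥W = m ∧ Cfsg.Geo.IsNondegenerateOn (QuadraticMap.polar (Cfsg.quadFormPlus d F)) W ∧ Cfsg.Geo.IsPlusTypeOn (Cfsg.quadFormPlus d F) W}) :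
    (∀ x : GL (Fin d ⊕ Fin d) F, x ∈ Cfsg.Geo.omegaGL (Cfsg.quadFormPlus d F) →
      (∃ z : F, ((x ^ p : GL (Fin d ⊕ Fin d) F) : Matrix (Fin d ⊕ Fin d) (Fin d ⊕ Fin d) F) = z • (1 : Matrix (Fin d ⊕ Fin d) (Fin d ⊕ Fin d) F)) →
      (∀ z : F, (x : Matrix (Fin d ⊕ Fin d) (Fin d ⊕ Fin d) F) ≠ z • (1 : Matrix (Fin d ⊕ Fin d) (Fin d ⊕ Fin d) F)) →
      ∃ W : Submodule F (Fin d ⊕ Fin d → F), (Module.finrank F ↥W = m ∧ Cfsg.Geo.IsNondegenerateOn (QuadraticMap.polar (Cfsg.quadFormPlus d F)) W ∧ Cfsg.Geo.IsPlusTypeOn (Cfsg.quadFormPlus d F) W) ∧ W.map (Matrix.toLin' (x : Matrix (Fin d ⊕ Fin d) (Fin d ⊕ Fin d) F)) ≤ W) →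
    (∀ μ : Multiset ℕ, (∀ e ∈ μ, 0 < e ∧ e ≤ p) → (∀ e : ℕ, Even e → Even (μ.count e)) → μ.sum = 2 * d →
        ∃ ν : Multiset ℕ, ν ≤ μ ∧ ν.sum = m ∧ ∀ e : ℕ, Even e → Even (ν.count e)) := by
  classical
  intro H μ hμ hev hsum
  have h2 : (2 : F) ≠ 0 := Cfsg.Agent.Lib.Helper94.Un.two_ne_zero_of_odd_card hq hqodd
  by_cases hall : ∀ b ∈ μ, b = 1
  · have hμ' : μ = Multiset.replicate (Multiset.card μ) 1 := Multiset.eq_replicate_card.mpr hall
    have hcard : Multiset.card μ = 2 * d := by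
      rw [hμ'] at hsum
      simpa using hsum
    refine ⟨Multiset.replicate m 1, ?_, by simp, ?_⟩
    · rw [hμ', hcard, Multiset.replicate_le_replicate]
      omega
    · intro e he
      have : e ≠ 1 := by rintro rfl; exact absurd he (by decide)
      rw [Multiset.count_replicate, if_neg (Ne.symm this)]
      exact ⟨0, rfl⟩
  · push Not at hall
    obtain ⟨b₀, hb₀, hb₀1⟩ := hall
    have hb₀' : 1 < b₀ := by have := (hμ b₀ hb₀).1; omega
    obtain ⟨x, hxΩ, hprof⟩ :=
      Cfsg.Agent.Lib.Helper94.Un.exists_unipotent_plus (F := F) h2 d μ hev hsum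
    have hQ := Cfsg.Agent.Lib.Helper94.Un.nondeg_quadFormPlus (F := F) d
    have hxiso : x ∈ isometryGroup F (quadFormPlus d F) :=
      Cfsg.Agent.Lib.Helper94.omega_le_isom hxΩ
    have hcard : μ.sum = Fintype.card (Fin d ⊕ Fin d) := by
      rw [hsum, Fintype.card_sum, Fintype.card_fin]; ring
    obtain ⟨hxp, hxns, hW⟩ := Cfsg.Agent.Lib.Helper94.Un.unipotent_facts hQ h2 x hxiso μ hprof hcard
      (fun b hb => (hμ b hb).2) b₀ hb₀ hb₀'
    obtain ⟨W, ⟨hWm, hWnd, -⟩, hxW⟩ := H x hxΩ ⟨1, by rw [hxp, one_smul]⟩ hxns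
    obtain ⟨ν, hν1, hν2, hν3⟩ := hW W hWnd hxW
    exact ⟨ν, hν1, by rw [hν2, hWm], hν3⟩

end Cfsg.Agent.S5996
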