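import Mathlib
import Cfsg.Statements.S5997
import Cfsg.Agent.Lib.Helper41.SL2Conj
import Cfsg.Agent.Lib.Helper41.SL2Torus

set_option autoImplicit false
set_option linter.unusedSimpArgs false
set_option linter.unusedSectionVars false
set_option linter.unusedVariables false
open scoped MatrixGroups
open Cfsg

namespace Cfsg.Agent.S5997

open Matrix Cfsg.Agent.Lib.Helper41 Cfsg.Agent.Lib.Helper41.Torus

section general
variable {F : Type*} [Field F]

/-- Cayley–Hamilton for `2 × 2` matrices. -/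
theorem mat2_ch (M : Matrix (Fin 2) (Fin 2) F) :
    M * M = M.trace • M - M.det • (1 : Matrix (Fin 2) (Fin 2) F) := by
  obtain ⟨p, q, r, s, rfl⟩ : ∃ p q r s, M = !![p, q; r, s] := ⟨_, _, _, _, Matrix.eta_fin_two M⟩
  ext i j
  fin_cases i <;> fin_cases j <;>
    simp [Matrix.mul_fin_two, Matrix.det_fin_two, Matrix.trace_fin_two] <;> ring

/-- The quaternion relations force trace zero, determinant one, square `-1`, anticommutation. -/
theorem quat_rel (I J Jinv : Matrix (Fin 2) (Fin 2) F)
    (hJinv : Jinv * J = 1)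
    (h4 : (I * I) * (I * I) = 1) (hne : I * I ≠ 1) (hIJ : I * I = J * J) (hc : I * J * I = J) :
    I * I = -1 ∧ J * J = -1 ∧ J * I = -(I * J) ∧ I.trace = 0 ∧ I.det = 1 ∧ J.trace = 0 ∧ J.det = 1 := by
  have hcancel : ∀ A B : Matrix (Fin 2) (Fin 2) F, J * A = J * B → A = B := by
    intro A B h
    have := congrArg (fun M => Jinv * M) h
    simpa [← Matrix.mul_assoc, hJinv] using this
  have hnc : J * I ≠ I * J := by
    intro h
    apply hne
    apply hcancel
    rw [← Matrix.mul_assoc, h, hc, Matrix.mul_one]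
  have hchI := mat2_ch I
  have hchJ := mat2_ch J
  have hJc : J * (I * I) = (I * I) * J := by
    rw [hIJ, Matrix.mul_assoc]
  have ht : I.trace = 0 := by
    by_contra ht
    apply hnc
    rw [hchI] at hJc
    simp only [Matrix.mul_sub, Matrix.sub_mul, Matrix.mul_smul, Matrix.smul_mul, Matrix.mul_one,
      Matrix.one_mul] at hJc
    have h1 : I.trace • (J * I) = I.trace • (I * J) := sub_left_injective hJc
    exact smul_right_injective _ ht h1
  rw [ht, zero_smul, zero_sub] at hchI
  have hd2 : I.det * I.det = 1 := by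
    rw [hchI] at h4
    have := congrFun (congrFun h4 0) 0
    simpa using this
  have hd : I.det = 1 := by
    have h3 : (I.det - 1) * (I.det + 1) = 0 := by linear_combination hd2
    rcases mul_eq_zero.1 h3 with h | h
    · linear_combination h
    · exfalso
      apply hne
      rw [hchI]
      have : I.det = -1 := by linear_combination h
      rw [this]
      simp
  rw [hd, one_smul] at hchI
  have hJJ : J * J = -1 := by rw [← hIJ, hchI]
  have htJ : J.trace = 0 := by
    by_contra ht'
    apply hnc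
    rw [hJJ] at hchJ
    have h1 : J.trace • J = (J.det - 1) • (1 : Matrix (Fin 2) (Fin 2) F) := by
      rw [sub_smul, one_smul]
      have : J.trace • J = J.det • (1 : Matrix (Fin 2) (Fin 2) F) + -1 := by
        rw [hchJ]; abel
      rw [this]; abel
    have h2' : J = (J.trace⁻¹ * (J.det - 1)) • (1 : Matrix (Fin 2) (Fin 2) F) := by
      have := congrArg (fun M => J.trace⁻¹ • M) h1
      simp only [smul_smul, inv_mul_cancel₀ ht', one_smul] at this
      exact this
    rw [h2']
    simp
  have hdJ : J.det = 1 := by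
    rw [hJJ, htJ, zero_smul, zero_sub] at hchJ
    have := congrFun (congrFun hchJ 0) 0
    simp at this
    exact this.symm
  refine ⟨hchI, hJJ, ?_, ht, hd, htJ, hdJ⟩
  have h5 : I * J * I * I = J * I := by rw [hc]
  rw [Matrix.mul_assoc, hchI] at h5
  rw [← h5]
  simp

section omega
variable (I J : Matrix (Fin 2) (Fin 2) F)

/-- the element `(-1 + I + J + IJ)/2` -/
noncomputable def om : Matrix (Fin 2) (Fin 2) F := (2 : F)⁻¹ • (-1 + I + J + I * J)

/-- its inverse `(-1 - I - J - IJ)/2` -/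
noncomputable def omb : Matrix (Fin 2) (Fin 2) F := (2 : F)⁻¹ • (-1 - I - J - I * J)

variable {I J}
variable (hI : I * I = -1) (hJ : J * J = -1) (hJI : J * I = -(I * J))

include hI hJ hJI

theorem rel1 : I * (I * J) = -J := by rw [← Matrix.mul_assoc, hI]; simp
theorem rel2 : (I * J) * I = J := by
  rw [Matrix.mul_assoc, hJI, Matrix.mul_neg, rel1 hI hJ hJI]; simp
theorem rel3 : (I * J) * J = -I := by rw [Matrix.mul_assoc, hJ]; simp
theorem rel4 : J * (I * J) = I := by
  rw [← Matrix.mul_assoc, hJI, Matrix.neg_mul, rel3 hI hJ hJI]; simp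
theorem rel5 : (I * J) * (I * J) = -1 := by
  rw [Matrix.mul_assoc, rel4 hI hJ hJI, hI]

theorem om_mul_I : om I J * I = (I * J) * om I J := by
  unfold om
  simp only [Matrix.smul_mul, Matrix.mul_smul, Matrix.add_mul, Matrix.mul_add, Matrix.neg_mul,
    Matrix.mul_neg, Matrix.one_mul, Matrix.mul_one, hI, hJI, rel2 hI hJ hJI, rel3 hI hJ hJI,
    rel5 hI hJ hJI]
  congr 1
  abel

theorem om_mul_J : om I J * J = I * om I J := by
  unfold om
  simp only [Matrix.smul_mul, Matrix.mul_smul, Matrix.add_mul, Matrix.mul_add, Matrix.neg_mul,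
    Matrix.mul_neg, Matrix.one_mul, Matrix.mul_one, hI, hJ, rel1 hI hJ hJI, rel3 hI hJ hJI]
  congr 1
  abel

theorem om_mul_omb (h2 : (2 : F) ≠ 0) : om I J * omb I J = 1 := by
  unfold om omb
  simp only [Matrix.smul_mul, Matrix.mul_smul, Matrix.add_mul, Matrix.mul_add, Matrix.neg_mul,
    Matrix.mul_neg, Matrix.one_mul, Matrix.mul_one, Matrix.sub_mul, Matrix.mul_sub, hI, hJ, hJI,
    rel1 hI hJ hJI, rel2 hI hJ hJI, rel3 hI hJ hJI, rel4 hI hJ hJI, rel5 hI hJ hJI, smul_smul]
  match_scalars <;> field_simp <;> ring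

theorem omb_eq (h2 : (2 : F) ≠ 0) : omb I J = -1 - om I J := by
  unfold om omb
  match_scalars <;> field_simp <;> ring

theorem trace_IJ (h2 : (2 : F) ≠ 0) : (I * J).trace = 0 := by
  have h1 : (J * I).trace = (I * J).trace := Matrix.trace_mul_comm J I
  rw [hJI, Matrix.trace_neg] at h1
  have h3 : (2 : F) * (I * J).trace = 0 := by linear_combination -h1
  rcases mul_eq_zero.1 h3 with h | h
  · exact absurd h h2
  · exact h

theorem om_trace (h2 : (2 : F) ≠ 0) (tI : I.trace = 0) (tJ : J.trace = 0) :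
    (om I J).trace = -1 := by
  unfold om
  rw [Matrix.trace_smul, Matrix.trace_add, Matrix.trace_add, Matrix.trace_add, Matrix.trace_neg,
    Matrix.trace_one, tI, tJ, trace_IJ hI hJ hJI h2]
  simp
  field_simp

theorem om_det (h2 : (2 : F) ≠ 0) (tI : I.trace = 0) (tJ : J.trace = 0) :
    (om I J).det = 1 := by
  have h1 := mat2_ch (om I J)
  have h3 := om_mul_omb hI hJ hJI h2
  rw [omb_eq hI hJ hJI h2, Matrix.mul_sub, Matrix.mul_neg, Matrix.mul_one, h1,
    om_trace hI hJ hJI h2 tI tJ] at h3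
  have h4 := congrFun (congrFun h3 0) 0
  simp at h4
  linear_combination h4

end omega

/-- membership in the determinant-one subgroup of `GL`. -/
theorem mem_specialLinear_iff (x : GL (Fin 2) F) :
    x ∈ Cfsg.Geo.specialLinear (Fin 2) F ↔ (x : Matrix (Fin 2) (Fin 2) F).det = 1 := by
  unfold Cfsg.Geo.specialLinear
  rw [MonoidHom.mem_ker, Units.ext_iff]
  rfl

theorem toGL_mem (A : Matrix.SpecialLinearGroup (Fin 2) F) :
    Matrix.SpecialLinearGroup.toGL A ∈ Cfsg.Geo.specialLinear (Fin 2) F := by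
  rw [mem_specialLinear_iff]
  exact A.det_coe

/-- nonscalar with scalar square has trace zero. -/
theorem trace_of_sq_scalar (x : Matrix (Fin 2) (Fin 2) F) (hd : x.det = 1) (z : F)
    (hz : x * x = z • (1 : Matrix (Fin 2) (Fin 2) F))
    (hns : ∀ z : F, x ≠ z • (1 : Matrix (Fin 2) (Fin 2) F)) : x.trace = 0 := by
  by_contra ht
  have h1 := mat2_ch x
  rw [hz, hd, one_smul] at h1
  apply hns (x.trace⁻¹ * (z + 1))
  have h2 : x.trace • x = (z + 1) • (1 : Matrix (Fin 2) (Fin 2) F) := by
    rw [add_smul, one_smul, h1]; abel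
  have := congrArg (fun M => x.trace⁻¹ • M) h2
  simp only [smul_smul, inv_mul_cancel₀ ht, one_smul] at this
  exact this

/-- nonscalar with scalar cube has trace `±1`. -/
theorem trace_of_cube_scalar (x : Matrix (Fin 2) (Fin 2) F) (hd : x.det = 1) (z : F)
    (hz : x * x * x = z • (1 : Matrix (Fin 2) (Fin 2) F))
    (hns : ∀ z : F, x ≠ z • (1 : Matrix (Fin 2) (Fin 2) F)) : x.trace = 1 ∨ x.trace = -1 := by
  have h1 := mat2_ch x
  rw [hd, one_smul] at h1
  have h2 : (x.trace ^ 2 - 1) • x = (z + x.trace) • (1 : Matrix (Fin 2) (Fin 2) F) := by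
    have h3 : x * x * x = (x.trace ^ 2 - 1) • x - x.trace • (1 : Matrix (Fin 2) (Fin 2) F) := by
      rw [h1, Matrix.sub_mul, Matrix.smul_mul, h1, Matrix.one_mul]
      match_scalars <;> ring
    rw [h3] at hz
    rw [add_smul, ← hz]; abel
  by_cases ht : x.trace ^ 2 - 1 = 0
  · have : (x.trace - 1) * (x.trace + 1) = 0 := by linear_combination ht
    rcases mul_eq_zero.1 this with h | h
    · left; linear_combination h
    · right; linear_combination h
  · exfalso
    apply hns ((x.trace ^ 2 - 1)⁻¹ * (z + x.trace))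
    have := congrArg (fun M => (x.trace ^ 2 - 1)⁻¹ • M) h2
    simp only [smul_smul, inv_mul_cancel₀ ht, one_smul] at this
    exact this

end general


section main
variable {F : Type*} [Field F] [Fintype F]

local notation "SLF" => Matrix.SpecialLinearGroup (Fin 2) F

/-- nonscalar determinant-one matrices are noncentral in `SL₂`. -/
theorem not_mem_center_of_nonscalar (X : SLF)
    (h : ∀ z : F, (X : Matrix (Fin 2) (Fin 2) F) ≠ z • (1 : Matrix (Fin 2) (Fin 2) F)) :
    X ∉ Subgroup.center SLF := by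
  intro hc
  rw [sl2_mem_center_iff] at hc
  obtain ⟨h01, h10, h00⟩ := hc
  apply h (X 0 0)
  ext a b
  fin_cases a <;> fin_cases b <;> simp [h01, h10, h00]

/-- Elements of `SL₂` over a finite field of odd order with equal trace `t`, `t² ≠ 4`, are conjugate
by an element of determinant one (in `GL` form). -/
theorem conj_GL (hodd : Fintype.card F % 2 = 1) (x : GL (Fin 2) F)
    (hx : x ∈ Cfsg.Geo.specialLinear (Fin 2) F) (Y : SLF)
    (htr : (x : Matrix (Fin 2) (Fin 2) F).trace = tr2 Y) (h4 : tr2 Y ^ 2 ≠ 4) :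
    ∃ g ∈ Cfsg.Geo.specialLinear (Fin 2) F, g⁻¹ * x * g = Matrix.SpecialLinearGroup.toGL Y := by
  rw [mem_specialLinear_iff] at hx
  let X : SLF := ⟨(x : Matrix (Fin 2) (Fin 2) F), hx⟩
  have hXx : Matrix.SpecialLinearGroup.toGL X = x := Units.ext rfl
  have htX : tr2 X = tr2 Y := by
    rw [← htr, Matrix.trace_fin_two]; rfl
  have hXc : X ∉ Subgroup.center SLF := not_mem_center_of_tr2_sq_ne_four (by rw [htX]; exact h4)
  have hYc : Y ∉ Subgroup.center SLF := not_mem_center_of_tr2_sq_ne_four h4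
  obtain ⟨W, hW⟩ := conj_of_tr2_eq hXc hYc htX.symm
    (normUniversal_of_odd hodd (tr2 X) (by rw [htX]; exact h4))
  refine ⟨Matrix.SpecialLinearGroup.toGL W⁻¹, toGL_mem _, ?_⟩
  rw [← hXx, ← map_inv, ← map_mul, ← map_mul, inv_inv, hW]

end main
section qdata
variable {F : Type*} [Field F]

/-- generators of a quaternion subgroup with their matrix relations. -/
structure QData (R : Subgroup (GL (Fin 2) F)) where
  i : GL (Fin 2) F
  j : GL (Fin 2) F
  hi : i ∈ R
  hj : j ∈ R
  gen : ∀ x ∈ R, ∃ k : Fin 4, x = i ^ (k : ℕ) ∨ x = j * i ^ (k : ℕ)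
  hI : (i : Matrix (Fin 2) (Fin 2) F) * (i : Matrix (Fin 2) (Fin 2) F) = -1
  hJ : (j : Matrix (Fin 2) (Fin 2) F) * (j : Matrix (Fin 2) (Fin 2) F) = -1
  hJI : (j : Matrix (Fin 2) (Fin 2) F) * (i : Matrix (Fin 2) (Fin 2) F) =
    -((i : Matrix (Fin 2) (Fin 2) F) * (j : Matrix (Fin 2) (Fin 2) F))
  tI : (i : Matrix (Fin 2) (Fin 2) F).trace = 0
  dI : (i : Matrix (Fin 2) (Fin 2) F).det = 1
  tJ : (j : Matrix (Fin 2) (Fin 2) F).trace = 0
  dJ : (j : Matrix (Fin 2) (Fin 2) F).det = 1

theorem exists_qdata (R : Subgroup (GL (Fin 2) F)) (hR : Nonempty (↥R ≃* QuaternionGroup 2)) :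
    Nonempty (QData R) := by
  obtain ⟨e⟩ := hR
  let φ : QuaternionGroup 2 →* GL (Fin 2) F := R.subtype.comp e.symm.toMonoidHom
  have hφinj : Function.Injective φ := R.subtype_injective.comp e.symm.injective
  have hφR : ∀ q, φ q ∈ R := fun q => (e.symm q).2
  have hRφ : ∀ x ∈ R, ∃ q, φ q = x := fun x hx => ⟨e ⟨x, hx⟩, by simp [φ]⟩
  have r1 : φ (QuaternionGroup.a 1) * φ (QuaternionGroup.a 1) *
      (φ (QuaternionGroup.a 1) * φ (QuaternionGroup.a 1)) = 1 := by
    rw [← map_mul, ← map_mul,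
      show (QuaternionGroup.a 1 : QuaternionGroup 2) * QuaternionGroup.a 1 *
        (QuaternionGroup.a 1 * QuaternionGroup.a 1) = 1 by decide, map_one]
  have r2 : φ (QuaternionGroup.a 1) * φ (QuaternionGroup.a 1) ≠ 1 := by
    rw [← map_mul, ← map_one φ]
    intro h
    exact absurd (hφinj h) (by decide)
  have r3 : φ (QuaternionGroup.a 1) * φ (QuaternionGroup.a 1) =
      φ (QuaternionGroup.xa 0) * φ (QuaternionGroup.xa 0) := by
    rw [← map_mul, ← map_mul,
      show (QuaternionGroup.a 1 : QuaternionGroup 2) * QuaternionGroup.a 1 =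
        QuaternionGroup.xa 0 * QuaternionGroup.xa 0 by decide]
  have r4 : φ (QuaternionGroup.a 1) * φ (QuaternionGroup.xa 0) * φ (QuaternionGroup.a 1) =
      φ (QuaternionGroup.xa 0) := by
    rw [← map_mul, ← map_mul,
      show (QuaternionGroup.a 1 : QuaternionGroup 2) * QuaternionGroup.xa 0 *
        QuaternionGroup.a 1 = QuaternionGroup.xa 0 by decide]
  have hall : ∀ q : QuaternionGroup 2, ∃ k : Fin 4, q = (QuaternionGroup.a 1) ^ (k : ℕ) ∨
      q = QuaternionGroup.xa 0 * (QuaternionGroup.a 1) ^ (k : ℕ) := by decide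
  set i := φ (QuaternionGroup.a 1) with hi
  set j := φ (QuaternionGroup.xa 0) with hj
  have m1 : ((i : Matrix (Fin 2) (Fin 2) F) * i) * ((i : Matrix (Fin 2) (Fin 2) F) * i) = 1 := by
    have := congrArg Units.val r1
    simpa [Units.val_mul] using this
  have m2 : (i : Matrix (Fin 2) (Fin 2) F) * i ≠ 1 := by
    intro h
    apply r2
    apply Units.ext
    simpa [Units.val_mul] using h
  have m3 : (i : Matrix (Fin 2) (Fin 2) F) * i = (j : Matrix (Fin 2) (Fin 2) F) * j := by
    have := congrArg Units.val r3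
    simpa [Units.val_mul] using this
  have m4 : (i : Matrix (Fin 2) (Fin 2) F) * j * i = j := by
    have := congrArg Units.val r4
    simpa [Units.val_mul] using this
  have m5 : ((j⁻¹ : GL (Fin 2) F) : Matrix (Fin 2) (Fin 2) F) * j = 1 := by
    rw [← Units.val_mul, inv_mul_cancel, Units.val_one]
  obtain ⟨hI, hJ, hJI, tI, dI, tJ, dJ⟩ := quat_rel _ _ _ m5 m1 m2 m3 m4
  refine ⟨⟨i, j, hφR _, hφR _, ?_, hI, hJ, hJI, tI, dI, tJ, dJ⟩⟩
  intro x hx
  obtain ⟨q, rfl⟩ := hRφ x hx
  obtain ⟨k, hk | hk⟩ := hall q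
  · exact ⟨k, Or.inl (by rw [hk, map_pow])⟩
  · exact ⟨k, Or.inr (by rw [hk, map_mul, map_pow])⟩

end qdata

section qdata2
variable {F : Type*} [Field F] {R : Subgroup (GL (Fin 2) F)} (D : QData R)

/-- the central element `-1` of the quaternion group -/
def QData.z : GL (Fin 2) F := D.i * D.i

theorem QData.z_val : (D.z : Matrix (Fin 2) (Fin 2) F) = -1 := by
  unfold QData.z
  rw [Units.val_mul, D.hI]

theorem QData.z_mem : D.z ∈ R := R.mul_mem D.hi D.hi

theorem QData.z_comm (g : GL (Fin 2) F) : D.z * g = g * D.z := by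
  apply Units.ext
  rw [Units.val_mul, Units.val_mul, D.z_val]
  simp

theorem QData.z_sq : D.z * D.z = 1 := by
  apply Units.ext
  rw [Units.val_mul, D.z_val]
  simp

/-- the three "imaginary units" -/
def QData.T : Fin 3 → Matrix (Fin 2) (Fin 2) F :=
  ![(D.i : Matrix (Fin 2) (Fin 2) F), (D.j : Matrix (Fin 2) (Fin 2) F),
    (D.i : Matrix (Fin 2) (Fin 2) F) * (D.j : Matrix (Fin 2) (Fin 2) F)]

theorem QData.classify (h2 : (2 : F) ≠ 0) (w : GL (Fin 2) F) (hw : w ∈ R)
    (hsq : (w : Matrix (Fin 2) (Fin 2) F) * (w : Matrix (Fin 2) (Fin 2) F) = -1) :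
    ∃ a : Fin 3, (w : Matrix (Fin 2) (Fin 2) F) = D.T a ∨
      (w : Matrix (Fin 2) (Fin 2) F) = -D.T a := by
  have hone : (1 : Matrix (Fin 2) (Fin 2) F) ≠ -1 := by
    intro h
    have := congrFun (congrFun h 0) 0
    simp at this
    apply h2
    linear_combination this
  have hI := D.hI
  have hJ := D.hJ
  have hJI := D.hJI
  obtain ⟨k, hk | hk⟩ := D.gen w hw
  · fin_cases k
    · exfalso
      simp at hk
      rw [hk] at hsq
      simp at hsq
      exact hone hsq
    · refine ⟨0, Or.inl ?_⟩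
      simp at hk
      rw [hk]; rfl
    · exfalso
      have : (w : Matrix (Fin 2) (Fin 2) F) = -1 := by
        rw [hk]; simp [pow_succ, Units.val_mul, hI]
      rw [this] at hsq
      simp at hsq
      exact hone hsq
    · refine ⟨0, Or.inr ?_⟩
      rw [hk]
      simp [pow_succ, Units.val_mul, hI, QData.T]
  · fin_cases k
    · refine ⟨1, Or.inl ?_⟩
      simp at hk
      rw [hk]; rfl
    · refine ⟨2, Or.inr ?_⟩
      rw [hk]
      simp [pow_succ, Units.val_mul, hJI, QData.T]
    · refine ⟨1, Or.inr ?_⟩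
      rw [hk]
      simp [pow_succ, Units.val_mul, Matrix.mul_assoc, hI, QData.T]
    · refine ⟨2, Or.inl ?_⟩
      rw [hk]
      simp [pow_succ, Units.val_mul, Matrix.mul_assoc, hI, hJI, QData.T]

end qdata2

/-- abstract step: conjugation by `u` sends `w` to `w` or `z w` with `z` a central involution; then
`u ^ 2` commutes with `w`. -/
theorem sq_comm_of_conj {G : Type*} [Group G] (u w z : G) (hz : ∀ g : G, z * g = g * z)
    (hz2 : z * z = 1) (h : u * w * u⁻¹ = w ∨ u * w * u⁻¹ = z * w) :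
    u ^ 2 * w = w * u ^ 2 := by
  rcases h with h | h
  · have h1 : u * w = w * u := mul_inv_eq_iff_eq_mul.1 h
    rw [pow_two, mul_assoc, h1, ← mul_assoc, h1, mul_assoc]
  · have h1 : u * w = z * w * u := mul_inv_eq_iff_eq_mul.1 h
    calc u ^ 2 * w = u * (u * w) := by rw [pow_two, mul_assoc]
      _ = u * (z * w * u) := by rw [h1]
      _ = z * (u * w) * u := by rw [← mul_assoc, ← mul_assoc, ← hz u, mul_assoc z u w]
      _ = z * (z * w * u) * u := by rw [h1]
      _ = (z * z) * w * u * u := by group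
      _ = w * u ^ 2 := by rw [hz2, one_mul, pow_two, mul_assoc]

section qdata3
variable {F : Type*} [Field F] {R : Subgroup (GL (Fin 2) F)} (D : QData R)

include D in
theorem QData.commute_of_normalizer (h2 : (2 : F) ≠ 0) (y : GL (Fin 2) F)
    (hy : y ∈ Cfsg.Geo.subgroupNormalizer R) (r : ℕ) (hr : r.Prime) (hr2 : r ≠ 2) (hr3 : r ≠ 3)
    (hyr : y ^ r = 1) (w : GL (Fin 2) F) (hw : w ∈ R)
    (hsq : (w : Matrix (Fin 2) (Fin 2) F) * (w : Matrix (Fin 2) (Fin 2) F) = -1) :
    y * w = w * y := by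
  unfold Cfsg.Geo.subgroupNormalizer at hy
  have hww : w * w = D.z := by
    apply Units.ext
    rw [Units.val_mul, hsq, D.z_val]
  have hmem : ∀ n : ℕ, y ^ n * w * (y ^ n)⁻¹ ∈ R := by
    intro n
    have hn : y ^ n ∈ Subgroup.normalizer (R : Set (GL (Fin 2) F)) := Subgroup.pow_mem _ hy n
    exact (Subgroup.mem_normalizer_iff.1 hn w).1 hw
  have hsqn : ∀ n : ℕ, ((y ^ n * w * (y ^ n)⁻¹ : GL (Fin 2) F) : Matrix (Fin 2) (Fin 2) F) *
      ((y ^ n * w * (y ^ n)⁻¹ : GL (Fin 2) F) : Matrix (Fin 2) (Fin 2) F) = -1 := by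
    intro n
    rw [← Units.val_mul]
    have : y ^ n * w * (y ^ n)⁻¹ * (y ^ n * w * (y ^ n)⁻¹) = D.z := by
      have : y ^ n * w * (y ^ n)⁻¹ * (y ^ n * w * (y ^ n)⁻¹) = y ^ n * (w * w) * (y ^ n)⁻¹ := by
        group
      rw [this, hww, ← D.z_comm (y ^ n), mul_assoc, mul_inv_cancel, mul_one]
    rw [this, D.z_val]
  choose f hf using fun n : Fin 4 => D.classify h2 _ (hmem n) (hsqn n)
  obtain ⟨m, n, hmn, hfmn⟩ := Fintype.exists_ne_map_eq_of_card_lt f (by simp)
  -- wlog m < n
  have key : ∀ m n : Fin 4, (m : ℕ) < n → f m = f n → y * w = w * y := by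
    intro m n hlt hfmn
    obtain ⟨d, hd⟩ : ∃ d : ℕ, (n : ℕ) = m + d := ⟨n - m, by omega⟩
    have hd1 : 1 ≤ d := by omega
    have hd3 : d ≤ 3 := by have := n.2; omega
    have hcase : y ^ (n : ℕ) * w * (y ^ (n : ℕ))⁻¹ = y ^ (m : ℕ) * w * (y ^ (m : ℕ))⁻¹ ∨
        y ^ (n : ℕ) * w * (y ^ (n : ℕ))⁻¹ = D.z * (y ^ (m : ℕ) * w * (y ^ (m : ℕ))⁻¹) := by
      have hzv : ((D.z * (y ^ (m : ℕ) * w * (y ^ (m : ℕ))⁻¹) : GL (Fin 2) F) :
          Matrix (Fin 2) (Fin 2) F) =
          -((y ^ (m : ℕ) * w * (y ^ (m : ℕ))⁻¹ : GL (Fin 2) F) : Matrix (Fin 2) (Fin 2) F) := by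
        rw [Units.val_mul, D.z_val]; simp
      rcases hf m with h1 | h1 <;> rcases hf n with h2' | h2'
      · left; apply Units.ext; rw [h1, h2', hfmn]
      · right; apply Units.ext; rw [hzv, h1, h2', hfmn]
      · right; apply Units.ext; rw [hzv, h1, h2', hfmn, neg_neg]
      · left; apply Units.ext; rw [h1, h2', hfmn]
    have hcase' : y ^ d * w * (y ^ d)⁻¹ = w ∨ y ^ d * w * (y ^ d)⁻¹ = D.z * w := by
      rw [hd, pow_add] at hcase
      rcases hcase with h | h
      · left
        have : y ^ (m : ℕ) * (y ^ d * w * (y ^ d)⁻¹) * (y ^ (m : ℕ))⁻¹ =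
            y ^ (m : ℕ) * w * (y ^ (m : ℕ))⁻¹ := by rw [← h]; group
        have h3 := mul_right_cancel this
        exact mul_left_cancel h3
      · right
        have : y ^ (m : ℕ) * (y ^ d * w * (y ^ d)⁻¹) * (y ^ (m : ℕ))⁻¹ =
            y ^ (m : ℕ) * (D.z * w) * (y ^ (m : ℕ))⁻¹ := by
          have e1 : y ^ (m : ℕ) * (D.z * w) * (y ^ (m : ℕ))⁻¹ =
              D.z * (y ^ (m : ℕ) * w * (y ^ (m : ℕ))⁻¹) := by
            rw [← mul_assoc, ← D.z_comm]; group
          rw [e1, ← h]; group
        have h3 := mul_right_cancel this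
        exact mul_left_cancel h3
    have hcomm := sq_comm_of_conj (y ^ d) w D.z D.z_comm D.z_sq hcase'
    rw [← pow_mul] at hcomm
    have hcop : (d * 2).Coprime (orderOf y) := by
      have hdvd : orderOf y ∣ r := orderOf_dvd_of_pow_eq_one hyr
      rcases (Nat.dvd_prime hr).1 hdvd with h | h
      · rw [h]; exact Nat.coprime_one_right _
      · rw [h]
        apply Nat.Coprime.symm
        rw [Nat.Prime.coprime_iff_not_dvd hr]
        intro hdv
        rcases (Nat.Prime.dvd_mul hr).1 hdv with h' | h'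
        · have := Nat.le_of_dvd (by omega) h'
          have := hr.two_le
          omega
        · have := Nat.le_of_dvd (by omega) h'
          have := hr.two_le
          omega
    obtain ⟨k, hk⟩ := exists_pow_eq_self_of_coprime hcop
    have hc : Commute (y ^ (d * 2)) w := hcomm
    have := (hc.pow_left k).eq
    rwa [hk] at this
  rcases lt_or_gt_of_ne (fun h => hmn (Fin.ext h)) with h | h
  · exact key m n h hfmn
  · exact key n m h hfmn.symm

end qdata3

section qdata4
variable {F : Type*} [Field F] {R : Subgroup (GL (Fin 2) F)} (D : QData R)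

local notation "SLF" => Matrix.SpecialLinearGroup (Fin 2) F

/-- the generators as elements of `SL₂` -/
def QData.iS : SLF := ⟨(D.i : Matrix (Fin 2) (Fin 2) F), D.dI⟩
def QData.jS : SLF := ⟨(D.j : Matrix (Fin 2) (Fin 2) F), D.dJ⟩

theorem QData.toGL_iS : Matrix.SpecialLinearGroup.toGL D.iS = D.i := Units.ext rfl
theorem QData.toGL_jS : Matrix.SpecialLinearGroup.toGL D.jS = D.j := Units.ext rfl

theorem QData.tr2_iS : tr2 D.iS = 0 := by
  have := D.tI
  rw [Matrix.trace_fin_two] at this
  exact this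

include D in
theorem QData.sq_eq_one_of_commute (h2 : (2 : F) ≠ 0) (y : GL (Fin 2) F)
    (hy : y ∈ Cfsg.Geo.specialLinear (Fin 2) F) (hi : y * D.i = D.i * y) (hj : y * D.j = D.j * y) :
    y * y = 1 := by
  rw [mem_specialLinear_iff] at hy
  let Y : SLF := ⟨(y : Matrix (Fin 2) (Fin 2) F), hy⟩
  have hYy : Matrix.SpecialLinearGroup.toGL Y = y := Units.ext rfl
  have hinj := Matrix.SpecialLinearGroup.toGL_injective (n := Fin 2) (R := F)
  have hYc : Y ∈ Subgroup.center SLF := by
    by_contra hYc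
    have c1 : D.iS * Y = Y * D.iS := by
      apply hinj
      rw [map_mul, map_mul, hYy, D.toGL_iS, hi]
    have c2 : D.jS * Y = Y * D.jS := by
      apply hinj
      rw [map_mul, map_mul, hYy, D.toGL_jS, hj]
    have c3 := commute_of_commute_noncentral hYc c1 c2
    have c4 : (D.i : Matrix (Fin 2) (Fin 2) F) * D.j = (D.j : Matrix (Fin 2) (Fin 2) F) * D.i :=
      congrArg (fun A : SLF => (A : Matrix (Fin 2) (Fin 2) F)) c3
    rw [D.hJI] at c4
    have c5 := rel5 D.hI D.hJ D.hJI
    have c6 : (2 : F) • ((D.i : Matrix (Fin 2) (Fin 2) F) * D.j) = 0 := by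
      rw [two_smul]
      nth_rewrite 1 [c4]
      simp
    have c7 : (D.i : Matrix (Fin 2) (Fin 2) F) * D.j = 0 := by
      have := congrArg (fun M => (2 : F)⁻¹ • M) c6
      simpa [smul_smul, inv_mul_cancel₀ h2] using this
    rw [c7] at c5
    have := congrFun (congrFun c5 0) 0
    simp at this
  apply Units.ext
  rw [Units.val_mul, Units.val_one]
  rcases sl2_center_cases hYc with ⟨z00, z01, z10, z11⟩ | ⟨z00, z01, z10, z11⟩
  · have : (y : Matrix (Fin 2) (Fin 2) F) = 1 := by
      ext a b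
      fin_cases a <;> fin_cases b
      · exact z00
      · exact z01
      · exact z10
      · exact z11
    rw [this]; simp
  · have : (y : Matrix (Fin 2) (Fin 2) F) = -1 := by
      ext a b
      fin_cases a <;> fin_cases b
      · simpa using z00
      · simpa using z01
      · simpa using z10
      · simpa using z11
    rw [this]; simp

/-- the element of order three normalizing `R` -/
noncomputable def QData.omS (h2 : (2 : F) ≠ 0) : SLF :=
  ⟨om (D.i : Matrix (Fin 2) (Fin 2) F) (D.j : Matrix (Fin 2) (Fin 2) F),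
    om_det D.hI D.hJ D.hJI h2 D.tI D.tJ⟩

theorem QData.tr2_omS (h2 : (2 : F) ≠ 0) : tr2 (D.omS h2) = -1 := by
  have := om_trace D.hI D.hJ D.hJI h2 D.tI D.tJ
  rw [Matrix.trace_fin_two] at this
  exact this

theorem QData.omS_mem_normalizer [Finite R] (h2 : (2 : F) ≠ 0) :
    Matrix.SpecialLinearGroup.toGL (D.omS h2) ∈ Cfsg.Geo.subgroupNormalizer R := by
  unfold Cfsg.Geo.subgroupNormalizer
  set ω := Matrix.SpecialLinearGroup.toGL (D.omS h2) with hω
  have e1 : ω * D.i * ω⁻¹ = D.i * D.j := by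
    rw [mul_inv_eq_iff_eq_mul]
    apply Units.ext
    rw [Units.val_mul, Units.val_mul, Units.val_mul]
    exact om_mul_I D.hI D.hJ D.hJI
  have e2 : ω * D.j * ω⁻¹ = D.i := by
    rw [mul_inv_eq_iff_eq_mul]
    apply Units.ext
    rw [Units.val_mul, Units.val_mul]
    exact om_mul_J D.hI D.hJ D.hJI
  haveI : Finite ((R : Set (GL (Fin 2) F))) := inferInstanceAs (Finite R)
  apply Subgroup.mem_normalizer_fintype
  intro n hn
  have e3 : ∀ k : ℕ, ω * D.i ^ k * ω⁻¹ = (D.i * D.j) ^ k := by
    intro k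
    rw [← e1, conj_pow]
  obtain ⟨k, hk | hk⟩ := D.gen n hn
  · rw [hk, e3]
    exact R.pow_mem (R.mul_mem D.hi D.hj) _
  · have : ω * (D.j * D.i ^ (k : ℕ)) * ω⁻¹ = (ω * D.j * ω⁻¹) * (ω * D.i ^ (k : ℕ) * ω⁻¹) := by
      group
    rw [hk, this, e2, e3]
    exact R.mul_mem D.hi (R.pow_mem (R.mul_mem D.hi D.hj) _)

end qdata4

/-- Elements of prime order of PSL_2(p) and the normalizer of a quaternion subgroup. Here `T = PSL_2(F)` for the field `F` with `p` elements, `p ≥ 5` prime; `R` is a subgroup of GL_2(F) isomorphic to the quaternion group of order 8 (an absolutely irreducible 2-group of symplectic type), and `H` is the subgroup of matrices of determinant 1 normalizing `R` — a subgroup of type 2^{1+2}.O₂⁻(2), isomorphic modulo scalars to A₄ or S₄ (maximality is not assumed). Ω is the set of cosets of `H` in `T`, so an element of `T` of prime order `r` (a matrix `x` of determinant 1 with `x^r` scalar, `x` not scalar) fixes a point of Ω exactly when some conjugate of `x` by a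 matrix of determinant 1 normalizes `R`. Let `r` be a prime dividing the index of `H`. Then every element of `T` of order `r` fixes a point of Ω if and only if `r = 2` or `r = 3`. -/
theorem result {F : Type*} [Field F] [Fintype F] {p : ℕ} [Fact p.Prime] [CharP F p] (hF : Fintype.card F = p) (hp : 5 ≤ p)
    (R : Subgroup (GL (Fin 2) F)) (hR : Nonempty (↥R ≃* QuaternionGroup 2))
    (r : ℕ) [Fact r.Prime]
    (hΩ : r ∣ (Cfsg.Geo.subgroupNormalizer R).relIndex (Cfsg.Geo.specialLinear (Fin 2) F)) :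
    (∀ x ∈ Cfsg.Geo.specialLinear (Fin 2) F, (∃ z : F, ((x ^ r : GL (Fin 2) F) : Matrix (Fin 2) (Fin 2) F) = z • (1 : Matrix (Fin 2) (Fin 2) F)) →
      (∀ z : F, (x : Matrix (Fin 2) (Fin 2) F) ≠ z • (1 : Matrix (Fin 2) (Fin 2) F)) →
      ∃ g ∈ Cfsg.Geo.specialLinear (Fin 2) F, g⁻¹ * x * g ∈ Cfsg.Geo.subgroupNormalizer R) ↔ (r = 2 ∨ r = 3) := by
  classical
  have hp' : p.Prime := Fact.out
  have hr : r.Prime := Fact.out
  have hcharne : ∀ n : ℕ, 0 < n → n < p → (n : F) ≠ 0 := by
    intro n hn hlt h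
    rw [CharP.cast_eq_zero_iff F p] at h
    exact absurd (Nat.le_of_dvd hn h) (by omega)
  have h2 : (2 : F) ≠ 0 := by exact_mod_cast hcharne 2 (by norm_num) (by omega)
  have h3 : (3 : F) ≠ 0 := by exact_mod_cast hcharne 3 (by norm_num) (by omega)
  have hodd : Fintype.card F % 2 = 1 := by
    rw [hF]; rcases hp'.eq_two_or_odd with h | h <;> omega
  obtain ⟨D⟩ := exists_qdata R hR
  haveI : Finite R := by
    obtain ⟨e⟩ := hR
    exact Finite.of_equiv _ e.symm.toEquiv
  have hRN : R ≤ Cfsg.Geo.subgroupNormalizer R := Subgroup.le_normalizer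
  constructor
  · -- if every element of order r has a conjugate in N then r = 2 or 3
    intro H
    by_contra hr23
    rw [not_or] at hr23
    obtain ⟨hr2, hr3⟩ := hr23
    have hdvd : r ∣ Nat.card (Cfsg.Geo.specialLinear (Fin 2) F) :=
      dvd_trans hΩ (Subgroup.relIndex_dvd_card _ _)
    obtain ⟨x, hx⟩ := exists_prime_orderOf_dvd_card' r hdvd
    have hxo : orderOf (x : GL (Fin 2) F) = r := by rw [Subgroup.orderOf_coe, hx]
    have hxr : (x : GL (Fin 2) F) ^ r = 1 := by rw [← hxo]; exact pow_orderOf_eq_one _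
    have hx1 : (x : GL (Fin 2) F) ≠ 1 := by
      intro h
      rw [h, orderOf_one] at hxo
      exact hr.one_lt.ne hxo
    have hxdet := (mem_specialLinear_iff _).1 x.2
    have hns : ∀ z : F, ((x : GL (Fin 2) F) : Matrix (Fin 2) (Fin 2) F) ≠
        z • (1 : Matrix (Fin 2) (Fin 2) F) := by
      intro z hz
      have hz2 : z * z = 1 := by
        rw [hz] at hxdet
        simp [Matrix.det_smul] at hxdet
        rcases hxdet with h | h <;> rw [h] <;> ring
      have hsq : (x : GL (Fin 2) F) ^ 2 = 1 := by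
        apply Units.ext
        rw [pow_two, Units.val_mul, hz]
        simp [smul_smul, hz2]
      have h1 : r ∣ 2 := by rw [← hxo]; exact orderOf_dvd_of_pow_eq_one hsq
      have h4 := Nat.le_of_dvd (by norm_num) h1
      have := hr.two_le
      omega
    obtain ⟨g, hg, hgN⟩ := H x x.2 ⟨1, by rw [hxr]; simp⟩ hns
    set y := g⁻¹ * (x : GL (Fin 2) F) * g with hy
    have hyr : y ^ r = 1 := by
      have : y ^ r = g⁻¹ * (x : GL (Fin 2) F) ^ r * g := by
        rw [hy]
        have := conj_pow (a := g⁻¹) (b := (x : GL (Fin 2) F)) (i := r)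
        simpa using this
      rw [this, hxr]; group
    have hy1 : y ≠ 1 := by
      intro h
      apply hx1
      have : (x : GL (Fin 2) F) = g * y * g⁻¹ := by rw [hy]; group
      rw [this, h]; group
    have hySL : y ∈ Cfsg.Geo.specialLinear (Fin 2) F :=
      Subgroup.mul_mem _ (Subgroup.mul_mem _ (Subgroup.inv_mem _ hg) x.2) hg
    have ci : y * D.i = D.i * y :=
      D.commute_of_normalizer h2 y hgN r hr hr2 hr3 hyr D.i D.hi D.hI
    have cj : y * D.j = D.j * y :=
      D.commute_of_normalizer h2 y hgN r hr hr2 hr3 hyr D.j D.hj D.hJ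
    have hyy := D.sq_eq_one_of_commute h2 y hySL ci cj
    have hyo : orderOf y = r := orderOf_eq_prime hyr hy1
    have h1 : r ∣ 2 := by
      rw [← hyo]; exact orderOf_dvd_of_pow_eq_one (by rw [pow_two, hyy])
    have h4 := Nat.le_of_dvd (by norm_num) h1
    have := hr.two_le
    omega
  · rintro (rfl | rfl)
    · -- r = 2
      intro x hx ⟨z, hz⟩ hns
      have hxdet := (mem_specialLinear_iff _).1 hx
      have htr : (x : Matrix (Fin 2) (Fin 2) F).trace = 0 := by
        apply trace_of_sq_scalar _ hxdet z _ hns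
        rw [← hz, pow_two, Units.val_mul]
      obtain ⟨g, hg, hgx⟩ := conj_GL hodd x hx D.iS (by rw [htr, D.tr2_iS])
        (by rw [D.tr2_iS]; intro h; apply h2; have : (4 : F) = 0 := by rw [← h]; ring
            have h22 : (2 : F) * 2 = 0 := by rw [← this]; norm_num
            rcases mul_eq_zero.1 h22 with h | h <;> exact h)
      refine ⟨g, hg, ?_⟩
      rw [hgx, D.toGL_iS]
      exact hRN D.hi
    · -- r = 3
      intro x hx ⟨z, hz⟩ hns
      have hxdet := (mem_specialLinear_iff _).1 hx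
      have htr : (x : Matrix (Fin 2) (Fin 2) F).trace = 1 ∨
          (x : Matrix (Fin 2) (Fin 2) F).trace = -1 := by
        apply trace_of_cube_scalar _ hxdet z _ hns
        rw [← hz, pow_succ, pow_two, Units.val_mul, Units.val_mul]
      have h14 : (1 : F) ≠ 4 := by
        intro h
        apply h3
        have : (4 : F) = 3 + 1 := by norm_num
        rw [this] at h
        linear_combination -h
      rcases htr with htr | htr
      · -- trace 1: conjugate to -ω
        obtain ⟨g, hg, hgx⟩ := conj_GL hodd x hx (negSL2 (D.omS h2))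
          (by rw [htr, tr2_negSL2, D.tr2_omS]; ring)
          (by rw [tr2_negSL2, D.tr2_omS]; intro h; apply h14; rw [← h]; ring)
        refine ⟨g, hg, ?_⟩
        rw [hgx]
        have : Matrix.SpecialLinearGroup.toGL (negSL2 (D.omS h2)) =
            D.z * Matrix.SpecialLinearGroup.toGL (D.omS h2) := by
          apply Units.ext
          rw [Units.val_mul, D.z_val]
          ext a b
          fin_cases a <;> fin_cases b <;> simp [negSL2, mkSL2] <;> rfl
        rw [this]
        exact Subgroup.mul_mem _ (hRN D.z_mem) (D.omS_mem_normalizer h2)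
      · obtain ⟨g, hg, hgx⟩ := conj_GL hodd x hx (D.omS h2)
          (by rw [htr, D.tr2_omS])
          (by rw [D.tr2_omS]; intro h; apply h14; rw [← h]; ring)
        refine ⟨g, hg, ?_⟩
        rw [hgx]
        exact D.omS_mem_normalizer h2

end Cfsg.Agent.S5997
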