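import Cfsg.Statements.S5999
import Cfsg.Agent.Lib.Helper14.Es3Orbit
import Cfsg.Agent.Lib.Helper14.Es3Field
import Cfsg.Agent.Lib.Helper14.Us3Main
import Cfsg.Agent.Lib.Helper14.Us3Field

set_option autoImplicit false
open scoped MatrixGroups
open Cfsg

namespace Cfsg.Agent.S5999

open Matrix Cfsg.Agent.Lib.Helper14.Es3 Cfsg.Agent.Lib.Helper14.Us3

/-- scalar elements commute with everything -/
theorem scalar_comm {F : Type*} [Field F] (x : GL (Fin 3) F) (z : F)
    (hx : (x : Matrix (Fin 3) (Fin 3) F) = z • (1 : Matrix (Fin 3) (Fin 3) F)) (h : GL (Fin 3) F) :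
    x * h = h * x := by
  apply Units.ext
  rw [Units.val_mul, Units.val_mul, hx]
  simp


/-- Elements of prime order of PSU_3(p), p ≡ 2 (mod 3), and the normalizer of an extraspecial subgroup of order 27. Here `T = PSU_3(p)` for a prime `p ≥ 5` with `p ≡ 2 (mod 3)`, realised through `SU_3(p)`, the matrices of determinant 1 over the field `F` with `p²` elements preserving the hermitian form `Σ uᵢvᵢ^p`; `R` is a non-abelian subgroup of order 27 and exponent 3 of the full unitary group of that form (an extraspecial group 3^{1+2}, acting absolutely irreducibly), and `H` is the subgroup of `SU_3(p)` normalizing `R` — a subgroup of type 3^{1+2}.Sp₂(3) (maximality is not assumed). Ω is the set of cosets of `H`, so an element of `T` of prime order `r` (`x ∈ SU_3(p)` with `x^r` scalar, `x` not scalar) fixes a point of Ω exactly when some `SU_3(p)`-conjugate of `x` normalizes `R`. Let `r` be a prime dividing the index of `H`. Then every element of `T` of order `r` fixes a point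 of Ω if and only if `r = 2`, or `r = 3` and `p ≡ 8 (mod 9)`. -/
theorem result {F : Type*} [Field F] [Fintype F] {p : ℕ} [Fact p.Prime] [CharP F p] (hF : Fintype.card F = p ^ 2) (hp : 5 ≤ p) (hp3 : p % 3 = 2)
    (R : Subgroup (GL (Fin 3) F)) (hRU : R ≤ Cfsg.GU 3 F p) (hR : Nat.card R = 27) (hRe : Monoid.exponent R = 3) (hRna : ¬ IsMulCommutative R)
    (r : ℕ) [Fact r.Prime]
    (hΩ : r ∣ (Cfsg.Geo.subgroupNormalizer R).relIndex (Cfsg.GU 3 F p ⊓ Cfsg.Geo.specialLinear (Fin 3) F)) :
    (∀ x ∈ Cfsg.GU 3 F p ⊓ Cfsg.Geo.specialLinear (Fin 3) F, (∃ z : F, ((x ^ r : GL (Fin 3) F) : Matrix (Fin 3) (Fin 3) F) = z • (1 : Matrix (Fin 3) (Fin 3) F)) →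
      (∀ z : F, (x : Matrix (Fin 3) (Fin 3) F) ≠ z • (1 : Matrix (Fin 3) (Fin 3) F)) →
      ∃ g ∈ Cfsg.GU 3 F p ⊓ Cfsg.Geo.specialLinear (Fin 3) F, g⁻¹ * x * g ∈ Cfsg.Geo.subgroupNormalizer R) ↔ (r = 2 ∨ (r = 3 ∧ p % 9 = 8)) := by
  classical
  have hpp : p.Prime := Fact.out
  have hrp : r.Prime := Fact.out
  have hodd : Odd p := hpp.odd_of_ne_two (by omega)
  have h3 : (3 : F) ≠ 0 := by
    intro h
    have h' : ((3 : ℕ) : F) = 0 := by exact_mod_cast h
    rw [CharP.cast_eq_zero_iff F p] at h'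
    have := Nat.le_of_dvd (by norm_num) h'
    omega
  have h2 : (2 : F) ≠ 0 := by
    intro h
    have h' : ((2 : ℕ) : F) = 0 := by exact_mod_cast h
    rw [CharP.cast_eq_zero_iff F p] at h'
    have := Nat.le_of_dvd (by norm_num) h'
    omega
  have hcardF : Nat.card F = p ^ 2 := by rw [Nat.card_eq_fintype_card, hF]
  have hp2mod : p ^ 2 % 3 = 1 := by rw [Nat.pow_mod, hp3]
  obtain ⟨w, hw⟩ := exists_prim_cube_root (F := F) (by rw [hcardF]; omega)
  obtain ⟨P, l, hP, hl, hl1, hRmap⟩ := exists_unitary_frame hF hp3 hw h3 R hRU hR hRe hRna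
  subst hRmap
  have hRSL : (R0 l).map (MulAut.conj P).toMonoidHom
      ≤ Cfsg.Geo.specialLinear (Fin 3) F := by
    rintro _ ⟨g, hg, rfl⟩
    have h1 : Matrix.GeneralLinearGroup.det g = 1 := R0_le_SL hl hg
    show Matrix.GeneralLinearGroup.det (MulAut.conj P g) = 1
    rw [MulAut.conj_apply, map_mul, map_mul, map_inv, h1, mul_one, mul_inv_cancel]
  have hRle : (R0 l).map (MulAut.conj P).toMonoidHom
      ≤ Cfsg.GU 3 F p ⊓ Cfsg.Geo.specialLinear (Fin 3) F := le_inf hRU hRSL
  constructor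
  · intro H
    by_contra hcon
    push Not at hcon
    obtain ⟨hr2, hr3⟩ := hcon
    by_cases hr3' : r = 3
    · have hp9 := hr3 hr3'
      rw [hr3'] at hΩ
      exact not_three_dvd_relIndex_unitary hF hp3 hp9 _ hR hRle hΩ
    · -- an element of order r in SU
      have hdvd : r ∣ Nat.card (Cfsg.GU 3 F p ⊓ Cfsg.Geo.specialLinear (Fin 3) F :
          Subgroup (GL (Fin 3) F)) :=
        dvd_trans hΩ (Subgroup.relIndex_dvd_card _ _)
      obtain ⟨x, hx⟩ := exists_prime_orderOf_dvd_card'
        (G := (Cfsg.GU 3 F p ⊓ Cfsg.Geo.specialLinear (Fin 3) F : Subgroup (GL (Fin 3) F))) r hdvd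
      have hxr : (x : GL (Fin 3) F) ^ r = 1 := by
        rw [← hx, ← Subgroup.orderOf_coe]; exact pow_orderOf_eq_one _
      have hx1 : (x : GL (Fin 3) F) ≠ 1 := by
        intro h
        have : orderOf (x : GL (Fin 3) F) = 1 := by rw [h, orderOf_one]
        rw [Subgroup.orderOf_coe, hx] at this
        exact hrp.one_lt.ne' this
      have hxdet : Matrix.GeneralLinearGroup.det (x : GL (Fin 3) F) = 1 := x.2.2
      have hex : ∃ y : GL (Fin 3) F, y ∈ Cfsg.Geo.subgroupNormalizer
          ((R0 l).map (MulAut.conj P).toMonoidHom) ∧ Matrix.GeneralLinearGroup.det y = 1 ∧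
          y ^ r = 1 ∧ y ≠ 1 := by
        by_cases hsc : ∃ z : F, ((x : GL (Fin 3) F) : Matrix (Fin 3) (Fin 3) F)
            = z • (1 : Matrix (Fin 3) (Fin 3) F)
        · obtain ⟨z, hz⟩ := hsc
          refine ⟨x, ?_, hxdet, hxr, hx1⟩
          show (x : GL (Fin 3) F) ∈ Subgroup.normalizer _
          rw [Subgroup.mem_normalizer_iff]
          intro h
          rw [scalar_comm _ z hz, mul_inv_cancel_right]
        · push Not at hsc
          obtain ⟨g, hg, hmem⟩ := H x x.2 ⟨1, by rw [hxr]; simp⟩ hsc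
          refine ⟨g⁻¹ * x * g, hmem, ?_, ?_, ?_⟩
          · have hgdet : Matrix.GeneralLinearGroup.det g = 1 := hg.2
            rw [map_mul, map_mul, map_inv, hgdet, hxdet]; simp
          · have : (g⁻¹ * (x : GL (Fin 3) F) * g) ^ r = g⁻¹ * (x : GL (Fin 3) F) ^ r * g := by
              have := conj_pow (a := g⁻¹) (b := (x : GL (Fin 3) F)) (i := r)
              simpa using this
            rw [this, hxr]; group
          · intro h
            apply hx1
            calc (x : GL (Fin 3) F) = g * (g⁻¹ * x * g) * g⁻¹ := by group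
              _ = 1 := by rw [h]; group
      obtain ⟨y, hyN, hydet, hyr, hy1⟩ := hex
      exact hy1 (eq_one_of_prime_order hl hl1 P y hyN hR hydet hr2 hr3' hyr)
  · intro hcase x hxK hxr hns
    have hxGU : x ∈ Cfsg.GU 3 F p := hxK.1
    have hxdet : Matrix.GeneralLinearGroup.det x = 1 := hxK.2
    obtain ⟨z, hz⟩ := hxr
    rcases hcase with hr2 | ⟨hr3, hp9⟩
    · subst hr2
      have hx2 : (x : Matrix (Fin 3) (Fin 3) F) * (x : Matrix (Fin 3) (Fin 3) F)
          = z • (1 : Matrix (Fin 3) (Fin 3) F) := by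
        rw [← hz, pow_two, Units.val_mul]
      exact exists_conj_of_sq_unitary hF hodd h2 hl P hP x hxK z hx2 hns
    · subst hr3
      have hz0 : z ≠ 0 := by
        intro h0
        rw [h0, zero_smul] at hz
        have h3' : ((x ^ 3 : GL (Fin 3) F) : Matrix (Fin 3) (Fin 3) F)
            * ((x ^ 3)⁻¹ : GL (Fin 3) F) = 1 := by
          rw [← Units.val_mul, mul_inv_cancel, Units.val_one]
        rw [hz, Matrix.zero_mul] at h3'
        exact zero_ne_one h3'
      set zu : Fˣ := Units.mk0 z hz0 with hzu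
      have hx3 : x ^ 3 = dgl zu zu zu := by
        apply Units.ext
        rw [hz, dgl_val, dg_scalar]
        rfl
      have hzu3 : zu ^ 3 = 1 := by
        have h1 := congrArg Matrix.GeneralLinearGroup.det hx3
        rw [map_pow, hxdet, one_pow, det_dgl] at h1
        rw [pow_three']; exact h1.symm
      obtain ⟨ζ, hζ, hζq⟩ := exists_cube_root_norm_one hF (by omega) (by omega) zu hzu3
      have hζinv : ((ζ⁻¹ : Fˣ) : F) ^ (p + 1) = 1 := by
        have h1 : (ζ⁻¹) ^ (p + 1) = 1 := by rw [inv_pow, hζq, inv_one]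
        have := congrArg Units.val h1
        simpa using this
      set x' : GL (Fin 3) F := dgl ζ⁻¹ ζ⁻¹ ζ⁻¹ * x with hx'def
      have hx'U : x' ∈ Cfsg.GU 3 F p :=
        Subgroup.mul_mem _ (sc_mem_GU hF ζ⁻¹ hζinv) hxGU
      have hxx' : x = dgl ζ ζ ζ * x' := by
        rw [hx'def, ← mul_assoc, dgl_mul, mul_inv_cancel, dgl_one, one_mul]
      have hx'3 : x' * x' * x' = 1 := by
        rw [← pow_three', hx'def, Commute.mul_pow (dgl_scalar_comm ζ⁻¹ x) 3, hx3, dgl_pow, dgl_mul,
          inv_pow, hζ, inv_mul_cancel, dgl_one]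
      exact exists_conj_of_cube_unitary hF hp3 hl h3 P hP x x' ζ hx'U hxx' hx'3


end Cfsg.Agent.S5999
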