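import Cfsg.Statements.S6000
import Cfsg.Agent.Lib.Helper14.P4Defs
import Cfsg.Agent.Lib.Helper14.P4Glue
import Cfsg.Agent.Lib.Helper14.P4A1
import Cfsg.Agent.Lib.Helper10.P4I2C
import Cfsg.Agent.Lib.Helper10.P4I3A
import Cfsg.Agent.Lib.Helper10.P4I5A
import Cfsg.Agent.Lib.Helper13.P4A3
import Cfsg.Agent.Lib.Helper13.P4A5
import Cfsg.Agent.Lib.Helper13.P4B1
import Cfsg.Agent.Lib.Helper21.P4I2B
import Cfsg.Agent.Lib.Helper21.P4I3B
import Cfsg.Agent.Lib.Helper21.P4I5B
import Cfsg.Agent.Lib.Helper27.P4A2
import Cfsg.Agent.Lib.Helper27.P4A4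
import Cfsg.Agent.Lib.Helper53.P4I2A
import Cfsg.Agent.Lib.Helper60.P4A1A
import Cfsg.Agent.Lib.Helper60.P4P3
import Cfsg.Agent.Lib.Helper60.P4P5
import Cfsg.Agent.Lib.Helper60.P4PR
import Cfsg.Agent.Lib.Helper80.P4O3
import Cfsg.Agent.Lib.Helper80.P4O5
import Cfsg.Agent.Lib.Helper80.P4O5T
import Cfsg.Agent.Lib.Helper80.P4O7

set_option autoImplicit false
open scoped MatrixGroups
open Cfsg
open Cfsg.Agent.Lib.Helper14.P4

namespace Cfsg.Agent.S6000

/-- Elements of prime order of PSL_4(p), p ≡ 1 (mod 4), and the normalizer of a 2-group of symplectic type of order 2⁶. Here `T = PSL_4(F)` for the field `F` with `p` elements, `p` a prime with `p ≡ 1 (mod 4)`; `R` is an absolutely irreducible subgroup of GL_4(F) of order 2⁶ that is a 2-group of symplectic type of exponent 4 with centre of order 4 (the central product of the scalars of order 4 with an extraspecial group 2^{1+4}), and `H` is the subgroup of matrices of determinant 1 normalizing `R` — a subgroup of type 2⁴.Sp₄(2) (maximality is not assumed). Ω is the set of cosets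 of `H` in `T`, so an element of `T` of prime order `r` (a matrix `x` of determinant 1 with `x^r` scalar, `x` not scalar) fixes a point of Ω exactly when some conjugate of `x` by a matrix of determinant 1 normalizes `R`. Let `r` be a prime dividing the index of `H`. Then every element of `T` of order `r` fixes a point of Ω if and only if `r = 2`, or `r = 3` and `p ≡ 2 (mod 3)`, or `r = 5` and `p ≡ ±2 (mod 5)` (`p` has multiplicative order 4 modulo 5). -/
theorem result {F : Type*} [Field F] [Fintype F] {p : ℕ} [Fact p.Prime] [CharP F p] (hF : Fintype.card F = p) (hp4 : p % 4 = 1)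
    (R : Subgroup (GL (Fin 4) F)) (hR : Cfsg.Geo.IsLinearSymplecticTypeData 2 R) (hR6 : Nat.card R = 2 ^ 6)
    (r : ℕ) [Fact r.Prime]
    (hΩ : r ∣ (Cfsg.Geo.subgroupNormalizer R).relIndex (Cfsg.Geo.specialLinear (Fin 4) F)) :
    (∀ x ∈ Cfsg.Geo.specialLinear (Fin 4) F, (∃ z : F, ((x ^ r : GL (Fin 4) F) : Matrix (Fin 4) (Fin 4) F) = z • (1 : Matrix (Fin 4) (Fin 4) F)) →
      (∀ z : F, (x : Matrix (Fin 4) (Fin 4) F) ≠ z • (1 : Matrix (Fin 4) (Fin 4) F)) →
      ∃ g ∈ Cfsg.Geo.specialLinear (Fin 4) F, g⁻¹ * x * g ∈ Cfsg.Geo.subgroupNormalizer R) ↔ (r = 2 ∨ (r = 3 ∧ p % 3 = 2) ∨ (r = 5 ∧ orderOf (p : ZMod 5) = 4)) := by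
  classical
  have hpp : p.Prime := Fact.out
  have hrp : r.Prime := Fact.out
  have hp2 : p ≠ 2 := by rintro rfl; omega
  have hp3 : p ≠ 3 := by rintro rfl; omega
  have hp7 : p ≠ 7 := by rintro rfl; omega
  have hcast : ∀ n : ℕ, n.Prime → n ≠ p → ((n : ℕ) : F) ≠ 0 := by
    intro n hn hnp h0
    rw [CharP.cast_eq_zero_iff F p n] at h0
    exact hnp ((Nat.prime_dvd_prime_iff_eq hpp hn).mp h0).symm
  have h2 : (2 : F) ≠ 0 := by
    have := hcast 2 Nat.prime_two (Ne.symm hp2); exact_mod_cast this
  obtain ⟨i, hi⟩ : ∃ i : F, i * i = -1 := by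
    have : IsSquare (-1 : F) := FiniteField.isSquare_neg_one_iff.mpr (by rw [hF]; omega)
    obtain ⟨i, hi⟩ := this
    exact ⟨i, hi.symm⟩
  have hPL : PauliLike R := pauliLike_of_data R hR hR6
  obtain ⟨P, hP⟩ := exists_frame h2 i hi R hPL
  have hA3 := trace_mul_trace_inv h2 R hPL
  constructor
  · intro hall
    by_contra hcon
    push Not at hcon
    obtain ⟨hr2, hr3, hr5⟩ := hcon
    obtain ⟨x, hdet, hxr, hns, hbad⟩ : ∃ x : GL (Fin 4) F, Matrix.GeneralLinearGroup.det x = 1 ∧
        x ^ r = 1 ∧ (∀ z : F, (x : Matrix (Fin 4) (Fin 4) F) ≠ z • 1) ∧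
        ∀ g : GL (Fin 4) F, g⁻¹ * x * g ∉ Subgroup.normalizer (R : Set (GL (Fin 4) F)) := by
      by_cases h3 : r = 3
      · subst h3
        have hp31 : p % 3 = 1 := by
          have := hr3 rfl
          have h0 : p % 3 ≠ 0 := by
            intro h0
            exact hp3 ((Nat.prime_dvd_prime_iff_eq Nat.prime_three hpp).mp
              (Nat.dvd_of_mod_eq_zero h0)).symm
          omega
        have hp5 : p ≠ 5 := by rintro rfl; omega
        obtain ⟨ω, hω⟩ := (cube_root_facts (F := F) hF).2 hp31
        have h3F : (3 : F) ≠ 0 := by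
          have := hcast 3 Nat.prime_three (Ne.symm hp3); exact_mod_cast this
        have h5F : (5 : F) ≠ 0 := by
          have := hcast 5 (by norm_num) (Ne.symm hp5); exact_mod_cast this
        have h7F : (7 : F) ≠ 0 := by
          have := hcast 7 (by norm_num) (Ne.symm hp7); exact_mod_cast this
        exact exists_bad_three h2 h3F h5F h7F ω hω _ hA3
      · by_cases h5 : r = 5
        · subst h5
          have hord := hr5 rfl
          by_cases hp5 : p = 5
          · have h5F : (5 : F) = 0 := by
              have : ((5 : ℕ) : F) = 0 := by rw [← hp5]; exact CharP.cast_eq_zero F p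
              exact_mod_cast this
            exact exists_bad_transvection h2 h5F _
              (fun v φ y hv hφ hvφ hy => transvection_not_mem h2 R hPL v φ hv hφ hvφ y hy)
          · have h5F : (5 : F) ≠ 0 := by
              have := hcast 5 (by norm_num) (Ne.symm hp5); exact_mod_cast this
            obtain ⟨u, hu⟩ := (five_facts (F := F) hF hp4).2 hord hp5
            exact exists_bad_five h2 h5F u hu _ hA3
        · have hr7 : 7 ≤ r := by
            have h2' := hrp.two_le
            by_contra hlt
            push Not at hlt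
            interval_cases r
            · exact hr2 rfl
            · exact h3 rfl
            · exact absurd hrp (by decide)
            · exact h5 rfl
            · exact absurd hrp (by decide)
          have hdvd : r ∣ Nat.card (Matrix.GeneralLinearGroup.det : GL (Fin 4) F →* Fˣ).ker :=
            hΩ.trans (Subgroup.relIndex_dvd_card _ _)
          exact exists_bad_large _ r hrp (by omega)
            (fun y hy hyr => scalar_of_pow_prime h2 R hPL r hrp hr7 y hy hyr) hdvd
    obtain ⟨g, _, hmem⟩ := hall x hdet ⟨1, by rw [hxr, Units.val_one, one_smul]⟩ hns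
    exact hbad g hmem
  · intro hcase x hxSL hxr hns
    have hxdet : Matrix.GeneralLinearGroup.det x = 1 := hxSL
    obtain ⟨z, hz⟩ := hxr
    -- it suffices to conjugate elements of order `r` into the normalizer of `R0`
    have key : r ≠ p → (∃ c : F, c ^ r = z) →
        (∀ x' : GL (Fin 4) F, x' ^ r = 1 → (∀ a : F, (x' : Matrix (Fin 4) (Fin 4) F) ≠ a • 1) →
          ∃ g : GL (Fin 4) F, g⁻¹ * x' * g ∈
            Subgroup.normalizer (R0 i hi : Set (GL (Fin 4) F))) →
        ∃ g ∈ Cfsg.Geo.specialLinear (Fin 4) F, g⁻¹ * x * g ∈ Cfsg.Geo.subgroupNormalizer R := by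
      intro hrp' hroot hconj0
      obtain ⟨c, hc⟩ := hroot
      have hconj : ∀ x' : GL (Fin 4) F, x' ^ r = 1 →
          (∀ a : F, (x' : Matrix (Fin 4) (Fin 4) F) ≠ a • 1) →
          ∃ g : GL (Fin 4) F, g⁻¹ * x' * g ∈ Subgroup.normalizer (R : Set (GL (Fin 4) F)) := by
        intro x' hx' hns'
        obtain ⟨g, hg⟩ := hconj0 x' hx' hns'
        refine ⟨g * P⁻¹, ?_⟩
        rw [hP]
        exact transfer_conj (R0 i hi) P x' g hg
      obtain ⟨g, hgdet, hg⟩ := if_core (p := p) r hrp' R x hxdet z c hz hc hns hconj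
      exact ⟨g, hgdet, hg⟩
    rcases hcase with hr2 | ⟨hr3, hp32⟩ | ⟨hr5, hord⟩
    · subst hr2
      have hx2 : (x : Matrix (Fin 4) (Fin 4) F) * (x : Matrix (Fin 4) (Fin 4) F) = z • 1 := by
        rw [← hz, pow_two, Units.val_mul]
      apply key hp2.symm
      · -- z is a square
        by_contra hno
        have hzns : ¬ IsSquare z := by
          rintro ⟨c, hc⟩
          exact hno ⟨c, by rw [pow_two, hc]⟩
        have hd := det_of_sq_eq_nonsquare h2 (x : Matrix (Fin 4) (Fin 4) F) z hx2 hzns
        have hd1 : (x : Matrix (Fin 4) (Fin 4) F).det = 1 := by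
          have := congrArg (fun u : Fˣ => (u : F)) hxdet
          simpa using this
        rw [hd1] at hd
        have hz1 : (z - 1) * (z + 1) = 0 := by linear_combination -hd
        rcases mul_eq_zero.mp hz1 with h | h
        · exact hzns ⟨1, by linear_combination h⟩
        · exact hzns ⟨i, by linear_combination h - hi⟩
      · intro x' hx' hns'
        have hx'2 : (x' : Matrix (Fin 4) (Fin 4) F) * (x' : Matrix (Fin 4) (Fin 4) F) = 1 := by
          rw [← Units.val_mul, ← pow_two, hx', Units.val_one]
        obtain ⟨g, s, hs, hcases⟩ := conj_of_sq_eq_one h2 x' hx'2 hns'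
        refine ⟨g, ?_⟩
        rcases hcases with h | h
        · have : g⁻¹ * x' * g = gScal s hs * gZ1 := by
            apply Units.ext
            rw [h, Units.val_mul, coe_gScal, coe_gZ1, Matrix.smul_mul, one_mul]
          rw [this]
          apply gScal_mul_mem_normalizer
          exact Subgroup.le_normalizer (Subgroup.subset_closure (by simp))
        · have : g⁻¹ * x' * g = gScal s hs * gCZ := by
            apply Units.ext
            rw [h, Units.val_mul, coe_gScal, coe_gCZ, Matrix.smul_mul, one_mul]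
          rw [this]
          apply gScal_mul_mem_normalizer
          exact gCZ_mem_normalizer h2 i hi
    · subst hr3
      have h3F : (3 : F) ≠ 0 := by
        have := hcast 3 Nat.prime_three (Ne.symm hp3); exact_mod_cast this
      have hω := (cube_root_facts (F := F) hF).1 hp32
      apply key (Ne.symm hp3)
      · refine exists_root_of_coprime (F := F) hF 3 ?_ (by norm_num) z
        have h1 : ¬ 3 ∣ p - 1 := by omega
        exact (Nat.Prime.coprime_iff_not_dvd Nat.prime_three).mpr h1
      · intro x' hx' hns'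
        have hx'1 : x' ≠ 1 := by
          rintro rfl
          exact hns' 1 (by rw [Units.val_one, one_smul])
        obtain ⟨yA, yB, hyA, hyB, hyA3, hyB3, hyA1, hyB1, hyAq, hyBq⟩ := exists_order_three h2 i hi
        by_cases hq : (x' : Matrix (Fin 4) (Fin 4) F) * (x' : Matrix (Fin 4) (Fin 4) F) +
            (x' : Matrix (Fin 4) (Fin 4) F) + 1 = 0
        · obtain ⟨g, hg⟩ := conj_of_pow_three h3F hω x' yA hx' hyA3 hx'1 hyA1
            ⟨fun _ => hyAq, fun _ => hq⟩
          exact ⟨g, by rw [hg]; exact hyA⟩
        · obtain ⟨g, hg⟩ := conj_of_pow_three h3F hω x' yB hx' hyB3 hx'1 hyB1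
            ⟨fun h => absurd h hq, fun h => absurd h hyBq⟩
          exact ⟨g, by rw [hg]; exact hyB⟩
    · subst hr5
      have hp5 : p ≠ 5 := by
        rintro rfl
        have h0 : ((5 : ℕ) : ZMod 5) = 0 := ZMod.natCast_self 5
        rw [h0] at hord
        simp at hord
      have h5F : (5 : F) ≠ 0 := by
        have := hcast 5 (by norm_num) (Ne.symm hp5); exact_mod_cast this
      have hirr := (five_facts (F := F) hF hp4).1 hord
      apply key (Ne.symm hp5)
      · refine exists_root_of_coprime (F := F) hF 5 ?_ (by norm_num) z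
        have h1 : ¬ 5 ∣ p - 1 := by
          intro hd
          have hp1 : p % 5 = 1 := by omega
          have : (p : ZMod 5) = 1 := by
            have h2' : ((p % 5 : ℕ) : ZMod 5) = (p : ZMod 5) := ZMod.natCast_mod p 5
            rw [← h2', hp1]; simp
          rw [this, orderOf_one] at hord
          omega
        exact (Nat.Prime.coprime_iff_not_dvd (by norm_num)).mpr h1
      · intro x' hx' hns'
        have hx'1 : x' ≠ 1 := by
          rintro rfl
          exact hns' 1 (by rw [Units.val_one, one_smul])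
        obtain ⟨y, hy, hy5, hy1⟩ := exists_order_five h2 i hi
        obtain ⟨g, hg⟩ := conj_of_pow_five h5F hirr x' y hx' hy5 hx'1 hy1
        exact ⟨g, by rw [hg]; exact hy⟩

end Cfsg.Agent.S6000
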