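import Cfsg.Statements.S6001
import Cfsg.Agent.Lib.Helper14.P4Defs
import Cfsg.Agent.Lib.Helper14.P4Glue
import Cfsg.Agent.Lib.Helper14.P4UGlue
import Cfsg.Agent.Lib.Helper14.P4URep
import Cfsg.Agent.Lib.Helper14.P4A1
import Cfsg.Agent.Lib.Helper13.P4A3
import Cfsg.Agent.Lib.Helper13.P4A5
import Cfsg.Agent.Lib.Helper27.P4A4
import Cfsg.Agent.Lib.Helper53.P4I2A
import Cfsg.Agent.Lib.Helper21.P4I2B
import Cfsg.Agent.Lib.Helper27.P4A2
import Cfsg.Agent.Lib.Helper14.P4UC
import Cfsg.Agent.Lib.Helper14.P4UI3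
import Cfsg.Agent.Lib.Helper14.P4US2
import Cfsg.Agent.Lib.Helper21.P4UF
import Cfsg.Agent.Lib.Helper21.P4UR
import Cfsg.Agent.Lib.Helper27.P4UO3
import Cfsg.Agent.Lib.Helper27.P4UO3T
import Cfsg.Agent.Lib.Helper27.P4UO5
import Cfsg.Agent.Lib.Helper27.P4UO7
import Cfsg.Agent.Lib.Helper60.P4UP
import Cfsg.Agent.Lib.Helper83.P4UI5

set_option autoImplicit false
open scoped MatrixGroups
open Cfsg
open Cfsg.Agent.Lib.Helper14.P4

namespace Cfsg.Agent.S6001

/-- Elements of prime order of PSU_4(p), p ≡ 3 (mod 4), and the normalizer of a 2-group of symplectic type of order 2⁶. Here `T = PSU_4(p)` for a prime `p ≡ 3 (mod 4)`, realised through `SU_4(p)`, the matrices of determinant 1 over the field `F` with `p²` elements preserving the hermitian form `f = Σ uᵢvᵢ^p`; `R` is an absolutely irreducible subgroup of the full unitary group of `f` of order 2⁶ that is a 2-group of symplectic type of exponent 4 with centre of order 4, and `H` is the subgroup of `SU_4(p)` normalizing `R` — a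 subgroup of type 2⁴.Sp₄(2) (maximality is not assumed). Ω is the set of cosets of `H`, so an element of `T` of prime order `r` (`x ∈ SU_4(p)` with `x^r` scalar, `x` not scalar) fixes a point of Ω exactly when some `SU_4(p)`-conjugate of `x` normalizes `R`. Let `r` be a prime dividing the index of `H`. Then every element of `T` of order `r` fixes a point of Ω if and only if `r = 2`, or `r = 3` and `p ≡ 1 (mod 3)`, or `r = 5` and `p ≡ ±2 (mod 5)` (`p` has multiplicative order 4 modulo 5). -/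
theorem result {F : Type*} [Field F] [Fintype F] {p : ℕ} [Fact p.Prime] [CharP F p] (hF : Fintype.card F = p ^ 2) (hp4 : p % 4 = 3)
    (R : Subgroup (GL (Fin 4) F)) (hRs : Cfsg.Geo.IsSymplecticTypeGroup 2 R) (hRi : Cfsg.Geo.ActsAbsolutelyIrreducibly (Cfsg.Geo.matrixSet R))
    (hRU : R ≤ Cfsg.GU 4 F p) (hR6 : Nat.card R = 2 ^ 6) (hRZ : Nat.card (Subgroup.center R) = 4)
    (r : ℕ) [Fact r.Prime]
    (hΩ : r ∣ (Cfsg.Geo.subgroupNormalizer R).relIndex (Cfsg.GU 4 F p ⊓ Cfsg.Geo.specialLinear (Fin 4) F)) :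
    (∀ x ∈ Cfsg.GU 4 F p ⊓ Cfsg.Geo.specialLinear (Fin 4) F, (∃ z : F, ((x ^ r : GL (Fin 4) F) : Matrix (Fin 4) (Fin 4) F) = z • (1 : Matrix (Fin 4) (Fin 4) F)) →
      (∀ z : F, (x : Matrix (Fin 4) (Fin 4) F) ≠ z • (1 : Matrix (Fin 4) (Fin 4) F)) →
      ∃ g ∈ Cfsg.GU 4 F p ⊓ Cfsg.Geo.specialLinear (Fin 4) F, g⁻¹ * x * g ∈ Cfsg.Geo.subgroupNormalizer R) ↔ (r = 2 ∨ (r = 3 ∧ p % 3 = 1) ∨ (r = 5 ∧ orderOf (p : ZMod 5) = 4)) := by
  classical
  have hpp : p.Prime := Fact.out
  have hrp : r.Prime := Fact.out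
  have hp2 : p ≠ 2 := by rintro rfl; omega
  have hp5 : p ≠ 5 := by rintro rfl; omega
  have hcast : ∀ n : ℕ, n.Prime → n ≠ p → ((n : ℕ) : F) ≠ 0 := by
    intro n hn hnp h0
    rw [CharP.cast_eq_zero_iff F p n] at h0
    exact hnp ((Nat.prime_dvd_prime_iff_eq hpp hn).mp h0).symm
  have h2 : (2 : F) ≠ 0 := by
    have := hcast 2 Nat.prime_two (Ne.symm hp2); exact_mod_cast this
  have h5F : (5 : F) ≠ 0 := by
    have := hcast 5 (by norm_num) (Ne.symm hp5); exact_mod_cast this
  obtain ⟨⟨i, hi, hip⟩, hfw1, hfw2, hfu⟩ := unitary_field_facts (F := F) hF hp4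
  have hPL : PauliLike R := pauliLike_of_parts R hRs hRi (by rw [hR6]; norm_num) hRZ
  obtain ⟨P₀, hP₀⟩ := exists_frame h2 i hi R hPL
  obtain ⟨P, hPU, hP⟩ := exists_unitary_frame hF h2 i hi hip R hRU P₀ hP₀
  have hA3 := trace_mul_trace_inv h2 R hPL
  obtain ⟨hZ1U, hCZU, hYAU, hYBU, hY5U, hScU⟩ := reps_mem_GU hF h2 i hi hip
  constructor
  · intro hall
    by_contra hcon
    push Not at hcon
    obtain ⟨hr2, hr3, hr5⟩ := hcon
    obtain ⟨x, hxU, hdet, hxr, hns, hbad⟩ : ∃ x : GL (Fin 4) F, x ∈ Cfsg.GU 4 F p ∧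
        Matrix.GeneralLinearGroup.det x = 1 ∧
        x ^ r = 1 ∧ (∀ z : F, (x : Matrix (Fin 4) (Fin 4) F) ≠ z • 1) ∧
        ∀ g : GL (Fin 4) F, g⁻¹ * x * g ∉ Subgroup.normalizer (R : Set (GL (Fin 4) F)) := by
      by_cases h3 : r = 3
      · subst h3
        have hp31 := hr3 rfl
        by_cases hp3 : p = 3
        · have h3F : (3 : F) = 0 := by
            have : ((3 : ℕ) : F) = 0 := by rw [← hp3]; exact CharP.cast_eq_zero F p
            exact_mod_cast this
          exact exists_bad_transvection_unitary hF h2 h3F _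
            (fun v φ y hv hφ hvφ hy => transvection_not_mem h2 R hPL v φ hv hφ hvφ y hy)
        · have hp32 : p % 3 = 2 := by
            have h0 : p % 3 ≠ 0 := by
              intro h0
              exact hp3 ((Nat.prime_dvd_prime_iff_eq Nat.prime_three hpp).mp
                (Nat.dvd_of_mod_eq_zero h0)).symm
            omega
          have hp7 : p ≠ 7 := by rintro rfl; omega
          obtain ⟨w, hw, hwn⟩ := hfw2 hp32
          have h3F : (3 : F) ≠ 0 := by
            have := hcast 3 Nat.prime_three (Ne.symm hp3); exact_mod_cast this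
          have h7F : (7 : F) ≠ 0 := by
            have := hcast 7 (by norm_num) (Ne.symm hp7); exact_mod_cast this
          exact exists_bad_three_unitary hF h2 h3F h5F h7F w hw hwn _ hA3
      · by_cases h5 : r = 5
        · subst h5
          have hord := hr5 rfl
          obtain ⟨u, hu, hup⟩ := hfu hord
          exact exists_bad_five_unitary hF h2 h5F u hu hup _ hA3
        · have hr7 : 7 ≤ r := by
            have h2' := hrp.two_le
            by_contra hlt
            push Not at hlt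
            interval_cases r
            · exact hr2 rfl
            · exact h3 rfl
            · exact absurd hrp (by decide)
            · exact h5 rfl
            · exact absurd hrp (by decide)
          have hdvd : r ∣ Nat.card (Cfsg.GU 4 F p ⊓ Cfsg.Geo.specialLinear (Fin 4) F :
              Subgroup (GL (Fin 4) F)) :=
            hΩ.trans (Subgroup.relIndex_dvd_card _ _)
          obtain ⟨x, hxT, hxr, hns, hbad⟩ := exists_bad_large_unitary
            (Cfsg.GU 4 F p ⊓ Cfsg.Geo.specialLinear (Fin 4) F) _ (fun g hg => hg.2) r hrp (by omega)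
            (fun y hy hyr => scalar_of_pow_prime h2 R hPL r hrp hr7 y hy hyr) hdvd
          exact ⟨x, hxT.1, hxT.2, hxr, hns, hbad⟩
    obtain ⟨g, _, hmem⟩ := hall x ⟨hxU, hdet⟩ ⟨1, by rw [hxr, Units.val_one, one_smul]⟩ hns
    exact hbad g hmem
  · intro hcase x hxT hxr hns
    have hxU : x ∈ Cfsg.GU 4 F p := hxT.1
    have hxdet : Matrix.GeneralLinearGroup.det x = 1 := hxT.2
    obtain ⟨z, hz⟩ := hxr
    obtain ⟨hz4, hzn⟩ := scalar_facts hF x hxU hxdet r z hz
    -- it suffices to find a unitary root of `z` and to conjugate elements of order `r` of `GU`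
    -- into unitary elements of the normalizer of `R0`
    have key : r ≠ p → (∃ c : F, c ^ r = z ∧ c ^ (p + 1) = 1) →
        (∀ x' : GL (Fin 4) F, x' ∈ Cfsg.GU 4 F p → x' ^ r = 1 →
          (∀ a : F, (x' : Matrix (Fin 4) (Fin 4) F) ≠ a • 1) →
          ∃ y : GL (Fin 4) F, y ∈ Cfsg.GU 4 F p ∧
            y ∈ Subgroup.normalizer (R0 i hi : Set (GL (Fin 4) F)) ∧
            ∃ g : GL (Fin 4) F, g⁻¹ * x' * g = y) →
        ∃ g ∈ Cfsg.GU 4 F p ⊓ Cfsg.Geo.specialLinear (Fin 4) F,
          g⁻¹ * x * g ∈ Cfsg.Geo.subgroupNormalizer R := by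
      intro hrp' hroot hconj0
      obtain ⟨c, hc, hcn⟩ := hroot
      have hz0 : z ≠ 0 := by
        rintro rfl
        rw [zero_pow (by norm_num)] at hz4
        exact zero_ne_one hz4
      have hc0 : c ≠ 0 := by
        rintro rfl
        rw [zero_pow hrp.ne_zero] at hc
        exact hz0 hc.symm
      have hci0 : c⁻¹ ≠ 0 := inv_ne_zero hc0
      have hcin : c⁻¹ ^ (p + 1) = 1 := by rw [inv_pow, hcn, inv_one]
      obtain ⟨x', hx'⟩ : ∃ x' : GL (Fin 4) F, x' = gScal c⁻¹ hci0 * x := ⟨_, rfl⟩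
      have hxx' : x = gScal c hc0 * x' := by
        rw [hx', ← mul_assoc]
        have : gScal c hc0 * gScal c⁻¹ hci0 = (1 : GL (Fin 4) F) := by
          apply Units.ext
          rw [Units.val_mul, coe_gScal, coe_gScal, Matrix.smul_mul, Matrix.mul_smul, one_mul,
            smul_smul, mul_inv_cancel₀ hc0, one_smul, Units.val_one]
        rw [this, one_mul]
      have hx'U : x' ∈ Cfsg.GU 4 F p := by
        rw [hx']; exact Subgroup.mul_mem _ (hScU c⁻¹ hci0 hcin) hxU
      have hx'r : x' ^ r = 1 := by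
        have hcomm : Commute (gScal c⁻¹ hci0) x := gScal_comm c⁻¹ hci0 x
        rw [hx', hcomm.mul_pow, gScal_pow]
        apply Units.ext
        rw [Units.val_mul, coe_gScal, hz, Matrix.smul_mul, Matrix.mul_smul, one_mul, smul_smul,
          inv_pow, hc, inv_mul_cancel₀ hz0, one_smul, Units.val_one]
      have hx'ns : ∀ a : F, (x' : Matrix (Fin 4) (Fin 4) F) ≠ a • 1 := by
        intro a ha
        apply hns (c * a)
        rw [hxx', Units.val_mul, coe_gScal, ha, Matrix.smul_mul, Matrix.mul_smul, one_mul, smul_smul]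
      obtain ⟨y, hyU, hyN, g, hg⟩ := hconj0 x' hx'U hx'r hx'ns
      -- move to the frame of `R`
      have hy'U : P * y * P⁻¹ ∈ Cfsg.GU 4 F p :=
        Subgroup.mul_mem _ (Subgroup.mul_mem _ hPU hyU) (Subgroup.inv_mem _ hPU)
      have hy'N : P * y * P⁻¹ ∈ Subgroup.normalizer (R : Set (GL (Fin 4) F)) := by
        rw [hP]
        exact Cfsg.Agent.Lib.Helper14.Es3.conj_mem_normalizer_map (R0 i hi) P y hyN
      have hg0 : (g * P⁻¹)⁻¹ * x' * (g * P⁻¹) = P * y * P⁻¹ := by
        rw [← hg]; group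
      have hrF : ((r : ℕ) : F) ≠ 0 := hcast r hrp hrp'
      obtain ⟨S, hSU, hSdet, hS⟩ := su_conj_of_gl_conj hF x' (P * y * P⁻¹) (g * P⁻¹) hx'U hy'U hg0
        r hrp.pos hrF hx'r
      refine ⟨S, ⟨hSU, hSdet⟩, ?_⟩
      have h1 : S⁻¹ * x * S = gScal c hc0 * (S⁻¹ * x' * S) := by
        calc S⁻¹ * x * S = S⁻¹ * (gScal c hc0 * x') * S := by rw [← hxx']
          _ = gScal c hc0 * (S⁻¹ * x' * S) := by
              rw [← mul_assoc S⁻¹, ← gScal_comm c hc0 S⁻¹]
              simp only [mul_assoc]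
      rw [h1, hS]
      exact gScal_mul_mem_normalizer c hc0 R _ hy'N
    rcases hcase with hr2 | ⟨hr3, hp31⟩ | ⟨hr5, hord⟩
    · subst hr2
      have hx2 : (x : Matrix (Fin 4) (Fin 4) F) * (x : Matrix (Fin 4) (Fin 4) F) = z • 1 := by
        rw [← hz, pow_two, Units.val_mul]
      apply key hp2.symm
      · obtain ⟨c, hc, hcn⟩ := exists_unitary_sqrt hF hp4 h2 i hi hip x hxU hxdet z hx2
        exact ⟨c, by rw [pow_two, hc], hcn⟩
      · intro x' hx'U hx' hns'
        have hx'2 : (x' : Matrix (Fin 4) (Fin 4) F) * (x' : Matrix (Fin 4) (Fin 4) F) = 1 := by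
          rw [← Units.val_mul, ← pow_two, hx', Units.val_one]
        obtain ⟨g, s, hs, hcases⟩ := conj_of_sq_eq_one h2 x' hx'2 hns'
        have hsq : (g⁻¹ * x' * g) * (g⁻¹ * x' * g) = 1 := by
          have : (g⁻¹ * x' * g) * (g⁻¹ * x' * g) = g⁻¹ * (x' * x') * g := by group
          rw [this, ← pow_two, hx']; group
        have hsq' : ((g⁻¹ * x' * g : GL (Fin 4) F) : Matrix (Fin 4) (Fin 4) F) *
            ((g⁻¹ * x' * g : GL (Fin 4) F) : Matrix (Fin 4) (Fin 4) F) = 1 := by
          rw [← Units.val_mul, hsq, Units.val_one]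
        have hss : s * s = 1 := by
          rcases hcases with h | h
          · rw [h, Matrix.smul_mul, Matrix.mul_smul, smul_smul, mZ1_mul_self] at hsq'
            have := congrFun (congrFun hsq' 0) 0
            simpa using this
          · rw [h, Matrix.smul_mul, Matrix.mul_smul, smul_smul, mCZ_mul_self] at hsq'
            have := congrFun (congrFun hsq' 0) 0
            simpa using this
        have hsn : s ^ (p + 1) = 1 := by
          have hev : Even (p + 1) := by
            rcases hpp.eq_two_or_odd with h | h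
            · exact absurd h hp2
            · exact ⟨(p + 1) / 2, by omega⟩
          obtain ⟨k, hk⟩ := hev
          rw [hk, ← two_mul, pow_mul, pow_two, hss, one_pow]
        rcases hcases with h | h
        · have he : g⁻¹ * x' * g = gScal s hs * gZ1 := by
            apply Units.ext
            rw [h, Units.val_mul, coe_gScal, coe_gZ1, Matrix.smul_mul, one_mul]
          refine ⟨gScal s hs * gZ1, Subgroup.mul_mem _ (hScU s hs hsn) hZ1U, ?_, g, he⟩
          apply gScal_mul_mem_normalizer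
          exact Subgroup.le_normalizer (Subgroup.subset_closure (by simp))
        · have he : g⁻¹ * x' * g = gScal s hs * gCZ := by
            apply Units.ext
            rw [h, Units.val_mul, coe_gScal, coe_gCZ, Matrix.smul_mul, one_mul]
          refine ⟨gScal s hs * gCZ, Subgroup.mul_mem _ (hScU s hs hsn) hCZU, ?_, g, he⟩
          apply gScal_mul_mem_normalizer
          exact gCZ_mem_normalizer h2 i hi
    · subst hr3
      have hp3 : p ≠ 3 := by rintro rfl; omega
      have h3F : (3 : F) ≠ 0 := by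
        have := hcast 3 Nat.prime_three (Ne.symm hp3); exact_mod_cast this
      obtain ⟨w, hw, hwp⟩ := hfw1 hp31
      apply key (Ne.symm hp3)
      · refine ⟨z ^ 3, ?_, ?_⟩
        · calc (z ^ 3) ^ 3 = z * (z ^ 4) ^ 2 := by ring
            _ = z := by rw [hz4, one_pow, mul_one]
        · rw [← pow_mul, mul_comm, pow_mul, hzn, one_pow]
      · intro x' hx'U hx' hns'
        have hx'1 : x' ≠ 1 := by
          rintro rfl
          exact hns' 1 (by rw [Units.val_one, one_smul])
        obtain ⟨hA3', hA1, hAq⟩ := urep_gYA_facts h2 i hi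
        obtain ⟨hB3, hB1, hBq⟩ := urep_gYB_facts h2 i hi
        by_cases hq : (x' : Matrix (Fin 4) (Fin 4) F) * (x' : Matrix (Fin 4) (Fin 4) F) +
            (x' : Matrix (Fin 4) (Fin 4) F) + 1 = 0
        · obtain ⟨g, hg⟩ := gl_conj_of_pow_three_unitary hF h3F w hw hwp x' (i3b_gYA h2 i hi)
            hx'U hYAU hx' hA3' hx'1 hA1 ⟨fun _ => hAq, fun _ => hq⟩
          exact ⟨_, hYAU, i3b_gYA_mem h2 i hi, g, hg⟩
        · obtain ⟨g, hg⟩ := gl_conj_of_pow_three_unitary hF h3F w hw hwp x' (i3b_gYB h2 i hi)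
            hx'U hYBU hx' hB3 hx'1 hB1 ⟨fun h => absurd h hq, fun h => absurd h hBq⟩
          exact ⟨_, hYBU, i3b_gYB_mem h2 i hi, g, hg⟩
    · subst hr5
      apply key (Ne.symm hp5)
      · refine ⟨z, ?_, hzn⟩
        calc z ^ 5 = z * z ^ 4 := by ring
          _ = z := by rw [hz4, mul_one]
      · intro x' hx'U hx' hns'
        have hx'1 : x' ≠ 1 := by
          rintro rfl
          exact hns' 1 (by rw [Units.val_one, one_smul])
        obtain ⟨h55, h51⟩ := urep_gY5_facts h2 i hi
        obtain ⟨g, hg⟩ := gl_conj_of_pow_five_unitary hF hord x' (i5b_gY5 h2 i hi) hx'U hY5U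
          hx' h55 hx'1 h51
        exact ⟨_, hY5U, i5b_gY5_mem h2 i hi, g, hg⟩

end Cfsg.Agent.S6001
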