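import Cfsg.Statements.S6002
import Cfsg.Agent.Lib.Helper81.Q4Defs
import Cfsg.Agent.Lib.Helper81.Q4Glue
import Cfsg.Agent.Lib.Helper13.Q4B1
import Cfsg.Agent.Lib.Helper13.Q4A3
import Cfsg.Agent.Lib.Helper13.Q4A5
import Cfsg.Agent.Lib.Helper25.Q4A3GT
import Cfsg.Agent.Lib.Helper59.Q4A1
import Cfsg.Agent.Lib.Helper59.Q4A2E
import Cfsg.Agent.Lib.Helper59.Q4P5
import Cfsg.Agent.Lib.Helper55.Q4A2
import Cfsg.Agent.Lib.Helper2.Q4A3F
import Cfsg.Agent.Lib.Helper27.Q4A4
import Cfsg.Agent.Lib.Helper21.Q4A1M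
import Cfsg.Agent.Lib.Helper21.Q4I5A
import Cfsg.Agent.Lib.Helper21.Q4I5C
import Cfsg.Agent.Lib.Helper2.Q4I5S
import Cfsg.Agent.Lib.Helper80.Q4O3
import Cfsg.Agent.Lib.Helper80.Q4O5
import Cfsg.Agent.Lib.Helper80.Q4OT
import Cfsg.Agent.Lib.Helper80.Q4O7
import Cfsg.Agent.Lib.Helper82.Q4I2A
import Cfsg.Agent.Lib.Helper53.Q4I2B

set_option autoImplicit false
open scoped MatrixGroups
open Cfsg
open Cfsg.Agent.Lib.Helper81

namespace Cfsg.Agent.S6002

/-- Elements of prime order of PSp_4(p), p odd, and the normalizer of an extraspecial 2-group of order 2⁵ of minus type. Here `T = PSp_4(F)` for the field `F` with `p` elements, `p` an odd prime, realised through the matrices preserving the standard alternating form `f`; `R` is an absolutely irreducible subgroup of `T` (it preserves `f`) that is a 2-group of symplectic type of exponent 4, order 2⁵ and centre of order 2, of minus type (no elementary abelian subgroup of order 2³), and `H` is the subgroup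 of `T` normalizing `R` — a subgroup of type 2^{1+4}.O₄⁻(2) (maximality is not assumed). Ω is the set of cosets of `H` in `T`, so an element of `T` of prime order `r` (`x ∈ T` with `x^r` scalar, `x` not scalar) fixes a point of Ω exactly when some `T`-conjugate of `x` normalizes `R`. Let `r` be a prime dividing the index of `H`. Then every element of `T` of order `r` fixes a point of Ω if and only if `r = 2`, or `r = 5` and `p` has multiplicative order 4 modulo 5. -/
theorem result {F : Type*} [Field F] [Fintype F] {p : ℕ} [Fact p.Prime] [CharP F p] (hF : Fintype.card F = p) (hodd : Odd p)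
    (R : Subgroup (GL (Fin 2 ⊕ Fin 2) F)) (hRs : Cfsg.Geo.IsSymplecticTypeGroup 2 R) (hRi : Cfsg.Geo.ActsAbsolutelyIrreducibly (Cfsg.Geo.matrixSet R))
    (hRf : R ≤ Cfsg.spGL 2 F) (hR5 : Nat.card R = 2 ^ 5) (hRZ : Nat.card (Subgroup.center R) = 2) (hRm : Cfsg.Geo.IsOfMinusType 2 R)
    (r : ℕ) [Fact r.Prime]
    (hΩ : r ∣ (Cfsg.Geo.subgroupNormalizer R).relIndex (Cfsg.spGL 2 F)) :
    (∀ x ∈ Cfsg.spGL 2 F, (∃ z : F, ((x ^ r : GL (Fin 2 ⊕ Fin 2) F) : Matrix (Fin 2 ⊕ Fin 2) (Fin 2 ⊕ Fin 2) F) = z • (1 : Matrix (Fin 2 ⊕ Fin 2) (Fin 2 ⊕ Fin 2) F)) →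
      (∀ z : F, (x : Matrix (Fin 2 ⊕ Fin 2) (Fin 2 ⊕ Fin 2) F) ≠ z • (1 : Matrix (Fin 2 ⊕ Fin 2) (Fin 2 ⊕ Fin 2) F)) →
      ∃ g ∈ Cfsg.spGL 2 F, g⁻¹ * x * g ∈ Cfsg.Geo.subgroupNormalizer R) ↔ (r = 2 ∨ (r = 5 ∧ orderOf (p : ZMod 5) = 4)) := by
  classical
  have hr : r.Prime := Fact.out
  have h2 : (2 : F) ≠ 0 := Q4.glue_two_ne_zero p hodd
  have hR : Q4.MinusLike R := Q4.minusLike_of_data h2 R hRs hRi hRf hR5 hRZ hRm
  obtain ⟨e, he⟩ := Q4.exists_frame h2 R hR
  have hRN : R ≤ Cfsg.Geo.subgroupNormalizer R := Subgroup.le_normalizer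
  constructor
  · -- only if
    intro hall
    by_contra hcon
    push Not at hcon
    obtain ⟨hr2, hr5⟩ := hcon
    -- a bad element
    have hbad : ∃ x : GL (Fin 2 ⊕ Fin 2) F, x ∈ Cfsg.spGL 2 F ∧ x ^ r = 1 ∧ ¬ Q4.IsScalar x ∧
        ∀ g : GL (Fin 2 ⊕ Fin 2) F, g⁻¹ * x * g ∉ Cfsg.Geo.subgroupNormalizer R := by
      have hNT : ∀ (v φ : Q4.I4 → F) (y : GL Q4.I4 F), v ≠ 0 → φ ≠ 0 → φ ⬝ᵥ v = 0 →
          (y : Matrix Q4.I4 Q4.I4 F) = 1 + Matrix.vecMulVec v φ →
          y ∉ Cfsg.Geo.subgroupNormalizer R :=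
        fun v φ y hv hφ hvφ hy => Q4.transvection_not_mem h2 R hR v φ hv hφ hvφ y hy
      by_cases h3 : r = 3
      · subst h3
        by_cases hp3 : p = 3
        · subst hp3
          exact Q4.exists_bad_transvection 3 (Cfsg.Geo.subgroupNormalizer R) hNT
        · have h3F : (3 : F) ≠ 0 := by
            intro h
            have h1 : ((3 : ℕ) : F) = 0 := by exact_mod_cast h
            exact hp3 ((Q4.glue_prime_eq_zero_iff p 3 Nat.prime_three).mp h1)
          exact Q4.exists_bad_three h3F (Cfsg.Geo.subgroupNormalizer R)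
            (fun y hy hy3 => Q4.tt_eq_four_of_pow_three h2 R hR
              (fun y hy h3 => Q4.exists_fixed_involution h2 R hR e he y hy h3) y hy hy3)
      by_cases h5 : r = 5
      · subst h5
        have hord : orderOf (p : ZMod 5) ≠ 4 := hr5 rfl
        by_cases hp5 : p = 5
        · subst hp5
          exact Q4.exists_bad_transvection 5 (Cfsg.Geo.subgroupNormalizer R) hNT
        · have h5F : (5 : F) ≠ 0 := by
            intro h
            have h1 : ((5 : ℕ) : F) = 0 := by exact_mod_cast h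
            exact hp5 ((Q4.glue_prime_eq_zero_iff p 5 Nat.prime_five).mp h1)
          obtain ⟨u, hu⟩ := (Q4.five_facts hF hodd).2 hord hp5
          exact Q4.exists_bad_five h2 h5F u hu (Cfsg.Geo.subgroupNormalizer R)
            (fun y hy => Q4.tt_mem h2 R hR y hy)
      · have hr7 : 7 ≤ r := by
          by_contra hlt
          push Not at hlt
          have h2' := hr.two_le
          interval_cases r
          · exact hr2 rfl
          · exact h3 rfl
          · exact absurd hr (by decide)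
          · exact h5 rfl
          · exact absurd hr (by decide)
        have hdvd : r ∣ Nat.card (Cfsg.spGL 2 F) := hΩ.trans (Subgroup.relIndex_dvd_card _ _)
        exact Q4.exists_bad_large (Cfsg.Geo.subgroupNormalizer R) r hr hr2
          (fun y hy hyr => Q4.scalar_of_pow_prime h2 R hR r hr hr7 y hy hyr) hdvd
    obtain ⟨x, hxS, hxr, hxs, hxN⟩ := hbad
    have h1 : ∃ z : F, ((x ^ r : GL (Fin 2 ⊕ Fin 2) F) : Matrix (Fin 2 ⊕ Fin 2) (Fin 2 ⊕ Fin 2) F) =
        z • (1 : Matrix (Fin 2 ⊕ Fin 2) (Fin 2 ⊕ Fin 2) F) := ⟨1, by rw [hxr]; simp⟩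
    have h2' : ∀ z : F, (x : Matrix (Fin 2 ⊕ Fin 2) (Fin 2 ⊕ Fin 2) F) ≠
        z • (1 : Matrix (Fin 2 ⊕ Fin 2) (Fin 2 ⊕ Fin 2) F) := fun z hz => hxs ⟨z, hz⟩
    obtain ⟨g, -, hg⟩ := hall x hxS h1 h2'
    exact hxN g hg
  · -- if
    rintro (rfl | ⟨rfl, hord⟩)
    · -- r = 2
      intro x hxS ⟨z, hz⟩ hxs
      have hx2S : x ^ 2 ∈ Cfsg.spGL 2 F := Subgroup.pow_mem _ hxS 2
      have hzz : z * z = 1 := Q4.glue_scalar_sq (x ^ 2) hx2S z hz
      have hxns : ¬ Q4.IsScalar x := fun ⟨c, hc⟩ => hxs c hc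
      have he0S : e 0 ∈ Cfsg.spGL 2 F := hR.symp (he.mem 0)
      have he1S : e 1 ∈ Cfsg.spGL 2 F := hR.symp (he.mem 1)
      have h01 : (0 : Fin 5) ≠ 1 := by decide
      rcases Q4.glue_sq_eq_one_cases z hzz with rfl | rfl
      · -- x * x = 1
        have hxx : x * x = 1 := by
          apply Units.ext
          rw [← pow_two, hz, one_smul]; rfl
        have hee : e 0 * e 0 = 1 := by
          apply Units.ext
          rw [Units.val_mul, he.sq 0]; rfl
        have hens : ¬ Q4.IsScalar (e 0) :=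
          Q4.glue_not_scalar_of_anti h2 (e 0) (e 1) (he.anti 0 1 h01)
        obtain ⟨g, hgS, hg⟩ := Q4.conj_of_sq_eq_one h2 x (e 0) hxS he0S hxx hee hxns hens
        exact ⟨g, hgS, hg ▸ hRN (he.mem 0)⟩
      · -- x * x = -1
        have hxx : (x : Matrix (Fin 2 ⊕ Fin 2) (Fin 2 ⊕ Fin 2) F) *
            (x : Matrix (Fin 2 ⊕ Fin 2) (Fin 2 ⊕ Fin 2) F) = -1 := by
          have := hz
          rw [pow_two, Units.val_mul] at this
          rw [this]; simp
        have hss : ((e 0 * e 1 : GL Q4.I4 F) : Matrix Q4.I4 Q4.I4 F) *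
            ((e 0 * e 1 : GL Q4.I4 F) : Matrix Q4.I4 Q4.I4 F) = -1 := by
          rw [Units.val_mul]
          have ha := he.anti 0 1 h01
          have h0 := he.sq 0
          have h1 := he.sq 1
          calc ((e 0 : GL Q4.I4 F) : Matrix Q4.I4 Q4.I4 F) * (e 1 : GL Q4.I4 F) *
                (((e 0 : GL Q4.I4 F) : Matrix Q4.I4 Q4.I4 F) * (e 1 : GL Q4.I4 F))
              = ((e 0 : GL Q4.I4 F) : Matrix Q4.I4 Q4.I4 F) *
                  (((e 1 : GL Q4.I4 F) : Matrix Q4.I4 Q4.I4 F) * (e 0 : GL Q4.I4 F)) *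
                  (e 1 : GL Q4.I4 F) := by simp only [Matrix.mul_assoc]
            _ = -1 := by
                have ha' : ((e 1 : GL Q4.I4 F) : Matrix Q4.I4 Q4.I4 F) * (e 0 : GL Q4.I4 F) =
                    -(((e 0 : GL Q4.I4 F) : Matrix Q4.I4 Q4.I4 F) * (e 1 : GL Q4.I4 F)) := by
                  rw [ha, neg_neg]
                rw [ha', Matrix.mul_neg, Matrix.neg_mul, ← Matrix.mul_assoc, h0, Matrix.one_mul, h1]
        have hsS : e 0 * e 1 ∈ Cfsg.spGL 2 F := Subgroup.mul_mem _ he0S he1S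
        obtain ⟨g, hgS, hg⟩ := Q4.conj_of_sq_eq_neg_one h2 x (e 0 * e 1) hxS hsS hxx hss
        exact ⟨g, hgS, hg ▸ hRN (Subgroup.mul_mem _ (he.mem 0) (he.mem 1))⟩
    · -- r = 5, ord = 4
      have hirr := (Q4.five_facts hF hodd).1 hord
      obtain ⟨y1, hy1N, hy1S, hy15, hy11⟩ := Q4.exists_order_five h2 R hR e he
      have hzy : Subgroup.zpowers y1 ≤ Cfsg.Geo.subgroupNormalizer R :=
        (Subgroup.zpowers_le).mpr hy1N
      intro x hxS ⟨z, hz⟩ hxs
      have hx5S : x ^ 5 ∈ Cfsg.spGL 2 F := Subgroup.pow_mem _ hxS 5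
      have hzz : z * z = 1 := Q4.glue_scalar_sq (x ^ 5) hx5S z hz
      rcases Q4.glue_sq_eq_one_cases z hzz with rfl | rfl
      · have hx5 : x ^ 5 = 1 := by
          apply Units.ext
          rw [hz, one_smul]; rfl
        obtain ⟨g, hgS, hg⟩ := Q4.i5s_of_commute (fun a b ha ha1 hb hab => Q4.mem_zpowers_of_commute hirr a b ha ha1 hb hab) (Cfsg.spGL 2 F) x y1 hxS hy1S
          hx5 hy15 hy11
        exact ⟨g, hgS, hzy hg⟩
      · obtain ⟨g0, hg0R, hg0⟩ := hR.negone
        have hcomm : ∀ w : GL Q4.I4 F, g0 * w = w * g0 := Q4.glue_neg_one_comm g0 hg0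
        have hg0sq : g0 * g0 = 1 := by
          apply Units.ext
          rw [Units.val_mul, hg0]; simp
        have hx5 : (g0 * x) ^ 5 = 1 := by
          have hc : Commute g0 x := hcomm x
          rw [hc.mul_pow]
          have h1 : g0 ^ 5 = g0 := by
            have : g0 ^ 5 = (g0 * g0) * (g0 * g0) * g0 := by
              simp only [pow_succ, pow_zero, one_mul, mul_assoc]
            rw [this, hg0sq, one_mul, one_mul]
          have h2 : x ^ 5 = g0 := by
            apply Units.ext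
            rw [hz, hg0]; simp
          rw [h1, h2, hg0sq]
        have hg0S : g0 ∈ Cfsg.spGL 2 F := hR.symp hg0R
        obtain ⟨g, hgS, hg⟩ := Q4.i5s_of_commute (fun a b ha ha1 hb hab => Q4.mem_zpowers_of_commute hirr a b ha ha1 hb hab) (Cfsg.spGL 2 F) (g0 * x) y1
          (Subgroup.mul_mem _ hg0S hxS) hy1S hx5 hy15 hy11
        refine ⟨g, hgS, ?_⟩
        have h3 : g⁻¹ * x * g = g0 * (g⁻¹ * (g0 * x) * g) := by
          have e1 : g⁻¹ * (g0 * x) * g = g0 * (g⁻¹ * x * g) := by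
            rw [← mul_assoc g⁻¹ g0 x, ← hcomm g⁻¹, mul_assoc g0, mul_assoc g0]
          rw [e1, ← mul_assoc, hg0sq, one_mul]
        rw [h3]
        exact Subgroup.mul_mem _ (hRN hg0R) (hzy hg)

end Cfsg.Agent.S6002
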